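import Mathlib

/-! Stability-group style lemmas for coprime action (helper4). -/

namespace Cfsg.Agent.Lib.Helper4.Stability

variable {G : Type*} [Group G]

/-- if `a` commutes with `y = x a x⁻¹ a⁻¹`, and `y ^ m = 1` with `m` coprime to the order of `a`,
then `x` and `a` commute. -/
lemma commute_of_commute_commutator (a x : G) (hy : Commute a (x * a * x⁻¹ * a⁻¹)) (m : ℕ)
    (hm : (x * a * x⁻¹ * a⁻¹) ^ m = 1) (hcop : (orderOf a).Coprime m) : x * a = a * x := by
  have hconj : x * a * x⁻¹ = (x * a * x⁻¹ * a⁻¹) * a := by group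
  have hpow : (x * a * x⁻¹) ^ orderOf a = 1 := by
    rw [conj_pow, pow_orderOf_eq_one]; group
  rw [hconj, hy.symm.mul_pow, pow_orderOf_eq_one, mul_one] at hpow
  have h1 : orderOf (x * a * x⁻¹ * a⁻¹) ∣ orderOf a := orderOf_dvd_of_pow_eq_one hpow
  have h2 : orderOf (x * a * x⁻¹ * a⁻¹) ∣ m := orderOf_dvd_of_pow_eq_one hm
  have h3 : orderOf (x * a * x⁻¹ * a⁻¹) = 1 := Nat.eq_one_of_dvd_coprimes hcop h1 h2
  rw [orderOf_eq_one_iff] at h3
  have e : x * a = (x * a * x⁻¹ * a⁻¹) * (a * x) := by group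
  rw [e, h3, one_mul]

/-- same with the membership of the commutator in a finite subgroup `K` centralized by `a` -/
lemma commute_of_commutator_mem [Finite G] (K : Subgroup G) (a x : G)
    (ha : a ∈ Subgroup.centralizer (K : Set G)) (hxa : x * a * x⁻¹ * a⁻¹ ∈ K)
    (hcop : (orderOf a).Coprime (Nat.card K)) : x * a = a * x := by
  apply commute_of_commute_commutator a x _ (Nat.card K) _ hcop
  · exact (Subgroup.mem_centralizer_iff.mp ha _ hxa).symm
  · have := pow_card_eq_one' (G := K) (x := ⟨_, hxa⟩)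
    exact congrArg Subtype.val this

end Cfsg.Agent.Lib.Helper4.Stability
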