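import Mathlib
import Cfsg.Agent.Lib.Helper4.Stability
import Cfsg.Agent.H1.Cores

/-! Finite nilpotent groups: elements of coprime order commute; centres of Sylow subgroups are
central (helper4). -/

namespace Cfsg.Agent.Lib.Helper4.Nilpotent

open Cfsg.Agent.Lib.Helper4.Stability

/-- In a finite nilpotent group, elements of coprime orders commute. -/
theorem commute_of_coprime_orderOf (G : Type*) [Group G] [hG : Group.IsNilpotent G] [Finite G]
    (g h : G) (hc : (orderOf g).Coprime (orderOf h)) : g * h = h * g := by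
  revert g h
  have key : Finite G → ∀ g h : G, (orderOf g).Coprime (orderOf h) → g * h = h * g := by
    refine Group.nilpotent_center_quotient_ind
      (P := fun G _ _ => Finite G → ∀ g h : G, (orderOf g).Coprime (orderOf h) → g * h = h * g)
      G ?_ ?_
    · intro G _ _ _ g h _
      exact Subsingleton.elim _ _
    · intro G _ _ ih hfin g h hc
      have hq : (QuotientGroup.mk g : G ⧸ Subgroup.center G) * QuotientGroup.mk h =
          QuotientGroup.mk h * QuotientGroup.mk g := by
        apply ih inferInstance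
        exact Nat.Coprime.coprime_dvd_left
          (orderOf_map_dvd (QuotientGroup.mk' (Subgroup.center G)) g)
          (Nat.Coprime.coprime_dvd_right
            (orderOf_map_dvd (QuotientGroup.mk' (Subgroup.center G)) h) hc)
      -- the commutator is central
      have hz : g * h * g⁻¹ * h⁻¹ ∈ Subgroup.center G := by
        rw [← QuotientGroup.eq_one_iff]
        have e : ((g * h * g⁻¹ * h⁻¹ : G) : G ⧸ Subgroup.center G) =
            (QuotientGroup.mk g * QuotientGroup.mk h) * (QuotientGroup.mk g)⁻¹ *
              (QuotientGroup.mk h)⁻¹ := by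
          simp
        rw [e, hq]; group
      have hcomm : ∀ y : G, y * (g * h * g⁻¹ * h⁻¹) = (g * h * g⁻¹ * h⁻¹) * y := by
        intro y
        exact ((Subgroup.mem_center_iff.mp hz) y)
      -- its `orderOf g`-th power is trivial
      have hpow : (g * h * g⁻¹ * h⁻¹) ^ orderOf g = 1 := by
        have e1 : g = (g * h * g⁻¹ * h⁻¹) * (h * g * h⁻¹) := by group
        have hcm : Commute (g * h * g⁻¹ * h⁻¹) (h * g * h⁻¹) := (hcomm _).symm
        have e2 : ((g * h * g⁻¹ * h⁻¹) * (h * g * h⁻¹)) ^ orderOf g =
            (g * h * g⁻¹ * h⁻¹) ^ orderOf g * (h * g * h⁻¹) ^ orderOf g := hcm.mul_pow _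
        rw [← e1, pow_orderOf_eq_one, conj_pow, pow_orderOf_eq_one] at e2
        simpa using e2.symm
      exact commute_of_commute_commutator h g (hcomm h) (orderOf g) hpow hc.symm
  exact key inferInstance

/-- In a finite nilpotent group, an element of `p`-power order lies in every Sylow `p`-subgroup. -/
theorem mem_sylow_of_pow_eq_one {H : Type*} [Group H] [Group.IsNilpotent H] [Finite H]
    {p : ℕ} [Fact p.Prime] (P : Sylow p H) (h : H) (k : ℕ) (hk : h ^ p ^ k = 1) :
    h ∈ (P : Subgroup H) := by
  have hz : IsPGroup p (Subgroup.zpowers h) := by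
    rintro ⟨y, hy⟩
    obtain ⟨m, rfl⟩ := Subgroup.mem_zpowers_iff.mp hy
    refine ⟨k, Subtype.ext ?_⟩
    show (h ^ m) ^ p ^ k = 1
    rw [← zpow_natCast, ← zpow_mul, mul_comm, zpow_mul, zpow_natCast, hk, one_zpow]
  obtain ⟨Q, hQ⟩ := hz.exists_le_sylow
  have hPQ : Q = P := by
    obtain ⟨g, rfl⟩ := MulAction.exists_smul_eq H P Q
    exact Sylow.smul_eq_of_normal
  rw [← hPQ]
  exact hQ (Subgroup.mem_zpowers h)

/-- In a finite nilpotent group the centre of a Sylow subgroup is central. -/
theorem mem_center_of_mem_center_sylow {H : Type*} [Group H] [Group.IsNilpotent H] [Finite H]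
    {p : ℕ} [Fact p.Prime] (P : Sylow p H) (z : H) (hz : z ∈ (P : Subgroup H))
    (hzc : ∀ x ∈ (P : Subgroup H), x * z = z * x) : z ∈ Subgroup.center H := by
  have htop : Subgroup.centralizer ({z} : Set H) = ⊤ := by
    apply Cfsg.Agent.H1.eq_top_of_forall_sylow_le
    intro q hq
    obtain ⟨Q⟩ : Nonempty (Sylow q H) := inferInstance
    refine ⟨Q, ?_⟩
    intro x hx
    rw [Subgroup.mem_centralizer_singleton_iff]
    by_cases hqp : q = p
    · subst hqp
      have : Q = P := by
        obtain ⟨g, rfl⟩ := MulAction.exists_smul_eq H P Q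
        exact Sylow.smul_eq_of_normal
      rw [this] at hx
      exact hzc x hx
    · obtain ⟨i, hi⟩ := (IsPGroup.iff_orderOf.mp Q.isPGroup') ⟨x, hx⟩
      obtain ⟨j, hj⟩ := (IsPGroup.iff_orderOf.mp P.isPGroup') ⟨z, hz⟩
      rw [Subgroup.orderOf_mk] at hi hj
      apply commute_of_coprime_orderOf H
      rw [hi, hj]
      exact Nat.Coprime.pow _ _ ((Nat.coprime_primes hq.out Fact.out).mpr hqp)
  rw [Subgroup.mem_center_iff]
  intro y
  have : y ∈ Subgroup.centralizer ({z} : Set H) := by rw [htop]; trivial
  exact Subgroup.mem_centralizer_singleton_iff.mp this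

end Cfsg.Agent.Lib.Helper4.Nilpotent
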