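import Mathlib

/-! `p`-groups acting in characteristic `p`: fixed vectors; Sylow `p`-subgroups of transitive
groups of `p`-power degree are transitive (helper4). -/

namespace Cfsg.Agent.Lib.Helper4.PGroupRep

/-- auxiliary version with a given `ZMod p`-module structure -/
theorem exists_fixed_vector_aux {P : Type*} [Group P] [Finite P] {p : ℕ} [hp : Fact p.Prime]
    (hP : IsPGroup p P) {K : Type*} [Field K] {V : Type*} [AddCommGroup V]
    [Module K V] [Module (ZMod p) V] (hpV : ∀ x : V, p • x = 0)
    (ρ : Representation K P V) (w : V) (hw : w ≠ 0) :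
    ∃ v : V, v ≠ 0 ∧ (∀ g, ρ g v = v) ∧
      v ∈ AddSubgroup.closure (Set.range fun g : P => ρ g w) := by
  let X : Set V := Set.range fun g : P => ρ g w
  let S : Submodule (ZMod p) V := Submodule.span (ZMod p) X
  have hXfin : X.Finite := Set.finite_range _
  have hMF : Module.Finite (ZMod p) S := Module.Finite.span_of_finite (ZMod p) hXfin
  have hSfin : Finite S := Module.finite_of_finite (ZMod p)
  have hinv : ∀ g : P, ∀ s ∈ S, ρ g s ∈ S := by
    intro g s hs
    refine Submodule.span_induction (p := fun s _ => ρ g s ∈ S) ?_ ?_ ?_ ?_ hs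
    · rintro _ ⟨h, rfl⟩
      apply Submodule.subset_span
      exact ⟨g * h, by simp [map_mul]⟩
    · simp
    · intro x y _ _ hx hy
      rw [map_add]; exact S.add_mem hx hy
    · intro c x _ hx
      rw [ZMod.map_smul (ρ g) c x]
      exact S.smul_mem c hx
  letI : MulAction P S :=
    { smul := fun g s => ⟨ρ g s, hinv g s s.2⟩
      one_smul := by
        intro s
        apply Subtype.ext
        show ρ 1 (s : V) = s
        rw [map_one, Module.End.one_apply]
      mul_smul := by
        intro g h s
        apply Subtype.ext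
        show ρ (g * h) (s : V) = ρ g (ρ h s)
        rw [map_mul, Module.End.mul_apply] }
  have h0 : (0 : S) ∈ MulAction.fixedPoints P S := by
    intro g
    apply Subtype.ext
    show ρ g (0 : V) = 0
    exact map_zero _
  have hwS : w ∈ S := by
    apply Submodule.subset_span
    exact ⟨1, by simp⟩
  have hcard : p ∣ Nat.card S := by
    have h1 : addOrderOf (⟨w, hwS⟩ : S) ∣ p := by
      apply addOrderOf_dvd_of_nsmul_eq_zero
      apply Subtype.ext
      show p • w = 0
      exact hpV w
    have h2 : addOrderOf (⟨w, hwS⟩ : S) ≠ 1 := by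
      intro h
      rw [AddMonoid.addOrderOf_eq_one_iff] at h
      exact hw (congrArg Subtype.val h)
    have h3 : addOrderOf (⟨w, hwS⟩ : S) = p := by
      rcases (Nat.dvd_prime hp.out).mp h1 with h | h
      · exact absurd h h2
      · exact h
    have h4 := addOrderOf_dvd_natCard (⟨w, hwS⟩ : S)
    rwa [h3] at h4
  obtain ⟨b, hb, hb0⟩ := hP.exists_fixed_point_of_prime_dvd_card_of_fixed_point S hcard h0
  refine ⟨(b : V), ?_, ?_, ?_⟩
  · intro h
    exact hb0 (Subtype.ext h.symm)
  · intro g
    exact congrArg Subtype.val (hb g)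
  · have hle : S ≤ AddSubgroup.toZModSubmodule p (AddSubgroup.closure X) := by
      apply Submodule.span_le.mpr
      intro x hx
      exact AddSubgroup.subset_closure hx
    exact hle b.2

/-- A `p`-group acting linearly in characteristic `p` fixes a non-zero vector in the additive
subgroup generated by the orbit of any non-zero vector. -/
theorem exists_fixed_vector {P : Type*} [Group P] [Finite P] {p : ℕ} [hp : Fact p.Prime]
    (hP : IsPGroup p P) {K : Type*} [Field K] [CharP K p] {V : Type*} [AddCommGroup V]
    [Module K V] (ρ : Representation K P V) (w : V) (hw : w ≠ 0) :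
    ∃ v : V, v ≠ 0 ∧ (∀ g, ρ g v = v) ∧
      v ∈ AddSubgroup.closure (Set.range fun g : P => ρ g w) := by
  have hpV : ∀ x : V, p • x = 0 := by
    intro x
    rw [← Nat.cast_smul_eq_nsmul K, CharP.cast_eq_zero, zero_smul]
  exact @exists_fixed_vector_aux P _ _ p hp hP K _ V _ _ (AddCommGroup.zmodModule hpV) hpV ρ w hw

/-- A Sylow `p`-subgroup of a transitive group of degree `p ^ f` is transitive. -/
theorem sylow_isPretransitive {G Ω : Type*} [Group G] [Finite G] [MulAction G Ω] [Fintype Ω]
    [MulAction.IsPretransitive G Ω] {p f : ℕ} [hp : Fact p.Prime]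
    (hcard : Fintype.card Ω = p ^ f) (P : Sylow p G) :
    MulAction.IsPretransitive (P : Subgroup G) Ω := by
  have hne : Nonempty Ω := by
    rw [← Fintype.card_pos_iff, hcard]
    exact pow_pos hp.out.pos f
  obtain ⟨a⟩ := hne
  set Ga := MulAction.stabilizer G a with hGa
  have hGaidx : Ga.index = p ^ f := by
    rw [MulAction.index_stabilizer_of_transitive, Nat.card_eq_fintype_card, hcard]
  -- the orbit of `a` under `P`
  have hstab : MulAction.stabilizer (P : Subgroup G) a = Ga.subgroupOf (P : Subgroup G) := by
    ext g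
    rw [MulAction.mem_stabilizer_iff, Subgroup.mem_subgroupOf, MulAction.mem_stabilizer_iff]
    rfl
  have horb : (MulAction.orbit (P : Subgroup G) a).ncard = Ga.relIndex (P : Subgroup G) := by
    rw [← MulAction.index_stabilizer, hstab]; rfl
  have h1 : ((P : Subgroup G) ⊓ Ga).index = Ga.relIndex (P : Subgroup G) * (P : Subgroup G).index := by
    rw [← Subgroup.inf_relIndex_left, Subgroup.relIndex_mul_index inf_le_left]
  have h2 : ((P : Subgroup G) ⊓ Ga).index = (P : Subgroup G).relIndex Ga * Ga.index := by
    rw [← Subgroup.inf_relIndex_right, Subgroup.relIndex_mul_index inf_le_right]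
  have hcop : (p ^ f).Coprime (P : Subgroup G).index :=
    Nat.Coprime.pow_left _ ((Nat.Prime.coprime_iff_not_dvd hp.out).mpr P.not_dvd_index)
  have hdvd : p ^ f ∣ Ga.relIndex (P : Subgroup G) := by
    have : p ^ f ∣ Ga.relIndex (P : Subgroup G) * (P : Subgroup G).index := by
      rw [← h1, h2, hGaidx]; exact Dvd.intro_left _ rfl
    exact hcop.dvd_of_dvd_mul_right this
  have hpos : 0 < Ga.relIndex (P : Subgroup G) := by
    apply Nat.pos_of_ne_zero
    intro h0
    rw [h0, zero_mul] at h1
    exact Subgroup.index_ne_zero_of_finite h1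
  have hge : Fintype.card Ω ≤ (MulAction.orbit (P : Subgroup G) a).ncard := by
    rw [horb, hcard]; exact Nat.le_of_dvd hpos hdvd
  have huniv : MulAction.orbit (P : Subgroup G) a = Set.univ := by
    apply Set.eq_of_subset_of_ncard_le (Set.subset_univ _)
    rw [Set.ncard_univ, Nat.card_eq_fintype_card]
    exact hge
  exact (MulAction.isPretransitive_iff_orbit_eq_univ a).mpr huniv

end Cfsg.Agent.Lib.Helper4.PGroupRep
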