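import Mathlib
import Cfsg.Prelude.Def_PLocal
import Cfsg.Agent.S0651
import Cfsg.Agent.H9.Cores
import Cfsg.Agent.H1.Card
import Cfsg.Agent.Lib.Lead.Conj
import Cfsg.Agent.Lib.Lead.StronglyEmbedded

/-!
# Glauberman's ZJ-theorem for a family of abelian subgroups with the replacement property

`fam good P` is the set of the `good` subgroups of `P` of largest order, `zj good P` their
intersection.  If `good` is a property of abelian subgroups invariant under automorphisms and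
closed under Glauberman replacement, then for odd `p`, in a group `G` with `C_G(O_p(G)) ≤ O_p(G)`
acting `p`-stably on its normal `p`-subgroups, `zj good S` is characteristic in `G` for a Sylow
`p`-subgroup `S`.
-/

set_option autoImplicit false
open scoped commutatorElement

namespace Cfsg.Agent.Lib.Helper4.ZJ

open Cfsg.Agent.Lib.Lead.Conj

variable {G : Type*} [Group G]

/-- the `good` subgroups of `P` of largest order -/
def fam (good : Subgroup G → Prop) (P : Subgroup G) : Set (Subgroup G) :=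
  {A | A ≤ P ∧ good A ∧ ∀ B : Subgroup G, B ≤ P → good B → Nat.card B ≤ Nat.card A}

/-- the intersection of the `good` subgroups of `P` of largest order -/
def zj (good : Subgroup G → Prop) (P : Subgroup G) : Subgroup G := sInf (fam good P)

/-- the properties of `good` that are used -/
structure GoodProp (good : Subgroup G → Prop) : Prop where
  ab : ∀ A, good A → IsMulCommutative A
  map : ∀ (φ : G ≃* G) (A : Subgroup G), good A → good (A.map φ.toMonoidHom)
  bot : good ⊥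
  repl : ∀ A T : Subgroup G, good A → IsMulCommutative T → Nat.card T = Nat.card A →
    Monoid.exponent T ∣ Monoid.exponent A → good T

theorem mem_fam {good : Subgroup G → Prop} {P A : Subgroup G} :
    A ∈ fam good P ↔
      (A ≤ P ∧ good A ∧ ∀ B : Subgroup G, B ≤ P → good B → Nat.card B ≤ Nat.card A) :=
  Iff.rfl

theorem card_map_equiv (φ : G ≃* G) (A : Subgroup G) :
    Nat.card ↥(A.map φ.toMonoidHom) = Nat.card A :=
  (Nat.card_congr (A.equivMapOfInjective φ.toMonoidHom φ.injective).toEquiv).symm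

theorem fam_nonempty [Finite G] {good : Subgroup G → Prop} (hg : GoodProp good) (P : Subgroup G) :
    (fam good P).Nonempty := by
  haveI : Nonempty {B : Subgroup G // B ≤ P ∧ good B} := ⟨⟨⊥, bot_le, hg.bot⟩⟩
  obtain ⟨⟨A, hAP, hAg⟩, hmax⟩ :=
    Finite.exists_max (fun B : {B : Subgroup G // B ≤ P ∧ good B} => Nat.card B.1)
  exact ⟨A, mem_fam.mpr ⟨hAP, hAg, fun B hB hBg => hmax ⟨B, hB, hBg⟩⟩⟩

theorem zj_le {good : Subgroup G → Prop} {P A : Subgroup G} (hA : A ∈ fam good P) :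
    zj good P ≤ A :=
  sInf_le hA

theorem zj_le_self [Finite G] {good : Subgroup G → Prop} (hg : GoodProp good) (P : Subgroup G) :
    zj good P ≤ P := by
  obtain ⟨A, hA⟩ := fam_nonempty hg P
  exact (zj_le hA).trans (mem_fam.mp hA).1

theorem zj_comm [Finite G] {good : Subgroup G → Prop} (hg : GoodProp good) (P : Subgroup G) :
    ∀ x ∈ zj good P, ∀ y ∈ zj good P, x * y = y * x := by
  obtain ⟨A, hA⟩ := fam_nonempty hg P
  have hab := hg.ab A (mem_fam.mp hA).2.1
  intro x hx y hy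
  have h1 := hab.is_comm.comm ⟨x, zj_le hA hx⟩ ⟨y, zj_le hA hy⟩
  have h2 : x * y = y * x := congrArg Subtype.val h1
  exact h2

theorem comap_mem_fam {good : Subgroup G → Prop} (hg : GoodProp good) {P : Subgroup G}
    (ψ : G ≃* G) (hψ : P.map ψ.toMonoidHom = P) {A : Subgroup G} (hA : A ∈ fam good P) :
    A.comap ψ.toMonoidHom ∈ fam good P := by
  obtain ⟨hAP, hAg, hmax⟩ := mem_fam.mp hA
  have hPc : P.comap ψ.toMonoidHom = P := by
    have h1 := Subgroup.comap_map_eq_self_of_injective (f := ψ.toMonoidHom) ψ.injective P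
    rw [hψ] at h1
    exact h1
  have hAc : A.comap ψ.toMonoidHom = A.map ψ.symm.toMonoidHom :=
    Subgroup.comap_equiv_eq_map_symm' ψ A
  refine mem_fam.mpr ⟨(Subgroup.comap_mono hAP).trans hPc.le, ?_, ?_⟩
  · rw [hAc]; exact hg.map ψ.symm A hAg
  · intro B hB hBg
    have h1 : B.map ψ.toMonoidHom ≤ P := (Subgroup.map_mono hB).trans hψ.le
    have h2 := hmax _ h1 (hg.map ψ B hBg)
    rw [card_map_equiv] at h2
    rw [hAc, card_map_equiv]
    exact h2

theorem zj_map_mem {good : Subgroup G → Prop} (hg : GoodProp good) {P : Subgroup G}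
    (ψ : G ≃* G) (hψ : P.map ψ.toMonoidHom = P) {x : G} (hx : x ∈ zj good P) :
    ψ x ∈ zj good P := by
  unfold zj at hx ⊢
  rw [Subgroup.mem_sInf] at hx ⊢
  intro A hA
  exact Subgroup.mem_comap.mp (hx _ (comap_mem_fam hg ψ hψ hA))

theorem map_conj_eq_of_mem_normalizer {P : Subgroup G} {n : G}
    (hn : n ∈ Subgroup.normalizer (P : Set G)) : P.map (MulAut.conj n).toMonoidHom = P := by
  ext x
  rw [mem_map_conj]
  have h := Subgroup.mem_set_normalizer_iff.mp hn (n⁻¹ * x * n)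
  have e : n * (n⁻¹ * x * n) * n⁻¹ = x := by group
  rw [e] at h
  exact h

theorem zj_conj_mem {good : Subgroup G → Prop} (hg : GoodProp good) {P : Subgroup G} {n : G}
    (hn : n ∈ Subgroup.normalizer (P : Set G)) {x : G} (hx : x ∈ zj good P) :
    n * x * n⁻¹ ∈ zj good P :=
  zj_map_mem hg (MulAut.conj n) (map_conj_eq_of_mem_normalizer hn) hx

theorem fam_subset {good : Subgroup G → Prop} {P R A₁ : Subgroup G} (hRP : R ≤ P)
    (hA₁ : A₁ ∈ fam good P) (hA₁R : A₁ ≤ R) : fam good R ⊆ fam good P := by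
  intro A hA
  obtain ⟨hAR, hAg, hmax⟩ := mem_fam.mp hA
  obtain ⟨_, hA₁g, hmax₁⟩ := mem_fam.mp hA₁
  refine mem_fam.mpr ⟨hAR.trans hRP, hAg, fun B hB hBg => ?_⟩
  exact (hmax₁ B hB hBg).trans (hmax A₁ hA₁R hA₁g)

theorem mem_fam_of_le {good : Subgroup G → Prop} {P R A₁ : Subgroup G} (hRP : R ≤ P)
    (hA₁ : A₁ ∈ fam good P) (hA₁R : A₁ ≤ R) : A₁ ∈ fam good R := by
  obtain ⟨_, hA₁g, hmax₁⟩ := mem_fam.mp hA₁
  exact mem_fam.mpr ⟨hA₁R, hA₁g, fun B hB hBg => hmax₁ B (hB.trans hRP) hBg⟩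

theorem nc_induction (X : Set G) (P : G → Prop) (hmem : ∀ x ∈ X, ∀ g : G, P (g * x * g⁻¹))
    (hone : P 1) (hmul : ∀ u v, P u → P v → P (u * v)) (hinv : ∀ u, P u → P u⁻¹) :
    ∀ u ∈ Subgroup.normalClosure X, P u := by
  intro u hu
  unfold Subgroup.normalClosure at hu
  induction hu using Subgroup.closure_induction with
  | mem y hy =>
    rw [Group.mem_conjugatesOfSet_iff] at hy
    obtain ⟨x, hx, hxy⟩ := hy
    rw [isConj_iff] at hxy
    obtain ⟨c, rfl⟩ := hxy
    exact hmem x hx c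
  | one => exact hone
  | mul a b _ _ iha ihb => exact hmul a b iha ihb
  | inv a _ iha => exact hinv a iha

theorem not_dvd_index_inf_normal [Finite G] {p : ℕ} (S L : Subgroup G) [L.Normal]
    (hS : ¬ p ∣ S.index) : ¬ p ∣ ((S ⊓ L).subgroupOf L).index := by
  have hLn : S ≤ Subgroup.normalizer (L : Set G) := by
    rw [Subgroup.normalizer_eq_top]; exact le_top
  have h1 := Cfsg.Agent.H1.card_sup_mul_card_inf S L hLn
  have h2 : Nat.card L = (S ⊓ L).relIndex L * Nat.card ↥(S ⊓ L) :=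
    Cfsg.Agent.H1.card_eq_relIndex_mul_card inf_le_right
  have h3 : Nat.card ↥(S ⊔ L) = S.relIndex (S ⊔ L) * Nat.card S :=
    Cfsg.Agent.H1.card_eq_relIndex_mul_card le_sup_left
  have hSpos : 0 < Nat.card S := Nat.card_pos
  have hRpos : 0 < Nat.card ↥(S ⊓ L) := Nat.card_pos
  have h4 : S.relIndex (S ⊔ L) = (S ⊓ L).relIndex L := by
    rw [h3, h2] at h1
    have h5 : S.relIndex (S ⊔ L) * (Nat.card S * Nat.card ↥(S ⊓ L)) =
        (S ⊓ L).relIndex L * (Nat.card S * Nat.card ↥(S ⊓ L)) := by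
      calc S.relIndex (S ⊔ L) * (Nat.card S * Nat.card ↥(S ⊓ L))
          = S.relIndex (S ⊔ L) * Nat.card S * Nat.card ↥(S ⊓ L) := by ring
        _ = Nat.card S * ((S ⊓ L).relIndex L * Nat.card ↥(S ⊓ L)) := h1
        _ = (S ⊓ L).relIndex L * (Nat.card S * Nat.card ↥(S ⊓ L)) := by ring
    exact Nat.eq_of_mul_eq_mul_right (Nat.mul_pos hSpos hRpos) h5
  have h6 : S.relIndex (S ⊔ L) ∣ S.index := Subgroup.relIndex_dvd_index_of_le le_sup_left
  intro hdvd
  apply hS
  have h7 : ((S ⊓ L).subgroupOf L).index = (S ⊓ L).relIndex L := rfl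
  rw [h7, ← h4] at hdvd
  exact hdvd.trans h6

theorem commutator_lt_of_pgroup [Finite G] {p : ℕ} [Fact p.Prime] (B : Subgroup G)
    (hB : IsPGroup p B) (hne : B ≠ ⊥) : ⁅B, B⁆ < B := by
  haveI : Group.IsNilpotent B := hB.isNilpotent
  haveI : Nontrivial B := (Subgroup.nontrivial_iff_ne_bot B).mpr hne
  have h1 := Group.IsSolvable.commutator_lt_top_of_nontrivial ↥B
  rw [← B.range_subtype, MonoidHom.range_eq_map, ← Subgroup.map_commutator,
    Subgroup.map_subtype_lt_map_subtype]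
  exact h1

/-- transport of the iterated replacement theorem to a `p`-subgroup `S` of `G` -/
theorem repl_sub [Finite G] {p : ℕ} [Fact p.Prime] (hp : p ≠ 2) {good : Subgroup G → Prop}
    (hg : GoodProp good) (S : Subgroup G) (hS : IsPGroup p S) (B : Subgroup G) [B.Normal]
    (hBS : B ≤ S) (A : Subgroup G) (hA : A ∈ fam good S) (hBA : ⁅B, B⁆ ≤ A) (hnBA : ¬ B ≤ A) :
    ∃ A₁ ∈ fam good S, ¬ B ≤ A₁ ∧ ∀ b ∈ B, ∀ a ∈ A₁, b * a * b⁻¹ ∈ A₁ := by
  obtain ⟨hAS, hAg, hAmax⟩ := mem_fam.mp hA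
  have hinj : Function.Injective S.subtype := S.subtype_injective
  have hcardmap : ∀ T₀ : Subgroup ↥S, Nat.card ↥(T₀.map S.subtype) = Nat.card T₀ := fun T₀ =>
    (Nat.card_congr (T₀.equivMapOfInjective S.subtype hinj).toEquiv).symm
  have hFD : ∀ A₀ ∈ {A₀ : Subgroup ↥S | A₀.map S.subtype ∈ fam good S},
      A₀ ≤ (⊤ : Subgroup ↥S) := fun _ _ => le_top
  have hFab : ∀ A₀ ∈ {A₀ : Subgroup ↥S | A₀.map S.subtype ∈ fam good S},
      IsMulCommutative A₀ := by
    intro A₀ hA₀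
    have hA₀' : A₀.map S.subtype ∈ fam good S := hA₀
    have hab := hg.ab _ (mem_fam.mp hA₀').2.1
    refine ⟨⟨fun x y => ?_⟩⟩
    have hx : ((x : ↥S) : G) ∈ A₀.map S.subtype := Subgroup.mem_map_of_mem S.subtype x.2
    have hy : ((y : ↥S) : G) ∈ A₀.map S.subtype := Subgroup.mem_map_of_mem S.subtype y.2
    have h1 := hab.is_comm.comm ⟨_, hx⟩ ⟨_, hy⟩
    have h2 : ((x : ↥S) : G) * ((y : ↥S) : G) = ((y : ↥S) : G) * ((x : ↥S) : G) :=
      congrArg Subtype.val h1
    exact Subtype.ext (Subtype.ext h2)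
  have hFcl : ∀ A₀ ∈ {A₀ : Subgroup ↥S | A₀.map S.subtype ∈ fam good S}, ∀ T₀ : Subgroup ↥S,
      T₀ ≤ (⊤ : Subgroup ↥S) → IsMulCommutative T₀ → Nat.card T₀ = Nat.card A₀ →
      Monoid.exponent T₀ ∣ Monoid.exponent A₀ →
      T₀ ∈ {A₀ : Subgroup ↥S | A₀.map S.subtype ∈ fam good S} := by
    intro A₀ hA₀ T₀ _ hT₀ab hcard hexp
    have hA₀' : A₀.map S.subtype ∈ fam good S := hA₀
    obtain ⟨_, hA₀g, hA₀max⟩ := mem_fam.mp hA₀'
    haveI : IsMulCommutative T₀ := hT₀ab
    have hexpT : Monoid.exponent ↥(T₀.map S.subtype) = Monoid.exponent T₀ :=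
      (Monoid.exponent_eq_of_mulEquiv (T₀.equivMapOfInjective S.subtype hinj)).symm
    have hexpA : Monoid.exponent ↥(A₀.map S.subtype) = Monoid.exponent A₀ :=
      (Monoid.exponent_eq_of_mulEquiv (A₀.equivMapOfInjective S.subtype hinj)).symm
    have hgT : good (T₀.map S.subtype) := by
      apply hg.repl (A₀.map S.subtype) (T₀.map S.subtype) hA₀g inferInstance
      · rw [hcardmap T₀, hcardmap A₀, hcard]
      · rw [hexpT, hexpA]; exact hexp
    show T₀.map S.subtype ∈ fam good S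
    refine mem_fam.mpr ⟨Subgroup.map_subtype_le T₀, hgT, fun B' hB' hB'g => ?_⟩
    rw [hcardmap T₀, hcard, ← hcardmap A₀]
    exact hA₀max B' hB' hB'g
  have hU : ∃ U ∈ {A₀ : Subgroup ↥S | A₀.map S.subtype ∈ fam good S},
      ⁅B.subgroupOf S, B.subgroupOf S⁆ ≤ U ∧ ¬ B.subgroupOf S ≤ U := by
    refine ⟨A.subgroupOf S, ?_, ?_, ?_⟩
    · show (A.subgroupOf S).map S.subtype ∈ fam good S
      rw [Subgroup.map_subgroupOf_eq_of_le hAS]
      exact hA
    · rw [Subgroup.commutator_le]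
      intro x hx y hy
      rw [Subgroup.mem_subgroupOf] at hx hy ⊢
      have h1 : ((⁅x, y⁆ : ↥S) : G) = ⁅(x : G), (y : G)⁆ := rfl
      rw [h1]
      exact hBA (Subgroup.commutator_mem_commutator hx hy)
    · intro h
      apply hnBA
      intro b hb
      have h1 : (⟨b, hBS hb⟩ : ↥S) ∈ B.subgroupOf S := Subgroup.mem_subgroupOf.mpr hb
      exact Subgroup.mem_subgroupOf.mp (h h1)
  obtain ⟨A₀, hA₀F, -, hnB₀, hnorm⟩ :=
    Cfsg.Agent.S0651.replacement_iter hS hp ⊤ _ hFD hFab hFcl (B.subgroupOf S) hU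
  have hA₀' : A₀.map S.subtype ∈ fam good S := hA₀F
  refine ⟨A₀.map S.subtype, hA₀', ?_, ?_⟩
  · intro h
    apply hnB₀
    intro x hx
    have hxB : (x : G) ∈ B := Subgroup.mem_subgroupOf.mp hx
    obtain ⟨y, hy, hyx⟩ := h hxB
    have hyx' : y = x := Subtype.ext hyx
    rw [← hyx']; exact hy
  · intro b hb a ha
    obtain ⟨y, hy, rfl⟩ := ha
    have hb' : (⟨b, hBS hb⟩ : ↥S) ∈ B.subgroupOf S := Subgroup.mem_subgroupOf.mpr hb
    have h1 := (Subgroup.mem_set_normalizer_iff.mp (hnorm hb') y).mp hy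
    exact Subgroup.mem_map_of_mem S.subtype h1

/-- the last step of the proof: a normal subgroup between `Z(J(S)) ∩ B` and `A₁` -/
theorem final_step [Finite G] {p : ℕ} [Fact p.Prime] (S : Sylow p G)
    {good : Subgroup G → Prop} (hg : GoodProp good) (B : Subgroup G) [hBn : B.Normal]
    (hstB : Cfsg.IsPStableOn p B) (A₁ : Subgroup G)
    (hA₁ : A₁ ∈ fam good (S : Subgroup G)) (hnorm : ∀ b ∈ B, ∀ a ∈ A₁, b * a * b⁻¹ ∈ A₁) :
    ∃ Y : Subgroup G, Y.Normal ∧ zj good (S : Subgroup G) ⊓ B ≤ Y ∧ Y ≤ A₁ := by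
  obtain ⟨hA₁S, hA₁g, hA₁max⟩ := mem_fam.mp hA₁
  have hA₁ab := hg.ab A₁ hA₁g
  have hcommA₁ : ∀ a ∈ A₁, ∀ c ∈ A₁, a * c = c * a := by
    intro a ha c hc
    have h1 := hA₁ab.is_comm.comm ⟨a, ha⟩ ⟨c, hc⟩
    have h2 : a * c = c * a := congrArg Subtype.val h1
    exact h2
  haveI hPn : (Cfsg.pCore p (G ⧸ Subgroup.centralizer (B : Set G))).Normal :=
    Cfsg.Agent.H9.pCore_normal p _
  have hPp : IsPGroup p ↥(Cfsg.pCore p (G ⧸ Subgroup.centralizer (B : Set G))) :=
    Cfsg.Agent.H9.pCore_isPGroup p _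
  obtain ⟨L, hL⟩ : ∃ L, L = (Cfsg.pCore p (G ⧸ Subgroup.centralizer (B : Set G))).comap
      (QuotientGroup.mk' (Subgroup.centralizer (B : Set G))) := ⟨_, rfl⟩
  haveI hLn : L.Normal := by rw [hL]; exact hPn.comap _
  have hmemL : ∀ l, l ∈ L ↔ (QuotientGroup.mk l : G ⧸ Subgroup.centralizer (B : Set G)) ∈
      Cfsg.pCore p (G ⧸ Subgroup.centralizer (B : Set G)) := by
    intro l; rw [hL]; exact Iff.rfl
  have hCL : Subgroup.centralizer (B : Set G) ≤ L := by
    intro c hc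
    rw [hmemL]
    have h1 : (QuotientGroup.mk c : G ⧸ Subgroup.centralizer (B : Set G)) = 1 :=
      (QuotientGroup.eq_one_iff c).mpr hc
    rw [h1]; exact Subgroup.one_mem _
  -- `A₁ ≤ L` by `p`-stability
  have hA₁L : A₁ ≤ L := by
    intro a ha
    rw [hmemL]
    apply hstB
    have hza : Subgroup.zpowers a ≤ A₁ := Subgroup.zpowers_le.mpr ha
    have h1 : ⁅B, Subgroup.zpowers a⁆ ≤ A₁ := by
      rw [Subgroup.commutator_le]
      intro u hu w hw
      have hwA := hza hw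
      have h2 := hnorm u hu w hwA
      rw [commutatorElement_def]
      exact A₁.mul_mem h2 (A₁.inv_mem hwA)
    have hAA : ⁅A₁, A₁⁆ = ⊥ := by
      rw [Subgroup.commutator_eq_bot_iff_le_centralizer]
      intro a' ha'
      rw [Subgroup.mem_centralizer_iff]
      intro h hh
      exact hcommA₁ h hh a' ha'
    rw [eq_bot_iff, ← hAA]
    exact Subgroup.commutator_mono h1 hza
  obtain ⟨R, hR⟩ : ∃ R, R = (S : Subgroup G) ⊓ L := ⟨_, rfl⟩
  have hRS : R ≤ (S : Subgroup G) := by rw [hR]; exact inf_le_left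
  have hA₁R : A₁ ≤ R := by rw [hR]; exact le_inf hA₁S hA₁L
  have hsub : fam good R ⊆ fam good (S : Subgroup G) := fam_subset hRS hA₁ hA₁R
  have hA₁famR : A₁ ∈ fam good R := mem_fam_of_le hRS hA₁ hA₁R
  have hZle : zj good (S : Subgroup G) ≤ zj good R := sInf_le_sInf hsub
  have hRN : R ≤ Subgroup.normalizer (R : Set G) := Subgroup.le_normalizer
  -- invariance
  have hinvN : ∀ n ∈ Subgroup.normalizer (R : Set G), ∀ y ∈ zj good R ⊓ B,
      n * y * n⁻¹ ∈ zj good R ⊓ B := by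
    intro n hn y hy
    obtain ⟨hyZ, hyB⟩ := Subgroup.mem_inf.mp hy
    exact Subgroup.mem_inf.mpr ⟨zj_conj_mem hg hn hyZ, hBn.conj_mem y hyB n⟩
  have hinvC : ∀ c ∈ Subgroup.centralizer (B : Set G), ∀ y ∈ zj good R ⊓ B,
      c * y * c⁻¹ ∈ zj good R ⊓ B := by
    intro c hc y hy
    have hyB := (Subgroup.mem_inf.mp hy).2
    have h1 : y * c = c * y := Subgroup.mem_centralizer_iff.mp hc y hyB
    rw [← h1, mul_inv_cancel_right]
    exact hy
  have hLRC : ∀ l ∈ L, ∃ r ∈ R, ∃ c ∈ Subgroup.centralizer (B : Set G), l = r * c := by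
    intro l hl
    have h1 := (hmemL l).mp hl
    have hSbar : Cfsg.pCore p (G ⧸ Subgroup.centralizer (B : Set G)) ≤
        ((S.mapSurjective (QuotientGroup.mk'_surjective (Subgroup.centralizer (B : Set G))) :
          Sylow p (G ⧸ Subgroup.centralizer (B : Set G))) :
            Subgroup (G ⧸ Subgroup.centralizer (B : Set G))) :=
      hPp.le_sylow_of_normal _
    have h2 : (QuotientGroup.mk l : G ⧸ Subgroup.centralizer (B : Set G)) ∈
        (S : Subgroup G).map (QuotientGroup.mk' (Subgroup.centralizer (B : Set G))) := hSbar h1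
    obtain ⟨s, hs, hsl⟩ := h2
    have h3 : s⁻¹ * l ∈ Subgroup.centralizer (B : Set G) := QuotientGroup.eq.mp hsl
    have hsL : s ∈ L := by
      have h4 : l * (s⁻¹ * l)⁻¹ ∈ L := L.mul_mem hl (L.inv_mem (hCL h3))
      have e : l * (s⁻¹ * l)⁻¹ = s := by group
      rw [e] at h4; exact h4
    refine ⟨s, ?_, s⁻¹ * l, h3, by group⟩
    rw [hR]; exact Subgroup.mem_inf.mpr ⟨hs, hsL⟩
  have hfrat : ∀ g : G, ∃ n ∈ Subgroup.normalizer (R : Set G), ∃ l ∈ L, n * l = g := by
    have hnd : ¬ p ∣ (((S : Subgroup G) ⊓ L).subgroupOf L).index :=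
      not_dvd_index_inf_normal (S : Subgroup G) L S.not_dvd_index
    have hRp : IsPGroup p ↥(((S : Subgroup G) ⊓ L).subgroupOf L) :=
      (S.isPGroup'.to_le inf_le_left).comap_subtype
    have hF := Sylow.normalizer_sup_eq_top (hRp.toSylow hnd)
    have hF' : Subgroup.normalizer (R : Set G) ⊔ L = ⊤ := by
      have e : ((((S : Subgroup G) ⊓ L).subgroupOf L).map L.subtype) = R := by
        rw [hR]; exact Subgroup.map_subgroupOf_eq_of_le inf_le_right
      rw [← e]; exact hF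
    intro g
    have hg' : g ∈ Subgroup.normalizer (R : Set G) ⊔ L := by rw [hF']; exact Subgroup.mem_top g
    exact Subgroup.mem_sup_of_normal_right.mp hg'
  refine ⟨zj good R ⊓ B, ⟨fun y hy g => ?_⟩, inf_le_inf_right B hZle,
    inf_le_left.trans (zj_le hA₁famR)⟩
  obtain ⟨n, hn, l, hl, rfl⟩ := hfrat g
  obtain ⟨r, hr, c, hc, rfl⟩ := hLRC l hl
  have h1 := hinvC c hc y hy
  have h2 := hinvN r (hRN hr) _ h1
  have h3 := hinvN n hn _ h2
  have e : n * (r * c) * y * (n * (r * c))⁻¹ = n * (r * (c * y * c⁻¹) * r⁻¹) * n⁻¹ := by group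
  rw [e]; exact h3

theorem zj_inf_normal_aux [Finite G] {p : ℕ} [Fact p.Prime] (hp : p ≠ 2)
    (hst : ∀ (P : Subgroup G) [P.Normal], IsPGroup p P → Cfsg.IsPStableOn p P) (S : Sylow p G)
    {good : Subgroup G → Prop} (hg : GoodProp good) (Z : Subgroup G)
    (hZ : Z = zj good (S : Subgroup G)) :
    ∀ n : ℕ, ∀ B : Subgroup G, B.Normal → IsPGroup p B → Nat.card B = n →
      ∀ g : G, ∀ x ∈ Z ⊓ B, g * x * g⁻¹ ∈ Z ⊓ B := by
  have hSle : (S : Subgroup G) ≤ Subgroup.normalizer ((S : Subgroup G) : Set G) :=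
    Subgroup.le_normalizer
  have hZS : ∀ s ∈ (S : Subgroup G), ∀ z ∈ Z, s * z * s⁻¹ ∈ Z := by
    intro s hs z hz
    rw [hZ] at hz ⊢
    exact zj_conj_mem hg (hSle hs) hz
  intro n
  induction n using Nat.strong_induction_on with
  | _ n ih =>
    intro B hBn hBp hcard g x hx
    haveI := hBn
    have hBS : B ≤ (S : Subgroup G) := hBp.le_sylow_of_normal S
    by_cases hB1 : Subgroup.normalClosure ((Z ⊓ B : Subgroup G) : Set G) = B
    · by_cases hBbot : B = ⊥
      · have hx1 : x = 1 := by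
          have h1 := (Subgroup.mem_inf.mp hx).2
          rw [hBbot] at h1
          exact Subgroup.mem_bot.mp h1
        rw [hx1, mul_one, mul_inv_cancel]
        exact Subgroup.one_mem _
      · have hB'lt : ⁅B, B⁆ < B := commutator_lt_of_pgroup B hBp hBbot
        have hB'le : ⁅B, B⁆ ≤ B := hB'lt.le
        have hY : ∀ g : G, ∀ y ∈ Z ⊓ ⁅B, B⁆, g * y * g⁻¹ ∈ Z ⊓ ⁅B, B⁆ :=
          ih _ (by rw [← hcard]; exact Cfsg.Agent.S0651.card_lt_of_lt hB'lt) ⁅B, B⁆ inferInstance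
            (hBp.to_le hB'le) rfl
        have hXB : ∀ x ∈ Z ⊓ B, ∀ b ∈ B, ⁅x, b⁆ ∈ Z ⊓ ⁅B, B⁆ := by
          intro x hx b hb
          obtain ⟨hxZ, hxB⟩ := Subgroup.mem_inf.mp hx
          refine Subgroup.mem_inf.mpr ⟨?_, Subgroup.commutator_mem_commutator hxB hb⟩
          have h1 : b * x⁻¹ * b⁻¹ ∈ Z := hZS b (hBS hb) x⁻¹ (Z.inv_mem hxZ)
          have e : ⁅x, b⁆ = x * (b * x⁻¹ * b⁻¹) := by rw [commutatorElement_def]; group
          rw [e]; exact Z.mul_mem hxZ h1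
        have hmem : ∀ x ∈ ((Z ⊓ B : Subgroup G) : Set G), ∀ g : G, ∀ b ∈ B,
            ⁅g * x * g⁻¹, b⁆ ∈ Z ⊓ ⁅B, B⁆ := by
          intro x hx g b hb
          have hb' : g⁻¹ * b * g⁻¹⁻¹ ∈ B := hBn.conj_mem b hb g⁻¹
          have h1 := hXB x (SetLike.mem_coe.mp hx) _ hb'
          have h2 := hY g _ h1
          have e : ⁅g * x * g⁻¹, b⁆ = g * ⁅x, g⁻¹ * b * g⁻¹⁻¹⁆ * g⁻¹ := by
            simp only [commutatorElement_def]; group
          rw [e]; exact h2
        have hone : ∀ b ∈ B, ⁅(1 : G), b⁆ ∈ Z ⊓ ⁅B, B⁆ := by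
          intro b _
          rw [commutatorElement_one_left]
          exact Subgroup.one_mem _
        have hmul : ∀ u v : G, (∀ b ∈ B, ⁅u, b⁆ ∈ Z ⊓ ⁅B, B⁆) → (∀ b ∈ B, ⁅v, b⁆ ∈ Z ⊓ ⁅B, B⁆) →
            ∀ b ∈ B, ⁅u * v, b⁆ ∈ Z ⊓ ⁅B, B⁆ := by
          intro u v ihu ihv b hb
          have e : ⁅u * v, b⁆ = u * ⁅v, b⁆ * u⁻¹ * ⁅u, b⁆ := by
            simp only [commutatorElement_def]; group
          rw [e]
          exact Subgroup.mul_mem _ (hY u _ (ihv b hb)) (ihu b hb)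
        have hinv : ∀ u : G, (∀ b ∈ B, ⁅u, b⁆ ∈ Z ⊓ ⁅B, B⁆) →
            ∀ b ∈ B, ⁅u⁻¹, b⁆ ∈ Z ⊓ ⁅B, B⁆ := by
          intro u ihu b hb
          have e : ⁅u⁻¹, b⁆ = u⁻¹ * ⁅u, b⁆⁻¹ * u⁻¹⁻¹ := by
            simp only [commutatorElement_def]; group
          rw [e]
          exact hY u⁻¹ _ (Subgroup.inv_mem _ (ihu b hb))
        have hBB : ∀ u ∈ B, ∀ b ∈ B, ⁅u, b⁆ ∈ Z ⊓ ⁅B, B⁆ := by
          intro u hu
          have hu' : u ∈ Subgroup.normalClosure ((Z ⊓ B : Subgroup G) : Set G) := by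
            rw [hB1]; exact hu
          exact nc_induction ((Z ⊓ B : Subgroup G) : Set G)
            (fun u => ∀ b ∈ B, ⁅u, b⁆ ∈ Z ⊓ ⁅B, B⁆) hmem hone hmul hinv u hu'
        have hB'Z : ⁅B, B⁆ ≤ Z := by
          rw [Subgroup.commutator_le]
          intro u hu b hb
          exact (Subgroup.mem_inf.mp (hBB u hu b hb)).1
        by_cases hall : ∀ A ∈ fam good (S : Subgroup G), B ≤ A
        · have hBZ : B ≤ Z := by rw [hZ]; exact le_sInf hall
          have hxB := (Subgroup.mem_inf.mp hx).2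
          have h1 : g * x * g⁻¹ ∈ B := hBn.conj_mem x hxB g
          exact Subgroup.mem_inf.mpr ⟨hBZ h1, h1⟩
        · exfalso
          push Not at hall
          obtain ⟨A, hA, hnBA⟩ := hall
          have hBA : ⁅B, B⁆ ≤ A := by
            have h1 : Z ≤ A := by rw [hZ]; exact zj_le hA
            exact hB'Z.trans h1
          obtain ⟨A₁, hA₁, hnBA₁, hnorm⟩ :=
            repl_sub hp hg (S : Subgroup G) S.isPGroup' B hBS A hA hBA hnBA
          obtain ⟨Y, hYn, hXY, hYA₁⟩ := final_step S hg B (hst B hBp) A₁ hA₁ hnorm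
          haveI := hYn
          have h1 : Subgroup.normalClosure ((Z ⊓ B : Subgroup G) : Set G) ≤ Y := by
            apply Subgroup.normalClosure_le_normal
            intro y hy
            rw [hZ] at hy
            exact hXY hy
          rw [hB1] at h1
          exact hnBA₁ (h1.trans hYA₁)
    · -- the normal closure of `Z ∩ B` is smaller than `B`
      have hle : Subgroup.normalClosure ((Z ⊓ B : Subgroup G) : Set G) ≤ B :=
        Subgroup.normalClosure_le_normal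
          (fun y hy => (Subgroup.mem_inf.mp (SetLike.mem_coe.mp hy)).2)
      have hlt : Subgroup.normalClosure ((Z ⊓ B : Subgroup G) : Set G) < B :=
        lt_of_le_of_ne hle hB1
      have hc := Cfsg.Agent.S0651.card_lt_of_lt hlt
      have hx1 : x ∈ Z ⊓ Subgroup.normalClosure ((Z ⊓ B : Subgroup G) : Set G) :=
        Subgroup.mem_inf.mpr ⟨(Subgroup.mem_inf.mp hx).1,
          Subgroup.subset_normalClosure (SetLike.mem_coe.mpr hx)⟩
      have h2 := ih _ (by rw [← hcard]; exact hc) _ Subgroup.normalClosure_normal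
        (hBp.to_le hle) rfl g x hx1
      exact Subgroup.mem_inf.mpr ⟨(Subgroup.mem_inf.mp h2).1, hle (Subgroup.mem_inf.mp h2).2⟩

theorem zj_inf_normal [Finite G] {p : ℕ} [Fact p.Prime] (hp : p ≠ 2)
    (hst : ∀ (P : Subgroup G) [P.Normal], IsPGroup p P → Cfsg.IsPStableOn p P) (S : Sylow p G)
    {good : Subgroup G → Prop} (hg : GoodProp good) (B : Subgroup G) [hBn : B.Normal]
    (hBp : IsPGroup p B) :
    ∀ g : G, ∀ x ∈ zj good (S : Subgroup G) ⊓ B, g * x * g⁻¹ ∈ zj good (S : Subgroup G) ⊓ B :=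
  zj_inf_normal_aux hp hst S hg _ rfl _ B hBn hBp rfl

/-- **Glauberman's ZJ-theorem** for the family `good`. -/
theorem zj_characteristic [Finite G] {p : ℕ} [Fact p.Prime] (hp : p ≠ 2)
    (hc : Subgroup.centralizer (Cfsg.pCore p G : Set G) ≤ Cfsg.pCore p G)
    (hst : ∀ (P : Subgroup G) [P.Normal], IsPGroup p P → Cfsg.IsPStableOn p P) (S : Sylow p G)
    {good : Subgroup G → Prop} (hg : GoodProp good) :
    (zj good (S : Subgroup G)).Characteristic := by
  haveI hQn : (Cfsg.pCore p G).Normal := Cfsg.Agent.H9.pCore_normal p G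
  have hQp : IsPGroup p ↥(Cfsg.pCore p G) := Cfsg.Agent.H9.pCore_isPGroup p G
  have hQS : Cfsg.pCore p G ≤ (S : Subgroup G) := hQp.le_sylow_of_normal S
  have hSle : (S : Subgroup G) ≤ Subgroup.normalizer ((S : Subgroup G) : Set G) :=
    Subgroup.le_normalizer
  have hZS : ∀ s ∈ (S : Subgroup G), ∀ z ∈ zj good (S : Subgroup G),
      s * z * s⁻¹ ∈ zj good (S : Subgroup G) :=
    fun s hs z hz => zj_conj_mem hg (hSle hs) hz
  have hZab := zj_comm hg (S : Subgroup G)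
  -- `Z ≤ O_p(G)`
  have hZQ : zj good (S : Subgroup G) ≤ Cfsg.pCore p G := by
    intro z hz
    have hq : ⁅⁅Cfsg.pCore p G, Subgroup.zpowers z⁆, Subgroup.zpowers z⁆ = ⊥ := by
      have hzz : Subgroup.zpowers z ≤ zj good (S : Subgroup G) := Subgroup.zpowers_le.mpr hz
      have h1 : ⁅Cfsg.pCore p G, Subgroup.zpowers z⁆ ≤ zj good (S : Subgroup G) := by
        rw [Subgroup.commutator_le]
        intro u hu w hw
        have hwZ := hzz hw
        have h2 := hZS u (hQS hu) w hwZ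
        rw [commutatorElement_def]
        exact Subgroup.mul_mem _ h2 (Subgroup.inv_mem _ hwZ)
      have hZZ : ⁅zj good (S : Subgroup G), zj good (S : Subgroup G)⁆ = ⊥ := by
        rw [Subgroup.commutator_eq_bot_iff_le_centralizer]
        intro a ha
        rw [Subgroup.mem_centralizer_iff]
        intro h hh
        exact hZab h hh a ha
      rw [eq_bot_iff, ← hZZ]
      exact Subgroup.commutator_mono h1 hzz
    have h1 := hst (Cfsg.pCore p G) hQp z hq
    haveI hPn : (Cfsg.pCore p (G ⧸ Subgroup.centralizer (Cfsg.pCore p G : Set G))).Normal :=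
      Cfsg.Agent.H9.pCore_normal p _
    have hPp := Cfsg.Agent.H9.pCore_isPGroup p (G ⧸ Subgroup.centralizer (Cfsg.pCore p G : Set G))
    obtain ⟨LQ, hLQ⟩ : ∃ LQ, LQ =
        (Cfsg.pCore p (G ⧸ Subgroup.centralizer (Cfsg.pCore p G : Set G))).comap
          (QuotientGroup.mk' (Subgroup.centralizer (Cfsg.pCore p G : Set G))) := ⟨_, rfl⟩
    haveI hLQn : LQ.Normal := by rw [hLQ]; exact hPn.comap _
    have hLQp : IsPGroup p ↥LQ := by
      intro ⟨l, hl⟩
      rw [hLQ] at hl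
      have hl' : (QuotientGroup.mk l : G ⧸ Subgroup.centralizer (Cfsg.pCore p G : Set G)) ∈
          Cfsg.pCore p (G ⧸ Subgroup.centralizer (Cfsg.pCore p G : Set G)) := hl
      obtain ⟨k, hk⟩ := hPp ⟨_, hl'⟩
      have hk' : (QuotientGroup.mk l : G ⧸ Subgroup.centralizer (Cfsg.pCore p G : Set G)) ^
          (p ^ k) = 1 := by
        have h2 := congrArg Subtype.val hk
        simpa using h2
      rw [← QuotientGroup.mk_pow, QuotientGroup.eq_one_iff] at hk'
      obtain ⟨m, hm⟩ := hQp ⟨_, hc hk'⟩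
      have hm' : (l ^ p ^ k) ^ p ^ m = 1 := by
        have h2 := congrArg Subtype.val hm
        simpa using h2
      refine ⟨k + m, Subtype.ext ?_⟩
      rw [Subgroup.coe_pow, Subgroup.coe_one, pow_add, pow_mul]
      exact hm'
    have hle : LQ ≤ Cfsg.pCore p G := Cfsg.Agent.H9.le_pCore LQ hLQp
    apply hle
    rw [hLQ]
    exact h1
  have hZn : ∀ g : G, ∀ x ∈ zj good (S : Subgroup G), g * x * g⁻¹ ∈ zj good (S : Subgroup G) := by
    intro g x hx
    have h1 := zj_inf_normal hp hst S hg (Cfsg.pCore p G) hQp g x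
      (Subgroup.mem_inf.mpr ⟨hx, hZQ hx⟩)
    exact (Subgroup.mem_inf.mp h1).1
  rw [Subgroup.characteristic_iff_map_le]
  intro φ
  rintro _ ⟨x, hx, rfl⟩
  have hφS : IsPGroup p ↥((S : Subgroup G).map φ.toMonoidHom) := S.isPGroup'.map _
  obtain ⟨m, -, hm⟩ := Cfsg.Agent.Lib.Lead.StronglyEmbedded.exists_conj_mem_sylow
    (M := ⊤) S le_top (le_top : (S : Subgroup G).map φ.toMonoidHom ≤ ⊤) hφS
  obtain ⟨ψ, hψ⟩ : ∃ ψ : G ≃* G, ψ = φ.trans (MulAut.conj m⁻¹) := ⟨_, rfl⟩
  have hψx : ∀ y, ψ y = m⁻¹ * φ y * m := by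
    intro y
    rw [hψ]
    show m⁻¹ * φ y * m⁻¹⁻¹ = m⁻¹ * φ y * m
    rw [inv_inv]
  have hψS : (S : Subgroup G).map ψ.toMonoidHom = S := by
    have hle : (S : Subgroup G).map ψ.toMonoidHom ≤ S := by
      rintro _ ⟨y, hy, rfl⟩
      show ψ y ∈ (S : Subgroup G)
      rw [hψx]
      exact hm _ (Subgroup.mem_map_of_mem _ hy)
    exact Subgroup.eq_of_le_of_card_ge hle (le_of_eq (card_map_equiv ψ _).symm)
  have h1 := zj_map_mem hg ψ hψS hx
  rw [hψx] at h1
  have h2 := hZn m _ h1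
  have e : m * (m⁻¹ * φ x * m) * m⁻¹ = φ x := by group
  rw [e] at h2
  exact h2

end Cfsg.Agent.Lib.Helper4.ZJ
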