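import Mathlib
import Cfsg.Prelude.Def_Transfer
import Cfsg.Agent.Lib.Lead.NormalPComplement
import Cfsg.Agent.H1.PStableQuot

/-!
# Normal `p`-complements of subgroups, in ambient form

`PNil p L`: the subgroup `L` of `G` has a normal `p`-complement (a subgroup `M ≤ L` normalized by `L`, of order prime
to `p` and of `p`-power index in `L`).  Transfer lemmas: subgroups, images, conjugates, `p'`-elements.
-/

set_option autoImplicit false
set_option linter.style.haveILetI false
set_option linter.unusedVariables false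
set_option linter.unusedSectionVars false

namespace Cfsg.Agent.Lib.Helper4.PNil

open Cfsg

variable {G : Type*} [Group G]

/-- `L` has a normal `p`-complement (ambient form). -/
def PNil (p : ℕ) (L : Subgroup G) : Prop :=
  ∃ M : Subgroup G, M ≤ L ∧ L ≤ Subgroup.normalizer (M : Set G) ∧ (Nat.card M).Coprime p ∧
    ∃ k : ℕ, M.relIndex L = p ^ k

theorem pnil_top_iff [Finite G] {p : ℕ} [Fact p.Prime] :
    PNil p (⊤ : Subgroup G) ↔ HasNormalPComplement p G := by
  rw [Cfsg.Agent.Lib.Lead.NormalPComplement.hasNormalPComplement_iff]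
  constructor
  · rintro ⟨M, -, hn, hc, k, hk⟩
    refine ⟨M, Subgroup.normalizer_eq_top_iff.mp (top_le_iff.mp hn), hc, k, ?_⟩
    rw [← Subgroup.relIndex_top_right]; exact hk
  · rintro ⟨M, hn, hc, k, hk⟩
    refine ⟨M, le_top, ?_, hc, k, ?_⟩
    · rw [Subgroup.normalizer_eq_top_iff.mpr hn]
    · rw [Subgroup.relIndex_top_right]; exact hk

theorem pnil_subgroupOf_iff {p : ℕ} {L L' : Subgroup G} (hL' : L' ≤ L) :
    PNil p (L'.subgroupOf L) ↔ PNil p L' := by
  constructor
  · rintro ⟨M', hM'L, hn, hc, k, hk⟩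
    refine ⟨M'.map L.subtype, ?_, ?_, ?_, k, ?_⟩
    · rintro _ ⟨m, hm, rfl⟩
      exact Subgroup.mem_subgroupOf.mp (hM'L hm)
    · intro g hg
      have h1 : (⟨g, hL' hg⟩ : ↥L) ∈ Subgroup.normalizer (M' : Set ↥L) :=
        hn (Subgroup.mem_subgroupOf.mpr hg)
      exact Subgroup.le_normalizer_map L.subtype ⟨_, h1, rfl⟩
    · rw [Subgroup.card_map_of_injective L.subtype_injective]; exact hc
    · rw [← hk, ← Subgroup.relIndex_subgroupOf hL']
      congr 1
      exact Subgroup.comap_map_eq_self_of_injective L.subtype_injective M'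
  · rintro ⟨M, hML', hn, hc, k, hk⟩
    have hML : M ≤ L := hML'.trans hL'
    refine ⟨M.subgroupOf L, ?_, ?_, ?_, k, ?_⟩
    · intro x hx
      exact Subgroup.mem_subgroupOf.mpr (hML' (Subgroup.mem_subgroupOf.mp hx))
    · intro g hg
      have h1 : (g : G) ∈ Subgroup.normalizer (M : Set G) := hn (Subgroup.mem_subgroupOf.mp hg)
      rw [Subgroup.mem_normalizer_iff] at h1 ⊢
      intro x
      rw [Subgroup.mem_subgroupOf, Subgroup.mem_subgroupOf]
      exact h1 x
    · rw [Cfsg.Agent.Lib.Helper7.card_subgroupOf_of_le hML]; exact hc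
    · rw [Subgroup.relIndex_subgroupOf hL']; exact hk

theorem pnil_top_subtype_iff {p : ℕ} (L : Subgroup G) :
    PNil p (⊤ : Subgroup ↥L) ↔ PNil p L := by
  rw [← pnil_subgroupOf_iff (le_refl L), Subgroup.subgroupOf_self]

theorem pnil_iff_hasNormalPComplement [Finite G] {p : ℕ} [Fact p.Prime] (L : Subgroup G) :
    PNil p L ↔ HasNormalPComplement p ↥L := by
  rw [← pnil_top_subtype_iff, pnil_top_iff]

theorem pnil_mono [Finite G] {p : ℕ} [Fact p.Prime] {L L' : Subgroup G} (hL' : L' ≤ L)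
    (h : PNil p L) : PNil p L' := by
  rw [pnil_iff_hasNormalPComplement] at h
  have h1 := Cfsg.Agent.Lib.Lead.NormalPComplement.hasNormalPComplement_subgroup h (L'.subgroupOf L)
  rw [← pnil_iff_hasNormalPComplement, pnil_subgroupOf_iff hL'] at h1
  exact h1

theorem pnil_map_equiv {G' : Type*} [Group G'] {p : ℕ} (φ : G ≃* G') {L : Subgroup G}
    (h : PNil p L) : PNil p (L.map φ.toMonoidHom) := by
  obtain ⟨M, hML, hn, hc, k, hk⟩ := h
  refine ⟨M.map φ.toMonoidHom, Subgroup.map_mono hML, ?_, ?_, k, ?_⟩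
  · rw [← Subgroup.map_equiv_normalizer_eq]
    exact Subgroup.map_mono hn
  · rw [Subgroup.card_map_of_injective φ.injective]; exact hc
  · rw [Subgroup.relIndex_map_map_of_injective M L φ.injective]; exact hk

theorem pnil_map [Finite G] {G' : Type*} [Group G'] {p : ℕ} [Fact p.Prime] (f : G →* G')
    {L : Subgroup G} (h : PNil p L) : PNil p (L.map f) := by
  have hp : p.Prime := Fact.out
  obtain ⟨M, hML, hn, hc, k, hk⟩ := h
  have hidx : (M.map f).relIndex (L.map f) ∣ M.relIndex L := by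
    have hs := f.subgroupMap_surjective L
    have h1 := Subgroup.index_map_dvd (M.subgroupOf L) hs
    have h2 : (M.subgroupOf L).map (f.subgroupMap L) = (M.map f).subgroupOf (L.map f) := by
      ext x
      constructor
      · rintro ⟨l, hl, rfl⟩
        rw [Subgroup.mem_subgroupOf]
        exact ⟨(l : G), Subgroup.mem_subgroupOf.mp hl, rfl⟩
      · intro hx
        rw [Subgroup.mem_subgroupOf] at hx
        obtain ⟨m, hm, hmx⟩ := hx
        exact ⟨⟨m, hML hm⟩, Subgroup.mem_subgroupOf.mpr hm, Subtype.ext hmx⟩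
    rw [h2] at h1
    exact h1
  rw [hk] at hidx
  obtain ⟨j, -, hj⟩ := (Nat.dvd_prime_pow hp).mp hidx
  refine ⟨M.map f, Subgroup.map_mono hML, ?_, ?_, j, hj⟩
  · exact (Subgroup.map_mono hn).trans (Subgroup.le_normalizer_map f)
  · have h3 : Nat.card ↥(M.map f) ∣ Nat.card ↥M :=
      Subgroup.card_dvd_of_surjective (f.subgroupMap M) (f.subgroupMap_surjective M)
    exact Nat.Coprime.coprime_dvd_left h3 hc

/-- the `p'`-elements of `L` lie in the normal `p`-complement -/
theorem mem_of_coprime [Finite G] {p : ℕ} [Fact p.Prime] {L M : Subgroup G} (hML : M ≤ L)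
    (hn : L ≤ Subgroup.normalizer (M : Set G)) {k : ℕ} (hk : M.relIndex L = p ^ k)
    {g : G} (hg : g ∈ L) (hgp : (orderOf g).Coprime p) : g ∈ M := by
  haveI : (M.subgroupOf L).Normal := (Subgroup.normal_subgroupOf_iff_le_normalizer hML).mpr hn
  have h1 := Subgroup.pow_index_mem (M.subgroupOf L) (⟨g, hg⟩ : ↥L)
  rw [Subgroup.mem_subgroupOf, Subgroup.coe_pow] at h1
  have h2 : g ^ p ^ k ∈ M := by
    have : (M.subgroupOf L).index = p ^ k := hk
    rw [this] at h1; exact h1
  have hcop : Nat.Coprime (p ^ k) (orderOf g) := (Nat.Coprime.pow_right k hgp).symm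
  obtain ⟨α, β, hαβ⟩ := (Nat.isCoprime_iff_coprime.2 hcop)
  have h5 : g = (g ^ p ^ k) ^ α := by
    have h6 : g = g ^ (α * ((p ^ k : ℕ) : ℤ) + β * ((orderOf g : ℕ) : ℤ)) := by
      rw [hαβ, zpow_one]
    conv_lhs => rw [h6]
    rw [zpow_add, mul_comm α, mul_comm β, zpow_mul, zpow_mul, zpow_natCast, zpow_natCast,
      pow_orderOf_eq_one, one_zpow, mul_one]
  rw [h5]
  exact Subgroup.zpow_mem _ h2 α

/-- in a `p`-nilpotent subgroup, `p'`-elements normalizing a `p`-subgroup centralize it -/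
theorem centralizes [Finite G] {p : ℕ} [Fact p.Prime] {L : Subgroup G} (h : PNil p L)
    {Q : Subgroup G} (hQL : Q ≤ L) (hQ : IsPGroup p Q) {g : G} (hg : g ∈ L)
    (hgQ : g ∈ Subgroup.normalizer (Q : Set G)) (hgp : (orderOf g).Coprime p) :
    g ∈ Subgroup.centralizer (Q : Set G) := by
  obtain ⟨M, hML, hn, hc, k, hk⟩ := h
  have hgM := mem_of_coprime hML hn hk hg hgp
  have hinf : M ⊓ Q = ⊥ := Cfsg.Agent.H1.inf_eq_bot_of_pgroup_coprime M Q hQ hc
  rw [Subgroup.mem_centralizer_iff]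
  intro q hq
  have h1 : g * q * g⁻¹ * q⁻¹ ∈ Q :=
    Q.mul_mem ((Subgroup.mem_normalizer_iff.mp hgQ q).mp hq) (Q.inv_mem hq)
  have h2 : g * q * g⁻¹ * q⁻¹ ∈ M := by
    have hqn : q ∈ Subgroup.normalizer (M : Set G) := hn (hQL hq)
    have h3 : q * g⁻¹ * q⁻¹ ∈ M := (Subgroup.mem_normalizer_iff.mp hqn g⁻¹).mp (M.inv_mem hgM)
    have e : g * q * g⁻¹ * q⁻¹ = g * (q * g⁻¹ * q⁻¹) := by group
    rw [e]; exact M.mul_mem hgM h3
  have h4 : g * q * g⁻¹ * q⁻¹ ∈ M ⊓ Q := ⟨h2, h1⟩
  rw [hinf, Subgroup.mem_bot] at h4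
  calc q * g = (g * q * g⁻¹ * q⁻¹)⁻¹ * (g * q) := by group
    _ = g * q := by rw [h4, inv_one, one_mul]

/-- Frobenius: a group that is not `p`-nilpotent has a non-`p`-nilpotent `p`-local subgroup `N_G(Q)` with
`1 ≠ Q ≤ P`. -/
theorem exists_bad [Finite G] {p : ℕ} [Fact p.Prime] (P : Sylow p G)
    (h : ¬ PNil p (⊤ : Subgroup G)) :
    ∃ Q : Subgroup G, Q ≤ (P : Subgroup G) ∧ Q ≠ ⊥ ∧ ¬ PNil p (Subgroup.normalizer (Q : Set G)) := by
  by_contra hcon
  push Not at hcon
  apply h
  rw [pnil_top_iff]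
  apply Cfsg.Agent.Lib.Lead.NormalPComplement.hasNormalPComplement_of_p'_centralize P
  intro Q hQP g hg hgp
  by_cases hQ : Q = ⊥
  · rw [hQ, Subgroup.mem_centralizer_iff]
    intro x hx
    have : x = 1 := Subgroup.mem_bot.mp hx
    rw [this, one_mul, mul_one]
  · exact centralizes (hcon Q hQP hQ) Subgroup.le_normalizer (P.isPGroup'.to_le hQP) hg hg hgp

/-- pulling back a normal `p`-complement along a quotient by a normal `p'`-subgroup -/
theorem pnil_top_of_quotient [Finite G] {p : ℕ} [Fact p.Prime] (M₀ : Subgroup G) [M₀.Normal]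
    (hM₀ : (Nat.card M₀).Coprime p) (h : PNil p (⊤ : Subgroup (G ⧸ M₀))) :
    PNil p (⊤ : Subgroup G) := by
  obtain ⟨M, -, hn, hc, k, hk⟩ := h
  have hMn : M.Normal := Subgroup.normalizer_eq_top_iff.mp (top_le_iff.mp hn)
  have hs := QuotientGroup.mk'_surjective M₀
  refine ⟨M.comap (QuotientGroup.mk' M₀), le_top, ?_, ?_, k, ?_⟩
  · haveI := hMn
    haveI : (M.comap (QuotientGroup.mk' M₀)).Normal := Subgroup.Normal.comap hMn _
    rw [Subgroup.normalizer_eq_top_iff.mpr this]
  · have h1 : (Subgroup.comap (QuotientGroup.mk' M₀) ⊥).relIndex (M.comap (QuotientGroup.mk' M₀))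
        = Nat.card M := by
      rw [Subgroup.relIndex_comap, Subgroup.map_comap_eq_self_of_surjective hs,
        Subgroup.relIndex_bot_left]
    have h2 : Subgroup.comap (QuotientGroup.mk' M₀) ⊥ = M₀ := by
      ext x
      rw [Subgroup.mem_comap, Subgroup.mem_bot, QuotientGroup.mk'_apply, QuotientGroup.eq_one_iff]
    rw [h2] at h1
    have h3 : M₀ ≤ M.comap (QuotientGroup.mk' M₀) := by
      intro x hx
      rw [Subgroup.mem_comap, QuotientGroup.mk'_apply, (QuotientGroup.eq_one_iff x).mpr hx]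
      exact M.one_mem
    have h4 := Subgroup.relIndex_mul_relIndex ⊥ M₀ (M.comap (QuotientGroup.mk' M₀)) bot_le h3
    rw [Subgroup.relIndex_bot_left, Subgroup.relIndex_bot_left, h1] at h4
    rw [← h4]
    exact Nat.Coprime.mul_left hM₀ hc
  · rw [Subgroup.relIndex_top_right, Subgroup.index_comap_of_surjective M hs,
      ← Subgroup.relIndex_top_right]
    exact hk

end Cfsg.Agent.Lib.Helper4.PNil
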