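import Mathlib

/-!
# Quadratic action and abelian `p'`-groups

`quad_centralizes`: let `U` be a finite elementary abelian `p`-group (`p` odd), `x` an automorphism of `U`
acting quadratically (`x` fixes `x u * u⁻¹` for all `u`) and `R` an abelian `p'`-group of automorphisms of `U`
normalized by `x`.  Then `x` centralizes `R`.  (Elementary proof by the Frobenius partition of `[R, x]⟨x⟩`.)
-/

set_option autoImplicit false

namespace Cfsg.Agent.Lib.Helper4.QuadAb

variable {U : Type*} [CommGroup U]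

/-- `x` acts quadratically on `U` -/
def Quad (x : MulAut U) : Prop := ∀ u : U, x (x u * u⁻¹) = x u * u⁻¹

theorem quad_pow {x : MulAut U} (hx : Quad x) (i : ℕ) (u : U) :
    (x ^ i) u = u * (x u * u⁻¹) ^ i := by
  obtain ⟨c, hc⟩ : ∃ c, c = x u * u⁻¹ := ⟨_, rfl⟩
  have hxc : x c = c := by rw [hc]; exact hx u
  have hxu : x u = u * c := by rw [hc, mul_comm (x u) u⁻¹, mul_inv_cancel_left]
  rw [← hc]
  induction i with
  | zero => simp
  | succ i ih =>
    rw [pow_succ', MulAut.mul_apply, ih, map_mul, map_pow, hxc, hxu, pow_succ', mul_assoc]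

theorem quad_prod {p : ℕ} (hp : p.Prime) (hp2 : p ≠ 2) (hexp : ∀ u : U, u ^ p = 1)
    {x : MulAut U} (hx : Quad x) (u : U) :
    ∏ i ∈ Finset.range p, (x ^ i) u = 1 := by
  have h1 : ∀ i ∈ Finset.range p, (x ^ i) u = u * (x u * u⁻¹) ^ i := fun i _ => quad_pow hx i u
  rw [Finset.prod_congr rfl h1, Finset.prod_mul_distrib, Finset.prod_const, Finset.card_range,
    hexp u, one_mul, Finset.prod_pow_eq_pow_sum]
  obtain ⟨k, hk⟩ : ∃ k, p - 1 = 2 * k := by
    rcases hp.eq_two_or_odd with h | h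
    · exact absurd h hp2
    · exact ⟨(p - 1) / 2, by omega⟩
  have h2 : ∑ i ∈ Finset.range p, i = p * k := by
    have h3 := Finset.sum_range_id_mul_two p
    rw [hk] at h3
    have h4 : (∑ i ∈ Finset.range p, i) * 2 = (p * k) * 2 := by rw [h3]; ring
    exact Nat.eq_of_mul_eq_mul_right (by norm_num) h4
  rw [h2, pow_mul, hexp, one_pow]

theorem quad_conj {x : MulAut U} (hx : Quad x) (s : MulAut U) : Quad (s * x * s⁻¹) := by
  intro u
  simp only [MulAut.mul_apply]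
  have h := hx (s⁻¹ u)
  have e1 : s⁻¹ (s (x (s⁻¹ u)) * u⁻¹) = x (s⁻¹ u) * (s⁻¹ u)⁻¹ := by
    rw [map_mul, map_inv, MulAut.inv_apply_self]
  rw [e1, h, map_mul, map_inv, MulAut.apply_inv_self]

theorem core [Finite U] {p : ℕ} (hp : p.Prime) (hp2 : p ≠ 2) (hexp : ∀ u : U, u ^ p = 1)
    {x : MulAut U} (hx : Quad x) (hxp : x ^ p = 1) (S : Subgroup (MulAut U))
    (hSx : ∀ s ∈ S, x * s * x⁻¹ ∈ S)
    (hcop : (Nat.card S).Coprime p) (hfix : ∀ s ∈ S, x * s * x⁻¹ = s → s = 1) :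
    ∀ s ∈ S, ∀ u : U, s u = u := by
  classical
  haveI : Finite (MulAut U) := MulEquiv.finite_left
  haveI : Fintype ↥S := Fintype.ofFinite _
  have hSxi : ∀ i : ℕ, ∀ s ∈ S, x ^ i * s * (x ^ i)⁻¹ ∈ S := by
    intro i
    induction i with
    | zero => intro s hs; simpa using hs
    | succ i ih =>
      intro s hs
      have h1 := hSx _ (ih s hs)
      have e : x ^ (i + 1) * s * (x ^ (i + 1))⁻¹ = x * (x ^ i * s * (x ^ i)⁻¹) * x⁻¹ := by
        rw [pow_succ']; group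
      rw [e]; exact h1
  have hfixi : ∀ i : ℕ, 0 < i → i < p → ∀ s ∈ S, x ^ i * s * (x ^ i)⁻¹ = s → s = 1 := by
    intro i hi0 hip s hs h
    apply hfix s hs
    have hc : Commute (x ^ i) s := by
      have h' := h
      rw [mul_inv_eq_iff_eq_mul] at h'
      exact h'
    have hcop' : Nat.Coprime i p :=
      Nat.Coprime.symm ((Nat.Prime.coprime_iff_not_dvd hp).mpr (Nat.not_dvd_of_pos_of_lt hi0 hip))
    obtain ⟨m, -, hm⟩ := Nat.exists_mul_mod_eq_one_of_coprime hcop' hp.one_lt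
    have hx1 : (x ^ i) ^ m = x := by
      rw [← pow_mul]
      conv_lhs => rw [← Nat.div_add_mod (i * m) p]
      rw [pow_add, pow_mul, hxp, one_pow, one_mul, hm, pow_one]
    have hc2 : Commute x s := by rw [← hx1]; exact hc.pow_left m
    rw [hc2.eq, mul_inv_cancel_right]
  -- the norm
  have hNm : ∀ s ∈ S, ∀ w : U, s (∏ t : ↥S, (t : MulAut U) w) = ∏ t : ↥S, (t : MulAut U) w := by
    intro s hs w
    rw [map_prod]
    have h1 := Function.Bijective.prod_comp (Group.mulLeft_bijective (⟨s, hs⟩ : ↥S))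
      (fun t : ↥S => (t : MulAut U) w)
    rw [← h1]
    apply Finset.prod_congr rfl
    intro t _
    rfl
  have hkey : ∀ i : ℕ, 0 < i → i < p → ∀ u : U,
      ∏ s : ↥S, ((s : MulAut U) * x ^ i * (s : MulAut U)⁻¹) u
        = ∏ t : ↥S, (t : MulAut U) ((x ^ i) u) := by
    intro i hi0 hip u
    let fi : ↥S → ↥S := fun s =>
      ⟨(s : MulAut U) * (x ^ i * (s : MulAut U)⁻¹ * (x ^ i)⁻¹),
        S.mul_mem s.2 (hSxi i _ (S.inv_mem s.2))⟩
    have hfi_inj : Function.Injective fi := by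
      intro s t hst
      have h : (s : MulAut U) * (x ^ i * (s : MulAut U)⁻¹ * (x ^ i)⁻¹)
          = (t : MulAut U) * (x ^ i * (t : MulAut U)⁻¹ * (x ^ i)⁻¹) := congrArg Subtype.val hst
      have h' : (t : MulAut U)⁻¹ * (s : MulAut U)
          = (x ^ i * (t : MulAut U)⁻¹ * (x ^ i)⁻¹) * (x ^ i * (s : MulAut U)⁻¹ * (x ^ i)⁻¹)⁻¹ := by
        rw [eq_mul_inv_iff_mul_eq, mul_assoc, h, inv_mul_cancel_left]
      have h2 : x ^ i * ((t : MulAut U)⁻¹ * (s : MulAut U)) * (x ^ i)⁻¹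
          = (t : MulAut U)⁻¹ * (s : MulAut U) := by
        calc x ^ i * ((t : MulAut U)⁻¹ * (s : MulAut U)) * (x ^ i)⁻¹
            = (x ^ i * (t : MulAut U)⁻¹ * (x ^ i)⁻¹) * (x ^ i * (s : MulAut U)⁻¹ * (x ^ i)⁻¹)⁻¹ := by
              group
          _ = (t : MulAut U)⁻¹ * (s : MulAut U) := h'.symm
      have h3 := hfixi i hi0 hip _ (S.mul_mem (S.inv_mem t.2) s.2) h2
      have h4 : (t : MulAut U) = (s : MulAut U) := inv_mul_eq_one.mp h3
      exact Subtype.ext h4.symm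
    have hfi_bij : Function.Bijective fi := Finite.injective_iff_bijective.mp hfi_inj
    have h1 := Function.Bijective.prod_comp hfi_bij (fun t : ↥S => (t : MulAut U) ((x ^ i) u))
    rw [← h1]
    apply Finset.prod_congr rfl
    intro s _
    have e : (s : MulAut U) * x ^ i * (s : MulAut U)⁻¹ = ((fi s : ↥S) : MulAut U) * x ^ i := by
      show _ = (s : MulAut U) * (x ^ i * (s : MulAut U)⁻¹ * (x ^ i)⁻¹) * x ^ i
      group
    rw [e, MulAut.mul_apply]
  intro s hs u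
  have hp0 : 0 < p := hp.pos
  -- the total product
  have htot : (u⁻¹) ^ Fintype.card ↥S
      = ∏ i ∈ Finset.Ico 1 p, ∏ t : ↥S, (t : MulAut U) ((x ^ i) u) := by
    have h1 : ∀ i ∈ Finset.Ico 1 p, ∏ t : ↥S, (t : MulAut U) ((x ^ i) u)
        = ∏ r : ↥S, (((r : MulAut U) * x * (r : MulAut U)⁻¹) ^ i) u := by
      intro i hi
      rw [Finset.mem_Ico] at hi
      rw [← hkey i (by omega) hi.2 u]
      apply Finset.prod_congr rfl
      intro r _
      rw [conj_pow]
    rw [Finset.prod_congr rfl h1, Finset.prod_comm]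
    have h2 : ∀ r ∈ (Finset.univ : Finset ↥S),
        ∏ i ∈ Finset.Ico 1 p, (((r : MulAut U) * x * (r : MulAut U)⁻¹) ^ i) u = u⁻¹ := by
      intro r _
      have h3 := quad_prod hp hp2 hexp (quad_conj hx (r : MulAut U)) u
      rw [Finset.range_eq_Ico, Finset.prod_eq_prod_Ico_succ_bot hp0, pow_zero, MulAut.one_apply] at h3
      exact eq_inv_of_mul_eq_one_right h3
    rw [Finset.prod_congr rfl h2, Finset.prod_const, Finset.card_univ]
  have hfixed : s ((u⁻¹) ^ Fintype.card ↥S) = (u⁻¹) ^ Fintype.card ↥S := by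
    rw [htot, map_prod]
    apply Finset.prod_congr rfl
    intro i _
    exact hNm s hs _
  rw [map_pow, map_inv] at hfixed
  have hd1 : (s u * u⁻¹) ^ Fintype.card ↥S = 1 := by
    rw [mul_pow, ← hfixed, ← mul_pow, mul_inv_cancel, one_pow]
  have hd2 : (s u * u⁻¹) ^ p = 1 := hexp _
  have hd3 : (s u * u⁻¹) ^ (Nat.gcd (Fintype.card ↥S) p) = 1 := pow_gcd_eq_one.mpr ⟨hd1, hd2⟩
  rw [← Nat.card_eq_fintype_card] at hd3
  have hg : Nat.gcd (Nat.card ↥S) p = 1 := hcop
  rw [hg, pow_one] at hd3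
  exact mul_inv_eq_one.mp hd3

/-- **Key lemma.** A quadratic automorphism `x` of a finite elementary abelian `p`-group (`p` odd) centralizes
every abelian `p'`-group of automorphisms that it normalizes. -/
theorem quad_centralizes [Finite U] {p : ℕ} (hp : p.Prime) (hp2 : p ≠ 2) (hexp : ∀ u : U, u ^ p = 1)
    (x : MulAut U) (hx : Quad x) (R : Subgroup (MulAut U)) (hRx : ∀ r ∈ R, x * r * x⁻¹ ∈ R)
    (hRab : ∀ r ∈ R, ∀ s ∈ R, r * s = s * r) (hcop : (Nat.card R).Coprime p) :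
    ∀ r ∈ R, x * r * x⁻¹ = r := by
  haveI : Finite (MulAut U) := MulEquiv.finite_left
  have hxp : x ^ p = 1 := by
    ext u
    rw [quad_pow hx, MulAut.one_apply, hexp, mul_one]
  let S : Subgroup (MulAut U) :=
    { carrier := {w | ∃ r ∈ R, w = x * r * x⁻¹ * r⁻¹}
      one_mem' := ⟨1, R.one_mem, by group⟩
      mul_mem' := by
        rintro a b ⟨r, hr, rfl⟩ ⟨s, hs, rfl⟩
        refine ⟨r * s, R.mul_mem hr hs, ?_⟩
        have h1 := hRab _ (R.inv_mem hr) _ (hRx s hs)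
        have h2 := hRab _ (R.inv_mem hr) _ (R.inv_mem hs)
        calc x * r * x⁻¹ * r⁻¹ * (x * s * x⁻¹ * s⁻¹)
            = x * r * x⁻¹ * (r⁻¹ * (x * s * x⁻¹)) * s⁻¹ := by group
          _ = x * r * x⁻¹ * ((x * s * x⁻¹) * r⁻¹) * s⁻¹ := by rw [h1]
          _ = x * r * s * x⁻¹ * (r⁻¹ * s⁻¹) := by group
          _ = x * r * s * x⁻¹ * (s⁻¹ * r⁻¹) := by rw [h2]
          _ = x * (r * s) * x⁻¹ * (r * s)⁻¹ := by group
      inv_mem' := by
        rintro a ⟨r, hr, rfl⟩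
        refine ⟨r⁻¹, R.inv_mem hr, ?_⟩
        have h1 := hRab _ hr _ (hRx _ (R.inv_mem hr))
        calc (x * r * x⁻¹ * r⁻¹)⁻¹ = r * (x * r⁻¹ * x⁻¹) := by group
          _ = (x * r⁻¹ * x⁻¹) * r := h1
          _ = x * r⁻¹ * x⁻¹ * (r⁻¹)⁻¹ := by group }
  have hSmem : ∀ w, w ∈ S ↔ ∃ r ∈ R, w = x * r * x⁻¹ * r⁻¹ := fun w => Iff.rfl
  have hSR : S ≤ R := by
    intro w hw
    obtain ⟨r, hr, rfl⟩ := (hSmem w).mp hw
    exact R.mul_mem (hRx r hr) (R.inv_mem hr)
  have hSx : ∀ s ∈ S, x * s * x⁻¹ ∈ S := by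
    intro w hw
    obtain ⟨r, hr, rfl⟩ := (hSmem w).mp hw
    exact (hSmem _).mpr ⟨x * r * x⁻¹, hRx r hr, by group⟩
  have hScop : (Nat.card S).Coprime p :=
    Nat.Coprime.coprime_dvd_left (Subgroup.card_dvd_of_le hSR) hcop
  have hfix : ∀ s ∈ S, x * s * x⁻¹ = s → s = 1 := by
    intro s hsS hxs
    obtain ⟨r, hr, hsdef⟩ := (hSmem s).mp hsS
    have hxr : x * r * x⁻¹ = s * r := by rw [hsdef]; group
    have hpow : ∀ i : ℕ, x ^ i * r * (x ^ i)⁻¹ = s ^ i * r := by
      intro i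
      induction i with
      | zero => simp
      | succ i ih =>
        calc x ^ (i + 1) * r * (x ^ (i + 1))⁻¹ = x * (x ^ i * r * (x ^ i)⁻¹) * x⁻¹ := by
              rw [pow_succ']; group
          _ = x * (s ^ i * r) * x⁻¹ := by rw [ih]
          _ = (x * s * x⁻¹) ^ i * (x * r * x⁻¹) := by rw [conj_pow]; group
          _ = s ^ i * (s * r) := by rw [hxs, hxr]
          _ = s ^ (i + 1) * r := by rw [pow_succ, mul_assoc]
    have h1 := hpow p
    rw [hxp, one_mul, inv_one, mul_one] at h1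
    have hsp : s ^ p = 1 := by
      have h2 : s ^ p * r = 1 * r := by rw [one_mul]; exact h1.symm
      exact mul_right_cancel h2
    have hsR : s ∈ R := hSR hsS
    have hsn : s ^ Nat.card R = 1 := by
      have h3 : (⟨s, hsR⟩ : ↥R) ^ Nat.card R = 1 := pow_card_eq_one'
      have h4 := congrArg Subtype.val h3
      rw [Subgroup.coe_pow, Subgroup.coe_one] at h4
      exact h4
    have h5 : s ^ (Nat.gcd (Nat.card R) p) = 1 := pow_gcd_eq_one.mpr ⟨hsn, hsp⟩
    have hg : Nat.gcd (Nat.card ↥R) p = 1 := hcop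
    rw [hg, pow_one] at h5
    exact h5
  have hcore := core hp hp2 hexp hx hxp S hSx hScop hfix
  intro r hr
  have hw : x * r * x⁻¹ * r⁻¹ ∈ S := (hSmem _).mpr ⟨r, hr, rfl⟩
  have h1 : x * r * x⁻¹ * r⁻¹ = 1 := by
    ext u
    rw [MulAut.one_apply]
    exact hcore _ hw u
  exact mul_inv_eq_one.mp h1

end Cfsg.Agent.Lib.Helper4.QuadAb
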