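import Mathlib
import Cfsg.Prelude.Def_PLocal
import Cfsg.Agent.Lib.Helper4.QuadAb
import Cfsg.Agent.H1.Cores
import Cfsg.Agent.H1.Frattini
import Cfsg.Agent.H1.PGroup
import Cfsg.Agent.S3781
import Cfsg.Agent.S0651

/-!
# `p`-stability of groups `G ⊵ K ⊵ H` with `H` a `p`-group, `K/H` an abelian `p'`-group, `G/K` a `p`-group

`isPStableOn_of_series`: for `p` odd such a group acts `p`-stably on every normal `p`-subgroup `V ≤ H`.
-/

set_option autoImplicit false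
set_option linter.style.haveILetI false
set_option linter.unusedVariables false
set_option linter.unusedSectionVars false

namespace Cfsg.Agent.Lib.Helper4.PStab

open Cfsg
open scoped commutatorElement

variable {G : Type*} [Group G]

theorem conj_pow_of_comm {s v z : G} (hz : s * v * s⁻¹ = z * v) (hsz : s * z = z * s) (j : ℕ) :
    s ^ j * v * (s ^ j)⁻¹ = z ^ j * v := by
  induction j with
  | zero => simp
  | succ j ih =>
    have hszj : s * z ^ j = z ^ j * s := ((show Commute s z from hsz).pow_right j).eq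
    calc s ^ (j + 1) * v * (s ^ (j + 1))⁻¹ = s * (s ^ j * v * (s ^ j)⁻¹) * s⁻¹ := by
          rw [pow_succ']; group
      _ = s * (z ^ j * v) * s⁻¹ := by rw [ih]
      _ = (s * z ^ j) * v * s⁻¹ := by group
      _ = z ^ j * (s * v * s⁻¹) := by rw [hszj]; group
      _ = z ^ (j + 1) * v := by rw [hz, pow_succ, mul_assoc]

theorem quad_comm {V : Subgroup G} {a : G}
    (hq : ⁅⁅V, Subgroup.zpowers a⁆, Subgroup.zpowers a⁆ = ⊥) {v : G} (hv : v ∈ V) :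
    a * (a * v * a⁻¹ * v⁻¹) = (a * v * a⁻¹ * v⁻¹) * a := by
  have h1 : ⁅v, a⁆ ∈ ⁅V, Subgroup.zpowers a⁆ :=
    Subgroup.commutator_mem_commutator hv (Subgroup.mem_zpowers a)
  have h2 : ⁅⁅v, a⁆, a⁆ ∈ ⁅⁅V, Subgroup.zpowers a⁆, Subgroup.zpowers a⁆ :=
    Subgroup.commutator_mem_commutator h1 (Subgroup.mem_zpowers a)
  rw [hq, Subgroup.mem_bot] at h2
  have h3 : Commute ⁅v, a⁆ a := commutatorElement_eq_one_iff_commute.mp h2
  have h4 : a * v * a⁻¹ * v⁻¹ = ⁅v, a⁆⁻¹ := by rw [commutatorElement_def]; group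
  rw [h4]
  exact (h3.inv_left.symm).eq

theorem pow_card_mem_centralizer [Finite G] {V : Subgroup G} [hVn : V.Normal] {a : G}
    (hq : ⁅⁅V, Subgroup.zpowers a⁆, Subgroup.zpowers a⁆ = ⊥) :
    a ^ Nat.card V ∈ Subgroup.centralizer (V : Set G) := by
  rw [Subgroup.mem_centralizer_iff]
  intro v hv
  have hz : a * v * a⁻¹ = (a * v * a⁻¹ * v⁻¹) * v := by group
  have hzV : a * v * a⁻¹ * v⁻¹ ∈ V := V.mul_mem (hVn.conj_mem v hv a) (V.inv_mem hv)
  have h1 := conj_pow_of_comm hz (quad_comm hq hv) (Nat.card V)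
  have h2 : (a * v * a⁻¹ * v⁻¹) ^ Nat.card V = 1 := by
    have h3 : (⟨_, hzV⟩ : ↥V) ^ Nat.card V = 1 := pow_card_eq_one'
    have h4 := congrArg Subtype.val h3
    rw [Subgroup.coe_pow, Subgroup.coe_one] at h4
    exact h4
  rw [h2, one_mul, mul_inv_eq_iff_eq_mul] at h1
  exact h1.symm

variable [Finite G] {p : ℕ} [Fact p.Prime]

theorem comm_mem (hp2 : p ≠ 2) (H K : Subgroup G) [hHn : H.Normal] [hKn : K.Normal] (hHK : H ≤ K)
    (hH : IsPGroup p H) (hcop : (H.relIndex K).Coprime p) (hab : ⁅K, K⁆ ≤ H) :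
    ∀ n : ℕ, ∀ V : Subgroup G, V.Normal → V ≤ H → Nat.card V = n → ∀ a : G,
      ⁅⁅V, Subgroup.zpowers a⁆, Subgroup.zpowers a⁆ = ⊥ → ∀ y ∈ K,
        a * y * a⁻¹ * y⁻¹ ∈ H ⊔ Subgroup.centralizer (V : Set G) := by
  have hp : p.Prime := Fact.out
  intro n
  induction n using Nat.strong_induction_on with
  | _ n ih =>
  intro V hVn hVH hcard a hq y hy
  haveI := hVn
  by_cases hVbot : V = ⊥
  · apply Subgroup.mem_sup_right
    rw [Subgroup.mem_centralizer_iff]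
    intro h hh
    rw [hVbot] at hh
    have h1 : h = 1 := Subgroup.mem_bot.mp hh
    rw [h1, one_mul, mul_one]
  have hVp : IsPGroup p V := hH.to_le hVH
  obtain ⟨F, hFdef⟩ : ∃ F : Subgroup G, F = (frattini ↥V).map V.subtype := ⟨_, rfl⟩
  haveI hFn : F.Normal := by rw [hFdef]; exact ConjAct.normal_of_characteristic_of_normal
  obtain ⟨V₁, hV₁def⟩ : ∃ V₁ : Subgroup G, V₁ = ⁅V, H⁆ ⊔ F := ⟨_, rfl⟩
  haveI hV₁n : V₁.Normal := by rw [hV₁def]; infer_instance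
  have hFV : F ≤ V := by rw [hFdef]; exact Subgroup.map_subtype_le _
  have hV₁V : V₁ ≤ V := by
    rw [hV₁def]; exact sup_le (Subgroup.commutator_le_left V H) hFV
  have hpowV₁ : ∀ v ∈ V, v ^ p ∈ V₁ := by
    intro v hv
    have h1 := Cfsg.Agent.H1.pow_p_mem_frattini (P := ↥V) hVp ⟨v, hv⟩
    rw [hV₁def]
    apply Subgroup.mem_sup_right
    rw [hFdef]
    exact ⟨_, h1, rfl⟩
  have hcomV₁ : ∀ v ∈ V, ∀ h ∈ H, v * h * v⁻¹ * h⁻¹ ∈ V₁ := by
    intro v hv h hh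
    rw [hV₁def]
    apply Subgroup.mem_sup_left
    exact Subgroup.commutator_mem_commutator hv hh
  have hcomV₁' : ∀ h ∈ H, ∀ v ∈ V, h * v * h⁻¹ * v⁻¹ ∈ V₁ := by
    intro h hh v hv
    rw [hV₁def]
    apply Subgroup.mem_sup_left
    rw [Subgroup.commutator_comm]
    exact Subgroup.commutator_mem_commutator hh hv
  have hV₁ne : V₁ ≠ V := by
    intro heq
    have h1 : (⁅V, H⁆.subgroupOf V) ⊔ frattini ↥V = ⊤ := by
      apply Subgroup.map_injective V.subtype_injective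
      rw [Subgroup.map_sup, Subgroup.subgroupOf_map_subtype, ← MonoidHom.range_eq_map,
        Subgroup.range_subtype, inf_eq_left.mpr (Subgroup.commutator_le_left V H), ← hFdef, ← hV₁def]
      exact heq
    have h2 : ⁅V, H⁆.subgroupOf V = ⊤ := frattini_nongenerating h1
    have h3 : V ≤ ⁅V, H⁆ := Subgroup.subgroupOf_eq_top.mp h2
    have h4 : ⁅V, H⁆ = V := le_antisymm (Subgroup.commutator_le_left V H) h3
    haveI : Group.IsNilpotent ↥H := hH.isNilpotent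
    have h5 : Cfsg.Agent.S3781.cg (V.subgroupOf H) = V.subgroupOf H := by
      unfold Cfsg.Agent.S3781.cg
      apply Subgroup.map_injective H.subtype_injective
      rw [Subgroup.map_commutator, Subgroup.subgroupOf_map_subtype, ← MonoidHom.range_eq_map,
        Subgroup.range_subtype, inf_eq_left.mpr hVH, h4]
    have h6 := Cfsg.Agent.S3781.eq_bot_of_cg_eq _ h5
    have h7 : V ⊓ H = ⊥ := disjoint_iff.mp (Subgroup.subgroupOf_eq_bot.mp h6)
    rw [inf_eq_left.mpr hVH] at h7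
    exact hVbot h7
  have hV₁lt : V₁ < V := lt_of_le_of_ne hV₁V hV₁ne
  -- the quotient
  obtain ⟨π, hπdef⟩ : ∃ π : G →* G ⧸ V₁, π = QuotientGroup.mk' V₁ := ⟨_, rfl⟩
  have hπs : Function.Surjective π := by rw [hπdef]; exact QuotientGroup.mk'_surjective V₁
  have hπ1 : ∀ g : G, π g = 1 ↔ g ∈ V₁ := by
    intro g; rw [hπdef]; exact QuotientGroup.eq_one_iff g
  obtain ⟨Ub, hUbdef⟩ : ∃ Ub : Subgroup (G ⧸ V₁), Ub = V.map π := ⟨_, rfl⟩
  haveI hUn : Ub.Normal := by rw [hUbdef]; exact Subgroup.Normal.map hVn π hπs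
  have hUmem : ∀ v ∈ V, π v ∈ Ub := by
    intro v hv; rw [hUbdef]; exact Subgroup.mem_map_of_mem π hv
  have hUex : ∀ u : ↥Ub, ∃ v ∈ V, π v = (u : G ⧸ V₁) := by
    intro u
    have h1 : (u : G ⧸ V₁) ∈ V.map π := hUbdef.le u.2
    obtain ⟨v, hv, hvu⟩ := h1
    exact ⟨v, hv, hvu⟩
  have hUcomm : ∀ u w : ↥Ub, u * w = w * u := by
    intro u w
    obtain ⟨v, hv, hvu⟩ := hUex u
    obtain ⟨v', hv', hvw⟩ := hUex w
    apply Subtype.ext
    show (u : G ⧸ V₁) * (w : G ⧸ V₁) = (w : G ⧸ V₁) * (u : G ⧸ V₁)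
    rw [← hvu, ← hvw, ← map_mul, ← map_mul]
    have h1 : π ((v * v')⁻¹ * (v' * v)) = 1 := by
      rw [hπ1]
      have e : (v * v')⁻¹ * (v' * v) = v'⁻¹ * v⁻¹ * (v'⁻¹)⁻¹ * (v⁻¹)⁻¹ := by group
      rw [e]
      exact hcomV₁ _ (V.inv_mem hv') _ (hVH (V.inv_mem hv))
    rw [map_mul, map_inv, inv_mul_eq_one] at h1
    exact h1
  have hUexp : ∀ u : ↥Ub, u ^ p = 1 := by
    intro u
    obtain ⟨v, hv, hvu⟩ := hUex u
    apply Subtype.ext
    show (u : G ⧸ V₁) ^ p = 1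
    rw [← hvu, ← map_pow, hπ1]
    exact hpowV₁ v hv
  letI cgU : CommGroup ↥Ub := { (inferInstance : Group ↥Ub) with mul_comm := hUcomm }
  obtain ⟨ψ, hψdef⟩ : ∃ ψ : G →* MulAut ↥Ub, ψ = (MulAut.conjNormal (H := Ub)).comp π := ⟨_, rfl⟩
  have hψval : ∀ (g : G) (u : ↥Ub), ((ψ g u : ↥Ub) : G ⧸ V₁) = π g * (u : G ⧸ V₁) * (π g)⁻¹ := by
    intro g u
    rw [hψdef, MonoidHom.comp_apply, MulAut.conjNormal_apply]
  have hψH : ∀ h ∈ H, ψ h = 1 := by
    intro h hh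
    ext u
    obtain ⟨v, hv, hvu⟩ := hUex u
    rw [MulAut.one_apply, hψval, ← hvu, ← map_inv, ← map_mul, ← map_mul]
    have h1 : π ((h * v * h⁻¹) * v⁻¹) = 1 := by
      rw [hπ1]; exact hcomV₁' h hh v hv
    rw [map_mul, map_inv, mul_inv_eq_one] at h1
    exact h1
  have hquad : Cfsg.Agent.Lib.Helper4.QuadAb.Quad (ψ a) := by
    intro u
    obtain ⟨v, hv, hvu⟩ := hUex u
    apply Subtype.ext
    have h1 := quad_comm hq hv
    have h2 : a * (a * v * a⁻¹ * v⁻¹) * a⁻¹ = a * v * a⁻¹ * v⁻¹ := by rw [h1]; group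
    have h3 := congrArg π h2
    simp only [map_mul, map_inv] at h3
    rw [hψval]
    show π a * (((ψ a u : ↥Ub) : G ⧸ V₁) * ((u : G ⧸ V₁))⁻¹) * (π a)⁻¹
      = ((ψ a u : ↥Ub) : G ⧸ V₁) * ((u : G ⧸ V₁))⁻¹
    rw [hψval, ← hvu]
    exact h3
  obtain ⟨R, hRdef⟩ : ∃ R : Subgroup (MulAut ↥Ub), R = K.map ψ := ⟨_, rfl⟩
  have hRx : ∀ r ∈ R, ψ a * r * (ψ a)⁻¹ ∈ R := by
    intro r hr
    rw [hRdef] at hr ⊢
    obtain ⟨z, hz, rfl⟩ := hr
    refine ⟨a * z * a⁻¹, hKn.conj_mem z hz a, ?_⟩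
    rw [map_mul, map_mul, map_inv]
  have hRab : ∀ r ∈ R, ∀ s ∈ R, r * s = s * r := by
    intro r hr s hs
    rw [hRdef] at hr hs
    obtain ⟨z, hz, rfl⟩ := hr
    obtain ⟨z', hz', rfl⟩ := hs
    have h := hψH ⁅z, z'⁆ (hab (Subgroup.commutator_mem_commutator hz hz'))
    rw [map_commutatorElement] at h
    exact commutatorElement_eq_one_iff_mul_comm.mp h
  have hRcop : (Nat.card R).Coprime p := by
    have h1 : ψ.ker.relIndex K = Nat.card (K.map ψ) := Subgroup.relIndex_ker K ψ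
    have h2 : ψ.ker.relIndex K ∣ H.relIndex K :=
      Subgroup.relIndex_dvd_of_le_left K (fun h hh => MonoidHom.mem_ker.mpr (hψH h hh))
    rw [hRdef, ← h1]
    exact Nat.Coprime.coprime_dvd_left h2 hcop
  have hcent := Cfsg.Agent.Lib.Helper4.QuadAb.quad_centralizes hp hp2 hUexp (ψ a) hquad R hRx hRab hRcop
  obtain ⟨c, hcdef⟩ : ∃ c : G, c = a * y * a⁻¹ * y⁻¹ := ⟨_, rfl⟩
  have hcK : c ∈ K := by
    rw [hcdef]; exact K.mul_mem (hKn.conj_mem y hy a) (K.inv_mem hy)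
  have hψc : ψ c = 1 := by
    have h1 := hcent (ψ y) (by rw [hRdef]; exact Subgroup.mem_map_of_mem ψ hy)
    rw [hcdef, map_mul, map_mul, map_mul, map_inv, map_inv, h1, mul_inv_cancel]
  have hcV : ∀ v ∈ V, c * v * c⁻¹ * v⁻¹ ∈ V₁ := by
    intro v hv
    have h1 : ((ψ c ⟨π v, hUmem v hv⟩ : ↥Ub) : G ⧸ V₁) = π v := by
      rw [hψc, MulAut.one_apply]
    rw [hψval] at h1
    rw [← hπ1, map_mul, map_mul, map_mul, map_inv, map_inv]
    change π c * π v * (π c)⁻¹ = π v at h1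
    rw [h1, mul_inv_cancel]
  -- induction hypothesis on `V₁`
  have hq₁ : ⁅⁅V₁, Subgroup.zpowers a⁆, Subgroup.zpowers a⁆ = ⊥ := by
    rw [eq_bot_iff, ← hq]
    exact Subgroup.commutator_mono (Subgroup.commutator_mono hV₁V le_rfl) le_rfl
  have hc1 := ih (Nat.card V₁) (by rw [← hcard]; exact Cfsg.Agent.S0651.card_lt_of_lt hV₁lt)
    V₁ hV₁n (hV₁V.trans hVH) rfl a hq₁ y hy
  rw [← hcdef, ← SetLike.mem_coe, Subgroup.normal_mul] at hc1
  obtain ⟨h, hh, c₁, hc₁, hhc⟩ := Set.mem_mul.mp hc1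
  have hc₁def : c₁ = h⁻¹ * c := by rw [← hhc]; group
  have hc₁K : c₁ ∈ K := by
    rw [hc₁def]; exact K.mul_mem (K.inv_mem (hHK hh)) hcK
  have hc₁V : ∀ v ∈ V, c₁ * v * c₁⁻¹ * v⁻¹ ∈ V₁ := by
    intro v hv
    have e : c₁ * v * c₁⁻¹ * v⁻¹
        = (h⁻¹ * (c * v * c⁻¹ * v⁻¹) * (h⁻¹)⁻¹) * (h⁻¹ * v * (h⁻¹)⁻¹ * v⁻¹) := by
      rw [hc₁def]; group
    rw [e]
    exact V₁.mul_mem (hV₁n.conj_mem _ (hcV v hv) _) (hcomV₁' _ (H.inv_mem hh) v hv)
  -- `c₁ ∈ H ⊔ C_G(V)`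
  have hc₁HC : c₁ ∈ H ⊔ Subgroup.centralizer (V : Set G) := by
    have hsn : c₁ ^ Nat.card V₁ ∈ Subgroup.centralizer (V : Set G) := by
      rw [Subgroup.mem_centralizer_iff]
      intro v hv
      have hzV₁ := hc₁V v hv
      have hz : c₁ * v * c₁⁻¹ = (c₁ * v * c₁⁻¹ * v⁻¹) * v := by group
      have hsz : c₁ * (c₁ * v * c₁⁻¹ * v⁻¹) = (c₁ * v * c₁⁻¹ * v⁻¹) * c₁ :=
        (Subgroup.mem_centralizer_iff.mp hc₁ _ hzV₁).symm
      have h1 := conj_pow_of_comm hz hsz (Nat.card V₁)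
      have h2 : (c₁ * v * c₁⁻¹ * v⁻¹) ^ Nat.card V₁ = 1 := by
        have h3 : (⟨_, hzV₁⟩ : ↥V₁) ^ Nat.card V₁ = 1 := pow_card_eq_one'
        have h4 := congrArg Subtype.val h3
        rw [Subgroup.coe_pow, Subgroup.coe_one] at h4
        exact h4
      rw [h2, one_mul, mul_inv_eq_iff_eq_mul] at h1
      exact h1.symm
    have hsm : c₁ ^ H.relIndex K ∈ H := by
      haveI : (H.subgroupOf K).Normal := Subgroup.normal_subgroupOf
      have h1 := Subgroup.pow_index_mem (H.subgroupOf K) (⟨c₁, hc₁K⟩ : ↥K)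
      rw [Subgroup.mem_subgroupOf, Subgroup.coe_pow] at h1
      exact h1
    obtain ⟨e, he⟩ := (hVp.to_le hV₁V).exists_card_eq
    have hcopmn : Nat.Coprime (H.relIndex K) (Nat.card V₁) := by
      rw [he]; exact Nat.Coprime.pow_right e hcop
    obtain ⟨α, β, hαβ⟩ := (Nat.isCoprime_iff_coprime.2 hcopmn)
    have h5 : c₁ = (c₁ ^ H.relIndex K) ^ α * (c₁ ^ Nat.card V₁) ^ β := by
      have h6 : c₁ = c₁ ^ (α * (H.relIndex K : ℤ) + β * (Nat.card V₁ : ℤ)) := by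
        rw [hαβ, zpow_one]
      conv_lhs => rw [h6]
      rw [zpow_add, mul_comm α, mul_comm β, zpow_mul, zpow_mul, zpow_natCast, zpow_natCast]
    rw [h5]
    exact Subgroup.mul_mem _ (Subgroup.mem_sup_left (Subgroup.zpow_mem _ hsm α))
      (Subgroup.mem_sup_right (Subgroup.zpow_mem _ hsn β))
  rw [← hcdef, ← hhc]
  exact Subgroup.mul_mem _ (Subgroup.mem_sup_left hh) hc₁HC


/-- For `p` odd, a group with normal series `H ≤ K ≤ G`, `H` a `p`-group, `K/H` an abelian `p'`-group and `G/K` a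
`p`-group acts `p`-stably on every normal `p`-subgroup contained in `H`. -/
theorem isPStableOn_of_series (hp2 : p ≠ 2) (H K : Subgroup G) [hHn : H.Normal] [hKn : K.Normal]
    (hHK : H ≤ K) (hH : IsPGroup p H) (hcop : (H.relIndex K).Coprime p) (hab : ⁅K, K⁆ ≤ H)
    (hidx : ∃ k : ℕ, K.index = p ^ k) (V : Subgroup G) [hVn : V.Normal] (hVH : V ≤ H) :
    Cfsg.IsPStableOn p V := by
  have hp : p.Prime := Fact.out
  intro a hq
  obtain ⟨C, hCdef⟩ : ∃ C : Subgroup G, C = Subgroup.centralizer (V : Set G) := ⟨_, rfl⟩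
  haveI hCn : C.Normal := by rw [hCdef]; exact Subgroup.normal_centralizer
  obtain ⟨HC, hHCdef⟩ : ∃ HC : Subgroup G, HC = H ⊔ C := ⟨_, rfl⟩
  haveI hHCn : HC.Normal := by rw [hHCdef]; infer_instance
  have hB1 : ∀ y ∈ K, a * y * a⁻¹ * y⁻¹ ∈ HC := by
    intro y hy
    rw [hHCdef, hCdef]
    exact comm_mem hp2 H K hHK hH hcop hab _ V hVn hVH rfl a hq y hy
  have hVp : IsPGroup p V := hH.to_le hVH
  obtain ⟨e, he⟩ := hVp.exists_card_eq
  have haC : a ^ p ^ e ∈ C := by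
    rw [hCdef, ← he]; exact pow_card_mem_centralizer hq
  obtain ⟨π₂, hπ₂def⟩ : ∃ π₂ : G →* G ⧸ HC, π₂ = QuotientGroup.mk' HC := ⟨_, rfl⟩
  have hπ₂s : Function.Surjective π₂ := by rw [hπ₂def]; exact QuotientGroup.mk'_surjective HC
  have hπ₂1 : ∀ g : G, π₂ g = 1 ↔ g ∈ HC := by
    intro g; rw [hπ₂def]; exact QuotientGroup.eq_one_iff g
  obtain ⟨Kh, hKhdef⟩ : ∃ Kh : Subgroup (G ⧸ HC), Kh = K.map π₂ := ⟨_, rfl⟩
  haveI hKhn : Kh.Normal := by rw [hKhdef]; exact Subgroup.Normal.map hKn π₂ hπ₂s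
  obtain ⟨Eh, hEhdef⟩ : ∃ Eh : Subgroup (G ⧸ HC), Eh = Subgroup.centralizer (Kh : Set (G ⧸ HC)) :=
    ⟨_, rfl⟩
  haveI hEhn : Eh.Normal := by rw [hEhdef]; exact Subgroup.normal_centralizer
  have haE : π₂ a ∈ Eh := by
    rw [hEhdef, Subgroup.mem_centralizer_iff]
    intro k hk
    rw [SetLike.mem_coe, hKhdef] at hk
    obtain ⟨y, hy, rfl⟩ := hk
    have h1 : π₂ (a * y * a⁻¹ * y⁻¹) = 1 := (hπ₂1 _).mpr (hB1 y hy)
    rw [map_mul, map_mul, map_mul, map_inv, map_inv] at h1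
    have h2 : π₂ a * π₂ y = π₂ y * π₂ a :=
      commutatorElement_eq_one_iff_mul_comm.mp (by rw [commutatorElement_def]; exact h1)
    exact h2.symm
  -- `G/HC / Kh` is a `p`-group
  have hQp : IsPGroup p ((G ⧸ HC) ⧸ Kh) := by
    obtain ⟨k, hk⟩ := hidx
    have h1 : Kh.index ∣ K.index := by rw [hKhdef]; exact Subgroup.index_map_dvd K hπ₂s
    rw [hk] at h1
    obtain ⟨j, -, hj⟩ := (Nat.dvd_prime_pow hp).mp h1
    apply IsPGroup.of_card (n := j)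
    rw [← Subgroup.index_eq_card, hj]
  haveI hnilQ : Group.IsNilpotent ((G ⧸ HC) ⧸ Kh) := hQp.isNilpotent
  obtain ⟨f, hfdef⟩ : ∃ f : ↥Eh →* (G ⧸ HC) ⧸ Kh, f = (QuotientGroup.mk' Kh).comp Eh.subtype :=
    ⟨_, rfl⟩
  have hker : f.ker ≤ Subgroup.center ↥Eh := by
    intro x hx
    rw [MonoidHom.mem_ker, hfdef, MonoidHom.comp_apply] at hx
    have hxK : (x : G ⧸ HC) ∈ Kh := (QuotientGroup.eq_one_iff _).mp hx
    rw [Subgroup.mem_center_iff]
    intro g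
    apply Subtype.ext
    show (g : G ⧸ HC) * (x : G ⧸ HC) = (x : G ⧸ HC) * (g : G ⧸ HC)
    have hg : (g : G ⧸ HC) ∈ Subgroup.centralizer (Kh : Set (G ⧸ HC)) := hEhdef.le g.2
    exact (Subgroup.mem_centralizer_iff.mp hg _ hxK).symm
  haveI hnilE : Group.IsNilpotent ↥Eh := Subgroup.isNilpotent_of_ker_le_center f hker
  have hall : ∀ (q : ℕ) (_ : Fact q.Prime) (P : Sylow q ↥Eh), (P : Subgroup ↥Eh).Normal :=
    ((Group.isNilpotent_of_finite_tfae (G := ↥Eh)).out 0 3).mp hnilE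
  -- the element
  obtain ⟨ae, haedef⟩ : ∃ ae : ↥Eh, ae = ⟨π₂ a, haE⟩ := ⟨_, rfl⟩
  have hae : ae ^ p ^ e = 1 := by
    rw [haedef]
    apply Subtype.ext
    show (π₂ a) ^ p ^ e = 1
    rw [← map_pow, hπ₂1, hHCdef]
    exact Subgroup.mem_sup_right haC
  have hzp : IsPGroup p ↥(Subgroup.zpowers ae) := by
    rintro ⟨g, hg⟩
    obtain ⟨i, rfl⟩ := Subgroup.mem_zpowers_iff.mp hg
    refine ⟨e, Subtype.ext ?_⟩
    show (ae ^ i) ^ p ^ e = 1
    rw [← zpow_natCast, ← zpow_mul, mul_comm, zpow_mul, zpow_natCast, hae, one_zpow]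
  obtain ⟨PE, hPE⟩ := hzp.exists_le_sylow
  haveI hPEn : (PE : Subgroup ↥Eh).Normal := hall p inferInstance PE
  haveI hPEc : (PE : Subgroup ↥Eh).Characteristic := Sylow.characteristic_of_normal PE hPEn
  obtain ⟨Th, hThdef⟩ : ∃ Th : Subgroup (G ⧸ HC), Th = (PE : Subgroup ↥Eh).map Eh.subtype := ⟨_, rfl⟩
  haveI hThn : Th.Normal := by rw [hThdef]; exact ConjAct.normal_of_characteristic_of_normal
  have hThp : IsPGroup p Th := by rw [hThdef]; exact PE.isPGroup'.map _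
  have haTh : π₂ a ∈ Th := by
    rw [hThdef]
    refine ⟨ae, hPE (Subgroup.mem_zpowers ae), ?_⟩
    rw [haedef]; rfl
  obtain ⟨T, hTdef⟩ : ∃ T : Subgroup G, T = Th.comap π₂ := ⟨_, rfl⟩
  haveI hTn : T.Normal := by rw [hTdef]; exact Subgroup.Normal.comap hThn π₂
  have haT : a ∈ T := by rw [hTdef]; exact haTh
  have hTbp : IsPGroup p ↥(T.map (QuotientGroup.mk' C)) := by
    rintro ⟨_, ⟨t, ht, rfl⟩⟩
    rw [hTdef] at ht
    have ht' : π₂ t ∈ Th := ht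
    obtain ⟨j, hj⟩ := hThp ⟨π₂ t, ht'⟩
    have hj' : (π₂ t) ^ p ^ j = 1 := by
      have h1 := congrArg Subtype.val hj
      rw [Subgroup.coe_pow, Subgroup.coe_one] at h1
      exact h1
    have h1 : t ^ p ^ j ∈ HC := by rw [← hπ₂1, map_pow]; exact hj'
    rw [hHCdef, ← SetLike.mem_coe, Subgroup.normal_mul] at h1
    obtain ⟨h, hh, c', hc', hhc⟩ := Set.mem_mul.mp h1
    obtain ⟨i, hi⟩ := hH ⟨h, hh⟩
    have hi' : h ^ p ^ i = 1 := by
      have h2 := congrArg Subtype.val hi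
      rw [Subgroup.coe_pow, Subgroup.coe_one] at h2
      exact h2
    refine ⟨j + i, Subtype.ext ?_⟩
    show (QuotientGroup.mk' C t) ^ p ^ (j + i) = 1
    have hc1 : QuotientGroup.mk' C c' = 1 := (QuotientGroup.eq_one_iff c').mpr hc'
    rw [pow_add, pow_mul, ← map_pow, ← hhc, map_mul, hc1, mul_one, ← map_pow, hi', map_one]
  have hTbn : (T.map (QuotientGroup.mk' C)).Normal :=
    Subgroup.Normal.map hTn _ (QuotientGroup.mk'_surjective C)
  have hfin : QuotientGroup.mk' C a ∈ Cfsg.pCore p (G ⧸ C) :=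
    Cfsg.Agent.H1.le_pCore hTbn hTbp (Subgroup.mem_map_of_mem _ haT)
  subst hCdef
  exact hfin

end Cfsg.Agent.Lib.Helper4.PStab
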