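import Mathlib
import Cfsg.Prelude.Def_PLocal
import Cfsg.Prelude.Def_TwoFusion
import Cfsg.Agent.Lib.Helper4.ZJ

/-!
# Glauberman's ZJ-theorem for a strongly closed subgroup `D` of a Sylow `p`-subgroup

The generalization of `Cfsg.Agent.Lib.Helper4.ZJ` from the Sylow subgroup `S` to a subgroup `D` of `S`
strongly closed in `S` with respect to `G`: `zj good D` is normal in `G`.
-/

set_option autoImplicit false
open scoped commutatorElement

namespace Cfsg.Agent.Lib.Helper4.ZJ2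

open Cfsg.Agent.Lib.Lead.Conj Cfsg.Agent.Lib.Helper4.ZJ

variable {G : Type*} [Group G]

/-- transport of the iterated replacement theorem to a normal subgroup `D` of a `p`-subgroup `S` -/
theorem repl_sub' [Finite G] {p : ℕ} [Fact p.Prime] (hp : p ≠ 2) {good : Subgroup G → Prop}
    (hg : GoodProp good) (S : Subgroup G) (hS : IsPGroup p S) (D : Subgroup G) (hDS : D ≤ S)
    (hDn : ∀ s ∈ S, ∀ d ∈ D, s * d * s⁻¹ ∈ D) (B : Subgroup G) [B.Normal]
    (hBS : B ≤ S) (A : Subgroup G) (hA : A ∈ fam good D) (hBA : ⁅B, B⁆ ≤ A) (hnBA : ¬ B ≤ A) :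
    ∃ A₁ ∈ fam good D, ¬ B ≤ A₁ ∧ ∀ b ∈ B, ∀ a ∈ A₁, b * a * b⁻¹ ∈ A₁ := by
  obtain ⟨hAD, hAg, hAmax⟩ := mem_fam.mp hA
  have hinj : Function.Injective S.subtype := S.subtype_injective
  have hcardmap : ∀ T₀ : Subgroup ↥S, Nat.card ↥(T₀.map S.subtype) = Nat.card T₀ := fun T₀ =>
    (Nat.card_congr (T₀.equivMapOfInjective S.subtype hinj).toEquiv).symm
  haveI hD₀n : (D.subgroupOf S).Normal := by
    refine ⟨fun d hd s => ?_⟩
    rw [Subgroup.mem_subgroupOf] at hd ⊢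
    exact hDn s.1 s.2 d.1 hd
  have hFD : ∀ A₀ ∈ {A₀ : Subgroup ↥S | A₀.map S.subtype ∈ fam good D},
      A₀ ≤ D.subgroupOf S := by
    intro A₀ hA₀ x hx
    have hA₀' : A₀.map S.subtype ∈ fam good D := hA₀
    rw [Subgroup.mem_subgroupOf]
    exact (mem_fam.mp hA₀').1 (Subgroup.mem_map_of_mem S.subtype hx)
  have hFab : ∀ A₀ ∈ {A₀ : Subgroup ↥S | A₀.map S.subtype ∈ fam good D},
      IsMulCommutative A₀ := by
    intro A₀ hA₀
    have hA₀' : A₀.map S.subtype ∈ fam good D := hA₀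
    have hab := hg.ab _ (mem_fam.mp hA₀').2.1
    refine ⟨⟨fun x y => ?_⟩⟩
    have hx : ((x : ↥S) : G) ∈ A₀.map S.subtype := Subgroup.mem_map_of_mem S.subtype x.2
    have hy : ((y : ↥S) : G) ∈ A₀.map S.subtype := Subgroup.mem_map_of_mem S.subtype y.2
    have h1 := hab.is_comm.comm ⟨_, hx⟩ ⟨_, hy⟩
    have h2 : ((x : ↥S) : G) * ((y : ↥S) : G) = ((y : ↥S) : G) * ((x : ↥S) : G) :=
      congrArg Subtype.val h1
    exact Subtype.ext (Subtype.ext h2)
  have hFcl : ∀ A₀ ∈ {A₀ : Subgroup ↥S | A₀.map S.subtype ∈ fam good D}, ∀ T₀ : Subgroup ↥S,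
      T₀ ≤ D.subgroupOf S → IsMulCommutative T₀ → Nat.card T₀ = Nat.card A₀ →
      Monoid.exponent T₀ ∣ Monoid.exponent A₀ →
      T₀ ∈ {A₀ : Subgroup ↥S | A₀.map S.subtype ∈ fam good D} := by
    intro A₀ hA₀ T₀ hT₀D hT₀ab hcard hexp
    have hA₀' : A₀.map S.subtype ∈ fam good D := hA₀
    obtain ⟨_, hA₀g, hA₀max⟩ := mem_fam.mp hA₀'
    haveI : IsMulCommutative T₀ := hT₀ab
    have hexpT : Monoid.exponent ↥(T₀.map S.subtype) = Monoid.exponent T₀ :=
      (Monoid.exponent_eq_of_mulEquiv (T₀.equivMapOfInjective S.subtype hinj)).symm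
    have hexpA : Monoid.exponent ↥(A₀.map S.subtype) = Monoid.exponent A₀ :=
      (Monoid.exponent_eq_of_mulEquiv (A₀.equivMapOfInjective S.subtype hinj)).symm
    have hgT : good (T₀.map S.subtype) := by
      apply hg.repl (A₀.map S.subtype) (T₀.map S.subtype) hA₀g inferInstance
      · rw [hcardmap T₀, hcardmap A₀, hcard]
      · rw [hexpT, hexpA]; exact hexp
    have hTD : T₀.map S.subtype ≤ D := by
      rintro _ ⟨t, ht, rfl⟩
      exact Subgroup.mem_subgroupOf.mp (hT₀D ht)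
    show T₀.map S.subtype ∈ fam good D
    refine mem_fam.mpr ⟨hTD, hgT, fun B' hB' hB'g => ?_⟩
    rw [hcardmap T₀, hcard, ← hcardmap A₀]
    exact hA₀max B' hB' hB'g
  have hU : ∃ U ∈ {A₀ : Subgroup ↥S | A₀.map S.subtype ∈ fam good D},
      ⁅B.subgroupOf S, B.subgroupOf S⁆ ≤ U ∧ ¬ B.subgroupOf S ≤ U := by
    refine ⟨A.subgroupOf S, ?_, ?_, ?_⟩
    · show (A.subgroupOf S).map S.subtype ∈ fam good D
      rw [Subgroup.map_subgroupOf_eq_of_le (hAD.trans hDS)]
      exact hA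
    · rw [Subgroup.commutator_le]
      intro x hx y hy
      rw [Subgroup.mem_subgroupOf] at hx hy ⊢
      have h1 : ((⁅x, y⁆ : ↥S) : G) = ⁅(x : G), (y : G)⁆ := rfl
      rw [h1]
      exact hBA (Subgroup.commutator_mem_commutator hx hy)
    · intro h
      apply hnBA
      intro b hb
      have h1 : (⟨b, hBS hb⟩ : ↥S) ∈ B.subgroupOf S := Subgroup.mem_subgroupOf.mpr hb
      exact Subgroup.mem_subgroupOf.mp (h h1)
  obtain ⟨A₀, hA₀F, -, hnB₀, hnorm⟩ :=
    Cfsg.Agent.S0651.replacement_iter hS hp (D.subgroupOf S) _ hFD hFab hFcl (B.subgroupOf S) hU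
  have hA₀' : A₀.map S.subtype ∈ fam good D := hA₀F
  refine ⟨A₀.map S.subtype, hA₀', ?_, ?_⟩
  · intro h
    apply hnB₀
    intro x hx
    have hxB : (x : G) ∈ B := Subgroup.mem_subgroupOf.mp hx
    obtain ⟨y, hy, hyx⟩ := h hxB
    have hyx' : y = x := Subtype.ext hyx
    rw [← hyx']; exact hy
  · intro b hb a ha
    obtain ⟨y, hy, rfl⟩ := ha
    have hb' : (⟨b, hBS hb⟩ : ↥S) ∈ B.subgroupOf S := Subgroup.mem_subgroupOf.mpr hb
    have h1 := (Subgroup.mem_set_normalizer_iff.mp (hnorm hb') y).mp hy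
    exact Subgroup.mem_map_of_mem S.subtype h1

/-- the last step of the proof: a normal subgroup between `Z(J(D)) ∩ B` and `A₁` -/
theorem final_step' [Finite G] {p : ℕ} [Fact p.Prime] (S : Sylow p G) (D : Subgroup G)
    (hD : Cfsg.IsStronglyClosed D (S : Subgroup G))
    {good : Subgroup G → Prop} (hg : GoodProp good) (B : Subgroup G) [hBn : B.Normal]
    (hstB : Cfsg.IsPStableOn p B) (A₁ : Subgroup G)
    (hA₁ : A₁ ∈ fam good D) (hnorm : ∀ b ∈ B, ∀ a ∈ A₁, b * a * b⁻¹ ∈ A₁) :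
    ∃ Y : Subgroup G, Y.Normal ∧ zj good D ⊓ B ≤ Y ∧ Y ≤ A₁ := by
  obtain ⟨hDS, hDcl⟩ := hD
  obtain ⟨hA₁D, hA₁g, hA₁max⟩ := mem_fam.mp hA₁
  have hA₁ab := hg.ab A₁ hA₁g
  have hcommA₁ : ∀ a ∈ A₁, ∀ c ∈ A₁, a * c = c * a := by
    intro a ha c hc
    have h1 := hA₁ab.is_comm.comm ⟨a, ha⟩ ⟨c, hc⟩
    have h2 : a * c = c * a := congrArg Subtype.val h1
    exact h2
  haveI hPn : (Cfsg.pCore p (G ⧸ Subgroup.centralizer (B : Set G))).Normal :=
    Cfsg.Agent.H9.pCore_normal p _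
  have hPp : IsPGroup p ↥(Cfsg.pCore p (G ⧸ Subgroup.centralizer (B : Set G))) :=
    Cfsg.Agent.H9.pCore_isPGroup p _
  obtain ⟨L, hL⟩ : ∃ L, L = (Cfsg.pCore p (G ⧸ Subgroup.centralizer (B : Set G))).comap
      (QuotientGroup.mk' (Subgroup.centralizer (B : Set G))) := ⟨_, rfl⟩
  haveI hLn : L.Normal := by rw [hL]; exact hPn.comap _
  have hmemL : ∀ l, l ∈ L ↔ (QuotientGroup.mk l : G ⧸ Subgroup.centralizer (B : Set G)) ∈
      Cfsg.pCore p (G ⧸ Subgroup.centralizer (B : Set G)) := by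
    intro l; rw [hL]; exact Iff.rfl
  have hCL : Subgroup.centralizer (B : Set G) ≤ L := by
    intro c hc
    rw [hmemL]
    have h1 : (QuotientGroup.mk c : G ⧸ Subgroup.centralizer (B : Set G)) = 1 :=
      (QuotientGroup.eq_one_iff c).mpr hc
    rw [h1]; exact Subgroup.one_mem _
  have hA₁L : A₁ ≤ L := by
    intro a ha
    rw [hmemL]
    apply hstB
    have hza : Subgroup.zpowers a ≤ A₁ := Subgroup.zpowers_le.mpr ha
    have h1 : ⁅B, Subgroup.zpowers a⁆ ≤ A₁ := by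
      rw [Subgroup.commutator_le]
      intro u hu w hw
      have hwA := hza hw
      have h2 := hnorm u hu w hwA
      rw [commutatorElement_def]
      exact A₁.mul_mem h2 (A₁.inv_mem hwA)
    have hAA : ⁅A₁, A₁⁆ = ⊥ := by
      rw [Subgroup.commutator_eq_bot_iff_le_centralizer]
      intro a' ha'
      rw [Subgroup.mem_centralizer_iff]
      intro h hh
      exact hcommA₁ h hh a' ha'
    rw [eq_bot_iff, ← hAA]
    exact Subgroup.commutator_mono h1 hza
  obtain ⟨R, hR⟩ : ∃ R, R = (S : Subgroup G) ⊓ L := ⟨_, rfl⟩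
  have hRS : R ≤ (S : Subgroup G) := by rw [hR]; exact inf_le_left
  have hA₁DL : A₁ ≤ D ⊓ L := le_inf hA₁D hA₁L
  have hsub : fam good (D ⊓ L) ⊆ fam good D := fam_subset inf_le_left hA₁ hA₁DL
  have hA₁famR : A₁ ∈ fam good (D ⊓ L) := mem_fam_of_le inf_le_left hA₁ hA₁DL
  have hZle : zj good D ≤ zj good (D ⊓ L) := sInf_le_sInf hsub
  have hRN : R ≤ Subgroup.normalizer (R : Set G) := Subgroup.le_normalizer
  have hNDL : ∀ n ∈ Subgroup.normalizer (R : Set G),
      n ∈ Subgroup.normalizer ((D ⊓ L : Subgroup G) : Set G) := by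
    intro n hn
    apply mem_normalizer_of_conj_mem
    intro x hx
    obtain ⟨hxD, hxL⟩ := Subgroup.mem_inf.mp hx
    have hxR : x ∈ R := by rw [hR]; exact Subgroup.mem_inf.mpr ⟨hDS hxD, hxL⟩
    have h1 : n * x * n⁻¹ ∈ R := (Subgroup.mem_set_normalizer_iff.mp hn x).mp hxR
    exact Subgroup.mem_inf.mpr ⟨hDcl x hxD n (hRS h1), hLn.conj_mem x hxL n⟩
  have hinvN : ∀ n ∈ Subgroup.normalizer (R : Set G), ∀ y ∈ zj good (D ⊓ L) ⊓ B,
      n * y * n⁻¹ ∈ zj good (D ⊓ L) ⊓ B := by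
    intro n hn y hy
    obtain ⟨hyZ, hyB⟩ := Subgroup.mem_inf.mp hy
    exact Subgroup.mem_inf.mpr ⟨zj_conj_mem hg (hNDL n hn) hyZ, hBn.conj_mem y hyB n⟩
  have hinvC : ∀ c ∈ Subgroup.centralizer (B : Set G), ∀ y ∈ zj good (D ⊓ L) ⊓ B,
      c * y * c⁻¹ ∈ zj good (D ⊓ L) ⊓ B := by
    intro c hc y hy
    have hyB := (Subgroup.mem_inf.mp hy).2
    have h1 : y * c = c * y := Subgroup.mem_centralizer_iff.mp hc y hyB
    rw [← h1, mul_inv_cancel_right]
    exact hy
  have hLRC : ∀ l ∈ L, ∃ r ∈ R, ∃ c ∈ Subgroup.centralizer (B : Set G), l = r * c := by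
    intro l hl
    have h1 := (hmemL l).mp hl
    have hSbar : Cfsg.pCore p (G ⧸ Subgroup.centralizer (B : Set G)) ≤
        ((S.mapSurjective (QuotientGroup.mk'_surjective (Subgroup.centralizer (B : Set G))) :
          Sylow p (G ⧸ Subgroup.centralizer (B : Set G))) :
            Subgroup (G ⧸ Subgroup.centralizer (B : Set G))) :=
      hPp.le_sylow_of_normal _
    have h2 : (QuotientGroup.mk l : G ⧸ Subgroup.centralizer (B : Set G)) ∈
        (S : Subgroup G).map (QuotientGroup.mk' (Subgroup.centralizer (B : Set G))) := hSbar h1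
    obtain ⟨s, hs, hsl⟩ := h2
    have h3 : s⁻¹ * l ∈ Subgroup.centralizer (B : Set G) := QuotientGroup.eq.mp hsl
    have hsL : s ∈ L := by
      have h4 : l * (s⁻¹ * l)⁻¹ ∈ L := L.mul_mem hl (L.inv_mem (hCL h3))
      have e : l * (s⁻¹ * l)⁻¹ = s := by group
      rw [e] at h4; exact h4
    refine ⟨s, ?_, s⁻¹ * l, h3, by group⟩
    rw [hR]; exact Subgroup.mem_inf.mpr ⟨hs, hsL⟩
  have hfrat : ∀ g : G, ∃ n ∈ Subgroup.normalizer (R : Set G), ∃ l ∈ L, n * l = g := by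
    have hnd : ¬ p ∣ (((S : Subgroup G) ⊓ L).subgroupOf L).index :=
      not_dvd_index_inf_normal (S : Subgroup G) L S.not_dvd_index
    have hRp : IsPGroup p ↥(((S : Subgroup G) ⊓ L).subgroupOf L) :=
      (S.isPGroup'.to_le inf_le_left).comap_subtype
    have hF := Sylow.normalizer_sup_eq_top (hRp.toSylow hnd)
    have hF' : Subgroup.normalizer (R : Set G) ⊔ L = ⊤ := by
      have e : ((((S : Subgroup G) ⊓ L).subgroupOf L).map L.subtype) = R := by
        rw [hR]; exact Subgroup.map_subgroupOf_eq_of_le inf_le_right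
      rw [← e]; exact hF
    intro g
    have hg' : g ∈ Subgroup.normalizer (R : Set G) ⊔ L := by rw [hF']; exact Subgroup.mem_top g
    exact Subgroup.mem_sup_of_normal_right.mp hg'
  refine ⟨zj good (D ⊓ L) ⊓ B, ⟨fun y hy g => ?_⟩, inf_le_inf_right B hZle,
    inf_le_left.trans (zj_le hA₁famR)⟩
  obtain ⟨n, hn, l, hl, rfl⟩ := hfrat g
  obtain ⟨r, hr, c, hc, rfl⟩ := hLRC l hl
  have h1 := hinvC c hc y hy
  have h2 := hinvN r (hRN hr) _ h1
  have h3 := hinvN n hn _ h2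
  have e : n * (r * c) * y * (n * (r * c))⁻¹ = n * (r * (c * y * c⁻¹) * r⁻¹) * n⁻¹ := by group
  rw [e]; exact h3

theorem sylow_le_normalizer_of_stronglyClosed [Finite G] (S D : Subgroup G)
    (hD : Cfsg.IsStronglyClosed D S) : S ≤ Subgroup.normalizer (D : Set G) := by
  intro s hs
  apply mem_normalizer_of_conj_mem
  intro d hd
  exact hD.2 d hd s (S.mul_mem (S.mul_mem hs (hD.1 hd)) (S.inv_mem hs))

theorem zj_inf_normal_aux' [Finite G] {p : ℕ} [Fact p.Prime] (hp : p ≠ 2)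
    (hst : ∀ (P : Subgroup G) [P.Normal], IsPGroup p P → Cfsg.IsPStableOn p P) (S : Sylow p G)
    (D : Subgroup G) (hD : Cfsg.IsStronglyClosed D (S : Subgroup G))
    {good : Subgroup G → Prop} (hg : GoodProp good) (Z : Subgroup G)
    (hZ : Z = zj good D) :
    ∀ n : ℕ, ∀ B : Subgroup G, B.Normal → IsPGroup p B → Nat.card B = n →
      ∀ g : G, ∀ x ∈ Z ⊓ B, g * x * g⁻¹ ∈ Z ⊓ B := by
  have hSle := sylow_le_normalizer_of_stronglyClosed (S : Subgroup G) D hD
  have hDn : ∀ s ∈ (S : Subgroup G), ∀ d ∈ D, s * d * s⁻¹ ∈ D := by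
    intro s hs d hd
    exact (Subgroup.mem_set_normalizer_iff.mp (hSle hs) d).mp hd
  have hZS : ∀ s ∈ (S : Subgroup G), ∀ z ∈ Z, s * z * s⁻¹ ∈ Z := by
    intro s hs z hz
    rw [hZ] at hz ⊢
    exact zj_conj_mem hg (hSle hs) hz
  intro n
  induction n using Nat.strong_induction_on with
  | _ n ih =>
    intro B hBn hBp hcard g x hx
    haveI := hBn
    have hBS : B ≤ (S : Subgroup G) := hBp.le_sylow_of_normal S
    by_cases hB1 : Subgroup.normalClosure ((Z ⊓ B : Subgroup G) : Set G) = B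
    · by_cases hBbot : B = ⊥
      · have hx1 : x = 1 := by
          have h1 := (Subgroup.mem_inf.mp hx).2
          rw [hBbot] at h1
          exact Subgroup.mem_bot.mp h1
        rw [hx1, mul_one, mul_inv_cancel]
        exact Subgroup.one_mem _
      · have hB'lt : ⁅B, B⁆ < B := commutator_lt_of_pgroup B hBp hBbot
        have hB'le : ⁅B, B⁆ ≤ B := hB'lt.le
        have hY : ∀ g : G, ∀ y ∈ Z ⊓ ⁅B, B⁆, g * y * g⁻¹ ∈ Z ⊓ ⁅B, B⁆ :=
          ih _ (by rw [← hcard]; exact Cfsg.Agent.S0651.card_lt_of_lt hB'lt) ⁅B, B⁆ inferInstance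
            (hBp.to_le hB'le) rfl
        have hXB : ∀ x ∈ Z ⊓ B, ∀ b ∈ B, ⁅x, b⁆ ∈ Z ⊓ ⁅B, B⁆ := by
          intro x hx b hb
          obtain ⟨hxZ, hxB⟩ := Subgroup.mem_inf.mp hx
          refine Subgroup.mem_inf.mpr ⟨?_, Subgroup.commutator_mem_commutator hxB hb⟩
          have h1 : b * x⁻¹ * b⁻¹ ∈ Z := hZS b (hBS hb) x⁻¹ (Z.inv_mem hxZ)
          have e : ⁅x, b⁆ = x * (b * x⁻¹ * b⁻¹) := by rw [commutatorElement_def]; group
          rw [e]; exact Z.mul_mem hxZ h1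
        have hmem : ∀ x ∈ ((Z ⊓ B : Subgroup G) : Set G), ∀ g : G, ∀ b ∈ B,
            ⁅g * x * g⁻¹, b⁆ ∈ Z ⊓ ⁅B, B⁆ := by
          intro x hx g b hb
          have hb' : g⁻¹ * b * g⁻¹⁻¹ ∈ B := hBn.conj_mem b hb g⁻¹
          have h1 := hXB x (SetLike.mem_coe.mp hx) _ hb'
          have h2 := hY g _ h1
          have e : ⁅g * x * g⁻¹, b⁆ = g * ⁅x, g⁻¹ * b * g⁻¹⁻¹⁆ * g⁻¹ := by
            simp only [commutatorElement_def]; group
          rw [e]; exact h2
        have hone : ∀ b ∈ B, ⁅(1 : G), b⁆ ∈ Z ⊓ ⁅B, B⁆ := by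
          intro b _
          rw [commutatorElement_one_left]
          exact Subgroup.one_mem _
        have hmul : ∀ u v : G, (∀ b ∈ B, ⁅u, b⁆ ∈ Z ⊓ ⁅B, B⁆) → (∀ b ∈ B, ⁅v, b⁆ ∈ Z ⊓ ⁅B, B⁆) →
            ∀ b ∈ B, ⁅u * v, b⁆ ∈ Z ⊓ ⁅B, B⁆ := by
          intro u v ihu ihv b hb
          have e : ⁅u * v, b⁆ = u * ⁅v, b⁆ * u⁻¹ * ⁅u, b⁆ := by
            simp only [commutatorElement_def]; group
          rw [e]
          exact Subgroup.mul_mem _ (hY u _ (ihv b hb)) (ihu b hb)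
        have hinv : ∀ u : G, (∀ b ∈ B, ⁅u, b⁆ ∈ Z ⊓ ⁅B, B⁆) →
            ∀ b ∈ B, ⁅u⁻¹, b⁆ ∈ Z ⊓ ⁅B, B⁆ := by
          intro u ihu b hb
          have e : ⁅u⁻¹, b⁆ = u⁻¹ * ⁅u, b⁆⁻¹ * u⁻¹⁻¹ := by
            simp only [commutatorElement_def]; group
          rw [e]
          exact hY u⁻¹ _ (Subgroup.inv_mem _ (ihu b hb))
        have hBB : ∀ u ∈ B, ∀ b ∈ B, ⁅u, b⁆ ∈ Z ⊓ ⁅B, B⁆ := by
          intro u hu
          have hu' : u ∈ Subgroup.normalClosure ((Z ⊓ B : Subgroup G) : Set G) := by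
            rw [hB1]; exact hu
          exact nc_induction ((Z ⊓ B : Subgroup G) : Set G)
            (fun u => ∀ b ∈ B, ⁅u, b⁆ ∈ Z ⊓ ⁅B, B⁆) hmem hone hmul hinv u hu'
        have hB'Z : ⁅B, B⁆ ≤ Z := by
          rw [Subgroup.commutator_le]
          intro u hu b hb
          exact (Subgroup.mem_inf.mp (hBB u hu b hb)).1
        by_cases hall : ∀ A ∈ fam good D, B ≤ A
        · have hBZ : B ≤ Z := by rw [hZ]; exact le_sInf hall
          have hxB := (Subgroup.mem_inf.mp hx).2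
          have h1 : g * x * g⁻¹ ∈ B := hBn.conj_mem x hxB g
          exact Subgroup.mem_inf.mpr ⟨hBZ h1, h1⟩
        · exfalso
          push Not at hall
          obtain ⟨A, hA, hnBA⟩ := hall
          have hBA : ⁅B, B⁆ ≤ A := by
            have h1 : Z ≤ A := by rw [hZ]; exact zj_le hA
            exact hB'Z.trans h1
          obtain ⟨A₁, hA₁, hnBA₁, hnorm⟩ :=
            repl_sub' hp hg (S : Subgroup G) S.isPGroup' D hD.1 hDn B hBS A hA hBA hnBA
          obtain ⟨Y, hYn, hXY, hYA₁⟩ := final_step' S D hD hg B (hst B hBp) A₁ hA₁ hnorm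
          haveI := hYn
          have h1 : Subgroup.normalClosure ((Z ⊓ B : Subgroup G) : Set G) ≤ Y := by
            apply Subgroup.normalClosure_le_normal
            intro y hy
            rw [hZ] at hy
            exact hXY hy
          rw [hB1] at h1
          exact hnBA₁ (h1.trans hYA₁)
    · have hle : Subgroup.normalClosure ((Z ⊓ B : Subgroup G) : Set G) ≤ B :=
        Subgroup.normalClosure_le_normal
          (fun y hy => (Subgroup.mem_inf.mp (SetLike.mem_coe.mp hy)).2)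
      have hlt : Subgroup.normalClosure ((Z ⊓ B : Subgroup G) : Set G) < B :=
        lt_of_le_of_ne hle hB1
      have hc := Cfsg.Agent.S0651.card_lt_of_lt hlt
      have hx1 : x ∈ Z ⊓ Subgroup.normalClosure ((Z ⊓ B : Subgroup G) : Set G) :=
        Subgroup.mem_inf.mpr ⟨(Subgroup.mem_inf.mp hx).1,
          Subgroup.subset_normalClosure (SetLike.mem_coe.mpr hx)⟩
      have h2 := ih _ (by rw [← hcard]; exact hc) _ Subgroup.normalClosure_normal
        (hBp.to_le hle) rfl g x hx1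
      exact Subgroup.mem_inf.mpr ⟨(Subgroup.mem_inf.mp h2).1, hle (Subgroup.mem_inf.mp h2).2⟩

/-- **Glauberman's ZJ-theorem** for a strongly closed subgroup and the family `good`. -/
theorem zj_normal' [Finite G] {p : ℕ} [Fact p.Prime] (hp : p ≠ 2)
    (hc : Subgroup.centralizer (Cfsg.pCore p G : Set G) ≤ Cfsg.pCore p G)
    (hst : ∀ (P : Subgroup G) [P.Normal], IsPGroup p P → Cfsg.IsPStableOn p P) (S : Sylow p G)
    (D : Subgroup G) (hD : Cfsg.IsStronglyClosed D (S : Subgroup G))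
    {good : Subgroup G → Prop} (hg : GoodProp good) :
    (zj good D).Normal := by
  haveI hQn : (Cfsg.pCore p G).Normal := Cfsg.Agent.H9.pCore_normal p G
  have hQp : IsPGroup p ↥(Cfsg.pCore p G) := Cfsg.Agent.H9.pCore_isPGroup p G
  have hQS : Cfsg.pCore p G ≤ (S : Subgroup G) := hQp.le_sylow_of_normal S
  have hSle := sylow_le_normalizer_of_stronglyClosed (S : Subgroup G) D hD
  have hZS : ∀ s ∈ (S : Subgroup G), ∀ z ∈ zj good D, s * z * s⁻¹ ∈ zj good D :=
    fun s hs z hz => zj_conj_mem hg (hSle hs) hz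
  have hZab := zj_comm hg D
  have hZQ : zj good D ≤ Cfsg.pCore p G := by
    intro z hz
    have hq : ⁅⁅Cfsg.pCore p G, Subgroup.zpowers z⁆, Subgroup.zpowers z⁆ = ⊥ := by
      have hzz : Subgroup.zpowers z ≤ zj good D := Subgroup.zpowers_le.mpr hz
      have h1 : ⁅Cfsg.pCore p G, Subgroup.zpowers z⁆ ≤ zj good D := by
        rw [Subgroup.commutator_le]
        intro u hu w hw
        have hwZ := hzz hw
        have h2 := hZS u (hQS hu) w hwZ
        rw [commutatorElement_def]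
        exact Subgroup.mul_mem _ h2 (Subgroup.inv_mem _ hwZ)
      have hZZ : ⁅zj good D, zj good D⁆ = ⊥ := by
        rw [Subgroup.commutator_eq_bot_iff_le_centralizer]
        intro a ha
        rw [Subgroup.mem_centralizer_iff]
        intro h hh
        exact hZab h hh a ha
      rw [eq_bot_iff, ← hZZ]
      exact Subgroup.commutator_mono h1 hzz
    have h1 := hst (Cfsg.pCore p G) hQp z hq
    haveI hPn : (Cfsg.pCore p (G ⧸ Subgroup.centralizer (Cfsg.pCore p G : Set G))).Normal :=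
      Cfsg.Agent.H9.pCore_normal p _
    have hPp := Cfsg.Agent.H9.pCore_isPGroup p (G ⧸ Subgroup.centralizer (Cfsg.pCore p G : Set G))
    obtain ⟨LQ, hLQ⟩ : ∃ LQ, LQ =
        (Cfsg.pCore p (G ⧸ Subgroup.centralizer (Cfsg.pCore p G : Set G))).comap
          (QuotientGroup.mk' (Subgroup.centralizer (Cfsg.pCore p G : Set G))) := ⟨_, rfl⟩
    haveI hLQn : LQ.Normal := by rw [hLQ]; exact hPn.comap _
    have hLQp : IsPGroup p ↥LQ := by
      intro ⟨l, hl⟩
      rw [hLQ] at hl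
      have hl' : (QuotientGroup.mk l : G ⧸ Subgroup.centralizer (Cfsg.pCore p G : Set G)) ∈
          Cfsg.pCore p (G ⧸ Subgroup.centralizer (Cfsg.pCore p G : Set G)) := hl
      obtain ⟨k, hk⟩ := hPp ⟨_, hl'⟩
      have hk' : (QuotientGroup.mk l : G ⧸ Subgroup.centralizer (Cfsg.pCore p G : Set G)) ^
          (p ^ k) = 1 := by
        have h2 := congrArg Subtype.val hk
        simpa using h2
      rw [← QuotientGroup.mk_pow, QuotientGroup.eq_one_iff] at hk'
      obtain ⟨m, hm⟩ := hQp ⟨_, hc hk'⟩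
      have hm' : (l ^ p ^ k) ^ p ^ m = 1 := by
        have h2 := congrArg Subtype.val hm
        simpa using h2
      refine ⟨k + m, Subtype.ext ?_⟩
      rw [Subgroup.coe_pow, Subgroup.coe_one, pow_add, pow_mul]
      exact hm'
    have hle : LQ ≤ Cfsg.pCore p G := Cfsg.Agent.H9.le_pCore LQ hLQp
    apply hle
    rw [hLQ]
    exact h1
  refine ⟨fun x hx g => ?_⟩
  have h1 := zj_inf_normal_aux' hp hst S D hD hg _ rfl _ (Cfsg.pCore p G) hQn hQp rfl g x
    (Subgroup.mem_inf.mpr ⟨hx, hZQ hx⟩)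
  exact (Subgroup.mem_inf.mp h1).1

end Cfsg.Agent.Lib.Helper4.ZJ2
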