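import Mathlib
import Cfsg.Prelude.Def_Transfer
import Cfsg.Prelude.Def_PLocal
import Cfsg.Prelude.Def_TwoFusion
import Cfsg.Agent.Lib.Helper4.PNil
import Cfsg.Agent.Lib.Helper4.PStab
import Cfsg.Agent.Lib.Helper4.ZJ2
import Cfsg.Agent.Lib.Lead.PGroup
import Cfsg.Agent.Lib.Lead.PSolvable
import Cfsg.Agent.Lib.Helper7.SylowLift
import Cfsg.Agent.H1.Card
import Cfsg.Agent.H1.Basic
import Cfsg.Agent.H1.CoprimeAction
import Cfsg.Agent.Lib.Lead.TISylow
import Cfsg.Agent.S0023
import Cfsg.Agent.S3781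
import Cfsg.Agent.H2.SylowExtra

/-!
# The Glauberman–Thompson normal `p`-complement theorem, for a functor `W` and a strongly closed subgroup

`PFunctor p W`: `W` assigns to every subgroup `D` of every (finite) group `X` a subgroup `W X D ≤ D`, nontrivial when
`D` is a nontrivial `p`-group, natural along homomorphisms injective on `D`, and normal in `X` when `D` is strongly
closed in a Sylow `p`-subgroup of `X`, `C_X(O_p(X)) ≤ O_p(X)` and `X` acts `p`-stably on its normal `p`-subgroups.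

Main theorem `gt_main`: for odd `p`, if `N_G(W(D))` has a normal `p`-complement then so does `G`.
-/

set_option autoImplicit false
set_option linter.style.haveILetI false
set_option linter.unusedVariables false
set_option linter.unusedSectionVars false

open scoped commutatorElement

namespace Cfsg.Agent.Lib.Helper4.GT

open Cfsg Cfsg.Agent.Lib.Helper4.PNil Cfsg.Agent.Lib.Lead.Conj

universe u

/-- the properties of the functor `W` that the theorem uses -/
structure PFunctor (p : ℕ) (W : ∀ (X : Type u) [Group X], Subgroup X → Subgroup X) : Prop where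
  le : ∀ (X : Type u) [Group X] [Finite X] (D : Subgroup X), W X D ≤ D
  ne_bot : ∀ (X : Type u) [Group X] [Finite X] (D : Subgroup X), IsPGroup p D → D ≠ ⊥ → W X D ≠ ⊥
  map : ∀ (X Y : Type u) [Group X] [Group Y] [Finite X] [Finite Y] (f : X →* Y) (D : Subgroup X),
    (∀ x ∈ D, f x = 1 → x = 1) → W Y (D.map f) = (W X D).map f
  normal : ∀ (X : Type u) [Group X] [Finite X] (P : Sylow p X) (D : Subgroup X),
    Cfsg.IsStronglyClosed D (P : Subgroup X) →
    Subgroup.centralizer (Cfsg.pCore p X : Set X) ≤ Cfsg.pCore p X →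
    (∀ (V : Subgroup X) [V.Normal], IsPGroup p V → Cfsg.IsPStableOn p V) → (W X D).Normal

/-- the statement of the theorem for the group `X` -/
def GTHolds (p : ℕ) (W : ∀ (X : Type u) [Group X], Subgroup X → Subgroup X) (X : Type u) [Group X] :
    Prop :=
  ∀ (P : Sylow p X) (D : Subgroup X), Cfsg.IsStronglyClosed D (P : Subgroup X) →
    PNil p (Subgroup.normalizer (W X D : Set X)) → PNil p (⊤ : Subgroup X)

section basic

variable {p : ℕ} {W : ∀ (X : Type u) [Group X], Subgroup X → Subgroup X}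
variable {G : Type u} [Group G] [Finite G]

theorem map_conj_eq {D : Subgroup G} {g : G} (hg : g ∈ Subgroup.normalizer (D : Set G)) :
    D.map (MulAut.conj g).toMonoidHom = D :=
  Cfsg.Agent.Lib.Helper4.ZJ.map_conj_eq_of_mem_normalizer hg

theorem W_map_conj (hW : PFunctor p W) (D : Subgroup G) (g : G) :
    W G (D.map (MulAut.conj g).toMonoidHom) = (W G D).map (MulAut.conj g).toMonoidHom :=
  hW.map G G (MulAut.conj g).toMonoidHom D (fun x _ hx => by
    have h1 : (MulAut.conj g) x = 1 := hx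
    exact (map_eq_one_iff (MulAut.conj g) (MulAut.conj g).injective).mp h1)

theorem normalizer_le_normalizer_W (hW : PFunctor p W) (D : Subgroup G) :
    Subgroup.normalizer (D : Set G) ≤ Subgroup.normalizer (W G D : Set G) := by
  intro g hg
  apply mem_normalizer_of_conj_mem
  intro x hx
  have h1 := W_map_conj hW D g
  rw [map_conj_eq hg] at h1
  rw [h1, mem_map_conj]
  have e : g⁻¹ * (g * x * g⁻¹) * g = x := by group
  rw [e]; exact hx

/-- the theorem for a subgroup `L`, in ambient form -/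
theorem gt_sub [Fact p.Prime] (hW : PFunctor p W) {L : Subgroup G} (ih : GTHolds p W ↥L)
    (R D' : Subgroup G) (hRL : R ≤ L) (hRp : IsPGroup p R) (hRi : ¬ p ∣ R.relIndex L) (hD'R : D' ≤ R)
    (hcl : ∀ x ∈ D', ∀ g ∈ L, g * x * g⁻¹ ∈ R → g * x * g⁻¹ ∈ D')
    (hN : PNil p (Subgroup.normalizer (W G D' : Set G))) : PNil p L := by
  have hRp' : IsPGroup p ↥(R.subgroupOf L) := by
    have h1 : R.subgroupOf L = R.comap L.subtype := rfl
    rw [h1]
    exact hRp.comap_of_injective L.subtype L.subtype_injective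
  obtain ⟨PL, hPL⟩ : ∃ PL : Sylow p ↥L, (PL : Subgroup ↥L) = R.subgroupOf L :=
    ⟨hRp'.toSylow hRi, IsPGroup.toSylow_coe _ _⟩
  have hD'L : D' ≤ L := hD'R.trans hRL
  have hcl' : Cfsg.IsStronglyClosed (D'.subgroupOf L) (PL : Subgroup ↥L) := by
    rw [hPL]
    refine ⟨fun x hx => Subgroup.mem_subgroupOf.mpr (hD'R (Subgroup.mem_subgroupOf.mp hx)), ?_⟩
    intro x hx g hg
    rw [Subgroup.mem_subgroupOf] at hx hg ⊢
    exact hcl _ hx _ g.2 hg
  have hmap : (D'.subgroupOf L).map L.subtype = D' := Subgroup.map_subgroupOf_eq_of_le hD'L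
  have hWmap := hW.map ↥L G L.subtype (D'.subgroupOf L) (fun x _ hx => by
    have h1 : L.subtype x = L.subtype 1 := by rw [hx, map_one]
    exact L.subtype_injective h1)
  rw [hmap] at hWmap
  have hWL : W ↥L (D'.subgroupOf L) = (W G D').subgroupOf L := by
    rw [hWmap]
    exact (Subgroup.comap_map_eq_self_of_injective L.subtype_injective _).symm
  have hWle : W G D' ≤ L := (hW.le G D').trans hD'L
  have hNL : PNil p (Subgroup.normalizer (W ↥L (D'.subgroupOf L) : Set ↥L)) := by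
    rw [hWL, ← Subgroup.subgroupOf_normalizer_eq hWle, ← Subgroup.inf_subgroupOf_right,
      pnil_subgroupOf_iff inf_le_right]
    exact pnil_mono inf_le_left hN
  exact (pnil_top_subtype_iff L).mp (ih PL _ hcl' hNL)

end basic

section liftNorm
variable {G : Type u} [Group G] [Finite G] {p : ℕ} [Fact p.Prime]

/-- normalizers of `p`-subgroups lift through quotients by normal `p'`-subgroups (helper1's
`exists_mem_normalizer_map_mk_eq`, repeated here to keep the imports apart) -/
theorem exists_mem_normalizer_lift (K P : Subgroup G) [K.Normal] (hP : IsPGroup p P)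
    (hK : (Nat.card K).Coprime p) {g : G}
    (hg : QuotientGroup.mk' K g ∈ Subgroup.normalizer
      ((P.map (QuotientGroup.mk' K) : Subgroup (G ⧸ K)) : Set (G ⧸ K))) :
    ∃ n ∈ Subgroup.normalizer (P : Set G), QuotientGroup.mk' K n = QuotientGroup.mk' K g := by
  obtain ⟨L, hL⟩ : ∃ L : Subgroup G, L = K ⊔ P := ⟨_, rfl⟩
  have hPL : P ≤ L := by rw [hL]; exact le_sup_right
  have hKL : K ≤ L := by rw [hL]; exact le_sup_left
  have hLcomap : (P.map (QuotientGroup.mk' K)).comap (QuotientGroup.mk' K) = L := by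
    rw [Subgroup.comap_map_eq, QuotientGroup.ker_mk', sup_comm, hL]
  have hgL : g ∈ Subgroup.normalizer (L : Set G) := by
    rw [← hLcomap]
    exact Subgroup.le_normalizer_comap (QuotientGroup.mk' K) hg
  have hinf := Cfsg.Agent.H1.inf_eq_bot_of_pgroup_coprime K P hP hK
  have hcard := Cfsg.Agent.H1.card_sup_mul_card_inf P K (Subgroup.normalizer_eq_top K ▸ le_top)
  rw [inf_comm, hinf, Subgroup.card_bot, mul_one, sup_comm, ← hL] at hcard
  have hP' : IsPGroup p (P.subgroupOf L) := hP.comap_subtype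
  have hidx : ¬ p ∣ (P.subgroupOf L).index := by
    have h1 : (P.subgroupOf L).index * Nat.card P = Nat.card L := by
      have := Cfsg.Agent.H1.card_eq_relIndex_mul_card hPL
      exact this.symm
    rw [hcard] at h1
    have h2 : (P.subgroupOf L).index = Nat.card K :=
      Nat.eq_of_mul_eq_mul_right Nat.card_pos (by rw [h1, mul_comm])
    rw [h2]
    exact (Nat.Prime.coprime_iff_not_dvd Fact.out).1 hK.symm
  obtain ⟨Q, hQ⟩ : ∃ Q : Sylow p ↥L, (Q : Subgroup ↥L) = P.subgroupOf L :=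
    ⟨hP'.toSylow hidx, IsPGroup.toSylow_coe _ _⟩
  have hconjL : ∀ x ∈ P, g * x * g⁻¹ ∈ L := fun x hx =>
    (Subgroup.mem_normalizer_iff.1 hgL x).1 (hPL hx)
  obtain ⟨Pg, hPg⟩ : ∃ Pg : Subgroup G, Pg = P.map (MulAut.conj g).toMonoidHom := ⟨_, rfl⟩
  have hPgp : IsPGroup p Pg := by rw [hPg]; exact hP.map _
  obtain ⟨Q', hQ'⟩ := (hPgp.comap_subtype (K := L)).exists_le_sylow
  obtain ⟨y, hy⟩ := MulAction.exists_smul_eq ↥L Q Q'
  have hmain : ∀ x ∈ P, ((y : G)⁻¹ * g) * x * ((y : G)⁻¹ * g)⁻¹ ∈ P := by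
    intro x hx
    have h1 : (⟨g * x * g⁻¹, hconjL x hx⟩ : ↥L) ∈ (Q' : Subgroup ↥L) := by
      apply hQ'
      show g * x * g⁻¹ ∈ Pg
      rw [hPg]
      exact ⟨x, hx, rfl⟩
    rw [← hy, Cfsg.Agent.Lib.Lead.TISylow.mem_sylow_smul, hQ, Subgroup.mem_subgroupOf] at h1
    have e : ((y : G)⁻¹ * g) * x * ((y : G)⁻¹ * g)⁻¹ = (y : G)⁻¹ * (g * x * g⁻¹) * (y : G) := by group
    rw [e]
    exact h1
  have hyn : (y : G)⁻¹ * g ∈ Subgroup.normalizer (P : Set G) := mem_normalizer_of_conj_mem P _ hmain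
  have hyL : (y : G) ∈ K ⊔ P := by rw [← hL]; exact y.2
  rw [Cfsg.Agent.H1.mem_sup_of_le_normalizer K P (Subgroup.normalizer_eq_top K ▸ le_top)] at hyL
  obtain ⟨k, hk, u, hu, hyku⟩ := hyL
  refine ⟨k⁻¹ * g, ?_, ?_⟩
  · have e : k⁻¹ * g = u * ((y : G)⁻¹ * g) := by rw [hyku]; group
    rw [e]
    exact mul_mem (Subgroup.le_normalizer hu) hyn
  · rw [map_mul, map_inv]
    have : QuotientGroup.mk' K k = 1 := (QuotientGroup.eq_one_iff k).2 hk
    rw [this, inv_one, one_mul]

end liftNorm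

section quot

variable {p : ℕ} {W : ∀ (X : Type u) [Group X], Subgroup X → Subgroup X}
variable {G : Type u} [Group G] [Finite G]

/-- reduction modulo a normal `p'`-subgroup -/
theorem gt_quot_p' [Fact p.Prime] (hW : PFunctor p W) (M : Subgroup G) [hMn : M.Normal]
    (hM : (Nat.card M).Coprime p) (ih : GTHolds p W (G ⧸ M)) (P : Sylow p G) (D : Subgroup G)
    (hD : Cfsg.IsStronglyClosed D (P : Subgroup G))
    (hN : PNil p (Subgroup.normalizer (W G D : Set G))) : PNil p (⊤ : Subgroup G) := by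
  have hs := QuotientGroup.mk'_surjective M
  have hPp : IsPGroup p ↥(P : Subgroup G) := P.isPGroup'
  have hinf : M ⊓ (P : Subgroup G) = ⊥ := Cfsg.Agent.H1.inf_eq_bot_of_pgroup_coprime M P hPp hM
  have hinj : ∀ x ∈ D, QuotientGroup.mk' M x = 1 → x = 1 := by
    intro x hx h1
    rw [QuotientGroup.mk'_apply, QuotientGroup.eq_one_iff] at h1
    have h2 : x ∈ M ⊓ (P : Subgroup G) := ⟨h1, hD.1 hx⟩
    rw [hinf] at h2
    exact Subgroup.mem_bot.mp h2
  have hcl : Cfsg.IsStronglyClosed (D.map (QuotientGroup.mk' M))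
      ((P.mapSurjective hs : Sylow p (G ⧸ M)) : Subgroup (G ⧸ M)) := by
    rw [Sylow.coe_mapSurjective]
    refine ⟨Subgroup.map_mono hD.1, ?_⟩
    rintro _ ⟨x, hx, rfl⟩ gbar hg
    obtain ⟨g, rfl⟩ := hs gbar
    obtain ⟨y, hy, hyg⟩ := hg
    -- `g x g⁻¹ ∈ M P`
    have hgx : g * x * g⁻¹ ∈ M ⊔ (P : Subgroup G) := by
      have h1 : (QuotientGroup.mk' M) (y⁻¹ * (g * x * g⁻¹)) = 1 := by
        rw [map_mul, map_inv, hyg]
        simp only [map_mul, map_inv]
        group
      rw [QuotientGroup.mk'_apply, QuotientGroup.eq_one_iff] at h1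
      have e : g * x * g⁻¹ = y * (y⁻¹ * (g * x * g⁻¹)) := by group
      rw [e]
      exact Subgroup.mul_mem _ (Subgroup.mem_sup_right hy) (Subgroup.mem_sup_left h1)
    have hzp : IsPGroup p ↥(Subgroup.zpowers (g * x * g⁻¹)) := by
      have h1 : Subgroup.zpowers (g * x * g⁻¹) =
          (Subgroup.zpowers x).map (MulAut.conj g).toMonoidHom := by
        rw [MonoidHom.map_zpowers]; rfl
      rw [h1]
      exact (hPp.to_le (Subgroup.zpowers_le.mpr (hD.1 hx))).map _
    obtain ⟨n, hn, hnz⟩ := Cfsg.Agent.Lib.Helper7.exists_conj_le_sylow_of_le_sup P M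
      (Subgroup.zpowers (g * x * g⁻¹)) hzp (Subgroup.zpowers_le.mpr hgx)
    have h2 := hnz _ (Subgroup.mem_zpowers _)
    have e2 : n⁻¹ * (g * x * g⁻¹) * n = (n⁻¹ * g) * x * (n⁻¹ * g)⁻¹ := by group
    rw [e2] at h2
    have h3 := hD.2 x hx (n⁻¹ * g) h2
    refine ⟨(n⁻¹ * g) * x * (n⁻¹ * g)⁻¹, h3, ?_⟩
    have hn1 : (QuotientGroup.mk' M) n = 1 := by
      rw [QuotientGroup.mk'_apply, QuotientGroup.eq_one_iff]; exact hn
    simp only [map_mul, map_inv, hn1, inv_one, one_mul]
  have hWmap := hW.map G (G ⧸ M) (QuotientGroup.mk' M) D hinj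
  have hWp : IsPGroup p ↥(W G D) := hPp.to_le ((hW.le G D).trans hD.1)
  have hNle : Subgroup.normalizer (W (G ⧸ M) (D.map (QuotientGroup.mk' M)) : Set (G ⧸ M)) ≤
      (Subgroup.normalizer (W G D : Set G)).map (QuotientGroup.mk' M) := by
    intro gbar hg
    obtain ⟨g, rfl⟩ := hs gbar
    rw [hWmap] at hg
    obtain ⟨n, hn, hng⟩ := exists_mem_normalizer_lift M (W G D) hWp hM hg
    exact ⟨n, hn, hng⟩
  have hNbar : PNil p (Subgroup.normalizer
      (W (G ⧸ M) (D.map (QuotientGroup.mk' M)) : Set (G ⧸ M))) :=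
    pnil_mono hNle (pnil_map (QuotientGroup.mk' M) hN)
  exact pnil_top_of_quotient M hM (ih (P.mapSurjective hs) _ hcl hNbar)

/-- reduction modulo a normal `p`-subgroup `H`: if the normalizers of the `P`-invariant subgroups of `P` strictly
containing `H` have normal `p`-complements then so does `G ⧸ H` -/
theorem gt_quot_p [Fact p.Prime] (hW : PFunctor p W) (H : Subgroup G) [hHn : H.Normal]
    (ih : GTHolds p W (G ⧸ H)) (P : Sylow p G) (hHP : H ≤ (P : Subgroup G)) (D : Subgroup G)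
    (hD : Cfsg.IsStronglyClosed D (P : Subgroup G)) (hDH : ¬ D ≤ H)
    (hK : ∀ K' : Subgroup G, H ≤ K' → K' ≤ (P : Subgroup G) → K' ≠ H →
      (P : Subgroup G) ≤ Subgroup.normalizer (K' : Set G) →
      PNil p (Subgroup.normalizer (K' : Set G))) :
    PNil p (⊤ : Subgroup (G ⧸ H)) := by
  have hs := QuotientGroup.mk'_surjective H
  have hPp : IsPGroup p ↥(P : Subgroup G) := P.isPGroup'
  have hker : ∀ x : G, QuotientGroup.mk' H x = 1 ↔ x ∈ H := by
    intro x
    rw [QuotientGroup.mk'_apply, QuotientGroup.eq_one_iff]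
  -- preimages of elements of the image of `P` lie in `P`
  have hpre : ∀ x : G, QuotientGroup.mk' H x ∈ (P : Subgroup G).map (QuotientGroup.mk' H) →
      x ∈ (P : Subgroup G) := by
    rintro x ⟨y, hy, hyx⟩
    have h1 : (QuotientGroup.mk' H) (y⁻¹ * x) = 1 := by
      rw [map_mul, map_inv, hyx, inv_mul_cancel]
    rw [hker] at h1
    have e : x = y * (y⁻¹ * x) := by group
    rw [e]
    exact Subgroup.mul_mem _ hy (hHP h1)
  have hcl : Cfsg.IsStronglyClosed (D.map (QuotientGroup.mk' H))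
      ((P.mapSurjective hs : Sylow p (G ⧸ H)) : Subgroup (G ⧸ H)) := by
    rw [Sylow.coe_mapSurjective]
    refine ⟨Subgroup.map_mono hD.1, ?_⟩
    rintro _ ⟨x, hx, rfl⟩ gbar hg
    obtain ⟨g, rfl⟩ := hs gbar
    have h1 : (QuotientGroup.mk' H) g * (QuotientGroup.mk' H) x * ((QuotientGroup.mk' H) g)⁻¹ =
        (QuotientGroup.mk' H) (g * x * g⁻¹) := by
      rw [map_mul, map_mul, map_inv]
    rw [h1] at hg ⊢
    exact ⟨_, hD.2 x hx g (hpre _ hg), rfl⟩
  obtain ⟨Wb, hWb⟩ : ∃ Wb : Subgroup (G ⧸ H), Wb = W (G ⧸ H) (D.map (QuotientGroup.mk' H)) :=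
    ⟨_, rfl⟩
  have hDb : D.map (QuotientGroup.mk' H) ≠ ⊥ := by
    intro h
    apply hDH
    intro x hx
    have h1 : (QuotientGroup.mk' H) x ∈ D.map (QuotientGroup.mk' H) := Subgroup.mem_map_of_mem _ hx
    rw [h, Subgroup.mem_bot, hker] at h1
    exact h1
  have hDbp : IsPGroup p ↥(D.map (QuotientGroup.mk' H)) := (hPp.to_le hD.1).map _
  have hWbne : Wb ≠ ⊥ := by rw [hWb]; exact hW.ne_bot _ _ hDbp hDb
  have hWble : Wb ≤ D.map (QuotientGroup.mk' H) := by rw [hWb]; exact hW.le _ _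
  obtain ⟨K', hK'⟩ : ∃ K' : Subgroup G, K' = Wb.comap (QuotientGroup.mk' H) := ⟨_, rfl⟩
  have hHK' : H ≤ K' := by
    intro x hx
    rw [hK', Subgroup.mem_comap, (hker x).mpr hx]
    exact Wb.one_mem
  have hK'P : K' ≤ (P : Subgroup G) := by
    intro x hx
    rw [hK', Subgroup.mem_comap] at hx
    exact hpre x (Subgroup.map_mono hD.1 (hWble hx))
  have hK'map : K'.map (QuotientGroup.mk' H) = Wb := by
    rw [hK']; exact Subgroup.map_comap_eq_self_of_surjective hs Wb
  have hK'ne : K' ≠ H := by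
    intro h
    apply hWbne
    rw [← hK'map, h, eq_bot_iff]
    rintro _ ⟨x, hx, rfl⟩
    rw [Subgroup.mem_bot, hker]; exact hx
  have hNK' : Subgroup.normalizer (K' : Set G) =
      (Subgroup.normalizer (Wb : Set (G ⧸ H))).comap (QuotientGroup.mk' H) := by
    rw [hK']; exact (Subgroup.comap_normalizer_eq_of_surjective Wb hs).symm
  have hPN : (P : Subgroup G) ≤ Subgroup.normalizer (K' : Set G) := by
    intro x hx
    rw [hNK', Subgroup.mem_comap, hWb]
    apply normalizer_le_normalizer_W hW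
    have h1 := Cfsg.Agent.Lib.Helper4.ZJ2.sylow_le_normalizer_of_stronglyClosed _ _ hcl
    apply h1
    rw [Sylow.coe_mapSurjective]
    exact Subgroup.mem_map_of_mem _ hx
  have h1 := hK K' hHK' hK'P hK'ne hPN
  have h2 : Subgroup.normalizer (Wb : Set (G ⧸ H)) =
      (Subgroup.normalizer (K' : Set G)).map (QuotientGroup.mk' H) := by
    rw [hNK']; exact (Subgroup.map_comap_eq_self_of_surjective hs _).symm
  have h3 : PNil p (Subgroup.normalizer (Wb : Set (G ⧸ H))) := by
    rw [h2]; exact pnil_map _ h1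
  rw [hWb] at h3
  exact ih (P.mapSurjective hs) _ hcl h3

end quot

section stepA

variable {p : ℕ} {W : ∀ (X : Type u) [Group X], Subgroup X → Subgroup X}
variable {G : Type u} [Group G] [Finite G]

theorem pnil_map_equiv_iff (φ : G ≃* G) (L : Subgroup G) :
    PNil p (L.map φ.toMonoidHom) ↔ PNil p L := by
  constructor
  · intro h
    have h1 := pnil_map_equiv φ.symm h
    have h2 : (L.map φ.toMonoidHom).map φ.symm.toMonoidHom = L := by
      ext x
      constructor
      · rintro ⟨_, ⟨y, hy, rfl⟩, rfl⟩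
        have : φ.symm.toMonoidHom (φ.toMonoidHom y) = y := φ.symm_apply_apply y
        rw [this]; exact hy
      · intro hx
        exact ⟨φ x, ⟨x, hx, rfl⟩, φ.symm_apply_apply x⟩
    rw [h2] at h1
    exact h1
  · exact pnil_map_equiv φ

/-- a group with a non-`p`-nilpotent `p`-local subgroup in which the theorem holds for the proper subgroups has a
nontrivial normal `p`-subgroup -/
theorem stepA [Fact p.Prime] (hW : PFunctor p W)
    (ihsub : ∀ L : Subgroup G, L ≠ ⊤ → GTHolds p W ↥L) (P : Sylow p G) (D : Subgroup G)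
    (hD : Cfsg.IsStronglyClosed D (P : Subgroup G)) (hDne : D ≠ ⊥)
    (hN : PNil p (Subgroup.normalizer (W G D : Set G))) (hnot : ¬ PNil p (⊤ : Subgroup G)) :
    ∃ H : Subgroup G, H ≤ (P : Subgroup G) ∧ H ≠ ⊥ ∧ H.Normal := by
  have hp : p.Prime := Fact.out
  have hPp : IsPGroup p ↥(P : Subgroup G) := P.isPGroup'
  obtain ⟨H₀, hH₀P, hH₀ne, hH₀bad⟩ := exists_bad P hnot
  haveI : Nonempty {H : Subgroup G // H ≤ (P : Subgroup G) ∧ H ≠ ⊥ ∧
      ¬ PNil p (Subgroup.normalizer (H : Set G))} := ⟨⟨H₀, hH₀P, hH₀ne, hH₀bad⟩⟩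
  obtain ⟨⟨H, hHP, hHne, hHbad⟩, hmax⟩ := Finite.exists_max
    (fun H : {H : Subgroup G // H ≤ (P : Subgroup G) ∧ H ≠ ⊥ ∧
      ¬ PNil p (Subgroup.normalizer (H : Set G))} =>
      Nat.card ↥((P : Subgroup G) ⊓ Subgroup.normalizer (H.1 : Set G)))
  have hmax' : ∀ H' : Subgroup G, H' ≤ (P : Subgroup G) → H' ≠ ⊥ →
      ¬ PNil p (Subgroup.normalizer (H' : Set G)) →
      Nat.card ↥((P : Subgroup G) ⊓ Subgroup.normalizer (H' : Set G)) ≤
        Nat.card ↥((P : Subgroup G) ⊓ Subgroup.normalizer (H : Set G)) :=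
    fun H' h1 h2 h3 => hmax ⟨H', h1, h2, h3⟩
  obtain ⟨N, hNdef⟩ : ∃ N : Subgroup G, N = Subgroup.normalizer (H : Set G) := ⟨_, rfl⟩
  obtain ⟨R, hRdef⟩ : ∃ R : Subgroup G, R = (P : Subgroup G) ⊓ N := ⟨_, rfl⟩
  rw [← hNdef] at hHbad
  rw [← hNdef, ← hRdef] at hmax'
  have hRP : R ≤ (P : Subgroup G) := by rw [hRdef]; exact inf_le_left
  have hRN : R ≤ N := by rw [hRdef]; exact inf_le_right
  have hHN : H ≤ N := by rw [hNdef]; exact Subgroup.le_normalizer
  have hHR : H ≤ R := by rw [hRdef]; exact le_inf hHP hHN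
  have hRp : IsPGroup p ↥R := hPp.to_le hRP
  have hPD : (P : Subgroup G) ≤ Subgroup.normalizer (D : Set G) :=
    Cfsg.Agent.Lib.Helper4.ZJ2.sylow_le_normalizer_of_stronglyClosed _ _ hD
  -- C2: `R` is a Sylow subgroup of `N`
  have hRi : ¬ p ∣ R.relIndex N := by
    have hRp' : IsPGroup p ↥(R.subgroupOf N) := by
      have h1 : R.subgroupOf N = R.comap N.subtype := rfl
      rw [h1]
      exact hRp.comap_of_injective N.subtype N.subtype_injective
    obtain ⟨S, hS⟩ := hRp'.exists_le_sylow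
    obtain ⟨S', hS'⟩ : ∃ S' : Subgroup G, S' = (S : Subgroup ↥N).map N.subtype := ⟨_, rfl⟩
    have hS'N : S' ≤ N := by rw [hS']; exact Subgroup.map_subtype_le _
    have hS'p : IsPGroup p ↥S' := by rw [hS']; exact S.isPGroup'.map _
    have hRS' : R ≤ S' := by
      intro x hx
      rw [hS']
      exact ⟨⟨x, hRN hx⟩, hS (Subgroup.mem_subgroupOf.mpr hx), rfl⟩
    obtain ⟨g, -, hg⟩ := Cfsg.Agent.H2.exists_conj_le_sylow_of_le P ⊤ le_top S' hS'p le_top
    have hH'P : H.map (MulAut.conj g).toMonoidHom ≤ (P : Subgroup G) :=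
      (Subgroup.map_mono (hHR.trans hRS')).trans hg
    have hH'ne : H.map (MulAut.conj g).toMonoidHom ≠ ⊥ := by
      intro h
      apply hHne
      exact (Subgroup.map_eq_bot_iff_of_injective H (MulAut.conj g).injective).mp h
    have hNH' : Subgroup.normalizer ((H.map (MulAut.conj g).toMonoidHom : Subgroup G) : Set G) =
        N.map (MulAut.conj g).toMonoidHom := by
      rw [hNdef]; exact (Subgroup.map_equiv_normalizer_eq H (MulAut.conj g)).symm
    have hH'bad : ¬ PNil p (Subgroup.normalizer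
        ((H.map (MulAut.conj g).toMonoidHom : Subgroup G) : Set G)) := by
      rw [hNH', pnil_map_equiv_iff]; exact hHbad
    have h1 := hmax' _ hH'P hH'ne hH'bad
    have h2 : S'.map (MulAut.conj g).toMonoidHom ≤ (P : Subgroup G) ⊓ Subgroup.normalizer
        ((H.map (MulAut.conj g).toMonoidHom : Subgroup G) : Set G) := by
      rw [hNH']; exact le_inf hg (Subgroup.map_mono hS'N)
    have h3 : Nat.card ↥S' ≤ Nat.card ↥R := by
      rw [← card_map_conj S' g]
      exact (Subgroup.card_le_of_le h2).trans h1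
    have h4 : R = S' := Subgroup.eq_of_le_of_card_ge hRS' h3
    have h5 : R.subgroupOf N = (S : Subgroup ↥N) := by
      rw [h4, hS']
      exact Subgroup.comap_map_eq_self_of_injective N.subtype_injective _
    show ¬ p ∣ (R.subgroupOf N).index
    rw [h5]
    exact S.not_dvd_index
  -- C3: `R = P`
  have hRP' : R = (P : Subgroup G) := by
    by_contra hne
    have hNtop : N ≠ ⊤ := by
      intro h
      apply hne
      rw [hRdef, h, inf_top_eq]
    -- `D ⊓ R` is nontrivial
    have hDR : D ⊓ R ≠ ⊥ := by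
      haveI : (D.subgroupOf (P : Subgroup G)).Normal :=
        (Subgroup.normal_subgroupOf_iff_le_normalizer hD.1).mpr hPD
      have hne' : D.subgroupOf (P : Subgroup G) ≠ ⊥ := by
        intro h
        apply hDne
        rw [Subgroup.subgroupOf_eq_bot, disjoint_iff, inf_eq_left.mpr hD.1] at h
        exact h
      obtain ⟨z, hzD, hzZ, hz1⟩ :=
        Cfsg.Agent.Lib.Lead.PGroup.exists_mem_center_of_normal hPp _ hne'
      intro hbot
      apply hz1
      have hzN : (z : G) ∈ N := by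
        rw [hNdef]
        apply mem_normalizer_of_conj_mem
        intro h hh
        have h1 := Subgroup.mem_center_iff.mp hzZ ⟨h, hHP hh⟩
        have h2 : h * (z : G) = (z : G) * h := congrArg Subtype.val h1
        rw [← h2, mul_inv_cancel_right]
        exact hh
      have h3 : (z : G) ∈ D ⊓ R := by
        rw [hRdef]
        exact ⟨Subgroup.mem_subgroupOf.mp hzD, z.2, hzN⟩
      rw [hbot, Subgroup.mem_bot] at h3
      exact Subtype.ext h3
    -- the normalizer of `W(D ⊓ R)` is `p`-nilpotent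
    have hNW : PNil p (Subgroup.normalizer (W G (D ⊓ R) : Set G)) := by
      by_contra hbad
      have hWP : W G (D ⊓ R) ≤ (P : Subgroup G) := (hW.le G _).trans (inf_le_right.trans hRP)
      have hWne : W G (D ⊓ R) ≠ ⊥ := hW.ne_bot G _ (hRp.to_le inf_le_right) hDR
      have h1 := hmax' _ hWP hWne hbad
      -- `N_P(R)` normalizes `W(D ⊓ R)`
      have h2 : (P : Subgroup G) ⊓ Subgroup.normalizer (R : Set G) ≤
          (P : Subgroup G) ⊓ Subgroup.normalizer (W G (D ⊓ R) : Set G) := by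
        refine le_inf inf_le_left ?_
        intro x hx
        apply normalizer_le_normalizer_W hW
        apply mem_normalizer_of_conj_mem
        intro y hy
        exact ⟨(Subgroup.mem_normalizer_iff.mp (hPD hx.1) y).mp hy.1,
          (Subgroup.mem_normalizer_iff.mp hx.2 y).mp hy.2⟩
      -- normalizers grow in `P`
      have h3 : Nat.card ↥R < Nat.card ↥((P : Subgroup G) ⊓ Subgroup.normalizer (R : Set G)) := by
        haveI : Group.IsNilpotent ↥(P : Subgroup G) := hPp.isNilpotent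
        have hnc := Group.normalizerCondition_of_isNilpotent (G := ↥(P : Subgroup G))
        have hlt : R.subgroupOf (P : Subgroup G) < ⊤ := by
          rw [lt_top_iff_ne_top]
          intro h
          apply hne
          exact le_antisymm hRP (Subgroup.subgroupOf_eq_top.mp h)
        have h4 := hnc _ hlt
        rw [← Subgroup.subgroupOf_normalizer_eq hRP] at h4
        have h5 := Cfsg.Agent.S0651.card_lt_of_lt h4
        rw [Cfsg.Agent.Lib.Helper7.card_subgroupOf_of_le hRP, ← Subgroup.inf_subgroupOf_right,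
          Cfsg.Agent.Lib.Helper7.card_subgroupOf_of_le inf_le_right, inf_comm] at h5
        exact h5
      exact absurd ((Subgroup.card_le_of_le h2).trans h1) (not_le.mpr h3)
    apply hHbad
    apply gt_sub hW (ihsub N hNtop) R (D ⊓ R) hRN hRp hRi inf_le_right ?_ hNW
    intro x hx g hg hgx
    exact ⟨hD.2 x hx.1 g (hRP hgx), hgx⟩
  -- C4: `N = ⊤`
  have hNtop : N = ⊤ := by
    by_contra hne
    apply hHbad
    rw [hRP'] at hRi hRN
    apply gt_sub hW (ihsub N hne) (P : Subgroup G) D hRN hPp hRi hD.1 ?_ hN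
    intro x hx g hg hgx
    exact hD.2 x hx g hgx
  refine ⟨H, hHP, hHne, ?_⟩
  rw [hNdef] at hNtop
  exact Subgroup.normalizer_eq_top_iff.mp hNtop

end stepA

section endgame

variable {p : ℕ}
variable {G : Type u} [Group G] [Finite G]

/-- a `P`-invariant subgroup between `H` and `K₁` is `H` or `K₁` -/
theorem star [Fact p.Prime] (P : Sylow p G) (H K₁ : Subgroup G) [hHn : H.Normal] [hKn : K₁.Normal]
    (hHK : H ≤ K₁) (hHp : IsPGroup p ↥H) (hcop : (H.relIndex K₁).Coprime p)
    (hC : Subgroup.centralizer (H : Set G) ≤ H)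
    (hP : ∀ L : Subgroup G, (P : Subgroup G) ≤ L → L ≠ ⊤ → PNil p L)
    (X : Subgroup G) (hHX : H ≤ X) (hXK : X ≤ K₁)
    (hPX : (P : Subgroup G) ≤ Subgroup.normalizer (X : Set G)) (hne : X ≠ K₁) : X = H := by
  have hp : p.Prime := Fact.out
  have hmul : H.relIndex X * X.relIndex K₁ = H.relIndex K₁ :=
    Subgroup.relIndex_mul_relIndex H X K₁ hHX hXK
  have hLtop : X ⊔ (P : Subgroup G) ≠ ⊤ := by
    intro hL
    have hXn : X.Normal := by
      apply Subgroup.normalizer_eq_top_iff.mp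
      rw [eq_top_iff, ← hL]
      exact sup_le Subgroup.le_normalizer hPX
    have h1 : X.index = X.relIndex (P : Subgroup G) := by
      rw [← Subgroup.relIndex_top_right, ← hL]
      exact @Subgroup.relIndex_sup_left _ _ (P : Subgroup G) X hXn
    obtain ⟨n, hn⟩ := P.isPGroup'.exists_card_eq
    have h2 : X.index ∣ p ^ n := by
      rw [h1, ← hn]; exact Subgroup.relIndex_dvd_card X (P : Subgroup G)
    have h3 : X.relIndex K₁ ∣ p ^ n :=
      dvd_trans (Dvd.intro _ (Subgroup.relIndex_mul_index hXK)) h2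
    have h4 : (X.relIndex K₁).Coprime (p ^ n) :=
      Nat.Coprime.pow_right n (Nat.Coprime.coprime_dvd_left (Dvd.intro_left _ hmul) hcop)
    have h5 : X.relIndex K₁ = 1 := Nat.Coprime.eq_one_of_dvd h4 h3
    exact hne (le_antisymm hXK (Subgroup.relIndex_eq_one.mp h5))
  obtain ⟨M₁, hM₁L, hLn, hM₁c, j, hj⟩ := hP _ le_sup_right hLtop
  have hHL : H ≤ X ⊔ (P : Subgroup G) := hHX.trans le_sup_left
  have hinf : M₁ ⊓ H = ⊥ := Cfsg.Agent.H1.inf_eq_bot_of_pgroup_coprime M₁ H hHp hM₁c
  have hM₁C : M₁ ≤ Subgroup.centralizer (H : Set G) := by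
    intro m hm
    rw [Subgroup.mem_centralizer_iff]
    intro h hh
    have h1 : m * h * m⁻¹ * h⁻¹ ∈ H := H.mul_mem (hHn.conj_mem h hh m) (H.inv_mem hh)
    have h2 : m * h * m⁻¹ * h⁻¹ ∈ M₁ := by
      have hhn : h ∈ Subgroup.normalizer (M₁ : Set G) := hLn (hHL hh)
      have h3 : h * m⁻¹ * h⁻¹ ∈ M₁ := (Subgroup.mem_normalizer_iff.mp hhn m⁻¹).mp (M₁.inv_mem hm)
      have e : m * h * m⁻¹ * h⁻¹ = m * (h * m⁻¹ * h⁻¹) := by group
      rw [e]; exact M₁.mul_mem hm h3
    have h4 : m * h * m⁻¹ * h⁻¹ ∈ M₁ ⊓ H := ⟨h2, h1⟩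
    rw [hinf, Subgroup.mem_bot] at h4
    calc h * m = (m * h * m⁻¹ * h⁻¹)⁻¹ * (m * h) := by group
      _ = m * h := by rw [h4, inv_one, one_mul]
  have hM₁bot : M₁ = ⊥ := by
    rw [eq_bot_iff, ← hinf]
    exact le_inf le_rfl (hM₁C.trans hC)
  rw [hM₁bot, Subgroup.relIndex_bot_left] at hj
  have h6 : Nat.card ↥X ∣ p ^ j := by
    rw [← hj]; exact Subgroup.card_dvd_of_le le_sup_left
  have h7 : H.relIndex X ∣ p ^ j := dvd_trans (Subgroup.relIndex_dvd_card H X) h6
  have h8 : (H.relIndex X).Coprime (p ^ j) :=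
    Nat.Coprime.pow_right j (Nat.Coprime.coprime_dvd_left (Dvd.intro _ hmul) hcop)
  have h9 : H.relIndex X = 1 := Nat.Coprime.eq_one_of_dvd h8 h7
  exact le_antisymm (Subgroup.relIndex_eq_one.mp h9) hHX

/-- the normal `p`-complement of `G ⧸ H` is abelian -/
theorem endgame [Fact p.Prime] (P : Sylow p G) (H : Subgroup G) [hHn : H.Normal]
    (hHp : IsPGroup p ↥H) (hC : Subgroup.centralizer (H : Set G) ≤ H)
    (hP : ∀ L : Subgroup G, (P : Subgroup G) ≤ L → L ≠ ⊤ → PNil p L)
    (Mb : Subgroup (G ⧸ H)) [hMn : Mb.Normal] (hMc : (Nat.card ↥Mb).Coprime p) :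
    ⁅Mb, Mb⁆ = ⊥ := by
  have hp : p.Prime := Fact.out
  have hs := QuotientGroup.mk'_surjective H
  have hker : ∀ x : G, QuotientGroup.mk' H x = 1 ↔ x ∈ H := by
    intro x
    rw [QuotientGroup.mk'_apply, QuotientGroup.eq_one_iff]
  obtain ⟨K₁, hK₁⟩ : ∃ K₁ : Subgroup G, K₁ = Mb.comap (QuotientGroup.mk' H) := ⟨_, rfl⟩
  haveI hK₁n : K₁.Normal := by rw [hK₁]; exact hMn.comap _
  have hHcomap : Subgroup.comap (QuotientGroup.mk' H) ⊥ = H := by
    ext x
    rw [Subgroup.mem_comap, Subgroup.mem_bot, hker]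
  have hHle : ∀ Xb : Subgroup (G ⧸ H), H ≤ Xb.comap (QuotientGroup.mk' H) := by
    intro Xb x hx
    rw [Subgroup.mem_comap, (hker x).mpr hx]
    exact Xb.one_mem
  have hHK : H ≤ K₁ := by
    rw [hK₁]; exact hHle Mb
  have hK₁map : K₁.map (QuotientGroup.mk' H) = Mb := by
    rw [hK₁]; exact Subgroup.map_comap_eq_self_of_surjective hs Mb
  have hrel : H.relIndex K₁ = Nat.card ↥Mb := by
    have h1 : (Subgroup.comap (QuotientGroup.mk' H) ⊥).relIndex K₁ = Nat.card ↥Mb := by
      rw [Subgroup.relIndex_comap, hK₁map, Subgroup.relIndex_bot_left]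
    rw [hHcomap] at h1
    exact h1
  have hcop : (H.relIndex K₁).Coprime p := by rw [hrel]; exact hMc
  -- `P`-invariant subgroups of `Mb`
  have hstar : ∀ Xb : Subgroup (G ⧸ H), Xb ≤ Mb →
      (P : Subgroup G).map (QuotientGroup.mk' H) ≤ Subgroup.normalizer (Xb : Set (G ⧸ H)) →
      Xb ≠ Mb → Xb = ⊥ := by
    intro Xb hXM hPX hne
    have hX : Xb.comap (QuotientGroup.mk' H) = H := by
      apply star P H K₁ hHK hHp hcop hC hP
      · exact hHle Xb
      · rw [hK₁]; exact Subgroup.comap_mono hXM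
      · intro x hx
        rw [← Subgroup.comap_normalizer_eq_of_surjective Xb hs, Subgroup.mem_comap]
        exact hPX (Subgroup.mem_map_of_mem _ hx)
      · intro h
        apply hne
        rw [← Subgroup.map_comap_eq_self_of_surjective hs Xb, h, hK₁map]
    rw [← Subgroup.map_comap_eq_self_of_surjective hs Xb, hX, eq_bot_iff]
    rintro _ ⟨x, hx, rfl⟩
    rw [Subgroup.mem_bot, hker]; exact hx
  by_cases hMbot : Mb = ⊥
  · rw [hMbot, eq_bot_iff]
    exact Subgroup.commutator_le_left ⊥ ⊥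
  -- a prime divisor of the order of `Mb`
  have hcard1 : Nat.card ↥Mb ≠ 1 := by
    intro h
    exact hMbot (Subgroup.card_eq_one.mp h)
  obtain ⟨q, hq, hqdvd⟩ := Nat.exists_prime_and_dvd hcard1
  haveI : Fact q.Prime := ⟨hq⟩
  have hPbp : IsPGroup p ↥((P : Subgroup G).map (QuotientGroup.mk' H)) := P.isPGroup'.map _
  have hcopPM : (Nat.card ↥((P : Subgroup G).map (QuotientGroup.mk' H))).Coprime (Nat.card ↥Mb) := by
    obtain ⟨n, hn⟩ := hPbp.exists_card_eq
    rw [hn]
    exact (Nat.Coprime.pow_right n hMc).symm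
  haveI : Group.IsNilpotent ↥((P : Subgroup G).map (QuotientGroup.mk' H)) := hPbp.isNilpotent
  have hPMn : (P : Subgroup G).map (QuotientGroup.mk' H) ≤ Subgroup.normalizer (Mb : Set (G ⧸ H)) := by
    rw [Subgroup.normalizer_eq_top_iff.mpr hMn]; exact le_top
  obtain ⟨Q, hQ⟩ := Cfsg.Agent.S0023.result _ Mb hPMn hcopPM (Or.inl inferInstance) q
  have hQM : (Q : Subgroup ↥Mb).map Mb.subtype = Mb := by
    by_contra hne
    have h1 := hstar _ (Subgroup.map_subtype_le _) hQ hne
    have h2 : (Q : Subgroup ↥Mb) = ⊥ :=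
      (Subgroup.map_eq_bot_iff_of_injective _ Mb.subtype_injective).mp h1
    exact Q.ne_bot_of_dvd_card hqdvd h2
  have hMq : IsPGroup q ↥Mb := by
    intro m
    have hm : m ∈ (Q : Subgroup ↥Mb) := by
      have h1 : (m : G ⧸ H) ∈ (Q : Subgroup ↥Mb).map Mb.subtype := by rw [hQM]; exact m.2
      obtain ⟨m', hm', hmm⟩ := h1
      have : m' = m := Subtype.ext hmm
      rw [← this]; exact hm'
    obtain ⟨k, hk⟩ := Q.isPGroup' ⟨m, hm⟩
    refine ⟨k, ?_⟩
    have h2 := congrArg Subtype.val hk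
    simpa using h2
  haveI : Group.IsNilpotent ↥Mb := hMq.isNilpotent
  haveI hCn : (⁅Mb, Mb⁆).Normal := Subgroup.commutator_normal Mb Mb
  have hCM : ⁅Mb, Mb⁆ ≤ Mb := Subgroup.commutator_le_left Mb Mb
  by_contra hne
  have hCeq : ⁅Mb, Mb⁆ = Mb := by
    by_contra hne2
    apply hne
    apply hstar _ hCM _ hne2
    rw [Subgroup.normalizer_eq_top_iff.mpr hCn]; exact le_top
  have htop : (⊤ : Subgroup ↥Mb).map Mb.subtype = Mb := by
    rw [← MonoidHom.range_eq_map, Subgroup.range_subtype]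
  have h1 : (⁅(⊤ : Subgroup ↥Mb), (⊤ : Subgroup ↥Mb)⁆).map Mb.subtype =
      (⊤ : Subgroup ↥Mb).map Mb.subtype := by
    rw [Subgroup.map_commutator, htop, hCeq]
  have h2 : ⁅(⊤ : Subgroup ↥Mb), (⊤ : Subgroup ↥Mb)⁆ = ⊤ :=
    Subgroup.map_injective Mb.subtype_injective h1
  have h3 : (⊤ : Subgroup ↥Mb) = ⊥ := Cfsg.Agent.S3781.eq_bot_of_cg_eq ⊤ h2
  apply hMbot
  rw [← htop, h3, Subgroup.map_bot]

end endgame

section main

variable {p : ℕ} {W : ∀ (X : Type u) [Group X], Subgroup X → Subgroup X}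

theorem card_quotient_lt {G : Type u} [Group G] [Finite G] (M : Subgroup G) [M.Normal]
    (hM : M ≠ ⊥) : Nat.card (G ⧸ M) < Nat.card G := by
  have h1 : Nat.card (G ⧸ M) = M.index := rfl
  have h2 := Subgroup.card_mul_index M
  have h3 : 1 < Nat.card ↥M := by
    have : Nat.card ↥M ≠ 1 := fun h => hM (Subgroup.card_eq_one.mp h)
    have hpos : 0 < Nat.card ↥M := Nat.card_pos
    omega
  have h4 : 0 < M.index := Nat.pos_of_ne_zero Subgroup.index_ne_zero_of_finite
  rw [h1]
  nlinarith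

theorem card_subgroup_lt {G : Type u} [Group G] [Finite G] (L : Subgroup G) (hL : L ≠ ⊤) :
    Nat.card ↥L < Nat.card G := by
  have h2 := Subgroup.card_mul_index L
  have h3 : L.index ≠ 1 := fun h => hL (Subgroup.index_eq_one.mp h)
  have h4 : 0 < L.index := Nat.pos_of_ne_zero Subgroup.index_ne_zero_of_finite
  have h5 : 0 < Nat.card ↥L := Nat.card_pos
  have h6 : 2 ≤ L.index := by omega
  nlinarith

/-- **Glauberman–Thompson normal `p`-complement theorem** for a functor `W`, by induction on the order -/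
theorem gt_all [Fact p.Prime] (hp2 : p ≠ 2) (hW : PFunctor p W) :
    ∀ n : ℕ, ∀ (G : Type u) [Group G] [Finite G], Nat.card G = n → GTHolds p W G := by
  intro n
  induction n using Nat.strong_induction_on with
  | _ n ih =>
  intro G _ _ hn P D hD hN
  by_contra hnot
  have hPp : IsPGroup p ↥(P : Subgroup G) := P.isPGroup'
  have ihsub : ∀ L : Subgroup G, L ≠ ⊤ → GTHolds p W ↥L := by
    intro L hL
    exact ih (Nat.card ↥L) (by rw [← hn]; exact card_subgroup_lt L hL) ↥L rfl
  have ihquot : ∀ (M : Subgroup G) [M.Normal], M ≠ ⊥ → GTHolds p W (G ⧸ M) := by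
    intro M _ hM
    exact ih (Nat.card (G ⧸ M)) (by rw [← hn]; exact card_quotient_lt M hM) (G ⧸ M) rfl
  have hDne : D ≠ ⊥ := by
    intro h
    apply hnot
    have h1 : W G D = ⊥ := by
      have h2 := hW.le G D
      rw [h] at h2 ⊢
      exact eq_bot_iff.mpr h2
    rw [h1] at hN
    have h3 : Subgroup.normalizer ((⊥ : Subgroup G) : Set G) = ⊤ :=
      Subgroup.normalizer_eq_top_iff.mpr inferInstance
    rw [h3] at hN
    exact hN
  obtain ⟨H₀, hH₀P, hH₀ne, hH₀n⟩ := stepA hW ihsub P D hD hDne hN hnot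
  obtain ⟨H, hHdef⟩ : ∃ H : Subgroup G, H = Cfsg.pCore p G := ⟨_, rfl⟩
  haveI hHn : H.Normal := by rw [hHdef]; exact Cfsg.Agent.H9.pCore_normal p G
  have hHp : IsPGroup p ↥H := by rw [hHdef]; exact Cfsg.Agent.H9.pCore_isPGroup p G
  have hHP : H ≤ (P : Subgroup G) := hHp.le_sylow_of_normal P
  have hle_H : ∀ (V : Subgroup G) [V.Normal], IsPGroup p ↥V → V ≤ H := by
    intro V _ hV
    rw [hHdef]; exact Cfsg.Agent.H9.le_pCore V hV
  have hHne : H ≠ ⊥ := by
    intro h
    apply hH₀ne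
    haveI := hH₀n
    have := hle_H H₀ (hPp.to_le hH₀P)
    rw [h] at this
    exact eq_bot_iff.mpr this
  have ihP : ∀ L : Subgroup G, (P : Subgroup G) ≤ L → L ≠ ⊤ → PNil p L := by
    intro L hPL hL
    apply gt_sub hW (ihsub L hL) (P : Subgroup G) D hPL hPp ?_ hD.1 ?_ hN
    · intro hdvd
      exact P.not_dvd_index (dvd_trans hdvd (Subgroup.relIndex_dvd_index_of_le hPL))
    · intro x hx g _ hgx
      exact hD.2 x hx g hgx
  have hO : Cfsg.pPrimeCore p G = ⊥ := by
    by_contra hne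
    apply hnot
    exact gt_quot_p' hW (Cfsg.pPrimeCore p G) (Cfsg.Agent.H1.pPrimeCore_coprime p)
      (ihquot _ hne) P D hD hN
  have hK : ∀ K' : Subgroup G, H ≤ K' → K' ≤ (P : Subgroup G) → K' ≠ H →
      (P : Subgroup G) ≤ Subgroup.normalizer (K' : Set G) →
      PNil p (Subgroup.normalizer (K' : Set G)) := by
    intro K' hHK' hK'P hne hPK'
    apply ihP _ hPK'
    intro htop
    apply hne
    haveI : K'.Normal := Subgroup.normalizer_eq_top_iff.mp htop
    exact le_antisymm (hle_H K' (hPp.to_le hK'P)) hHK'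
  have hDH : ¬ D ≤ H := by
    intro hle
    apply hnot
    have hDn : Subgroup.normalizer (D : Set G) = ⊤ := by
      rw [eq_top_iff]
      intro g _
      apply mem_normalizer_of_conj_mem
      intro x hx
      exact hD.2 x hx g (hHP (hHn.conj_mem x (hle hx) g))
    have h1 := normalizer_le_normalizer_W hW D
    rw [hDn] at h1
    rw [top_le_iff.mp h1] at hN
    exact hN
  have hQ : PNil p (⊤ : Subgroup (G ⧸ H)) :=
    gt_quot_p hW H (ihquot H hHne) P hHP D hD hDH hK
  obtain ⟨Mb, -, hMbn, hMbc, k, hMbk⟩ := hQ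
  haveI hMn : Mb.Normal := Subgroup.normalizer_eq_top_iff.mp (top_le_iff.mp hMbn)
  have hs := QuotientGroup.mk'_surjective H
  have hker : ∀ x : G, QuotientGroup.mk' H x = 1 ↔ x ∈ H := by
    intro x
    rw [QuotientGroup.mk'_apply, QuotientGroup.eq_one_iff]
  obtain ⟨K₁, hK₁⟩ : ∃ K₁ : Subgroup G, K₁ = Mb.comap (QuotientGroup.mk' H) := ⟨_, rfl⟩
  haveI hK₁n : K₁.Normal := by rw [hK₁]; exact hMn.comap _
  have hHK : H ≤ K₁ := by
    intro x hx
    rw [hK₁, Subgroup.mem_comap, (hker x).mpr hx]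
    exact Mb.one_mem
  have hHcomap : Subgroup.comap (QuotientGroup.mk' H) ⊥ = H := by
    ext x
    rw [Subgroup.mem_comap, Subgroup.mem_bot, hker]
  have hK₁map : K₁.map (QuotientGroup.mk' H) = Mb := by
    rw [hK₁]; exact Subgroup.map_comap_eq_self_of_surjective hs Mb
  have hrel : H.relIndex K₁ = Nat.card ↥Mb := by
    have h1 : (Subgroup.comap (QuotientGroup.mk' H) ⊥).relIndex K₁ = Nat.card ↥Mb := by
      rw [Subgroup.relIndex_comap, hK₁map, Subgroup.relIndex_bot_left]
    rw [hHcomap] at h1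
    exact h1
  have hcop : (H.relIndex K₁).Coprime p := by rw [hrel]; exact hMbc
  have hidx : K₁.index = p ^ k := by
    rw [hK₁, Subgroup.index_comap_of_surjective Mb hs, ← Subgroup.relIndex_top_right]
    exact hMbk
  -- `G` is `p`-solvable
  have hsol : Cfsg.IsPSolvable p G := by
    refine ⟨3, ![⊥, H, K₁, ⊤], rfl, rfl, ?_, ?_, ?_⟩
    · rw [Fin.monotone_iff_le_succ]
      intro i
      fin_cases i
      · exact bot_le
      · exact hHK
      · exact le_top
    · intro i
      fin_cases i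
      · show (⊥ : Subgroup G).Normal; infer_instance
      · exact hHn
      · exact hK₁n
      · show (⊤ : Subgroup G).Normal; infer_instance
    · intro i
      fin_cases i
      · left
        obtain ⟨m, hm⟩ := hHp.exists_card_eq
        refine ⟨m, ?_⟩
        show (⊥ : Subgroup G).relIndex H = p ^ m
        rw [Subgroup.relIndex_bot_left]; exact hm
      · right
        exact hcop
      · left
        refine ⟨k, ?_⟩
        show K₁.relIndex ⊤ = p ^ k
        rw [Subgroup.relIndex_top_right]; exact hidx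
  have hC : Subgroup.centralizer (H : Set G) ≤ H := by
    rw [hHdef]
    exact Cfsg.Agent.Lib.Lead.PSolvable.centralizer_pCore_le hsol hO
  have hab := endgame P H hHp hC ihP Mb hMbc
  have hab' : ⁅K₁, K₁⁆ ≤ H := by
    rw [Subgroup.commutator_le]
    intro a ha b hb
    rw [← hker, map_commutatorElement]
    have h1 : ⁅(QuotientGroup.mk' H) a, (QuotientGroup.mk' H) b⁆ ∈ ⁅Mb, Mb⁆ := by
      apply Subgroup.commutator_mem_commutator
      · rw [hK₁] at ha; exact ha
      · rw [hK₁] at hb; exact hb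
    rw [hab, Subgroup.mem_bot] at h1
    exact h1
  have hst : ∀ (V : Subgroup G) [V.Normal], IsPGroup p ↥V → Cfsg.IsPStableOn p V := by
    intro V _ hV
    exact Cfsg.Agent.Lib.Helper4.PStab.isPStableOn_of_series hp2 H K₁ hHK hHp hcop hab' ⟨k, hidx⟩ V
      (hle_H V hV)
  have hC' : Subgroup.centralizer (Cfsg.pCore p G : Set G) ≤ Cfsg.pCore p G := by
    rw [← hHdef]; exact hC
  haveI hWn := hW.normal G P D hD hC' hst
  apply hnot
  rw [Subgroup.normalizer_eq_top_iff.mpr hWn] at hN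
  exact hN

/-- **Glauberman–Thompson normal `p`-complement theorem** for a functor `W` and a strongly closed subgroup `D` -/
theorem gt_main [Fact p.Prime] (hp2 : p ≠ 2) (hW : PFunctor p W) (G : Type u) [Group G] [Finite G]
    (P : Sylow p G) (D : Subgroup G) (hD : Cfsg.IsStronglyClosed D (P : Subgroup G))
    (hN : Cfsg.HasNormalPComplement p ↥(Subgroup.normalizer (W G D : Set G))) :
    Cfsg.HasNormalPComplement p G := by
  rw [← pnil_top_iff]
  rw [← pnil_iff_hasNormalPComplement] at hN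
  exact gt_all hp2 hW (Nat.card G) G rfl P D hD hN

end main

end Cfsg.Agent.Lib.Helper4.GT
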