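import Mathlib
import Cfsg.Agent.Lib.Helper4.GT
import Cfsg.Agent.S0653
import Cfsg.Agent.S0654
import Cfsg.Agent.H1.ZJFactor
import Cfsg.Agent.H1.ZJLocal

/-!
# The functors `Z(J(D))` (abelian version) and `Ω₁(Z(J_e(D)))` satisfy the hypotheses of the Glauberman–Thompson theorem
-/

set_option autoImplicit false
set_option linter.style.haveILetI false
set_option linter.unusedVariables false
set_option linter.unusedSectionVars false

namespace Cfsg.Agent.Lib.Helper4.GTZJ

open Cfsg Cfsg.Agent.Lib.Helper4.ZJ Cfsg.Agent.Lib.Helper4.ZJ2 Cfsg.Agent.Lib.Helper4.GT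

universe u

/-- naturality of `zj` along a homomorphism injective on `P` -/
theorem zj_map {X Y : Type*} [Group X] [Group Y] [Finite X] [Finite Y]
    {goodX : Subgroup X → Prop} {goodY : Subgroup Y → Prop} (hgX : GoodProp goodX)
    (f : X →* Y) (P : Subgroup X) (hinj : ∀ x ∈ P, f x = 1 → x = 1)
    (h1 : ∀ A ∈ fam goodX P, A.map f ∈ fam goodY (P.map f))
    (h2 : ∀ B ∈ fam goodY (P.map f), B.comap f ⊓ P ∈ fam goodX P) :
    zj goodY (P.map f) = (zj goodX P).map f := by
  apply le_antisymm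
  · intro y hy
    unfold zj at hy ⊢
    rw [Subgroup.mem_sInf] at hy
    obtain ⟨A₀, hA₀⟩ := fam_nonempty hgX P
    obtain ⟨x₀, hx₀, rfl⟩ := hy _ (h1 A₀ hA₀)
    refine ⟨x₀, ?_, rfl⟩
    rw [SetLike.mem_coe, Subgroup.mem_sInf]
    intro A hA
    obtain ⟨x, hx, hxy⟩ := hy _ (h1 A hA)
    have := Cfsg.Agent.H1.eq_of_map_eq_of_injOn f P hinj ((mem_fam.mp hA).1 hx)
      ((mem_fam.mp hA₀).1 hx₀) hxy
    rw [← this]; exact hx
  · rintro _ ⟨x, hx, rfl⟩
    unfold zj at hx ⊢
    rw [SetLike.mem_coe, Subgroup.mem_sInf] at hx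
    rw [Subgroup.mem_sInf]
    intro B hB
    have h3 := hx _ (h2 B hB)
    exact h3.1

/-- an element of order `p` of `P` centralizing a largest elementary abelian subgroup of `P` lies in it -/
theorem mem_of_commute_el {G : Type*} [Group G] [Finite G] {p : ℕ} {P A : Subgroup G}
    (hA : A ∈ fam (fun A : Subgroup G => Cfsg.IsElementaryAbelian p A) P)
    {x : G} (hxP : x ∈ P) (hxp : x ^ p = 1) (hx : ∀ a ∈ A, a * x = x * a) : x ∈ A := by
  obtain ⟨hAP, hAel, hmax⟩ := mem_fam.mp hA
  have hcommA : ∀ a ∈ A, ∀ c ∈ A, a * c = c * a := by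
    intro a ha c hc
    have h1 := hAel.1.is_comm.comm ⟨a, ha⟩ ⟨c, hc⟩
    have h2 : a * c = c * a := congrArg Subtype.val h1
    exact h2
  -- the elements of `C(A) ∩ C(x)` of order dividing `p` commuting with each other
  obtain ⟨K, hK⟩ : ∃ K : Subgroup G, K = A ⊔ Subgroup.zpowers x := ⟨_, rfl⟩
  have h1 : K ≤ Subgroup.centralizer ({x} : Set G) := by
    rw [hK]
    apply sup_le
    · intro a ha
      rw [Subgroup.mem_centralizer_iff]
      intro k hk
      rw [Set.mem_singleton_iff.mp hk]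
      exact (hx a ha).symm
    · rw [Subgroup.zpowers_le, Subgroup.mem_centralizer_iff]
      intro k hk
      rw [Set.mem_singleton_iff.mp hk]
  have h2 : K ≤ Subgroup.centralizer (A : Set G) := by
    rw [hK]
    apply sup_le
    · intro a ha
      rw [Subgroup.mem_centralizer_iff]
      intro c hc
      exact hcommA c hc a ha
    · rw [Subgroup.zpowers_le, Subgroup.mem_centralizer_iff]
      intro a ha
      exact hx a ha
  have hKcomm : ∀ u ∈ K, ∀ v ∈ K, u * v = v * u := by
    intro u hu v hv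
    have h3 : K ≤ Subgroup.centralizer ({u} : Set G) := by
      rw [hK]
      apply sup_le
      · intro a ha
        rw [Subgroup.mem_centralizer_iff]
        intro k hk
        rw [Set.mem_singleton_iff.mp hk]
        exact (Subgroup.mem_centralizer_iff.mp (h2 hu) a ha).symm
      · rw [Subgroup.zpowers_le, Subgroup.mem_centralizer_iff]
        intro k hk
        rw [Set.mem_singleton_iff.mp hk]
        exact (Subgroup.mem_centralizer_iff.mp (h1 hu) x (Set.mem_singleton x)).symm
    exact Subgroup.mem_centralizer_iff.mp (h3 hv) u (Set.mem_singleton _)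
  have hKab : IsMulCommutative ↥K :=
    ⟨⟨fun u v => Subtype.ext (hKcomm u u.2 v v.2)⟩⟩
  -- exponent
  let E : Subgroup G :=
    { carrier := {y | y ∈ K ∧ y ^ p = 1}
      mul_mem' := by
        rintro a b ⟨ha, hap⟩ ⟨hb, hbp⟩
        refine ⟨K.mul_mem ha hb, ?_⟩
        have hc : Commute a b := hKcomm a ha b hb
        rw [hc.mul_pow, hap, hbp, one_mul]
      one_mem' := ⟨K.one_mem, one_pow p⟩
      inv_mem' := by
        rintro a ⟨ha, hap⟩
        exact ⟨K.inv_mem ha, by rw [inv_pow, hap, inv_one]⟩ }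
  have hKE : K ≤ E := by
    rw [hK]
    apply sup_le
    · intro a ha
      exact ⟨by rw [hK]; exact Subgroup.mem_sup_left ha, hAel.2 a ha⟩
    · rw [Subgroup.zpowers_le]
      exact ⟨by rw [hK]; exact Subgroup.mem_sup_right (Subgroup.mem_zpowers x), hxp⟩
  have hKel : Cfsg.IsElementaryAbelian p K := ⟨hKab, fun a ha => (hKE ha).2⟩
  have hKP : K ≤ P := by
    rw [hK]; exact sup_le hAP (Subgroup.zpowers_le.mpr hxP)
  have hcard := hmax _ hKP hKel
  have hAK : A = K := Subgroup.eq_of_le_of_card_ge (by rw [hK]; exact le_sup_left) hcard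
  rw [hAK, hK]
  exact Subgroup.mem_sup_right (Subgroup.mem_zpowers x)

theorem elem_map' {G H : Type*} [Group G] [Group H] {p : ℕ} (f : G →* H) {A : Subgroup G}
    (hA : Cfsg.IsElementaryAbelian p A) : Cfsg.IsElementaryAbelian p (A.map f) := by
  haveI : IsMulCommutative A := hA.1
  refine ⟨Subgroup.map_isMulCommutative A f, ?_⟩
  rintro _ ⟨a, ha, rfl⟩
  rw [← map_pow, hA.2 a ha, map_one]

theorem elem_comap_inf {G H : Type*} [Group G] [Group H] {p : ℕ} (f : G →* H) (P : Subgroup G)
    (hinj : ∀ x ∈ P, f x = 1 → x = 1) {B : Subgroup H} (hBe : Cfsg.IsElementaryAbelian p B) :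
    Cfsg.IsElementaryAbelian p (B.comap f ⊓ P) := by
  refine ⟨Cfsg.Agent.H1.isMulCommutative_comap_inf f P hinj B hBe.1, ?_⟩
  intro x hx
  apply hinj _ (pow_mem hx.2 p)
  rw [map_pow]
  exact hBe.2 _ hx.1

theorem el_map_mem_fam {G H : Type*} [Group G] [Group H] [Finite G] [Finite H] {p : ℕ} (f : G →* H)
    (P : Subgroup G) (hinj : ∀ x ∈ P, f x = 1 → x = 1) {A : Subgroup G}
    (hA : A ∈ fam (fun A : Subgroup G => Cfsg.IsElementaryAbelian p A) P) :
    A.map f ∈ fam (fun B : Subgroup H => Cfsg.IsElementaryAbelian p B) (P.map f) := by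
  obtain ⟨hAP, hAe, hmax⟩ := mem_fam.mp hA
  refine mem_fam.mpr ⟨Subgroup.map_mono hAP, elem_map' f hAe, ?_⟩
  intro B hB hBe
  have h1 := hmax (B.comap f ⊓ P) inf_le_right (elem_comap_inf f P hinj hBe)
  rw [← Cfsg.Agent.H1.card_map_of_injOn f (B.comap f ⊓ P) (fun x hx => hinj x hx.2),
    Cfsg.Agent.H1.map_comap_inf_eq f P B hB] at h1
  rw [Cfsg.Agent.H1.card_map_of_injOn f A (fun x hx => hinj x (hAP hx))]
  exact h1

theorem el_comap_mem_fam {G H : Type*} [Group G] [Group H] [Finite G] [Finite H] {p : ℕ} (f : G →* H)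
    (P : Subgroup G) (hinj : ∀ x ∈ P, f x = 1 → x = 1) {B : Subgroup H}
    (hB : B ∈ fam (fun B : Subgroup H => Cfsg.IsElementaryAbelian p B) (P.map f)) :
    B.comap f ⊓ P ∈ fam (fun A : Subgroup G => Cfsg.IsElementaryAbelian p A) P := by
  obtain ⟨hBP, hBe, hmax⟩ := mem_fam.mp hB
  refine mem_fam.mpr ⟨inf_le_right, elem_comap_inf f P hinj hBe, ?_⟩
  intro A hA hAe
  have h1 := hmax (A.map f) (Subgroup.map_mono hA) (elem_map' f hAe)
  rw [Cfsg.Agent.H1.card_map_of_injOn f A (fun x hx => hinj x (hA hx))] at h1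
  rw [← Cfsg.Agent.H1.card_map_of_injOn f (B.comap f ⊓ P) (fun x hx => hinj x hx.2),
    Cfsg.Agent.H1.map_comap_inf_eq f P B hBP]
  exact h1

/-- the functor `D ↦ Z(J(D))`, `J(D)` generated by the abelian subgroups of `D` of largest order -/
def WAb (X : Type u) [Group X] (D : Subgroup X) : Subgroup X :=
  zj (fun A : Subgroup X => IsMulCommutative A) D

/-- the functor `D ↦ Ω₁(Z(J_e(D)))` -/
def WEl (p : ℕ) (X : Type u) [Group X] (D : Subgroup X) : Subgroup X :=
  zj (fun A : Subgroup X => Cfsg.IsElementaryAbelian p A) D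

theorem pFunctor_WAb {p : ℕ} [Fact p.Prime] (hp2 : p ≠ 2) : PFunctor p WAb.{u} where
  le := fun X _ _ D => zj_le_self Cfsg.Agent.S0653.goodAb D
  ne_bot := fun X _ _ D hD hne => by
    unfold WAb
    rw [← Cfsg.Agent.S0653.center_eq_zj]
    exact Cfsg.Agent.H1.zj_ne_bot D hD hne
  map := fun X Y _ _ _ _ f D hinj => by
    unfold WAb
    exact zj_map Cfsg.Agent.S0653.goodAb f D hinj
      (fun A hA => Cfsg.Agent.H1.map_mem_fam f D hinj hA)
      (fun B hB => Cfsg.Agent.H1.comap_mem_fam' f D hinj hB)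
  normal := fun X _ _ P D hD hc hst => by
    unfold WAb
    exact zj_normal' hp2 hc hst P D hD Cfsg.Agent.S0653.goodAb

theorem pFunctor_WEl {p : ℕ} [Fact p.Prime] (hp2 : p ≠ 2) : PFunctor p (WEl.{u} p) where
  le := fun X _ _ D => zj_le_self (Cfsg.Agent.S0654.goodEl p) D
  ne_bot := fun X _ _ D hD hne => by
    unfold WEl
    have hp : p.Prime := Fact.out
    haveI : Nontrivial ↥D := (Subgroup.nontrivial_iff_ne_bot D).2 hne
    haveI := hD.center_nontrivial
    have hZp : IsPGroup p ↥(Subgroup.center ↥D) := hD.to_subgroup _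
    have hdvd : p ∣ Nat.card ↥(Subgroup.center ↥D) := by
      obtain ⟨n, hn⟩ := hZp.exists_card_eq
      rw [hn]
      have hn0 : n ≠ 0 := by
        intro h0
        rw [h0, pow_zero] at hn
        have h1 : 1 < Nat.card ↥(Subgroup.center ↥D) := Finite.one_lt_card
        omega
      exact dvd_pow_self p hn0
    obtain ⟨z, hz⟩ := exists_prime_orderOf_dvd_card' p hdvd
    intro hbot
    have hz1 : ((z : ↥D) : X) ∈ zj (fun A : Subgroup X => Cfsg.IsElementaryAbelian p A) D := by
      unfold zj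
      rw [Subgroup.mem_sInf]
      intro A hA
      apply mem_of_commute_el hA (z : ↥D).2
      · have h1 : z ^ p = 1 := by rw [← hz]; exact pow_orderOf_eq_one z
        have h2 := congrArg (fun w : ↥(Subgroup.center ↥D) => ((w : ↥D) : X)) h1
        simpa using h2
      · intro a ha
        have := Subgroup.mem_center_iff.1 z.2 ⟨a, (mem_fam.mp hA).1 ha⟩
        exact congrArg Subtype.val this
    rw [hbot, Subgroup.mem_bot] at hz1
    have hz2 : z = 1 := by
      apply Subtype.ext
      apply Subtype.ext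
      exact hz1
    rw [hz2, orderOf_one] at hz
    exact hp.one_lt.ne hz
  map := fun X Y _ _ _ _ f D hinj => by
    unfold WEl
    exact zj_map (Cfsg.Agent.S0654.goodEl p) f D hinj
      (fun A hA => el_map_mem_fam f D hinj hA)
      (fun B hB => el_comap_mem_fam f D hinj hB)
  normal := fun X _ _ P D hD hc hst => by
    unfold WEl
    exact zj_normal' hp2 hc hst P D hD (Cfsg.Agent.S0654.goodEl p)

end Cfsg.Agent.Lib.Helper4.GTZJ
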