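import Mathlib
import Cfsg.Prelude.Def_Characters
import Cfsg.Agent.Lib.helper3.ClassMul

set_option autoImplicit false
set_option linter.style.haveILetI false
set_option linter.unusedSectionVars false

/-! Small additions to helper3's character library (helper4). -/

namespace Cfsg.Agent.Lib.Helper4.CharExtra

open Cfsg Module Cfsg.Agent.Lib.helper3.IndFun Cfsg.Agent.Lib.helper3.CharBasic
open Cfsg.Agent.Lib.helper3.Irr Cfsg.Agent.Lib.helper3.Central
open scoped ComplexConjugate
open Classical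

variable {G : Type*} [Group G]

theorem irr_conj_apply (χ : IrrCharacter G) (g h : G) :
    (χ : G → ℂ) (h * g * h⁻¹) = (χ : G → ℂ) g :=
  isClassFunction_of_isCharacter (isCharacter_of_isIrrCharacter χ.2) g h

theorem irr_eq_of_isConj (χ : IrrCharacter G) {g h : G} (hgh : IsConj g h) :
    (χ : G → ℂ) g = (χ : G → ℂ) h := by
  obtain ⟨c, hc⟩ := isConj_iff.mp hgh
  rw [← hc, irr_conj_apply]

/-- irreducible characters separate conjugacy classes -/
theorem isConj_of_forall_irr_eq [Finite G] {g h : G}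
    (hgh : ∀ χ : IrrCharacter G, (χ : G → ℂ) g = (χ : G → ℂ) h) : IsConj g h := by
  haveI : Fintype G := Fintype.ofFinite G
  by_contra hcon
  have h0 := (column_orthogonality g h).2 hcon
  have h1 := (column_orthogonality h h).1 (IsConj.refl h)
  have : ∑ χ : IrrCharacter G, (χ : G → ℂ) g * conj ((χ : G → ℂ) h) =
      ∑ χ : IrrCharacter G, (χ : G → ℂ) h * conj ((χ : G → ℂ) h) := by
    apply Finset.sum_congr rfl
    intro χ _
    rw [hgh χ]
  rw [this, h1] at h0
  have hpos : 0 < Nat.card (Subgroup.centralizer ({h} : Set G)) := Nat.card_pos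
  have : (Nat.card (Subgroup.centralizer ({h} : Set G)) : ℂ) ≠ 0 := by
    exact_mod_cast hpos.ne'
  exact this h0

theorem isConj_iff_forall_irr_eq [Finite G] {g h : G} :
    IsConj g h ↔ ∀ χ : IrrCharacter G, (χ : G → ℂ) g = (χ : G → ℂ) h :=
  ⟨fun hgh χ => irr_eq_of_isConj χ hgh, isConj_of_forall_irr_eq⟩

/-- second orthogonality, real form: `∑_χ ‖χ(g)‖² = |C_G(g)|` -/
theorem sum_norm_sq_eq_card_centralizer [Finite G] (g : G) :
    ∑ χ : IrrCharacter G, ‖(χ : G → ℂ) g‖ ^ 2 =
      (Nat.card (Subgroup.centralizer ({g} : Set G)) : ℝ) := by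
  haveI : Fintype G := Fintype.ofFinite G
  have h1 := (column_orthogonality g g).1 (IsConj.refl g)
  have h2 : ∀ χ : IrrCharacter G, (χ : G → ℂ) g * conj ((χ : G → ℂ) g) =
      ((‖(χ : G → ℂ) g‖ ^ 2 : ℝ) : ℂ) := by
    intro χ
    rw [Complex.mul_conj, Complex.normSq_eq_norm_sq]
  rw [Finset.sum_congr rfl (fun χ _ => h2 χ), ← Complex.ofReal_sum] at h1
  exact_mod_cast h1

end Cfsg.Agent.Lib.Helper4.CharExtra
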