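import Mathlib
import Cfsg.Prelude.Def_Characters
import Cfsg.Agent.Lib.Helper4.CharExtra
import Cfsg.Agent.Lib.helper3.Inflate2

set_option autoImplicit false
set_option linter.style.haveILetI false
set_option linter.unusedSectionVars false

/-! Irreducible characters with a normal subgroup in the kernel (helper4). -/

namespace Cfsg.Agent.Lib.Helper4.InflateEquiv

open Cfsg Module Cfsg.Agent.Lib.helper3.IndFun Cfsg.Agent.Lib.helper3.CharBasic
open Cfsg.Agent.Lib.helper3.Irr Cfsg.Agent.Lib.helper3.Central Cfsg.Agent.Lib.Helper4.CharExtra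
open scoped ComplexConjugate
open Classical

variable {G : Type*} [Group G]

/-- `N ≤ ker χ` phrased with values -/
def KerGE (N : Subgroup G) (χ : G → ℂ) : Prop := ∀ n ∈ N, χ n = χ 1

theorem kerGE_inflate (N : Subgroup G) [N.Normal] (ψ : G ⧸ N → ℂ) : KerGE N (inflate N ψ) :=
  fun _ hn => inflate_apply_of_mem N ψ hn

/-- the inflation map to irreducible characters with `N` in the kernel -/
noncomputable def inflateIrr [Finite G] (N : Subgroup G) [N.Normal] (ψ : IrrCharacter (G ⧸ N)) :
    {χ : IrrCharacter G // KerGE N (χ : G → ℂ)} :=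
  ⟨⟨inflate N (ψ : G ⧸ N → ℂ), isIrrCharacter_inflate N ψ.2⟩, kerGE_inflate N _⟩

theorem inflateIrr_bijective [Finite G] (N : Subgroup G) [N.Normal] :
    Function.Bijective (inflateIrr N) := by
  constructor
  · intro ψ φ h
    have h1 : inflate N (ψ : G ⧸ N → ℂ) = inflate N (φ : G ⧸ N → ℂ) :=
      congrArg (fun x : {χ : IrrCharacter G // KerGE N (χ : G → ℂ)} => ((x.1 : IrrCharacter G) : G → ℂ)) h
    exact Subtype.ext (inflate_injective N h1)
  · rintro ⟨χ, hχ⟩
    have hconst : ∀ g n : G, n ∈ N → (χ : G → ℂ) (g * n) = (χ : G → ℂ) g := fun g n hn =>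
      apply_mul_of_apply_eq_one (isCharacter_of_isIrrCharacter χ.2) (hχ n hn) g
    obtain ⟨ψ, hψ, he⟩ := exists_eq_inflate χ.2 N hconst
    refine ⟨⟨ψ, hψ⟩, ?_⟩
    apply Subtype.ext
    apply Subtype.ext
    exact he.symm

/-- sums over irreducible characters with `N` in the kernel are sums over `Irr (G ⧸ N)` -/
theorem sum_irr_kerGE [Finite G] (N : Subgroup G) [N.Normal] {A : Type*} [AddCommMonoid A]
    (f : (G → ℂ) → A) :
    ∑ χ : IrrCharacter G, (if KerGE N (χ : G → ℂ) then f (χ : G → ℂ) else 0) =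
      ∑ ψ : IrrCharacter (G ⧸ N), f (inflate N (ψ : G ⧸ N → ℂ)) := by
  rw [← Finset.sum_filter, ← Finset.sum_subtype_eq_sum_filter, Finset.subtype_univ]
  symm
  have := Fintype.sum_equiv (Equiv.ofBijective _ (inflateIrr_bijective N))
    (fun ψ : IrrCharacter (G ⧸ N) => f (inflate N (ψ : G ⧸ N → ℂ)))
    (fun χ : {χ : IrrCharacter G // KerGE N (χ : G → ℂ)} => f ((χ : IrrCharacter G) : G → ℂ))
    (fun ψ => rfl)
  rw [this]

/-- the part of the second orthogonality sum over characters with `N` in the kernel -/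
theorem sum_norm_sq_kerGE [Finite G] (N : Subgroup G) [N.Normal] (g : G) :
    ∑ χ : IrrCharacter G, (if KerGE N (χ : G → ℂ) then ‖(χ : G → ℂ) g‖ ^ 2 else 0) =
      (Nat.card (Subgroup.centralizer ({(g : G ⧸ N)} : Set (G ⧸ N))) : ℝ) := by
  rw [sum_irr_kerGE N (fun χ => ‖χ g‖ ^ 2), ← sum_norm_sq_eq_card_centralizer]
  rfl

/-- preimages of finsets under the quotient map -/
theorem card_preimage_mk [Fintype G] (N : Subgroup G) [N.Normal] [Fintype (G ⧸ N)]
    (S : Finset (G ⧸ N)) :
    (Finset.univ.filter (fun x : G => (x : G ⧸ N) ∈ S)).card = Nat.card N * S.card := by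
  have h := sum_comp_mk N (fun x : G ⧸ N => if x ∈ S then (1 : ℂ) else 0)
  simp only [Finset.sum_ite_mem, Finset.univ_inter, Finset.sum_const, nsmul_eq_mul, mul_one] at h
  rw [Finset.card_filter]
  have h2 : ((∑ x : G, if (x : G ⧸ N) ∈ S then 1 else 0 : ℕ) : ℂ) =
      ((Nat.card N * S.card : ℕ) : ℂ) := by
    push_cast
    rw [← h]
  exact_mod_cast h2

/-- class equation for one class -/
theorem card_cls_mul_card_centralizer [Fintype G] (g : G) :
    (cls g).card * Nat.card (Subgroup.centralizer ({g} : Set G)) = Nat.card G := by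
  have h1 : (cls g).card = (Subgroup.centralizer ({g} : Set G)).index := card_class_eq_index g
  rw [h1, mul_comm, Subgroup.card_mul_index]

end Cfsg.Agent.Lib.Helper4.InflateEquiv
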