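import Mathlib
import Cfsg.Prelude.Def_Characters
import Cfsg.Prelude.Def_Blocks
import Cfsg.Agent.Lib.Helper4.InflateEquiv
import Cfsg.Agent.Lib.helper3.Degrees
import Cfsg.Agent.Lib.helper3.Irr13

set_option autoImplicit false
set_option linter.style.haveILetI false
set_option linter.unusedSectionVars false

/-! Kernels, degrees and codegrees of characters (helper4). -/

namespace Cfsg.Agent.Lib.Helper4.Codegree

open Cfsg Module Cfsg.Agent.Lib.helper3.IndFun Cfsg.Agent.Lib.helper3.CharBasic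
open Cfsg.Agent.Lib.helper3.Irr Cfsg.Agent.Lib.helper3.Central Cfsg.Agent.Lib.Helper4.CharExtra
open Cfsg.Agent.Lib.Helper4.InflateEquiv
open scoped ComplexConjugate
open Classical

variable {G : Type*} [Group G]

theorem charDegree_cast {χ : G → ℂ} (hχ : IsCharacter G χ) : (charDegree χ : ℂ) = χ 1 := by
  obtain ⟨n, hn⟩ := exists_nat_apply_one hχ
  unfold charDegree
  rw [hn]
  simp

theorem charDegree_eq {χ : G → ℂ} {n : ℕ} (hn : χ 1 = n) : charDegree χ = n := by
  unfold charDegree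
  rw [hn]
  simp

theorem charDegree_pos {χ : G → ℂ} (hχ : IsIrrCharacter G χ) : 0 < charDegree χ := by
  obtain ⟨n, hn, h⟩ := exists_pos_nat_apply_one hχ
  rw [charDegree_eq h]
  exact hn

/-- the kernel of a character, as a subgroup -/
def charKer [Finite G] (χ : G → ℂ) (hχ : IsCharacter G χ) : Subgroup G where
  carrier := {g | χ g = χ 1}
  one_mem' := rfl
  mul_mem' := by
    intro a b ha hb
    show χ (a * b) = χ 1
    rw [apply_mul_of_apply_eq_one hχ hb a]
    exact ha
  inv_mem' := by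
    intro a ha
    show χ a⁻¹ = χ 1
    rw [isCharacter_apply_inv hχ a, show χ a = χ 1 from ha, conj_apply_one hχ]

theorem mem_charKer [Finite G] {χ : G → ℂ} (hχ : IsCharacter G χ) (g : G) :
    g ∈ charKer χ hχ ↔ χ g = χ 1 := Iff.rfl

instance charKer_normal [Finite G] (χ : G → ℂ) (hχ : IsCharacter G χ) :
    (charKer χ hχ).Normal := by
  constructor
  intro n hn g
  rw [mem_charKer] at hn ⊢
  rw [isClassFunction_of_isCharacter hχ n g, hn]

theorem card_charKer [Finite G] {χ : G → ℂ} (hχ : IsCharacter G χ) :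
    Nat.card (charKer χ hχ) = Nat.card {g : G // χ g = χ 1} := rfl

/-- an irreducible character is inflated from a faithful irreducible character of the quotient
by its kernel -/
theorem exists_faithful_quotient [Finite G] (χ : IrrCharacter G) (K : Subgroup G) [K.Normal]
    (hK : ∀ g, g ∈ K ↔ (χ : G → ℂ) g = (χ : G → ℂ) 1) :
    ∃ ψ : IrrCharacter (G ⧸ K),
      (χ : G → ℂ) = inflate K (ψ : G ⧸ K → ℂ) ∧ (ψ : G ⧸ K → ℂ) 1 = (χ : G → ℂ) 1 ∧
      ∀ x, (ψ : G ⧸ K → ℂ) x = (ψ : G ⧸ K → ℂ) 1 → x = 1 := by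
  have hk : KerGE K (χ : G → ℂ) := fun n hn => (hK n).mp hn
  obtain ⟨ψ, hψ⟩ := (inflateIrr_bijective K).2 ⟨χ, hk⟩
  have he : (χ : G → ℂ) = inflate K (ψ : G ⧸ K → ℂ) := by
    have := congrArg (fun x : {χ : IrrCharacter G // KerGE K (χ : G → ℂ)} =>
      ((x.1 : IrrCharacter G) : G → ℂ)) hψ
    exact this.symm
  have h1 : (ψ : G ⧸ K → ℂ) 1 = (χ : G → ℂ) 1 := by
    rw [he, inflate_apply, QuotientGroup.mk_one]
  refine ⟨ψ, he, h1, ?_⟩
  intro x hx
  obtain ⟨g, rfl⟩ := QuotientGroup.mk_surjective x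
  rw [QuotientGroup.eq_one_iff, hK]
  rw [← h1, ← hx, he, inflate_apply]

theorem card_eq_card_ker_mul [Finite G] (K : Subgroup G) [K.Normal] :
    Nat.card G = Nat.card K * Nat.card (G ⧸ K) := by
  rw [← Subgroup.index_eq_card, Subgroup.card_mul_index]

/-- `|ker χ| χ(1)` divides `|G|`, with quotient `|G / ker χ| / χ(1)` -/
theorem codegree_eq [Finite G] (χ : IrrCharacter G) :
    ∃ c : ℕ, 0 < c ∧ Nat.card (G ⧸ charKer (χ : G → ℂ) (isCharacter_of_isIrrCharacter χ.2)) =
        c * charDegree (χ : G → ℂ) ∧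
      Nat.card G / (Nat.card {g : G // (χ : G → ℂ) g = (χ : G → ℂ) 1} *
        charDegree (χ : G → ℂ)) = c := by
  haveI : Fintype G := Fintype.ofFinite G
  set K := charKer (χ : G → ℂ) (isCharacter_of_isIrrCharacter χ.2) with hK
  haveI : Fintype (G ⧸ K) := Fintype.ofFinite _
  obtain ⟨ψ, he, h1, hf⟩ := exists_faithful_quotient χ K (fun g => Iff.rfl)
  obtain ⟨n, hn1, hn2, hn3⟩ := irr_degree_dvd_card ψ.2
  have hdeg : charDegree (χ : G → ℂ) = n := charDegree_eq (h1 ▸ hn1)
  obtain ⟨c, hc⟩ := hn2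
  have hcpos : 0 < c := by
    rcases Nat.eq_zero_or_pos c with h0 | h0
    · rw [h0, mul_zero] at hc
      exact absurd hc (Nat.card_pos).ne'
    · exact h0
  refine ⟨c, hcpos, ?_, ?_⟩
  · rw [hdeg, hc, mul_comm]
  · rw [← card_charKer (isCharacter_of_isIrrCharacter χ.2), card_eq_card_ker_mul K, hc, hdeg]
    have hKpos : 0 < Nat.card K := Nat.card_pos
    rw [show Nat.card K * (n * c) = c * (Nat.card K * n) by ring]
    exact Nat.mul_div_cancel _ (Nat.mul_pos hKpos hn3)

end Cfsg.Agent.Lib.Helper4.Codegree
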