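import Mathlib
import Cfsg.Prelude.Def_Characters
import Cfsg.Prelude.Def_Solvable
import Cfsg.Agent.H1.FrobeniusCount
import Cfsg.Agent.Lib.Helper4.Codegree
import Cfsg.Agent.Lib.helper3.NormTwo
import Cfsg.Agent.Lib.helper3.IndFunTI
import Cfsg.Agent.Lib.helper3.IndLin
import Cfsg.Agent.Lib.helper3.ClassBound
import Cfsg.Agent.Lib.helper3.Irr11

/-!
# Frobenius' theorem

If `H` is a Frobenius complement in the finite group `G`, the Frobenius kernel (the identity
together with the elements lying in no conjugate of `H`) is a normal subgroup complementing `H`.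
The proof is the classical character-theoretic one.
-/

set_option linter.style.haveILetI false

namespace Cfsg.Agent.Lib.Helper4.FrobThm

open Cfsg Module Cfsg.Agent.Lib.helper3.IndFun Cfsg.Agent.Lib.helper3.CharBasic
open Cfsg.Agent.Lib.helper3.Irr Cfsg.Agent.Lib.helper3.IndFunTI
open scoped ComplexConjugate Pointwise

section normone

variable {G : Type*} [Group G] [Fintype G]

/-- A generalized character of norm one with positive degree is irreducible. -/
theorem isIrrCharacter_of_norm_one {θ : G → ℂ} (hθ : IsGeneralizedCharacter G θ)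
    (hnorm : classInner θ θ = 1) (n : ℕ) (hn : 0 < n) (h1 : θ 1 = n) : IsIrrCharacter G θ := by
  classical
  obtain ⟨z, rfl⟩ := exists_int_decomposition hθ
  rw [classInner_int_decomposition] at hnorm
  have hz : ∑ ψ : IrrCharacter G, z ψ * z ψ = 1 := by exact_mod_cast hnorm
  have hex : ∃ a, z a ≠ 0 := by
    by_contra h
    push Not at h
    simp [h] at hz
  obtain ⟨a, ha⟩ := hex
  have hsplit := Finset.add_sum_erase Finset.univ (fun i => z i * z i) (Finset.mem_univ a)
  rw [hz] at hsplit
  have hnn : 0 ≤ ∑ i ∈ Finset.univ.erase a, z i * z i :=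
    Finset.sum_nonneg (fun i _ => mul_self_nonneg _)
  have hpos : 0 < z a * z a := mul_self_pos.mpr ha
  have hsplit' : z a * z a + ∑ i ∈ Finset.univ.erase a, z i * z i = 1 := hsplit
  have ha1 : z a * z a = 1 := by omega
  have hrest : ∑ i ∈ Finset.univ.erase a, z i * z i = 0 := by omega
  have hzero : ∀ c, c ≠ a → z c = 0 := by
    intro c hc
    have := (Finset.sum_eq_zero_iff_of_nonneg (fun i _ => mul_self_nonneg (z i))).mp hrest c
      (Finset.mem_erase.mpr ⟨hc, Finset.mem_univ c⟩)
    exact mul_self_eq_zero.mp this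
  have hsum : ∑ ψ : IrrCharacter G, (z ψ : ℂ) • (ψ : G → ℂ) = (z a : ℂ) • (a : G → ℂ) := by
    rw [Finset.sum_eq_single a]
    · intro c _ hc
      rw [hzero c hc, Int.cast_zero, zero_smul]
    · intro h
      exact absurd (Finset.mem_univ a) h
  rw [hsum] at h1 ⊢
  obtain ⟨m, hm, hm1⟩ := exists_pos_nat_apply_one a.2
  have hza : z a = 1 ∨ z a = -1 := by
    have : (z a - 1) * (z a + 1) = 0 := by
      have : (z a - 1) * (z a + 1) = z a * z a - 1 := by ring
      rw [this, ha1, sub_self]
    rcases mul_eq_zero.mp this with h | h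
    · left; linarith
    · right; linarith
  rcases hza with h | h
  · rw [h, Int.cast_one, one_smul]
    exact a.2
  · exfalso
    rw [h] at h1
    simp only [Pi.smul_apply, smul_eq_mul, hm1] at h1
    have h2 : -(m : ℤ) = (n : ℤ) := by
      have : ((-(m : ℤ) : ℤ) : ℂ) = ((n : ℤ) : ℂ) := by
        push_cast
        rw [← h1]
        push_cast
        ring
      exact_mod_cast this
    omega

end normone

section frob

variable {G : Type*} [Group G] [Fintype G] (H : Subgroup G) [Fintype H]

theorem conj_not_mem (hH : IsFrobeniusComplement H) (x : G) (hx : x ∉ H) (h : G) (hh : h ∈ H)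
    (h1 : h ≠ 1) : x⁻¹ * h * x ∉ H := by
  intro hmem
  have h2 : h ∈ H ⊓ (MulAut.conj x • H) :=
    ⟨hh, (Cfsg.Agent.H1.mem_conj_smul_iff' H x h).mpr hmem⟩
  rw [hH.2.2 x hx] at h2
  exact h1 (Subgroup.mem_bot.mp h2)

/-- Induction from a Frobenius complement restricts back to the original class function, provided
it vanishes at the identity. -/
theorem indFun_restrict (hH : IsFrobeniusComplement H) (φ : H → ℂ) (hφ : IsClassFunction H φ)
    (hφ1 : φ 1 = 0) (h : H) : indFun H φ h = φ h := by
  by_cases h1 : h = 1
  · rw [h1]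
    show indFun H φ 1 = φ 1
    rw [indFun_one_of_apply_one_eq_zero H φ hφ1, hφ1]
  · apply indFun_eq_of_forall H φ hφ h
    intro x hx
    apply extendByZero_not_mem
    apply conj_not_mem H hH x hx h h.2
    intro h2
    apply h1
    exact Subtype.ext h2

/-- Induced functions vanish on the elements lying in no conjugate of `H`. -/
theorem indFun_eq_zero_of_not_conj (φ : H → ℂ) (x : G) (hx : ∀ g : G, x ∉ MulAut.conj g • H) :
    indFun H φ x = 0 := by
  rw [indFun_apply]
  have : ∀ y : G, extendByZero H φ (y⁻¹ * x * y) = 0 := by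
    intro y
    apply extendByZero_not_mem
    intro hmem
    exact hx y ((Cfsg.Agent.H1.mem_conj_smul_iff' H y x).mpr hmem)
  simp [this]

/-- Every irreducible character of a Frobenius complement extends to an irreducible character of
`G` which is constant on the Frobenius kernel. -/
theorem exists_irr_extension (hH : IsFrobeniusComplement H) (θ : H → ℂ)
    (hθ : IsIrrCharacter H θ) :
    ∃ χ : G → ℂ, IsIrrCharacter G χ ∧ (∀ h : H, χ h = θ h) ∧
      ∀ x : G, (∀ g : G, x ∉ MulAut.conj g • H) → χ x = χ 1 := by
  classical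
  obtain ⟨d, hd, hd1⟩ := exists_pos_nat_apply_one hθ
  have hθc := isCharacter_of_isIrrCharacter hθ
  obtain ⟨φ, hφdef⟩ : ∃ φ : H → ℂ, φ = θ - (d : ℂ) • (fun _ => (1 : ℂ)) := ⟨_, rfl⟩
  have hφapp : ∀ h : H, φ h = θ h - d := by
    intro h
    rw [hφdef]
    simp
  have hφcf : IsClassFunction H φ := by
    intro g h
    rw [hφapp, hφapp, isClassFunction_of_isCharacter hθc g h]
  have hφ1 : φ 1 = 0 := by rw [hφapp, hd1, sub_self]
  obtain ⟨χ, hχdef⟩ : ∃ χ : G → ℂ, χ = indFun H φ + (d : ℂ) • (fun _ => (1 : ℂ)) := ⟨_, rfl⟩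
  have hχapp : ∀ g : G, χ g = indFun H φ g + d := by
    intro g
    rw [hχdef]
    simp
  have hχH : ∀ h : H, χ h = θ h := by
    intro h
    rw [hχapp, indFun_restrict H hH φ hφcf hφ1, hφapp]
    ring
  have hχ1 : χ 1 = d := by
    have := hχH 1
    rw [hd1] at this
    exact this
  have hχK : ∀ x : G, (∀ g : G, x ∉ MulAut.conj g • H) → χ x = χ 1 := by
    intro x hx
    rw [hχapp, indFun_eq_zero_of_not_conj H φ x hx, hχ1, zero_add]
  have hind : indFun H φ = indFun H θ - (d : ℂ) • indFun H (fun _ => (1 : ℂ)) := by
    rw [hφdef, sub_eq_add_neg, indFun_add, ← neg_smul, indFun_smul, neg_smul, ← sub_eq_add_neg]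
  have hgen : IsGeneralizedCharacter G χ := by
    refine ⟨indFun H θ + (d : ℂ) • (fun _ => (1 : ℂ)),
      (d : ℂ) • indFun H (fun _ => (1 : ℂ)), ?_, ?_, ?_⟩
    · exact isCharacter_add (isCharacter_indFun H θ hθc) (isCharacter_nsmul isCharacter_one d)
    · exact isCharacter_nsmul (isCharacter_indFun H _ isCharacter_one) d
    · rw [hχdef, hind]
      abel
  have hχcf : IsClassFunction G χ := by
    intro g h
    rw [hχapp, hχapp, indFun_isClassFunction H φ g h]
  have hnorm : classInner χ χ = 1 := by
    have e1 : classInner (indFun H φ) χ = classInner φ θ := by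
      rw [frobenius_reciprocity H φ χ hχcf]
      congr 1
      funext h
      exact hχH h
    have e2 : classInner φ θ = 1 - (d : ℂ) * classInner (fun _ : H => (1 : ℂ)) θ := by
      rw [hφdef, classInner_sub_left, classInner_smul_left, irr_classInner_self hθ]
    have e3 : classInner (fun _ : G => (1 : ℂ)) χ
        = conj (classInner φ (fun _ : H => (1 : ℂ)) + d) := by
      rw [← classInner_conj_symm, hχdef, classInner_add_left, classInner_smul_left,
        classInner_one_one, mul_one]
      rw [frobenius_reciprocity H φ _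
        (isClassFunction_of_isCharacter (isCharacter_one (G := G)))]
    have e4 : classInner φ (fun _ : H => (1 : ℂ))
        = classInner θ (fun _ : H => (1 : ℂ)) - d := by
      rw [hφdef, classInner_sub_left, classInner_smul_left, classInner_one_one, mul_one]
    have e5 : classInner χ χ = classInner (indFun H φ) χ
        + (d : ℂ) * classInner (fun _ : G => (1 : ℂ)) χ := by
      conv_lhs => rw [hχdef]
      rw [classInner_add_left, classInner_smul_left, ← hχdef]
    rw [e5, e1, e2, e3, e4, sub_add_cancel, classInner_conj_symm]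
    ring
  exact ⟨χ, isIrrCharacter_of_norm_one hgen hnorm d hd hχ1, hχH, hχK⟩

end frob

section main

open Cfsg.Agent.Lib.Helper4.Codegree

/-- **Frobenius' theorem.** -/
theorem frobenius_theorem {G : Type*} [Group G] [Finite G] (H : Subgroup G)
    (hH : IsFrobeniusComplement H) :
    ∃ N : Subgroup G, (N : Set G) = frobeniusKernel H ∧ N.Normal ∧
      Subgroup.IsComplement' N H := by
  classical
  haveI : Fintype G := Fintype.ofFinite G
  haveI : Fintype H := Fintype.ofFinite H
  have hext := fun θ : IrrCharacter H => exists_irr_extension H hH θ.1 θ.2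
  choose E hEirr hEH hEK using hext
  let N : Subgroup G := ⨅ θ : IrrCharacter H,
    charKer (E θ) (isCharacter_of_isIrrCharacter (hEirr θ))
  have hNmem : ∀ x, x ∈ N ↔ ∀ θ, E θ x = E θ 1 := by
    intro x
    simp only [N, Subgroup.mem_iInf, mem_charKer]
  have hNset : (N : Set G) = frobeniusKernel H := by
    ext x
    rw [SetLike.mem_coe, hNmem]
    constructor
    · intro hx
      by_cases hx1 : x = 1
      · left
        exact hx1
      · right
        intro g hg
        rw [Cfsg.Agent.H1.mem_conj_smul_iff'] at hg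
        have hall : ∀ ψ : IrrCharacter H, (ψ : H → ℂ) ⟨_, hg⟩ = (ψ : H → ℂ) 1 := by
          intro ψ
          rw [← hEH ψ ⟨_, hg⟩, ← hEH ψ 1]
          have hcf := isClassFunction_of_isCharacter (isCharacter_of_isIrrCharacter (hEirr ψ))
          have h2 := hcf x g⁻¹
          rw [inv_inv] at h2
          show E ψ (g⁻¹ * x * g) = E ψ ((1 : H) : G)
          rw [h2, hx ψ]
          rfl
        have h1 := eq_one_of_forall_irr_apply_eq (⟨_, hg⟩ : H) hall
        apply hx1
        have h3 : g⁻¹ * x * g = 1 := congrArg Subtype.val h1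
        calc x = g * (g⁻¹ * x * g) * g⁻¹ := by group
          _ = 1 := by rw [h3]; group
    · rintro (rfl | hx) θ
      · rfl
      · exact hEK θ x hx
  refine ⟨N, hNset, ?_, ?_⟩
  · exact Subgroup.normal_iInf_normal (fun θ => inferInstance)
  · apply Subgroup.isComplement'_of_card_mul_and_disjoint
    · have h1 : Nat.card N = H.index := by
        rw [← Cfsg.Agent.H1.card_frobeniusKernel H hH, ← hNset]
        rfl
      rw [h1, mul_comm]
      exact H.card_mul_index
    · rw [disjoint_iff, Subgroup.eq_bot_iff_forall]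
      rintro x ⟨hxN, hxH⟩
      have hxK : x ∈ frobeniusKernel H := by
        rw [← hNset]
        exact hxN
      rcases hxK with h | h
      · exact h
      · exfalso
        apply h 1
        rw [Cfsg.Agent.H1.mem_conj_smul_iff']
        simpa using hxH

end main

end Cfsg.Agent.Lib.Helper4.FrobThm
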