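import Mathlib

/-! Minimal normal subgroups are direct powers of simple groups (helper4). -/

namespace Cfsg.Agent.Lib.Helper4.MinNormal

variable {H : Type*} [Group H]

/-- `S` is a minimal non-trivial subgroup among those contained in and normalized by `N` -/
def MinNormalIn (N S : Subgroup H) : Prop :=
  S ≤ N ∧ S ≠ ⊥ ∧ N ≤ Subgroup.normalizer (S : Set H) ∧
    ∀ R : Subgroup H, R ≤ S → N ≤ Subgroup.normalizer (R : Set H) → R = ⊥ ∨ R = S

lemma mem_map_conj (S : Subgroup H) (h y : H) :
    y ∈ S.map (MulAut.conj h).toMonoidHom ↔ h⁻¹ * y * h ∈ S := by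
  constructor
  · rintro ⟨s, hs, rfl⟩
    have e : h⁻¹ * ((MulAut.conj h).toMonoidHom s) * h = s := by
      show h⁻¹ * (h * s * h⁻¹) * h = s
      group
    rw [e]; exact hs
  · intro hy
    refine ⟨h⁻¹ * y * h, hy, ?_⟩
    show h * (h⁻¹ * y * h) * h⁻¹ = y
    group

lemma le_normalizer_map_conj (N S : Subgroup H) [N.Normal]
    (hS : N ≤ Subgroup.normalizer (S : Set H)) (h : H) :
    N ≤ Subgroup.normalizer ((S.map (MulAut.conj h).toMonoidHom : Subgroup H) : Set H) := by
  intro n hn
  rw [Subgroup.mem_normalizer_iff]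
  intro y
  rw [mem_map_conj, mem_map_conj]
  have hn' : h⁻¹ * n * h ∈ N := by
    have := ‹N.Normal›.conj_mem n hn h⁻¹
    simpa using this
  have := (Subgroup.mem_normalizer_iff.mp (hS hn')) (h⁻¹ * y * h)
  rw [this]
  have e : h⁻¹ * n * h * (h⁻¹ * y * h) * (h⁻¹ * n * h)⁻¹ = h⁻¹ * (n * y * n⁻¹) * h := by group
  rw [e]

lemma map_conj_map_conj (S : Subgroup H) (h k : H) :
    (S.map (MulAut.conj h).toMonoidHom).map (MulAut.conj k).toMonoidHom =
      S.map (MulAut.conj (k * h)).toMonoidHom := by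
  ext y
  rw [mem_map_conj, mem_map_conj, mem_map_conj]
  have e : h⁻¹ * (k⁻¹ * y * k) * h = (k * h)⁻¹ * y * (k * h) := by group
  rw [e]

lemma MinNormalIn.map_conj {N S : Subgroup H} [N.Normal] (hS : MinNormalIn N S) (h : H) :
    MinNormalIn N (S.map (MulAut.conj h).toMonoidHom) := by
  obtain ⟨h1, h2, h3, h4⟩ := hS
  refine ⟨?_, ?_, le_normalizer_map_conj N S h3 h, ?_⟩
  · intro y hy
    rw [mem_map_conj] at hy
    have := ‹N.Normal›.conj_mem _ (h1 hy) h
    have e : h * (h⁻¹ * y * h) * h⁻¹ = y := by group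
    rwa [e] at this
  · intro hb
    apply h2
    rw [eq_bot_iff]
    intro s hs
    have : (MulAut.conj h).toMonoidHom s ∈ S.map (MulAut.conj h).toMonoidHom := ⟨s, hs, rfl⟩
    rw [hb, Subgroup.mem_bot] at this
    rw [Subgroup.mem_bot]
    exact (MulAut.conj h).injective (this.trans (map_one _).symm)
  · intro R hR hRn
    have hR' : R.map (MulAut.conj h⁻¹).toMonoidHom ≤ S := by
      intro y hy
      rw [mem_map_conj] at hy
      have := hR hy
      rw [mem_map_conj] at this
      have e : h⁻¹ * (h⁻¹⁻¹ * y * h⁻¹) * h = y := by group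
      rwa [e] at this
    rcases h4 _ hR' (le_normalizer_map_conj N R hRn h⁻¹) with hb | hb
    · left
      rw [eq_bot_iff]
      intro r hr
      have : (MulAut.conj h⁻¹).toMonoidHom r ∈ R.map (MulAut.conj h⁻¹).toMonoidHom :=
        ⟨r, hr, rfl⟩
      rw [hb, Subgroup.mem_bot] at this
      rw [Subgroup.mem_bot]
      exact (MulAut.conj h⁻¹).injective (this.trans (map_one _).symm)
    · right
      have := congrArg (fun X : Subgroup H => X.map (MulAut.conj h).toMonoidHom) hb
      simp only [map_conj_map_conj, mul_inv_cancel] at this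
      rw [← this]
      ext y
      rw [mem_map_conj]
      simp

/-- a minimal normal subgroup of `N` not contained in `M` meets `M` trivially and commutes
with it -/
lemma MinNormalIn.disjoint_of_not_le {N S M : Subgroup H} (hS : MinNormalIn N S)
    (hMn : N ≤ Subgroup.normalizer (M : Set H)) (hnle : ¬ S ≤ M) : S ⊓ M = ⊥ := by
  obtain ⟨h1, h2, h3, h4⟩ := hS
  have hn : N ≤ Subgroup.normalizer ((S ⊓ M : Subgroup H) : Set H) := by
    intro n hn
    rw [Subgroup.mem_normalizer_iff]
    intro y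
    have a1 := Subgroup.mem_normalizer_iff.mp (h3 hn) y
    have a2 := Subgroup.mem_normalizer_iff.mp (hMn hn) y
    rw [Subgroup.mem_inf, Subgroup.mem_inf, a1, a2]
  rcases h4 _ inf_le_left hn with h | h
  · exact h
  · exact absurd (h ▸ inf_le_right) hnle

lemma commute_of_disjoint {N S M : Subgroup H} (hSN : S ≤ N) (hMN : M ≤ N)
    (hSn : N ≤ Subgroup.normalizer (S : Set H)) (hMn : N ≤ Subgroup.normalizer (M : Set H))
    (hd : S ⊓ M = ⊥) (s : H) (hs : s ∈ S) (x : H) (hx : x ∈ M) : s * x = x * s := by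
  have h1 : s * x * s⁻¹ ∈ M := (Subgroup.mem_normalizer_iff.mp (hMn (hSN hs)) x).mp hx
  have h2 : x * s⁻¹ * x⁻¹ ∈ S :=
    (Subgroup.mem_normalizer_iff.mp (hSn (hMN hx)) s⁻¹).mp (S.inv_mem hs)
  have h3 : s * x * s⁻¹ * x⁻¹ ∈ S ⊓ M := by
    refine ⟨?_, M.mul_mem h1 (M.inv_mem hx)⟩
    have := S.mul_mem hs h2
    have e : s * (x * s⁻¹ * x⁻¹) = s * x * s⁻¹ * x⁻¹ := by group
    rwa [e] at this
  rw [hd, Subgroup.mem_bot] at h3
  have e : s * x = (s * x * s⁻¹ * x⁻¹) * (x * s) := by group
  rw [e, h3, one_mul]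

/-- internal direct product of two commuting disjoint subgroups -/
noncomputable def supMulEquivProd (S M : Subgroup H) (hd : S ⊓ M = ⊥)
    (hc : ∀ s ∈ S, ∀ x ∈ M, s * x = x * s) : ↥(S ⊔ M) ≃* S × M := by
  have comm : ∀ (s : S) (x : M), Commute (S.subtype s) (M.subtype x) :=
    fun s x => hc s s.2 x x.2
  have hinj : Function.Injective (MonoidHom.noncommCoprod S.subtype M.subtype comm) := by
    rw [MonoidHom.noncommCoprod_injective]
    refine ⟨S.subtype_injective, M.subtype_injective, ?_⟩
    rw [Subgroup.range_subtype, Subgroup.range_subtype, disjoint_iff]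
    exact hd
  have hrange : (MonoidHom.noncommCoprod S.subtype M.subtype comm).range = S ⊔ M := by
    rw [MonoidHom.noncommCoprod_range, Subgroup.range_subtype, Subgroup.range_subtype]
  exact ((MonoidHom.ofInjective hinj).trans (MulEquiv.subgroupCongr hrange)).symm

/-- `Fin.cons` as a multiplicative equivalence -/
def consMulEquiv (T : Type*) [Group T] (m : ℕ) : T × (Fin m → T) ≃* (Fin (m + 1) → T) :=
  { Fin.consEquiv (fun _ => T) with
    map_mul' := by
      intro x y
      funext i
      refine Fin.cases ?_ ?_ i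
      · simp [Fin.consEquiv]
      · intro j
        simp [Fin.consEquiv] }

lemma mem_normalizer_iff_map_conj (S : Subgroup H) (n : H) :
    n ∈ Subgroup.normalizer (S : Set H) ↔ S.map (MulAut.conj n).toMonoidHom = S := by
  rw [Subgroup.mem_normalizer_iff]
  constructor
  · intro h
    ext y
    rw [mem_map_conj, h (n⁻¹ * y * n)]
    have e : n * (n⁻¹ * y * n) * n⁻¹ = y := by group
    rw [e]
  · intro h y
    conv_rhs => rw [← h]
    rw [mem_map_conj]
    have e : n⁻¹ * (n * y * n⁻¹) * n = y := by group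
    rw [e]

lemma le_normalizer_sup {N A B : Subgroup H} (hA : N ≤ Subgroup.normalizer (A : Set H))
    (hB : N ≤ Subgroup.normalizer (B : Set H)) :
    N ≤ Subgroup.normalizer ((A ⊔ B : Subgroup H) : Set H) := by
  intro n hn
  rw [mem_normalizer_iff_map_conj, Subgroup.map_sup,
    (mem_normalizer_iff_map_conj A n).mp (hA hn), (mem_normalizer_iff_map_conj B n).mp (hB hn)]

lemma exists_minNormalIn [Finite H] (N : Subgroup H) (hN : N ≠ ⊥) : ∃ S, MinNormalIn N S := by
  classical
  let 𝒜 : Set (Subgroup H) :=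
    {R | R ≤ N ∧ R ≠ ⊥ ∧ N ≤ Subgroup.normalizer (R : Set H)}
  have hne : 𝒜.Nonempty := ⟨N, le_refl _, hN, Subgroup.le_normalizer⟩
  obtain ⟨S, hS, hSmin⟩ := (wellFounded_lt (α := Subgroup H)).has_min 𝒜 hne
  refine ⟨S, hS.1, hS.2.1, hS.2.2, ?_⟩
  intro R hRS hRn
  by_cases hR : R = ⊥
  · exact Or.inl hR
  · right
    by_contra hne
    exact hSmin R ⟨hRS.trans hS.1, hR, hRn⟩ (lt_of_le_of_ne hRS hne)

section main

variable [Finite H] (N : Subgroup H) [N.Normal]
  (hmin : ∀ M : Subgroup H, M.Normal → M ≤ N → M = ⊥ ∨ M = N)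

omit [Finite H] in
include hmin in
lemma iSup_map_conj_eq {S : Subgroup H} (hS : MinNormalIn N S) :
    ⨆ h : H, S.map (MulAut.conj h).toMonoidHom = N := by
  set K : Subgroup H := ⨆ h : H, S.map (MulAut.conj h).toMonoidHom with hK
  have hKN : K ≤ N := iSup_le fun h => (hS.map_conj h).1
  have hSK : S ≤ K := by
    refine le_trans ?_ (le_iSup _ (1 : H))
    intro y hy
    rw [mem_map_conj]
    simpa using hy
  have hKnorm : K.Normal := by
    constructor
    intro n hn g
    have h1 : K.map (MulAut.conj g).toMonoidHom ≤ K := by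
      rw [hK, Subgroup.map_iSup]
      refine iSup_le fun h => ?_
      rw [map_conj_map_conj]
      exact le_iSup (fun h : H => S.map (MulAut.conj h).toMonoidHom) (g * h)
    exact h1 ⟨n, hn, rfl⟩
  rcases hmin K hKnorm hKN with h | h
  · exact absurd (le_bot_iff.mp (h ▸ hSK)) hS.2.1
  · exact h

include hmin in
/-- the minimal `N`-normal subgroup `S` of a minimal normal subgroup `N` is simple -/
theorem MinNormalIn.isSimpleGroup {S : Subgroup H} (hS : MinNormalIn N S) :
    IsSimpleGroup S := by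
  haveI : Nontrivial S := (Subgroup.nontrivial_iff_ne_bot S).mpr hS.2.1
  refine ⟨fun R' hR' => ?_⟩
  set R : Subgroup H := R'.map S.subtype with hR
  have hRS : R ≤ S := by
    rintro _ ⟨r, _, rfl⟩
    exact r.2
  have hRof : R.subgroupOf S = R' := by
    rw [hR, Subgroup.subgroupOf]
    exact Subgroup.comap_map_eq_self_of_injective S.subtype_injective R'
  have hSR : S ≤ Subgroup.normalizer (R : Set H) := by
    rw [← Subgroup.normal_subgroupOf_iff_le_normalizer hRS, hRof]
    exact hR'
  have hNR : N ≤ Subgroup.normalizer (R : Set H) := by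
    rw [← iSup_map_conj_eq N hmin hS]
    refine iSup_le fun h => ?_
    have hSh := hS.map_conj h
    by_cases hle : S.map (MulAut.conj h).toMonoidHom ≤ S
    · rcases hS.2.2.2 _ hle hSh.2.2.1 with hb | hb
      · exact absurd hb hSh.2.1
      · rw [hb]; exact hSR
    · have hd := hSh.disjoint_of_not_le hS.2.2.1 hle
      have hc := commute_of_disjoint hSh.1 hS.1 hSh.2.2.1 hS.2.2.1 hd
      intro s hs
      rw [Subgroup.mem_normalizer_iff]
      intro y
      constructor
      · intro hy
        have := hc s hs y (hRS hy)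
        have e : s * y * s⁻¹ = y := by rw [this]; group
        rw [e]; exact hy
      · intro hy
        have := hc s hs _ (hRS hy)
        have e : y = s * y * s⁻¹ := by
          have h2 : s * (s * y * s⁻¹) = s * y := by rw [this]; group
          exact (mul_left_cancel h2).symm
        rw [e]; exact hy
  rcases hS.2.2.2 R hRS hNR with hb | hb
  · left
    rw [← hRof, hb]
    exact Subgroup.bot_subgroupOf S
  · right
    rw [← hRof, hb]
    exact Subgroup.subgroupOf_self S

include hmin in
/-- a minimal normal subgroup is a direct power of (a copy `T` of) its minimal normal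
subgroup -/
theorem MinNormalIn.exists_mulEquiv_pi (hN : N ≠ ⊥) {S : Subgroup H} (hS : MinNormalIn N S)
    {T : Type*} [Group T] (e : S ≃* T) :
    ∃ m : ℕ, 0 < m ∧ Nonempty (N ≃* (Fin m → T)) := by
  classical
  let Good : Set (Subgroup H) :=
    {M | M ≤ N ∧ N ≤ Subgroup.normalizer (M : Set H) ∧ ∃ m : ℕ, Nonempty (M ≃* (Fin m → T))}
  have hbot : (⊥ : Subgroup H) ∈ Good := by
    refine ⟨bot_le, ?_, 0, ⟨MulEquiv.ofUnique⟩⟩
    intro n _
    rw [mem_normalizer_iff_map_conj, Subgroup.map_bot]
  obtain ⟨M, hM, hMmax⟩ := (wellFounded_gt (α := Subgroup H)).has_min Good ⟨⊥, hbot⟩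
  obtain ⟨hMN, hMn, m, ⟨φ⟩⟩ := hM
  have hall : ∀ h : H, S.map (MulAut.conj h).toMonoidHom ≤ M := by
    intro h
    by_contra hle
    have hSh := hS.map_conj h
    have hd := hSh.disjoint_of_not_le hMn hle
    have hc := commute_of_disjoint hSh.1 hMN hSh.2.2.1 hMn hd
    have hinj : Function.Injective (MulAut.conj h).toMonoidHom := (MulAut.conj h).injective
    have ψ : ↥(S.map (MulAut.conj h).toMonoidHom ⊔ M) ≃* (Fin (m + 1) → T) :=
      (supMulEquivProd _ M hd hc).trans
        ((MulEquiv.prodCongr ((Subgroup.equivMapOfInjective S _ hinj).symm.trans e) φ).trans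
          (consMulEquiv T m))
    have hgood : (S.map (MulAut.conj h).toMonoidHom ⊔ M) ∈ Good :=
      ⟨sup_le hSh.1 hMN, le_normalizer_sup hSh.2.2.1 hMn, m + 1, ⟨ψ⟩⟩
    refine hMmax _ hgood ?_
    show M < S.map (MulAut.conj h).toMonoidHom ⊔ M
    refine lt_of_le_of_ne le_sup_right ?_
    intro heq
    exact hle (heq ▸ le_sup_left)
  have hMeq : M = N := by
    refine le_antisymm hMN ?_
    rw [← iSup_map_conj_eq N hmin hS]
    exact iSup_le hall
  subst hMeq
  refine ⟨m, ?_, ⟨φ⟩⟩
  rcases Nat.eq_zero_or_pos m with h0 | h0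
  · subst h0
    exfalso
    apply hN
    haveI : Subsingleton M := φ.toEquiv.subsingleton
    exact Subgroup.eq_bot_of_subsingleton M
  · exact h0

end main

end Cfsg.Agent.Lib.Helper4.MinNormal
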