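import Mathlib
import Cfsg.Agent.Lib.Helper7.SylowLib
import Cfsg.Agent.Lib.Helper4.MinNormal

set_option autoImplicit false

/-! Involutions acting on groups of odd order (helper4). -/

namespace Cfsg.Agent.Lib.Helper4.InvAction

open Cfsg.Agent.Lib.Helper7 Cfsg.Agent.Lib.Helper4.MinNormal

variable {G : Type*} [Group G]

/-- an involution normalizing a finite subgroup `S` and centralizing no non-identity element of
`S` inverts every element of `S` -/
theorem inverts_of_fixedPointFree (S : Subgroup G) [Finite S] (t : G) (ht : t * t = 1)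
    (hnorm : ∀ s ∈ S, t * s * t⁻¹ ∈ S) (hfpf : ∀ s ∈ S, t * s = s * t → s = 1) :
    ∀ s ∈ S, t * s * t⁻¹ = s⁻¹ := by
  have htinv : t⁻¹ = t := inv_eq_of_mul_eq_one_left ht
  let φ : S → S := fun s => ⟨(s : G)⁻¹ * (t * s * t⁻¹), S.mul_mem (S.inv_mem s.2) (hnorm s s.2)⟩
  have hinj : Function.Injective φ := by
    intro s r h
    have h1 : (s : G)⁻¹ * (t * s * t⁻¹) = (r : G)⁻¹ * (t * r * t⁻¹) := congrArg Subtype.val h
    have h2 : t * ((r : G) * (s : G)⁻¹) = ((r : G) * (s : G)⁻¹) * t := by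
      have h3 : (r : G) * ((s : G)⁻¹ * (t * s * t⁻¹)) * t * (s : G)⁻¹ =
          (r : G) * ((r : G)⁻¹ * (t * r * t⁻¹)) * t * (s : G)⁻¹ := by rw [h1]
      have e1 : (r : G) * ((s : G)⁻¹ * (t * s * t⁻¹)) * t * (s : G)⁻¹ =
          (r : G) * (s : G)⁻¹ * t := by group
      have e2 : (r : G) * ((r : G)⁻¹ * (t * r * t⁻¹)) * t * (s : G)⁻¹ =
          t * ((r : G) * (s : G)⁻¹) := by group
      rw [e1, e2] at h3
      exact h3.symm
    have h4 := hfpf _ (S.mul_mem r.2 (S.inv_mem s.2)) h2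
    apply Subtype.ext
    have : (r : G) = (s : G) := by
      have := mul_inv_eq_one.mp h4
      exact this
    exact this.symm
  have hsurj : Function.Surjective φ := Finite.surjective_of_injective hinj
  intro y hy
  obtain ⟨s, hs⟩ := hsurj ⟨y, hy⟩
  have hy' : y = (s : G)⁻¹ * (t * s * t⁻¹) := (congrArg Subtype.val hs).symm
  rw [hy', htinv]
  have e : t * ((s : G)⁻¹ * (t * s * t)) * t = t * (s : G)⁻¹ * t * s * (t * t) := by group
  rw [e, ht, mul_one]
  have e2 : ((s : G)⁻¹ * (t * s * t))⁻¹ = t⁻¹ * (s : G)⁻¹ * t⁻¹ * s := by group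
  rw [e2, htinv]

/-- a subgroup inverted elementwise by some element is abelian -/
theorem commute_of_inverted (S : Subgroup G) (t : G) (h : ∀ s ∈ S, t * s * t⁻¹ = s⁻¹) :
    ∀ a ∈ S, ∀ b ∈ S, a * b = b * a := by
  intro a ha b hb
  have h1 := h (a * b) (S.mul_mem ha hb)
  have h2 : t * (a * b) * t⁻¹ = (t * a * t⁻¹) * (t * b * t⁻¹) := by group
  rw [h2, h a ha, h b hb, mul_inv_rev] at h1
  have := congrArg (fun x => x⁻¹) h1
  simp only [mul_inv_rev, inv_inv] at this
  exact this.symm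

variable [Finite G]

/-- an involution normalizing a subgroup `C` of odd order: some involution normalizes a Sylow
`p`-subgroup of `C` -/
theorem exists_involution_normalizing_sylow (p : ℕ) [Fact p.Prime] (C : Subgroup G)
    (hCodd : Odd (Nat.card C)) (t : G) (ht : orderOf t = 2)
    (htC : C.map (MulAut.conj t).toMonoidHom = C) :
    ∃ (Q : Subgroup G) (s : G), IsSylowIn p Q C ∧ orderOf s = 2 ∧
      Q.map (MulAut.conj s).toMonoidHom = Q := by
  obtain ⟨Q, hQ, -⟩ := exists_isSylowIn_ge (p := p) (Q := (⊥ : Subgroup G)) (H := C)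
    IsPGroup.of_bot bot_le
  have hQt : IsSylowIn p (Q.map (MulAut.conj t).toMonoidHom) C := by
    refine ⟨?_, ?_⟩
    · rw [← htC]
      exact Subgroup.map_mono hQ.1
    · rw [Subgroup.card_map_of_injective (MulAut.conj t).injective]
      exact hQ.2
  obtain ⟨c, hc, hcQ⟩ := hQ.conj hQt
  set t' := c⁻¹ * t with ht'
  have ht'Q : Q.map (MulAut.conj t').toMonoidHom = Q := by
    rw [ht', ← map_conj_map_conj, hcQ, map_conj_map_conj]
    simp only [inv_mul_cancel]
    ext y
    rw [mem_map_conj]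
    simp
  have htt : t * t = 1 := by
    have := pow_orderOf_eq_one t
    rwa [ht, pow_two] at this
  have htnotC : t ∉ C := by
    intro h
    have h1 : orderOf (⟨t, h⟩ : C) = 2 := by rw [Subgroup.orderOf_mk]; exact ht
    have h2 : 2 ∣ Nat.card C := h1 ▸ orderOf_dvd_natCard _
    exact (Nat.not_even_iff_odd.mpr hCodd) (even_iff_two_dvd.mpr h2)
  have ht'notC : t' ∉ C := by
    intro h
    apply htnotC
    have := C.mul_mem hc h
    rwa [ht', mul_inv_cancel_left] at this
  have ht'sq : t' * t' ∈ C := by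
    have h1 : t * c⁻¹ * t⁻¹ ∈ C := by
      rw [← htC]
      exact ⟨c⁻¹, C.inv_mem hc, rfl⟩
    have e : t' * t' = c⁻¹ * (t * c⁻¹ * t⁻¹) * (t * t) := by rw [ht']; group
    rw [e, htt, mul_one]
    exact C.mul_mem (C.inv_mem hc) h1
  set m := orderOf (t' * t') with hm
  have hmodd : Odd m := by
    have h1 : orderOf (⟨t' * t', ht'sq⟩ : C) = m := Subgroup.orderOf_mk _ _
    have h2 : m ∣ Nat.card C := h1 ▸ orderOf_dvd_natCard _
    exact Odd.of_dvd_nat hCodd h2
  set s := t' ^ m with hs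
  have hs2 : s * s = 1 := by
    rw [hs, ← pow_add, ← two_mul, pow_mul, pow_two, hm, pow_orderOf_eq_one]
  have hs1 : s ≠ 1 := by
    intro h
    apply ht'notC
    obtain ⟨j, hj⟩ := hmodd
    have : t' = (t' ^ m) * ((t' * t') ^ j)⁻¹ := by
      rw [hj, ← pow_two, ← pow_mul, pow_succ]
      group
    rw [this, ← hs, h, one_mul]
    exact C.inv_mem (C.pow_mem ht'sq j)
  have hs_ord : orderOf s = 2 := by
    apply orderOf_eq_prime
    · rw [pow_two]; exact hs2
    · exact hs1
  refine ⟨Q, s, hQ, hs_ord, ?_⟩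
  rw [← mem_normalizer_iff_map_conj] at ht'Q ⊢
  exact Subgroup.pow_mem _ ht'Q m

/-- a `p`-element of `C` centralizing a Sylow `p`-subgroup `Q` of `C` lies in `Q` -/
theorem mem_of_centralizes_sylowIn (p : ℕ) [Fact p.Prime] {Q C : Subgroup G}
    (hQ : IsSylowIn p Q C) (w : G) (hwC : w ∈ C) (hw : ∃ j : ℕ, orderOf w = p ^ j)
    (hcomm : ∀ s ∈ Q, w * s = s * w) : w ∈ Q := by
  have hp : p.Prime := Fact.out
  have hQp : IsPGroup p Q := hQ.isPGroup
  have hWp : IsPGroup p (Subgroup.zpowers w) := by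
    obtain ⟨j, hj⟩ := hw
    apply IsPGroup.of_card (n := j)
    rw [Nat.card_zpowers, hj]
  have hnorm : Subgroup.zpowers w ≤ Subgroup.normalizer (Q : Set G) := by
    rw [Subgroup.zpowers_le]
    rw [Subgroup.mem_normalizer_iff]
    intro y
    constructor
    · intro hy
      have := hcomm y hy
      have e : w * y * w⁻¹ = y := by rw [this]; group
      rw [e]; exact hy
    · intro hy
      have := hcomm _ hy
      have e : y = w * y * w⁻¹ := by
        have h2 : w * (w * y * w⁻¹) = w * y := by rw [this]; group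
        exact (mul_left_cancel h2).symm
      rw [e]; exact hy
  have hRp : IsPGroup p (Subgroup.zpowers w ⊔ Q : Subgroup G) :=
    IsPGroup.to_sup_of_normal_right' hWp hQp hnorm
  have hRC : Subgroup.zpowers w ⊔ Q ≤ C := sup_le (by rw [Subgroup.zpowers_le]; exact hwC) hQ.1
  obtain ⟨n, hn⟩ := hRp.exists_card_eq
  have hdvd : p ^ n ∣ Nat.card C := hn ▸ Subgroup.card_dvd_of_le hRC
  have hle : n ≤ (Nat.card C).factorization p :=
    (hp.pow_dvd_iff_le_factorization Nat.card_pos.ne').mp hdvd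
  have hcard : Nat.card (Subgroup.zpowers w ⊔ Q : Subgroup G) ≤ Nat.card Q := by
    rw [hn, hQ.2]
    exact Nat.pow_le_pow_right hp.pos hle
  have heq : Q = Subgroup.zpowers w ⊔ Q := Subgroup.eq_of_le_of_card_ge le_sup_right hcard
  rw [heq]
  exact (le_sup_left : Subgroup.zpowers w ≤ _) (Subgroup.mem_zpowers w)

end Cfsg.Agent.Lib.Helper4.InvAction
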