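import Mathlib
import Cfsg.Prelude.Def_OddOrderLocal
import Cfsg.Agent.H1.Cores

/-! Helper lemmas for the type-P data of a maximal subgroup (helper4):
complements `IsComplIn`, the normal nilpotent Hall subgroup `fittingHall`, order arguments. -/

namespace Cfsg.Agent.Lib.Helper4.TypeP

variable {G : Type*} [Group G]

/-- elements of `A ⊔ B` are products when `A` and `B` commute elementwise -/
lemma mem_sup_of_commute (A B : Subgroup G)
    (h : ∀ a ∈ A, ∀ b ∈ B, a * b = b * a) {t : G} (ht : t ∈ A ⊔ B) :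
    ∃ a ∈ A, ∃ b ∈ B, t = a * b := by
  have hAB : A ⊔ B = Subgroup.closure ((A : Set G) ∪ B) := by
    rw [Subgroup.closure_union, Subgroup.closure_eq, Subgroup.closure_eq]
  rw [hAB] at ht
  refine Subgroup.closure_induction (p := fun t _ => ∃ a ∈ A, ∃ b ∈ B, t = a * b) ?_ ?_ ?_ ?_ ht
  · rintro x (hx | hx)
    · exact ⟨x, hx, 1, B.one_mem, by simp⟩
    · exact ⟨1, A.one_mem, x, hx, by simp⟩
  · exact ⟨1, A.one_mem, 1, B.one_mem, by simp⟩
  · rintro x y _ _ ⟨a, ha, b, hb, rfl⟩ ⟨a', ha', b', hb', rfl⟩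
    refine ⟨a * a', A.mul_mem ha ha', b * b', B.mul_mem hb hb', ?_⟩
    have := h a' ha' b hb
    calc a * b * (a' * b') = a * (b * a') * b' := by group
      _ = a * (a' * b) * b' := by rw [this]
      _ = a * a' * (b * b') := by group
  · rintro x _ ⟨a, ha, b, hb, rfl⟩
    refine ⟨a⁻¹, A.inv_mem ha, b⁻¹, B.inv_mem hb, ?_⟩
    have := h a ha b hb
    rw [mul_inv_rev]
    have h2 : b⁻¹ * a⁻¹ = (a * b)⁻¹ := by group
    rw [h2, this]; group

/-- `IsComplIn A B M` gives complements inside `↥M` -/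
lemma isComplement'_of_complIn {A B M : Subgroup G} (h : Cfsg.IsComplIn A B M) :
    Subgroup.IsComplement' (A.subgroupOf M) (B.subgroupOf M) := by
  obtain ⟨hA, hB, hdisj, hprod⟩ := h
  apply Subgroup.isComplement'_of_disjoint_and_mul_eq_univ
  · rw [Subgroup.disjoint_def]
    intro x hx hy
    rw [Subgroup.mem_subgroupOf] at hx hy
    have : (x : G) ∈ A ⊓ B := ⟨hx, hy⟩
    rw [hdisj, Subgroup.mem_bot] at this
    exact Subtype.ext this
  · rw [Set.eq_univ_iff_forall]
    intro x
    obtain ⟨a, ha, b, hb, hab⟩ := hprod x x.2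
    refine Set.mem_mul.mpr ⟨⟨a, hA ha⟩, ?_, ⟨b, hB hb⟩, ?_, ?_⟩
    · exact Subgroup.mem_subgroupOf.mpr ha
    · exact Subgroup.mem_subgroupOf.mpr hb
    · exact Subtype.ext hab.symm

lemma relIndex_eq_card_of_complIn [Finite G] {A B M : Subgroup G}
    (h : Cfsg.IsComplIn A B M) : B.relIndex M = Nat.card A := by
  have hc := isComplement'_of_complIn h
  have := hc.index_eq_card
  rw [Subgroup.relIndex, this]
  exact Nat.card_congr (Subgroup.subgroupOfEquivOfLe h.1).toEquiv

lemma card_mul_relIndex_of_le [Finite G] {B M : Subgroup G} (h : B ≤ M) :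
    Nat.card B * B.relIndex M = Nat.card M := by
  have := Subgroup.relIndex_mul_relIndex (⊥ : Subgroup G) B M bot_le h
  rwa [Subgroup.relIndex_bot_left, Subgroup.relIndex_bot_left] at this

lemma card_eq_mul_of_complIn [Finite G] {A B M : Subgroup G}
    (h : Cfsg.IsComplIn A B M) : Nat.card M = Nat.card A * Nat.card B := by
  rw [← card_mul_relIndex_of_le h.2.1, relIndex_eq_card_of_complIn h, mul_comm]

/-- second isomorphism theorem, index form, with only a normalizer hypothesis -/
lemma relIndex_sup_of_le_normalizer (H N : Subgroup G) (hLE : H ≤ Subgroup.normalizer (N : Set G)) :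
    N.relIndex (H ⊔ N) = N.relIndex H :=
  letI := Subgroup.normal_subgroupOf_of_le_normalizer hLE
  letI := Subgroup.normal_subgroupOf_sup_of_le_normalizer hLE
  Nat.card_congr (QuotientGroup.quotientInfEquivProdNormalizerQuotient H N hLE).toEquiv.symm

/-- a subgroup `P` normalized by `U`, both inside `D` with `|D| = n |U|` and `(|P|, n) = 1`,
lies in `U` -/
lemma le_of_coprime_of_card_eq [Finite G] (P U D : Subgroup G) (hPD : P ≤ D) (hUD : U ≤ D)
    (hN : U ≤ Subgroup.normalizer (P : Set G)) (n : ℕ) (hD : Nat.card D = n * Nat.card U)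
    (hc : (Nat.card P).Coprime n) : P ≤ U := by
  have h1 : Nat.card (U ⊔ P : Subgroup G) = Nat.card P * P.relIndex U := by
    rw [← card_mul_relIndex_of_le (le_sup_right : P ≤ U ⊔ P), relIndex_sup_of_le_normalizer U P hN]
  have h2 : Nat.card U = Nat.card (P ⊓ U : Subgroup G) * P.relIndex U := by
    rw [← card_mul_relIndex_of_le (inf_le_right : P ⊓ U ≤ U), Subgroup.inf_relIndex_right]
  have h3 : Nat.card (U ⊔ P : Subgroup G) ∣ Nat.card D :=
    Subgroup.card_dvd_of_le (sup_le hUD hPD)
  have hr : 0 < P.relIndex U := by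
    apply Nat.pos_of_ne_zero
    intro h0
    rw [h0, mul_zero] at h2
    exact Nat.card_pos.ne' h2
  rw [hD, h1, h2, ← mul_assoc] at h3
  have h4 : Nat.card P ∣ n * Nat.card (P ⊓ U : Subgroup G) :=
    Nat.dvd_of_mul_dvd_mul_right hr h3
  have h5 : Nat.card P ∣ Nat.card (P ⊓ U : Subgroup G) := hc.dvd_of_dvd_mul_left h4
  have h6 : P ⊓ U = P :=
    Subgroup.eq_of_le_of_card_ge inf_le_left (Nat.le_of_dvd Nat.card_pos h5)
  exact h6 ▸ inf_le_right

/-- a subgroup whose order is coprime to the index of a normal subgroup lies in it -/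
lemma le_normal_of_coprime_index (N P : Subgroup G) [N.Normal]
    (hc : (Nat.card P).Coprime N.index) : P ≤ N := by
  rw [← Subgroup.relIndex_eq_one]
  exact Nat.eq_one_of_dvd_coprimes hc (Subgroup.relIndex_dvd_card N P)
    (Subgroup.relIndex_dvd_index_of_normal N P)

/-! ### `fittingHall` -/

lemma isNilpotent_of_le {K L : Subgroup G} (h : K ≤ L) (hL : Group.IsNilpotent L) :
    Group.IsNilpotent K :=
  Group.nilpotent_of_mulEquiv (Subgroup.subgroupOfEquivOfLe h)

lemma fittingHall_mem (M : Type*) [Group M] [Finite M] :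
    (Cfsg.fittingHall M).Normal ∧ Group.IsNilpotent (Cfsg.fittingHall M) ∧
      (Nat.card (Cfsg.fittingHall M)).Coprime (Cfsg.fittingHall M).index := by
  apply Cfsg.Agent.H1.sSup_mem_of_sup_closed
    {N : Subgroup M | N.Normal ∧ Group.IsNilpotent N ∧ (Nat.card N).Coprime N.index}
  · refine ⟨inferInstance, inferInstance, ?_⟩
    rw [Subgroup.card_bot]; exact Nat.coprime_one_left _
  · rintro A ⟨hA1, hA2, hA3⟩ B ⟨hB1, hB2, hB3⟩
    refine ⟨inferInstance, ?_, ?_⟩
    · have hA := Cfsg.Agent.H1.le_fittingSubgroup hA1 hA2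
      have hB := Cfsg.Agent.H1.le_fittingSubgroup hB1 hB2
      exact isNilpotent_of_le (sup_le hA hB) Cfsg.Agent.H1.fittingSubgroup_nilpotent
    · apply Nat.Coprime.coprime_dvd_left (Cfsg.Agent.H1.card_sup_dvd_of_normal A B)
      apply Nat.Coprime.mul_left
      · exact hA3.coprime_dvd_right (Subgroup.index_dvd_of_le le_sup_left)
      · exact hB3.coprime_dvd_right (Subgroup.index_dvd_of_le le_sup_right)

lemma fittingHall_nilpotent (M : Type*) [Group M] [Finite M] :
    Group.IsNilpotent (Cfsg.fittingHall M) := (fittingHall_mem M).2.1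

lemma fittingHall_coprime (M : Type*) [Group M] [Finite M] :
    (Nat.card (Cfsg.fittingHall M)).Coprime (Cfsg.fittingHall M).index := (fittingHall_mem M).2.2

lemma le_fittingHall {M : Type*} [Group M] {N : Subgroup M} (h1 : N.Normal)
    (h2 : Group.IsNilpotent N) (h3 : (Nat.card N).Coprime N.index) : N ≤ Cfsg.fittingHall M :=
  le_sSup ⟨h1, h2, h3⟩

/-! ### `fittingHallOf` at the level of the ambient group -/

lemma fittingHallOf_le (M : Subgroup G) : Cfsg.fittingHallOf M ≤ M :=
  Subgroup.map_subtype_le _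

lemma subgroupOf_fittingHallOf (M : Subgroup G) :
    (Cfsg.fittingHallOf M).subgroupOf M = Cfsg.fittingHall M := by
  unfold Cfsg.fittingHallOf Subgroup.subgroupOf
  exact Subgroup.comap_map_eq_self_of_injective M.subtype_injective _

lemma card_fittingHallOf (M : Subgroup G) :
    Nat.card (Cfsg.fittingHallOf M) = Nat.card (Cfsg.fittingHall M) :=
  Nat.card_congr ((Cfsg.fittingHall M).equivMapOfInjective _ M.subtype_injective).symm.toEquiv

lemma relIndex_fittingHallOf (M : Subgroup G) :
    (Cfsg.fittingHallOf M).relIndex M = (Cfsg.fittingHall M).index := by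
  rw [Subgroup.relIndex, subgroupOf_fittingHallOf]

lemma le_normalizer_map_subtype (M : Subgroup G) (N : Subgroup M) [N.Normal] :
    M ≤ Subgroup.normalizer ((N.map M.subtype : Subgroup G) : Set G) := by
  intro m hm
  rw [Subgroup.mem_normalizer_iff]
  intro h
  constructor
  · rintro ⟨x, hx, rfl⟩
    exact ⟨⟨m, hm⟩ * x * ⟨m, hm⟩⁻¹, ‹N.Normal›.conj_mem x hx _, by simp⟩
  · rintro ⟨x, hx, hxe⟩
    have hh : h = m⁻¹ * (x : G) * m := by
      have : (M.subtype x : G) = (x : G) := rfl
      rw [← this, hxe]; group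
    refine ⟨⟨m, hm⟩⁻¹ * x * ⟨m, hm⟩, ?_, by simp [hh]⟩
    have := ‹N.Normal›.conj_mem x hx ⟨m, hm⟩⁻¹
    simpa using this

lemma le_normalizer_fittingHallOf (M : Subgroup G) :
    M ≤ Subgroup.normalizer ((Cfsg.fittingHallOf M : Subgroup G) : Set G) :=
  le_normalizer_map_subtype M _

lemma fittingHallOf_coprime [Finite G] (M : Subgroup G) :
    (Nat.card (Cfsg.fittingHallOf M)).Coprime ((Cfsg.fittingHallOf M).relIndex M) := by
  rw [card_fittingHallOf, relIndex_fittingHallOf]
  exact fittingHall_coprime M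

lemma fittingHallOf_nilpotent [Finite G] (M : Subgroup G) :
    Group.IsNilpotent (Cfsg.fittingHallOf M) :=
  have := fittingHall_nilpotent M
  Group.nilpotent_of_mulEquiv ((Cfsg.fittingHall M).equivMapOfInjective _ M.subtype_injective)

/-- a nilpotent Hall subgroup of `M` normalized by `M` lies in `M_F` -/
lemma le_fittingHallOf {M N : Subgroup G} (hNM : N ≤ M)
    (hn : M ≤ Subgroup.normalizer (N : Set G)) (hnil : Group.IsNilpotent N)
    (hc : (Nat.card N).Coprime (N.relIndex M)) : N ≤ Cfsg.fittingHallOf M := by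
  have h1 : (N.subgroupOf M).Normal := Subgroup.normal_subgroupOf_of_le_normalizer hn
  have h2 : Group.IsNilpotent (N.subgroupOf M) :=
    Group.nilpotent_of_mulEquiv (Subgroup.subgroupOfEquivOfLe hNM).symm
  have h3 : (Nat.card (N.subgroupOf M)).Coprime (N.subgroupOf M).index := by
    rw [Nat.card_congr (Subgroup.subgroupOfEquivOfLe hNM).toEquiv]
    exact hc
  have := le_fittingHall h1 h2 h3
  intro x hx
  exact ⟨⟨x, hNM hx⟩, this (Subgroup.mem_subgroupOf.mpr hx), rfl⟩

end Cfsg.Agent.Lib.Helper4.TypeP
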