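import Mathlib
import Cfsg.Prelude.Def_OddOrderLocal
import Cfsg.Agent.H1.Cores
import Cfsg.Agent.H2.CNQuotient

/-!
# Three-step groups: two abstract lemmas

* `centralizer_pCore_le` : in a three-step group `C(O_p) ≤ O_p`.
* `not_threeStep_of_nilpotent` : a finite group with a normal nilpotent subgroup with abelian quotient is not a
  three-step group (with respect to any natural number).
-/

set_option autoImplicit false
set_option linter.style.haveILetI false
set_option linter.unusedVariables false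
set_option linter.unusedSectionVars false

open scoped commutatorElement

namespace Cfsg.Agent.Lib.Helper4.ThreeStep

open Cfsg

variable {Y : Type*} [Group Y]

/-- in `H ⋊ A` with `A` acting without fixed points on `H ≠ 1`, the centralizer of `H` lies in `H` -/
theorem mem_of_mem_sup_of_centralizes (H A : Subgroup Y) [hHn : H.Normal] (hH1 : H ≠ ⊥)
    (hfpf : ∀ a ∈ A, a ≠ 1 → H ⊓ Subgroup.centralizer ({a} : Set Y) = ⊥)
    {y : Y} (hy : y ∈ H ⊔ A) (hyc : y ∈ Subgroup.centralizer (H : Set Y)) : y ∈ H := by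
  have h1 : y ∈ ((H ⊔ A : Subgroup Y) : Set Y) := hy
  rw [Subgroup.normal_mul] at h1
  obtain ⟨h, hh, a, ha, rfl⟩ := Set.mem_mul.mp h1
  by_cases ha1 : a = 1
  · subst ha1
    rw [mul_one]; exact hh
  exfalso
  have hc := Subgroup.mem_centralizer_iff.mp hyc
  -- `h` commutes with `a`
  have h2 : h ∈ H ⊓ Subgroup.centralizer ({a} : Set Y) := by
    refine Subgroup.mem_inf.mpr ⟨hh, ?_⟩
    rw [Subgroup.mem_centralizer_singleton_iff]
    have h3 := hc h hh
    -- h * (h * a) = h * a * h
    have h4 : h * (h * a) = h * (a * h) := by rw [h3]; group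
    exact mul_left_cancel h4
  rw [hfpf a ha ha1, Subgroup.mem_bot] at h2
  subst h2
  rw [one_mul] at hc
  apply hH1
  rw [eq_bot_iff, ← hfpf a ha ha1]
  intro u hu
  refine Subgroup.mem_inf.mpr ⟨hu, ?_⟩
  rw [Subgroup.mem_centralizer_singleton_iff]
  exact hc u hu

/-- in a three-step group `C(O_p) ≤ O_p` -/
theorem centralizer_pCore_le [Finite Y] {p : ℕ} (h3 : Cfsg.IsThreeStepGroup p Y) :
    Subgroup.centralizer ((Cfsg.pCore p Y : Subgroup Y) : Set Y) ≤ Cfsg.pCore p Y := by
  obtain ⟨hH1, A, hA1, hAc, hAodd, hAcop, hHAn, hHAtop, ⟨k, hk⟩, hfpf, hlast⟩ := h3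
  haveI hHn : (Cfsg.pCore p Y).Normal := Cfsg.Agent.H1.pCore_normal p
  have hHp : IsPGroup p ↥(Cfsg.pCore p Y) := Cfsg.Agent.H1.pCore_isPGroup p
  haveI hCn : (Subgroup.centralizer ((Cfsg.pCore p Y : Subgroup Y) : Set Y)).Normal :=
    Subgroup.normal_centralizer
  apply Cfsg.Agent.H1.le_pCore hCn
  rintro ⟨g, hg⟩
  haveI := hHAn
  have h1 : g ^ (p ^ k) ∈ Cfsg.pCore p Y ⊔ A := by
    rw [← hk]; exact Subgroup.pow_index_mem _ g
  have h2 : g ^ (p ^ k) ∈ Subgroup.centralizer ((Cfsg.pCore p Y : Subgroup Y) : Set Y) :=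
    Subgroup.pow_mem _ hg _
  have h3 := mem_of_mem_sup_of_centralizes _ A hH1 hfpf h1 h2
  obtain ⟨m, hm⟩ := hHp ⟨_, h3⟩
  refine ⟨k + m, ?_⟩
  apply Subtype.ext
  have h4 := congrArg Subtype.val hm
  simp only [Subgroup.coe_pow, Subgroup.coe_one] at h4 ⊢
  rw [pow_add, pow_mul]
  exact h4

/-- a finite group with a normal nilpotent subgroup with abelian quotient is not a three-step group -/
theorem not_threeStep_of_nilpotent [Finite Y] (L : Subgroup Y) [hLn : L.Normal]
    (hL : Group.IsNilpotent L) (hcomm : commutator Y ≤ L) (n : ℕ) :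
    ¬ Cfsg.IsThreeStepGroup n Y := by
  rintro ⟨hH1, A, hA1, hAc, hAodd, hAcop, hHAn, hHAtop, ⟨k, hk⟩, hfpf, hlast⟩
  haveI hHn : (Cfsg.pCore n Y).Normal := Cfsg.Agent.H1.pCore_normal n
  have hHp : IsPGroup n ↥(Cfsg.pCore n Y) := Cfsg.Agent.H1.pCore_isPGroup n
  set H := Cfsg.pCore n Y with hH
  haveI := hHAn
  obtain ⟨x, hx⟩ : ∃ x : Y, x ∉ H ⊔ A := by
    by_contra hcon
    push Not at hcon
    exact hHAtop ((Subgroup.eq_top_iff' _).mpr hcon)
  obtain ⟨⟨a, haA⟩, ha1'⟩ := (Subgroup.ne_bot_iff_exists_ne_one).mp hA1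
  have ha1 : a ≠ 1 := fun h => ha1' (Subtype.ext h)
  apply hlast x hx a haA ha1
  set N : Subgroup Y := L ⊓ (H ⊔ A) with hN
  have hcN : x * a * x⁻¹ * a⁻¹ ∈ N := by
    refine ⟨hcomm ?_, ?_⟩
    · have h1 : ⁅x, a⁆ ∈ commutator Y := by
        rw [commutator_def]
        exact Subgroup.commutator_mem_commutator (Subgroup.mem_top x) (Subgroup.mem_top a)
      rwa [commutatorElement_def] at h1
    · exact Subgroup.mul_mem _ (hHAn.conj_mem a (Subgroup.mem_sup_right haA) x)
        (Subgroup.inv_mem _ (Subgroup.mem_sup_right haA))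
  haveI hNn : N.Normal := by rw [hN]; infer_instance
  have hNnil : Group.IsNilpotent N := Cfsg.Agent.H2.CNQ.nilpotent_of_le inf_le_left hL
  suffices hNH : N ≤ H from hNH hcN
  have htop : H.subgroupOf N = ⊤ := by
    apply Cfsg.Agent.H1.eq_top_of_forall_sylow_le
    intro r hr
    obtain ⟨P⟩ : Nonempty (Sylow r N) := inferInstance
    refine ⟨P, ?_⟩
    have hPn : (P : Subgroup N).Normal := inferInstance
    have hPc : (P : Subgroup N).Characteristic := Sylow.characteristic_of_normal P hPn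
    have hQn : ((P : Subgroup N).map N.subtype).Normal := ConjAct.normal_of_characteristic_of_normal
    have hQr : IsPGroup r ((P : Subgroup N).map N.subtype) := P.isPGroup'.map _
    have hQN : (P : Subgroup N).map N.subtype ≤ N := Subgroup.map_subtype_le _
    suffices hle : (P : Subgroup N).map N.subtype ≤ H by
      intro z hz
      rw [Subgroup.mem_subgroupOf]
      exact hle ⟨z, hz, rfl⟩
    by_cases hrn : r ∣ n
    · apply Cfsg.Agent.H1.le_pCore hQn
      intro g
      obtain ⟨j, hj⟩ := hQr g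
      refine ⟨j, ?_⟩
      obtain ⟨d, hd⟩ := pow_dvd_pow_of_dvd hrn j
      rw [hd, pow_mul, hj, one_pow]
    · have hcop : Nat.Coprime r n := (Nat.Prime.coprime_iff_not_dvd hr.out).mpr hrn
      -- `Q ∩ H = 1`
      have hQH : ∀ g : Y, g ∈ (P : Subgroup N).map N.subtype → g ∈ H → g = 1 := by
        intro g hgQ hgH
        obtain ⟨j, hj⟩ := hQr ⟨g, hgQ⟩
        obtain ⟨i, hi⟩ := hHp ⟨g, hgH⟩
        have hj' : g ^ r ^ j = 1 := by
          have := congrArg Subtype.val hj
          simpa using this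
        have hi' : g ^ n ^ i = 1 := by
          have := congrArg Subtype.val hi
          simpa using this
        have h1 : orderOf g ∣ r ^ j := orderOf_dvd_of_pow_eq_one hj'
        have h2 : orderOf g ∣ n ^ i := orderOf_dvd_of_pow_eq_one hi'
        have h3 : orderOf g ∣ Nat.gcd (r ^ j) (n ^ i) := Nat.dvd_gcd h1 h2
        rw [Nat.Coprime.gcd_eq_one (Nat.Coprime.pow j i hcop)] at h3
        exact orderOf_eq_one_iff.mp (Nat.dvd_one.mp h3)
      intro q hq
      have hqc : q ∈ Subgroup.centralizer (H : Set Y) := by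
        rw [Subgroup.mem_centralizer_iff]
        intro u hu
        have h1 : q * u * q⁻¹ * u⁻¹ ∈ (P : Subgroup N).map N.subtype := by
          have e : q * u * q⁻¹ * u⁻¹ = q * (u * q⁻¹ * u⁻¹) := by group
          rw [e]
          exact Subgroup.mul_mem _ hq (hQn.conj_mem _ (Subgroup.inv_mem _ hq) u)
        have h2 : q * u * q⁻¹ * u⁻¹ ∈ H :=
          Subgroup.mul_mem _ (hHn.conj_mem u hu q) (Subgroup.inv_mem _ hu)
        have h3 := hQH _ h1 h2
        have h4 : q * u = u * q := by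
          have e : q * u = (q * u * q⁻¹ * u⁻¹) * (u * q) := by group
          rw [e, h3, one_mul]
        exact h4.symm
      have hqH : q ∈ H :=
        mem_of_mem_sup_of_centralizes H A hH1 hfpf ((hQN hq : q ∈ N).2) hqc
      rw [hQH q hq hqH]
      exact Subgroup.one_mem _
  rwa [Subgroup.subgroupOf_eq_top] at htop

end Cfsg.Agent.Lib.Helper4.ThreeStep
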