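import Mathlib
import Cfsg.Prelude.Def_OddOrderLocal
import Cfsg.Prelude.Def_OddOrder
import Cfsg.Agent.Lib.Helper4.ThreeStepA
import Cfsg.Agent.Lib.Helper4.TypeP
import Cfsg.Agent.H2.CNSolvable
import Cfsg.Agent.H2.CNNormalSylow

/-!
# Solvable CN-groups that are not three-step groups

For a finite solvable CN-group `Y` that is not a three-step group for any prime:
* `frobenius_of_not_nilpotent` : if `Y` is not nilpotent then `Y_F` (the largest normal nilpotent Hall subgroup) is a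
  nontrivial proper subgroup with a complement acting without fixed points;
* `sylow_normal_of_pCore_ne_bot` : if `O_p(Y) ≠ 1` then the Sylow `p`-subgroups of `Y` are normal.
-/

set_option autoImplicit false
set_option linter.style.haveILetI false
set_option linter.unusedVariables false
set_option linter.unusedSectionVars false

open scoped commutatorElement

namespace Cfsg.Agent.Lib.Helper4.CNMax

open Cfsg Cfsg.Agent.Lib.Helper4.ThreeStep

universe u

variable {Y : Type u} [Group Y] [Finite Y]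

theorem frobenius_of_not_nilpotent [Group.IsSolvable Y] (hCN : Cfsg.IsCNGroup Y)
    (h3 : ∀ p : ℕ, p.Prime → ¬ Cfsg.IsThreeStepGroup p Y) (hnn : ¬ Group.IsNilpotent Y) :
    Cfsg.fittingHall Y ≠ ⊥ ∧ Cfsg.fittingHall Y ≠ ⊤ ∧
      ∃ E : Subgroup Y, Subgroup.IsComplement' (Cfsg.fittingHall Y) E ∧ E ≠ ⊥ ∧
        ∀ e ∈ E, e ≠ 1 → Cfsg.fittingHall Y ⊓ Subgroup.centralizer ({e} : Set Y) = ⊥ := by
  by_cases hB : ∀ p : ℕ, ∀ _ : Fact p.Prime, ∀ P : Sylow p Y, (P : Subgroup Y).Normal →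
      (P : Subgroup Y) = ⊥
  · exfalso
    obtain ⟨p, hp, h⟩ := Cfsg.Agent.H2.CNSolv.three_step hCN hnn hB
    exact h3 p hp h
  · push Not at hB
    obtain ⟨p, hpF, P, hPn, hP1⟩ := hB
    obtain ⟨hF1, hFtop, ⟨E, hE, hFrob, hfpf⟩, -⟩ :=
      Cfsg.Agent.H2.CNSyl.cn_normal_sylow hCN hnn p P hP1 hPn
    exact ⟨hF1, hFtop, E, hE, hFrob.1, hfpf⟩

/-- `C(Y_F) ≤ Y_F` -/
theorem centralizer_fittingHall_le [Group.IsSolvable Y] (hCN : Cfsg.IsCNGroup Y)
    (h3 : ∀ p : ℕ, p.Prime → ¬ Cfsg.IsThreeStepGroup p Y) (hnn : ¬ Group.IsNilpotent Y) :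
    Subgroup.centralizer ((Cfsg.fittingHall Y : Subgroup Y) : Set Y) ≤ Cfsg.fittingHall Y := by
  obtain ⟨hF1, hFtop, E, hE, hE1, hfpf⟩ := frobenius_of_not_nilpotent hCN h3 hnn
  haveI hFn : (Cfsg.fittingHall Y).Normal := (Cfsg.Agent.Lib.Helper4.TypeP.fittingHall_mem Y).1
  intro y hy
  refine mem_of_mem_sup_of_centralizes (Cfsg.fittingHall Y) E hF1 hfpf ?_ hy
  rw [hE.sup_eq_top]
  trivial

theorem sylow_normal_of_pCore_ne_bot [Group.IsSolvable Y] (hCN : Cfsg.IsCNGroup Y)
    (h3 : ∀ p : ℕ, p.Prime → ¬ Cfsg.IsThreeStepGroup p Y) {p : ℕ} [hpf : Fact p.Prime]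
    (hQ : Cfsg.pCore p Y ≠ ⊥) (P : Sylow p Y) : (P : Subgroup Y).Normal := by
  by_cases hnn : Group.IsNilpotent Y
  · haveI := hnn
    infer_instance
  have hp : p.Prime := hpf.out
  obtain ⟨hFn, hFnil, hFcop⟩ := Cfsg.Agent.Lib.Helper4.TypeP.fittingHall_mem Y
  haveI := hFn
  have hC := centralizer_fittingHall_le hCN h3 hnn
  set F := Cfsg.fittingHall Y with hF
  haveI hQn : (Cfsg.pCore p Y).Normal := Cfsg.Agent.H1.pCore_normal p
  have hQp : IsPGroup p ↥(Cfsg.pCore p Y) := Cfsg.Agent.H1.pCore_isPGroup p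
  -- `p` divides `|F|`
  have hpF : p ∣ Nat.card ↥F := by
    by_contra hnd
    apply hQ
    have hcop : (Nat.card ↥(Cfsg.pCore p Y)).Coprime (Nat.card ↥F) := by
      obtain ⟨k, hk⟩ := hQp.exists_card_eq
      rw [hk]
      exact Nat.Coprime.pow_left k ((Nat.Prime.coprime_iff_not_dvd hp).mpr hnd)
    have hdisj : Disjoint (Cfsg.pCore p Y) F := Subgroup.disjoint_of_coprime_natCard hcop
    have hQF : Cfsg.pCore p Y ≤ F := by
      intro q hq
      apply hC
      rw [Subgroup.mem_centralizer_iff]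
      intro f hf
      exact (Subgroup.commute_of_normal_of_disjoint _ _ hQn hFn hdisj q f hq hf).eq.symm
    rw [eq_bot_iff]
    intro q hq
    have : q ∈ Cfsg.pCore p Y ⊓ F := ⟨hq, hQF hq⟩
    rwa [hdisj.eq_bot] at this
  -- `P ≤ F`
  have hidx : ¬ p ∣ F.index := by
    intro h
    have := Nat.dvd_gcd hpF h
    rw [hFcop.gcd_eq_one] at this
    exact hp.one_lt.ne' (Nat.dvd_one.mp this)
  have hPF : (P : Subgroup Y) ≤ F := by
    apply Cfsg.Agent.Lib.Helper4.TypeP.le_normal_of_coprime_index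
    obtain ⟨k, hk⟩ := P.isPGroup'.exists_card_eq
    rw [hk]
    exact Nat.Coprime.pow_left k ((Nat.Prime.coprime_iff_not_dvd hp).mpr hidx)
  -- `P` is a Sylow subgroup of the nilpotent group `F`
  have hPFp : IsPGroup p ↥((P : Subgroup Y).subgroupOf F) := P.isPGroup'.comap_subtype
  have hidx' : ¬ p ∣ ((P : Subgroup Y).subgroupOf F).index := by
    intro h
    apply P.not_dvd_index
    have h1 : (P : Subgroup Y).relIndex F ∣ (P : Subgroup Y).index :=
      Subgroup.relIndex_dvd_index_of_le hPF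
    exact h.trans h1
  let PF : Sylow p ↥F := hPFp.toSylow hidx'
  haveI := hFnil
  have hPFn : (PF : Subgroup ↥F).Normal := inferInstance
  have hPFc : (PF : Subgroup ↥F).Characteristic := Sylow.characteristic_of_normal PF hPFn
  have hmapn : ((PF : Subgroup ↥F).map F.subtype).Normal := ConjAct.normal_of_characteristic_of_normal
  have hmap : (PF : Subgroup ↥F).map F.subtype = (P : Subgroup Y) := by
    show ((P : Subgroup Y).subgroupOf F).map F.subtype = (P : Subgroup Y)
    rw [Subgroup.map_subgroupOf_eq_of_le hPF]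
  rwa [hmap] at hmapn

end Cfsg.Agent.Lib.Helper4.CNMax
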