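import Mathlib

/-!
# Finite subgroups of odd order of `GL₂(F)`, `char F = p` odd

`not_dvd_card`: a finite subgroup of odd order of `GL (Fin 2) F` (`F` a field of odd characteristic `p`)
leaving no line invariant has order prime to `p`.  Proof: centralizers of non-scalar matrices are
commutative and "Weyl groups" have order `≤ 2`, hence `N_H(R) = C_H(R)` for every Sylow `r`-subgroup,
`r ≠ p`; by Burnside's transfer theorem `H` has normal `r`-complements for all `r ≠ p`, so the Sylow
`p`-subgroup is normal (`sylow_normal`) and fixes a line.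
-/

set_option autoImplicit false

namespace Cfsg.Agent.Lib.Helper4.GL2Odd

open Matrix
open scoped commutatorElement

variable {F : Type*} [Field F]


theorem cayley (a : Matrix (Fin 2) (Fin 2) F) : a * a = a.trace • a - a.det • 1 := by
  ext i j
  fin_cases i <;> fin_cases j <;>
    simp [Matrix.mul_apply, Fin.sum_univ_two, trace_fin_two, det_fin_two] <;> ring

theorem sq_sub_of_mul_zero {R : Type*} [Ring R] (w u : R) (h1 : w * u = 0) (h2 : u * w = 0) :
    (w - u) * (w - u) = w * w + u * u := by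
  rw [sub_mul, mul_sub, mul_sub, h1, h2]; abel

/-- key lemma: a conjugate-like commuting matrix with the same trace and determinant -/
theorem kl {a b : Matrix (Fin 2) (Fin 2) F} (hc : a * b = b * a) (ht : b.trace = a.trace)
    (hd : b.det = a.det) (hdisc : a.trace ^ 2 - 4 * a.det ≠ 0) :
    b = a ∨ b = a.trace • 1 - a := by
  have ha : a * a = a.trace • a - a.det • 1 := cayley a
  have hb : b * b = a.trace • b - a.det • 1 := by rw [cayley b, ht, hd]
  have huw : (b - a) * (b + a - a.trace • 1) = 0 := by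
    have e : (b - a) * (b + a - a.trace • 1)
        = b * b + b * a - a.trace • b - a * b - a * a + a.trace • a := by
      simp only [sub_mul, mul_sub, mul_add, mul_smul_comm, mul_one]
      module
    rw [e, hb, ha, hc]; module
  have hwu : (b + a - a.trace • 1) * (b - a) = 0 := by
    have e : (b + a - a.trace • 1) * (b - a)
        = b * b + a * b - a.trace • b - b * a - a * a + a.trace • a := by
      simp only [sub_mul, mul_sub, add_mul, smul_mul_assoc, one_mul]
      module
    rw [e, hb, ha, hc]; module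
  have hu2 : (b - a) * (b - a) = -(b - a).det • 1 := by
    rw [cayley (b - a), Matrix.trace_sub, ht, sub_self, zero_smul, zero_sub, neg_smul]
  have hw2 : (b + a - a.trace • 1) * (b + a - a.trace • 1) = -(b + a - a.trace • 1).det • 1 := by
    rw [cayley (b + a - a.trace • 1)]
    have : (b + a - a.trace • (1 : Matrix (Fin 2) (Fin 2) F)).trace = 0 := by
      rw [Matrix.trace_sub, Matrix.trace_add, Matrix.trace_smul, Matrix.trace_one, ht]
      simp; ring
    rw [this, zero_smul, zero_sub, neg_smul]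
  have hdiff : ((b + a - a.trace • 1) - (b - a)) * ((b + a - a.trace • 1) - (b - a))
      = (a.trace ^ 2 - 4 * a.det) • 1 := by
    have e1 : (b + a - a.trace • 1) - (b - a) = (2 : F) • a - a.trace • 1 := by module
    rw [e1]
    have e2 : ((2 : F) • a - a.trace • 1) * ((2 : F) • a - a.trace • 1)
        = (4 : F) • (a * a) - (4 * a.trace) • a + (a.trace ^ 2) • 1 := by
      simp only [sub_mul, mul_sub, smul_mul_assoc, mul_smul_comm, mul_one, one_mul, smul_smul,
        smul_sub]
      module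
    rw [e2, ha]; module
  have hsum : (a.trace ^ 2 - 4 * a.det) = -(b + a - a.trace • 1).det - (b - a).det := by
    have e : ((b + a - a.trace • 1) - (b - a)) * ((b + a - a.trace • 1) - (b - a))
        = (b + a - a.trace • 1) * (b + a - a.trace • 1) + (b - a) * (b - a) :=
      sq_sub_of_mul_zero _ _ hwu huw
    rw [hdiff, hw2, hu2] at e
    have := congrFun (congrFun e 0) 0
    simpa [sub_eq_add_neg] using this
  by_cases hdu : (b - a).det = 0
  · have hdw : (b + a - a.trace • 1).det ≠ 0 := by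
      intro h; apply hdisc; rw [hsum, h, hdu]; ring
    left
    have hI : IsUnit (b + a - a.trace • 1).det := isUnit_iff_ne_zero.mpr hdw
    have : b - a = 0 := by
      have := congrArg (fun X => (b + a - a.trace • 1)⁻¹ * X) hwu
      simp only [← mul_assoc, Matrix.nonsing_inv_mul _ hI, one_mul, mul_zero] at this
      exact this
    exact sub_eq_zero.mp this
  · right
    have hI : IsUnit (b - a).det := isUnit_iff_ne_zero.mpr hdu
    have : b + a - a.trace • 1 = 0 := by
      have := congrArg (fun X => (b - a)⁻¹ * X) huw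
      simp only [← mul_assoc, Matrix.nonsing_inv_mul _ hI, one_mul, mul_zero] at this
      exact this
    have h2 : b = a.trace • 1 - a := by
      have := sub_eq_zero.mp this
      rw [← this]; abel
    exact h2





/-- Lemma A -/
theorem conj_eq_of_commute {a h : GL (Fin 2) F} (hh : Odd (orderOf h))
    (hc : Commute a (h * a * h⁻¹))
    (hdisc : (a : Matrix (Fin 2) (Fin 2) F).trace ^ 2 - 4 * (a : Matrix (Fin 2) (Fin 2) F).det ≠ 0) :
    h * a * h⁻¹ = a := by
  have hB : ((h * a * h⁻¹ : GL (Fin 2) F) : Matrix (Fin 2) (Fin 2) F)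
      = (h : Matrix (Fin 2) (Fin 2) F) * (a : Matrix (Fin 2) (Fin 2) F)
        * ((h⁻¹ : GL (Fin 2) F) : Matrix (Fin 2) (Fin 2) F) := by
    simp [Units.val_mul]
  have ht : ((h * a * h⁻¹ : GL (Fin 2) F) : Matrix (Fin 2) (Fin 2) F).trace
      = (a : Matrix (Fin 2) (Fin 2) F).trace := by
    rw [hB]; exact Matrix.trace_units_conj h _
  have hd : ((h * a * h⁻¹ : GL (Fin 2) F) : Matrix (Fin 2) (Fin 2) F).det
      = (a : Matrix (Fin 2) (Fin 2) F).det := by
    rw [hB]; exact Matrix.det_units_conj h _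
  have hcm : (a : Matrix (Fin 2) (Fin 2) F) * ((h * a * h⁻¹ : GL (Fin 2) F) : Matrix (Fin 2) (Fin 2) F)
      = ((h * a * h⁻¹ : GL (Fin 2) F) : Matrix (Fin 2) (Fin 2) F) * (a : Matrix (Fin 2) (Fin 2) F) := by
    rw [← Units.val_mul, ← Units.val_mul, hc.eq]
  rcases kl hcm ht hd hdisc with h1 | h2
  · exact Units.ext h1
  · -- second case: h^2 commutes with a
    have h3 : h * (h * a * h⁻¹) * h⁻¹ = a := by
      apply Units.ext
      have e : ((h * (h * a * h⁻¹) * h⁻¹ : GL (Fin 2) F) : Matrix (Fin 2) (Fin 2) F)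
          = (h : Matrix (Fin 2) (Fin 2) F) * ((h * a * h⁻¹ : GL (Fin 2) F) : Matrix (Fin 2) (Fin 2) F)
            * ((h⁻¹ : GL (Fin 2) F) : Matrix (Fin 2) (Fin 2) F) := by
        simp [Units.val_mul]
      rw [e, h2, mul_sub, sub_mul, mul_smul_comm, smul_mul_assoc, mul_one, ← Units.val_mul,
        mul_inv_cancel, ← hB, h2]
      simp
    have h4 : Commute (h ^ 2) a := by
      have : h ^ 2 * a * (h ^ 2)⁻¹ = a := by
        have e : h ^ 2 * a * (h ^ 2)⁻¹ = h * (h * a * h⁻¹) * h⁻¹ := by
          simp only [pow_two, _root_.mul_inv_rev, mul_assoc]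
        rw [e, h3]
      rw [mul_inv_eq_iff_eq_mul] at this
      exact this
    obtain ⟨k, hk⟩ := hh
    have h5 : h = (h ^ 2) ^ (k + 1) := by
      rw [← pow_mul]
      have : 2 * (k + 1) = orderOf h + 1 := by omega
      rw [this, pow_succ, pow_orderOf_eq_one, one_mul]
    have h6 : Commute h a := by
      rw [h5]; exact h4.pow_left _
    rw [h6.eq, mul_inv_cancel_right]

theorem two_ne_zero' {p : ℕ} [hp' : Fact p.Prime] [CharP F p] (hp : p ≠ 2) : (2 : F) ≠ 0 := by
  intro h
  have h2 : ((2 : ℕ) : F) = 0 := by exact_mod_cast h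
  rw [CharP.cast_eq_zero_iff F p] at h2
  have := (Nat.prime_dvd_prime_iff_eq hp'.out Nat.prime_two).mp h2
  exact hp this

/-- Lemma B -/
theorem scalar_of_disc_zero {p : ℕ} [hp' : Fact p.Prime] [CharP F p] (hp : p ≠ 2)
    {A : Matrix (Fin 2) (Fin 2) F} {m : ℕ} (hm : A ^ m = 1) (hpm : ¬ p ∣ m)
    (hdisc : A.trace ^ 2 - 4 * A.det = 0) : A = (A.trace / 2) • 1 := by
  have h2 : (2 : F) ≠ 0 := two_ne_zero' hp
  obtain ⟨l, hl⟩ : ∃ l : F, l = A.trace / 2 := ⟨_, rfl⟩
  obtain ⟨N, hN⟩ : ∃ N : Matrix (Fin 2) (Fin 2) F, N = A - l • 1 := ⟨_, rfl⟩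
  have hA : A = l • 1 + N := by rw [hN]; abel
  have hNN : N * N = 0 := by
    have e : N * N = A * A - (2 * l) • A + (l ^ 2) • 1 := by
      rw [hN]
      simp only [sub_mul, mul_sub, smul_mul_assoc, mul_smul_comm, mul_one, one_mul, smul_sub, smul_smul]
      module
    rw [e, cayley A]
    have e1 : 2 * l = A.trace := by rw [hl]; field_simp
    have e2 : l ^ 2 = A.det := by
      rw [hl, div_pow]
      have : A.trace ^ 2 = 4 * A.det := sub_eq_zero.mp hdisc
      rw [this]; field_simp; ring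
    rw [e1, e2]; module
  have hpow : ∀ k : ℕ, A ^ (k + 1) = (l ^ (k + 1)) • 1 + (((k + 1 : ℕ) : F) * l ^ k) • N := by
    intro k
    induction k with
    | zero => simp [hA]
    | succ k ih =>
      rw [pow_succ, ih]
      conv_lhs => rw [hA]
      simp only [add_mul, mul_add, smul_mul_assoc, mul_smul_comm, mul_one, one_mul, hNN, smul_zero,
        add_zero]
      push_cast
      module
  rcases Nat.eq_zero_or_pos m with h0 | hpos
  · exact absurd (h0 ▸ dvd_zero p) hpm
  obtain ⟨k, rfl⟩ : ∃ k, m = k + 1 := ⟨m - 1, by omega⟩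
  have h1 := hpow k
  rw [hm] at h1
  by_cases hN0 : N = 0
  · rw [← hl]
    conv_lhs => rw [hA, hN0, add_zero]
  exfalso
  have h3 : N = (l ^ (k + 1)) • N := by
    have := congrArg (fun X => X * N) h1
    simp only [one_mul, add_mul, smul_mul_assoc, hNN, smul_zero, add_zero] at this
    exact this
  have h4 : l ^ (k + 1) = 1 := by
    have : (1 - l ^ (k + 1)) • N = 0 := by
      rw [sub_smul, one_smul, ← h3, sub_self]
    rcases smul_eq_zero.mp this with h | h
    · exact (sub_eq_zero.mp h).symm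
    · exact absurd h hN0
  have h5 : (((k + 1 : ℕ) : F) * l ^ k) • N = 0 := by
    rw [h4, one_smul] at h1
    have : (1 : Matrix (Fin 2) (Fin 2) F) = 1 + (((k + 1 : ℕ) : F) * l ^ k) • N := h1
    simpa using this
  rcases smul_eq_zero.mp h5 with h | h
  · rcases mul_eq_zero.mp h with h | h
    · rw [CharP.cast_eq_zero_iff F p] at h
      exact hpm h
    · rcases Nat.eq_zero_or_pos k with hk | hk
      · subst hk; simp at h
      · have hl0 : l = 0 := (pow_eq_zero_iff (by omega)).mp h
        rw [hl0, zero_pow (by omega)] at h4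
        exact zero_ne_one h4
  · exact hN0 h




/-- KEY -/
theorem key {p : ℕ} [hp' : Fact p.Prime] [CharP F p] (hp : p ≠ 2) {a h : GL (Fin 2) F}
    (hh : Odd (orderOf h)) (ha : (orderOf a).Coprime p) (hc : Commute a (h * a * h⁻¹)) :
    h * a * h⁻¹ = a := by
  by_cases hdisc : (a : Matrix (Fin 2) (Fin 2) F).trace ^ 2 - 4 * (a : Matrix (Fin 2) (Fin 2) F).det = 0
  · have hm : (a : Matrix (Fin 2) (Fin 2) F) ^ (orderOf a) = 1 := by
      rw [← Units.val_pow_eq_pow_val, pow_orderOf_eq_one, Units.val_one]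
    have hpm : ¬ p ∣ orderOf a := by
      intro hd
      have := Nat.Coprime.eq_one_of_dvd ha.symm hd
      exact hp'.out.one_lt.ne' this
    have hs := scalar_of_disc_zero hp hm hpm hdisc
    have : h * a = a * h := by
      apply Units.ext
      rw [Units.val_mul, Units.val_mul, hs]
      simp
    rw [this, mul_inv_cancel_right]
  · exact conj_eq_of_commute hh hc hdisc

/-- KEY through an injective homomorphism -/
theorem key_hom {p : ℕ} [hp' : Fact p.Prime] [CharP F p] (hp : p ≠ 2) {G : Type*} [Group G]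
    (φ : G →* GL (Fin 2) F) (hφ : Function.Injective φ) {a h : G}
    (hh : Odd (orderOf h)) (ha : (orderOf a).Coprime p) (hc : Commute a (h * a * h⁻¹)) :
    h * a * h⁻¹ = a := by
  apply hφ
  rw [map_mul, map_mul, map_inv]
  apply key hp
  · rwa [orderOf_injective φ hφ]
  · rwa [orderOf_injective φ hφ]
  · have := hc.map φ
    rwa [map_mul, map_mul, map_inv] at this

/-- Lemma C: a finite `r`-group (`r ≠ p`) of odd order inside `GL₂(F)` is abelian. -/
theorem comm_of_pgroup {p : ℕ} [hp' : Fact p.Prime] [CharP F p] (hp : p ≠ 2) {R : Type*} [Group R]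
    [Finite R] (φ : R →* GL (Fin 2) F) (hφ : Function.Injective φ) {r : ℕ} [hr' : Fact r.Prime]
    (hr : r ≠ p) (hR : IsPGroup r R) (hodd : Odd (Nat.card R)) (a b : R) : a * b = b * a := by
  have hoddel : ∀ c : R, Odd (orderOf c) := fun c => Odd.of_dvd_nat hodd (orderOf_dvd_natCard c)
  have hcop : ∀ c : R, (orderOf c).Coprime p := by
    intro c
    obtain ⟨k, hk⟩ := IsPGroup.iff_orderOf.mp hR c
    rw [hk]
    exact Nat.Coprime.pow_left _ ((Nat.coprime_primes hr'.out hp'.out).mpr hr)
  -- Z₂ ≤ Z₁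
  have h21 : ∀ b : R, b ∈ Subgroup.upperCentralSeries R 2 → b ∈ Subgroup.center R := by
    intro b hb
    rw [Subgroup.mem_center_iff]
    intro c
    have hz : ⁅b, c⁆ ∈ Subgroup.upperCentralSeries R 1 := (Subgroup.mem_upperCentralSeries_succ_iff.mp hb) c
    rw [Subgroup.upperCentralSeries_one, Subgroup.mem_center_iff] at hz
    -- c * b * c⁻¹ = ⁅b,c⁆⁻¹ * b
    have e : c * b * c⁻¹ = ⁅b, c⁆⁻¹ * b := by
      rw [commutatorElement_def]; group
    have hcm : Commute b (c * b * c⁻¹) := by
      rw [e]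
      have h1 : Commute b ⁅b, c⁆⁻¹ := by
        have : Commute ⁅b, c⁆ b := (hz b).symm  -- check direction
        exact this.symm.inv_right
      exact h1.mul_right (Commute.refl b)
    have := key_hom hp φ hφ (hoddel c) (hcop b) hcm
    rw [mul_inv_eq_iff_eq_mul] at this
    exact this
  have hall : ∀ n : ℕ, Subgroup.upperCentralSeries R (n + 1) ≤ Subgroup.center R := by
    intro n
    induction n with
    | zero => rw [zero_add, Subgroup.upperCentralSeries_one]
    | succ n ih =>
      intro x hx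
      apply h21
      rw [Subgroup.mem_upperCentralSeries_succ_iff]
      intro y
      rw [Subgroup.upperCentralSeries_one]
      exact ih ((Subgroup.mem_upperCentralSeries_succ_iff.mp hx) y)
  haveI : Group.IsNilpotent R := hR.isNilpotent
  obtain ⟨n, hn⟩ := (Group.IsNilpotent.nilpotent' : ∃ n : ℕ, Subgroup.upperCentralSeries R n = ⊤)
  have htop : Subgroup.center R = ⊤ := by
    rw [eq_top_iff]
    have h1 : Subgroup.upperCentralSeries R n ≤ Subgroup.upperCentralSeries R (n + 1) :=
      Subgroup.upperCentralSeries_mono R (Nat.le_succ n)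
    rw [hn] at h1
    exact h1.trans (hall n)
  have : a ∈ Subgroup.center R := by rw [htop]; trivial
  rw [Subgroup.mem_center_iff] at this
  exact (this b).symm




variable {p : ℕ} [hp' : Fact p.Prime] [CharP F p]

/-- Lemma D -/
theorem normalizer_le_centralizer (hp : p ≠ 2) (H : Subgroup (GL (Fin 2) F)) [Finite H]
    (hodd : Odd (Nat.card H)) {r : ℕ} [hr' : Fact r.Prime] (hr : r ≠ p) (R : Sylow r H) :
    Subgroup.normalizer ((R : Subgroup H) : Set H) ≤ Subgroup.centralizer (R : Set H) := by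
  intro h hh
  rw [Subgroup.mem_centralizer_iff]
  intro a ha
  have h1 : h * a * h⁻¹ ∈ (R : Subgroup H) := (Subgroup.mem_normalizer_iff.mp hh a).mp ha
  have hoddR : Odd (Nat.card (R : Subgroup H)) :=
    Odd.of_dvd_nat hodd (Subgroup.card_subgroup_dvd_card _)
  have hinj : Function.Injective (H.subtype.comp (R : Subgroup H).subtype) :=
    H.subtype_injective.comp (R : Subgroup H).subtype_injective
  have hcomm : Commute a (h * a * h⁻¹) := by
    have := comm_of_pgroup hp (H.subtype.comp (R : Subgroup H).subtype) hinj hr R.isPGroup' hoddR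
      ⟨a, ha⟩ ⟨h * a * h⁻¹, h1⟩
    exact congrArg Subtype.val this
  have hoh : Odd (orderOf h) := Odd.of_dvd_nat hodd (orderOf_dvd_natCard h)
  have hca : (orderOf a).Coprime p := by
    obtain ⟨k, hk⟩ := IsPGroup.iff_orderOf.mp R.isPGroup' ⟨a, ha⟩
    have : orderOf a = r ^ k := by
      rw [← hk]; exact (Subgroup.orderOf_mk a ha).symm
    rw [this]
    exact Nat.Coprime.pow_left _ ((Nat.coprime_primes hr'.out hp'.out).mpr hr)
  have := key_hom hp H.subtype H.subtype_injective hoh hca hcomm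
  rw [mul_inv_eq_iff_eq_mul] at this
  exact this.symm

theorem sylow_normal (hp : p ≠ 2) (H : Subgroup (GL (Fin 2) F)) [Finite H]
    (hodd : Odd (Nat.card H)) (U : Sylow p H) : (U : Subgroup H).Normal := by
  classical
  have hK : ∀ r : ℕ, r.Prime → r ≠ p →
      ∃ K : Subgroup H, K.Normal ∧ ¬ r ∣ Nat.card K ∧ ∃ k : ℕ, K.index = r ^ k := by
    intro r hrp hr
    haveI : Fact r.Prime := ⟨hrp⟩
    obtain ⟨R⟩ : Nonempty (Sylow r H) := inferInstance
    have hD := normalizer_le_centralizer hp H hodd hr R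
    have hc := MonoidHom.ker_transferSylow_isComplement' R hD
    refine ⟨(MonoidHom.transferSylow R hD).ker, inferInstance, ?_, ?_⟩
    · rw [← hc.index_eq_card]; exact R.not_dvd_index
    · rw [hc.symm.index_eq_card]; exact (IsPGroup.iff_card.mp R.isPGroup')
  choose! K hKn hKr hKi using hK
  let L : Subgroup H := ⨅ r : {r : ℕ // r.Prime ∧ r ≠ p}, K r.1
  have hLn : L.Normal := Subgroup.normal_iInf_normal fun r => hKn r.1 r.2.1 r.2.2
  have hLp : IsPGroup p L := by
    have hcard : Nat.card L = p ^ (Nat.card L).primeFactorsList.length := by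
      apply Nat.eq_prime_pow_of_unique_prime_dvd Nat.card_pos.ne'
      intro q hq hqd
      by_contra hqp
      have hle : L ≤ K q := iInf_le (fun r : {r : ℕ // r.Prime ∧ r ≠ p} => K r.1) ⟨q, hq, hqp⟩
      exact hKr q hq hqp (hqd.trans (Subgroup.card_dvd_of_le hle))
    exact IsPGroup.of_card hcard
  have hUL : (U : Subgroup H) ≤ L := by
    apply le_iInf
    rintro ⟨r, hrp, hr⟩
    haveI := hKn r hrp hr
    obtain ⟨k, hk⟩ := hKi r hrp hr
    obtain ⟨m, hm⟩ := IsPGroup.iff_card.mp U.isPGroup'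
    have h1 : (K r).relIndex (U : Subgroup H) ∣ r ^ k := hk ▸ Subgroup.relIndex_dvd_index_of_normal _ _
    have h2 : (K r).relIndex (U : Subgroup H) ∣ p ^ m := hm ▸ Subgroup.relIndex_dvd_card _ _
    have hcop : (r ^ k).Coprime (p ^ m) :=
      Nat.Coprime.pow _ _ ((Nat.coprime_primes hrp hp'.out).mpr hr)
    have h3 : (K r).relIndex (U : Subgroup H) = 1 := Nat.eq_one_of_dvd_coprimes hcop h1 h2
    exact Subgroup.relIndex_eq_one.mp h3
  have : L = (U : Subgroup H) := U.is_maximal' hLp hUL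
  rw [← this]; exact hLn





omit hp' [CharP F p] in
theorem indep_det {v w : Fin 2 → F} (hv : v ≠ 0) (hw : w ∉ Submodule.span F {v}) :
    v 0 * w 1 - v 1 * w 0 ≠ 0 := by
  intro hd
  apply hw
  rw [Submodule.mem_span_singleton]
  by_cases h0 : v 0 = 0
  · have h1 : v 1 ≠ 0 := by
      intro h1; apply hv; funext i; fin_cases i <;> simp [h0, h1]
    have hw0 : w 0 = 0 := by
      rw [h0, zero_mul, zero_sub, neg_eq_zero] at hd
      rcases mul_eq_zero.mp hd with h | h
      · exact absurd h h1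
      · exact h
    refine ⟨w 1 / v 1, ?_⟩
    funext i; fin_cases i
    · simp [h0, hw0]
    · simp; field_simp
  · refine ⟨w 0 / v 0, ?_⟩
    funext i; fin_cases i
    · simp; field_simp
    · simp; field_simp; linear_combination -hd

omit hp' [CharP F p] in
theorem eq_zero_of_mulVec {M : Matrix (Fin 2) (Fin 2) F} {v w : Fin 2 → F} (hv : v ≠ 0)
    (hw : w ∉ Submodule.span F {v}) (h1 : M *ᵥ v = 0) (h2 : M *ᵥ w = 0) : M = 0 := by
  have hd := indep_det hv hw
  have e1 : ∀ i, M i 0 * v 0 + M i 1 * v 1 = 0 := by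
    intro i
    have := congrFun h1 i
    simpa [Matrix.mulVec, dotProduct, Fin.sum_univ_two] using this
  have e2 : ∀ i, M i 0 * w 0 + M i 1 * w 1 = 0 := by
    intro i
    have := congrFun h2 i
    simpa [Matrix.mulVec, dotProduct, Fin.sum_univ_two] using this
  ext i j
  fin_cases j
  · have : M i 0 * (v 0 * w 1 - v 1 * w 0) = 0 := by
      linear_combination (w 1) * e1 i - (v 1) * e2 i
    rcases mul_eq_zero.mp this with h | h
    · simpa using h
    · exact absurd h hd
  · have : M i 1 * (v 0 * w 1 - v 1 * w 0) = 0 := by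
      linear_combination (v 0) * e2 i - (w 0) * e1 i
    rcases mul_eq_zero.mp this with h | h
    · simpa using h
    · exact absurd h hd

/-- a nontrivial finite `p`-subgroup of `GL₂(F)` (`char F = p`) fixes a nonzero vector -/
theorem exists_fixed_vector (U : Subgroup (GL (Fin 2) F)) [Finite U] (hU : IsPGroup p U)
    (hne : U ≠ ⊥) :
    ∃ v : Fin 2 → F, v ≠ 0 ∧ ∀ u ∈ U, (u : Matrix (Fin 2) (Fin 2) F) *ᵥ v = v := by
  classical
  haveI : Nontrivial U := (Subgroup.nontrivial_iff_ne_bot U).mpr hne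
  haveI := hU.center_nontrivial
  obtain ⟨⟨u0, hu0c⟩, hu0ne⟩ := exists_ne (1 : Subgroup.center U)
  have hu0ne' : (u0 : GL (Fin 2) F) ≠ 1 := by
    intro h; apply hu0ne; apply Subtype.ext; apply Subtype.ext; simpa using h
  obtain ⟨k, hk⟩ := IsPGroup.iff_card.mp hU
  have hpow : ∀ u : U, ((u : GL (Fin 2) F) : Matrix (Fin 2) (Fin 2) F) ^ (p ^ k) = 1 := by
    intro u
    have : u ^ (p ^ k) = 1 := by rw [← hk]; exact pow_card_eq_one'
    have h2 : ((u : GL (Fin 2) F)) ^ (p ^ k) = 1 := by
      have := congrArg (Subtype.val) this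
      simpa using this
    rw [← Units.val_pow_eq_pow_val, h2, Units.val_one]
  set M0 : Matrix (Fin 2) (Fin 2) F := ((u0 : GL (Fin 2) F) : Matrix (Fin 2) (Fin 2) F) - 1 with hM0
  have hM0ne : M0 ≠ 0 := by
    intro h; apply hu0ne'; apply Units.ext; rw [Units.val_one]; exact sub_eq_zero.mp h
  have hM0pow : M0 ^ (p ^ k) = 0 := by
    rw [hM0, sub_pow_char_pow_of_commute _ _ (Commute.one_right _), hpow u0, one_pow, sub_self]
  have hdet : M0.det = 0 := by
    have := congrArg Matrix.det hM0pow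
    rw [Matrix.det_pow, Matrix.det_zero] at this
    exact pow_eq_zero_iff (pow_pos hp'.out.pos k).ne' |>.mp this
  obtain ⟨v, hv, hMv⟩ := Matrix.exists_mulVec_eq_zero_iff.mpr hdet
  refine ⟨v, hv, ?_⟩
  intro u hu
  -- u commutes with u0
  have hcomm : (⟨u, hu⟩ : U) * u0 = u0 * ⟨u, hu⟩ := by
    have := Subgroup.mem_center_iff.mp hu0c ⟨u, hu⟩
    exact this
  have hcommM : (u : Matrix (Fin 2) (Fin 2) F) * M0 = M0 * (u : Matrix (Fin 2) (Fin 2) F) := by
    have h1 : (u : GL (Fin 2) F) * (u0 : GL (Fin 2) F) = (u0 : GL (Fin 2) F) * u := by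
      have := congrArg Subtype.val hcomm
      simpa using this
    have h2 := congrArg Units.val h1
    rw [Units.val_mul, Units.val_mul] at h2
    rw [hM0, mul_sub, sub_mul, h2, mul_one, one_mul]
  have hMw : M0 *ᵥ ((u : Matrix (Fin 2) (Fin 2) F) *ᵥ v) = 0 := by
    rw [Matrix.mulVec_mulVec, ← hcommM, ← Matrix.mulVec_mulVec, hMv, Matrix.mulVec_zero]
  have hmem : (u : Matrix (Fin 2) (Fin 2) F) *ᵥ v ∈ Submodule.span F {v} := by
    by_contra hnot
    exact hM0ne (eq_zero_of_mulVec hv hnot hMv hMw)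
  obtain ⟨c, hc⟩ := Submodule.mem_span_singleton.mp hmem
  have hcn : ∀ n : ℕ, ((u : Matrix (Fin 2) (Fin 2) F) ^ n) *ᵥ v = c ^ n • v := by
    intro n
    induction n with
    | zero => simp
    | succ n ih =>
      rw [pow_succ, ← Matrix.mulVec_mulVec, ← hc, Matrix.mulVec_smul, ih, smul_smul, pow_succ, mul_comm]
  have h1 := hcn (p ^ k)
  rw [hpow ⟨u, hu⟩, Matrix.one_mulVec] at h1
  have hc1 : c ^ (p ^ k) = 1 := by
    have : (c ^ (p ^ k) - 1) • v = 0 := by rw [sub_smul, one_smul, ← h1, sub_self]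
    rcases smul_eq_zero.mp this with h | h
    · exact sub_eq_zero.mp h
    · exact absurd h hv
  have hc2 : c = 1 := by
    have : (c - 1) ^ (p ^ k) = 0 := by rw [sub_pow_char_pow, hc1, one_pow, sub_self]
    exact sub_eq_zero.mp (pow_eq_zero_iff (pow_pos hp'.out.pos k).ne' |>.mp this)
  rw [← hc, hc2, one_smul]

/-- main theorem -/
theorem not_dvd_card (hp : p ≠ 2) (H : Subgroup (GL (Fin 2) F)) [Finite H]
    (hodd : Odd (Nat.card H))
    (hirr : ∀ v : Fin 2 → F, v ≠ 0 → ∃ g ∈ H,
      (g : Matrix (Fin 2) (Fin 2) F).mulVec v ∉ Submodule.span F {v}) :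
    ¬ p ∣ Nat.card H := by
  intro hdvd
  obtain ⟨U⟩ : Nonempty (Sylow p H) := inferInstance
  have hUn := sylow_normal hp H hodd U
  have hUne : (U : Subgroup H) ≠ ⊥ := U.ne_bot_of_dvd_card hdvd
  -- image in GL
  let U' : Subgroup (GL (Fin 2) F) := (U : Subgroup H).map H.subtype
  have hU'fin : Finite U' := by
    have : Finite (U'.carrier) := Set.Finite.subset (Set.toFinite (H : Set (GL (Fin 2) F))) (by
      rintro x ⟨y, _, rfl⟩; exact y.2) |>.to_subtype
    exact this
  have hU'p : IsPGroup p U' := U.isPGroup'.map H.subtype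
  have hU'ne : U' ≠ ⊥ := by
    intro h
    apply hUne
    exact (Subgroup.map_eq_bot_iff_of_injective _ H.subtype_injective).mp h
  obtain ⟨v, hv, hfix⟩ := exists_fixed_vector U' hU'p hU'ne
  obtain ⟨g, hg, hgv⟩ := hirr v hv
  -- g v is also fixed
  have hfix2 : ∀ u ∈ U', (u : Matrix (Fin 2) (Fin 2) F) *ᵥ ((g : Matrix (Fin 2) (Fin 2) F) *ᵥ v)
      = (g : Matrix (Fin 2) (Fin 2) F) *ᵥ v := by
    rintro u ⟨y, hy, rfl⟩
    have hconj : (⟨g, hg⟩ : H)⁻¹ * y * ⟨g, hg⟩ ∈ (U : Subgroup H) := by
      have := hUn.conj_mem y hy (⟨g, hg⟩ : H)⁻¹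
      simpa using this
    have h1 := hfix (H.subtype ((⟨g, hg⟩ : H)⁻¹ * y * ⟨g, hg⟩)) ⟨_, hconj, rfl⟩
    have e : ((H.subtype ((⟨g, hg⟩ : H)⁻¹ * y * ⟨g, hg⟩) : GL (Fin 2) F) : Matrix (Fin 2) (Fin 2) F)
        = ((g⁻¹ : GL (Fin 2) F) : Matrix (Fin 2) (Fin 2) F) * ((y : GL (Fin 2) F) : Matrix (Fin 2) (Fin 2) F)
          * (g : Matrix (Fin 2) (Fin 2) F) := by
      simp [Units.val_mul]
    rw [e] at h1
    have h2 := congrArg (fun x => (g : Matrix (Fin 2) (Fin 2) F) *ᵥ x) h1
    simp only [Matrix.mulVec_mulVec] at h2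
    rw [← mul_assoc, ← mul_assoc, ← Units.val_mul, mul_inv_cancel, Units.val_one, one_mul] at h2
    rw [Matrix.mulVec_mulVec]
    exact h2
  -- every u ∈ U' is 1
  apply hU'ne
  rw [Subgroup.eq_bot_iff_forall]
  intro u hu
  apply Units.ext
  rw [Units.val_one]
  have h1 : ((u : Matrix (Fin 2) (Fin 2) F) - 1) *ᵥ v = 0 := by
    rw [Matrix.sub_mulVec, hfix u hu, Matrix.one_mulVec, sub_self]
  have h2 : ((u : Matrix (Fin 2) (Fin 2) F) - 1) *ᵥ ((g : Matrix (Fin 2) (Fin 2) F) *ᵥ v) = 0 := by
    rw [Matrix.sub_mulVec, hfix2 u hu, Matrix.one_mulVec, sub_self]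
  exact sub_eq_zero.mp (eq_zero_of_mulVec hv hgv h1 h2)


end Cfsg.Agent.Lib.Helper4.GL2Odd
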