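import Mathlib
import Cfsg.Agent.Lib.Helper4.GL2Odd

/-!
# Quadratic pairs in groups of odd order

`pair_false`: no finite group of odd order of automorphisms of a nontrivial finite elementary abelian
`p`-group `V` (`p` odd) contains two elements `1 + N`, `1 + M` with `N² = M² = 0`, `ker N ∩ ker M = 0`,
`im N + im M = V`.  (Reduction to `GL₂` over a residue field of `ℤ[NM]`, then `GL2Odd.not_dvd_card`.)
-/

set_option autoImplicit false

namespace Cfsg.Agent.Lib.Helper4.QuadPair

open Matrix

variable {A : Type*} [AddCommGroup A]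

theorem end_one_apply (a : A) : (1 : AddMonoid.End A) a = a := rfl
theorem end_mul_apply (f g : AddMonoid.End A) (a : A) : (f * g) a = f (g a) := rfl
theorem end_add_apply (f g : AddMonoid.End A) (a : A) : (f + g) a = f a + g a := rfl
theorem end_zero_apply (a : A) : (0 : AddMonoid.End A) a = 0 := rfl

/-- the endomorphism of `A × A` given by a `2 × 2` matrix of endomorphisms -/
def mat2 (e00 e01 e10 e11 : AddMonoid.End A) : AddMonoid.End (A × A) where
  toFun ab := (e00 ab.1 + e01 ab.2, e10 ab.1 + e11 ab.2)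
  map_zero' := by simp
  map_add' x y := by
    simp only [Prod.fst_add, Prod.snd_add, map_add, Prod.mk_add_mk, Prod.mk.injEq]
    constructor <;> abel

theorem mat2_apply (e00 e01 e10 e11 : AddMonoid.End A) (a b : A) :
    mat2 e00 e01 e10 e11 (a, b) = (e00 a + e01 b, e10 a + e11 b) := rfl

/-- `2 × 2` matrices over a ring `R` mapping to `End A` act on `A × A`. -/
def matEnd {R : Type*} [Ring R] (j : R →+* AddMonoid.End A) :
    Matrix (Fin 2) (Fin 2) R →+* AddMonoid.End (A × A) where
  toFun m := mat2 (j (m 0 0)) (j (m 0 1)) (j (m 1 0)) (j (m 1 1))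
  map_one' := by
    apply AddMonoidHom.ext
    rintro ⟨a, b⟩
    show (j ((1 : Matrix (Fin 2) (Fin 2) R) 0 0) a + j ((1 : Matrix (Fin 2) (Fin 2) R) 0 1) b,
      j ((1 : Matrix (Fin 2) (Fin 2) R) 1 0) a + j ((1 : Matrix (Fin 2) (Fin 2) R) 1 1) b) = (a, b)
    simp [end_one_apply, end_zero_apply]
  map_mul' m n := by
    apply AddMonoidHom.ext
    rintro ⟨a, b⟩
    show (j ((m * n) 0 0) a + j ((m * n) 0 1) b, j ((m * n) 1 0) a + j ((m * n) 1 1) b)
      = (j (m 0 0) (j (n 0 0) a + j (n 0 1) b) + j (m 0 1) (j (n 1 0) a + j (n 1 1) b),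
         j (m 1 0) (j (n 0 0) a + j (n 0 1) b) + j (m 1 1) (j (n 1 0) a + j (n 1 1) b))
    simp only [Matrix.mul_apply, Fin.sum_univ_two, map_add, map_mul, end_mul_apply,
      end_add_apply, Prod.mk.injEq]
    constructor <;> abel
  map_zero' := by
    apply AddMonoidHom.ext
    rintro ⟨a, b⟩
    show (j ((0 : Matrix (Fin 2) (Fin 2) R) 0 0) a + j ((0 : Matrix (Fin 2) (Fin 2) R) 0 1) b,
      j ((0 : Matrix (Fin 2) (Fin 2) R) 1 0) a + j ((0 : Matrix (Fin 2) (Fin 2) R) 1 1) b) = (0, 0)
    simp [end_zero_apply]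
  map_add' m n := by
    apply AddMonoidHom.ext
    rintro ⟨a, b⟩
    show (j ((m + n) 0 0) a + j ((m + n) 0 1) b, j ((m + n) 1 0) a + j ((m + n) 1 1) b)
      = (j (m 0 0) a + j (m 0 1) b, j (m 1 0) a + j (m 1 1) b)
        + (j (n 0 0) a + j (n 0 1) b, j (n 1 0) a + j (n 1 1) b)
    simp only [Matrix.add_apply, map_add, end_add_apply, Prod.mk_add_mk, Prod.mk.injEq]
    constructor <;> abel

theorem matEnd_apply {R : Type*} [Ring R] (j : R →+* AddMonoid.End A) (m : Matrix (Fin 2) (Fin 2) R)
    (a b : A) :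
    matEnd j m (a, b) = (j (m 0 0) a + j (m 0 1) b, j (m 1 0) a + j (m 1 1) b) := rfl

theorem matEnd_injective {R : Type*} [Ring R] (j : R →+* AddMonoid.End A)
    (hj : Function.Injective j) : Function.Injective (matEnd j) := by
  rw [injective_iff_map_eq_zero]
  intro m hm
  have h : ∀ a b : A, (j (m 0 0) a + j (m 0 1) b, j (m 1 0) a + j (m 1 1) b) = (0, 0) := by
    intro a b
    rw [← matEnd_apply, hm]; rfl
  have hz : ∀ i k, j (m i k) = 0 := by
    intro i k
    apply AddMonoidHom.ext
    intro a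
    show j (m i k) a = 0
    fin_cases i <;> fin_cases k
    · simpa using congrArg Prod.fst (h a 0)
    · simpa using congrArg Prod.fst (h 0 a)
    · simpa using congrArg Prod.snd (h a 0)
    · simpa using congrArg Prod.snd (h 0 a)
  ext i k
  have := hz i k
  rw [← map_zero j] at this
  exact hj this


theorem upper_pow {k : Type*} [CommRing k] (s : k) (n : ℕ) :
    (!![1, s; 0, 1] : Matrix (Fin 2) (Fin 2) k) ^ n = !![1, n * s; 0, 1] := by
  induction n with
  | zero =>
    ext i l; fin_cases i <;> fin_cases l <;> simp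
  | succ n ih =>
    rw [pow_succ, ih]
    ext i l; fin_cases i <;> fin_cases l <;> simp [Matrix.mul_apply, Fin.sum_univ_two] <;> ring

/-- upper unitriangular unit -/
def upperU {k : Type*} [CommRing k] (s : k) : GL (Fin 2) k where
  val := !![1, s; 0, 1]
  inv := !![1, -s; 0, 1]
  val_inv := by ext i l; fin_cases i <;> fin_cases l <;> simp [Matrix.mul_apply, Fin.sum_univ_two]
  inv_val := by ext i l; fin_cases i <;> fin_cases l <;> simp [Matrix.mul_apply, Fin.sum_univ_two]

/-- lower unitriangular unit -/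
def lowerU {k : Type*} [CommRing k] (s : k) : GL (Fin 2) k where
  val := !![1, 0; s, 1]
  inv := !![1, 0; -s, 1]
  val_inv := by ext i l; fin_cases i <;> fin_cases l <;> simp [Matrix.mul_apply, Fin.sum_univ_two]
  inv_val := by ext i l; fin_cases i <;> fin_cases l <;> simp [Matrix.mul_apply, Fin.sum_univ_two]

theorem model_false_aux {p : ℕ} [hp' : Fact p.Prime] (hp : p ≠ 2) {R : Type*} [CommRing R]
    [Nontrivial R] (j : R →+* AddMonoid.End A) (hj : Function.Injective j)
    (hpR : (p : R) = 0) (r : R) (hr : IsUnit r)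
    (S : Subgroup (AddMonoid.End (A × A))ˣ) [Finite S] (hodd : Odd (Nat.card S))
    (X Y : (AddMonoid.End (A × A))ˣ) (hX : X ∈ S) (hY : Y ∈ S)
    (hXv : ∀ a b, (X : AddMonoid.End (A × A)) (a, b) = (a + j r b, b))
    (hYv : ∀ a b, (Y : AddMonoid.End (A × A)) (a, b) = (a, a + b)) : False := by
  classical
  obtain ⟨𝔪, h𝔪⟩ := Ideal.exists_maximal R
  letI : Field (R ⧸ 𝔪) := Ideal.Quotient.field 𝔪
  haveI : CharP (R ⧸ 𝔪) p := (CharP.charP_iff_prime_eq_zero hp'.out).mpr (by
    rw [← map_natCast (Ideal.Quotient.mk 𝔪), hpR, map_zero])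
  have hqr : Ideal.Quotient.mk 𝔪 r ≠ 0 := (hr.map (Ideal.Quotient.mk 𝔪)).ne_zero
  let ιu : GL (Fin 2) R →* (AddMonoid.End (A × A))ˣ := Units.map (matEnd j).toMonoidHom
  have hιu : Function.Injective ιu := Units.map_injective (matEnd_injective j hj)
  let T : Subgroup (GL (Fin 2) R) := S.comap ιu
  have hmapT : T.map ιu ≤ S := Subgroup.map_comap_le _ _
  haveI hTfin : Finite T := by
    apply Finite.of_injective (fun t : T => (⟨ιu t.1, t.2⟩ : S))
    intro a b h
    apply Subtype.ext
    apply hιu
    exact congrArg Subtype.val h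
  have hTodd : Odd (Nat.card T) := by
    have h1 : Nat.card (T.map ιu) = Nat.card T := Subgroup.card_map_of_injective hιu
    rw [← h1]
    exact Odd.of_dvd_nat hodd (Subgroup.card_dvd_of_le hmapT)
  let π : GL (Fin 2) R →* GL (Fin 2) (R ⧸ 𝔪) := Matrix.GeneralLinearGroup.map (Ideal.Quotient.mk 𝔪)
  let H : Subgroup (GL (Fin 2) (R ⧸ 𝔪)) := T.map π
  haveI hHfin : Finite H := by
    have : Finite (H : Set (GL (Fin 2) (R ⧸ 𝔪))) := by
      have hs : (H : Set (GL (Fin 2) (R ⧸ 𝔪))) = π '' (T : Set (GL (Fin 2) R)) := rfl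
      rw [hs]
      exact (Set.Finite.image _ (Set.toFinite _)).to_subtype
    exact this
  have hHodd : Odd (Nat.card H) := Odd.of_dvd_nat hTodd (Subgroup.card_map_dvd _ π)
  -- the two generators
  have hXR : ιu (upperU r) = X := by
    apply Units.ext
    apply AddMonoidHom.ext
    rintro ⟨a, b⟩
    refine Eq.trans ?_ (hXv a b).symm
    show matEnd j (upperU r).val (a, b) = _
    rw [matEnd_apply]
    simp [upperU, end_one_apply, end_zero_apply]
  have hYR : ιu (lowerU (1 : R)) = Y := by
    apply Units.ext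
    apply AddMonoidHom.ext
    rintro ⟨a, b⟩
    refine Eq.trans ?_ (hYv a b).symm
    show matEnd j (lowerU (1 : R)).val (a, b) = _
    rw [matEnd_apply]
    simp [lowerU, end_one_apply, end_zero_apply]
  have hXT : upperU r ∈ T := by
    show ιu (upperU r) ∈ S
    rw [hXR]; exact hX
  have hYT : lowerU (1 : R) ∈ T := by
    show ιu (lowerU (1 : R)) ∈ S
    rw [hYR]; exact hY
  have hXH : π (upperU r) ∈ H := Subgroup.mem_map_of_mem π hXT
  have hYH : π (lowerU (1 : R)) ∈ H := Subgroup.mem_map_of_mem π hYT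
  have hXval : ((π (upperU r) : GL (Fin 2) (R ⧸ 𝔪)) : Matrix (Fin 2) (Fin 2) (R ⧸ 𝔪))
      = !![1, Ideal.Quotient.mk 𝔪 r; 0, 1] := by
    ext i l; fin_cases i <;> fin_cases l <;> simp [π, upperU]
  have hYval : ((π (lowerU (1 : R)) : GL (Fin 2) (R ⧸ 𝔪)) : Matrix (Fin 2) (Fin 2) (R ⧸ 𝔪))
      = !![1, 0; 1, 1] := by
    ext i l; fin_cases i <;> fin_cases l <;> simp [π, lowerU]
  have hirr : ∀ v : Fin 2 → (R ⧸ 𝔪), v ≠ 0 → ∃ g ∈ H,
      (g : Matrix (Fin 2) (Fin 2) (R ⧸ 𝔪)).mulVec v ∉ Submodule.span (R ⧸ 𝔪) {v} := by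
    intro v hv
    by_cases h1 : v 1 = 0
    · have h0 : v 0 ≠ 0 := by
        intro h0; apply hv; funext i; fin_cases i <;> simp [h0, h1]
      refine ⟨_, hYH, ?_⟩
      rw [hYval, Submodule.mem_span_singleton]
      rintro ⟨c, hc⟩
      have e0 := congrFun hc 0
      have e1 := congrFun hc 1
      simp [Matrix.mulVec, dotProduct, Fin.sum_univ_two, h1] at e0 e1
      exact h0 e1.symm
    · refine ⟨_, hXH, ?_⟩
      rw [hXval, Submodule.mem_span_singleton]
      rintro ⟨c, hc⟩
      have e0 : c * v 0 = v 0 + Ideal.Quotient.mk 𝔪 r * v 1 := by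
        have := congrFun hc 0
        simpa [Matrix.mulVec, dotProduct, Fin.sum_univ_two] using this
      have e1 : c * v 1 = v 1 := by
        have := congrFun hc 1
        simpa [Matrix.mulVec, dotProduct, Fin.sum_univ_two] using this
      have hc1 : c = 1 := by
        have : (c - 1) * v 1 = 0 := by linear_combination e1
        rcases mul_eq_zero.mp this with h | h
        · exact sub_eq_zero.mp h
        · exact absurd h h1
      rw [hc1, one_mul] at e0
      have : Ideal.Quotient.mk 𝔪 r * v 1 = 0 := by linear_combination -e0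
      rcases mul_eq_zero.mp this with h | h
      · exact hqr h
      · exact h1 h
  have hnd := Cfsg.Agent.Lib.Helper4.GL2Odd.not_dvd_card hp H hHodd hirr
  apply hnd
  have hord : orderOf (π (upperU r)) = p := by
    apply orderOf_eq_prime
    · apply Units.ext
      rw [Units.val_pow_eq_pow_val, hXval, upper_pow, Units.val_one]
      have : ((p : ℕ) : R ⧸ 𝔪) = 0 := CharP.cast_eq_zero _ p
      rw [this, zero_mul]
      ext i l; fin_cases i <;> fin_cases l <;> simp
    · intro h
      have := congrArg Units.val h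
      rw [hXval, Units.val_one] at this
      have := congrFun (congrFun this 0) 1
      simp at this
      exact hqr this
  rw [← hord]
  exact Subgroup.orderOf_dvd_natCard H hXH


theorem model_false {p : ℕ} [hp' : Fact p.Prime] (hp : p ≠ 2) [Finite A] [Nontrivial A]
    (hA : ∀ a : A, p • a = 0) (φ : A ≃+ A)
    (S : Subgroup (AddMonoid.End (A × A))ˣ) [Finite S] (hodd : Odd (Nat.card S))
    (X Y : (AddMonoid.End (A × A))ˣ) (hX : X ∈ S) (hY : Y ∈ S)
    (hXv : ∀ a b, (X : AddMonoid.End (A × A)) (a, b) = (a + φ b, b))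
    (hYv : ∀ a b, (Y : AddMonoid.End (A × A)) (a, b) = (a, a + b)) : False := by
  classical
  obtain ⟨f, hf⟩ : ∃ f : AddMonoid.End A, f = φ.toAddMonoidHom := ⟨_, rfl⟩
  have hfa : ∀ a, f a = φ a := fun a => by rw [hf]; rfl
  let R : Subring (AddMonoid.End A) := Subring.closure {f}
  letI : CommRing R := Subring.closureCommRingOfComm (by
    intro x hx y hy
    rw [Set.mem_singleton_iff] at hx hy
    rw [hx, hy])
  haveI : Finite (AddMonoid.End A) :=
    Finite.of_injective (fun g : AddMonoid.End A => (g : A → A)) DFunLike.coe_injective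
  haveI : Nontrivial R := by
    obtain ⟨a, ha⟩ := exists_ne (0 : A)
    refine ⟨⟨0, 1, fun h => ha ?_⟩⟩
    have h2 : ((0 : R) : AddMonoid.End A) = ((1 : R) : AddMonoid.End A) := congrArg Subtype.val h
    have h3 : ((0 : R) : AddMonoid.End A) a = ((1 : R) : AddMonoid.End A) a := by rw [h2]
    exact h3.symm
  have hpR : (p : R) = 0 := by
    apply Subtype.ext
    show ((p : R) : AddMonoid.End A) = 0
    rw [Subring.coe_natCast]
    apply AddMonoidHom.ext
    intro a
    exact hA a
  let fu : (AddMonoid.End A)ˣ :=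
    ⟨f, φ.symm.toAddMonoidHom, by
      apply AddMonoidHom.ext; intro a
      show f (φ.symm a) = a
      rw [hfa]; simp, by
      apply AddMonoidHom.ext; intro a
      show φ.symm (f a) = a
      rw [hfa]; simp⟩
  obtain ⟨n, hn0, hn⟩ := (isOfFinOrder_of_finite fu).exists_pow_eq_one
  let r : R := ⟨f, Subring.subset_closure rfl⟩
  have hr : IsUnit r := by
    apply IsUnit.of_pow_eq_one (n := n) _ hn0.ne'
    apply Subtype.ext
    show ((r ^ n : R) : AddMonoid.End A) = 1
    rw [Subring.coe_pow]
    have := congrArg Units.val hn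
    rw [Units.val_pow_eq_pow_val] at this
    exact this
  exact model_false_aux hp R.subtype Subtype.val_injective hpR r hr S hodd X Y hX hY
    (fun a b => by rw [hXv]; congr 2; exact (hfa b).symm) hYv


/-- conjugation of endomorphisms by an additive equivalence -/
def conjEnd {B V : Type*} [AddCommGroup B] [AddCommGroup V] (e : B ≃+ V) :
    AddMonoid.End V →* AddMonoid.End B where
  toFun g := e.symm.toAddMonoidHom.comp (g.comp e.toAddMonoidHom)
  map_one' := by
    apply AddMonoidHom.ext; intro b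
    show e.symm (e b) = b
    simp
  map_mul' g h := by
    apply AddMonoidHom.ext; intro b
    show e.symm (g (h (e b))) = e.symm (g (e (e.symm (h (e b)))))
    simp

theorem conjEnd_apply {B V : Type*} [AddCommGroup B] [AddCommGroup V] (e : B ≃+ V)
    (g : AddMonoid.End V) (b : B) : conjEnd e g b = e.symm (g (e b)) := rfl

theorem conjEnd_injective {B V : Type*} [AddCommGroup B] [AddCommGroup V] (e : B ≃+ V) :
    Function.Injective (conjEnd e) := by
  intro g h hgh
  apply AddMonoidHom.ext; intro v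
  have h1 : conjEnd e g (e.symm v) = conjEnd e h (e.symm v) := by rw [hgh]
  rw [conjEnd_apply, conjEnd_apply] at h1
  have h3 : g (e (e.symm v)) = h (e (e.symm v)) := e.symm.injective h1
  rw [AddEquiv.apply_symm_apply] at h3
  exact h3

/-- transport: abstract quadratic pair -/
theorem pair_false {p : ℕ} [hp' : Fact p.Prime] (hp : p ≠ 2) {V : Type*} [AddCommGroup V]
    [Finite V] [Nontrivial V] (hV : ∀ v : V, p • v = 0) (N M : AddMonoid.End V)
    (hNN : N * N = 0) (hMM : M * M = 0) (hker : ∀ v, N v = 0 → M v = 0 → v = 0)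
    (him : ∀ v : V, ∃ a b : V, v = N a + M b)
    (S : Subgroup (AddMonoid.End V)ˣ) [Finite S] (hodd : Odd (Nat.card S))
    (X Y : (AddMonoid.End V)ˣ) (hX : X ∈ S) (hY : Y ∈ S)
    (hXv : (X : AddMonoid.End V) = 1 + N) (hYv : (Y : AddMonoid.End V) = 1 + M) : False := by
  classical
  have hNN' : ∀ v, N (N v) = 0 := fun v => by
    have := congrArg (fun g : AddMonoid.End V => g v) hNN; exact this
  have hMM' : ∀ v, M (M v) = 0 := fun v => by
    have := congrArg (fun g : AddMonoid.End V => g v) hMM; exact this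
  let A : AddSubgroup V := AddMonoidHom.ker N
  have hAmem : ∀ v : V, v ∈ A ↔ N v = 0 := fun v => AddMonoidHom.mem_ker
  -- φ
  let φ0 : A →+ A :=
    { toFun := fun a => ⟨N (M a.1), (hAmem _).mpr (hNN' _)⟩
      map_zero' := by apply Subtype.ext; simp
      map_add' := fun a b => by apply Subtype.ext; simp }
  have hφinj : Function.Injective φ0 := by
    rw [injective_iff_map_eq_zero]
    intro a ha
    have h1 : N (M a.1) = 0 := congrArg Subtype.val ha
    have h2 : M a.1 = 0 := hker _ h1 (hMM' _)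
    apply Subtype.ext
    exact hker _ ((hAmem _).mp a.2) h2
  have hφbij : Function.Bijective φ0 := ⟨hφinj, Finite.injective_iff_surjective.mp hφinj⟩
  let φ : A ≃+ A := AddEquiv.ofBijective φ0 hφbij
  have hφv : ∀ a : A, ((φ a : A) : V) = N (M a.1) := fun a => rfl
  -- Ψ
  let Ψ0 : A × A →+ V :=
    { toFun := fun ab => ab.1.1 + M ab.2.1
      map_zero' := by simp
      map_add' := fun x y => by
        simp only [Prod.fst_add, Prod.snd_add, AddSubgroup.coe_add, map_add]; abel }
  have hΨinj : Function.Injective Ψ0 := by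
    rw [injective_iff_map_eq_zero]
    rintro ⟨a, b⟩ hab
    have h0 : a.1 + M b.1 = 0 := hab
    have h1 : N (M b.1) = 0 := by
      have := congrArg N h0
      rw [map_add, (hAmem _).mp a.2, zero_add, map_zero] at this
      exact this
    have hb : b = 0 := by
      apply hφinj
      apply Subtype.ext
      rw [map_zero]
      exact h1
    have ha : a = 0 := by
      apply Subtype.ext
      rw [hb] at h0
      simpa using h0
    rw [ha, hb]; rfl
  have hΨsurj : Function.Surjective Ψ0 := by
    intro v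
    obtain ⟨a', b', rfl⟩ := him v
    obtain ⟨a'', b'', rfl⟩ := him b'
    refine ⟨(⟨N a', (hAmem _).mpr (hNN' _)⟩, ⟨N a'', (hAmem _).mpr (hNN' _)⟩), ?_⟩
    show N a' + M (N a'') = N a' + M (N a'' + M b'')
    rw [map_add, hMM', add_zero]
  let e : A × A ≃+ V := AddEquiv.ofBijective Ψ0 ⟨hΨinj, hΨsurj⟩
  have hev : ∀ a b : A, e (a, b) = a.1 + M b.1 := fun a b => rfl
  haveI : Nontrivial A := by
    by_contra hnt
    rw [not_nontrivial_iff_subsingleton] at hnt
    obtain ⟨v, hv⟩ := exists_ne (0 : V)
    apply hv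
    obtain ⟨⟨a, b⟩, rfl⟩ := hΨsurj v
    rw [Subsingleton.elim a 0, Subsingleton.elim b 0]; exact map_zero Ψ0
  haveI : Finite A := inferInstance
  have hA : ∀ a : A, p • a = 0 := fun a => Subtype.ext (by simpa using hV a.1)
  let cu : (AddMonoid.End V)ˣ →* (AddMonoid.End (A × A))ˣ := Units.map (conjEnd e)
  have hcu : Function.Injective cu := Units.map_injective (conjEnd_injective e)
  let S' : Subgroup (AddMonoid.End (A × A))ˣ := S.map cu
  haveI : Finite S' := by
    have : Finite (S' : Set (AddMonoid.End (A × A))ˣ) := by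
      have hs : (S' : Set (AddMonoid.End (A × A))ˣ) = cu '' (S : Set (AddMonoid.End V)ˣ) := rfl
      rw [hs]
      exact (Set.Finite.image _ (Set.toFinite _)).to_subtype
    exact this
  have hodd' : Odd (Nat.card S') := by
    have : Nat.card S' = Nat.card S := Subgroup.card_map_of_injective hcu
    rw [this]; exact hodd
  refine model_false hp hA φ S' hodd' (cu X) (cu Y) (Subgroup.mem_map_of_mem cu hX)
    (Subgroup.mem_map_of_mem cu hY) ?_ ?_
  · intro a b
    show conjEnd e (X : AddMonoid.End V) (a, b) = _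
    rw [conjEnd_apply, hXv, AddEquiv.symm_apply_eq, hev, hev, end_add_apply, end_one_apply,
      map_add, (hAmem _).mp a.2, zero_add]
    show a.1 + M b.1 + N (M b.1) = (a.1 + N (M b.1)) + M b.1
    abel
  · intro a b
    show conjEnd e (Y : AddMonoid.End V) (a, b) = _
    rw [conjEnd_apply, hYv, AddEquiv.symm_apply_eq, hev, hev, end_add_apply, end_one_apply,
      map_add, hMM', add_zero]
    show a.1 + M b.1 + M a.1 = a.1 + M (a.1 + b.1)
    rw [map_add]; abel


end Cfsg.Agent.Lib.Helper4.QuadPair
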