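import Mathlib
import Cfsg.Agent.Lib.Helper4.QuadPair

/-!
# Quadratic pairs of automorphisms generate `p`-groups in odd order

`quad_pgroup`: `P` a finite `p`-group (`p` odd), `x y : MulAut P` acting quadratically (`QuadNC`), and
`⟨x, y⟩` of odd order.  Then `⟨x, y⟩` is a `p`-group.
-/

set_option autoImplicit false

namespace Cfsg.Agent.Lib.Helper4.QuadGroup

open Cfsg.Agent.Lib.Helper4.QuadPair

/-- `x` acts quadratically on the group `P`: `x` fixes all `x u * u⁻¹`. -/
def QuadNC {P : Type*} [Group P] (x : MulAut P) : Prop := ∀ u : P, x (x u * u⁻¹) = x u * u⁻¹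

/-- `MulAut P → (End (Additive P))ˣ` for a commutative group -/
def toEndUnits (P : Type*) [CommGroup P] : MulAut P →* (AddMonoid.End (Additive P))ˣ where
  toFun g :=
    { val := MonoidHom.toAdditive g.toMonoidHom
      inv := MonoidHom.toAdditive g⁻¹.toMonoidHom
      val_inv := by
        apply AddMonoidHom.ext; intro v
        show Additive.ofMul (g (g⁻¹ (Additive.toMul v))) = v
        simp
      inv_val := by
        apply AddMonoidHom.ext; intro v
        show Additive.ofMul (g⁻¹ (g (Additive.toMul v))) = v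
        simp }
  map_one' := by
    apply Units.ext; apply AddMonoidHom.ext; intro v; rfl
  map_mul' g h := by
    apply Units.ext; apply AddMonoidHom.ext; intro v; rfl

theorem toEndUnits_apply (P : Type*) [CommGroup P] (g : MulAut P) (v : Additive P) :
    ((toEndUnits P g : (AddMonoid.End (Additive P))ˣ) : AddMonoid.End (Additive P)) v
      = Additive.ofMul (g (Additive.toMul v)) := rfl

theorem toEndUnits_injective (P : Type*) [CommGroup P] : Function.Injective (toEndUnits P) := by
  intro g h hgh
  apply MulEquiv.ext; intro u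
  have := congrArg (fun k : (AddMonoid.End (Additive P))ˣ =>
    (k : AddMonoid.End (Additive P)) (Additive.ofMul u)) hgh
  simp only [toEndUnits_apply] at this
  exact Additive.ofMul.injective this

/-- group version of `pair_false` -/
theorem group_pair_false {p : ℕ} [hp' : Fact p.Prime] (hp : p ≠ 2) {P : Type*} [CommGroup P]
    [Finite P] [Nontrivial P] (hP : ∀ u : P, u ^ p = 1) (L : Subgroup (MulAut P))
    (hodd : Odd (Nat.card L)) (x y : MulAut P) (hx : x ∈ L) (hy : y ∈ L)
    (hqx : QuadNC x) (hqy : QuadNC y) (hC : ∀ u : P, x u = u → y u = u → u = 1)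
    (hW : ∀ u : P, ∃ a b : P, u = (x a * a⁻¹) * (y b * b⁻¹)) : False := by
  classical
  haveI : Finite (MulAut P) := MulEquiv.finite_left
  let τ := toEndUnits P
  let N : AddMonoid.End (Additive P) := ((τ x : (AddMonoid.End (Additive P))ˣ) : AddMonoid.End (Additive P)) - 1
  let M : AddMonoid.End (Additive P) := ((τ y : (AddMonoid.End (Additive P))ˣ) : AddMonoid.End (Additive P)) - 1
  have hNv : ∀ v : Additive P, N v = Additive.ofMul (x (Additive.toMul v) * (Additive.toMul v)⁻¹) := by
    intro v
    have h1 : N v = ((τ x : (AddMonoid.End (Additive P))ˣ) : AddMonoid.End (Additive P)) v - v := rfl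
    rw [h1, toEndUnits_apply, sub_eq_iff_eq_add]
    apply Additive.toMul.injective
    simp
  have hMv : ∀ v : Additive P, M v = Additive.ofMul (y (Additive.toMul v) * (Additive.toMul v)⁻¹) := by
    intro v
    have h1 : M v = ((τ y : (AddMonoid.End (Additive P))ˣ) : AddMonoid.End (Additive P)) v - v := rfl
    rw [h1, toEndUnits_apply, sub_eq_iff_eq_add]
    apply Additive.toMul.injective
    simp
  have hNN : N * N = 0 := by
    apply AddMonoidHom.ext; intro v
    show N (N v) = 0
    rw [hNv (N v), hNv v]
    simp only [toMul_ofMul]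
    rw [hqx, mul_inv_cancel]; rfl
  have hMM : M * M = 0 := by
    apply AddMonoidHom.ext; intro v
    show M (M v) = 0
    rw [hMv (M v), hMv v]
    simp only [toMul_ofMul]
    rw [hqy, mul_inv_cancel]; rfl
  have hker : ∀ v, N v = 0 → M v = 0 → v = 0 := by
    intro v h1 h2
    rw [hNv] at h1
    rw [hMv] at h2
    have e1 : x (Additive.toMul v) = Additive.toMul v := by
      have : x (Additive.toMul v) * (Additive.toMul v)⁻¹ = 1 := Additive.ofMul.injective h1
      exact mul_inv_eq_one.mp this
    have e2 : y (Additive.toMul v) = Additive.toMul v := by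
      have : y (Additive.toMul v) * (Additive.toMul v)⁻¹ = 1 := Additive.ofMul.injective h2
      exact mul_inv_eq_one.mp this
    have := hC _ e1 e2
    exact Additive.toMul.injective this
  have him : ∀ v : Additive P, ∃ a b : Additive P, v = N a + M b := by
    intro v
    obtain ⟨a, b, hab⟩ := hW (Additive.toMul v)
    refine ⟨Additive.ofMul a, Additive.ofMul b, ?_⟩
    rw [hNv, hMv]
    apply Additive.toMul.injective
    rw [hab]; rfl
  have hV : ∀ v : Additive P, p • v = 0 := by
    intro v
    apply Additive.toMul.injective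
    rw [toMul_nsmul, hP]; rfl
  let S : Subgroup (AddMonoid.End (Additive P))ˣ := L.map τ
  haveI : Finite S := by
    have : Finite (S : Set (AddMonoid.End (Additive P))ˣ) := by
      have hs : (S : Set (AddMonoid.End (Additive P))ˣ) = τ '' (L : Set (MulAut P)) := rfl
      rw [hs]
      exact (Set.Finite.image _ (Set.toFinite _)).to_subtype
    exact this
  have hodd' : Odd (Nat.card S) := by
    have : Nat.card S = Nat.card L := Subgroup.card_map_of_injective (toEndUnits_injective P)
    rw [this]; exact hodd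
  exact pair_false hp hV N M hNN hMM hker him S hodd' (τ x) (τ y)
    (Subgroup.mem_map_of_mem τ hx) (Subgroup.mem_map_of_mem τ hy)
    (by show _ = 1 + (_ - 1); abel) (by show _ = 1 + (_ - 1); abel)


theorem closure_pair_trivial {p : ℕ} {P : Type*} [Group P] {x y : MulAut P} (hx : x = 1) (hy : y = 1) :
    IsPGroup p (Subgroup.closure ({x, y} : Set (MulAut P))) := by
  have : Subgroup.closure ({x, y} : Set (MulAut P)) = ⊥ := by
    rw [Subgroup.closure_eq_bot_iff]
    intro g hg
    rcases hg with h | h
    · rw [h, hx]; rfl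
    · rw [Set.mem_singleton_iff] at h; rw [h, hy]; rfl
  rw [this]
  exact IsPGroup.of_bot

theorem base_comm {p : ℕ} [hp' : Fact p.Prime] (hp : p ≠ 2) {P : Type*} [CommGroup P] [Finite P]
    [Nontrivial P] (hP : IsPGroup p P) (x y : MulAut P) (hqx : QuadNC x) (hqy : QuadNC y)
    (hodd : Odd (Nat.card (Subgroup.closure ({x, y} : Set (MulAut P)))))
    (key : ∀ N : Subgroup P, (∀ u ∈ N, x u ∈ N) → (∀ u ∈ N, y u ∈ N) → N = ⊥ ∨ N = ⊤) :
    IsPGroup p (Subgroup.closure ({x, y} : Set (MulAut P))) := by
  classical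
  -- exponent p
  have hexp : ∀ u : P, u ^ p = 1 := by
    let pw : P →* P := powMonoidHom p
    have hinv : ∀ g : MulAut P, ∀ u ∈ pw.range, g u ∈ pw.range := by
      rintro g u ⟨w, rfl⟩
      exact ⟨g w, by simp [pw]⟩
    have hne : pw.range ≠ ⊤ := by
      intro htop
      have hsurj : Function.Surjective pw := MonoidHom.range_eq_top.mp htop
      have hinj : Function.Injective pw := Finite.injective_iff_surjective.mpr hsurj
      obtain ⟨k, hk⟩ := IsPGroup.iff_card.mp hP
      have hk0 : k ≠ 0 := by
        intro h0; rw [h0, pow_zero] at hk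
        have := Finite.one_lt_card (α := P)
        omega
      have hdvd : p ∣ Nat.card P := by rw [hk]; exact dvd_pow_self p hk0
      obtain ⟨g, hg⟩ := exists_prime_orderOf_dvd_card' p hdvd
      have h1 : pw g = pw 1 := by
        show g ^ p = 1 ^ p
        rw [one_pow, ← hg, pow_orderOf_eq_one]
      have := hinj h1
      rw [this, orderOf_one] at hg
      exact hp'.out.one_lt.ne hg
    rcases key pw.range (hinv x) (hinv y) with h | h
    · intro u
      have : pw u ∈ pw.range := ⟨u, rfl⟩
      rw [h, Subgroup.mem_bot] at this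
      exact this
    · exact absurd h hne
  -- fixed points
  let C : Subgroup P :=
    { carrier := {u | x u = u ∧ y u = u}
      one_mem' := ⟨map_one x, map_one y⟩
      mul_mem' := fun {a b} ha hb => ⟨by rw [map_mul, ha.1, hb.1], by rw [map_mul, ha.2, hb.2]⟩
      inv_mem' := fun {a} ha => ⟨by rw [map_inv, ha.1], by rw [map_inv, ha.2]⟩ }
  have hCmem : ∀ u, u ∈ C ↔ x u = u ∧ y u = u := fun u => Iff.rfl
  rcases key C (fun u hu => by rw [((hCmem u).mp hu).1]; exact hu)
    (fun u hu => by rw [((hCmem u).mp hu).2]; exact hu) with hC | hC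
  swap
  · apply closure_pair_trivial
    · apply MulEquiv.ext; intro u
      have : u ∈ C := by rw [hC]; trivial
      exact ((hCmem u).mp this).1
    · apply MulEquiv.ext; intro u
      have : u ∈ C := by rw [hC]; trivial
      exact ((hCmem u).mp this).2
  -- commutators
  let cx : P →* P := x.toMonoidHom / MonoidHom.id P
  let cy : P →* P := y.toMonoidHom / MonoidHom.id P
  have hcx : ∀ u, cx u = x u * u⁻¹ := fun u => by
    show x u / u = _
    rw [div_eq_mul_inv]
  have hcy : ∀ u, cy u = y u * u⁻¹ := fun u => by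
    show y u / u = _
    rw [div_eq_mul_inv]
  let W : Subgroup P := cx.range ⊔ cy.range
  have hxW : ∀ u ∈ W, x u ∈ W := by
    intro u hu
    obtain ⟨w1, ⟨a, rfl⟩, w2, hw2, rfl⟩ := Subgroup.mem_sup.mp hu
    rw [map_mul]
    apply W.mul_mem
    · rw [hcx, hqx, ← hcx]
      exact Subgroup.mem_sup_left ⟨a, rfl⟩
    · have : x w2 = w2 * cx w2 := by rw [hcx]; simp
      rw [this]
      exact W.mul_mem (Subgroup.mem_sup_right hw2) (Subgroup.mem_sup_left ⟨w2, rfl⟩)
  have hyW : ∀ u ∈ W, y u ∈ W := by
    intro u hu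
    obtain ⟨w1, hw1, w2, ⟨b, rfl⟩, rfl⟩ := Subgroup.mem_sup.mp hu
    rw [map_mul]
    apply W.mul_mem
    · have : y w1 = w1 * cy w1 := by rw [hcy]; simp
      rw [this]
      exact W.mul_mem (Subgroup.mem_sup_left hw1) (Subgroup.mem_sup_right ⟨w1, rfl⟩)
    · rw [hcy, hqy, ← hcy]
      exact Subgroup.mem_sup_right ⟨b, rfl⟩
  rcases key W hxW hyW with hWb | hWt
  · apply closure_pair_trivial
    · apply MulEquiv.ext; intro u
      have : cx u ∈ W := Subgroup.mem_sup_left ⟨u, rfl⟩
      rw [hWb, Subgroup.mem_bot, hcx, mul_inv_eq_one] at this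
      exact this
    · apply MulEquiv.ext; intro u
      have : cy u ∈ W := Subgroup.mem_sup_right ⟨u, rfl⟩
      rw [hWb, Subgroup.mem_bot, hcy, mul_inv_eq_one] at this
      exact this
  · exfalso
    apply group_pair_false hp hexp (Subgroup.closure ({x, y} : Set (MulAut P))) hodd x y
      (Subgroup.subset_closure (by simp)) (Subgroup.subset_closure (by simp)) hqx hqy
    · intro u h1 h2
      have : u ∈ C := (hCmem u).mpr ⟨h1, h2⟩
      rw [hC, Subgroup.mem_bot] at this
      exact this
    · intro u
      have : u ∈ W := by rw [hWt]; trivial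
      obtain ⟨w1, ⟨a, rfl⟩, w2, ⟨b, rfl⟩, rfl⟩ := Subgroup.mem_sup.mp this
      exact ⟨a, b, by rw [hcx, hcy]⟩


universe u

variable {P : Type u} [Group P]

/-- automorphisms preserving a subgroup -/
def stab (N : Subgroup P) : Subgroup (MulAut P) where
  carrier := {g | ∀ u, g u ∈ N ↔ u ∈ N}
  one_mem' := fun u => Iff.rfl
  mul_mem' := fun {g h} hg hh u => by rw [MulAut.mul_apply, hg, hh]
  inv_mem' := fun {g} hg u => by
    have := hg (g⁻¹ u); rw [MulAut.apply_inv_self] at this; exact this.symm

theorem mem_stab_iff (N : Subgroup P) (g : MulAut P) : g ∈ stab N ↔ ∀ u, g u ∈ N ↔ u ∈ N := Iff.rfl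

theorem mem_stab_of_finite [Finite P] (N : Subgroup P) (g : MulAut P) (h : ∀ u ∈ N, g u ∈ N) :
    g ∈ stab N := by
  intro u
  refine ⟨fun hu => ?_, h u⟩
  let f : N → N := fun w => ⟨g w.1, h w.1 w.2⟩
  have hf : Function.Injective f := by
    intro a b hab
    apply Subtype.ext
    exact g.injective (congrArg Subtype.val hab)
  obtain ⟨w, hw⟩ := (Finite.injective_iff_surjective.mp hf) ⟨g u, hu⟩
  have : g w.1 = g u := congrArg Subtype.val hw
  rw [← g.injective this]; exact w.2

/-- restriction to an invariant subgroup -/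
def resAut (N : Subgroup P) : stab N →* MulAut N where
  toFun g :=
    { toFun := fun u => ⟨g.1 u.1, (g.2 u.1).mpr u.2⟩
      invFun := fun u => ⟨g.1⁻¹ u.1, (((stab N).inv_mem g.2) u.1).mpr u.2⟩
      left_inv := fun u => by apply Subtype.ext; simp
      right_inv := fun u => by apply Subtype.ext; simp
      map_mul' := fun a b => by apply Subtype.ext; simp }
  map_one' := by apply MulEquiv.ext; intro u; apply Subtype.ext; rfl
  map_mul' g h := by apply MulEquiv.ext; intro u; apply Subtype.ext; rfl

theorem resAut_apply (N : Subgroup P) (g : stab N) (u : N) : ((resAut N g) u : P) = g.1 u.1 := rfl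

theorem map_eq_of_mem_stab (N : Subgroup P) {g : MulAut P} (hg : g ∈ stab N) :
    N.map g.toMonoidHom = N := by
  ext u
  rw [Subgroup.mem_map]
  constructor
  · rintro ⟨w, hw, rfl⟩
    exact (hg w).mpr hw
  · intro hu
    refine ⟨g⁻¹ u, (((stab N).inv_mem hg) u).mpr hu, ?_⟩
    simp

/-- induced automorphism of the quotient -/
noncomputable def quoAut (N : Subgroup P) [N.Normal] : stab N →* MulAut (P ⧸ N) where
  toFun g := QuotientGroup.congr N N g.1 (map_eq_of_mem_stab N g.2)
  map_one' := by
    apply MulEquiv.ext; intro q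
    induction q using QuotientGroup.induction_on with
    | H u => rfl
  map_mul' g h := by
    apply MulEquiv.ext; intro q
    induction q using QuotientGroup.induction_on with
    | H u => rfl

theorem quoAut_mk (N : Subgroup P) [N.Normal] (g : stab N) (u : P) :
    quoAut N g (QuotientGroup.mk u) = QuotientGroup.mk (g.1 u) := rfl

/-- stability group of a one-step series -/
theorem stability [Finite P] (N : Subgroup P) (h : MulAut P) (h1 : ∀ u ∈ N, h u = u)
    (h2 : ∀ u, h u * u⁻¹ ∈ N) : h ^ (Nat.card N) = 1 := by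
  have key : ∀ (k : ℕ) (u : P), (h ^ k) u = (h u * u⁻¹) ^ k * u := by
    intro k
    induction k with
    | zero => intro u; simp
    | succ k ih =>
      intro u
      rw [pow_succ', MulAut.mul_apply, ih, map_mul, map_pow, h1 _ (h2 u), pow_succ]
      have : h u = (h u * u⁻¹) * u := by group
      conv_lhs => rw [this]
      group
  apply MulEquiv.ext; intro u
  rw [key]
  have : (⟨h u * u⁻¹, h2 u⟩ : N) ^ (Nat.card N) = 1 := pow_card_eq_one'
  have h3 : (h u * u⁻¹) ^ (Nat.card N) = 1 := by
    have h4 := congrArg Subtype.val this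
    rw [Subgroup.coe_pow, Subgroup.coe_one] at h4
    exact h4
  rw [h3, one_mul]; rfl


theorem card_quotient_lt' {G : Type u} [Group G] [Finite G] (M : Subgroup G) [M.Normal]
    (hM : M ≠ ⊥) : Nat.card (G ⧸ M) < Nat.card G := by
  have h1 : Nat.card (G ⧸ M) = M.index := rfl
  have h2 := Subgroup.card_mul_index M
  have h3 : 1 < Nat.card ↥M := by
    have : Nat.card ↥M ≠ 1 := fun h => hM (Subgroup.card_eq_one.mp h)
    have hpos : 0 < Nat.card ↥M := Nat.card_pos
    omega
  have h4 : 0 < M.index := Nat.pos_of_ne_zero Subgroup.index_ne_zero_of_finite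
  rw [h1]
  nlinarith

theorem card_subgroup_lt' {G : Type u} [Group G] [Finite G] (L : Subgroup G) (hL : L ≠ ⊤) :
    Nat.card ↥L < Nat.card G := by
  have h2 := Subgroup.card_mul_index L
  have h3 : L.index ≠ 1 := fun h => hL (Subgroup.index_eq_one.mp h)
  have h4 : 0 < L.index := Nat.pos_of_ne_zero Subgroup.index_ne_zero_of_finite
  have h5 : 0 < Nat.card ↥L := Nat.card_pos
  have h6 : 2 ≤ L.index := by omega
  nlinarith

theorem quad_pgroup_aux {p : ℕ} [hp' : Fact p.Prime] (hp : p ≠ 2) :
    ∀ (n : ℕ) (P : Type u) [Group P] [Finite P], Nat.card P = n → IsPGroup p P →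
    ∀ x y : MulAut P, QuadNC x → QuadNC y →
      Odd (Nat.card (Subgroup.closure ({x, y} : Set (MulAut P)))) →
      IsPGroup p (Subgroup.closure ({x, y} : Set (MulAut P))) := by
  intro n
  induction n using Nat.strong_induction_on with
  | _ n ih =>
  intro P _ _ hn hP x y hqx hqy hodd
  classical
  haveI : Finite (MulAut P) := MulEquiv.finite_left
  by_cases hN : ∃ N : Subgroup P, N.Normal ∧ N ≠ ⊥ ∧ N ≠ ⊤ ∧ (∀ u ∈ N, x u ∈ N) ∧ (∀ u ∈ N, y u ∈ N)
  · obtain ⟨N, hNn, hNb, hNt, hxN, hyN⟩ := hN
    haveI := hNn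
    have hxs : x ∈ stab N := mem_stab_of_finite N x hxN
    have hys : y ∈ stab N := mem_stab_of_finite N y hyN
    obtain ⟨x', hx'⟩ : ∃ x' : stab N, x' = ⟨x, hxs⟩ := ⟨_, rfl⟩
    obtain ⟨y', hy'⟩ : ∃ y' : stab N, y' = ⟨y, hys⟩ := ⟨_, rfl⟩
    have hx'1 : x'.1 = x := by rw [hx']
    have hy'1 : y'.1 = y := by rw [hy']
    obtain ⟨L', hL'⟩ : ∃ L' : Subgroup (stab N), L' = Subgroup.closure {x', y'} := ⟨_, rfl⟩
    have hmap : L'.map (stab N).subtype = Subgroup.closure {x, y} := by
      rw [hL', MonoidHom.map_closure, Set.image_pair]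
      show Subgroup.closure {x'.1, y'.1} = _
      rw [hx'1, hy'1]
    have hcardL' : Nat.card L' = Nat.card (Subgroup.closure ({x, y} : Set (MulAut P))) := by
      rw [← hmap]; exact (Subgroup.card_map_of_injective (stab N).subtype_injective).symm
    have hoddL' : Odd (Nat.card L') := hcardL' ▸ hodd
    -- restriction
    have hK1e : Subgroup.closure ({resAut N x', resAut N y'} : Set (MulAut N)) = L'.map (resAut N) := by
      rw [hL', MonoidHom.map_closure, Set.image_pair]
    have hK1 : IsPGroup p (Subgroup.closure ({resAut N x', resAut N y'} : Set (MulAut N))) := by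
      apply ih (Nat.card N) (hn ▸ card_subgroup_lt' N hNt) N rfl (hP.to_subgroup N)
      · intro u; apply Subtype.ext
        show x'.1 (x'.1 u.1 * u.1⁻¹) = x'.1 u.1 * u.1⁻¹
        rw [hx'1]; exact hqx u.1
      · intro u; apply Subtype.ext
        show y'.1 (y'.1 u.1 * u.1⁻¹) = y'.1 u.1 * u.1⁻¹
        rw [hy'1]; exact hqy u.1
      · rw [hK1e]
        exact Odd.of_dvd_nat hoddL' (Subgroup.card_map_dvd _ _)
    have hK2e : Subgroup.closure ({quoAut N x', quoAut N y'} : Set (MulAut (P ⧸ N))) = L'.map (quoAut N) := by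
      rw [hL', MonoidHom.map_closure, Set.image_pair]
    have hK2 : IsPGroup p (Subgroup.closure ({quoAut N x', quoAut N y'} : Set (MulAut (P ⧸ N)))) := by
      apply ih (Nat.card (P ⧸ N)) (hn ▸ card_quotient_lt' N hNb) (P ⧸ N) rfl (hP.to_quotient N)
      · intro q
        induction q using QuotientGroup.induction_on with
        | H u =>
          show (QuotientGroup.mk (x'.1 (x'.1 u * u⁻¹)) : P ⧸ N) = QuotientGroup.mk (x'.1 u * u⁻¹)
          rw [hx'1, hqx]
      · intro q
        induction q using QuotientGroup.induction_on with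
        | H u =>
          show (QuotientGroup.mk (y'.1 (y'.1 u * u⁻¹)) : P ⧸ N) = QuotientGroup.mk (y'.1 u * u⁻¹)
          rw [hy'1, hqy]
      · rw [hK2e]
        exact Odd.of_dvd_nat hoddL' (Subgroup.card_map_dvd _ _)
    -- now elementwise
    rintro ⟨g, hg⟩
    have hg2 := hg
    rw [← hmap] at hg2
    obtain ⟨g', hg'L, hg'g⟩ := Subgroup.mem_map.mp hg2
    have h1 : resAut N g' ∈ Subgroup.closure ({resAut N x', resAut N y'} : Set (MulAut N)) := by
      rw [hK1e]; exact Subgroup.mem_map_of_mem _ hg'L
    have h2 : quoAut N g' ∈ Subgroup.closure ({quoAut N x', quoAut N y'} : Set (MulAut (P ⧸ N))) := by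
      rw [hK2e]; exact Subgroup.mem_map_of_mem _ hg'L
    obtain ⟨a, ha⟩ := hK1 ⟨_, h1⟩
    obtain ⟨b, hb⟩ := hK2 ⟨_, h2⟩
    have ha' : (resAut N g') ^ (p ^ a) = 1 := by
      have := congrArg Subtype.val ha
      rw [Subgroup.coe_pow, Subgroup.coe_one] at this
      exact this
    have hb' : (quoAut N g') ^ (p ^ b) = 1 := by
      have := congrArg Subtype.val hb
      rw [Subgroup.coe_pow, Subgroup.coe_one] at this
      exact this
    obtain ⟨c, hc⟩ := IsPGroup.iff_card.mp (hP.to_subgroup N)
    obtain ⟨h, hh⟩ : ∃ h : stab N, h = g' ^ (p ^ a * p ^ b) := ⟨_, rfl⟩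
    have hres : resAut N h = 1 := by
      rw [hh, map_pow, pow_mul, ha', one_pow]
    have hquo : quoAut N h = 1 := by
      rw [hh, map_pow, mul_comm, pow_mul, hb', one_pow]
    have hst : h.1 ^ (Nat.card N) = 1 := by
      apply stability N h.1
      · intro u hu
        have := congrArg (fun k : MulAut N => ((k ⟨u, hu⟩ : N) : P)) hres
        exact this
      · intro u
        have := congrArg (fun k : MulAut (P ⧸ N) => k (QuotientGroup.mk u)) hquo
        simp only [quoAut_mk, MulAut.one_apply] at this
        rw [← QuotientGroup.eq_one_iff, QuotientGroup.mk_mul, QuotientGroup.mk_inv, this,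
          mul_inv_cancel]
    refine ⟨a + b + c, ?_⟩
    apply Subtype.ext
    rw [Subgroup.coe_pow, Subgroup.coe_one]
    show g ^ (p ^ (a + b + c)) = 1
    have e1 : g = (g' : MulAut P) := hg'g.symm
    have e2 : (h : MulAut P) = g ^ (p ^ a * p ^ b) := by
      rw [hh, e1]; rfl
    rw [hc, e2, ← pow_mul, ← pow_add, ← pow_add] at hst
    exact hst
  · -- base case
    rcases subsingleton_or_nontrivial P with hs | hnt
    · apply closure_pair_trivial
      · apply MulEquiv.ext; intro u; exact Subsingleton.elim _ _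
      · apply MulEquiv.ext; intro u; exact Subsingleton.elim _ _
    have key : ∀ N : Subgroup P, N.Normal → (∀ u ∈ N, x u ∈ N) → (∀ u ∈ N, y u ∈ N) →
        N = ⊥ ∨ N = ⊤ := by
      intro N hNn hx hy
      by_contra hcon
      rw [not_or] at hcon
      exact hN ⟨N, hNn, hcon.1, hcon.2, hx, hy⟩
    haveI : Group.IsNilpotent P := hP.isNilpotent
    have hchar : ∀ g : MulAut P, ∀ u ∈ commutator P, g u ∈ commutator P := by
      intro g u hu
      have hc : (commutator P).Characteristic := by
        rw [commutator_def]; infer_instance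
      have := Subgroup.characteristic_iff_comap_eq.mp hc g
      rw [← this] at hu
      exact hu
    have hcomm : ∀ a b : P, a * b = b * a := by
      rcases key (commutator P) inferInstance (hchar x) (hchar y) with h | h
      · have := (commutator_eq_bot_iff P).mp h
        exact fun a b => this.is_comm.comm a b
      · exact absurd h (Group.IsSolvable.commutator_lt_top_of_nontrivial P).ne
    letI cg : CommGroup P := { (inferInstance : Group P) with mul_comm := hcomm }
    exact base_comm (P := P) hp hP x y hqx hqy hodd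
      (fun N hx hy => key N inferInstance hx hy)


theorem quad_pgroup {p : ℕ} [hp' : Fact p.Prime] (hp : p ≠ 2) {P : Type u} [Group P] [Finite P]
    (hP : IsPGroup p P) (x y : MulAut P) (hqx : QuadNC x) (hqy : QuadNC y)
    (hodd : Odd (Nat.card (Subgroup.closure ({x, y} : Set (MulAut P))))) :
    IsPGroup p (Subgroup.closure ({x, y} : Set (MulAut P))) :=
  quad_pgroup_aux hp _ P rfl hP x y hqx hqy hodd

end Cfsg.Agent.Lib.Helper4.QuadGroup
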