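import Mathlib
import Cfsg.Prelude.Def_PLocal
import Cfsg.Prelude.Def_LocalEven
import Cfsg.Agent.Lib.Helper4.QuadGroup
import Cfsg.Agent.H1.BaerSuzuki
import Cfsg.Agent.H9.Cores

/-!
# Groups of odd order are `p`-stable (`p` odd)

`isPStableOn_of_odd`, `isNormalizerPStable_of_odd`, `stable_subgroup`: Baer–Suzuki (helper1) reduces to a
subgroup generated by two conjugate quadratic elements, which is a `p`-group by `QuadGroup.quad_pgroup`.
No solvability (Feit–Thompson) is needed.
-/

set_option autoImplicit false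

namespace Cfsg.Agent.Lib.Helper4.OddStable

open Cfsg
open Cfsg.Agent.Lib.Helper4.QuadGroup
open scoped commutatorElement Pointwise

theorem quadNC_conj {P : Type*} [Group P] {x : MulAut P} (hx : QuadNC x) (s : MulAut P) :
    QuadNC (s * x * s⁻¹) := by
  intro u
  simp only [MulAut.mul_apply]
  have h := hx (s⁻¹ u)
  have e1 : s⁻¹ (s (x (s⁻¹ u)) * u⁻¹) = x (s⁻¹ u) * (s⁻¹ u)⁻¹ := by
    rw [map_mul, map_inv, MulAut.inv_apply_self]
  rw [e1, h, map_mul, map_inv, MulAut.apply_inv_self]

theorem quad_comm' {G : Type*} [Group G] {V : Subgroup G} {a : G}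
    (hq : ⁅⁅V, Subgroup.zpowers a⁆, Subgroup.zpowers a⁆ = ⊥) {v : G} (hv : v ∈ V) :
    a * (a * v * a⁻¹ * v⁻¹) = (a * v * a⁻¹ * v⁻¹) * a := by
  have h1 : ⁅v, a⁆ ∈ ⁅V, Subgroup.zpowers a⁆ :=
    Subgroup.commutator_mem_commutator hv (Subgroup.mem_zpowers a)
  have h2 : ⁅⁅v, a⁆, a⁆ ∈ ⁅⁅V, Subgroup.zpowers a⁆, Subgroup.zpowers a⁆ :=
    Subgroup.commutator_mem_commutator h1 (Subgroup.mem_zpowers a)
  rw [hq, Subgroup.mem_bot] at h2
  have h3 : Commute ⁅v, a⁆ a := commutatorElement_eq_one_iff_commute.mp h2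
  have h4 : a * v * a⁻¹ * v⁻¹ = ⁅v, a⁆⁻¹ := by rw [commutatorElement_def]; group
  rw [h4]
  exact (h3.inv_left.symm).eq

/-- groups of odd order act `p`-stably on their normal `p`-subgroups (`p` odd) -/
theorem isPStableOn_of_odd {X : Type*} [Group X] [Finite X] (hodd : Odd (Nat.card X)) {p : ℕ}
    [hp' : Fact p.Prime] (hp : p ≠ 2) (V : Subgroup X) [hVn : V.Normal] (hV : IsPGroup p V) :
    Cfsg.IsPStableOn p V := by
  classical
  intro a hq
  let c : X →* MulAut V := MulAut.conjNormal
  have hcv : ∀ (g : X) (v : V), ((c g v : V) : X) = g * v * g⁻¹ := fun g v => rfl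
  have hker : ∀ g : X, c g = 1 ↔ g ∈ Subgroup.centralizer (V : Set X) := by
    intro g
    rw [Subgroup.mem_centralizer_iff]
    constructor
    · intro h v hv
      have := congrArg (fun k : MulAut V => ((k ⟨v, hv⟩ : V) : X)) h
      simp only [hcv, MulAut.one_apply] at this
      rw [mul_inv_eq_iff_eq_mul] at this
      exact this.symm
    · intro h
      apply MulEquiv.ext; intro v
      apply Subtype.ext
      rw [hcv, MulAut.one_apply, mul_inv_eq_iff_eq_mul]
      exact (h v.1 v.2).symm
  let cbar : X ⧸ Subgroup.centralizer (V : Set X) →* MulAut V :=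
    QuotientGroup.lift _ c (fun g hg => MonoidHom.mem_ker.mpr ((hker g).mpr hg))
  have hcbar : ∀ g : X, cbar (QuotientGroup.mk g) = c g := fun g => rfl
  have hcbar_inj : Function.Injective cbar := by
    rw [injective_iff_map_eq_one]
    intro q hq1
    induction q using QuotientGroup.induction_on with
    | H g =>
      rw [hcbar] at hq1
      exact (QuotientGroup.eq_one_iff g).mpr ((hker g).mp hq1)
  have hqa : QuadNC (c a) := by
    intro u
    apply Subtype.ext
    have h1 := quad_comm' hq u.2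
    show a * (a * u.1 * a⁻¹ * u.1⁻¹) * a⁻¹ = a * u.1 * a⁻¹ * u.1⁻¹
    rw [h1]; group
  obtain ⟨Xs, hXs⟩ : ∃ Xs : Subgroup (X ⧸ Subgroup.centralizer (V : Set X)),
      Xs = Subgroup.zpowers (QuotientGroup.mk a) := ⟨_, rfl⟩
  have hmain : ∀ q : X ⧸ Subgroup.centralizer (V : Set X), IsPGroup p ↥(Xs ⊔ MulAut.conj q • Xs) := by
    intro q
    induction q using QuotientGroup.induction_on with
    | H g =>
      -- the bigger subgroup T'
      obtain ⟨T', hT'⟩ : ∃ T' : Subgroup (X ⧸ Subgroup.centralizer (V : Set X)),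
          T' = Subgroup.closure {(QuotientGroup.mk a : X ⧸ Subgroup.centralizer (V : Set X)),
            QuotientGroup.mk (g * a * g⁻¹)} := ⟨_, rfl⟩
      have hle : Xs ⊔ MulAut.conj (QuotientGroup.mk g : X ⧸ Subgroup.centralizer (V : Set X)) • Xs ≤ T' := by
        apply sup_le
        · rw [hXs, Subgroup.zpowers_le, hT']
          exact Subgroup.subset_closure (by simp)
        · rw [hXs]
          intro t ht
          rw [Subgroup.mem_pointwise_smul_iff_inv_smul_mem] at ht
          obtain ⟨k, hk⟩ := Subgroup.mem_zpowers_iff.mp ht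
          have e : t = (QuotientGroup.mk (g * a * g⁻¹) : X ⧸ Subgroup.centralizer (V : Set X)) ^ k := by
            have h1 : t = MulAut.conj (QuotientGroup.mk g : X ⧸ Subgroup.centralizer (V : Set X)) •
                ((MulAut.conj (QuotientGroup.mk g : X ⧸ Subgroup.centralizer (V : Set X)))⁻¹ • t) := by
              rw [smul_inv_smul]
            rw [h1, ← hk, MulAut.smul_def, MulAut.conj_apply, QuotientGroup.mk_mul, QuotientGroup.mk_mul,
              QuotientGroup.mk_inv, conj_zpow]
          rw [e, hT']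
          exact Subgroup.zpow_mem _ (Subgroup.subset_closure (by simp)) k
      apply IsPGroup.to_le _ hle
      -- image in MulAut V
      have himg : T'.map cbar = Subgroup.closure {c a, c (g * a * g⁻¹)} := by
        rw [hT', MonoidHom.map_closure, Set.image_pair, hcbar, hcbar]
      have hK : IsPGroup p ↥(Subgroup.closure ({c a, c (g * a * g⁻¹)} : Set (MulAut V))) := by
        apply quad_pgroup hp hV _ _ hqa
        · rw [map_mul, map_mul, map_inv]
          exact quadNC_conj hqa (c g)
        · have e : Subgroup.closure ({c a, c (g * a * g⁻¹)} : Set (MulAut V))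
              = (Subgroup.closure ({a, g * a * g⁻¹} : Set X)).map c := by
            rw [MonoidHom.map_closure, Set.image_pair]
          rw [e]
          exact Odd.of_dvd_nat hodd ((Subgroup.card_map_dvd _ _).trans (Subgroup.card_subgroup_dvd_card _))
      intro t
      have ht : cbar t.1 ∈ Subgroup.closure ({c a, c (g * a * g⁻¹)} : Set (MulAut V)) := by
        rw [← himg]; exact Subgroup.mem_map_of_mem _ t.2
      obtain ⟨k, hk⟩ := hK ⟨_, ht⟩
      refine ⟨k, ?_⟩
      apply Subtype.ext
      apply hcbar_inj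
      rw [Subgroup.coe_pow, Subgroup.coe_one, map_pow, map_one]
      have := congrArg Subtype.val hk
      rw [Subgroup.coe_pow, Subgroup.coe_one] at this
      exact this
  have hXsp : IsPGroup p Xs := IsPGroup.to_le (hmain 1) le_sup_left
  obtain ⟨N, hNn, hNp, hXN⟩ := Cfsg.Agent.H1.baer_suzuki Xs hXsp hmain
  haveI := hNn
  apply Cfsg.Agent.H9.le_pCore N hNp
  apply hXN
  rw [hXs]
  exact Subgroup.mem_zpowers _

theorem pCore_quot_transport {p : ℕ} {A : Type*} [Group A] (C₁ C₂ : Subgroup A) [h1 : C₁.Normal]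
    [h2 : C₂.Normal] (h : C₁ = C₂) (a : A)
    (ha : (QuotientGroup.mk a : A ⧸ C₁) ∈ Cfsg.pCore p (A ⧸ C₁)) :
    (QuotientGroup.mk a : A ⧸ C₂) ∈ Cfsg.pCore p (A ⧸ C₂) := by
  subst h
  exact ha

/-- groups of odd order are `p`-stable (normalizer form) for odd `p` -/
theorem isNormalizerPStable_of_odd {Z : Type*} [Group Z] [Finite Z] (hodd : Odd (Nat.card Z)) {p : ℕ}
    [hp' : Fact p.Prime] (hp : p ≠ 2) : Cfsg.IsNormalizerPStable p Z := by
  intro U hU g hg hq
  haveI hU'n : (U.subgroupOf (Subgroup.normalizer (U : Set Z))).Normal :=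
    (Subgroup.normal_subgroupOf_iff_le_normalizer Subgroup.le_normalizer).mpr le_rfl
  have hU'p : IsPGroup p ↥(U.subgroupOf (Subgroup.normalizer (U : Set Z))) := by
    have h1 : U.subgroupOf (Subgroup.normalizer (U : Set Z)) =
        U.comap (Subgroup.normalizer (U : Set Z)).subtype := rfl
    rw [h1]
    exact hU.comap_of_injective _ (Subgroup.subtype_injective _)
  have hoddN : Odd (Nat.card ↥(Subgroup.normalizer (U : Set Z))) :=
    Odd.of_dvd_nat hodd (Subgroup.card_subgroup_dvd_card _)
  have hst := isPStableOn_of_odd hoddN hp (U.subgroupOf (Subgroup.normalizer (U : Set Z))) hU'p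
  have hq' : ⁅⁅U.subgroupOf (Subgroup.normalizer (U : Set Z)),
      Subgroup.zpowers (⟨g, hg⟩ : ↥(Subgroup.normalizer (U : Set Z)))⁆,
      Subgroup.zpowers (⟨g, hg⟩ : ↥(Subgroup.normalizer (U : Set Z)))⁆ = ⊥ := by
    apply (Subgroup.map_eq_bot_iff_of_injective _
      (Subgroup.subtype_injective (Subgroup.normalizer (U : Set Z)))).mp
    rw [Subgroup.map_commutator, Subgroup.map_commutator,
      Subgroup.map_subgroupOf_eq_of_le Subgroup.le_normalizer, MonoidHom.map_zpowers]
    exact hq
  have h1 := hst ⟨g, hg⟩ hq'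
  have hCeq : Subgroup.centralizer
      ((U.subgroupOf (Subgroup.normalizer (U : Set Z)) :
        Subgroup ↥(Subgroup.normalizer (U : Set Z))) : Set ↥(Subgroup.normalizer (U : Set Z))) =
      (Subgroup.centralizer (U : Set Z)).subgroupOf (Subgroup.normalizer (U : Set Z)) := by
    ext x
    rw [Subgroup.mem_subgroupOf, Subgroup.mem_centralizer_iff, Subgroup.mem_centralizer_iff]
    constructor
    · intro h u hu
      have h2 := h ⟨u, Subgroup.le_normalizer hu⟩ (Subgroup.mem_subgroupOf.mpr hu)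
      exact congrArg Subtype.val h2
    · intro h u hu
      exact Subtype.ext (h (u : Z) (Subgroup.mem_subgroupOf.mp hu))
  exact pCore_quot_transport _ _ hCeq _ h1

/-- the subgroup form: a `p`-subgroup `A ≤ N_Z(U)` acting quadratically on the `p`-subgroup `U` maps into
`O_p(N_Z(U)/C_Z(U))` -/
theorem stable_subgroup {Z : Type*} [Group Z] [Finite Z] (hodd : Odd (Nat.card Z)) {p : ℕ}
    [hp' : Fact p.Prime] (hp : p ≠ 2) (U A : Subgroup Z) (hU : IsPGroup p U)
    (hAN : A ≤ Subgroup.normalizer (U : Set Z)) (hquad : ⁅⁅U, A⁆, A⁆ = ⊥) :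
    (A.subgroupOf (Subgroup.normalizer (U : Set Z))).map
        (QuotientGroup.mk' ((Subgroup.centralizer (U : Set Z)).subgroupOf (Subgroup.normalizer (U : Set Z))))
      ≤ Cfsg.pCore p _ := by
  rintro x ⟨y, hy, rfl⟩
  have hyA : y.1 ∈ A := Subgroup.mem_subgroupOf.mp hy
  have hq : ⁅⁅U, Subgroup.zpowers y.1⁆, Subgroup.zpowers y.1⁆ = ⊥ := by
    rw [eq_bot_iff, ← hquad]
    have hz : Subgroup.zpowers y.1 ≤ A := (Subgroup.zpowers_le).mpr hyA
    exact Subgroup.commutator_mono (Subgroup.commutator_mono le_rfl hz) hz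
  exact isNormalizerPStable_of_odd hodd hp U hU y.1 y.2 hq

end Cfsg.Agent.Lib.Helper4.OddStable
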