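import Mathlib
import Cfsg.Prelude.Def_Local

set_option autoImplicit false

namespace Cfsg.Agent.Lib.Helper4.SolvPSolv

open Cfsg
open scoped commutatorElement

universe u

/-- extension lemma -/
theorem isPSolvable_of_quotient {G : Type*} [Group G] {p : ℕ} (N : Subgroup G) [hN : N.Normal]
    (hcard : (∃ m : ℕ, Nat.card N = p ^ m) ∨ (Nat.card N).Coprime p)
    (h : IsPSolvable p (G ⧸ N)) : IsPSolvable p G := by
  obtain ⟨n, H, h0, hlast, hmono, hnorm, hfac⟩ := h
  refine ⟨n + 1, Fin.cons ⊥ (fun i => (H i).comap (QuotientGroup.mk' N)), ?_, ?_, ?_, ?_, ?_⟩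
  · rfl
  · have : Fin.last (n + 1) = (Fin.last n).succ := rfl
    rw [this, Fin.cons_succ, hlast, Subgroup.comap_top]
  · rw [Fin.monotone_iff_le_succ]
    intro i
    refine Fin.cases ?_ (fun i' => ?_) i
    · rw [Fin.castSucc_zero, Fin.cons_zero]; exact bot_le
    · rw [← Fin.succ_castSucc, Fin.cons_succ, Fin.cons_succ]
      exact Subgroup.comap_mono (hmono (Fin.castSucc_le_succ i'))
  · intro i
    refine Fin.cases ?_ (fun i' => ?_) i
    · rw [Fin.cons_zero]; infer_instance
    · rw [Fin.cons_succ]
      haveI := hnorm i'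
      infer_instance
  · intro i
    refine Fin.cases ?_ (fun i' => ?_) i
    · rw [Fin.castSucc_zero, Fin.cons_zero, Fin.cons_succ, h0, Subgroup.relIndex_bot_left]
      have : (⊥ : Subgroup (G ⧸ N)).comap (QuotientGroup.mk' N) = N := by
        rw [MonoidHom.comap_bot, QuotientGroup.ker_mk']
      rw [this]
      exact hcard
    · rw [← Fin.succ_castSucc, Fin.cons_succ, Fin.cons_succ, Subgroup.relIndex_comap,
        Subgroup.map_comap_eq_self_of_surjective (QuotientGroup.mk'_surjective N)]
      exact hfac i'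

theorem isPSolvable_of_subsingleton {G : Type*} [Group G] [Subsingleton G] (p : ℕ) :
    IsPSolvable p G := by
  refine ⟨0, fun _ => ⊥, rfl, Subsingleton.elim _ _, fun _ _ _ => le_rfl, fun _ => inferInstance, ?_⟩
  intro i
  exact i.elim0

/-- a nontrivial finite solvable group has a nontrivial normal abelian subgroup -/
theorem exists_normal_abelian {G : Type*} [Group G] [hs : Group.IsSolvable G] [Nontrivial G] :
    ∃ A : Subgroup G, A.Normal ∧ A ≠ ⊥ ∧ ⁅A, A⁆ = ⊥ := by
  classical
  obtain ⟨n, hn⟩ := hs.solvable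
  have hex : ∃ n, derivedSeries G n = ⊥ := ⟨n, hn⟩
  have hk := Nat.find_spec hex
  have hk0 : Nat.find hex ≠ 0 := by
    intro h0
    rw [h0, derivedSeries_zero] at hk
    exact top_ne_bot hk
  obtain ⟨k, hk'⟩ : ∃ k, Nat.find hex = k + 1 := ⟨Nat.find hex - 1, by omega⟩
  refine ⟨derivedSeries G k, derivedSeries_normal G k, ?_, ?_⟩
  · intro h
    have := Nat.find_min' hex h
    omega
  · rw [← derivedSeries_succ, ← hk']; exact hk

theorem isPSolvable_of_isSolvable_aux (p : ℕ) [hp : Fact p.Prime] :
    ∀ (n : ℕ) (G : Type u) [Group G] [Finite G], Nat.card G = n → Group.IsSolvable G →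
      IsPSolvable p G := by
  intro n
  induction n using Nat.strong_induction_on with
  | _ n ih =>
  intro G _ _ hn hs
  rcases subsingleton_or_nontrivial G with hsub | hnt
  · exact isPSolvable_of_subsingleton p
  obtain ⟨A, hAn, hAb, hAc⟩ := exists_normal_abelian (G := G)
  haveI := hAn
  -- find N
  have hN : ∃ N : Subgroup G, N.Normal ∧ N ≠ ⊥ ∧
      ((∃ m : ℕ, Nat.card N = p ^ m) ∨ (Nat.card N).Coprime p) := by
    by_cases hpA : p ∣ Nat.card A
    · obtain ⟨P⟩ : Nonempty (Sylow p A) := inferInstance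
      haveI hPn : (P : Subgroup A).Normal := by
        constructor
        intro x hx g
        have hcomm : g * x * g⁻¹ = x := by
          have h1 : ⁅(g : G), (x : G)⁆ ∈ ⁅A, A⁆ := Subgroup.commutator_mem_commutator g.2 x.2
          rw [hAc, Subgroup.mem_bot] at h1
          have h2 : Commute (g : G) (x : G) := commutatorElement_eq_one_iff_commute.mp h1
          apply Subtype.ext
          show (g : G) * x * (g : G)⁻¹ = x
          rw [h2.eq, mul_inv_cancel_right]
        rw [hcomm]; exact hx
      haveI hPc : (P : Subgroup A).Characteristic := Sylow.characteristic_of_normal P hPn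
      refine ⟨(P : Subgroup A).map A.subtype, inferInstance, ?_, Or.inl ?_⟩
      · intro h
        have h1 : (P : Subgroup A) = ⊥ :=
          (Subgroup.map_eq_bot_iff_of_injective _ A.subtype_injective).mp h
        exact P.ne_bot_of_dvd_card hpA h1
      · have : Nat.card ((P : Subgroup A).map A.subtype) = Nat.card (P : Subgroup A) :=
          Subgroup.card_map_of_injective A.subtype_injective
        rw [this]
        exact IsPGroup.iff_card.mp P.isPGroup'
    · exact ⟨A, hAn, hAb, Or.inr ((Nat.Prime.coprime_iff_not_dvd hp.out).mpr hpA).symm⟩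
  obtain ⟨N, hNn, hNb, hNc⟩ := hN
  haveI := hNn
  have hlt : Nat.card (G ⧸ N) < n := by
    rw [← hn]
    have h1 : Nat.card (G ⧸ N) = N.index := rfl
    have h2 := Subgroup.card_mul_index N
    have h3 : 1 < Nat.card ↥N := by
      have : Nat.card ↥N ≠ 1 := fun h => hNb (Subgroup.card_eq_one.mp h)
      have hpos : 0 < Nat.card ↥N := Nat.card_pos
      omega
    have h4 : 0 < N.index := Nat.pos_of_ne_zero Subgroup.index_ne_zero_of_finite
    rw [h1]
    nlinarith
  have hq : IsPSolvable p (G ⧸ N) :=
    ih _ hlt (G ⧸ N) rfl inferInstance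
  exact isPSolvable_of_quotient N hNc hq

theorem isPSolvable_of_isSolvable (p : ℕ) [Fact p.Prime] (G : Type u) [Group G] [Finite G]
    [hs : Group.IsSolvable G] : IsPSolvable p G :=
  isPSolvable_of_isSolvable_aux p _ G rfl hs

end Cfsg.Agent.Lib.Helper4.SolvPSolv
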