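import Mathlib
import Cfsg.Prelude.Def_OddOrderLocal
import Cfsg.Prelude.Def_OddOrder
import Cfsg.Agent.Lib.Helper4.ThreeStepA
import Cfsg.Agent.Lib.Helper4.OddStable
import Cfsg.Agent.Lib.Helper4.SolvPSolv
import Cfsg.Agent.Lib.Helper4.GTZJ
import Cfsg.Agent.Lib.Lead.PSolvable
import Cfsg.Agent.H2.SylowExtra
import Cfsg.Agent.S0653
import Cfsg.Agent.S3080
import Cfsg.Agent.S1242

/-!
# A maximal subgroup of a minimal simple group of odd order is not a three-step group

The proof: `Z(J(P))` is characteristic in the three-step group `M` (Glauberman's `ZJ`-theorem), so `M = N_G(Z(J(P)))` and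
`P` is a Sylow subgroup of `G`; `N_G(Z(J(P)))` controls strong fusion in `P` (Glauberman), hence controls transfer
(focal subgroup theorem), and `M` has a nontrivial `p`-quotient while `G` is perfect.
-/

set_option autoImplicit false
set_option linter.style.haveILetI false
set_option linter.unusedVariables false
set_option linter.unusedSectionVars false

open scoped commutatorElement

namespace Cfsg.Agent.Lib.Helper4.ThreeStep

open Cfsg Cfsg.Agent.Lib.Lead.Conj

universe u

section basics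

variable {G : Type u} [Group G] [Finite G]

theorem not_isSolvable (hG : Cfsg.IsMinimalSimple G) : ¬ Group.IsSolvable G := by
  intro hs
  obtain ⟨hsimple, hnc, -⟩ := hG
  haveI := hsimple
  apply hnc
  have h1 := IsSimpleGroup.comm_iff_isSolvable.mpr hs
  exact ⟨⟨h1⟩⟩

theorem commutator_eq_top (hG : Cfsg.IsMinimalSimple G) : commutator G = ⊤ := by
  have hns := not_isSolvable hG
  obtain ⟨hsimple, hnc, -⟩ := hG
  haveI := hsimple
  rcases (inferInstance : (commutator G).Normal).eq_bot_or_eq_top with h | h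
  · exfalso
    apply hnc
    refine ⟨⟨fun a b => ?_⟩⟩
    have h1 : ⁅a, b⁆ ∈ commutator G := by
      rw [commutator_def]
      exact Subgroup.commutator_mem_commutator (Subgroup.mem_top a) (Subgroup.mem_top b)
    rw [h, Subgroup.mem_bot] at h1
    exact (commutatorElement_eq_one_iff_mul_comm.mp h1)
  · exact h

theorem normalizer_ne_top (hG : Cfsg.IsMinimalSimple G) (U : Subgroup G) (hU : U ≠ ⊥)
    (hUs : Group.IsSolvable U) : Subgroup.normalizer (U : Set G) ≠ ⊤ := by
  intro h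
  have hns := not_isSolvable hG
  obtain ⟨hsimple, hnc, -⟩ := hG
  haveI := hsimple
  have hUn : U.Normal := Subgroup.normalizer_eq_top_iff.mp h
  rcases hUn.eq_bot_or_eq_top with h1 | h1
  · exact hU h1
  · subst h1
    apply hns
    exact solvable_of_surjective (f := (Subgroup.topEquiv : ↥(⊤ : Subgroup G) ≃* G).toMonoidHom)
      (Subgroup.topEquiv : ↥(⊤ : Subgroup G) ≃* G).surjective

/-- a Sylow subgroup of `M` whose normalizer lies in `M` is a Sylow subgroup of `G` -/
theorem exists_sylow_eq_of_normalizer_le {p : ℕ} [Fact p.Prime] (M : Subgroup G) (PY : Sylow p ↥M)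
    (hN : Subgroup.normalizer (((PY : Subgroup ↥M).map M.subtype : Subgroup G) : Set G) ≤ M) :
    ∃ S : Sylow p G, (S : Subgroup G) = (PY : Subgroup ↥M).map M.subtype := by
  set P : Subgroup G := (PY : Subgroup ↥M).map M.subtype with hP
  have hPp : IsPGroup p P := PY.isPGroup'.map _
  obtain ⟨S, hS⟩ := hPp.exists_le_sylow
  refine ⟨S, ?_⟩
  by_contra hne
  have hlt : P.subgroupOf (S : Subgroup G) < ⊤ := by
    rw [lt_top_iff_ne_top]
    intro h
    apply hne
    apply le_antisymm _ hS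
    intro s hs
    have : (⟨s, hs⟩ : (S : Subgroup G)) ∈ P.subgroupOf (S : Subgroup G) := by
      rw [h]; trivial
    exact Subgroup.mem_subgroupOf.mp this
  have hSn : Group.IsNilpotent (S : Subgroup G) := S.isPGroup'.isNilpotent
  have hnc := Group.normalizerCondition_of_isNilpotent (G := (S : Subgroup G)) _ hlt
  obtain ⟨t, ht1, ht2⟩ := SetLike.exists_of_lt hnc
  have htP : (t : G) ∉ P := fun h => ht2 (Subgroup.mem_subgroupOf.mpr h)
  have htN : (t : G) ∈ Subgroup.normalizer (P : Set G) := by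
    apply mem_normalizer_of_conj_mem
    intro x hx
    have h1 := Subgroup.mem_normalizer_iff.mp ht1
    have hxS : x ∈ (S : Subgroup G) := hS hx
    have := (h1 ⟨x, hxS⟩).mp (Subgroup.mem_subgroupOf.mpr hx)
    rw [Subgroup.mem_subgroupOf] at this
    simpa using this
  set T : Subgroup G := (S : Subgroup G) ⊓ Subgroup.normalizer (P : Set G) with hT
  have hTM : T ≤ M := inf_le_right.trans hN
  have hTp : IsPGroup p T := S.isPGroup'.to_le inf_le_left
  have hPT : P ≤ T := le_inf hS Subgroup.le_normalizer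
  have hTp' : IsPGroup p ↥(T.subgroupOf M) := hTp.comap_subtype
  have hle : (PY : Subgroup ↥M) ≤ T.subgroupOf M := by
    intro y hy
    rw [Subgroup.mem_subgroupOf]
    exact hPT ⟨y, hy, rfl⟩
  have heq := PY.is_maximal' hTp' hle
  apply htP
  have htT : (t : G) ∈ T := ⟨t.2, htN⟩
  have h2 : (⟨(t : G), hTM htT⟩ : ↥M) ∈ T.subgroupOf M := Subgroup.mem_subgroupOf.mpr htT
  rw [heq] at h2
  exact ⟨_, h2, rfl⟩

end basics

section main

variable {G : Type u} [Group G] [Finite G]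

/-- the structure of `M`: `M = N_G(Z(J(S)))` for a Sylow subgroup `S` of `G` contained in `M` -/
theorem exists_sylow_normalizer_zj (hG : Cfsg.IsMinSimpleOddOrder G) (M : Subgroup G)
    (hM : IsCoatom M) {p : ℕ} [hpf : Fact p.Prime] (h3 : Cfsg.IsThreeStepGroup p ↥M) :
    p ≠ 2 ∧ ∃ S : Sylow p G, (S : Subgroup G) ≤ M ∧
      Subgroup.normalizer ((Cfsg.centerThompsonAOf (S : Subgroup G) : Subgroup G) : Set G) = M := by
  obtain ⟨hodd, hms⟩ := hG
  have hsimple := hms.1
  haveI := hsimple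
  have hoddM : Odd (Nat.card ↥M) := Odd.of_dvd_nat hodd (Subgroup.card_subgroup_dvd_card M)
  have hc := centralizer_pCore_le h3
  have hH1 : Cfsg.pCore p ↥M ≠ ⊥ := h3.1
  have hHp : IsPGroup p ↥(Cfsg.pCore p ↥M) := Cfsg.Agent.H1.pCore_isPGroup p
  have hp2 : p ≠ 2 := by
    rintro rfl
    rcases hHp.card_eq_or_dvd with h | h
    · exact hH1 (Subgroup.card_eq_one.mp h)
    · have h1 : 2 ∣ Nat.card ↥M := h.trans (Subgroup.card_subgroup_dvd_card _)
      exact (Nat.not_even_iff_odd.mpr hoddM) (even_iff_two_dvd.mpr h1)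
  refine ⟨hp2, ?_⟩
  obtain ⟨PY⟩ : Nonempty (Sylow p ↥M) := inferInstance
  have hchar := Cfsg.Agent.S0653.result hp2 hc
    (fun V _ hV => Cfsg.Agent.Lib.Helper4.OddStable.isPStableOn_of_odd hoddM hp2 V hV) PY
  set P : Subgroup G := (PY : Subgroup ↥M).map M.subtype with hP
  have hPp : IsPGroup p P := PY.isPGroup'.map _
  have hPM : P ≤ M := Subgroup.map_subtype_le _
  -- naturality of `Z(J(-))`
  have hZ : Cfsg.centerThompsonAOf P =
      (Cfsg.centerThompsonAOf (PY : Subgroup ↥M)).map M.subtype := by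
    rw [Cfsg.Agent.S0653.center_eq_zj, Cfsg.Agent.S0653.center_eq_zj]
    exact (Cfsg.Agent.Lib.Helper4.GTZJ.pFunctor_WAb hp2).map ↥M G M.subtype (PY : Subgroup ↥M)
      (fun x _ hx => Subtype.ext hx)
  have hPYne : (PY : Subgroup ↥M) ≠ ⊥ := by
    intro h
    apply hH1
    rw [eq_bot_iff, ← h]
    exact Cfsg.Agent.H1.pCore_le_sylow PY
  have hZYne : Cfsg.centerThompsonAOf (PY : Subgroup ↥M) ≠ ⊥ := by
    have := (Cfsg.Agent.Lib.Helper4.GTZJ.pFunctor_WAb hp2).ne_bot ↥M (PY : Subgroup ↥M) PY.isPGroup' hPYne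
    rwa [Cfsg.Agent.S0653.center_eq_zj]
  have hZne : Cfsg.centerThompsonAOf P ≠ ⊥ := by
    rw [hZ]
    intro h
    exact hZYne ((Subgroup.map_eq_bot_iff_of_injective _ M.subtype_injective).mp h)
  have hZM : Cfsg.centerThompsonAOf P ≤ M := by
    rw [hZ]; exact Subgroup.map_subtype_le _
  have hMN : M ≤ Subgroup.normalizer ((Cfsg.centerThompsonAOf P : Subgroup G) : Set G) := by
    intro m hm
    apply mem_normalizer_of_conj_mem
    intro x hx
    rw [hZ] at hx ⊢
    obtain ⟨z, hz, rfl⟩ := hx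
    have hn : (Cfsg.centerThompsonAOf (PY : Subgroup ↥M)).Normal := inferInstance
    exact ⟨_, hn.conj_mem z hz ⟨m, hm⟩, rfl⟩
  have hZs : Group.IsSolvable ↥(Cfsg.centerThompsonAOf P) :=
    hms.2.2 _ (fun h => hM.1 (top_le_iff.mp (h ▸ hZM)))
  have hNtop := normalizer_ne_top hms _ hZne hZs
  have hNM : Subgroup.normalizer ((Cfsg.centerThompsonAOf P : Subgroup G) : Set G) = M := by
    by_contra hne
    exact hNtop (hM.2 _ (lt_of_le_of_ne hMN (Ne.symm hne)))
  have hNP : Subgroup.normalizer ((P : Subgroup G) : Set G) ≤ M := by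
    rw [← hNM, Cfsg.Agent.S0653.center_eq_zj]
    exact Cfsg.Agent.Lib.Helper4.GT.normalizer_le_normalizer_W
      (Cfsg.Agent.Lib.Helper4.GTZJ.pFunctor_WAb hp2) P
  obtain ⟨S, hS⟩ := exists_sylow_eq_of_normalizer_le M PY hNP
  refine ⟨S, ?_, ?_⟩
  · rw [hS]; exact hPM
  · rw [hS]; exact hNM

/-- a three-step group for the prime `p` has a nontrivial `p`-quotient -/
theorem residual_sup_commutator_ne_top {Y : Type u} [Group Y] [Finite Y] {p : ℕ} [hpf : Fact p.Prime]
    (h3 : Cfsg.IsThreeStepGroup p Y) : Cfsg.pResidual p Y ⊔ commutator Y ≠ ⊤ := by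
  obtain ⟨hH1, A, hA1, hAc, hAodd, hAcop, hHAn, hHAtop, ⟨k, hk⟩, hfpf, hlast⟩ := h3
  haveI := hHAn
  set HA : Subgroup Y := Cfsg.pCore p Y ⊔ A with hHA
  have hcard : Nat.card (Y ⧸ HA) = p ^ k := by rw [← hk]; exact (Subgroup.index_eq_card HA).symm
  have hQp : IsPGroup p (Y ⧸ HA) := IsPGroup.of_card hcard
  haveI hQnt : Nontrivial (Y ⧸ HA) := by
    rw [← Finite.one_lt_card_iff_nontrivial]
    have h1 : HA.index ≠ 1 := fun h => hHAtop (Subgroup.index_eq_one.mp h)
    have h2 : HA.index ≠ 0 := Subgroup.index_ne_zero_of_finite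
    rw [← Subgroup.index_eq_card HA]
    omega
  haveI hQnil : Group.IsNilpotent (Y ⧸ HA) := hQp.isNilpotent
  have hlt : commutator (Y ⧸ HA) < ⊤ := IsSolvable.commutator_lt_top_of_nontrivial (Y ⧸ HA)
  set K : Subgroup Y := (commutator (Y ⧸ HA)).comap (QuotientGroup.mk' HA) with hK
  have hKtop : K ≠ ⊤ := by
    intro h
    apply hlt.ne
    rw [eq_top_iff]
    intro q _
    obtain ⟨y, rfl⟩ := QuotientGroup.mk'_surjective HA q
    have : y ∈ K := by rw [h]; trivial
    exact this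
  intro htop
  apply hKtop
  rw [eq_top_iff, ← htop]
  apply sup_le
  · unfold Cfsg.pResidual
    rw [Subgroup.closure_le]
    intro g hg
    have hg' : Nat.Coprime (orderOf g) p := hg
    show QuotientGroup.mk' HA g ∈ commutator (Y ⧸ HA)
    have h1 : orderOf (QuotientGroup.mk' HA g) ∣ orderOf g := orderOf_map_dvd _ g
    obtain ⟨j, hj⟩ := (IsPGroup.iff_orderOf.mp hQp) (QuotientGroup.mk' HA g)
    have h2 : orderOf (QuotientGroup.mk' HA g) ∣ Nat.gcd (orderOf g) (p ^ j) :=
      Nat.dvd_gcd h1 (hj ▸ dvd_rfl)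
    rw [Nat.Coprime.gcd_eq_one (Nat.Coprime.pow_right j hg')] at h2
    rw [orderOf_eq_one_iff.mp (Nat.dvd_one.mp h2)]
    exact Subgroup.one_mem _
  · rw [commutator_def, Subgroup.commutator_le]
    intro g₁ _ g₂ _
    show QuotientGroup.mk' HA ⁅g₁, g₂⁆ ∈ commutator (Y ⧸ HA)
    rw [map_commutatorElement, commutator_def]
    exact Subgroup.commutator_mem_commutator (Subgroup.mem_top _) (Subgroup.mem_top _)

/-- **Part I**: a maximal subgroup of a minimal simple group of odd order is not a three-step group -/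
theorem false_of_coatom_threeStep (hG : Cfsg.IsMinSimpleOddOrder G) (M : Subgroup G)
    (hM : IsCoatom M) {p : ℕ} [hpf : Fact p.Prime] (h3 : Cfsg.IsThreeStepGroup p ↥M) : False := by
  obtain ⟨hp2, S, hSM, hNM⟩ := exists_sylow_normalizer_zj hG M hM h3
  obtain ⟨hodd, hms⟩ := hG
  have hp : p.Prime := Fact.out
  have hst : Cfsg.IsNormalizerPStable p G :=
    Cfsg.Agent.Lib.Helper4.OddStable.isNormalizerPStable_of_odd hodd hp2
  have hcons : ∀ U : Subgroup G, U ≤ (S : Subgroup G) → U ≠ ⊥ →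
      Cfsg.IsPConstrained p ↥(Subgroup.normalizer (U : Set G)) := by
    intro U hUS hU
    have hUp : IsPGroup p U := S.isPGroup'.to_le hUS
    haveI hUn : Group.IsNilpotent U := hUp.isNilpotent
    have hUs : Group.IsSolvable U := inferInstance
    have hNtop := normalizer_ne_top hms U hU hUs
    haveI : Group.IsSolvable ↥(Subgroup.normalizer (U : Set G)) := hms.2.2 _ hNtop
    exact Cfsg.Agent.Lib.Lead.PSolvable.IsPSolvable.isPConstrained
      (Cfsg.Agent.Lib.Helper4.SolvPSolv.isPSolvable_of_isSolvable p _)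
  have hctl := (Cfsg.Agent.S3080.result hp2 S (S : Subgroup G) ⟨le_rfl, fun x hx g hg => hg⟩ hst hcons).1
  rw [hNM] at hctl
  have hidx : Nat.Coprime p M.index := by
    rw [Nat.Prime.coprime_iff_not_dvd hp]
    intro h
    exact S.not_dvd_index (h.trans (Subgroup.index_dvd_of_le hSM))
  have hfus : ∀ g ∈ M, (∃ k : ℕ, orderOf g = p ^ k) → ∀ a : G, a * g * a⁻¹ ∈ M →
      ∃ h ∈ M, h * g * h⁻¹ = a * g * a⁻¹ := by
    intro g hg hgp a hag
    obtain ⟨m₁, hm₁, h1⟩ := Cfsg.Agent.H2.exists_conj_mem_sylow_of_mem S M hSM g hg hgp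
    have hagp : ∃ k : ℕ, orderOf (a * g * a⁻¹) = p ^ k := by rw [orderOf_conj]; exact hgp
    obtain ⟨m₂, hm₂, h2⟩ := Cfsg.Agent.H2.exists_conj_mem_sylow_of_mem S M hSM _ hag hagp
    have hA : ({m₁ * g * m₁⁻¹} : Set G) ⊆ ((S : Subgroup G) : Set G) := by
      intro y hy
      rw [Set.mem_singleton_iff] at hy
      subst hy
      exact h1
    obtain ⟨-, hc⟩ := hctl _ hA
    obtain ⟨x, hxM, hx⟩ := hc (m₂ * a * m₁⁻¹) (by
      rintro _ ⟨y, hy, rfl⟩
      rw [Set.mem_singleton_iff] at hy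
      subst hy
      have e : m₂ * a * m₁⁻¹ * (m₁ * g * m₁⁻¹) * (m₂ * a * m₁⁻¹)⁻¹ = m₂ * (a * g * a⁻¹) * m₂⁻¹ := by
        group
      show m₂ * a * m₁⁻¹ * (m₁ * g * m₁⁻¹) * (m₂ * a * m₁⁻¹)⁻¹ ∈ ((S : Subgroup G) : Set G)
      rw [e]
      exact h2)
    have hx' := hx _ rfl
    refine ⟨m₂⁻¹ * x * m₁, M.mul_mem (M.mul_mem (M.inv_mem hm₂) hxM) hm₁, ?_⟩
    have e1 : m₂⁻¹ * x * m₁ * g * (m₂⁻¹ * x * m₁)⁻¹ = m₂⁻¹ * (x * (m₁ * g * m₁⁻¹) * x⁻¹) * m₂ := by
      group
    rw [e1, ← hx']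
    group
  have hfocal := Cfsg.Agent.S1242.result (p := p) M hidx hfus
  rw [commutator_eq_top hms, sup_top_eq, top_inf_eq] at hfocal
  apply residual_sup_commutator_ne_top h3
  rw [eq_top_iff]
  intro y _
  have hy : (y : G) ∈ (Cfsg.pResidual p ↥M ⊔ commutator ↥M).map M.subtype := hfocal ▸ y.2
  obtain ⟨z, hz, hzy⟩ := hy
  have : z = y := Subtype.ext hzy
  rw [← this]
  exact hz

end main

end Cfsg.Agent.Lib.Helper4.ThreeStep
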