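import Mathlib
import Cfsg.Prelude.Def_OddOrderLocal
import Cfsg.Prelude.Def_OddOrder
import Cfsg.Agent.Lib.Helper4.ThreeStepB
import Cfsg.Agent.H2.CNSolvable
import Cfsg.Agent.H1.FrobeniusCount
import Cfsg.Agent.S1476
import Cfsg.Agent.S0042

/-!
# No subgroup of a minimal simple CN-group of odd order is a three-step group
-/

set_option autoImplicit false
set_option linter.style.haveILetI false
set_option linter.unusedVariables false
set_option linter.unusedSectionVars false

open scoped commutatorElement Pointwise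

namespace Cfsg.Agent.Lib.Helper4.ThreeStep

open Cfsg

universe u

/-- being a CN-group passes along injective homomorphisms -/
theorem cn_of_injective {G₁ G₂ : Type*} [Group G₁] [Group G₂] (f : G₁ →* G₂)
    (hf : Function.Injective f) (h : Cfsg.IsCNGroup G₂) : Cfsg.IsCNGroup G₁ := by
  intro g hg
  have hg' : f g ≠ 1 := fun h1 => hg (hf (by rw [h1, map_one]))
  have hnil := h (f g) hg'
  let φ : ↥(Subgroup.centralizer ({g} : Set G₁)) →* ↥(Subgroup.centralizer ({f g} : Set G₂)) :=
    (f.comp (Subgroup.subtype _)).codRestrict _ (by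
      intro c
      rw [Subgroup.mem_centralizer_singleton_iff]
      have hc := Subgroup.mem_centralizer_singleton_iff.mp c.2
      simp only [MonoidHom.coe_comp, Function.comp_apply, Subgroup.coe_subtype]
      rw [← map_mul, hc, map_mul])
  have hφ : Function.Injective φ := by
    intro c₁ c₂ h12
    have h1 := congrArg Subtype.val h12
    simp only [φ, MonoidHom.codRestrict_apply, MonoidHom.coe_comp, Function.comp_apply,
      Subgroup.coe_subtype] at h1
    exact Subtype.ext (hf h1)
  have := hnil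
  apply Subgroup.isNilpotent_of_ker_le_center φ
  rw [(MonoidHom.ker_eq_bot_iff φ).mpr hφ]
  exact bot_le

section frob

variable {Y : Type u} [Group Y] [Finite Y]

/-- a normal complement of a Frobenius complement is the Frobenius kernel, hence nilpotent -/
theorem nilpotent_of_frobenius (K E : Subgroup Y) [hKn : K.Normal] (hc : Subgroup.IsComplement' K E)
    (hE : Cfsg.IsFrobeniusComplement E) : Group.IsNilpotent K := by
  obtain ⟨N, hN, hNn, hNnil⟩ := Cfsg.Agent.S0042.result E hE
  have hKN : K ≤ N := by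
    intro x hx
    have : x ∈ (N : Set Y) := by
      rw [hN]
      by_cases hx1 : x = 1
      · exact Or.inl hx1
      · right
        intro g hxg
        apply hx1
        rw [Subgroup.mem_pointwise_smul_iff_inv_smul_mem] at hxg
        have h1 : g⁻¹ * x * g ∈ E := by
          have e : (MulAut.conj g)⁻¹ • x = g⁻¹ * x * g := by
            rw [← map_inv, MulAut.smul_def, MulAut.conj_apply, inv_inv]
          rwa [e] at hxg
        have h2 : g⁻¹ * x * g ∈ K := by
          have := hKn.conj_mem x hx g⁻¹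
          rwa [inv_inv] at this
        have h3 : g⁻¹ * x * g ∈ K ⊓ E := ⟨h2, h1⟩
        rw [hc.disjoint.eq_bot, Subgroup.mem_bot] at h3
        have e : x = g * (g⁻¹ * x * g) * g⁻¹ := by group
        rw [e, h3]; group
    exact this
  have hcard : Nat.card N = Nat.card K := by
    have h1 := Cfsg.Agent.H1.card_frobeniusKernel E hE
    have h2 : E.index = Nat.card K := hc.index_eq_card
    rw [← h2, ← h1, ← hN]
    rfl
  have hKeq : K = N := Subgroup.eq_of_le_of_card_ge hKN (le_of_eq hcard)
  rw [hKeq]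
  exact hNnil

/-- the quotient by a normal complement of a commutative subgroup is commutative -/
theorem commutator_le_of_complement (K E : Subgroup Y) [hKn : K.Normal] (hc : Subgroup.IsComplement' K E)
    (hE : ∀ a ∈ E, ∀ b ∈ E, a * b = b * a) : commutator Y ≤ K := by
  have hdec : ∀ g : Y, ∃ k ∈ K, ∃ e ∈ E, g = k * e := by
    intro g
    have h1 : g ∈ ((K ⊔ E : Subgroup Y) : Set Y) := by
      rw [hc.sup_eq_top]; trivial
    rw [Subgroup.normal_mul] at h1
    obtain ⟨k, hk, e, he, rfl⟩ := Set.mem_mul.mp h1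
    exact ⟨k, hk, e, he, rfl⟩
  rw [commutator_def, Subgroup.commutator_le]
  intro g₁ _ g₂ _
  obtain ⟨k₁, hk₁, e₁, he₁, rfl⟩ := hdec g₁
  obtain ⟨k₂, hk₂, e₂, he₂, rfl⟩ := hdec g₂
  rw [← QuotientGroup.eq_one_iff]
  have h0 : ((⁅k₁ * e₁, k₂ * e₂⁆ : Y) : Y ⧸ K) = ⁅((k₁ * e₁ : Y) : Y ⧸ K), ((k₂ * e₂ : Y) : Y ⧸ K)⁆ :=
    map_commutatorElement (QuotientGroup.mk' K) _ _
  rw [h0]
  have h1 : ((k₁ * e₁ : Y) : Y ⧸ K) = (e₁ : Y ⧸ K) := by
    rw [QuotientGroup.mk_mul, (QuotientGroup.eq_one_iff k₁).mpr hk₁, one_mul]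
  have h2 : ((k₂ * e₂ : Y) : Y ⧸ K) = (e₂ : Y ⧸ K) := by
    rw [QuotientGroup.mk_mul, (QuotientGroup.eq_one_iff k₂).mpr hk₂, one_mul]
  rw [h1, h2, commutatorElement_eq_one_iff_mul_comm, ← QuotientGroup.mk_mul, ← QuotientGroup.mk_mul,
    hE e₁ he₁ e₂ he₂]

end frob

section main

variable {G : Type u} [Group G] [Finite G]

/-- **Part II**: every maximal subgroup has a normal nilpotent subgroup with abelian quotient -/
theorem exists_nilpotent_normal (hG : Cfsg.IsMinSimpleOddOrder G) (hCN : Cfsg.IsCNGroup G)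
    (M : Subgroup G) (hM : IsCoatom M) :
    ∃ L : Subgroup ↥M, L.Normal ∧ Group.IsNilpotent L ∧ commutator ↥M ≤ L := by
  have hodd := hG.1
  have hms := hG.2
  have hoddM : Odd (Nat.card ↥M) := Odd.of_dvd_nat hodd (Subgroup.card_subgroup_dvd_card M)
  haveI : Group.IsSolvable ↥M := hms.2.2 M hM.1
  have hCNM : Cfsg.IsCNGroup ↥M := cn_of_injective M.subtype M.subtype_injective hCN
  rcases Cfsg.Agent.S1476.result hCNM with hnil | ⟨K, E, hKn, hc, hE, hcyc⟩ | ⟨p, hp, h3⟩
  · haveI := hnil
    exact ⟨⊤, inferInstance, inferInstance, le_top⟩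
  · haveI := hKn
    refine ⟨K, hKn, nilpotent_of_frobenius K E hc hE, ?_⟩
    apply commutator_le_of_complement K E hc
    rcases hcyc with hcyc | ⟨C, Q, hCQ, -, -, -, n, ⟨e⟩⟩
    · intro a ha b hb
      haveI := hcyc
      have h1 := (IsCyclic.commGroup (α := ↥E)).mul_comm ⟨a, ha⟩ ⟨b, hb⟩
      exact congrArg Subtype.val h1
    · exfalso
      have h1 : Nat.card ↥Q = 4 * 2 ^ n := by
        rw [Nat.card_congr e.toEquiv, Cfsg.Agent.H2.CNSolv.card_quaternion_pow]
      have h2 : Nat.card ↥Q ∣ Nat.card ↥M := Subgroup.card_subgroup_dvd_card Q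
      have h3 : 2 ∣ Nat.card ↥M := by
        refine Dvd.dvd.trans ?_ h2
        rw [h1]
        exact ⟨2 * 2 ^ n, by ring⟩
      exact (Nat.not_even_iff_odd.mpr hoddM) (even_iff_two_dvd.mpr h3)
  · exfalso
    haveI : Fact p.Prime := ⟨hp⟩
    exact false_of_coatom_threeStep hG M hM h3

/-- **S1478** -/
theorem no_threeStep (hG : Cfsg.IsMinSimpleOddOrder G) (hCN : Cfsg.IsCNGroup G)
    (X : Subgroup G) (n : ℕ) : ¬ Cfsg.IsThreeStepGroup n ↥X := by
  have hms := hG.2
  have hsimple := hms.1
  haveI := hsimple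
  by_cases hX : X = ⊤
  · subst hX
    rintro ⟨hH1, A, hA1, hAc, hAodd, hAcop, hHAn, hHAtop, -⟩
    haveI : IsSimpleGroup ↥(⊤ : Subgroup G) :=
      (Subgroup.topEquiv : ↥(⊤ : Subgroup G) ≃* G).isSimpleGroup
    haveI hHn : (Cfsg.pCore n ↥(⊤ : Subgroup G)).Normal := Cfsg.Agent.H1.pCore_normal n
    rcases hHn.eq_bot_or_eq_top with h | h
    · exact hH1 h
    · apply hHAtop
      rw [h]
      exact top_sup_eq _
  · obtain ⟨M, hM, hXM⟩ := (eq_top_or_exists_le_coatom X).resolve_left hX
    obtain ⟨L, hLn, hLnil, hLc⟩ := exists_nilpotent_normal hG hCN M hM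
    haveI := hLn
    let f : ↥X →* ↥M := Subgroup.inclusion hXM
    have hf : Function.Injective f := Subgroup.inclusion_injective hXM
    have hL'nil : Group.IsNilpotent ↥(L.comap f) := by
      have := hLnil
      apply Subgroup.isNilpotent_of_ker_le_center (f.subgroupComap L)
      have hinj : Function.Injective (f.subgroupComap L) := by
        intro a b hab
        have h1 := congrArg (fun z : ↥L => ((z : ↥M))) hab
        exact Subtype.ext (hf h1)
      rw [(MonoidHom.ker_eq_bot_iff _).mpr hinj]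
      exact bot_le
    refine not_threeStep_of_nilpotent (L.comap f) hL'nil ?_ n
    rw [commutator_def, Subgroup.commutator_le]
    intro g₁ _ g₂ _
    show f ⁅g₁, g₂⁆ ∈ L
    rw [map_commutatorElement]
    apply hLc
    rw [commutator_def]
    exact Subgroup.commutator_mem_commutator (Subgroup.mem_top _) (Subgroup.mem_top _)

end main

end Cfsg.Agent.Lib.Helper4.ThreeStep
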