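import Mathlib
import Cfsg.Prelude.Def_OddOrderLocal
import Cfsg.Prelude.Def_OddOrder
import Cfsg.Agent.Lib.Helper4.ThreeStepC
import Cfsg.Agent.Lib.Helper4.CNMaxA
import Cfsg.Agent.S1477

/-!
# Maximal nilpotent subgroups of a minimal simple CN-group of odd order, I

* `sylow_inf_eq_bot` : distinct Sylow `p`-subgroups meet trivially;
* `maxNil_TI` : a maximal nilpotent subgroup is a TI-subgroup;
* `maxNil_centralizer_le` : it contains the centralizers of its nonidentity elements.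
-/

set_option autoImplicit false
set_option linter.style.haveILetI false
set_option linter.unusedVariables false
set_option linter.unusedSectionVars false

open scoped commutatorElement Pointwise

namespace Cfsg.Agent.Lib.Helper4.CNMax

open Cfsg Cfsg.Agent.Lib.Helper4.ThreeStep Cfsg.Agent.Lib.Lead.Conj

universe u

variable {G : Type u} [Group G] [Finite G]

/-- `H` is a maximal nilpotent subgroup -/
def IsMaxNil (H : Subgroup G) : Prop :=
  Group.IsNilpotent H ∧ ∀ L : Subgroup G, Group.IsNilpotent L → H ≤ L → L = H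

theorem exists_maxNil_ge (K : Subgroup G) (hK : Group.IsNilpotent K) :
    ∃ H : Subgroup G, IsMaxNil H ∧ K ≤ H := by
  let ι := {L : Subgroup G // Group.IsNilpotent L ∧ K ≤ L}
  haveI : Nonempty ι := ⟨⟨K, hK, le_rfl⟩⟩
  obtain ⟨⟨H, hHn, hKH⟩, hmax⟩ := Finite.exists_max (fun L : ι => Nat.card ↥(L : Subgroup G))
  refine ⟨H, ⟨hHn, fun L hL hHL => ?_⟩, hKH⟩
  have h1 := hmax ⟨L, hL, hKH.trans hHL⟩
  exact (Subgroup.eq_of_le_of_card_ge hHL h1).symm

theorem IsMaxNil.ne_bot [Nontrivial G] {H : Subgroup G} (h : IsMaxNil H) : H ≠ ⊥ := by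
  rintro rfl
  obtain ⟨g, hg⟩ := exists_ne (1 : G)
  have h1 : Group.IsNilpotent ↥(Subgroup.zpowers g) := by
    letI : CommGroup ↥(Subgroup.zpowers g) := IsCyclic.commGroup
    exact CommGroup.isNilpotent
  have h2 := h.2 _ h1 bot_le
  apply hg
  have : g ∈ Subgroup.zpowers g := Subgroup.mem_zpowers g
  rwa [h2, Subgroup.mem_bot] at this

theorem IsMaxNil.ne_top (hms : Cfsg.IsMinimalSimple G) {H : Subgroup G} (h : IsMaxNil H) :
    H ≠ ⊤ := by
  rintro rfl
  apply not_isSolvable hms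
  have := h.1
  have h1 : Group.IsNilpotent G := Group.nilpotent_of_mulEquiv (Subgroup.topEquiv (G := G))
  infer_instance

theorem IsMaxNil.conj {H : Subgroup G} (h : IsMaxNil H) (g : G) :
    IsMaxNil (H.map (MulAut.conj g).toMonoidHom) := by
  refine ⟨Cfsg.Agent.H2.CNQ.nilpotent_map _ h.1, fun L hL hle => ?_⟩
  have h1 : H ≤ L.map (MulAut.conj g⁻¹).toMonoidHom := by
    intro x hx
    rw [mem_map_conj, inv_inv]
    exact hle (conj_mem_map_conj H g hx)
  have h2 := h.2 _ (Cfsg.Agent.H2.CNQ.nilpotent_map _ hL) h1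
  apply le_antisymm _ hle
  intro y hy
  rw [mem_map_conj, ← h2, mem_map_conj, inv_inv]
  have e : g * (g⁻¹ * y * g) * g⁻¹ = y := by group
  rw [e]; exact hy

/-- the data of a proper subgroup -/
theorem proper_data (hG : Cfsg.IsMinSimpleOddOrder G) (hCN : Cfsg.IsCNGroup G) (N : Subgroup G)
    (hN : N ≠ ⊤) : Group.IsSolvable ↥N ∧ Cfsg.IsCNGroup ↥N ∧
      ∀ p : ℕ, p.Prime → ¬ Cfsg.IsThreeStepGroup p ↥N :=
  ⟨hG.2.2.2 N hN, cn_of_injective N.subtype N.subtype_injective hCN,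
    fun p _ => no_threeStep hG hCN N p⟩

/-- the normalizer condition in a nilpotent subgroup, ambient form -/
theorem exists_mem_normalizer_not_mem (D P : Subgroup G) (hP : Group.IsNilpotent P) (hDP : D ≤ P)
    (hne : D ≠ P) : ∃ t ∈ P, t ∈ Subgroup.normalizer (D : Set G) ∧ t ∉ D := by
  have hlt : D.subgroupOf P < ⊤ := by
    rw [lt_top_iff_ne_top]
    intro h
    apply hne
    apply le_antisymm hDP
    intro s hs
    have : (⟨s, hs⟩ : P) ∈ D.subgroupOf P := by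
      rw [h]; trivial
    exact Subgroup.mem_subgroupOf.mp this
  have := hP
  have hnc := Group.normalizerCondition_of_isNilpotent (G := P) _ hlt
  obtain ⟨t, ht1, ht2⟩ := SetLike.exists_of_lt hnc
  refine ⟨t, t.2, ?_, fun h => ht2 (Subgroup.mem_subgroupOf.mpr h)⟩
  apply mem_normalizer_of_conj_mem
  intro x hx
  have h1 := Subgroup.mem_normalizer_iff.mp ht1
  have := (h1 ⟨x, hDP hx⟩).mp (Subgroup.mem_subgroupOf.mpr hx)
  rw [Subgroup.mem_subgroupOf] at this
  simpa using this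

/-- a `p`-subgroup of `N` lies in a normal Sylow `p`-subgroup of `N` -/
theorem le_map_sylow_of_normal {p : ℕ} [Fact p.Prime] (N : Subgroup G) (Q : Sylow p ↥N)
    (hQn : (Q : Subgroup ↥N).Normal) (T : Subgroup G) (hT : IsPGroup p T) (hTN : T ≤ N) :
    T ≤ (Q : Subgroup ↥N).map N.subtype := by
  have hT' : IsPGroup p ↥(T.subgroupOf N) := hT.comap_subtype
  obtain ⟨Q', hQ'⟩ := hT'.exists_le_sylow
  obtain ⟨g, hg⟩ := MulAction.exists_smul_eq ↥N Q Q'
  haveI := hQn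
  rw [Sylow.smul_eq_of_normal] at hg
  subst hg
  intro t ht
  exact ⟨⟨t, hTN ht⟩, hQ' (Subgroup.mem_subgroupOf.mpr ht), rfl⟩

/-- distinct Sylow `p`-subgroups meet trivially -/
theorem sylow_inf_eq_bot (hG : Cfsg.IsMinSimpleOddOrder G) (hCN : Cfsg.IsCNGroup G) {p : ℕ}
    [hpf : Fact p.Prime] (S₁ S₂ : Sylow p G) (hne : S₁ ≠ S₂) :
    (S₁ : Subgroup G) ⊓ (S₂ : Subgroup G) = ⊥ := by
  by_contra hnb
  let ι := {q : Sylow p G × Sylow p G // q.1 ≠ q.2}
  haveI : Nonempty ι := ⟨⟨(S₁, S₂), hne⟩⟩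
  obtain ⟨⟨⟨P₁, P₂⟩, hP⟩, hmax⟩ :=
    Finite.exists_max (fun q : ι => Nat.card ↥((q.1.1 : Subgroup G) ⊓ (q.1.2 : Subgroup G)))
  have hP' : P₁ ≠ P₂ := hP
  set D : Subgroup G := (P₁ : Subgroup G) ⊓ (P₂ : Subgroup G) with hD
  have hbound : ∀ P' P'' : Sylow p G, P' ≠ P'' →
      Nat.card ↥((P' : Subgroup G) ⊓ (P'' : Subgroup G)) ≤ Nat.card ↥D :=
    fun P' P'' h => hmax ⟨(P', P''), h⟩
  have hDne : D ≠ ⊥ := by
    intro h
    apply hnb
    have h1 := hbound S₁ S₂ hne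
    rw [h, Subgroup.card_bot] at h1
    apply Subgroup.card_eq_one.mp
    have : 0 < Nat.card ↥((S₁ : Subgroup G) ⊓ (S₂ : Subgroup G)) := Nat.card_pos
    omega
  have hDp : IsPGroup p ↥D := P₁.isPGroup'.to_le inf_le_left
  haveI hDnil : Group.IsNilpotent ↥D := hDp.isNilpotent
  have hDs : Group.IsSolvable ↥D := inferInstance
  have hNtop := normalizer_ne_top hG.2 D hDne hDs
  set N : Subgroup G := Subgroup.normalizer (D : Set G) with hN
  obtain ⟨hNs, hNCN, hN3⟩ := proper_data hG hCN N hNtop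
  haveI := hNs
  have hDN : D ≤ N := Subgroup.le_normalizer
  -- `O_p(N) ≠ 1`
  have hcore : Cfsg.pCore p ↥N ≠ ⊥ := by
    intro h
    apply hDne
    have h1 : D.subgroupOf N ≤ Cfsg.pCore p ↥N :=
      Cfsg.Agent.H1.le_pCore (Subgroup.normal_subgroupOf_of_le_normalizer le_rfl) hDp.comap_subtype
    rw [h, le_bot_iff] at h1
    rw [eq_bot_iff]
    intro d hd
    have : (⟨d, hDN hd⟩ : ↥N) ∈ D.subgroupOf N := Subgroup.mem_subgroupOf.mpr hd
    rw [h1, Subgroup.mem_bot] at this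
    exact congrArg Subtype.val this
  obtain ⟨Q⟩ : Nonempty (Sylow p ↥N) := inferInstance
  have hQn := sylow_normal_of_pCore_ne_bot hNCN hN3 hcore Q
  have hQGp : IsPGroup p ↥((Q : Subgroup ↥N).map N.subtype) := Q.isPGroup'.map _
  obtain ⟨P₃, hP₃⟩ := hQGp.exists_le_sylow
  have key : ∀ P' : Sylow p G, D ≤ (P' : Subgroup G) → D ≠ (P' : Subgroup G) →
      (∀ P'' : Sylow p G, P' ≠ P'' →
        Nat.card ↥((P' : Subgroup G) ⊓ (P'' : Subgroup G)) ≤ Nat.card ↥D) → P' = P₃ := by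
    intro P' hDP' hDne' hb
    by_contra hne3
    obtain ⟨t, htP', htN, htD⟩ := exists_mem_normalizer_not_mem D (P' : Subgroup G)
      P'.isPGroup'.isNilpotent hDP' hDne'
    have hT : IsPGroup p ↥((P' : Subgroup G) ⊓ N) := P'.isPGroup'.to_le inf_le_left
    have hTQ := le_map_sylow_of_normal N Q hQn _ hT inf_le_right
    have htP₃ : t ∈ (P₃ : Subgroup G) := hP₃ (hTQ ⟨htP', htN⟩)
    have hDP₃ : D ≤ (P₃ : Subgroup G) := fun d hd => hP₃ (hTQ ⟨hDP' hd, hDN hd⟩)
    have h1 := hb P₃ hne3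
    have h2 : D = (P' : Subgroup G) ⊓ (P₃ : Subgroup G) :=
      Subgroup.eq_of_le_of_card_ge (le_inf hDP' hDP₃) h1
    apply htD
    rw [h2]
    exact ⟨htP', htP₃⟩
  have hne1 : D ≠ (P₁ : Subgroup G) := by
    intro h
    apply hP'
    have h1 : (P₁ : Subgroup G) ≤ (P₂ : Subgroup G) := h ▸ (inf_le_right : D ≤ (P₂ : Subgroup G))
    exact Sylow.ext (P₁.is_maximal' P₂.isPGroup' h1).symm
  have hne2 : D ≠ (P₂ : Subgroup G) := by
    intro h
    apply hP'
    have h1 : (P₂ : Subgroup G) ≤ (P₁ : Subgroup G) := h ▸ (inf_le_left : D ≤ (P₁ : Subgroup G))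
    exact Sylow.ext (P₂.is_maximal' P₁.isPGroup' h1)
  have e1 := key P₁ inf_le_left hne1 (fun P'' h => hbound P₁ P'' h)
  have e2 := key P₂ inf_le_right hne2 (fun P'' h => hbound P₂ P'' h)
  exact hP' (e1.trans e2.symm)

theorem maxNil_TI (hG : Cfsg.IsMinSimpleOddOrder G) (hCN : Cfsg.IsCNGroup G) {H : Subgroup G}
    (hH : IsMaxNil H) (g : G) (hne : H.map (MulAut.conj g).toMonoidHom ≠ H) :
    H ⊓ H.map (MulAut.conj g).toMonoidHom = ⊥ := by
  haveI : IsSimpleGroup G := hG.2.1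
  obtain ⟨hcop, hTI, hcent⟩ := Cfsg.Agent.S1477.result hCN H hH.1 hH.2
  have hH1 : Nat.card ↥H ≠ 1 := fun h => hH.ne_bot (Subgroup.card_eq_one.mp h)
  by_cases hpp : IsPrimePow (Nat.card ↥H)
  · obtain ⟨p, k, hp, hk, hpk⟩ := hpp
    have hp' : p.Prime := Nat.prime_iff.mpr hp
    haveI : Fact p.Prime := ⟨hp'⟩
    have hHp : IsPGroup p ↥H := IsPGroup.of_card hpk.symm
    have hidx : ¬ p ∣ H.index := by
      intro h
      have h1 : p ∣ Nat.card ↥H := by rw [← hpk]; exact dvd_pow_self p hk.ne'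
      have := Nat.dvd_gcd h1 h
      rw [hcop.gcd_eq_one] at this
      exact hp'.one_lt.ne' (Nat.dvd_one.mp this)
    let S : Sylow p G := hHp.toSylow hidx
    have hS : (S : Subgroup G) = H := IsPGroup.toSylow_coe _ _
    have hgS : ((g • S : Sylow p G) : Subgroup G) = H.map (MulAut.conj g).toMonoidHom := by
      rw [Sylow.coe_subgroup_smul, hS]
      rfl
    have hne' : S ≠ g • S := by
      intro h
      apply hne
      rw [← hgS, ← h, hS]
    have := sylow_inf_eq_bot hG hCN S (g • S) hne'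
    rwa [hgS, hS] at this
  · exact hTI hpp hH1 g hne

theorem maxNil_centralizer_le (hG : Cfsg.IsMinSimpleOddOrder G) (hCN : Cfsg.IsCNGroup G)
    {H : Subgroup G} (hH : IsMaxNil H) {x : G} (hx : x ∈ H) (hx1 : x ≠ 1) :
    Subgroup.centralizer ({x} : Set G) ≤ H :=
  (Cfsg.Agent.S1477.result hCN H hH.1 hH.2).2.2 (fun g hne => maxNil_TI hG hCN hH g hne) x hx hx1

theorem maxNil_coprime (hCN : Cfsg.IsCNGroup G) {H : Subgroup G} (hH : IsMaxNil H) :
    (Nat.card ↥H).Coprime H.index :=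
  (Cfsg.Agent.S1477.result hCN H hH.1 hH.2).1

end Cfsg.Agent.Lib.Helper4.CNMax
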