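import Mathlib
import Cfsg.Prelude.Def_OddOrderLocal
import Cfsg.Prelude.Def_OddOrder
import Cfsg.Agent.Lib.Helper4.CNMaxB
import Cfsg.Agent.Lib.Lead.PiCore
import Cfsg.Agent.H1.CoprimeAction
import Cfsg.Agent.S0024
import Cfsg.Agent.S0025

/-!
# The Transitivity Theorem of Bender–Glauberman, I: the general machinery

`A` satisfies the transitivity hypothesis; `K = O_{π(A)'}(C_G(A))`.
* `le_K` : every `π(A)'`-subgroup of `C_G(A)` lies in `K`;
* `local_conj` : two `A`-invariant `q`-subgroups of a proper subgroup `X ≥ A` lie in `A`-invariant `q`-subgroups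
  conjugate under `K`;
* `kconj_of_inf_ne_bot` : two maximal `A`-invariant `q`-subgroups with nontrivial intersection are conjugate under `K`.
-/

set_option autoImplicit false
set_option linter.style.haveILetI false
set_option linter.unusedVariables false
set_option linter.unusedSectionVars false

open scoped commutatorElement Pointwise

namespace Cfsg.Agent.Lib.Helper4.BGTrans

open Cfsg Cfsg.Agent.Lib.Helper4.ThreeStep Cfsg.Agent.Lib.Lead.Conj Cfsg.Agent.Lib.Lead.PiCore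
  Cfsg.Agent.Lib.Helper4.CNMax

universe u

variable {G : Type u} [Group G] [Finite G]

/-! ### conjugacy under a subgroup -/

/-- `Q'` is a conjugate of `Q` by an element of `K` -/
def KConj (K Q Q' : Subgroup G) : Prop := ∃ k ∈ K, Q' = Q.map (MulAut.conj k).toMonoidHom

theorem map_conj_one (Q : Subgroup G) : Q.map (MulAut.conj (1 : G)).toMonoidHom = Q := by
  ext x
  rw [mem_map_conj]
  simp

theorem map_conj_mul (Q : Subgroup G) (a b : G) :
    (Q.map (MulAut.conj b).toMonoidHom).map (MulAut.conj a).toMonoidHom =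
      Q.map (MulAut.conj (a * b)).toMonoidHom := by
  ext x
  rw [mem_map_conj, mem_map_conj, mem_map_conj]
  have e : b⁻¹ * (a⁻¹ * x * a) * b = (a * b)⁻¹ * x * (a * b) := by group
  rw [e]

theorem KConj.refl (K Q : Subgroup G) : KConj K Q Q := ⟨1, K.one_mem, (map_conj_one Q).symm⟩

theorem KConj.symm {K Q Q' : Subgroup G} (h : KConj K Q Q') : KConj K Q' Q := by
  obtain ⟨k, hk, rfl⟩ := h
  refine ⟨k⁻¹, K.inv_mem hk, ?_⟩
  rw [map_conj_mul, inv_mul_cancel, map_conj_one]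

theorem KConj.trans {K Q Q' Q'' : Subgroup G} (h : KConj K Q Q') (h' : KConj K Q' Q'') :
    KConj K Q Q'' := by
  obtain ⟨k, hk, rfl⟩ := h
  obtain ⟨k', hk', rfl⟩ := h'
  exact ⟨k' * k, K.mul_mem hk' hk, map_conj_mul Q k' k⟩

/-! ### arithmetic -/

theorem isPiNat_primesNotDvd_iff (n m : ℕ) :
    IsPiNat (Cfsg.primesNotDvd n) m ↔ Nat.Coprime n m := by
  constructor
  · intro h
    apply Nat.Coprime.symm
    apply Nat.coprime_of_dvd
    intro k hk hkm hkn
    exact (h k hk hkm).2 hkn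
  · intro h p hp hpm
    refine ⟨hp, fun hpn => ?_⟩
    have := Nat.dvd_gcd hpn hpm
    rw [h.gcd_eq_one] at this
    exact hp.one_lt.ne' (Nat.dvd_one.mp this)

theorem isPGroup_of_isPiNat {q : ℕ} (hq : q.Prime) {Y : Subgroup G}
    (h : ∀ p : ℕ, p.Prime → p ∣ Nat.card Y → p ∈ ({q} : Set ℕ)) : IsPGroup q Y := by
  have h1 := Nat.eq_prime_pow_of_unique_prime_dvd (n := Nat.card Y) (p := q) Nat.card_pos.ne'
    (fun {d} hd hdvd => h d hd hdvd)
  exact IsPGroup.of_card h1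

theorem isPiNat_of_isPGroup {q : ℕ} [Fact q.Prime] {Y : Subgroup G} (h : IsPGroup q Y) :
    ∀ p : ℕ, p.Prime → p ∣ Nat.card Y → p ∈ ({q} : Set ℕ) := by
  intro p hp hpd
  obtain ⟨k, hk⟩ := h.exists_card_eq
  rw [hk] at hpd
  exact (Nat.prime_dvd_prime_iff_eq hp Fact.out).mp (hp.dvd_of_dvd_pow hpd)

theorem card_lt_of_le_of_mem {D T : Subgroup G} (h : D ≤ T) {t : G} (ht : t ∈ T) (htD : t ∉ D) :
    Nat.card D < Nat.card T := by
  by_contra hle
  push Not at hle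
  have := Subgroup.eq_of_le_of_card_ge h hle
  exact htD (this ▸ ht)

/-! ### normalizers -/

theorem le_normalizer_inf {A Q₁ Q₂ : Subgroup G} (h₁ : A ≤ Subgroup.normalizer (Q₁ : Set G))
    (h₂ : A ≤ Subgroup.normalizer (Q₂ : Set G)) :
    A ≤ Subgroup.normalizer ((Q₁ ⊓ Q₂ : Subgroup G) : Set G) := by
  intro a ha
  apply mem_normalizer_of_conj_mem
  intro x hx
  exact ⟨(Subgroup.mem_normalizer_iff.mp (h₁ ha) x).mp hx.1,
    (Subgroup.mem_normalizer_iff.mp (h₂ ha) x).mp hx.2⟩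

theorem le_normalizer_map_conj {A Q : Subgroup G} (h : A ≤ Subgroup.normalizer (Q : Set G)) {c : G}
    (hc : c ∈ Subgroup.centralizer (A : Set G)) :
    A ≤ Subgroup.normalizer ((Q.map (MulAut.conj c).toMonoidHom : Subgroup G) : Set G) := by
  intro a ha
  apply mem_normalizer_of_conj_mem
  intro x hx
  rw [mem_map_conj] at hx ⊢
  have hca : a * c = c * a := Subgroup.mem_centralizer_iff.mp hc a ha
  have h1 := (Subgroup.mem_normalizer_iff.mp (h ha) _).mp hx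
  have e : c⁻¹ * (a * x * a⁻¹) * c = a * (c⁻¹ * x * c) * a⁻¹ := by
    have h2 : c⁻¹ * a = a * c⁻¹ := by
      have : c⁻¹ * (a * c) * c⁻¹ = c⁻¹ * (c * a) * c⁻¹ := by rw [hca]
      calc c⁻¹ * a = c⁻¹ * (a * c) * c⁻¹ := by group
        _ = c⁻¹ * (c * a) * c⁻¹ := this
        _ = a * c⁻¹ := by group
    have h3 : a⁻¹ * c = c * a⁻¹ := by
      calc a⁻¹ * c = a⁻¹ * (c * a) * a⁻¹ := by group
        _ = a⁻¹ * (a * c) * a⁻¹ := by rw [hca]
        _ = c * a⁻¹ := by group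
    calc c⁻¹ * (a * x * a⁻¹) * c = (c⁻¹ * a) * x * (a⁻¹ * c) := by group
      _ = (a * c⁻¹) * x * (c * a⁻¹) := by rw [h2, h3]
      _ = a * (c⁻¹ * x * c) * a⁻¹ := by group
  rw [e]
  exact h1

/-! ### invariant subgroups -/

theorem mem_invSubgroups_top {A Y : Subgroup G} {π : Set ℕ} :
    Y ∈ Cfsg.invSubgroups ⊤ A π ↔
      (∀ p : ℕ, p.Prime → p ∣ Nat.card Y → p ∈ π) ∧ A ≤ Subgroup.normalizer (Y : Set G) := by
  constructor
  · rintro ⟨-, h1, h2⟩
    exact ⟨h1, h2⟩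
  · rintro ⟨h1, h2⟩
    exact ⟨le_top, h1, h2⟩

theorem card_map_conj' (Q : Subgroup G) (k : G) :
    Nat.card ↥(Q.map (MulAut.conj k).toMonoidHom) = Nat.card ↥Q := card_map_conj Q k

theorem conj_mem_invSubgroups {A Q : Subgroup G} {π : Set ℕ} (hQ : Q ∈ Cfsg.invSubgroups ⊤ A π)
    {c : G} (hc : c ∈ Subgroup.centralizer (A : Set G)) :
    Q.map (MulAut.conj c).toMonoidHom ∈ Cfsg.invSubgroups ⊤ A π := by
  rw [mem_invSubgroups_top] at hQ ⊢
  refine ⟨?_, le_normalizer_map_conj hQ.2 hc⟩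
  rw [card_map_conj']
  exact hQ.1

theorem conj_mem_maxInvSubgroups {A Q : Subgroup G} {π : Set ℕ}
    (hQ : Q ∈ Cfsg.maxInvSubgroups ⊤ A π) {c : G} (hc : c ∈ Subgroup.centralizer (A : Set G)) :
    Q.map (MulAut.conj c).toMonoidHom ∈ Cfsg.maxInvSubgroups ⊤ A π := by
  refine ⟨conj_mem_invSubgroups hQ.1 hc, fun R hR hle => ?_⟩
  have hc' : c⁻¹ ∈ Subgroup.centralizer (A : Set G) := Subgroup.inv_mem _ hc
  have h1 := hQ.2 _ (conj_mem_invSubgroups hR hc') (by
    intro x hx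
    rw [mem_map_conj, inv_inv]
    exact hle (conj_mem_map_conj Q c hx))
  rw [← h1, map_conj_mul, mul_inv_cancel, map_conj_one]

theorem exists_maxInv_ge {A R : Subgroup G} {π : Set ℕ} (hR : R ∈ Cfsg.invSubgroups ⊤ A π) :
    ∃ Q ∈ Cfsg.maxInvSubgroups ⊤ A π, R ≤ Q := by
  let ι := {L : Subgroup G // L ∈ Cfsg.invSubgroups ⊤ A π ∧ R ≤ L}
  haveI : Nonempty ι := ⟨⟨R, hR, le_rfl⟩⟩
  obtain ⟨⟨Q, hQ, hRQ⟩, hmax⟩ := Finite.exists_max (fun L : ι => Nat.card ↥(L : Subgroup G))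
  refine ⟨Q, ⟨hQ, fun L hL hQL => ?_⟩, hRQ⟩
  have h1 := hmax ⟨L, hL, hRQ.trans hQL⟩
  exact (Subgroup.eq_of_le_of_card_ge hQL h1).symm

/-! ### `O_π(X)` as a subgroup of `G` -/

theorem piCoreOf_le (π : Set ℕ) (X : Subgroup G) : Cfsg.piCoreOf π X ≤ X :=
  Subgroup.map_subtype_le _

theorem le_normalizer_piCoreOf (π : Set ℕ) (X : Subgroup G) :
    X ≤ Subgroup.normalizer ((Cfsg.piCoreOf π X : Subgroup G) : Set G) :=
  Cfsg.Agent.Lib.Helper4.TypeP.le_normalizer_map_subtype X _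

theorem isPiNat_piCoreOf (π : Set ℕ) (X : Subgroup G) :
    IsPiNat π (Nat.card ↥(Cfsg.piCoreOf π X)) := by
  unfold Cfsg.piCoreOf
  rw [Nat.card_congr ((piCore π ↥X).equivMapOfInjective _ X.subtype_injective).symm.toEquiv]
  exact piCore_isPiNat π

/-- a `π`-subgroup of `X` normalized by `X` lies in `O_π(X)` -/
theorem le_piCoreOf {π : Set ℕ} {X Y : Subgroup G} (hYX : Y ≤ X)
    (hn : X ≤ Subgroup.normalizer (Y : Set G)) (hπ : IsPiNat π (Nat.card ↥Y)) :
    Y ≤ Cfsg.piCoreOf π X := by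
  have h1 : (Y.subgroupOf X).Normal := Subgroup.normal_subgroupOf_of_le_normalizer hn
  have h2 : IsPiNat π (Nat.card ↥(Y.subgroupOf X)) := by
    rw [Nat.card_congr (Subgroup.subgroupOfEquivOfLe hYX).toEquiv]
    exact hπ
  have h3 := le_piCore h1 h2
  intro y hy
  exact ⟨⟨y, hYX hy⟩, h3 (Subgroup.mem_subgroupOf.mpr hy), rfl⟩

end Cfsg.Agent.Lib.Helper4.BGTrans
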