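import Mathlib
import Cfsg.Agent.Lib.Helper4.BGTransA

/-!
# The Transitivity Theorem of Bender–Glauberman, II

* `le_K`, `local_conj`, `kconj_of_inf_ne_bot`.
-/

set_option autoImplicit false
set_option linter.style.haveILetI false
set_option linter.unusedVariables false
set_option linter.unusedSectionVars false

open scoped commutatorElement Pointwise

namespace Cfsg.Agent.Lib.Helper4.BGTrans

open Cfsg Cfsg.Agent.Lib.Helper4.ThreeStep Cfsg.Agent.Lib.Lead.Conj Cfsg.Agent.Lib.Lead.PiCore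
  Cfsg.Agent.Lib.Helper4.CNMax

universe u

variable {G : Type u} [Group G] [Finite G]

/-- the group `K = O_{π(A)'}(C_G(A))` -/
def KK (A : Subgroup G) : Subgroup G :=
  Cfsg.piCoreOf (Cfsg.primesNotDvd (Nat.card A)) (Subgroup.centralizer (A : Set G))

theorem KK_le_centralizer (A : Subgroup G) : KK A ≤ Subgroup.centralizer (A : Set G) :=
  piCoreOf_le _ _

/-- an `A`-invariant `π'`-subgroup of a proper subgroup `X ≥ A` lies in `O_{π'}(X)` -/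
theorem le_piCoreOf_of_inv {A : Subgroup G} (hA : Cfsg.TransitivityHypothesis A) {X : Subgroup G}
    (hX : X ≠ ⊤) (hAX : A ≤ X) {Y : Subgroup G}
    (hY : Y ∈ Cfsg.invSubgroups X A (Cfsg.primesNotDvd (Nat.card A))) :
    Y ≤ Cfsg.piCoreOf (Cfsg.primesNotDvd (Nat.card A)) X := by
  rw [← hA.2.2 X hX hAX]
  exact le_sSup hY

theorem solvable_of_ne_top (hG : Cfsg.IsMinSimpleOddOrder G) {X : Subgroup G} (hX : X ≠ ⊤) :
    Group.IsSolvable ↥X := hG.2.2.2 X hX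

/-- every `π(A)'`-subgroup of `C_G(A)` lies in `K` -/
theorem le_KK (hG : Cfsg.IsMinSimpleOddOrder G) {A : Subgroup G}
    (hA : Cfsg.TransitivityHypothesis A) {Y : Subgroup G}
    (hYC : Y ≤ Subgroup.centralizer (A : Set G))
    (hYπ : IsPiNat (Cfsg.primesNotDvd (Nat.card A)) (Nat.card ↥Y)) : Y ≤ KK A := by
  haveI : IsSimpleGroup G := hG.2.1
  set π' := Cfsg.primesNotDvd (Nat.card A) with hπ'
  set X₀ : Subgroup G := Subgroup.normalizer (A : Set G) with hX₀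
  have hAs : Group.IsSolvable ↥A := solvable_of_ne_top hG hA.2.1
  have hX₀top : X₀ ≠ ⊤ := normalizer_ne_top hG.2 A hA.1 hAs
  have hAX₀ : A ≤ X₀ := Subgroup.le_normalizer
  have hCX₀ : Subgroup.centralizer (A : Set G) ≤ X₀ := Subgroup.centralizer_le_normalizer _
  have hYinv : Y ∈ Cfsg.invSubgroups X₀ A π' := by
    refine ⟨hYC.trans hCX₀, hYπ, ?_⟩
    intro a ha
    apply mem_normalizer_of_conj_mem
    intro y hy
    have := Subgroup.mem_centralizer_iff.mp (hYC hy) a ha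
    have e : a * y * a⁻¹ = y := by rw [this]; group
    rw [e]; exact hy
  have hYO := le_piCoreOf_of_inv hA hX₀top hAX₀ hYinv
  set O₀ := Cfsg.piCoreOf π' X₀ with hO₀
  have hle : O₀ ⊓ Subgroup.centralizer (A : Set G) ≤ KK A := by
    apply le_piCoreOf inf_le_right
    · intro c hc
      have hcX : c ∈ X₀ := hCX₀ hc
      apply mem_normalizer_of_conj_mem
      intro x hx
      refine ⟨(Subgroup.mem_normalizer_iff.mp (le_normalizer_piCoreOf π' X₀ hcX) x).mp hx.1, ?_⟩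
      exact Subgroup.mul_mem _ (Subgroup.mul_mem _ hc hx.2) (Subgroup.inv_mem _ hc)
    · exact (isPiNat_piCoreOf π' X₀).of_dvd (Subgroup.card_dvd_of_le inf_le_left)
  exact (le_inf hYO hYC).trans hle

/-- two `A`-invariant `q`-subgroups of a proper subgroup `X ≥ A` lie in `A`-invariant `q`-subgroups of `G` that are
conjugate under `K` -/
theorem local_conj (hG : Cfsg.IsMinSimpleOddOrder G) {A : Subgroup G}
    (hA : Cfsg.TransitivityHypothesis A) {q : ℕ} [hqf : Fact q.Prime] (hqA : ¬ q ∣ Nat.card A)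
    {X : Subgroup G} (hX : X ≠ ⊤) (hAX : A ≤ X) {R₁ R₂ : Subgroup G}
    (h₁ : R₁ ∈ Cfsg.invSubgroups X A {q}) (h₂ : R₂ ∈ Cfsg.invSubgroups X A {q}) :
    ∃ S₁ S₂ : Subgroup G, S₁ ∈ Cfsg.invSubgroups ⊤ A {q} ∧ S₂ ∈ Cfsg.invSubgroups ⊤ A {q} ∧
      R₁ ≤ S₁ ∧ R₂ ≤ S₂ ∧ ∃ c ∈ KK A, S₂ = S₁.map (MulAut.conj c).toMonoidHom := by
  have hq : q.Prime := hqf.out
  set π' := Cfsg.primesNotDvd (Nat.card A) with hπ'
  have hsub : ∀ R : Subgroup G, R ∈ Cfsg.invSubgroups X A {q} → R ∈ Cfsg.invSubgroups X A π' := by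
    rintro R ⟨h1, h2, h3⟩
    refine ⟨h1, fun p hp hpd => ?_, h3⟩
    have := h2 p hp hpd
    rw [Set.mem_singleton_iff] at this
    subst this
    exact ⟨hp, hqA⟩
  set O := Cfsg.piCoreOf π' X with hO
  have hR₁O : R₁ ≤ O := le_piCoreOf_of_inv hA hX hAX (hsub R₁ h₁)
  have hR₂O : R₂ ≤ O := le_piCoreOf_of_inv hA hX hAX (hsub R₂ h₂)
  have hAO : A ≤ Subgroup.normalizer (O : Set G) := hAX.trans (le_normalizer_piCoreOf π' X)
  have hcop : (Nat.card A).Coprime (Nat.card O) :=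
    (isPiNat_primesNotDvd_iff _ _).mp (isPiNat_piCoreOf π' X)
  have hAs : Group.IsSolvable ↥A := solvable_of_ne_top hG hA.2.1
  obtain ⟨P₁, hRP₁, hAP₁⟩ := Cfsg.Agent.S0025.result A O hAO hcop (Or.inl hAs) q R₁ hR₁O
    (isPGroup_of_isPiNat hq h₁.2.1) h₁.2.2
  obtain ⟨P₂, hRP₂, hAP₂⟩ := Cfsg.Agent.S0025.result A O hAO hcop (Or.inl hAs) q R₂ hR₂O
    (isPGroup_of_isPiNat hq h₂.2.1) h₂.2.2
  obtain ⟨c, hcA, hc⟩ := Cfsg.Agent.S0024.result A O hAO hcop (Or.inl hAs) q P₁ P₂ hAP₁ hAP₂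
  have hmem : ∀ P : Sylow q ↥O, A ≤ Subgroup.normalizer (((P : Subgroup ↥O).map O.subtype : Subgroup G) : Set G) →
      (P : Subgroup ↥O).map O.subtype ∈ Cfsg.invSubgroups ⊤ A {q} := by
    intro P hP
    rw [mem_invSubgroups_top]
    exact ⟨isPiNat_of_isPGroup (P.isPGroup'.map _), hP⟩
  refine ⟨_, _, hmem P₁ hAP₁, hmem P₂ hAP₂, hRP₁, hRP₂, (c : G), ?_, ?_⟩
  · apply le_KK hG hA (Y := O ⊓ Subgroup.centralizer (A : Set G)) inf_le_right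
    · exact (isPiNat_piCoreOf π' X).of_dvd (Subgroup.card_dvd_of_le inf_le_left)
    · exact ⟨c.2, hcA⟩
  · rw [← hc, ← Sylow.smul_def, Cfsg.Agent.H1.sylow_smul_map_subtype]

/-- two maximal `A`-invariant `q`-subgroups with nontrivial intersection are conjugate under `K` -/
theorem kconj_of_inf_ne_bot (hG : Cfsg.IsMinSimpleOddOrder G) {A : Subgroup G}
    (hA : Cfsg.TransitivityHypothesis A) {q : ℕ} [hqf : Fact q.Prime] (hqA : ¬ q ∣ Nat.card A)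
    {Q₁ Q₂ : Subgroup G} (h₁ : Q₁ ∈ Cfsg.maxInvSubgroups ⊤ A {q})
    (h₂ : Q₂ ∈ Cfsg.maxInvSubgroups ⊤ A {q}) (hne : Q₁ ⊓ Q₂ ≠ ⊥) : KConj (KK A) Q₁ Q₂ := by
  haveI : IsSimpleGroup G := hG.2.1
  have hq : q.Prime := hqf.out
  by_contra hcon
  let ι := {pr : Subgroup G × Subgroup G // pr.1 ∈ Cfsg.maxInvSubgroups ⊤ A {q} ∧
    pr.2 ∈ Cfsg.maxInvSubgroups ⊤ A {q} ∧ pr.1 ⊓ pr.2 ≠ ⊥ ∧ ¬ KConj (KK A) pr.1 pr.2}
  haveI : Nonempty ι := ⟨⟨(Q₁, Q₂), h₁, h₂, hne, hcon⟩⟩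
  obtain ⟨⟨⟨P₁, P₂⟩, hP₁, hP₂, hPne, hPcon⟩, hmax⟩ :=
    Finite.exists_max (fun pr : ι => Nat.card ↥((pr.1.1 : Subgroup G) ⊓ (pr.1.2 : Subgroup G)))
  have hP₁' : P₁ ∈ Cfsg.maxInvSubgroups ⊤ A {q} := hP₁
  have hP₂' : P₂ ∈ Cfsg.maxInvSubgroups ⊤ A {q} := hP₂
  have hPne' : P₁ ⊓ P₂ ≠ ⊥ := hPne
  have hPcon' : ¬ KConj (KK A) P₁ P₂ := hPcon
  set D : Subgroup G := P₁ ⊓ P₂ with hD
  -- pairs with larger intersection are conjugate
  have hbig : ∀ Q Q' : Subgroup G, Q ∈ Cfsg.maxInvSubgroups ⊤ A {q} →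
      Q' ∈ Cfsg.maxInvSubgroups ⊤ A {q} → Nat.card ↥D < Nat.card ↥(Q ⊓ Q') → KConj (KK A) Q Q' := by
    intro Q Q' hQ hQ' hlt
    by_contra hc
    have hne' : Q ⊓ Q' ≠ ⊥ := by
      intro h
      rw [h, Subgroup.card_bot] at hlt
      have : 0 < Nat.card ↥D := Nat.card_pos
      omega
    have := hmax ⟨(Q, Q'), hQ, hQ', hne', hc⟩
    exact absurd this (not_le.mpr hlt)
  have hA₁ := (mem_invSubgroups_top.mp hP₁'.1)
  have hA₂ := (mem_invSubgroups_top.mp hP₂'.1)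
  have hDq : IsPGroup q ↥D := (isPGroup_of_isPiNat hq hA₁.1).to_le inf_le_left
  haveI hDnil : Group.IsNilpotent ↥D := hDq.isNilpotent
  have hDs : Group.IsSolvable ↥D := inferInstance
  have hNtop := normalizer_ne_top hG.2 D hPne' hDs
  set N : Subgroup G := Subgroup.normalizer (D : Set G) with hN
  have hAN : A ≤ N := le_normalizer_inf hA₁.2 hA₂.2
  have hne1 : D ≠ P₁ := by
    intro h
    apply hPcon'
    have h1 : P₁ ≤ P₂ := h ▸ (inf_le_right : D ≤ P₂)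
    have h2 := hP₁'.2 P₂ hP₂'.1 h1
    rw [h2]
    exact KConj.refl _ _
  have hne2 : D ≠ P₂ := by
    intro h
    apply hPcon'
    have h1 : P₂ ≤ P₁ := h ▸ (inf_le_left : D ≤ P₁)
    have h2 := hP₂'.2 P₁ hP₁'.1 h1
    rw [h2]
    exact KConj.refl _ _
  have hP₁nil : Group.IsNilpotent ↥P₁ := (isPGroup_of_isPiNat hq hA₁.1).isNilpotent
  have hP₂nil : Group.IsNilpotent ↥P₂ := (isPGroup_of_isPiNat hq hA₂.1).isNilpotent
  obtain ⟨t₁, ht₁P, ht₁N, ht₁D⟩ := exists_mem_normalizer_not_mem D P₁ hP₁nil inf_le_left hne1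
  obtain ⟨t₂, ht₂P, ht₂N, ht₂D⟩ := exists_mem_normalizer_not_mem D P₂ hP₂nil inf_le_right hne2
  have hinv : ∀ P : Subgroup G, P ∈ Cfsg.invSubgroups ⊤ A {q} → P ⊓ N ∈ Cfsg.invSubgroups N A {q} := by
    intro P hP
    have hP' := mem_invSubgroups_top.mp hP
    refine ⟨inf_le_right, fun p hp hpd => hP'.1 p hp (hpd.trans (Subgroup.card_dvd_of_le inf_le_left)),
      le_normalizer_inf hP'.2 (hAN.trans Subgroup.le_normalizer)⟩
  obtain ⟨S₁, S₂, hS₁, hS₂, hRS₁, hRS₂, c, hc, hcS⟩ :=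
    local_conj hG hA hqA hNtop hAN (hinv P₁ hP₁'.1) (hinv P₂ hP₂'.1)
  obtain ⟨Q₁', hQ₁', hSQ₁⟩ := exists_maxInv_ge hS₁
  obtain ⟨Q₂', hQ₂', hSQ₂⟩ := exists_maxInv_ge hS₂
  have hDN : D ≤ N := Subgroup.le_normalizer
  -- `P₁ ~ Q₁'`
  have e1 : KConj (KK A) P₁ Q₁' := by
    apply hbig P₁ Q₁' hP₁' hQ₁'
    apply card_lt_of_le_of_mem (t := t₁) (le_inf inf_le_left ?_) ⟨ht₁P, hSQ₁ (hRS₁ ⟨ht₁P, ht₁N⟩)⟩ ht₁D
    exact fun d hd => hSQ₁ (hRS₁ ⟨hd.1, hDN hd⟩)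
  -- `P₂ ~ Q₂'`
  have e2 : KConj (KK A) P₂ Q₂' := by
    apply hbig P₂ Q₂' hP₂' hQ₂'
    apply card_lt_of_le_of_mem (t := t₂) (le_inf inf_le_right ?_) ⟨ht₂P, hSQ₂ (hRS₂ ⟨ht₂P, ht₂N⟩)⟩ ht₂D
    exact fun d hd => hSQ₂ (hRS₂ ⟨hd.2, hDN hd⟩)
  -- `Q₁'^c ~ Q₂'`
  have hcC : c ∈ Subgroup.centralizer (A : Set G) := KK_le_centralizer A hc
  have e3 : KConj (KK A) (Q₁'.map (MulAut.conj c).toMonoidHom) Q₂' := by
    apply hbig _ Q₂' (conj_mem_maxInvSubgroups hQ₁' hcC) hQ₂'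
    have hS₂le : S₂ ≤ Q₁'.map (MulAut.conj c).toMonoidHom ⊓ Q₂' := by
      refine le_inf ?_ hSQ₂
      rw [hcS]
      exact Subgroup.map_mono hSQ₁
    apply card_lt_of_le_of_mem (t := t₂) ?_ (hS₂le (hRS₂ ⟨ht₂P, ht₂N⟩)) ht₂D
    exact fun d hd => hS₂le (hRS₂ ⟨hd.2, hDN hd⟩)
  have e4 : KConj (KK A) Q₁' (Q₁'.map (MulAut.conj c).toMonoidHom) := ⟨c, hc, rfl⟩
  exact hPcon' (((e1.trans e4).trans e3).trans e2.symm)

end Cfsg.Agent.Lib.Helper4.BGTrans
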