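import Mathlib
import Cfsg.Agent.Lib.Helper4.BGTransB
import Cfsg.Agent.S0058
import Cfsg.Agent.S1324

/-!
# The Transitivity Theorem of Bender–Glauberman, III: the rank conditions

* `transitivity_rank_three` (BG 7.3), `transitivity_rank_two` (BG 7.4).
-/

set_option autoImplicit false
set_option linter.style.haveILetI false
set_option linter.unusedVariables false
set_option linter.unusedSectionVars false

open scoped commutatorElement Pointwise

namespace Cfsg.Agent.Lib.Helper4.BGTrans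

open Cfsg Cfsg.Agent.Lib.Helper4.ThreeStep Cfsg.Agent.Lib.Lead.Conj Cfsg.Agent.Lib.Lead.PiCore
  Cfsg.Agent.Lib.Helper4.CNMax

universe u

variable {G : Type u} [Group G] [Finite G]

/-- chain of conjugations through a proper subgroup `X ≥ A` -/
theorem kconj_of_local (hG : Cfsg.IsMinSimpleOddOrder G) {A : Subgroup G}
    (hA : Cfsg.TransitivityHypothesis A) {q : ℕ} [hqf : Fact q.Prime] (hqA : ¬ q ∣ Nat.card A)
    {X : Subgroup G} (hX : X ≠ ⊤) (hAX : A ≤ X) {Q₁ Q₂ R₁ R₂ : Subgroup G}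
    (h₁ : Q₁ ∈ Cfsg.maxInvSubgroups ⊤ A {q}) (h₂ : Q₂ ∈ Cfsg.maxInvSubgroups ⊤ A {q})
    (hR₁ : R₁ ∈ Cfsg.invSubgroups X A {q}) (hR₂ : R₂ ∈ Cfsg.invSubgroups X A {q})
    (hRQ₁ : R₁ ≤ Q₁) (hRQ₂ : R₂ ≤ Q₂) (hR₁ne : R₁ ≠ ⊥) (hR₂ne : R₂ ≠ ⊥) :
    KConj (KK A) Q₁ Q₂ := by
  obtain ⟨S₁, S₂, hS₁, hS₂, hRS₁, hRS₂, c, hc, hcS⟩ := local_conj hG hA hqA hX hAX hR₁ hR₂
  obtain ⟨Q₁', hQ₁', hSQ₁⟩ := exists_maxInv_ge hS₁
  obtain ⟨Q₂', hQ₂', hSQ₂⟩ := exists_maxInv_ge hS₂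
  have hcC : c ∈ Subgroup.centralizer (A : Set G) := KK_le_centralizer A hc
  have ne_of_le : ∀ {R T : Subgroup G}, R ≠ ⊥ → R ≤ T → T ≠ ⊥ := by
    intro R T hR hRT hT
    apply hR
    rw [eq_bot_iff, ← hT]
    exact hRT
  have e1 : KConj (KK A) Q₁ Q₁' :=
    kconj_of_inf_ne_bot hG hA hqA h₁ hQ₁' (ne_of_le hR₁ne (le_inf hRQ₁ (hRS₁.trans hSQ₁)))
  have e2 : KConj (KK A) Q₂ Q₂' :=
    kconj_of_inf_ne_bot hG hA hqA h₂ hQ₂' (ne_of_le hR₂ne (le_inf hRQ₂ (hRS₂.trans hSQ₂)))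
  have e3 : KConj (KK A) (Q₁'.map (MulAut.conj c).toMonoidHom) Q₂' := by
    apply kconj_of_inf_ne_bot hG hA hqA (conj_mem_maxInvSubgroups hQ₁' hcC) hQ₂'
    apply ne_of_le hR₂ne (hRS₂.trans (le_inf ?_ hSQ₂))
    rw [hcS]
    exact Subgroup.map_mono hSQ₁
  have e4 : KConj (KK A) Q₁' (Q₁'.map (MulAut.conj c).toMonoidHom) := ⟨c, hc, rfl⟩
  exact ((e1.trans e4).trans e3).trans e2.symm

theorem centralizer_singleton_ne_top (hms : Cfsg.IsMinimalSimple G) {b : G} (hb : b ≠ 1) :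
    Subgroup.centralizer ({b} : Set G) ≠ ⊤ := by
  intro h
  haveI : IsSimpleGroup G := hms.1
  have hbc : b ∈ Subgroup.center G := by
    rw [Subgroup.mem_center_iff]
    intro g
    have : g ∈ Subgroup.centralizer ({b} : Set G) := by rw [h]; trivial
    exact (Subgroup.mem_centralizer_singleton_iff.mp this)
  rcases (inferInstance : (Subgroup.center G).Normal).eq_bot_or_eq_top with h1 | h1
  · rw [h1, Subgroup.mem_bot] at hbc
    exact hb hbc
  · apply hms.2.1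
    refine ⟨⟨fun x y => ?_⟩⟩
    have : x ∈ Subgroup.center G := by rw [h1]; trivial
    exact (Subgroup.mem_center_iff.mp this y).symm

/-- the elementary abelian subgroup of `Z(A)` given by a rank hypothesis -/
theorem exists_elementary_of_not_rankLE {A : Subgroup G} {k : ℕ}
    (hZ : ¬ Cfsg.RankLE k ↥(A ⊓ Subgroup.centralizer (A : Set G))) :
    ∃ (p : ℕ) (_ : p.Prime) (E : Subgroup G), E ≤ A ∧ E ≤ Subgroup.centralizer (A : Set G) ∧
      Cfsg.IsElementaryAbelian p E ∧ p ^ (k + 1) ≤ Nat.card ↥E := by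
  unfold Cfsg.RankLE Cfsg.PRankLE at hZ
  push Not at hZ
  obtain ⟨p, hp, E₀, hE₀c, hE₀e, hE₀card⟩ := hZ
  haveI : Fact p.Prime := ⟨hp⟩
  refine ⟨p, hp, E₀.map (Subgroup.subtype _), ?_, ?_, ⟨?_, ?_⟩, ?_⟩
  · rintro _ ⟨x, -, rfl⟩
    exact x.2.1
  · rintro _ ⟨x, -, rfl⟩
    exact x.2.2
  · haveI := hE₀c
    exact Subgroup.map_isMulCommutative E₀ (Subgroup.subtype _)
  · rintro _ ⟨x, hx, rfl⟩
    have := hE₀e x hx
    have h2 := congrArg Subtype.val this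
    simpa using h2
  · rw [Nat.card_congr (E₀.equivMapOfInjective _ (Subgroup.subtype_injective _)).symm.toEquiv]
    have hE₀p : IsPGroup p ↥E₀ := by
      intro x
      refine ⟨1, ?_⟩
      rw [pow_one]
      have := hE₀e x x.2
      apply Subtype.ext
      simpa using this
    obtain ⟨m, hm⟩ := hE₀p.exists_card_eq
    rw [hm] at hE₀card ⊢
    have : k < m := by
      by_contra hle
      push Not at hle
      exact absurd (Nat.pow_le_pow_right hp.pos hle) (not_le.mpr hE₀card)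
    exact Nat.pow_le_pow_right hp.pos this

theorem not_isCyclic_of_elementary {p : ℕ} [hp : Fact p.Prime] {B : Subgroup G}
    (hB : Cfsg.IsElementaryAbelian p B) (hcard : p ^ 2 ≤ Nat.card ↥B) : ¬ IsCyclic ↥B := by
  intro hcyc
  obtain ⟨g, hg⟩ := hcyc.exists_generator
  have h1 : Nat.card ↥B = orderOf g := (orderOf_eq_card_of_forall_mem_zpowers hg).symm
  have h2 : g ^ p = 1 := by
    have := hB.2 g g.2
    exact Subtype.ext (by simpa using this)
  have h3 : orderOf g ≤ p := Nat.le_of_dvd hp.out.pos (orderOf_dvd_of_pow_eq_one h2)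
  have h4 : p < p ^ 2 := by
    have := hp.out.one_lt
    nlinarith
  omega

theorem isPGroup_of_elementary {p : ℕ} {B : Subgroup G} (hB : Cfsg.IsElementaryAbelian p B) :
    IsPGroup p ↥B := by
  intro x
  refine ⟨1, ?_⟩
  rw [pow_one]
  have := hB.2 x x.2
  exact Subtype.ext (by simpa using this)

/-- a noncyclic elementary abelian `p`-group acting on a nontrivial `p'`-group fixes some nonidentity element -/
theorem exists_fixed_of_rank_two {p : ℕ} [hp : Fact p.Prime] {E Q : Subgroup G}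
    (hE : Cfsg.IsElementaryAbelian p E) (hcard : p ^ 2 ≤ Nat.card ↥E)
    (hEQ : E ≤ Subgroup.normalizer (Q : Set G)) (hpQ : ¬ p ∣ Nat.card ↥Q) (hQ : Q ≠ ⊥) :
    ∃ e ∈ E, e ≠ 1 ∧ Q ⊓ Subgroup.centralizer ({e} : Set G) ≠ ⊥ := by
  haveI := hE.1
  have hcop : (Nat.card ↥E).Coprime (Nat.card ↥Q) := by
    obtain ⟨m, hm⟩ := (isPGroup_of_elementary hE).exists_card_eq
    rw [hm]
    exact Nat.Coprime.pow_left m ((Nat.Prime.coprime_iff_not_dvd hp.out).mpr hpQ)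
  have h := Cfsg.Agent.S0058.result E Q (not_isCyclic_of_elementary hE hcard) hEQ hcop
  by_contra hcon
  push Not at hcon
  apply hQ
  rw [← h, eq_bot_iff]
  apply iSup₂_le
  intro a ha
  rw [hcon a ha.1 ha.2]

/-- rank three: a common nonidentity element with fixed points on both groups -/
theorem exists_fixed_of_rank_three {p : ℕ} [hp : Fact p.Prime] {E Q₁ Q₂ : Subgroup G}
    (hE : Cfsg.IsElementaryAbelian p E) (hcard : p ^ 3 ≤ Nat.card ↥E)
    (hEQ₁ : E ≤ Subgroup.normalizer (Q₁ : Set G)) (hEQ₂ : E ≤ Subgroup.normalizer (Q₂ : Set G))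
    (hpQ₁ : ¬ p ∣ Nat.card ↥Q₁) (hpQ₂ : ¬ p ∣ Nat.card ↥Q₂) (hQ₁ : Q₁ ≠ ⊥) (hQ₂ : Q₂ ≠ ⊥) :
    ∃ b ∈ E, b ≠ 1 ∧ Q₁ ⊓ Subgroup.centralizer ({b} : Set G) ≠ ⊥ ∧
      Q₂ ⊓ Subgroup.centralizer ({b} : Set G) ≠ ⊥ := by
  have hp1 := hp.out.one_lt
  have hcard2 : p ^ 2 ≤ Nat.card ↥E := by
    refine le_trans ?_ hcard
    exact Nat.pow_le_pow_right hp.out.pos (by norm_num)
  have h := Cfsg.Agent.S1324.result p E Q₁ hE hcard2 hpQ₁ hEQ₁
  obtain ⟨⟨B, hBE, hBidx⟩, hB⟩ : ∃ B : {B : Subgroup G // B ≤ E ∧ B.relIndex E ≤ p},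
      Q₁ ⊓ Subgroup.centralizer ((B : Subgroup G) : Set G) ≠ ⊥ := by
    by_contra hcon
    push Not at hcon
    apply hQ₁
    rw [h, eq_bot_iff]
    apply iSup_le
    intro B
    rw [hcon B]
  have hBel : Cfsg.IsElementaryAbelian p B := by
    haveI := hE.1
    refine ⟨⟨⟨fun x y => ?_⟩⟩, fun b hb => hE.2 b (hBE hb)⟩
    have := hE.1.is_comm.comm ⟨x, hBE x.2⟩ ⟨y, hBE y.2⟩
    apply Subtype.ext
    have h2 := congrArg Subtype.val this
    simpa using h2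
  have hBcard : p ^ 2 ≤ Nat.card ↥B := by
    have h1 := Cfsg.Agent.Lib.Helper4.TypeP.card_mul_relIndex_of_le hBE
    have h2 : p ^ 3 ≤ Nat.card ↥B * p := by
      rw [← h1] at hcard
      exact hcard.trans (Nat.mul_le_mul_left _ hBidx)
    have h3 : p ^ 3 = p ^ 2 * p := by ring
    rw [h3] at h2
    exact Nat.le_of_mul_le_mul_right h2 hp.out.pos
  obtain ⟨b, hbB, hb1, hb⟩ := exists_fixed_of_rank_two hBel hBcard (hBE.trans hEQ₂) hpQ₂ hQ₂
  refine ⟨b, hBE hbB, hb1, ?_, hb⟩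
  intro h0
  apply hB
  rw [eq_bot_iff, ← h0]
  refine inf_le_inf_left _ ?_
  apply Subgroup.centralizer_le
  intro x hx
  rw [Set.mem_singleton_iff] at hx
  subst hx
  exact hbB

/-- the data common to both theorems: `X = C_G(b)` for `b ∈ Z(A)` -/
theorem inf_centralizer_mem_inv {A Q : Subgroup G} {q : ℕ} {b : G} (hbA : b ∈ A)
    (hbC : b ∈ Subgroup.centralizer (A : Set G)) (hQ : Q ∈ Cfsg.invSubgroups ⊤ A {q}) :
    A ≤ Subgroup.centralizer ({b} : Set G) ∧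
      Q ⊓ Subgroup.centralizer ({b} : Set G) ∈
        Cfsg.invSubgroups (Subgroup.centralizer ({b} : Set G)) A {q} := by
  have hAX : A ≤ Subgroup.centralizer ({b} : Set G) := by
    intro a ha
    rw [Subgroup.mem_centralizer_singleton_iff]
    exact Subgroup.mem_centralizer_iff.mp hbC a ha
  have hQ' := mem_invSubgroups_top.mp hQ
  exact ⟨hAX, inf_le_right,
    fun p hp hpd => hQ'.1 p hp (hpd.trans (Subgroup.card_dvd_of_le inf_le_left)),
    le_normalizer_inf hQ'.2 (hAX.trans Subgroup.le_normalizer)⟩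

theorem not_dvd_card_of_mem_inv {A Q : Subgroup G} {p q : ℕ} (hp : p.Prime) (hpA : p ∣ Nat.card A)
    (hqA : ¬ q ∣ Nat.card A) (hQ : Q ∈ Cfsg.invSubgroups ⊤ A {q}) : ¬ p ∣ Nat.card ↥Q := by
  intro h
  have := (mem_invSubgroups_top.mp hQ).1 p hp h
  rw [Set.mem_singleton_iff] at this
  subst this
  exact hqA hpA

theorem dvd_card_of_elementary {p : ℕ} (hp : p.Prime) {k : ℕ} {E A : Subgroup G} (hEA : E ≤ A)
    (hcard : p ^ (k + 1) ≤ Nat.card ↥E) (hE : Cfsg.IsElementaryAbelian p E) : p ∣ Nat.card A := by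
  haveI : Fact p.Prime := ⟨hp⟩
  obtain ⟨m, hm⟩ := (isPGroup_of_elementary hE).exists_card_eq
  have hm0 : m ≠ 0 := by
    rintro rfl
    rw [hm, pow_zero] at hcard
    have : 1 < p ^ (k + 1) := Nat.one_lt_pow (Nat.succ_ne_zero k) hp.one_lt
    omega
  exact (dvd_pow_self p hm0).trans (hm ▸ Subgroup.card_dvd_of_le hEA)

/-- **BG Theorem 7.3** -/
theorem transitivity_rank_three (hG : Cfsg.IsMinSimpleOddOrder G) {A : Subgroup G}
    (hA : Cfsg.TransitivityHypothesis A)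
    (hZ : ¬ Cfsg.RankLE 2 ↥(A ⊓ Subgroup.centralizer (A : Set G))) {q : ℕ} (hq : q.Prime)
    (hqA : ¬ q ∣ Nat.card A) {Q₁ Q₂ : Subgroup G} (h₁ : Q₁ ∈ Cfsg.maxInvSubgroups ⊤ A {q})
    (h₂ : Q₂ ∈ Cfsg.maxInvSubgroups ⊤ A {q}) : KConj (KK A) Q₁ Q₂ := by
  haveI : Fact q.Prime := ⟨hq⟩
  by_cases hQ₁ : Q₁ = ⊥
  · have := h₁.2 Q₂ h₂.1 (hQ₁ ▸ bot_le)
    rw [this]
    exact KConj.refl _ _
  by_cases hQ₂ : Q₂ = ⊥
  · have := h₂.2 Q₁ h₁.1 (hQ₂ ▸ bot_le)
    rw [this]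
    exact KConj.refl _ _
  obtain ⟨p, hp, E, hEA, hEC, hE, hEcard⟩ := exists_elementary_of_not_rankLE hZ
  haveI : Fact p.Prime := ⟨hp⟩
  have hpA := dvd_card_of_elementary hp hEA hEcard hE
  have hN₁ := (mem_invSubgroups_top.mp h₁.1).2
  have hN₂ := (mem_invSubgroups_top.mp h₂.1).2
  obtain ⟨b, hbE, hb1, hb₁, hb₂⟩ := exists_fixed_of_rank_three hE hEcard (hEA.trans hN₁)
    (hEA.trans hN₂) (not_dvd_card_of_mem_inv hp hpA hqA h₁.1)
    (not_dvd_card_of_mem_inv hp hpA hqA h₂.1) hQ₁ hQ₂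
  obtain ⟨hAX, hR₁⟩ := inf_centralizer_mem_inv (hEA hbE) (hEC hbE) h₁.1
  obtain ⟨-, hR₂⟩ := inf_centralizer_mem_inv (hEA hbE) (hEC hbE) h₂.1
  exact kconj_of_local hG hA hqA (centralizer_singleton_ne_top hG.2 hb1) hAX h₁ h₂ hR₁ hR₂
    inf_le_left inf_le_left hb₁ hb₂

/-- **BG Theorem 7.4** -/
theorem transitivity_rank_two (hG : Cfsg.IsMinSimpleOddOrder G) {A : Subgroup G}
    (hA : Cfsg.TransitivityHypothesis A)
    (hZ : ¬ Cfsg.RankLE 1 ↥(A ⊓ Subgroup.centralizer (A : Set G))) {q : ℕ} (hq : q.Prime)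
    (hqA : ¬ q ∣ Nat.card A) (hqC : q ∣ Nat.card (Subgroup.centralizer (A : Set G)))
    {Q₁ Q₂ : Subgroup G} (h₁ : Q₁ ∈ Cfsg.maxInvSubgroups ⊤ A {q})
    (h₂ : Q₂ ∈ Cfsg.maxInvSubgroups ⊤ A {q}) : KConj (KK A) Q₁ Q₂ := by
  haveI : Fact q.Prime := ⟨hq⟩
  obtain ⟨p, hp, E, hEA, hEC, hE, hEcard⟩ := exists_elementary_of_not_rankLE hZ
  haveI : Fact p.Prime := ⟨hp⟩
  have hpA := dvd_card_of_elementary hp hEA hEcard hE
  -- a Sylow `q`-subgroup of `C_G(A)`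
  obtain ⟨T₀⟩ : Nonempty (Sylow q ↥(Subgroup.centralizer (A : Set G))) := inferInstance
  set T : Subgroup G := (T₀ : Subgroup _).map (Subgroup.centralizer (A : Set G)).subtype with hT
  have hTC : T ≤ Subgroup.centralizer (A : Set G) := Subgroup.map_subtype_le _
  have hTq : IsPGroup q ↥T := T₀.isPGroup'.map _
  have hTne : T ≠ ⊥ := by
    intro h
    rw [hT] at h
    have h1 : (T₀ : Subgroup ↥(Subgroup.centralizer (A : Set G))) = ⊥ :=
      (Subgroup.map_eq_bot_iff_of_injective (T₀ : Subgroup ↥(Subgroup.centralizer (A : Set G)))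
        (Subgroup.subtype_injective (Subgroup.centralizer (A : Set G)))).mp h
    exact T₀.ne_bot_of_dvd_card hqC h1
  have hAT : A ≤ Subgroup.normalizer (T : Set G) := by
    intro a ha
    apply mem_normalizer_of_conj_mem
    intro y hy
    have := Subgroup.mem_centralizer_iff.mp (hTC hy) a ha
    have e : a * y * a⁻¹ = y := by rw [this]; group
    rw [e]; exact hy
  have hTinv : T ∈ Cfsg.invSubgroups ⊤ A {q} :=
    mem_invSubgroups_top.mpr ⟨isPiNat_of_isPGroup hTq, hAT⟩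
  obtain ⟨Q₀, hQ₀, hTQ₀⟩ := exists_maxInv_ge hTinv
  have key : ∀ Q : Subgroup G, Q ∈ Cfsg.maxInvSubgroups ⊤ A {q} → KConj (KK A) Q Q₀ := by
    intro Q hQ
    have hQne : Q ≠ ⊥ := by
      intro h
      apply hTne
      have := hQ.2 T hTinv (h ▸ bot_le)
      rw [this, h]
    have hN := (mem_invSubgroups_top.mp hQ.1).2
    obtain ⟨e, heE, he1, he⟩ := exists_fixed_of_rank_two hE hEcard (hEA.trans hN)
      (not_dvd_card_of_mem_inv hp hpA hqA hQ.1) hQne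
    obtain ⟨hAX, hR₁⟩ := inf_centralizer_mem_inv (hEA heE) (hEC heE) hQ.1
    have hTX : T ≤ Subgroup.centralizer ({e} : Set G) := by
      refine hTC.trans ?_
      apply Subgroup.centralizer_le
      intro x hx
      rw [Set.mem_singleton_iff] at hx
      subst hx
      exact hEA heE
    have hR₂ : T ∈ Cfsg.invSubgroups (Subgroup.centralizer ({e} : Set G)) A {q} :=
      ⟨hTX, isPiNat_of_isPGroup hTq, hAT⟩
    exact kconj_of_local hG hA hqA (centralizer_singleton_ne_top hG.2 he1) hAX hQ hQ₀ hR₁ hR₂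
      inf_le_left hTQ₀ he hTne
  exact (key Q₁ h₁).trans (key Q₂ h₂).symm

end Cfsg.Agent.Lib.Helper4.BGTrans
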