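import Mathlib
import Cfsg.Agent.Lib.Helper4.BGTransC
import Cfsg.Agent.H1.GlaubermanConj

/-!
# The Transitivity Theorem of Bender–Glauberman, IV: passing to subnormal overgroups (BG 7.5)
-/

set_option autoImplicit false
set_option linter.style.haveILetI false
set_option linter.unusedVariables false
set_option linter.unusedSectionVars false

open scoped commutatorElement Pointwise

namespace Cfsg.Agent.Lib.Helper4.BGTrans

open Cfsg Cfsg.Agent.Lib.Helper4.ThreeStep Cfsg.Agent.Lib.Lead.Conj Cfsg.Agent.Lib.Lead.PiCore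
  Cfsg.Agent.Lib.Helper4.CNMax

universe u

variable {G : Type u} [Group G] [Finite G]

/-! ### normalizers -/

theorem conj_inv_mem_of_mem_normalizer {X : Subgroup G} {g : G}
    (hg : g ∈ Subgroup.normalizer (X : Set G)) {x : G} (hx : x ∈ X) : g⁻¹ * x * g ∈ X := by
  have h := (Subgroup.mem_normalizer_iff.mp (Subgroup.inv_mem _ hg) x).mp hx
  rwa [inv_inv] at h

theorem conj_mem_of_mem_normalizer {X : Subgroup G} {g : G}
    (hg : g ∈ Subgroup.normalizer (X : Set G)) {x : G} (hx : x ∈ X) : g * x * g⁻¹ ∈ X :=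
  (Subgroup.mem_normalizer_iff.mp hg x).mp hx

/-- the normalizer of `X` normalizes `O_π(X)` -/
theorem normalizer_le_normalizer_piCoreOf (π : Set ℕ) (X : Subgroup G) :
    Subgroup.normalizer (X : Set G) ≤
      Subgroup.normalizer ((Cfsg.piCoreOf π X : Subgroup G) : Set G) := by
  intro g hg
  apply mem_normalizer_of_conj_mem
  intro r hr
  have hle : (Cfsg.piCoreOf π X).map (MulAut.conj g).toMonoidHom ≤ Cfsg.piCoreOf π X := by
    apply le_piCoreOf
    · rintro _ ⟨t, ht, rfl⟩
      exact conj_mem_of_mem_normalizer hg (piCoreOf_le π X ht)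
    · intro x hx
      apply mem_normalizer_of_conj_mem
      intro y hy
      rw [mem_map_conj] at hy ⊢
      have hx' : g⁻¹ * x * g ∈ X := conj_inv_mem_of_mem_normalizer hg hx
      have := conj_mem_of_mem_normalizer (le_normalizer_piCoreOf π X hx') hy
      have e : g⁻¹ * (x * y * x⁻¹) * g = g⁻¹ * x * g * (g⁻¹ * y * g) * (g⁻¹ * x * g)⁻¹ := by group
      rw [e]
      exact this
    · rw [card_map_conj']
      exact isPiNat_piCoreOf π X
  exact hle (conj_mem_map_conj _ g hr)

/-- the normalizer of `B` normalizes `C_G(B)` -/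
theorem normalizer_le_normalizer_centralizer (B : Subgroup G) :
    Subgroup.normalizer (B : Set G) ≤
      Subgroup.normalizer ((Subgroup.centralizer (B : Set G) : Subgroup G) : Set G) := by
  intro g hg
  apply mem_normalizer_of_conj_mem
  intro c hc
  rw [Subgroup.mem_centralizer_iff] at hc ⊢
  intro b hb
  have hb' : g⁻¹ * b * g ∈ B := conj_inv_mem_of_mem_normalizer hg hb
  have h := hc _ hb'
  calc b * (g * c * g⁻¹) = g * (g⁻¹ * b * g * c) * g⁻¹ := by group
    _ = g * (c * (g⁻¹ * b * g)) * g⁻¹ := by rw [h]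
    _ = g * c * g⁻¹ * b := by group

theorem le_normalizer_map_conj_of_normalizer {A Q : Subgroup G}
    (h : A ≤ Subgroup.normalizer (Q : Set G)) {g : G}
    (hg : g ∈ Subgroup.normalizer (A : Set G)) :
    A ≤ Subgroup.normalizer ((Q.map (MulAut.conj g).toMonoidHom : Subgroup G) : Set G) := by
  intro a ha
  apply mem_normalizer_of_conj_mem
  intro x hx
  rw [mem_map_conj] at hx ⊢
  have ha' : g⁻¹ * a * g ∈ A := conj_inv_mem_of_mem_normalizer hg ha
  have h1 := conj_mem_of_mem_normalizer (h ha') hx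
  have e : g⁻¹ * (a * x * a⁻¹) * g = g⁻¹ * a * g * (g⁻¹ * x * g) * (g⁻¹ * a * g)⁻¹ := by group
  rw [e]
  exact h1

theorem conj_mem_invSubgroups_of_normalizer {A Q : Subgroup G} {π : Set ℕ}
    (hQ : Q ∈ Cfsg.invSubgroups ⊤ A π) {g : G} (hg : g ∈ Subgroup.normalizer (A : Set G)) :
    Q.map (MulAut.conj g).toMonoidHom ∈ Cfsg.invSubgroups ⊤ A π := by
  rw [mem_invSubgroups_top] at hQ ⊢
  refine ⟨?_, le_normalizer_map_conj_of_normalizer hQ.2 hg⟩
  rw [card_map_conj']
  exact hQ.1

theorem conj_mem_maxInvSubgroups_of_normalizer {A Q : Subgroup G} {π : Set ℕ}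
    (hQ : Q ∈ Cfsg.maxInvSubgroups ⊤ A π) {g : G} (hg : g ∈ Subgroup.normalizer (A : Set G)) :
    Q.map (MulAut.conj g).toMonoidHom ∈ Cfsg.maxInvSubgroups ⊤ A π := by
  refine ⟨conj_mem_invSubgroups_of_normalizer hQ.1 hg, fun R hR hle => ?_⟩
  have hg' : g⁻¹ ∈ Subgroup.normalizer (A : Set G) := Subgroup.inv_mem _ hg
  have h1 := hQ.2 _ (conj_mem_invSubgroups_of_normalizer hR hg') (by
    intro x hx
    rw [mem_map_conj, inv_inv]
    exact hle (conj_mem_map_conj Q g hx))
  rw [← h1, map_conj_mul, mul_inv_cancel, map_conj_one]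

theorem mem_normalizer_of_map_conj_eq {Q : Subgroup G} {g : G}
    (h : Q.map (MulAut.conj g).toMonoidHom = Q) : g ∈ Subgroup.normalizer (Q : Set G) := by
  apply mem_normalizer_of_conj_mem
  intro r hr
  have := conj_mem_map_conj Q g hr
  rwa [h] at this

/-! ### `O_{π(A)'}(C_G(B))` for `B ≥ A` -/

/-- `O_{π(A)'}(C_G(B))` -/
def KKp (A B : Subgroup G) : Subgroup G :=
  Cfsg.piCoreOf (Cfsg.primesNotDvd (Nat.card A)) (Subgroup.centralizer (B : Set G))

theorem KKp_self (A : Subgroup G) : KKp A A = KK A := rfl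

theorem KKp_le_centralizer (A B : Subgroup G) : KKp A B ≤ Subgroup.centralizer (B : Set G) :=
  piCoreOf_le _ _

/-- **BG 7.5(a)** -/
theorem KK_inf_centralizer (hG : Cfsg.IsMinSimpleOddOrder G) {A : Subgroup G}
    (hA : Cfsg.TransitivityHypothesis A) {B : Subgroup G} (hAB : A ≤ B) :
    KK A ⊓ Subgroup.centralizer (B : Set G) = KKp A B := by
  have hCC : Subgroup.centralizer (B : Set G) ≤ Subgroup.centralizer (A : Set G) :=
    Subgroup.centralizer_le hAB
  apply le_antisymm
  · apply le_piCoreOf inf_le_right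
    · intro c hc
      apply mem_normalizer_of_conj_mem
      intro x hx
      refine ⟨conj_mem_of_mem_normalizer
        (le_normalizer_piCoreOf _ (Subgroup.centralizer (A : Set G)) (hCC hc)) hx.1, ?_⟩
      exact Subgroup.mul_mem _ (Subgroup.mul_mem _ hc hx.2) (Subgroup.inv_mem _ hc)
    · exact (isPiNat_piCoreOf _ _).of_dvd (Subgroup.card_dvd_of_le inf_le_left)
  · apply le_inf _ (KKp_le_centralizer A B)
    exact le_KK hG hA ((KKp_le_centralizer A B).trans hCC) (isPiNat_piCoreOf _ _)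

theorem KKp_inf_centralizer_le (hG : Cfsg.IsMinSimpleOddOrder G) {A : Subgroup G}
    (hA : Cfsg.TransitivityHypothesis A) {B B' : Subgroup G} (hAB : A ≤ B) (hBB' : B ≤ B') :
    KKp A B ⊓ Subgroup.centralizer (B' : Set G) ≤ KKp A B' := by
  rw [← KK_inf_centralizer hG hA hAB, ← KK_inf_centralizer hG hA (hAB.trans hBB')]
  exact le_inf (inf_le_left.trans inf_le_left) inf_le_right

end Cfsg.Agent.Lib.Helper4.BGTrans
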