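import Mathlib
import Cfsg.Agent.H1.BaerTrick
import Cfsg.Agent.S0630
import Cfsg.Agent.S3800

/-!
# Thompson's `P × Q` lemma with `Ω₁`, and invariant `p'`-subgroups of `p`-constrained groups
-/

set_option autoImplicit false
set_option linter.style.haveILetI false
set_option linter.unusedVariables false
set_option linter.unusedSectionVars false

open scoped commutatorElement Pointwise

namespace Cfsg.Agent.Lib.Helper4.PQOmega

open Cfsg

universe u

variable {X : Type u} [Group X] [Finite X] {p : ℕ} [hp : Fact p.Prime]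

/-- **Thompson's `P × Q` lemma, semidirect form with `Ω₁`**, `p` odd: if `Q` centralizes every element
of order `p` of `C_G(P)`, then `Q` centralizes `G`. -/
theorem thompson_pq_omega (hp2 : p ≠ 2) (P Q G : Subgroup X) (hP : IsPGroup p P)
    (hQ : (Nat.card Q).Coprime p) (hPQ : P ≤ Subgroup.normalizer (Q : Set X)) (hG : IsPGroup p G)
    (hPG : P ≤ Subgroup.normalizer (G : Set X)) (hQG : Q ≤ Subgroup.normalizer (G : Set X))
    (hC : ∀ x ∈ G, x ∈ Subgroup.centralizer (P : Set X) → orderOf x = p →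
      x ∈ Subgroup.centralizer (Q : Set X)) :
    Q ≤ Subgroup.centralizer (G : Set X) := by
  by_contra hcon
  have hne : ⁅G, Q⁆ ≠ ⊥ := by
    intro h
    apply hcon
    rw [Subgroup.le_centralizer_iff]
    exact Subgroup.commutator_eq_bot_iff_le_centralizer.1 h
  obtain ⟨B, hBdef⟩ : ∃ B : Subgroup X, B = P ⊔ Q := ⟨_, rfl⟩
  have hPB : P ≤ B := hBdef ▸ le_sup_left
  have hQB : Q ≤ B := hBdef ▸ le_sup_right
  have hBG : B ≤ Subgroup.normalizer (G : Set X) := hBdef ▸ sup_le hPG hQG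
  have hBQ : B ≤ Subgroup.normalizer (Q : Set X) := hBdef ▸ sup_le hPQ Subgroup.le_normalizer
  obtain ⟨G0, hG0le, hG0min⟩ := Finite.exists_le_minimal
    (p := fun U : Subgroup X => U ≤ G ∧ B ≤ Subgroup.normalizer (U : Set X) ∧ ⁅U, Q⁆ ≠ ⊥) (a := G)
    ⟨le_rfl, hBG, hne⟩
  obtain ⟨⟨hG0G, hBG0, hne0⟩, hmin0⟩ := hG0min
  have hG0p : IsPGroup p ↥G0 := hG.to_le hG0G
  have hmin : ∀ U : Subgroup X, U < G0 → B ≤ Subgroup.normalizer (U : Set X) → ⁅U, Q⁆ = ⊥ := by
    intro U hU hBU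
    by_contra h
    exact (not_le_of_gt hU) (hmin0 ⟨hU.le.trans hG0G, hBU, h⟩ hU.le)
  obtain ⟨-, -, -, hexp⟩ :=
    Cfsg.Agent.H1.minimal_action_structure B Q G0 hG0p hBG0 hQB hBQ hQ hne0 hmin
  have hcen : Q ≤ Subgroup.centralizer (G0 : Set X) := by
    apply Cfsg.Agent.H1.thompson_pq_semidirect hp2 P Q G0 hP hQ hPQ hG0p (hPB.trans hBG0)
      (hQB.trans hBG0)
    rintro x ⟨hx0, hxP⟩
    by_cases hx1 : x = 1
    · rw [hx1]; exact Subgroup.one_mem _
    · exact hC x (hG0G hx0) hxP (orderOf_eq_prime (hexp hp2 x hx0) hx1)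
  apply hne0
  rw [Subgroup.commutator_eq_bot_iff_le_centralizer]
  rw [Subgroup.le_centralizer_iff] at hcen
  exact hcen

/-- In a `p`-constrained group (`p` odd), if the `p`-subgroup `A` contains every element of order `p` of
`C_X(A)`, then every `A`-invariant `p'`-subgroup lies in `O_{p'}(X)`. -/
theorem le_pPrimeCore_of_invariant (hp2 : p ≠ 2) (hX : Cfsg.IsPConstrained p X) (A : Subgroup X)
    (hAp : IsPGroup p ↥A)
    (hΩ : ∀ x ∈ Subgroup.centralizer (A : Set X), orderOf x = p → x ∈ A) (Y : Subgroup X)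
    (hY : ¬ p ∣ Nat.card ↥Y) (hAY : A ≤ Subgroup.normalizer (Y : Set X)) :
    Y ≤ Cfsg.pPrimeCore p X := by
  have hpp : p.Prime := hp.out
  haveI hOn : (Cfsg.pPrimeCore p X).Normal := Cfsg.Agent.H1.pPrimeCore_normal p
  have hOc : (Nat.card ↥(Cfsg.pPrimeCore p X)).Coprime p := Cfsg.Agent.H1.pPrimeCore_coprime p
  set O := Cfsg.pPrimeCore p X with hO
  set π := QuotientGroup.mk' O with hπ
  set Q := Cfsg.pCore p (X ⧸ O) with hQ
  haveI hQn : Q.Normal := Cfsg.Agent.H1.pCore_normal p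
  have hQp : IsPGroup p ↥Q := Cfsg.Agent.H1.pCore_isPGroup p
  have hc : Subgroup.centralizer (Q : Set (X ⧸ O)) ≤ Q := Cfsg.Agent.S0630.isPConstrained_iff.mp hX
  have hA'p : IsPGroup p ↥(A.map π) := hAp.map π
  have hY'c : (Nat.card ↥(Y.map π)).Coprime p := by
    have h1 : (Nat.card ↥Y).Coprime p := ((Nat.Prime.coprime_iff_not_dvd hpp).mpr hY).symm
    exact Nat.Coprime.coprime_dvd_left (Subgroup.card_map_dvd Y π) h1
  have hA'Y' : A.map π ≤ Subgroup.normalizer ((Y.map π : Subgroup (X ⧸ O)) : Set (X ⧸ O)) :=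
    (Subgroup.map_mono hAY).trans (Subgroup.le_normalizer_map π)
  have htop : Subgroup.normalizer (Q : Set (X ⧸ O)) = ⊤ := Subgroup.normalizer_eq_top Q
  have hdisj : Y.map π ⊓ Q = ⊥ := by
    apply (Subgroup.disjoint_of_coprime_natCard ?_).eq_bot
    obtain ⟨n, hn⟩ := IsPGroup.iff_card.mp hQp
    rw [hn]
    exact hY'c.pow_right n
  have hcenA := (Cfsg.Agent.S3800.result O hOc A hAp).2
  have key : Y.map π ≤ Subgroup.centralizer (Q : Set (X ⧸ O)) := by
    apply thompson_pq_omega hp2 (A.map π) (Y.map π) Q hA'p hY'c hA'Y' hQp (htop ▸ le_top)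
      (htop ▸ le_top)
    intro xb hxQ hxA hxo
    -- lift `xb` to an element of order `p` of `C_X(A)`
    have hxA' : xb ∈ (Subgroup.centralizer (A : Set X)).map π := by
      rw [← hcenA]; exact hxA
    obtain ⟨x, hx, rfl⟩ := hxA'
    have hxp : x ^ p ∈ O := by
      rw [← QuotientGroup.eq_one_iff, QuotientGroup.mk_pow]
      have : (π x) ^ p = 1 := by rw [← hxo]; exact pow_orderOf_eq_one _
      exact this
    set m := Nat.card ↥O with hm
    have hxpm : (x ^ p) ^ m = 1 := by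
      have h1 : (⟨x ^ p, hxp⟩ : ↥O) ^ Nat.card ↥O = 1 := pow_card_eq_one'
      have h2 : (((⟨x ^ p, hxp⟩ : ↥O) ^ Nat.card ↥O : ↥O) : X) = ((1 : ↥O) : X) := by rw [h1]
      rw [Subgroup.coe_pow, Subgroup.coe_one] at h2
      exact h2
    obtain ⟨j, hj1, hj0⟩ := Nat.chineseRemainder (hOc.symm : p.Coprime m) 1 0
    obtain ⟨t, ht⟩ := (Nat.modEq_zero_iff_dvd).mp hj0
    have hx'p : (x ^ j) ^ p = 1 := by
      rw [ht, ← pow_mul, mul_comm m t, mul_assoc, mul_comm m p, mul_comm t, pow_mul, pow_mul, hxpm,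
        one_pow]
    have hπx' : π (x ^ j) = π x := by
      rw [map_pow]
      have : (π x) ^ j = (π x) ^ 1 := by
        rw [pow_eq_pow_iff_modEq, hxo]
        exact hj1
      rw [this, pow_one]
    have hx'1 : x ^ j ≠ 1 := by
      intro h
      have h1 : π x = 1 := by rw [← hπx', h, map_one]
      rw [h1, orderOf_one] at hxo
      exact hpp.one_lt.ne hxo
    have hx'A : x ^ j ∈ A :=
      hΩ _ (Subgroup.pow_mem _ hx j) (orderOf_eq_prime hx'p hx'1)
    have hxA'' : π x ∈ A.map π := by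
      rw [← hπx']; exact Subgroup.mem_map_of_mem π hx'A
    rw [Subgroup.mem_centralizer_iff]
    intro yb hyb
    have h1 : π x * yb * (π x)⁻¹ * yb⁻¹ ∈ Y.map π ⊓ Q := by
      refine ⟨?_, ?_⟩
      · exact Subgroup.mul_mem _
          ((Subgroup.mem_normalizer_iff.mp (hA'Y' hxA'') yb).mp hyb) (Subgroup.inv_mem _ hyb)
      · have : π x * yb * (π x)⁻¹ * yb⁻¹ = π x * (yb * (π x)⁻¹ * yb⁻¹) := by group
        rw [this]
        exact Subgroup.mul_mem _ hxQ (hQn.conj_mem _ (Subgroup.inv_mem _ hxQ) yb)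
    rw [hdisj, Subgroup.mem_bot] at h1
    have : π x * yb = yb * π x := by
      have h2 : π x * yb * (π x)⁻¹ * yb⁻¹ * (yb * π x) = yb * π x := by rw [h1, one_mul]
      rw [← h2]; group
    exact this.symm
  intro y hy
  have h1 : π y ∈ Y.map π ⊓ Q := ⟨Subgroup.mem_map_of_mem π hy, hc (key (Subgroup.mem_map_of_mem π hy))⟩
  rw [hdisj, Subgroup.mem_bot] at h1
  exact (QuotientGroup.eq_one_iff y).mp h1

end Cfsg.Agent.Lib.Helper4.PQOmega
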