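import Mathlib
import Cfsg.Agent.Lib.Helper4.BGTransD
import Cfsg.Agent.Lib.Helper4.PQOmega
import Cfsg.Agent.Lib.Helper4.SolvPSolv

/-!
# Criteria for the transitivity hypothesis (BG 7.6-type)
-/

set_option autoImplicit false
set_option linter.style.haveILetI false
set_option linter.unusedVariables false
set_option linter.unusedSectionVars false

open scoped commutatorElement Pointwise

namespace Cfsg.Agent.Lib.Helper4.BGTrans

open Cfsg Cfsg.Agent.Lib.Helper4.ThreeStep Cfsg.Agent.Lib.Lead.Conj Cfsg.Agent.Lib.Lead.PiCore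
  Cfsg.Agent.Lib.Helper4.CNMax

universe u

variable {G : Type u} [Group G] [Finite G]

/-- a `p`-subgroup of `N ≥ P` is conjugate into the Sylow subgroup `P` by an element of `N` -/
theorem exists_conj_le_sylow {p : ℕ} [Fact p.Prime] (P : Sylow p G) (N : Subgroup G)
    (hPN : (P : Subgroup G) ≤ N) (T : Subgroup G) (hT : IsPGroup p T) (hTN : T ≤ N) :
    ∃ n ∈ N, T.map (MulAut.conj n).toMonoidHom ≤ (P : Subgroup G) := by
  have hT' : IsPGroup p ↥(T.subgroupOf N) := hT.comap_subtype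
  obtain ⟨Q', hQ'⟩ := hT'.exists_le_sylow
  obtain ⟨g, hg⟩ := MulAction.exists_smul_eq ↥N Q' (P.subtype hPN)
  refine ⟨(g : G), g.2, ?_⟩
  rintro _ ⟨t, ht, rfl⟩
  have h1 : (⟨t, hTN ht⟩ : ↥N) ∈ (Q' : Subgroup ↥N) := hQ' (Subgroup.mem_subgroupOf.mpr ht)
  have h0 : ((g • Q' : Sylow p ↥N) : Subgroup ↥N) =
      (Q' : Subgroup ↥N).map (MulAut.conj g).toMonoidHom := by
    rw [Sylow.coe_subgroup_smul]
    rfl
  have h2 : g * ⟨t, hTN ht⟩ * g⁻¹ ∈ ((g • Q' : Sylow p ↥N) : Subgroup ↥N) := by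
    rw [h0]
    exact ⟨⟨t, hTN ht⟩, h1, rfl⟩
  rw [hg, Sylow.coe_subtype, Subgroup.mem_subgroupOf] at h2
  exact h2

/-- for `A ∈ SCN(P)`, `P` a Sylow `p`-subgroup, every `p`-element of `C_G(A)` lies in `A` -/
theorem mem_of_scn' {p : ℕ} [hp : Fact p.Prime] (P : Sylow p G) {A : Subgroup G}
    (hA : Cfsg.IsSCN (P : Subgroup G) A) (hAc : IsMulCommutative ↥A) {x : G}
    (hx : x ∈ Subgroup.centralizer (A : Set G)) (hZp : IsPGroup p ↥(Subgroup.zpowers x)) : x ∈ A := by
  obtain ⟨hAP, hPN, hPC⟩ := hA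
  have hAp : IsPGroup p ↥A := P.isPGroup'.to_le hAP
  have hAC : A ≤ Subgroup.centralizer (A : Set G) := by
    intro a ha
    rw [Subgroup.mem_centralizer_iff]
    intro b hb
    have := hAc.is_comm.comm (⟨b, hb⟩ : ↥A) ⟨a, ha⟩
    exact congrArg Subtype.val this
  have hCN : Subgroup.centralizer (A : Set G) ≤ Subgroup.normalizer (A : Set G) :=
    Subgroup.centralizer_le_normalizer _
  have hZN : Subgroup.zpowers x ≤ Subgroup.normalizer (A : Set G) := by
    rw [Subgroup.zpowers_le]; exact hCN hx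
  set T := Subgroup.zpowers x ⊔ A with hTdef
  have hTp : IsPGroup p ↥T := IsPGroup.to_sup_of_normal_right' hZp hAp hZN
  have hTC : T ≤ Subgroup.centralizer (A : Set G) :=
    sup_le (by rw [Subgroup.zpowers_le]; exact hx) hAC
  obtain ⟨n, hn, hnT⟩ := exists_conj_le_sylow P (Subgroup.normalizer (A : Set G)) hPN T hTp
    (hTC.trans hCN)
  have hnC : T.map (MulAut.conj n).toMonoidHom ≤ Subgroup.centralizer (A : Set G) := by
    rintro _ ⟨t, ht, rfl⟩
    exact conj_mem_of_mem_normalizer (normalizer_le_normalizer_centralizer A hn) (hTC ht)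
  have hle : T.map (MulAut.conj n).toMonoidHom ≤ A := by
    rw [← hPC]; exact le_inf hnT hnC
  have hcard : Nat.card ↥T ≤ Nat.card ↥A := by
    rw [← card_map_conj T n]
    exact Nat.le_of_dvd Nat.card_pos (Subgroup.card_dvd_of_le hle)
  have hTA : A = T := Subgroup.eq_of_le_of_card_ge le_sup_right hcard
  rw [hTA]
  exact Subgroup.mem_sup_left (Subgroup.mem_zpowers x)

/-- for `A ∈ SCN(P)`, `P` a Sylow `p`-subgroup, every element of order `p` of `C_G(A)` lies in `A` -/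
theorem mem_of_scn {p : ℕ} [hp : Fact p.Prime] (P : Sylow p G) {A : Subgroup G}
    (hA : Cfsg.IsSCN (P : Subgroup G) A) (hAc : IsMulCommutative ↥A) {x : G}
    (hx : x ∈ Subgroup.centralizer (A : Set G)) (hxo : orderOf x = p) : x ∈ A := by
  apply mem_of_scn' P hA hAc hx
  apply IsPGroup.of_card (n := 1)
  rw [Nat.card_zpowers, hxo, pow_one]

theorem piCore_congr {π₁ π₂ : Set ℕ} (h : ∀ r : ℕ, r.Prime → (r ∈ π₁ ↔ r ∈ π₂))
    (H : Type*) [Group H] : Cfsg.piCore π₁ H = Cfsg.piCore π₂ H := by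
  unfold Cfsg.piCore
  congr 1
  ext N
  simp only [Set.mem_setOf_eq]
  constructor
  · rintro ⟨hn, hπ⟩
    exact ⟨hn, fun q hq hd => (h q hq).mp (hπ q hq hd)⟩
  · rintro ⟨hn, hπ⟩
    exact ⟨hn, fun q hq hd => (h q hq).mpr (hπ q hq hd)⟩

/-- a nontrivial `p`-subgroup `A` of a minimal simple group of odd order that contains every element of
order `p` of `C_G(A)` satisfies the transitivity hypothesis -/
theorem transitivityHypothesis_of_omega (hG : Cfsg.IsMinSimpleOddOrder G) {p : ℕ}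
    [hp : Fact p.Prime] {A : Subgroup G} (hAp : IsPGroup p ↥A) (hAne : A ≠ ⊥)
    (hΩ : ∀ x ∈ Subgroup.centralizer (A : Set G), orderOf x = p → x ∈ A) :
    Cfsg.TransitivityHypothesis A := by
  have hpp : p.Prime := hp.out
  obtain ⟨k, hk⟩ := IsPGroup.iff_card.mp hAp
  have hk0 : k ≠ 0 := by
    rintro rfl
    rw [pow_zero] at hk
    exact hAne ((Subgroup.card_eq_one).mp hk)
  have hpA : p ∣ Nat.card ↥A := hk ▸ dvd_pow_self p hk0
  have hp2 : p ≠ 2 := by
    rintro rfl
    have h2 : 2 ∣ Nat.card G := hpA.trans (Subgroup.card_subgroup_dvd_card A)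
    exact (Nat.not_even_iff_odd.mpr hG.1) (even_iff_two_dvd.mpr h2)
  have hAtop : A ≠ ⊤ := by
    intro h
    apply not_isSolvable hG.2
    have hGp : IsPGroup p G := by
      intro g
      obtain ⟨n, hn⟩ := hAp ⟨g, h ▸ Subgroup.mem_top g⟩
      exact ⟨n, by simpa using congrArg Subtype.val hn⟩
    haveI := hGp.isNilpotent
    infer_instance
  refine ⟨hAne, hAtop, fun X hX hAX => ?_⟩
  set π' := Cfsg.primesNotDvd (Nat.card ↥A) with hπ'
  have hπ : ∀ r : ℕ, r.Prime → (r ∈ π' ↔ r ∈ {q : ℕ | q ≠ p}) := by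
    intro r hr
    simp only [hπ', Cfsg.primesNotDvd, Set.mem_setOf_eq]
    constructor
    · rintro ⟨-, h⟩ rfl
      exact h hpA
    · intro h
      refine ⟨hr, fun hd => h ?_⟩
      rw [hk] at hd
      exact (Nat.prime_dvd_prime_iff_eq hr hpp).mp (hr.dvd_of_dvd_pow hd)
  have hcore : Cfsg.piCoreOf π' X = (Cfsg.pPrimeCore p ↥X).map X.subtype := by
    unfold Cfsg.piCoreOf
    rw [pPrimeCore_eq_piCore hpp, piCore_congr hπ]
  haveI hXs : Group.IsSolvable ↥X := solvable_of_ne_top hG hX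
  have hXc : Cfsg.IsPConstrained p ↥X :=
    Cfsg.Agent.Lib.Lead.PSolvable.IsPSolvable.isPConstrained
      (Cfsg.Agent.Lib.Helper4.SolvPSolv.isPSolvable_of_isSolvable p ↥X)
  apply le_antisymm
  · apply sSup_le
    rintro Y ⟨hYX, hYπ, hAY⟩
    have hAp' : IsPGroup p ↥(A.subgroupOf X) := hAp.comap_subtype
    have hΩ' : ∀ x ∈ Subgroup.centralizer ((A.subgroupOf X : Subgroup ↥X) : Set ↥X),
        orderOf x = p → x ∈ A.subgroupOf X := by
      intro x hx hxo
      rw [Subgroup.mem_subgroupOf]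
      apply hΩ
      · rw [Subgroup.mem_centralizer_iff]
        intro a ha
        have := Subgroup.mem_centralizer_iff.mp hx ⟨a, hAX ha⟩ (Subgroup.mem_subgroupOf.mpr ha)
        exact congrArg Subtype.val this
      · rw [Subgroup.orderOf_coe]; exact hxo
    have hY' : ¬ p ∣ Nat.card ↥(Y.subgroupOf X) := by
      rw [Nat.card_congr (Subgroup.subgroupOfEquivOfLe hYX).toEquiv]
      intro hd
      exact (hYπ p hpp hd).2 hpA
    have hAY' : A.subgroupOf X ≤
        Subgroup.normalizer ((Y.subgroupOf X : Subgroup ↥X) : Set ↥X) := by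
      intro a ha
      rw [Subgroup.mem_normalizer_iff]
      intro h
      rw [Subgroup.mem_subgroupOf, Subgroup.mem_subgroupOf]
      exact Subgroup.mem_normalizer_iff.mp (hAY (Subgroup.mem_subgroupOf.mp ha)) (h : G)
    have hle := Cfsg.Agent.Lib.Helper4.PQOmega.le_pPrimeCore_of_invariant hp2 hXc
      (A.subgroupOf X) hAp' hΩ' (Y.subgroupOf X) hY' hAY'
    rw [hcore]
    intro y hy
    exact ⟨⟨y, hYX hy⟩, hle (Subgroup.mem_subgroupOf.mpr hy), rfl⟩
  · apply le_sSup
    exact ⟨piCoreOf_le _ _, isPiNat_piCoreOf _ _, hAX.trans (le_normalizer_piCoreOf _ _)⟩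

end Cfsg.Agent.Lib.Helper4.BGTrans
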