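import Mathlib

set_option autoImplicit false

namespace Cfsg.Agent.Lib.Helper4.AutP2

theorem aux {p : ℕ} [hp' : Fact p.Prime] {W : Type*} [AddCommGroup W] [Module (ZMod p) W] [Finite W]
    (hcard : Nat.card W = p ^ 2) {M : Type*} [Monoid M] (lin : M →* Module.End (ZMod p) W)
    (hinj : Function.Injective lin) :
    ∃ f : M →* Matrix (Fin 2) (Fin 2) (ZMod p), Function.Injective f := by
  classical
  have hrank : Module.finrank (ZMod p) W = 2 := by
    have h1 := Module.natCard_eq_pow_finrank (K := ZMod p) (V := W)
    rw [hcard, Nat.card_zmod] at h1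
    exact (Nat.pow_right_injective hp'.out.two_le h1).symm
  let b : Module.Basis (Fin 2) (ZMod p) W := Module.finBasisOfFinrankEq (ZMod p) W hrank
  refine ⟨{ toFun := fun σ => LinearMap.toMatrix b b (lin σ)
            map_one' := by rw [map_one]; exact LinearMap.toMatrix_id b
            map_mul' := fun σ τ => by
              rw [map_mul]
              exact LinearMap.toMatrix_comp b b b (lin σ) (lin τ) }, ?_⟩
  intro σ τ h
  exact hinj ((LinearMap.toMatrix b b).injective h)

variable {V : Type*} [CommGroup V] [Finite V] {p : ℕ} [hp' : Fact p.Prime]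

theorem aux2 [Module (ZMod p) (Additive V)] (hcard : Nat.card V = p ^ 2) :
    ∃ φ : MulAut V →* GL (Fin 2) (ZMod p), Function.Injective φ := by
  classical
  haveI : Finite (Additive V) := inferInstanceAs (Finite V)
  let lin : MulAut V →* Module.End (ZMod p) (Additive V) :=
    { toFun := fun σ => AddMonoidHom.toZModLinearMap p (MonoidHom.toAdditive σ.toMonoidHom)
      map_one' := by
        apply LinearMap.ext; intro x
        show Additive.ofMul ((1 : MulAut V) (Additive.toMul x)) = x
        rfl
      map_mul' := fun σ τ => by
        apply LinearMap.ext; intro x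
        show Additive.ofMul ((σ * τ) (Additive.toMul x)) =
          Additive.ofMul (σ (Additive.toMul (Additive.ofMul (τ (Additive.toMul x)))))
        rfl }
  have hlin : ∀ (σ : MulAut V) (x : Additive V), lin σ x = Additive.ofMul (σ (Additive.toMul x)) :=
    fun σ x => rfl
  have hinj : Function.Injective lin := by
    intro σ τ h
    apply MulEquiv.ext
    intro v
    have := congrArg (fun l : Module.End (ZMod p) (Additive V) => l (Additive.ofMul v)) h
    simp only [hlin] at this
    exact Additive.ofMul.injective this
  obtain ⟨f, hf⟩ := aux (p := p) (W := Additive V) hcard lin hinj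
  refine ⟨f.toHomUnits, ?_⟩
  intro σ τ h
  apply hf
  have := congrArg (fun u : (Matrix (Fin 2) (Fin 2) (ZMod p))ˣ => (u : Matrix (Fin 2) (Fin 2) (ZMod p))) h
  simpa using this

/-- automorphisms of an elementary abelian group of order `p²` embed in `GL₂(𝔽_p)` -/
theorem exists_injective_hom (hexp : ∀ v : V, v ^ p = 1) (hcard : Nat.card V = p ^ 2) :
    ∃ φ : MulAut V →* GL (Fin 2) (ZMod p), Function.Injective φ := by
  have hsmul : ∀ x : Additive V, p • x = 0 := fun x => by
    have := hexp (Additive.toMul x)
    exact congrArg Additive.ofMul this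
  exact @aux2 V _ _ p _ (AddCommGroup.zmodModule hsmul) hcard

/-- version for a group with a commutativity hypothesis -/
theorem exists_injective_hom' {V : Type*} [Group V] [Finite V] (hcomm : ∀ a b : V, a * b = b * a)
    (hexp : ∀ v : V, v ^ p = 1) (hcard : Nat.card V = p ^ 2) :
    ∃ φ : MulAut V →* GL (Fin 2) (ZMod p), Function.Injective φ := by
  letI : CommGroup V := { ‹Group V› with mul_comm := hcomm }
  exact exists_injective_hom hexp hcard

/-- automorphism groups of groups of order `1` or `p` are commutative -/
theorem mulAut_comm_of_card_dvd_prime {V : Type*} [Group V] [Finite V] (hcard : Nat.card V ∣ p)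
    (σ τ : MulAut V) : σ * τ = τ * σ := by
  have hcyc : IsCyclic V := by
    rcases (Nat.dvd_prime hp'.out).mp hcard with h | h
    · haveI : Subsingleton V := (Nat.card_eq_one_iff_unique.mp h).1
      exact isCyclic_of_subsingleton
    · exact isCyclic_of_prime_card h
  have e := hcyc.mulAutMulEquiv (G := V)
  apply e.injective
  rw [map_mul, map_mul, mul_comm]

end Cfsg.Agent.Lib.Helper4.AutP2
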