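import Mathlib
import Cfsg.Prelude.Def_CaseTheorems

set_option autoImplicit false

namespace Cfsg.Agent.Lib.Helper4.Exp3

open scoped commutatorElement

variable {p : ℕ} [hp' : Fact p.Prime] {T : Type*} [Group T]

theorem comm_sup_zpowers (A : Subgroup T) (hA : ∀ a ∈ A, ∀ b ∈ A, a * b = b * a) (y : T)
    (hy : ∀ a ∈ A, a * y = y * a) : IsMulCommutative ↥(A ⊔ Subgroup.zpowers y) := by
  have e : A ⊔ Subgroup.zpowers y = Subgroup.closure ((A : Set T) ∪ {y}) := by
    rw [Subgroup.closure_union, Subgroup.closure_eq, Subgroup.zpowers_eq_closure]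
  rw [e]
  apply Subgroup.isMulCommutative_closure
  rintro a (ha | ha) b (hb | hb)
  · exact hA a ha b hb
  · rw [Set.mem_singleton_iff] at hb; subst hb; exact hy a ha
  · rw [Set.mem_singleton_iff] at ha; subst ha; exact (hy b hb).symm
  · rw [Set.mem_singleton_iff] at ha hb; rw [ha, hb]

theorem card_lt_of_lt [Finite T] {H K : Subgroup T} (h : H < K) : Nat.card H < Nat.card K := by
  have hle : H ≤ K := h.le
  have hdvd := Subgroup.card_dvd_of_le hle
  have hne : Nat.card H ≠ Nat.card K := by
    intro he
    have : H = K := Subgroup.eq_of_le_of_card_ge hle he.ge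
    exact h.ne this
  exact lt_of_le_of_ne (Nat.le_of_dvd Nat.card_pos hdvd) hne

/-- a group of exponent `p` and class at most two with no elementary abelian subgroup of order `p³`,
if not commutative, has order at most `p³` -/
theorem card_le_cube [Finite T] (hexp : ∀ x : T, x ^ p = 1)
    (hcl : ∀ a b : T, ⁅a, b⁆ ∈ Subgroup.center T)
    (hrk : Cfsg.PRankLE p 2 T) (hnc : ∃ a b : T, a * b ≠ b * a) : Nat.card T ≤ p ^ 3 := by
  classical
  have hp := hp'.out
  have hT : IsPGroup p T := fun x => ⟨1, by rw [pow_one]; exact hexp x⟩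
  obtain ⟨x, b, hxb⟩ := hnc
  haveI : Nontrivial T := ⟨⟨x * b, b * x, hxb⟩⟩
  set Z := Subgroup.center T with hZ
  have hxZ : x ∉ Z := by
    intro h
    exact hxb ((Subgroup.mem_center_iff.mp h b).symm)
  have hcardpow : ∀ H : Subgroup T, ∃ i, Nat.card H = p ^ i := fun H =>
    IsPGroup.iff_card.mp (hT.to_subgroup H)
  -- `Z ≠ ⊥`
  have hZne : Z ≠ ⊥ := by
    haveI := hT.center_nontrivial
    exact (Subgroup.nontrivial_iff_ne_bot Z).mp inferInstance
  set A := Z ⊔ Subgroup.zpowers x with hA
  have hAc : IsMulCommutative A := by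
    apply comm_sup_zpowers
    · intro a ha b _
      exact (Subgroup.mem_center_iff.mp ha b).symm
    · intro a ha
      exact (Subgroup.mem_center_iff.mp ha x).symm
  have hAcard : Nat.card A ≤ p ^ 2 := hrk A hAc (fun a _ => hexp a)
  have hZA : Z < A := by
    refine lt_of_le_of_ne le_sup_left ?_
    intro h
    apply hxZ
    rw [h]
    exact (le_sup_right : Subgroup.zpowers x ≤ A) (Subgroup.mem_zpowers x)
  obtain ⟨i, hi⟩ := hcardpow Z
  obtain ⟨j, hj⟩ := hcardpow A
  have hi1 : 1 ≤ i := by
    rcases Nat.eq_zero_or_pos i with h0 | h0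
    · exfalso
      rw [h0, pow_zero] at hi
      exact hZne (Subgroup.card_eq_one.mp hi)
    · exact h0
  have hij : i < j := by
    have := card_lt_of_lt hZA
    rw [hi, hj] at this
    exact (Nat.pow_lt_pow_iff_right hp.one_lt).mp this
  have hj2 : j ≤ 2 := by
    rw [hj] at hAcard
    exact (Nat.pow_le_pow_iff_right hp.one_lt).mp hAcard
  -- the centralizer of `x` is `A`
  have hCx : Subgroup.centralizer ({x} : Set T) ≤ A := by
    intro y hy
    by_contra hyA
    rw [Subgroup.mem_centralizer_singleton_iff] at hy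
    set B := A ⊔ Subgroup.zpowers y with hB
    have hBc : IsMulCommutative B := by
      apply comm_sup_zpowers
      · intro a ha b hb
        have := hAc.is_comm.comm (⟨a, ha⟩ : A) ⟨b, hb⟩
        exact congrArg Subtype.val this
      · -- every element of `A` commutes with `y`
        have hle : A ≤ Subgroup.centralizer ({y} : Set T) := by
          apply sup_le
          · intro a ha
            rw [Subgroup.mem_centralizer_singleton_iff]
            exact (Subgroup.mem_center_iff.mp ha y).symm
          · rw [Subgroup.zpowers_le, Subgroup.mem_centralizer_singleton_iff]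
            exact hy.symm
        intro a ha
        have := hle ha
        rw [Subgroup.mem_centralizer_singleton_iff] at this
        exact this
    have hBcard : Nat.card B ≤ p ^ 2 := hrk B hBc (fun a _ => hexp a)
    have hAB : A < B := by
      refine lt_of_le_of_ne le_sup_left ?_
      intro h
      apply hyA
      rw [h]
      exact (le_sup_right : Subgroup.zpowers y ≤ B) (Subgroup.mem_zpowers y)
    obtain ⟨k, hk⟩ := hcardpow B
    have hjk : j < k := by
      have := card_lt_of_lt hAB
      rw [hj, hk] at this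
      exact (Nat.pow_lt_pow_iff_right hp.one_lt).mp this
    have hk2 : k ≤ 2 := by
      rw [hk] at hBcard
      exact (Nat.pow_le_pow_iff_right hp.one_lt).mp hBcard
    omega
  -- the commutator homomorphism
  let f : T →* ↥Z :=
    { toFun := fun y => ⟨⁅y, x⁆, hcl y x⟩
      map_one' := by
        apply Subtype.ext
        simp
      map_mul' := fun y₁ y₂ => by
        apply Subtype.ext
        have hc := Subgroup.mem_center_iff.mp (hcl y₂ x)
        show ⁅y₁ * y₂, x⁆ = ⁅y₁, x⁆ * ⁅y₂, x⁆
        have e1 : ⁅y₁ * y₂, x⁆ = y₁ * ⁅y₂, x⁆ * x * y₁⁻¹ * x⁻¹ := by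
          simp only [commutatorElement_def]; group
        rw [e1, hc y₁]
        have e2 : ⁅y₂, x⁆ * y₁ * x * y₁⁻¹ * x⁻¹ = ⁅y₂, x⁆ * ⁅y₁, x⁆ := by
          generalize ⁅y₂, x⁆ = c
          simp only [commutatorElement_def]; group
        rw [e2, ← hc ⁅y₁, x⁆] }
  have hker : f.ker ≤ Subgroup.centralizer ({x} : Set T) := by
    intro y hy
    rw [MonoidHom.mem_ker] at hy
    have h1 : ⁅y, x⁆ = 1 := congrArg Subtype.val hy
    rw [commutatorElement_eq_one_iff_commute] at h1
    rw [Subgroup.mem_centralizer_singleton_iff]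
    exact h1.eq
  have hcardT : Nat.card T = Nat.card f.ker * Nat.card f.range := by
    rw [← Subgroup.index_ker, Subgroup.card_mul_index]
  have h1 : Nat.card f.ker ≤ p ^ 2 :=
    (Nat.le_of_dvd Nat.card_pos (Subgroup.card_dvd_of_le (hker.trans hCx))).trans hAcard
  have h2 : Nat.card f.range ≤ p := by
    have : Nat.card f.range ≤ Nat.card ↥Z := Subgroup.card_le_card_group _
    refine this.trans ?_
    rw [hi]
    have : i ≤ 1 := by omega
    calc p ^ i ≤ p ^ 1 := Nat.pow_le_pow_right hp.pos this
      _ = p := pow_one p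
  rw [hcardT]
  calc Nat.card f.ker * Nat.card f.range ≤ p ^ 2 * p := Nat.mul_le_mul h1 h2
    _ = p ^ 3 := by ring

end Cfsg.Agent.Lib.Helper4.Exp3
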