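import Mathlib
import Cfsg.Agent.Lib.Helper4.GL2Odd

/-!
# Odd-order subgroups of `GL₂(F)`: the derived subgroup is a `p`-group
-/

set_option autoImplicit false

namespace Cfsg.Agent.Lib.Helper4.GL2OddComm

open Matrix Cfsg.Agent.Lib.Helper4.GL2Odd
open scoped commutatorElement

variable {F : Type*} [Field F] {p : ℕ} [hp' : Fact p.Prime] [CharP F p]

/-- the derived subgroup of a finite odd-order subgroup of `GL₂(F)` lies in the Sylow `p`-subgroup -/
theorem commutator_le_sylow (hp : p ≠ 2) (H : Subgroup (GL (Fin 2) F)) [Finite H]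
    (hodd : Odd (Nat.card H)) (U : Sylow p H) : commutator H ≤ (U : Subgroup H) := by
  classical
  have hK : ∀ r : ℕ, r.Prime → r ≠ p →
      ∃ K : Subgroup H, K.Normal ∧ ¬ r ∣ Nat.card K ∧ commutator H ≤ K := by
    intro r hrp hr
    haveI : Fact r.Prime := ⟨hrp⟩
    obtain ⟨R⟩ : Nonempty (Sylow r H) := inferInstance
    have hD := normalizer_le_centralizer hp H hodd hr R
    have hc := MonoidHom.ker_transferSylow_isComplement' R hD
    refine ⟨(MonoidHom.transferSylow R hD).ker, inferInstance, ?_, ?_⟩
    · rw [← hc.index_eq_card]; exact R.not_dvd_index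
    · rw [commutator_def, Subgroup.commutator_le]
      intro a _ b _
      rw [MonoidHom.mem_ker, map_commutatorElement, commutatorElement_eq_one_iff_commute]
      have hoddR : Odd (Nat.card (R : Subgroup H)) :=
        Odd.of_dvd_nat hodd (Subgroup.card_subgroup_dvd_card _)
      have hinj : Function.Injective (H.subtype.comp (R : Subgroup H).subtype) :=
        H.subtype_injective.comp (R : Subgroup H).subtype_injective
      exact comm_of_pgroup hp (H.subtype.comp (R : Subgroup H).subtype) hinj hr R.isPGroup' hoddR _ _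
  choose! K hKn hKr hKc using hK
  let L : Subgroup H := ⨅ r : {r : ℕ // r.Prime ∧ r ≠ p}, K r.1
  have hLp : IsPGroup p L := by
    have hcard : Nat.card L = p ^ (Nat.card L).primeFactorsList.length := by
      apply Nat.eq_prime_pow_of_unique_prime_dvd Nat.card_pos.ne'
      intro q hq hqd
      by_contra hqp
      have hle : L ≤ K q := iInf_le (fun r : {r : ℕ // r.Prime ∧ r ≠ p} => K r.1) ⟨q, hq, hqp⟩
      exact hKr q hq hqp (hqd.trans (Subgroup.card_dvd_of_le hle))
    exact IsPGroup.of_card hcard
  have hcL : commutator H ≤ L := le_iInf fun r => hKc r.1 r.2.1 r.2.2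
  haveI := sylow_normal hp H hodd U
  -- a normal Sylow subgroup contains every `p`-subgroup
  intro x hx
  have hxL : x ∈ L := hcL hx
  obtain ⟨Q, hQ⟩ := hLp.exists_le_sylow
  obtain ⟨g, hg⟩ := MulAction.exists_smul_eq H U Q
  rw [Sylow.smul_eq_of_normal] at hg
  rw [hg]
  exact hQ hxL

/-- abstract version -/
theorem isPGroup_commutator_of_injective (hp : p ≠ 2) {X : Type*} [Group X] [Finite X]
    (hodd : Odd (Nat.card X)) (φ : X →* GL (Fin 2) F) (hφ : Function.Injective φ) :
    IsPGroup p (commutator X) := by
  classical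
  set H : Subgroup (GL (Fin 2) F) := φ.range with hH
  have : Finite H := Finite.of_equiv X (MonoidHom.ofInjective hφ).toEquiv
  have hcard : Nat.card H = Nat.card X := (Nat.card_congr (MonoidHom.ofInjective hφ).toEquiv).symm
  have hoddH : Odd (Nat.card H) := by rw [hcard]; exact hodd
  obtain ⟨U⟩ : Nonempty (Sylow p H) := inferInstance
  have hle := commutator_le_sylow hp H hoddH U
  rintro ⟨x, hx⟩
  have hmem : φ.rangeRestrict x ∈ commutator H := by
    have h1 : (commutator X).map φ.rangeRestrict ≤ commutator H := by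
      rw [commutator_def, Subgroup.map_commutator, commutator_def]
      exact Subgroup.commutator_mono le_top le_top
    exact h1 (Subgroup.mem_map_of_mem _ hx)
  obtain ⟨k, hk⟩ := U.isPGroup' ⟨_, hle hmem⟩
  refine ⟨k, ?_⟩
  apply Subtype.ext
  apply hφ
  have := congrArg (fun u : (U : Subgroup H) => ((u : H) : GL (Fin 2) F)) hk
  simpa using this

end Cfsg.Agent.Lib.Helper4.GL2OddComm
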