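import Mathlib
import Cfsg.Prelude.Def_CaseTheorems
import Cfsg.Agent.H1.CriticalSubgroup
import Cfsg.Agent.H1.Class2
import Cfsg.Agent.S0121
import Cfsg.Agent.Lib.Helper4.QuadGroup
import Cfsg.Agent.Lib.Helper4.GL2OddComm
import Cfsg.Agent.Lib.Helper4.AutP2
import Cfsg.Agent.Lib.Helper4.Exp3

/-!
# Odd-order automorphism groups of `p`-groups of rank at most two (B&G Theorem 4.17-type result)
-/

set_option autoImplicit false

namespace Cfsg.Agent.Lib.Helper4.Rank2Aut

open Cfsg Cfsg.Agent.Lib.Helper4.QuadGroup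
open scoped commutatorElement

variable {p : ℕ} [hp' : Fact p.Prime]

/-- stability: if `σ x = x w` with `w` fixed and `σ ^ m = 1` then `w ^ m = 1` -/
theorem pow_eq_one_of_stab {G : Type*} [Group G] (σ : MulAut G) {m : ℕ} (hm : σ ^ m = 1) {x w : G}
    (hx : σ x = x * w) (hw : σ w = w) : w ^ m = 1 := by
  have key : ∀ k : ℕ, (σ ^ k) x = x * w ^ k := by
    intro k
    induction k with
    | zero => simp
    | succ k ih =>
      rw [pow_succ', MulAut.mul_apply, ih, map_mul, map_pow, hx, hw, pow_succ', mul_assoc]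
  have := key m
  rw [hm, MulAut.one_apply] at this
  exact (mul_eq_left.mp this.symm)

theorem eq_one_of_pow_coprime {G : Type*} [Group G] {w : G} {m : ℕ} (hm : w ^ m = 1)
    (hp : w ^ p = 1) (hcop : m.Coprime p) : w = 1 := by
  have h1 : orderOf w ∣ m := orderOf_dvd_of_pow_eq_one hm
  have h2 : orderOf w ∣ p := orderOf_dvd_of_pow_eq_one hp
  have h3 : orderOf w ∣ Nat.gcd m p := Nat.dvd_gcd h1 h2
  rw [hcop.gcd_eq_one, Nat.dvd_one] at h3
  exact orderOf_eq_one_iff.mp h3

variable {R : Type*} [Group R] [Finite R]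

/-- the properties of a critical subgroup that we use -/
structure Crit (p : ℕ) (C : Subgroup R) : Prop where
  char : C.Characteristic
  comm : ∀ a ∈ C, ∀ b ∈ C, ⁅a, b⁆ ∈ Subgroup.centralizer (C : Set R)
  pow : ∀ a ∈ C, a ^ p ∈ Subgroup.centralizer (C : Set R)
  faithful : ∀ σ : MulAut R, (orderOf σ).Coprime p → (∀ x ∈ C, σ x = x) → σ = 1

theorem exists_crit (hR : IsPGroup p R) : ∃ C : Subgroup R, Crit p C := by
  obtain ⟨C, hchar, h1, h2, h3⟩ := Cfsg.Agent.H1.exists_critical_subgroup' hR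
  refine ⟨C, hchar, ?_, ?_, ?_⟩
  · intro a ha b _
    exact (h2 (Subgroup.commutator_mem_commutator ha (Subgroup.mem_top b))).2
  · intro a ha
    apply h1
    refine ⟨⟨a, ha⟩ ^ p, Cfsg.Agent.H1.pow_p_mem_frattini (hR.to_subgroup C) ⟨a, ha⟩, ?_⟩
    simp
  · intro σ hσ hfix
    exact Cfsg.Agent.S0121.result hR C hchar h1 h2 h3 σ hσ hfix

theorem Crit.mem_iff {C : Subgroup R} (hC : Crit p C) (σ : MulAut R) (x : R) : σ x ∈ C ↔ x ∈ C := by
  have := hC.char.fixed σ
  constructor
  · intro h
    rw [← this]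
    exact h
  · intro h
    rw [← this] at h
    exact h

/-- the `p`-th power map is multiplicative on a critical subgroup (`p` odd) -/
theorem Crit.mul_pow {C : Subgroup R} (hC : Crit p C) (hp : p ≠ 2) {a b : R} (ha : a ∈ C)
    (hb : b ∈ C) : (a * b) ^ p = a ^ p * b ^ p := by
  have hc : ∀ x y : ↥C, ⁅x, y⁆ ∈ Subgroup.center ↥C := by
    intro x y
    rw [Subgroup.mem_center_iff]
    intro g
    apply Subtype.ext
    have := Subgroup.mem_centralizer_iff.mp (hC.comm x.1 x.2 y.1 y.2) g.1 g.2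
    exact this
  have hpow : ∀ y : ↥C, y ^ p ∈ Subgroup.center ↥C := by
    intro y
    rw [Subgroup.mem_center_iff]
    intro g
    apply Subtype.ext
    have := Subgroup.mem_centralizer_iff.mp (hC.pow y.1 y.2) g.1 g.2
    simpa using this
  have h1 : (⁅(⟨b, hb⟩ : ↥C), (⟨a, ha⟩ : ↥C)⁆ : ↥C) ^ p = 1 := by
    rw [← Cfsg.Agent.H1.commutator_pow_of_central _ _ (hc _ _) p,
      commutatorElement_eq_one_iff_commute]
    exact ((Subgroup.mem_center_iff.mp (hpow ⟨b, hb⟩)) ⟨a, ha⟩).symm
  have := Cfsg.Agent.H1.class2_mul_pow_prime hc hp'.out hp (⟨a, ha⟩ : ↥C) ⟨b, hb⟩ h1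
  exact congrArg Subtype.val this

/-- `Ω₁` of a critical subgroup -/
def omega (C : Subgroup R) (hmul : ∀ a ∈ C, ∀ b ∈ C, (a * b) ^ p = a ^ p * b ^ p) : Subgroup R where
  carrier := {x | x ∈ C ∧ x ^ p = 1}
  one_mem' := ⟨C.one_mem, one_pow p⟩
  mul_mem' := fun {a b} ha hb =>
    ⟨C.mul_mem ha.1 hb.1, by rw [hmul a ha.1 b hb.1, ha.2, hb.2, one_mul]⟩
  inv_mem' := fun {a} ha => ⟨C.inv_mem ha.1, by rw [inv_pow, ha.2, inv_one]⟩

theorem mem_omega {C : Subgroup R} {hmul : ∀ a ∈ C, ∀ b ∈ C, (a * b) ^ p = a ^ p * b ^ p} {x : R} :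
    x ∈ omega C hmul ↔ x ∈ C ∧ x ^ p = 1 := Iff.rfl

/-- Lemma B: a `p'`-automorphism fixing `Ω₁(C)` pointwise is trivial -/
theorem Crit.eq_one_of_fix_omega {C : Subgroup R} (hC : Crit p C) (hR : IsPGroup p R)
    (hmul : ∀ a ∈ C, ∀ b ∈ C, (a * b) ^ p = a ^ p * b ^ p) (σ : MulAut R) {m : ℕ}
    (hm : σ ^ m = 1) (hcop : m.Coprime p) (hfix : ∀ x ∈ omega C hmul, σ x = x) : σ = 1 := by
  have key : ∀ k : ℕ, ∀ x ∈ C, x ^ p ^ k = 1 → σ x = x := by
    intro k
    induction k with
    | zero =>
      intro x _ hx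
      rw [pow_zero, pow_one] at hx
      rw [hx, map_one]
    | succ k ih =>
      intro x hxC hx
      have hy : σ (x ^ p) = x ^ p := by
        apply ih (x ^ p) (C.pow_mem hxC p)
        rw [← pow_mul, ← pow_succ']
        exact hx
      have hσx : σ x ∈ C := (hC.mem_iff σ x).mpr hxC
      set w := x⁻¹ * σ x with hw
      have hwC : w ∈ C := C.mul_mem (C.inv_mem hxC) hσx
      have hwp : w ^ p = 1 := by
        rw [hw, hmul _ (C.inv_mem hxC) _ hσx, inv_pow, ← map_pow, hy, inv_mul_cancel]
      have hwfix : σ w = w := hfix w ⟨hwC, hwp⟩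
      have hσxw : σ x = x * w := by rw [hw]; group
      have := pow_eq_one_of_stab σ hm hσxw hwfix
      have hw1 : w = 1 := eq_one_of_pow_coprime this hwp hcop
      rw [hσxw, hw1, mul_one]
  apply hC.faithful σ
  · exact Nat.Coprime.coprime_dvd_left (orderOf_dvd_of_pow_eq_one hm) hcop
  · intro x hx
    obtain ⟨k, hk⟩ := hR x
    exact key k x hx hk


/-! ### restriction and the action on the abelianization -/

omit [Finite R] in
/-- restriction of automorphisms to an invariant subgroup -/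
def resInv (E : Subgroup R) (hE : ∀ (σ : MulAut R) (x : R), σ x ∈ E ↔ x ∈ E) :
    MulAut R →* MulAut ↥E :=
  (resAut E).comp (MonoidHom.codRestrict (MonoidHom.id _) (stab E) (fun σ => hE σ))

omit [Finite R] in
theorem resInv_apply (E : Subgroup R) (hE : ∀ (σ : MulAut R) (x : R), σ x ∈ E ↔ x ∈ E)
    (σ : MulAut R) (x : ↥E) : ((resInv E hE σ x : ↥E) : R) = σ x.1 := rfl

theorem commutator_mem_iff (T : Type*) [Group T] (σ : MulAut T) (u : T) :
    σ u ∈ commutator T ↔ u ∈ commutator T := by
  have hchar : (commutator T).Characteristic := by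
    rw [commutator_def]; infer_instance
  have := hchar.fixed σ
  constructor
  · intro h
    rw [← this]
    exact h
  · intro h
    rw [← this] at h
    exact h

/-- induced automorphisms of the abelianization -/
noncomputable def abAut (T : Type*) [Group T] : MulAut T →* MulAut (T ⧸ commutator T) :=
  (quoAut (commutator T)).comp
    (MonoidHom.codRestrict (MonoidHom.id _) (stab (commutator T)) (fun σ => commutator_mem_iff T σ))

theorem abAut_mk (T : Type*) [Group T] (σ : MulAut T) (u : T) :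
    abAut T σ (QuotientGroup.mk u) = QuotientGroup.mk (σ u) := rfl

theorem conj_central {G : Type*} [Group G] {a n y : G} (hn : ∀ g : G, g * n = n * g) :
    a * n * y * (a * n)⁻¹ = a * y * a⁻¹ := by
  have h : n * y * n⁻¹ = y := by rw [← hn y, mul_inv_cancel_right]
  calc a * n * y * (a * n)⁻¹ = a * (n * y * n⁻¹) * a⁻¹ := by group
    _ = a * y * a⁻¹ := by rw [h]

theorem commutator_central {G : Type*} [Group G] {a b n n' : G} (hn : ∀ g : G, g * n = n * g)
    (hn' : ∀ g : G, g * n' = n' * g) : ⁅a * n, b * n'⁆ = ⁅a, b⁆ := by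
  rw [commutatorElement_def, conj_central hn, commutatorElement_def]
  have h : n' * a⁻¹ * n'⁻¹ = a⁻¹ := by rw [← hn' a⁻¹, mul_inv_cancel_right]
  calc a * (b * n') * a⁻¹ * (b * n')⁻¹ = a * b * (n' * a⁻¹ * n'⁻¹) * b⁻¹ := by group
    _ = a * b * a⁻¹ * b⁻¹ := by rw [h]

/-- an automorphism of `T` acting trivially on `T/T'`, with `T'` central, fixes `T'` pointwise -/
theorem fix_commutator {T : Type*} [Group T] (τ : MulAut T)
    (hcen : ∀ n ∈ commutator T, ∀ g : T, g * n = n * g)
    (hτ : ∀ y : T, y⁻¹ * τ y ∈ commutator T) : ∀ n ∈ commutator T, τ n = n := by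
  let F : Subgroup T :=
    { carrier := {n | τ n = n}
      one_mem' := map_one τ
      mul_mem' := fun {a b} ha hb => by
        show τ (a * b) = a * b
        rw [map_mul, ha, hb]
      inv_mem' := fun {a} ha => by
        show τ a⁻¹ = a⁻¹
        rw [map_inv, ha] }
  have hle : commutator T ≤ F := by
    rw [commutator_def, Subgroup.commutator_le]
    intro a _ b _
    show τ ⁅a, b⁆ = ⁅a, b⁆
    rw [map_commutatorElement]
    have ea : τ a = a * (a⁻¹ * τ a) := by group
    have eb : τ b = b * (b⁻¹ * τ b) := by group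
    rw [ea, eb]
    exact commutator_central (hcen _ (hτ a)) (hcen _ (hτ b))
  intro n hn
  exact hle hn

theorem eq_one_of_abAut_eq_one {C : Subgroup R} (hC : Crit p C) (hR : IsPGroup p R)
    (hmul : ∀ a ∈ C, ∀ b ∈ C, (a * b) ^ p = a ^ p * b ^ p)
    (hE : ∀ (σ : MulAut R) (x : R), σ x ∈ omega C hmul ↔ x ∈ omega C hmul) (σ : MulAut R)
    (hρ : abAut ↥(omega C hmul) (resInv (omega C hmul) hE σ) = 1) {m : ℕ} (hm : σ ^ m = 1)
    (hcop : m.Coprime p) : σ = 1 := by
  apply hC.eq_one_of_fix_omega hR hmul σ hm hcop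
  set E := omega C hmul with hEdef
  set τ := resInv E hE σ with hτdef
  have hτm : τ ^ m = 1 := by rw [hτdef, ← map_pow, hm, map_one]
  have hquot : ∀ y : ↥E, y⁻¹ * τ y ∈ commutator ↥E := by
    intro y
    have h1 : abAut ↥E τ (QuotientGroup.mk y) = QuotientGroup.mk y := by rw [hρ]; rfl
    rw [abAut_mk] at h1
    exact QuotientGroup.eq.mp h1.symm
  have hcen : ∀ n ∈ commutator ↥E, ∀ g : ↥E, g * n = n * g := by
    have hle : commutator ↥E ≤ Subgroup.center ↥E := by
      rw [commutator_def, Subgroup.commutator_le]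
      intro a _ b _
      rw [Subgroup.mem_center_iff]
      intro g
      apply Subtype.ext
      exact Subgroup.mem_centralizer_iff.mp (hC.comm a.1 a.2.1 b.1 b.2.1) g.1 g.2.1
    intro n hn g
    exact Subgroup.mem_center_iff.mp (hle hn) g
  have hfixc := fix_commutator τ hcen hquot
  intro x hx
  set y : ↥E := ⟨x, hx⟩ with hy
  set w := y⁻¹ * τ y with hw
  have hwfix : τ w = w := hfixc w (hquot y)
  have hτy : τ y = y * w := by rw [hw]; group
  have hwm := pow_eq_one_of_stab τ hτm hτy hwfix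
  have hwp : w ^ p = 1 := by
    apply Subtype.ext
    rw [Subgroup.coe_pow]
    exact w.2.2
  have hw1 : w = 1 := eq_one_of_pow_coprime hwm hwp hcop
  rw [hw1, mul_one] at hτy
  have := congrArg Subtype.val hτy
  rw [hτdef, resInv_apply] at this
  exact this


theorem commutator_le_iff' {G : Type*} [Group G] (K : Subgroup G) :
    commutator G ≤ K ↔ ∀ a b : G, ⁅a, b⁆ ∈ K := by
  rw [commutator_def, Subgroup.commutator_le]
  constructor
  · intro h a b
    exact h a (Subgroup.mem_top a) b (Subgroup.mem_top b)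
  · intro h a _ b _
    exact h a b

theorem map_commutator_le {G H : Type*} [Group G] [Group H] (f : G →* H) :
    (commutator G).map f ≤ commutator H := by
  rw [commutator_def, Subgroup.map_commutator, commutator_def]
  exact Subgroup.commutator_mono le_top le_top

/-- the rank of a subgroup is at most the rank of the group -/
theorem pRankLE_subgroup {G : Type*} [Group G] {k : ℕ} (h : PRankLE p k G) (H : Subgroup G) :
    PRankLE p k ↥H := by
  intro B hB hBe
  have hBc : IsMulCommutative ↥(B.map H.subtype) := by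
    have := hB
    infer_instance
  have := h (B.map H.subtype) hBc (by
    rintro _ ⟨b, hb, rfl⟩
    have := hBe b hb
    have h2 := congrArg Subtype.val this
    simpa using h2)
  rwa [Subgroup.card_map_of_injective H.subtype_injective] at this

/-- **Main theorem**: an odd-order group of automorphisms of a `p`-group of rank at most two (`p` odd)
has a `p`-group as derived subgroup. -/
theorem isPGroup_commutator (hp : p ≠ 2) (hR : IsPGroup p R) (hr : PRankLE p 2 R)
    (𝒜 : Subgroup (MulAut R)) (hodd : Odd (Nat.card 𝒜)) : IsPGroup p (commutator ↥𝒜) := by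
  classical
  have hpp := hp'.out
  obtain ⟨C, hC⟩ := exists_crit hR
  have hmul : ∀ a ∈ C, ∀ b ∈ C, (a * b) ^ p = a ^ p * b ^ p :=
    fun a ha b hb => hC.mul_pow hp ha hb
  set E := omega C hmul with hEdef
  have hE : ∀ (σ : MulAut R) (x : R), σ x ∈ E ↔ x ∈ E := by
    intro σ x
    rw [hEdef, mem_omega, mem_omega, hC.mem_iff σ x, ← map_pow]
    constructor
    · rintro ⟨h1, h2⟩
      refine ⟨h1, ?_⟩
      rw [← map_one σ] at h2
      exact σ.injective h2
    · rintro ⟨h1, h2⟩
      exact ⟨h1, by rw [h2, map_one]⟩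
  -- the group `T = E` and its abelianization `V`
  have hTexp : ∀ y : ↥E, y ^ p = 1 := by
    intro y
    apply Subtype.ext
    rw [Subgroup.coe_pow]
    exact y.2.2
  have hTp : IsPGroup p ↥E := hR.to_subgroup E
  have hTcl : ∀ a b : ↥E, ⁅a, b⁆ ∈ Subgroup.center ↥E := by
    intro a b
    rw [Subgroup.mem_center_iff]
    intro g
    apply Subtype.ext
    exact Subgroup.mem_centralizer_iff.mp (hC.comm a.1 a.2.1 b.1 b.2.1) g.1 g.2.1
  have hTrk : PRankLE p 2 ↥E := pRankLE_subgroup hr E
  have hVexp : ∀ v : ↥E ⧸ commutator ↥E, v ^ p = 1 := by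
    intro v
    induction v using QuotientGroup.induction_on with
    | H y => rw [← QuotientGroup.mk_pow, hTexp y, QuotientGroup.mk_one]
  have hVcomm : ∀ a b : ↥E ⧸ commutator ↥E, a * b = b * a := by
    intro a b
    exact @mul_comm (Abelianization ↥E) _ a b
  have hVp : IsPGroup p (↥E ⧸ commutator ↥E) := hTp.to_quotient _
  have hVcard : Nat.card (↥E ⧸ commutator ↥E) ≤ p ^ 2 := by
    by_cases hcomm : ∀ a b : ↥E, a * b = b * a
    · have h1 : Nat.card (↥E ⧸ commutator ↥E) ≤ Nat.card ↥E :=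
        Nat.le_of_dvd Nat.card_pos (Subgroup.card_quotient_dvd_card _)
      refine h1.trans ?_
      have hEc : IsMulCommutative ↥E := ⟨⟨hcomm⟩⟩
      exact hr E hEc (fun a ha => ha.2)
    · push Not at hcomm
      have h3 := Cfsg.Agent.Lib.Helper4.Exp3.card_le_cube hTexp hTcl hTrk hcomm
      have hne : commutator ↥E ≠ ⊥ := by
        intro hbot
        obtain ⟨a, b, hab⟩ := hcomm
        have : ⁅a, b⁆ ∈ commutator ↥E := by
          rw [commutator_def]
          exact Subgroup.commutator_mem_commutator (Subgroup.mem_top a) (Subgroup.mem_top b)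
        rw [hbot, Subgroup.mem_bot, commutatorElement_eq_one_iff_commute] at this
        exact hab this.eq
      have hcp : p ≤ Nat.card ↥(commutator ↥E) := by
        obtain ⟨i, hi⟩ := IsPGroup.iff_card.mp (hTp.to_subgroup (commutator ↥E))
        rcases Nat.eq_zero_or_pos i with h0 | h0
        · exfalso
          rw [h0, pow_zero] at hi
          exact hne (Subgroup.card_eq_one.mp hi)
        · rw [hi]
          calc p = p ^ 1 := (pow_one p).symm
            _ ≤ p ^ i := Nat.pow_le_pow_right hpp.pos h0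
      have hmul' := Subgroup.card_eq_card_quotient_mul_card_subgroup (commutator ↥E)
      have h4 : Nat.card (↥E ⧸ commutator ↥E) * p ≤ p ^ 2 * p := by
        calc Nat.card (↥E ⧸ commutator ↥E) * p
            ≤ Nat.card (↥E ⧸ commutator ↥E) * Nat.card ↥(commutator ↥E) :=
              Nat.mul_le_mul_left _ hcp
          _ = Nat.card ↥E := hmul'.symm
          _ ≤ p ^ 3 := h3
          _ = p ^ 2 * p := by ring
      exact Nat.le_of_mul_le_mul_right h4 hpp.pos
  -- the representation on `V`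
  let ρ : ↥𝒜 →* MulAut (↥E ⧸ commutator ↥E) :=
    ((abAut ↥E).comp (resInv E hE)).comp 𝒜.subtype
  have hker : ∀ g : ↥𝒜, ρ g = 1 → ∃ k : ℕ, g ^ p ^ k = 1 := by
    intro g hg
    have hpos : 0 < orderOf (g : MulAut R) := by
      haveI : Finite (MulAut R) := MulEquiv.finite_left
      exact orderOf_pos _
    obtain ⟨k, m, hm, hkm⟩ := Nat.exists_eq_pow_mul_and_not_dvd hpos.ne' p hpp.ne_one
    refine ⟨k, ?_⟩
    apply Subtype.ext
    rw [Subgroup.coe_pow, Subgroup.coe_one]
    apply eq_one_of_abAut_eq_one hC hR hmul hE ((g : MulAut R) ^ p ^ k) (m := m)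
    · have h1 : ρ (g ^ p ^ k) = 1 := by rw [map_pow, hg, one_pow]
      exact h1
    · rw [← pow_mul, ← hkm, pow_orderOf_eq_one]
    · exact ((Nat.Prime.coprime_iff_not_dvd hpp).mpr hm).symm
  -- the image
  haveI : Finite (MulAut (↥E ⧸ commutator ↥E)) := MulEquiv.finite_left
  set Q : Subgroup (MulAut (↥E ⧸ commutator ↥E)) := ρ.range with hQ
  have hoddQ : Odd (Nat.card Q) := Odd.of_dvd_nat hodd (Subgroup.card_range_dvd ρ)
  have hQp : IsPGroup p (commutator ↥Q) := by
    obtain ⟨j, hj⟩ := IsPGroup.iff_card.mp hVp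
    have hj2 : j ≤ 2 := by
      rw [hj] at hVcard
      exact (Nat.pow_le_pow_iff_right hpp.one_lt).mp hVcard
    by_cases hj' : j = 2
    · rw [hj'] at hj
      obtain ⟨φ, hφ⟩ := Cfsg.Agent.Lib.Helper4.AutP2.exists_injective_hom' hVcomm hVexp hj
      exact Cfsg.Agent.Lib.Helper4.GL2OddComm.isPGroup_commutator_of_injective hp hoddQ
        (φ.comp Q.subtype) (hφ.comp Subtype.val_injective)
    · have hdvd : Nat.card (↥E ⧸ commutator ↥E) ∣ p := by
        rw [hj]
        have : j ≤ 1 := by omega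
        calc p ^ j ∣ p ^ 1 := pow_dvd_pow p this
          _ = p := pow_one p
      have hbot : commutator ↥Q = ⊥ := by
        rw [eq_bot_iff, commutator_le_iff']
        intro a b
        rw [Subgroup.mem_bot, commutatorElement_eq_one_iff_commute]
        apply Subtype.ext
        exact Cfsg.Agent.Lib.Helper4.AutP2.mulAut_comm_of_card_dvd_prime hdvd a.1 b.1
      rw [hbot]
      exact IsPGroup.of_bot
  -- conclusion
  rintro ⟨g, hg⟩
  have hmem : ρ.rangeRestrict g ∈ commutator ↥Q := by
    exact map_commutator_le ρ.rangeRestrict (Subgroup.mem_map_of_mem _ hg)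
  obtain ⟨k, hk⟩ := hQp ⟨_, hmem⟩
  have hk' : ρ (g ^ p ^ k) = 1 := by
    have h2 := congrArg (fun u : ↥(commutator ↥Q) => ((u : ↥Q) : MulAut (↥E ⧸ commutator ↥E))) hk
    simp only [Subgroup.coe_pow, Subgroup.coe_one] at h2
    rw [map_pow]
    exact h2
  obtain ⟨i, hi⟩ := hker (g ^ p ^ k) hk'
  refine ⟨k + i, ?_⟩
  apply Subtype.ext
  rw [Subgroup.coe_pow, Subgroup.coe_one, pow_add, pow_mul]
  exact hi


/-! ### the conjugation action of the normalizer -/

/-- conjugation action of a subgroup of the normalizer of `R` on `R` -/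
def conjHom {G : Type*} [Group G] (R A : Subgroup G) (hA : A ≤ Subgroup.normalizer (R : Set G)) :
    ↥A →* MulAut ↥R where
  toFun a :=
    { toFun := fun r => ⟨a.1 * r.1 * a.1⁻¹, (Subgroup.mem_normalizer_iff.mp (hA a.2) r.1).mp r.2⟩
      invFun := fun r => ⟨a.1⁻¹ * r.1 * a.1, by
        have h := (Subgroup.mem_normalizer_iff.mp (Subgroup.inv_mem _ (hA a.2)) r.1).mp r.2
        simpa using h⟩
      left_inv := fun r => by apply Subtype.ext; simp only; group
      right_inv := fun r => by apply Subtype.ext; simp only; group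
      map_mul' := fun r s => by apply Subtype.ext; simp only [Subgroup.coe_mul]; group }
  map_one' := by
    apply MulEquiv.ext; intro r; apply Subtype.ext
    simp
  map_mul' a b := by
    apply MulEquiv.ext; intro r; apply Subtype.ext
    simp only [Subgroup.coe_mul, MulAut.mul_apply, MulEquiv.coe_mk, Equiv.coe_fn_mk, mul_inv_rev]
    group

theorem conjHom_apply {G : Type*} [Group G] (R A : Subgroup G)
    (hA : A ≤ Subgroup.normalizer (R : Set G)) (a : ↥A) (r : ↥R) :
    ((conjHom R A hA a r : ↥R) : G) = a.1 * r.1 * a.1⁻¹ := rfl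

theorem conjHom_injective {G : Type*} [Group G] (R A : Subgroup G)
    (hA : A ≤ Subgroup.normalizer (R : Set G))
    (hfaith : A ⊓ Subgroup.centralizer (R : Set G) = ⊥) : Function.Injective (conjHom R A hA) := by
  rw [injective_iff_map_eq_one]
  intro a ha
  have hmem : a.1 ∈ A ⊓ Subgroup.centralizer (R : Set G) := by
    refine ⟨a.2, ?_⟩
    change a.1 ∈ Subgroup.centralizer (R : Set G)
    rw [Subgroup.mem_centralizer_iff]
    intro r hr
    have h1 := congrArg (fun σ : MulAut ↥R => ((σ ⟨r, hr⟩ : ↥R) : G)) ha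
    simp only [conjHom_apply, MulAut.one_apply] at h1
    rw [mul_inv_eq_iff_eq_mul] at h1
    exact h1.symm
  rw [hfaith, Subgroup.mem_bot] at hmem
  exact Subtype.ext hmem

/-- B&G Theorem 4.17-type statement (= S1449) -/
theorem isPGroup_commutator_of_normalizer {G : Type*} [Group G] [Finite G] (hp : p ≠ 2)
    (R A : Subgroup G) (hR : IsPGroup p R) (hr : PRankLE p 2 R)
    (hA : A ≤ Subgroup.normalizer (R : Set G)) (hAodd : Odd (Nat.card A))
    (hfaith : A ⊓ Subgroup.centralizer (R : Set G) = ⊥) : IsPGroup p ↥⁅A, A⁆ := by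
  have hinj := conjHom_injective R A hA hfaith
  set c := conjHom R A hA with hc
  have hodd : Odd (Nat.card c.range) := by
    rw [← Nat.card_congr (MonoidHom.ofInjective hinj).toEquiv]
    exact hAodd
  have hcore := isPGroup_commutator hp hR hr c.range hodd
  rintro ⟨g, hg⟩
  rw [← Subgroup.map_subtype_commutator] at hg
  obtain ⟨y, hy, rfl⟩ := hg
  have hmem : c.rangeRestrict y ∈ commutator ↥c.range :=
    map_commutator_le c.rangeRestrict (Subgroup.mem_map_of_mem _ hy)
  obtain ⟨k, hk⟩ := hcore ⟨_, hmem⟩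
  refine ⟨k, ?_⟩
  have h2 := congrArg (fun u : ↥(commutator ↥c.range) => ((u : ↥c.range) : MulAut ↥R)) hk
  simp only [Subgroup.coe_pow, Subgroup.coe_one] at h2
  have h3 : c (y ^ p ^ k) = 1 := by rw [map_pow]; exact h2
  have h4 : y ^ p ^ k = 1 := hinj (by rw [h3, map_one])
  apply Subtype.ext
  have := congrArg (fun u : ↥A => (u : G)) h4
  simpa using this

end Cfsg.Agent.Lib.Helper4.Rank2Aut
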