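import Mathlib
import Cfsg.Prelude.Def_Local
import Cfsg.Prelude.Def_OddOrderLocal
import Cfsg.Agent.Lib.Helper4.OddStable
import Cfsg.Agent.Lib.Lead.PSolvable
import Cfsg.Agent.Lib.Helper4.SolvPSolv
import Cfsg.Agent.Lib.Lead.PiCore

/-!
# Solvable groups of odd order: abelian `p`-subgroups normalized by a normal `p`-subgroup

* `comap_pCore_quot_le` : for a normal `p`-subgroup `C`, the preimage of `O_p(X/C)` lies in `O_p(X)`;
* `quad_of_normalized` : if `P` normalizes the abelian subgroup `B`, each `b ∈ B` acts quadratically on `P`;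
* `map_sSup_le_pCore`, `sSup_le_pCore` : B&G Lemma-type results (S1465);
* `abelian_normal_le_pPrimePCore` : S1457.
-/

set_option autoImplicit false

namespace Cfsg.Agent.Lib.Helper4.OddSolv

open Cfsg
open scoped commutatorElement

/-- for a normal `p`-subgroup `C`, the preimage of `O_p(X/C)` lies in `O_p(X)` -/
theorem comap_pCore_quot_le {p : ℕ} {X : Type*} [Group X] (C : Subgroup X) [C.Normal]
    (hC : IsPGroup p C) :
    (pCore p (X ⧸ C)).comap (QuotientGroup.mk' C) ≤ pCore p X := by
  haveI : ((pCore p (X ⧸ C)).comap (QuotientGroup.mk' C)).Normal := inferInstance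
  apply Cfsg.Agent.H9.le_pCore
  apply IsPGroup.comap_of_ker_isPGroup (Cfsg.Agent.H9.pCore_isPGroup p (X ⧸ C))
  rw [QuotientGroup.ker_mk']
  exact hC

/-- if `P` normalizes the abelian subgroup `B` then every `b ∈ B` acts quadratically on `P` -/
theorem quad_of_normalized {G : Type*} [Group G] (P B : Subgroup G) (hB : IsMulCommutative B)
    (hPB : P ≤ Subgroup.normalizer (B : Set G)) {b : G} (hb : b ∈ B) :
    ⁅⁅P, Subgroup.zpowers b⁆, Subgroup.zpowers b⁆ = ⊥ := by
  have hz : Subgroup.zpowers b ≤ B := (Subgroup.zpowers_le).mpr hb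
  have h1 : ⁅P, Subgroup.zpowers b⁆ ≤ B := by
    rw [Subgroup.commutator_le]
    intro x hx y hy
    have hyB : y ∈ B := hz hy
    have hxN := hPB hx
    rw [commutatorElement_def]
    have : x * y * x⁻¹ ∈ B := (Subgroup.mem_normalizer_iff.mp hxN y).mp hyB
    exact B.mul_mem this (B.inv_mem hyB)
  rw [eq_bot_iff]
  refine (Subgroup.commutator_mono h1 hz).trans ?_
  rw [Subgroup.commutator_le]
  intro x hx y hy
  rw [Subgroup.mem_bot, commutatorElement_eq_one_iff_commute]
  have := hB.is_comm.comm (⟨x, hx⟩ : B) ⟨y, hy⟩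
  exact congrArg Subtype.val this

variable {G : Type*} [Group G] [Finite G]

/-- first half of S1465 -/
theorem map_sSup_le_pCore (hodd : Odd (Nat.card G)) (p : ℕ) [Fact p.Prime] (hp : p ≠ 2)
    (P : Subgroup G) [P.Normal] (hP : IsPGroup p P) (S : Set (Subgroup G))
    (hS : ∀ B ∈ S, IsMulCommutative B ∧ P ≤ Subgroup.normalizer (B : Set G)) :
    (sSup S).map (QuotientGroup.mk' (Subgroup.centralizer (P : Set G))) ≤
      pCore p (G ⧸ Subgroup.centralizer (P : Set G)) := by
  rw [Subgroup.map_le_iff_le_comap]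
  apply sSup_le
  intro B hB b hb
  rw [Subgroup.mem_comap]
  obtain ⟨hBc, hBn⟩ := hS B hB
  exact Cfsg.Agent.Lib.Helper4.OddStable.isPStableOn_of_odd hodd hp P hP b
    (quad_of_normalized P B hBc hBn hb)

/-- a solvable group `C` with `O_{p'}(C) = 1` and `O_p(C)` central is a `p`-group -/
theorem isPGroup_of_pCore_central {C : Type*} [Group C] [Finite C] [Group.IsSolvable C] (p : ℕ)
    [Fact p.Prime] (hbot : pPrimeCore p C = ⊥)
    (hcen : ∀ x ∈ pCore p C, ∀ c : C, c * x = x * c) : IsPGroup p C := by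
  have hsol := Cfsg.Agent.Lib.Helper4.SolvPSolv.isPSolvable_of_isSolvable p C
  have hHH := Cfsg.Agent.Lib.Lead.PSolvable.centralizer_pCore_le hsol hbot
  have htop : Subgroup.centralizer ((pCore p C : Subgroup C) : Set C) = ⊤ := by
    rw [eq_top_iff]
    intro c _
    rw [Subgroup.mem_centralizer_iff]
    intro x hx
    exact (hcen x hx c).symm
  rw [htop] at hHH
  have h1 : pCore p C = ⊤ := top_le_iff.mp hHH
  have h2 := Cfsg.Agent.H9.pCore_isPGroup p C
  rw [h1] at h2
  exact (IsPGroup.of_equiv h2 Subgroup.topEquiv)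

/-- second half of S1465 -/
theorem sSup_le_pCore [Group.IsSolvable G] (hodd : Odd (Nat.card G)) (p : ℕ) [Fact p.Prime]
    (hp : p ≠ 2) (P : Subgroup G) [P.Normal] (hP : IsPGroup p P) (S : Set (Subgroup G))
    (hS : ∀ B ∈ S, IsMulCommutative B ∧ P ≤ Subgroup.normalizer (B : Set G))
    (hbot : pPrimeCore p G = ⊥)
    (hPC : pCore p G ⊓ Subgroup.centralizer (P : Set G) ≤ P) : sSup S ≤ pCore p G := by
  set C := Subgroup.centralizer (P : Set G) with hCdef
  haveI hCn : C.Normal := Subgroup.normal_centralizer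
  have hO : pPrimeCore p ↥C = ⊥ := by
    have := Cfsg.Agent.H2.pPrimeCore_map_subtype_le_of_isSubnormal p hCn.isSubnormal
    rw [hbot, le_bot_iff] at this
    exact (Subgroup.map_eq_bot_iff_of_injective _ C.subtype_injective).1 this
  have hle : (pCore p ↥C).map C.subtype ≤ pCore p G :=
    Cfsg.Agent.Lib.Helper7.pCore_map_subtype_le_of_normal C
  have hCp : IsPGroup p ↥C := by
    apply isPGroup_of_pCore_central p hO
    intro x hx c
    apply Subtype.ext
    rw [Subgroup.coe_mul, Subgroup.coe_mul]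
    have hxG : (x : G) ∈ pCore p G := hle (Subgroup.mem_map_of_mem C.subtype hx)
    have hxP : (x : G) ∈ P := hPC ⟨hxG, x.2⟩
    exact (Subgroup.mem_centralizer_iff.1 c.2 x.1 hxP).symm
  have h1 := map_sSup_le_pCore hodd p hp P hP S hS
  rw [Subgroup.map_le_iff_le_comap] at h1
  exact h1.trans (comap_pCore_quot_le C hCp)

/-- S1457: an abelian normal subgroup of a Sylow `p`-subgroup of a solvable group of odd order lies in
`O_{p',p}(G)`. -/
theorem abelian_normal_le_pPrimePCore [Group.IsSolvable G] (hodd : Odd (Nat.card G)) (p : ℕ)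
    [hp' : Fact p.Prime] (S : Sylow p G) (A : Subgroup G) (hA : A ≤ (S : Subgroup G))
    (hAc : IsMulCommutative A) (hAn : (S : Subgroup G) ≤ Subgroup.normalizer (A : Set G)) :
    A ≤ pPrimePCore p G := by
  by_cases hp : p = 2
  · -- the Sylow 2-subgroup is trivial
    have hS : (S : Subgroup G) = ⊥ := by
      rw [← Subgroup.card_eq_one]
      obtain ⟨n, hn⟩ := IsPGroup.iff_card.mp S.2
      have hdvd : Nat.card (S : Subgroup G) ∣ Nat.card G := Subgroup.card_subgroup_dvd_card _
      rcases Nat.eq_zero_or_pos n with h0 | hpos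
      · rw [hn, h0, pow_zero]
      · exfalso
        have h2 : 2 ∣ Nat.card G := by
          refine dvd_trans ?_ hdvd
          rw [hn, hp]
          exact dvd_pow_self 2 hpos.ne'
        exact (Nat.not_even_iff_odd.mpr hodd) (even_iff_two_dvd.mpr h2)
    rw [hS] at hA
    exact hA.trans bot_le
  · set N := pPrimeCore p G with hN
    set π := QuotientGroup.mk' N with hπ
    have hπs : Function.Surjective π := QuotientGroup.mk'_surjective N
    have hoddq : Odd (Nat.card (G ⧸ N)) :=
      Odd.of_dvd_nat hodd (Subgroup.card_quotient_dvd_card N)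
    have hbot : pPrimeCore p (G ⧸ N) = ⊥ :=
      Cfsg.Agent.Lib.Lead.PiCore.pPrimeCore_quotient_eq_bot hp'.out
    let Sbar : Sylow p (G ⧸ N) := S.mapSurjective hπs
    have hSbar : (Sbar : Subgroup (G ⧸ N)) = (S : Subgroup G).map π := rfl
    have hQS : pCore p (G ⧸ N) ≤ (S : Subgroup G).map π := by
      rw [← hSbar]; exact Cfsg.Agent.Lib.Helper7.pCore_le_sylow Sbar
    have hAbarC : IsMulCommutative (A.map π) := by
      refine ⟨⟨?_⟩⟩
      rintro ⟨x, a, ha, rfl⟩ ⟨y, b, hb, rfl⟩
      apply Subtype.ext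
      change π a * π b = π b * π a
      rw [← map_mul, ← map_mul]
      have := hAc.is_comm.comm (⟨a, ha⟩ : A) ⟨b, hb⟩
      exact congrArg π (congrArg Subtype.val this)
    have hQN : pCore p (G ⧸ N) ≤ Subgroup.normalizer ((A.map π : Subgroup (G ⧸ N)) : Set (G ⧸ N)) := by
      refine hQS.trans ?_
      rintro x ⟨s, hs, rfl⟩
      have hsN := hAn hs
      rw [Subgroup.mem_normalizer_iff]
      intro y
      constructor
      · rintro ⟨a, ha, rfl⟩
        refine ⟨s * a * s⁻¹, (Subgroup.mem_normalizer_iff.mp hsN a).mp ha, ?_⟩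
        simp only [map_mul, map_inv]
      · rintro ⟨a, ha, hay⟩
        obtain ⟨g, rfl⟩ := hπs y
        -- y = π(s)⁻¹ π(a) π(s)
        have hsN' : s⁻¹ ∈ Subgroup.normalizer (A : Set G) := Subgroup.inv_mem _ hsN
        refine ⟨s⁻¹ * a * s⁻¹⁻¹, (Subgroup.mem_normalizer_iff.mp hsN' a).mp ha, ?_⟩
        simp only [map_mul, map_inv, inv_inv]
        rw [hay]
        group
    have := sSup_le_pCore hoddq p hp (pCore p (G ⧸ N)) (Cfsg.Agent.H9.pCore_isPGroup p (G ⧸ N))
      {A.map π} (by
        intro B hB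
        rw [Set.mem_singleton_iff] at hB
        subst hB
        exact ⟨hAbarC, hQN⟩) hbot inf_le_left
    rw [sSup_singleton] at this
    intro a ha
    exact this (Subgroup.mem_map_of_mem π ha)

end Cfsg.Agent.Lib.Helper4.OddSolv
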