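import Mathlib
import Cfsg.Prelude.Def_CaseTheorems
import Cfsg.Agent.Lib.Helper4.Rank2Aut

/-!
# Automorphisms of prime order `q > p` of `p`-groups of rank at most two are trivial
-/

set_option autoImplicit false

namespace Cfsg.Agent.Lib.Helper4.Rank2Aut2

open Cfsg Cfsg.Agent.Lib.Helper4.QuadGroup Cfsg.Agent.Lib.Helper4.Rank2Aut
open scoped commutatorElement

variable {p : ℕ} [hp' : Fact p.Prime]

/-- an automorphism of prime order `q > p` of a group of order `p ^ j`, `j ≤ 2`, is trivial -/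
theorem aut_eq_one_of_prime_gt {V : Type*} [Group V] [Finite V] {j : ℕ} (hVcard : Nat.card V = p ^ j)
    (hj : j ≤ 2) (hp2 : p ≠ 2) (τ : MulAut V) {q : ℕ} (hq : q.Prime) (hqp : p < q)
    (hτ : τ ^ q = 1) : τ = 1 := by
  classical
  have hpp := hp'.out
  haveI : Fact q.Prime := ⟨hq⟩
  set H : Subgroup (MulAut V) := Subgroup.zpowers τ with hH
  have hHq : IsPGroup q H := by
    rintro ⟨h, hh⟩
    obtain ⟨k, rfl⟩ := Subgroup.mem_zpowers_iff.mp hh
    refine ⟨1, ?_⟩
    apply Subtype.ext
    rw [Subgroup.coe_pow, Subgroup.coe_one, pow_one, ← zpow_natCast, ← zpow_mul, mul_comm, zpow_mul,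
      zpow_natCast, hτ, one_zpow]
  let F : Subgroup V :=
    { carrier := {v | τ v = v}
      one_mem' := map_one τ
      mul_mem' := fun {a b} ha hb => by
        show τ (a * b) = a * b
        rw [map_mul, ha, hb]
      inv_mem' := fun {a} ha => by
        show τ a⁻¹ = a⁻¹
        rw [map_inv, ha] }
  have hfix : MulAction.fixedPoints H V = (F : Set V) := by
    ext v
    constructor
    · intro hv
      exact hv ⟨τ, Subgroup.mem_zpowers τ⟩
    · intro hv h
      have hle : H ≤ MulAction.stabilizer (MulAut V) v := by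
        rw [hH, Subgroup.zpowers_le]
        exact hv
      exact hle h.2
  have hmod := hHq.card_modEq_card_fixedPoints V
  have hcardF : Nat.card (MulAction.fixedPoints H V) = Nat.card F := by
    rw [hfix]; rfl
  rw [hcardF, hVcard] at hmod
  have hFdvd : Nat.card F ∣ p ^ j := hVcard ▸ Subgroup.card_subgroup_dvd_card F
  obtain ⟨i, hij, hi⟩ := (Nat.dvd_prime_pow hpp).mp hFdvd
  rw [hi] at hmod
  have hle : p ^ i ≤ p ^ j := Nat.pow_le_pow_right hpp.pos hij
  have hdvd : q ∣ p ^ j - p ^ i := (Nat.modEq_iff_dvd' hle).mp hmod.symm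
  have hqnp : ¬ q ∣ p := by
    intro h
    have := Nat.le_of_dvd hpp.pos h
    omega
  have hsub : p ^ j - p ^ i = p ^ i * (p ^ (j - i) - 1) := by
    rw [Nat.mul_sub, mul_one, ← pow_add, Nat.add_sub_cancel' hij]
  rw [hsub] at hdvd
  have hdvd2 : q ∣ p ^ (j - i) - 1 := by
    rcases (Nat.Prime.dvd_mul hq).mp hdvd with h | h
    · exact absurd (hq.dvd_of_dvd_pow h) hqnp
    · exact h
  have hji : j - i = 0 := by
    by_contra hne
    have hcases : j - i = 1 ∨ j - i = 2 := by omega
    rcases hcases with h1 | h2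
    · rw [h1, pow_one] at hdvd2
      have hpos : 0 < p - 1 := by have := hpp.two_le; omega
      have := Nat.le_of_dvd hpos hdvd2
      omega
    · rw [h2] at hdvd2
      have e : p ^ 2 - 1 = (p - 1) * (p + 1) := by
        have h1 : 1 ≤ p := hpp.pos
        obtain ⟨k, rfl⟩ : ∃ k, p = k + 1 := ⟨p - 1, by omega⟩
        simp only [Nat.add_sub_cancel]
        ring_nf
        omega
      rw [e] at hdvd2
      rcases (Nat.Prime.dvd_mul hq).mp hdvd2 with h | h
      · have hpos : 0 < p - 1 := by have := hpp.two_le; omega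
        have := Nat.le_of_dvd hpos h
        omega
      · have hle2 := Nat.le_of_dvd (by omega) h
        have hq1 : q = p + 1 := by omega
        have hodd : Odd p := hpp.odd_of_ne_two hp2
        have heven : Even q := by rw [hq1]; exact hodd.add_one
        have : q = 2 := (Nat.Prime.even_iff hq).mp heven
        have := hpp.two_le
        omega
  have hFtop : F = ⊤ := by
    apply Subgroup.eq_top_of_card_eq
    rw [hi, hVcard]
    congr 1
    omega
  apply MulEquiv.ext
  intro v
  have : v ∈ F := by rw [hFtop]; trivial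
  exact this


variable {R : Type*} [Group R] [Finite R]

/-- the set-up used for `p`-groups of rank at most two: a critical subgroup `C`, `E = Ω₁(C)` and the facts
about `V = E / E'`. -/
theorem exists_setup (hp : p ≠ 2) (hR : IsPGroup p R) (hr : PRankLE p 2 R) :
    ∃ (C : Subgroup R) (_ : Crit p C) (hmul : ∀ a ∈ C, ∀ b ∈ C, (a * b) ^ p = a ^ p * b ^ p)
      (_ : ∀ (σ : MulAut R) (x : R), σ x ∈ omega C hmul ↔ x ∈ omega C hmul),
      ∃ j : ℕ, j ≤ 2 ∧ Nat.card (↥(omega C hmul) ⧸ commutator ↥(omega C hmul)) = p ^ j := by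
  classical
  have hpp := hp'.out
  obtain ⟨C, hC⟩ := exists_crit hR
  have hmul : ∀ a ∈ C, ∀ b ∈ C, (a * b) ^ p = a ^ p * b ^ p :=
    fun a ha b hb => hC.mul_pow hp ha hb
  set E := omega C hmul with hEdef
  have hE : ∀ (σ : MulAut R) (x : R), σ x ∈ E ↔ x ∈ E := by
    intro σ x
    rw [hEdef, mem_omega, mem_omega, hC.mem_iff σ x, ← map_pow]
    constructor
    · rintro ⟨h1, h2⟩
      refine ⟨h1, ?_⟩
      rw [← map_one σ] at h2
      exact σ.injective h2
    · rintro ⟨h1, h2⟩
      exact ⟨h1, by rw [h2, map_one]⟩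
  refine ⟨C, hC, hmul, hE, ?_⟩
  have hTexp : ∀ y : ↥E, y ^ p = 1 := by
    intro y
    apply Subtype.ext
    rw [Subgroup.coe_pow]
    exact y.2.2
  have hTp : IsPGroup p ↥E := hR.to_subgroup E
  have hTcl : ∀ a b : ↥E, ⁅a, b⁆ ∈ Subgroup.center ↥E := by
    intro a b
    rw [Subgroup.mem_center_iff]
    intro g
    apply Subtype.ext
    exact Subgroup.mem_centralizer_iff.mp (hC.comm a.1 a.2.1 b.1 b.2.1) g.1 g.2.1
  have hTrk : PRankLE p 2 ↥E := pRankLE_subgroup hr E
  have hVp : IsPGroup p (↥E ⧸ commutator ↥E) := hTp.to_quotient _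
  have hVcard : Nat.card (↥E ⧸ commutator ↥E) ≤ p ^ 2 := by
    by_cases hcomm : ∀ a b : ↥E, a * b = b * a
    · have h1 : Nat.card (↥E ⧸ commutator ↥E) ≤ Nat.card ↥E :=
        Nat.le_of_dvd Nat.card_pos (Subgroup.card_quotient_dvd_card _)
      refine h1.trans ?_
      have hEc : IsMulCommutative ↥E := ⟨⟨hcomm⟩⟩
      exact hr E hEc (fun a ha => ha.2)
    · push Not at hcomm
      have h3 := Cfsg.Agent.Lib.Helper4.Exp3.card_le_cube hTexp hTcl hTrk hcomm
      have hne : commutator ↥E ≠ ⊥ := by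
        intro hbot
        obtain ⟨a, b, hab⟩ := hcomm
        have : ⁅a, b⁆ ∈ commutator ↥E := (commutator_le_iff' _).mp le_rfl a b
        rw [hbot, Subgroup.mem_bot, commutatorElement_eq_one_iff_commute] at this
        exact hab this.eq
      have hcp : p ≤ Nat.card ↥(commutator ↥E) := by
        obtain ⟨i, hi⟩ := IsPGroup.iff_card.mp (hTp.to_subgroup (commutator ↥E))
        rcases Nat.eq_zero_or_pos i with h0 | h0
        · exfalso
          rw [h0, pow_zero] at hi
          exact hne (Subgroup.card_eq_one.mp hi)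
        · rw [hi]
          calc p = p ^ 1 := (pow_one p).symm
            _ ≤ p ^ i := Nat.pow_le_pow_right hpp.pos h0
      have hmul' := Subgroup.card_eq_card_quotient_mul_card_subgroup (commutator ↥E)
      have h4 : Nat.card (↥E ⧸ commutator ↥E) * p ≤ p ^ 2 * p := by
        calc Nat.card (↥E ⧸ commutator ↥E) * p
            ≤ Nat.card (↥E ⧸ commutator ↥E) * Nat.card ↥(commutator ↥E) :=
              Nat.mul_le_mul_left _ hcp
          _ = Nat.card ↥E := hmul'.symm
          _ ≤ p ^ 3 := h3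
          _ = p ^ 2 * p := by ring
      exact Nat.le_of_mul_le_mul_right h4 hpp.pos
  obtain ⟨j, hj⟩ := IsPGroup.iff_card.mp hVp
  refine ⟨j, ?_, hj⟩
  rw [hj] at hVcard
  exact (Nat.pow_le_pow_iff_right hpp.one_lt).mp hVcard

/-- an automorphism of prime order `q > p` of a `p`-group of rank at most two (`p` odd) is trivial -/
theorem eq_one_of_prime_gt (hp : p ≠ 2) (hR : IsPGroup p R) (hr : PRankLE p 2 R) (σ : MulAut R)
    {q : ℕ} (hq : q.Prime) (hqp : p < q) (hσ : σ ^ q = 1) : σ = 1 := by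
  obtain ⟨C, hC, hmul, hE, j, hj2, hj⟩ := exists_setup hp hR hr
  have hτ : abAut ↥(omega C hmul) (resInv (omega C hmul) hE σ) = 1 := by
    apply aut_eq_one_of_prime_gt hj hj2 hp _ hq hqp
    rw [← map_pow, ← map_pow, hσ, map_one, map_one]
  have hcop : q.Coprime p := by
    rw [Nat.coprime_primes hq hp'.out]
    omega
  exact eq_one_of_abAut_eq_one hC hR hmul hE σ hτ hσ hcop

end Cfsg.Agent.Lib.Helper4.Rank2Aut2
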