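import Mathlib
import Cfsg.Prelude.Def_Local
import Cfsg.Prelude.Def_OddOrderLocal
import Cfsg.Agent.Lib.Helper4.Rank2Aut
import Cfsg.Agent.Lib.Helper4.Rank2Aut2
import Cfsg.Agent.Lib.Helper4.OddSolv
import Cfsg.Agent.Lib.Lead.PComplement

/-!
# Solvable groups of odd order and `p`-rank at most two (B&G Theorem 4.18)
-/

set_option autoImplicit false

namespace Cfsg.Agent.Lib.Helper4.Rank2Solv

open Cfsg Cfsg.Agent.Lib.Helper4.Rank2Aut Cfsg.Agent.Lib.Helper4.Rank2Aut2
open scoped commutatorElement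

variable {p : ℕ} [hp' : Fact p.Prime]

/-- the `p`-rank does not grow in a quotient by a normal `p'`-subgroup -/
theorem pRankLE_quotient {G : Type*} [Group G] [Finite G] {k : ℕ} (h : PRankLE p k G)
    (N : Subgroup G) [N.Normal] (hN : (Nat.card N).Coprime p) : PRankLE p k (G ⧸ N) := by
  classical
  intro B hB hBe
  set π := QuotientGroup.mk' N with hπ
  set M := B.comap π with hM
  obtain ⟨S₀⟩ : Nonempty (Sylow p ↥M) := inferInstance
  -- `f : M → B`
  let f : ↥M →* ↥B := (π.comp M.subtype).codRestrict B (fun m => m.2)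
  have hf : Function.Surjective f := by
    rintro ⟨b, hb⟩
    obtain ⟨g, rfl⟩ := QuotientGroup.mk'_surjective N b
    exact ⟨⟨g, hb⟩, rfl⟩
  have hBp : IsPGroup p ↥B := by
    intro b
    refine ⟨1, ?_⟩
    rw [pow_one]
    apply Subtype.ext
    rw [Subgroup.coe_pow]
    exact hBe b.1 b.2
  have hS₁ : ((S₀.mapSurjective hf : Sylow p ↥B) : Subgroup ↥B) = ⊤ :=
    ((S₀.mapSurjective hf).is_maximal' (hBp.to_subgroup ⊤) le_top).symm
  -- the subgroup `B₀` of `G`
  set B₀ : Subgroup G := ((S₀ : Subgroup ↥M).map M.subtype) with hB₀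
  have hB₀p : IsPGroup p ↥B₀ := S₀.2.map _
  have hB₀N : B₀ ⊓ N = ⊥ := by
    apply Subgroup.inf_eq_bot_of_coprime
    obtain ⟨i, hi⟩ := IsPGroup.iff_card.mp hB₀p
    rw [hi]
    exact Nat.Coprime.pow_left i hN.symm
  have hinj : ∀ x ∈ B₀, ∀ y ∈ B₀, π x = π y → x = y := by
    intro x hx y hy hxy
    have h1 : x⁻¹ * y ∈ N := QuotientGroup.eq.mp hxy
    have h2 : x⁻¹ * y ∈ B₀ ⊓ N := ⟨B₀.mul_mem (B₀.inv_mem hx) hy, h1⟩
    rw [hB₀N, Subgroup.mem_bot] at h2
    exact inv_mul_eq_one.mp h2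
  have hπB₀ : ∀ x ∈ B₀, π x ∈ B := by
    rintro _ ⟨m, _, rfl⟩
    exact m.2
  have hB₀c : IsMulCommutative ↥B₀ := by
    refine ⟨⟨fun a b => ?_⟩⟩
    apply Subtype.ext
    apply hinj _ (B₀.mul_mem a.2 b.2) _ (B₀.mul_mem b.2 a.2)
    rw [map_mul, map_mul]
    have := hB.is_comm.comm (⟨π a.1, hπB₀ a.1 a.2⟩ : ↥B) ⟨π b.1, hπB₀ b.1 b.2⟩
    exact congrArg Subtype.val this
  have hB₀e : ∀ a ∈ B₀, a ^ p = 1 := by
    intro a ha
    apply hinj _ (B₀.pow_mem ha p) _ B₀.one_mem
    rw [map_pow, map_one]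
    exact hBe _ (hπB₀ a ha)
  have hcard : Nat.card ↥B ≤ Nat.card ↥B₀ := by
    -- `B₀ → B` is surjective
    let g : ↥B₀ → ↥B := fun x => ⟨π x.1, hπB₀ x.1 x.2⟩
    have hg : Function.Surjective g := by
      intro b
      have hb : b ∈ ((S₀.mapSurjective hf : Sylow p ↥B) : Subgroup ↥B) := by rw [hS₁]; trivial
      rw [Sylow.coe_mapSurjective] at hb
      obtain ⟨s, hs, rfl⟩ := hb
      exact ⟨⟨s.1, ⟨s, hs, rfl⟩⟩, rfl⟩
    exact Nat.card_le_card_of_surjective g hg
  exact hcard.trans (h B₀ hB₀c hB₀e)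

theorem normal_of_commutator_le {G : Type*} [Group G] {H : Subgroup G} (h : commutator G ≤ H) :
    H.Normal := by
  refine ⟨fun n hn g => ?_⟩
  have e : g * n * g⁻¹ = ⁅g, n⁆ * n := by rw [commutatorElement_def]; group
  rw [e]
  exact H.mul_mem (h ((commutator_le_iff' _).mp le_rfl g n)) hn

section quot

variable {G : Type*} [Group G] [Finite G] [Group.IsSolvable G]

/-- in the situation `O_{p'}(G) = 1`: the kernel of the action on `O_p(G)` lies in `O_p(G)` -/
theorem ker_conj_le (hO : pPrimeCore p G = ⊥) (g : G)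
    (hg : (MulAut.conjNormal g : MulAut ↥(pCore p G)) = 1) : g ∈ pCore p G := by
  have hHH := Cfsg.Agent.Lib.Lead.PSolvable.centralizer_pCore_le
    (Cfsg.Agent.Lib.Helper4.SolvPSolv.isPSolvable_of_isSolvable p G) hO
  apply hHH
  rw [Subgroup.mem_centralizer_iff]
  intro v hv
  have := congrArg (fun k : MulAut ↥(pCore p G) => ((k ⟨v, hv⟩ : ↥(pCore p G)) : G)) hg
  simp only [MulAut.conjNormal_apply, MulAut.one_apply] at this
  rw [mul_inv_eq_iff_eq_mul] at this
  exact this.symm

/-- if `O_{p'}(G) = 1` then `G' ≤ O_p(G)` -/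
theorem commutator_le_pCore (hodd : Odd (Nat.card G)) (hp : p ≠ 2) (hr : PRankLE p 2 G)
    (hO : pPrimeCore p G = ⊥) : commutator G ≤ pCore p G := by
  set c : G →* MulAut ↥(pCore p G) := MulAut.conjNormal with hc
  have hRp : IsPGroup p ↥(pCore p G) := Cfsg.Agent.H9.pCore_isPGroup p G
  have hRr : PRankLE p 2 ↥(pCore p G) := pRankLE_subgroup hr _
  have hoddA : Odd (Nat.card c.range) :=
    Odd.of_dvd_nat hodd (Subgroup.card_range_dvd c)
  have hcore := isPGroup_commutator hp hRp hRr c.range hoddA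
  have hDp : IsPGroup p ↥(commutator G) := by
    rintro ⟨g, hg⟩
    have hmem : c.rangeRestrict g ∈ commutator ↥c.range :=
      map_commutator_le c.rangeRestrict (Subgroup.mem_map_of_mem _ hg)
    obtain ⟨k, hk⟩ := hcore ⟨_, hmem⟩
    have h2 := congrArg (fun u : ↥(commutator ↥c.range) => ((u : ↥c.range) : MulAut ↥(pCore p G))) hk
    simp only [Subgroup.coe_pow, Subgroup.coe_one] at h2
    have h3 : c (g ^ p ^ k) = 1 := by rw [map_pow]; exact h2
    have h4 : g ^ p ^ k ∈ pCore p G := ker_conj_le hO _ h3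
    obtain ⟨i, hi⟩ := hRp ⟨_, h4⟩
    refine ⟨k + i, ?_⟩
    apply Subtype.ext
    have h5 := congrArg Subtype.val hi
    rw [Subgroup.coe_pow, Subgroup.coe_one] at h5
    rw [Subgroup.coe_pow, Subgroup.coe_one, pow_add, pow_mul]
    exact h5
  haveI : (commutator G).Normal := inferInstance
  exact Cfsg.Agent.H9.le_pCore (commutator G) hDp

/-- if `O_{p'}(G) = 1` then the primes dividing `|G|` are at most `p` -/
theorem prime_le_of_dvd_card (hp : p ≠ 2) (hr : PRankLE p 2 G)
    (hO : pPrimeCore p G = ⊥) {q : ℕ} (hq : q.Prime) (hqG : q ∣ Nat.card G) : q ≤ p := by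
  by_contra hlt
  rw [not_le] at hlt
  haveI : Fact q.Prime := ⟨hq⟩
  obtain ⟨x, hx⟩ := exists_prime_orderOf_dvd_card' q hqG
  set c : G →* MulAut ↥(pCore p G) := MulAut.conjNormal with hc
  have hRp : IsPGroup p ↥(pCore p G) := Cfsg.Agent.H9.pCore_isPGroup p G
  have hRr : PRankLE p 2 ↥(pCore p G) := pRankLE_subgroup hr _
  have hσ : (c x) ^ q = 1 := by rw [← map_pow, ← hx, pow_orderOf_eq_one, map_one]
  have h1 : c x = 1 := eq_one_of_prime_gt hp hRp hRr (c x) hq hlt hσ
  have h2 : x ∈ pCore p G := ker_conj_le hO x h1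
  obtain ⟨i, hi⟩ := hRp ⟨x, h2⟩
  have h3 : x ^ p ^ i = 1 := by
    have := congrArg Subtype.val hi
    simpa using this
  have h4 : q ∣ p ^ i := hx ▸ orderOf_dvd_of_pow_eq_one h3
  have h5 : q ∣ p := hq.dvd_of_dvd_pow h4
  have := Nat.le_of_dvd hp'.out.pos h5
  omega

end quot


section main

universe u

variable {G : Type u} [Group G] [Finite G] [Group.IsSolvable G]

theorem odd_prime_of_dvd (hodd : Odd (Nat.card G)) (hpG : p ∣ Nat.card G) : p ≠ 2 := by
  intro h
  rw [h] at hpG
  exact (Nat.not_even_iff_odd.mpr hodd) (even_iff_two_dvd.mpr hpG)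

/-- B&G Theorem 4.18 (= S1450) -/
theorem rank_two_structure (hodd : Odd (Nat.card G)) (hpG : p ∣ Nat.card G) (hr : PRankLE p 2 G) :
    (∀ q : ℕ, q.Prime → q ∣ (pPrimeCore p G).index → q ≤ p) ∧
      ((p = 3 ∨ ∀ q : ℕ, q.Prime → q ∣ Nat.card G → p ≤ q) → HasNormalPComplement p G) ∧
      HasNormalPComplement p ↥(commutator G) ∧
      (∀ L : Subgroup ↥(commutator G), (Nat.card L).Coprime p →
        L ≤ pPrimeCore p ↥(commutator G)) ∧
      commutator G ≤ pPrimePCore p G ∧ ((pPrimePCore p G).index).Coprime p := by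
  classical
  have hpp := hp'.out
  have hp : p ≠ 2 := odd_prime_of_dvd hodd hpG
  set N := pPrimeCore p G with hN
  set π := QuotientGroup.mk' N with hπ
  have hπs : Function.Surjective π := QuotientGroup.mk'_surjective N
  have hNc : (Nat.card ↥N).Coprime p := Cfsg.Agent.Lib.Lead.PiCore.pPrimeCore_coprime hpp
  have hoddq : Odd (Nat.card (G ⧸ N)) :=
    Odd.of_dvd_nat hodd (Subgroup.card_quotient_dvd_card N)
  have hbot : pPrimeCore p (G ⧸ N) = ⊥ :=
    Cfsg.Agent.Lib.Lead.PiCore.pPrimeCore_quotient_eq_bot hpp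
  have hrq : PRankLE p 2 (G ⧸ N) := pRankLE_quotient hr N hNc
  have hcomq : commutator (G ⧸ N) ≤ pCore p (G ⧸ N) := commutator_le_pCore hoddq hp hrq hbot
  have hRp : IsPGroup p ↥(pCore p (G ⧸ N)) := Cfsg.Agent.H9.pCore_isPGroup p (G ⧸ N)
  have hDmap : (commutator G).map π ≤ pCore p (G ⧸ N) := (map_commutator_le π).trans hcomq
  -- (1)
  have h1 : ∀ q : ℕ, q.Prime → q ∣ N.index → q ≤ p := by
    intro q hq hqd
    rw [Subgroup.index_eq_card] at hqd
    exact prime_le_of_dvd_card hp hrq hbot hq hqd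
  refine ⟨h1, ?_, ?_, ?_, ?_, ?_⟩
  · -- (2)
    intro hsmall
    have hsm : ∀ q : ℕ, q.Prime → q ∣ Nat.card G → p ≤ q := by
      rcases hsmall with h3 | h
      · intro q hq hqd
        rw [h3]
        have hq2 : q ≠ 2 := by
          intro h2
          rw [h2] at hqd
          exact (Nat.not_even_iff_odd.mpr hodd) (even_iff_two_dvd.mpr hqd)
        have := hq.two_le
        omega
      · exact h
    have hidx : N.index = p ^ (N.index).primeFactorsList.length := by
      apply Nat.eq_prime_pow_of_unique_prime_dvd Subgroup.index_ne_zero_of_finite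
      intro q hq hqd
      have hle := h1 q hq hqd
      have hge := hsm q hq (hqd.trans (Subgroup.index_dvd_card N))
      omega
    exact Cfsg.Agent.Lib.Lead.PComplement.hasNormalPComplement_of_normal N hNc hidx
  · -- (3)
    set D := commutator G with hD
    haveI : (N.subgroupOf D).Normal := Subgroup.normal_subgroupOf
    have hKc : (Nat.card ↥(N.subgroupOf D)).Coprime p := by
      have e : Nat.card ↥(N.subgroupOf D) = Nat.card ↥(N ⊓ D) := by
        rw [← Subgroup.subgroupOf_map_subtype, Subgroup.card_map_of_injective D.subtype_injective]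
      rw [e]
      exact Nat.Coprime.coprime_dvd_left (Subgroup.card_dvd_of_le inf_le_left) hNc
    have hKi : ∃ n : ℕ, (N.subgroupOf D).index = p ^ n := by
      have e : (N.subgroupOf D).index = Nat.card ↥(D.map π) := by
        have := Subgroup.relIndex_ker (K := D) π
        rw [hπ, QuotientGroup.ker_mk'] at this
        exact this
      rw [e]
      exact IsPGroup.iff_card.mp (hRp.to_le hDmap)
    obtain ⟨n, hn⟩ := hKi
    exact Cfsg.Agent.Lib.Lead.PComplement.hasNormalPComplement_of_normal (N.subgroupOf D) hKc hn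
  · -- (4)
    intro L hL
    haveI hKn : (N.subgroupOf (commutator G)).Normal := Subgroup.normal_subgroupOf
    have hKc : (Nat.card ↥(N.subgroupOf (commutator G))).Coprime p := by
      have e : Nat.card ↥(N.subgroupOf (commutator G)) = Nat.card ↥(N ⊓ commutator G) := by
        rw [← Subgroup.subgroupOf_map_subtype, Subgroup.card_map_of_injective (commutator G).subtype_injective]
      rw [e]
      exact Nat.Coprime.coprime_dvd_left (Subgroup.card_dvd_of_le inf_le_left) hNc
    have hLK : L ≤ N.subgroupOf (commutator G) := by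
      intro l hl
      rw [Subgroup.mem_subgroupOf]
      have hmem : π l.1 ∈ pCore p (G ⧸ N) := hDmap (Subgroup.mem_map_of_mem π l.2)
      obtain ⟨i, hi⟩ := hRp ⟨_, hmem⟩
      have h3 : (π l.1) ^ p ^ i = 1 := by
        have := congrArg Subtype.val hi
        simpa using this
      have hd1 : orderOf (π l.1) ∣ p ^ i := orderOf_dvd_of_pow_eq_one h3
      have hd2 : orderOf (π l.1) ∣ Nat.card ↥L := by
        have h4 : orderOf (π l.1) ∣ orderOf l.1 := orderOf_map_dvd π l.1
        have h5 : orderOf l.1 = orderOf (⟨l, hl⟩ : ↥L) := by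
          rw [← Subgroup.orderOf_coe (⟨l, hl⟩ : ↥L), ← Subgroup.orderOf_coe l]
        rw [h5] at h4
        exact h4.trans (orderOf_dvd_natCard _)
      have hcop : (p ^ i).Coprime (Nat.card ↥L) := Nat.Coprime.pow_left i hL.symm
      have h6 : orderOf (π l.1) = 1 := Nat.eq_one_of_dvd_coprimes hcop hd1 hd2
      have h7 : π l.1 = 1 := orderOf_eq_one_iff.mp h6
      exact (QuotientGroup.eq_one_iff l.1).mp h7
    exact hLK.trans (Cfsg.Agent.Lib.Lead.PiCore.le_pPrimeCore hKn hKc)
  · -- (5a)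
    intro g hg
    exact hDmap (Subgroup.mem_map_of_mem π hg)
  · -- (5b)
    have e : (pPrimePCore p G).index = (pCore p (G ⧸ N)).index := by
      unfold pPrimePCore
      exact Subgroup.index_comap_of_surjective _ hπs
    rw [e]
    obtain ⟨S⟩ : Nonempty (Sylow p (G ⧸ N)) := inferInstance
    have hRS : pCore p (G ⧸ N) ≤ (S : Subgroup (G ⧸ N)) := Cfsg.Agent.Lib.Helper7.pCore_le_sylow S
    haveI hSn : (S : Subgroup (G ⧸ N)).Normal := normal_of_commutator_le (hcomq.trans hRS)
    have hSR : (S : Subgroup (G ⧸ N)) ≤ pCore p (G ⧸ N) := Cfsg.Agent.H9.le_pCore _ S.2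
    have heq : pCore p (G ⧸ N) = (S : Subgroup (G ⧸ N)) := le_antisymm hRS hSR
    rw [heq]
    exact ((Nat.Prime.coprime_iff_not_dvd hpp).mpr S.not_dvd_index).symm

end main

end Cfsg.Agent.Lib.Helper4.Rank2Solv
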