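import Mathlib
import Cfsg.Prelude.Def_Local
import Cfsg.Prelude.Def_OddOrderLocal
import Cfsg.Agent.Lib.Helper4.Rank2Aut
import Cfsg.Agent.Lib.Helper4.AutP2

/-!
# Automorphisms of narrow `p`-groups of rank at least three (B&G Theorem 5.5 (a), (b))

The abstract input is a characteristic subgroup `T` of index `p`, an element `s ∉ T` and a subgroup
`Z₀` of order at most `p` such that every element of order dividing `p` of `T` commuting with `s`
lies in `Z₀`.
-/

set_option autoImplicit false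

namespace Cfsg.Agent.Lib.Helper4.NarrowAut

open Cfsg Cfsg.Agent.Lib.Helper4.Rank2Aut Cfsg.Agent.Lib.Helper4.QuadGroup
open scoped commutatorElement

section series

variable {R : Type*} [Group R]

/-- one step of the upper central series of `R` relative to `K` -/
def upStep (K N : Subgroup R) : Subgroup R where
  carrier := {x | x ∈ K ∧ ∀ r g : R, g * ⁅x, r⁆ * g⁻¹ ∈ N}
  one_mem' := ⟨K.one_mem, fun r g => by
    rw [commutatorElement_one_left, mul_one, mul_inv_cancel]; exact N.one_mem⟩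
  mul_mem' := by
    rintro x y ⟨hx, hx'⟩ ⟨hy, hy'⟩
    refine ⟨K.mul_mem hx hy, fun r g => ?_⟩
    have e : g * ⁅x * y, r⁆ * g⁻¹ = ((g * x) * ⁅y, r⁆ * (g * x)⁻¹) * (g * ⁅x, r⁆ * g⁻¹) := by
      simp only [commutatorElement_def]; group
    rw [e]
    exact N.mul_mem (hy' r (g * x)) (hx' r g)
  inv_mem' := by
    rintro x ⟨hx, hx'⟩
    refine ⟨K.inv_mem hx, fun r g => ?_⟩
    have e : g * ⁅x⁻¹, r⁆ * g⁻¹ = ((g * x⁻¹) * ⁅x, r⁆ * (g * x⁻¹)⁻¹)⁻¹ := by
      simp only [commutatorElement_def]; group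
    rw [e]
    exact N.inv_mem (hx' r (g * x⁻¹))

theorem mem_upStep {K N : Subgroup R} {x : R} :
    x ∈ upStep K N ↔ x ∈ K ∧ ∀ r g : R, g * ⁅x, r⁆ * g⁻¹ ∈ N := Iff.rfl

theorem upStep_le (K N : Subgroup R) : upStep K N ≤ K := fun _ hx => hx.1

theorem upStep_normal (K N : Subgroup R) (hK : K.Normal) : (upStep K N).Normal := by
  refine ⟨fun x hx h => ?_⟩
  refine ⟨hK.conj_mem x hx.1 h, fun r g => ?_⟩
  have e : g * ⁅h * x * h⁻¹, r⁆ * g⁻¹ = (g * h) * ⁅x, h⁻¹ * r * h⁆ * (g * h)⁻¹ := by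
    simp only [commutatorElement_def]; group
  rw [e]
  exact hx.2 _ _

/-- the upper central series of `R` relative to `K` -/
def upSeq (K : Subgroup R) : ℕ → Subgroup R
  | 0 => ⊥
  | (i + 1) => upStep K (upSeq K i)

theorem upSeq_zero (K : Subgroup R) : upSeq K 0 = ⊥ := rfl

theorem upSeq_succ (K : Subgroup R) (i : ℕ) : upSeq K (i + 1) = upStep K (upSeq K i) := rfl

theorem upSeq_le (K : Subgroup R) (i : ℕ) : upSeq K i ≤ K := by
  cases i with
  | zero => rw [upSeq_zero]; exact bot_le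
  | succ i => rw [upSeq_succ]; exact upStep_le _ _

theorem upSeq_normal (K : Subgroup R) (hK : K.Normal) (i : ℕ) : (upSeq K i).Normal := by
  cases i with
  | zero => rw [upSeq_zero]; infer_instance
  | succ i => rw [upSeq_succ]; exact upStep_normal _ _ hK

theorem upSeq_mono (K : Subgroup R) (hK : K.Normal) (i : ℕ) : upSeq K i ≤ upSeq K (i + 1) := by
  intro x hx
  rw [upSeq_succ, mem_upStep]
  refine ⟨upSeq_le K i hx, fun r g => ?_⟩
  have hn := upSeq_normal K hK i
  apply hn.conj_mem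
  rw [commutatorElement_def]
  have h1 : r * x⁻¹ * r⁻¹ ∈ upSeq K i := hn.conj_mem _ ((upSeq K i).inv_mem hx) r
  have e : x * r * x⁻¹ * r⁻¹ = x * (r * x⁻¹ * r⁻¹) := by group
  rw [e]
  exact (upSeq K i).mul_mem hx h1

theorem upSeq_inv (K : Subgroup R) (hK : ∀ (σ : MulAut R) (x : R), σ x ∈ K ↔ x ∈ K) (i : ℕ) :
    ∀ (σ : MulAut R) (x : R), σ x ∈ upSeq K i ↔ x ∈ upSeq K i := by
  induction i with
  | zero =>
    intro σ x
    rw [upSeq_zero, Subgroup.mem_bot, Subgroup.mem_bot]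
    exact (map_eq_one_iff σ σ.injective)
  | succ i ih =>
    intro σ x
    rw [upSeq_succ, mem_upStep, mem_upStep, hK]
    constructor
    · rintro ⟨h1, h2⟩
      refine ⟨h1, fun r g => ?_⟩
      have := h2 (σ r) (σ g)
      rw [← map_commutatorElement, ← map_inv, ← map_mul, ← map_mul, ih] at this
      exact this
    · rintro ⟨h1, h2⟩
      refine ⟨h1, fun r g => ?_⟩
      have := h2 (σ⁻¹ r) (σ⁻¹ g)
      rw [← ih σ] at this
      rw [map_mul, map_mul, map_inv, map_commutatorElement] at this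
      simpa using this

/-- in a nilpotent group the relative upper central series reaches `K` -/
theorem exists_upSeq_eq [Group.IsNilpotent R] (K : Subgroup R) (hK : K.Normal) :
    ∃ n : ℕ, upSeq K n = K := by
  obtain ⟨n, hn⟩ := Subgroup.nilpotent_iff_lowerCentralSeries.mp (inferInstance : Group.IsNilpotent R)
  refine ⟨n, le_antisymm (upSeq_le K n) ?_⟩
  have key : ∀ i j : ℕ, i + j = n →
      K ⊓ (⊤ : Subgroup R).lowerCentralSeries j ≤ upSeq K i := by
    intro i
    induction i with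
    | zero =>
      intro j hj x hx
      rw [zero_add] at hj
      rw [hj, hn] at hx
      rw [upSeq_zero]
      exact hx.2
    | succ i ih =>
      intro j hj x hx
      rw [upSeq_succ, mem_upStep]
      refine ⟨hx.1, fun r g => ?_⟩
      apply ih (j + 1) (by omega)
      have hLn : ((⊤ : Subgroup R).lowerCentralSeries (j + 1)).Normal := inferInstance
      refine ⟨hK.conj_mem _ ?_ g, hLn.conj_mem _ ?_ g⟩
      · rw [commutatorElement_def]
        have h1 : r * x⁻¹ * r⁻¹ ∈ K := hK.conj_mem _ (K.inv_mem hx.1) r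
        have e : x * r * x⁻¹ * r⁻¹ = x * (r * x⁻¹ * r⁻¹) := by group
        rw [e]
        exact K.mul_mem hx.1 h1
      · rw [Subgroup.lowerCentralSeries_succ]
        exact Subgroup.commutator_mem_commutator hx.2 (Subgroup.mem_top r)
  have := key n 0 (by omega)
  rw [Subgroup.lowerCentralSeries_zero, inf_top_eq] at this
  exact this

end series

section sec

variable {R : Type*} [Group R] [Finite R]

/-- the automorphism induced on the section `K / N` -/
noncomputable def secAut (K N : Subgroup R) (hK : ∀ (σ : MulAut R) (x : R), σ x ∈ K ↔ x ∈ K)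
    (hN : ∀ (σ : MulAut R) (x : R), σ x ∈ N ↔ x ∈ N) [(N.subgroupOf K).Normal] :
    MulAut R →* MulAut (↥K ⧸ N.subgroupOf K) :=
  (quoAut (N.subgroupOf K)).comp
    (MonoidHom.codRestrict (resInv K hK) (stab (N.subgroupOf K)) (fun σ u => by
      rw [Subgroup.mem_subgroupOf, Subgroup.mem_subgroupOf, resInv_apply]; exact hN σ u.1))

theorem secAut_mk (K N : Subgroup R) (hK : ∀ (σ : MulAut R) (x : R), σ x ∈ K ↔ x ∈ K)
    (hN : ∀ (σ : MulAut R) (x : R), σ x ∈ N ↔ x ∈ N) [(N.subgroupOf K).Normal]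
    (σ : MulAut R) (u : ↥K) :
    secAut K N hK hN σ (QuotientGroup.mk u) =
      QuotientGroup.mk (⟨σ u.1, (hK σ u.1).mpr u.2⟩ : ↥K) := rfl

theorem secAut_eq_one (K N : Subgroup R) (hK : ∀ (σ : MulAut R) (x : R), σ x ∈ K ↔ x ∈ K)
    (hN : ∀ (σ : MulAut R) (x : R), σ x ∈ N ↔ x ∈ N) [(N.subgroupOf K).Normal]
    {σ : MulAut R} (h : secAut K N hK hN σ = 1) : ∀ x ∈ K, x⁻¹ * σ x ∈ N := by
  intro x hx
  have h1 := congrArg (fun f : MulAut (↥K ⧸ N.subgroupOf K) => f (QuotientGroup.mk ⟨x, hx⟩)) h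
  simp only [secAut_mk, MulAut.one_apply] at h1
  have h2 := QuotientGroup.eq.mp h1.symm
  rw [Subgroup.mem_subgroupOf] at h2
  simpa using h2

end sec

section main

variable {R : Type*} [Group R] [Finite R] {p : ℕ} [hp' : Fact p.Prime]

/-- automorphism groups of groups of order `1` or `p` have exponent dividing `p - 1` -/
theorem mulAut_pow_eq_one {V : Type*} [Group V] [Finite V] (hcard : Nat.card V ∣ p)
    (φ : MulAut V) : φ ^ (p - 1) = 1 := by
  rcases (Nat.dvd_prime hp'.out).mp hcard with h | h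
  · haveI : Subsingleton V := (Nat.card_eq_one_iff_unique.mp h).1
    apply MulEquiv.ext
    intro x
    exact Subsingleton.elim _ _
  · haveI : IsCyclic V := isCyclic_of_prime_card h
    have h1 : Nat.card (MulAut V) = p - 1 := by
      rw [IsCyclic.card_mulAut V, h, Nat.totient_prime hp'.out]
    haveI : Finite (MulAut V) := Nat.finite_of_card_ne_zero (by
      rw [h1]; have := hp'.out.two_le; omega)
    rw [← h1]
    exact pow_card_eq_one'

/-- the order of a section `K / N` with `#K ≤ p #N` divides `p` -/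
theorem card_quotient_dvd (hR : IsPGroup p R) {K N : Subgroup R} (hNK : N ≤ K)
    [(N.subgroupOf K).Normal] (hc : Nat.card ↥K ≤ p * Nat.card ↥N) :
    Nat.card (↥K ⧸ N.subgroupOf K) ∣ p := by
  have h1 := Subgroup.card_eq_card_quotient_mul_card_subgroup (N.subgroupOf K)
  have h2 : Nat.card ↥(N.subgroupOf K) = Nat.card ↥N :=
    Nat.card_congr (Subgroup.subgroupOfEquivOfLe hNK).toEquiv
  rw [h2] at h1
  have hpos : 0 < Nat.card ↥N := Nat.card_pos
  have h3 : Nat.card (↥K ⧸ N.subgroupOf K) ≤ p := by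
    rw [h1] at hc
    exact Nat.le_of_mul_le_mul_right hc hpos
  have hQ : IsPGroup p (↥K ⧸ N.subgroupOf K) := (hR.to_subgroup K).to_quotient _
  obtain ⟨k, hk⟩ := IsPGroup.iff_card.mp hQ
  rw [hk] at h3 ⊢
  have hk1 : k ≤ 1 := by
    by_contra hlt
    rw [not_le] at hlt
    have h4 : p ^ 2 ≤ p ^ k := Nat.pow_le_pow_right hp'.out.pos hlt
    have h5 : p < p ^ 2 := by
      have := hp'.out.one_lt
      nlinarith
    omega
  calc p ^ k ∣ p ^ 1 := pow_dvd_pow p hk1
    _ = p := pow_one p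

/-- the data extracted from a narrow `p`-group of rank at least three -/
structure NData (p : ℕ) (T Z₀ : Subgroup R) (s : R) : Prop where
  inv : ∀ (σ : MulAut R) (x : R), σ x ∈ T ↔ x ∈ T
  index : T.index = p
  card : Nat.card ↥Z₀ ≤ p
  cent : ∀ x ∈ T, x ^ p = 1 → x * s = s * x → x ∈ Z₀

theorem normal_of_inv {K : Subgroup R} (hK : ∀ (σ : MulAut R) (x : R), σ x ∈ K ↔ x ∈ K) :
    K.Normal := by
  refine ⟨fun x hx g => ?_⟩
  have := (hK (MulAut.conj g) x).mpr hx
  rwa [MulAut.conj_apply] at this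

/-- the counting step: the relative upper central series of `H ∩ T` grows by at most `p` -/
theorem card_upSeq_succ_le {T Z₀ : Subgroup R} {s : R} (hD : NData p T Z₀ s) (H : Subgroup R)
    (hH : ∀ x ∈ H, x ^ p = 1) (i : ℕ) :
    Nat.card ↥(upSeq (H ⊓ T) (i + 1)) ≤ p * Nat.card ↥(upSeq (H ⊓ T) i) := by
  classical
  set H₀ := H ⊓ T with hH₀
  let f : ↥(upSeq H₀ (i + 1)) → ↥(upSeq H₀ i) := fun x =>
    ⟨⁅x.1, s⁆, by
      have := x.2.2 s 1
      simpa using this⟩
  have hf : ∀ x y : ↥(upSeq H₀ (i + 1)), f x = f y → (y.1⁻¹ * x.1) ∈ Z₀ := by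
    intro x y hxy
    have h1 : ⁅x.1, s⁆ = ⁅y.1, s⁆ := congrArg Subtype.val hxy
    have hmem : y.1⁻¹ * x.1 ∈ H₀ :=
      H₀.mul_mem (H₀.inv_mem (upSeq_le H₀ _ y.2)) (upSeq_le H₀ _ x.2)
    apply hD.cent _ hmem.2 (hH _ hmem.1)
    rw [commutatorElement_def, commutatorElement_def] at h1
    have h2 : x.1 * s * x.1⁻¹ = y.1 * s * y.1⁻¹ := mul_right_cancel h1
    calc y.1⁻¹ * x.1 * s = y.1⁻¹ * (x.1 * s * x.1⁻¹) * x.1 := by group
      _ = y.1⁻¹ * (y.1 * s * y.1⁻¹) * x.1 := by rw [h2]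
      _ = s * (y.1⁻¹ * x.1) := by group
  let g : ↥(upSeq H₀ (i + 1)) → ↥(upSeq H₀ i) × ↥Z₀ := fun x =>
    (f x, ⟨(Function.invFun f (f x)).1⁻¹ * x.1,
      hf x (Function.invFun f (f x)) (Function.invFun_eq ⟨x, rfl⟩).symm⟩)
  have hg : Function.Injective g := by
    intro x x' hxx
    have h1 : f x = f x' := congrArg Prod.fst hxx
    have h2 := congrArg (fun u : ↥(upSeq H₀ i) × ↥Z₀ => (u.2 : R)) hxx
    simp only [g] at h2
    rw [h1] at h2
    apply Subtype.ext
    exact mul_left_cancel h2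
  have h3 := Nat.card_le_card_of_injective g hg
  rw [Nat.card_prod] at h3
  calc Nat.card ↥(upSeq H₀ (i + 1)) ≤ Nat.card ↥(upSeq H₀ i) * Nat.card ↥Z₀ := h3
    _ ≤ Nat.card ↥(upSeq H₀ i) * p := Nat.mul_le_mul_left _ hD.card
    _ = p * Nat.card ↥(upSeq H₀ i) := mul_comm _ _

/-- facts about the action on a section of order dividing `p` -/
theorem sec_facts (K N : Subgroup R) (hK : ∀ (σ : MulAut R) (x : R), σ x ∈ K ↔ x ∈ K)
    (hN : ∀ (σ : MulAut R) (x : R), σ x ∈ N ↔ x ∈ N) [(N.subgroupOf K).Normal]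
    (hcard : Nat.card (↥K ⧸ N.subgroupOf K) ∣ p) :
    (∀ σ : MulAut R, ∀ x ∈ K, x⁻¹ * (σ ^ (p - 1)) x ∈ N) ∧
      (∀ c ∈ commutator (MulAut R), ∀ x ∈ K, x⁻¹ * c x ∈ N) := by
  set φ := secAut K N hK hN with hφ
  constructor
  · intro σ x hx
    apply secAut_eq_one K N hK hN _ x hx
    rw [map_pow]
    exact mulAut_pow_eq_one hcard _
  · intro c hc x hx
    apply secAut_eq_one K N hK hN _ x hx
    have hle : commutator (MulAut R) ≤ φ.ker := by
      rw [commutator_le_iff']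
      intro a b
      rw [MonoidHom.mem_ker, map_commutatorElement, commutatorElement_eq_one_iff_mul_comm]
      exact Cfsg.Agent.Lib.Helper4.AutP2.mulAut_comm_of_card_dvd_prime hcard _ _
    exact MonoidHom.mem_ker.mp (hle hc)

/-- **B&G Theorem 5.5 (a), (b)**, abstract form -/
theorem main (hp : p ≠ 2) (hR : IsPGroup p R) {T Z₀ : Subgroup R} {s : R}
    (hD : NData p T Z₀ s) :
    (∀ (σ : MulAut R) (m : ℕ), σ ^ m = 1 → m.Coprime p → σ ^ (p - 1) = 1) ∧
      (∀ c ∈ commutator (MulAut R), ∃ a : ℕ, c ^ p ^ a = 1) := by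
  classical
  have hpp := hp'.out
  obtain ⟨C, hC⟩ := exists_crit hR
  have hmul : ∀ a ∈ C, ∀ b ∈ C, (a * b) ^ p = a ^ p * b ^ p :=
    fun a ha b hb => hC.mul_pow hp ha hb
  set H := omega C hmul with hHdef
  have hHinv : ∀ (σ : MulAut R) (x : R), σ x ∈ H ↔ x ∈ H := by
    intro σ x
    rw [hHdef, mem_omega, mem_omega, hC.mem_iff σ x, ← map_pow]
    constructor
    · rintro ⟨h1, h2⟩
      refine ⟨h1, ?_⟩
      rw [← map_one σ] at h2
      exact σ.injective h2
    · rintro ⟨h1, h2⟩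
      exact ⟨h1, by rw [h2, map_one]⟩
  have hHexp : ∀ x ∈ H, x ^ p = 1 := fun x hx => hx.2
  set H₀ := H ⊓ T with hH₀
  have hH₀inv : ∀ (σ : MulAut R) (x : R), σ x ∈ H₀ ↔ x ∈ H₀ := by
    intro σ x
    rw [hH₀, Subgroup.mem_inf, Subgroup.mem_inf, hHinv, hD.inv]
  have hH₀n : H₀.Normal := normal_of_inv hH₀inv
  have hTn : T.Normal := normal_of_inv hD.inv
  haveI : Group.IsNilpotent R := hR.isNilpotent
  obtain ⟨n, hn⟩ := exists_upSeq_eq H₀ hH₀n
  have hUinv : ∀ i, ∀ (σ : MulAut R) (x : R), σ x ∈ upSeq H₀ i ↔ x ∈ upSeq H₀ i :=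
    upSeq_inv H₀ hH₀inv
  have hUn : ∀ i, (upSeq H₀ i).Normal := upSeq_normal H₀ hH₀n
  -- stability
  have hstab : ∀ σ : MulAut R, (∀ i, ∀ x ∈ upSeq H₀ (i + 1), x⁻¹ * σ x ∈ upSeq H₀ i) →
      (∀ x ∈ H, x⁻¹ * σ x ∈ T) → ∀ m : ℕ, σ ^ m = 1 → m.Coprime p → σ = 1 := by
    intro σ h1 h2 m hm hcop
    have hfixU : ∀ i, ∀ x ∈ upSeq H₀ i, σ x = x := by
      intro i
      induction i with
      | zero =>
        intro x hx
        rw [upSeq_zero, Subgroup.mem_bot] at hx
        rw [hx, map_one]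
      | succ i ih =>
        intro x hx
        set w := x⁻¹ * σ x with hw
        have hwU : w ∈ upSeq H₀ i := h1 i x hx
        have hσx : σ x = x * w := by rw [hw]; group
        have hwm : w ^ m = 1 := pow_eq_one_of_stab σ hm hσx (ih w hwU)
        have hwp : w ^ p = 1 := hHexp w (upSeq_le H₀ i hwU).1
        have hw1 : w = 1 := eq_one_of_pow_coprime hwm hwp hcop
        rw [hσx, hw1, mul_one]
    have hfixH : ∀ x ∈ H, σ x = x := by
      intro x hx
      set w := x⁻¹ * σ x with hw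
      have hwH : w ∈ H := H.mul_mem (H.inv_mem hx) ((hHinv σ x).mpr hx)
      have hwH₀ : w ∈ upSeq H₀ n := by rw [hn]; exact ⟨hwH, h2 x hx⟩
      have hσx : σ x = x * w := by rw [hw]; group
      have hwm : w ^ m = 1 := pow_eq_one_of_stab σ hm hσx (hfixU n w hwH₀)
      have hw1 : w = 1 := eq_one_of_pow_coprime hwm (hHexp w hwH) hcop
      rw [hσx, hw1, mul_one]
    exact hC.eq_one_of_fix_omega hR hmul σ hm hcop hfixH
  -- the sections
  have hsecU : ∀ i, (∀ σ : MulAut R, ∀ x ∈ upSeq H₀ (i + 1),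
        x⁻¹ * (σ ^ (p - 1)) x ∈ upSeq H₀ i) ∧
      (∀ c ∈ commutator (MulAut R), ∀ x ∈ upSeq H₀ (i + 1), x⁻¹ * c x ∈ upSeq H₀ i) := by
    intro i
    haveI := hUn i
    haveI : ((upSeq H₀ i).subgroupOf (upSeq H₀ (i + 1))).Normal := Subgroup.normal_subgroupOf
    exact sec_facts _ _ (hUinv (i + 1)) (hUinv i)
      (card_quotient_dvd hR (upSeq_mono H₀ hH₀n i) (card_upSeq_succ_le hD H hHexp i))
  have hsecT : (∀ σ : MulAut R, ∀ x ∈ H, x⁻¹ * (σ ^ (p - 1)) x ∈ T) ∧
      (∀ c ∈ commutator (MulAut R), ∀ x ∈ H, x⁻¹ * c x ∈ T) := by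
    haveI := hTn
    haveI : (T.subgroupOf H).Normal := Subgroup.normal_subgroupOf
    have hcard : Nat.card (↥H ⧸ T.subgroupOf H) ∣ p := by
      rw [← Subgroup.index_eq_card, ← hD.index]
      exact Subgroup.relIndex_dvd_index_of_normal T H
    exact sec_facts _ _ hHinv hD.inv hcard
  constructor
  · intro σ m hm hcop
    apply hstab (σ ^ (p - 1)) (fun i x hx => (hsecU i).1 σ x hx) (fun x hx => hsecT.1 σ x hx) m ?_
      hcop
    rw [← pow_mul, mul_comm, pow_mul, hm, one_pow]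
  · intro c hc
    obtain ⟨a, m, hm, hN⟩ :=
      Nat.exists_eq_pow_mul_and_not_dvd (orderOf_pos c).ne' p hpp.ne_one
    refine ⟨a, ?_⟩
    have hc' : c ^ p ^ a ∈ commutator (MulAut R) := Subgroup.pow_mem _ hc _
    apply hstab (c ^ p ^ a) (fun i x hx => (hsecU i).2 _ hc' x hx)
      (fun x hx => hsecT.2 _ hc' x hx) m ?_
      ((Nat.Prime.coprime_iff_not_dvd hpp).mpr hm).symm
    rw [← pow_mul, ← hN, pow_orderOf_eq_one]

end main

end Cfsg.Agent.Lib.Helper4.NarrowAut
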