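import Mathlib
import Cfsg.Prelude.Def_Local
import Cfsg.Prelude.Def_OddOrderLocal
import Cfsg.Agent.Lib.Helper4.NarrowAut
import Cfsg.Agent.S1453
import Cfsg.Agent.S3078
import Cfsg.Agent.H1.ElemAbelian
import Cfsg.Agent.H1.NormalRankTwo

/-!
# Narrow `p`-groups: extracting the data for `NarrowAut.main`
-/

set_option autoImplicit false

namespace Cfsg.Agent.Lib.Helper4.NarrowData

open Cfsg Cfsg.Agent.Lib.Helper4.NarrowAut
open scoped commutatorElement

variable {R : Type*} [Group R] [Finite R] {p : ℕ} [hp' : Fact p.Prime]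

omit [Finite R] hp' in
/-- a maximal elementary abelian subgroup contains the elements of order `p` centralizing it -/
theorem mem_of_max {E : Subgroup R} (hE : IsElementaryAbelian p E)
    (hEmax : ∀ B : Subgroup R, IsElementaryAbelian p B → E ≤ B → B = E) {x : R} (hxp : x ^ p = 1)
    (hx : ∀ e ∈ E, e * x = x * e) : x ∈ E := by
  have hxc : x ∈ Subgroup.centralizer (E : Set R) := by
    rw [Subgroup.mem_centralizer_iff]
    intro e he
    exact hx e he
  have hB := Cfsg.Agent.H1.isElementaryAbelian_sup_zpowers p E hE x hxc hxp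
  have hBE := hEmax _ hB le_sup_left
  have h1 : x ∈ E ⊔ Subgroup.zpowers x := Subgroup.mem_sup_right (Subgroup.mem_zpowers x)
  rw [hBE] at h1
  exact h1

/-- the data of `NarrowAut` from a maximal elementary abelian subgroup of order `p ^ 2` -/
theorem exists_ndata (hp : p ≠ 2) (hR : IsPGroup p R) (hr : ¬ PRankLE p 2 R)
    (E : Subgroup R) (hE : IsElementaryAbelian p E) (hE2 : Nat.card E = p ^ 2)
    (hEmax : ∀ B : Subgroup R, IsElementaryAbelian p B → E ≤ B → B = E) :
    ∃ (T Z₀ : Subgroup R) (s : R), NData p T Z₀ s := by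
  have hpp := hp'.out
  obtain ⟨hET, hZcard, -, hTchar, hTidx⟩ := Cfsg.Agent.S1453.result p hp hR hr E hE hE2 hEmax
  obtain ⟨W, hW⟩ : ∃ W, W = Subgroup.closure
      {x : R | x ∈ Subgroup.upperCentralSeries R 2 ∧ x ^ p = 1} := ⟨_, rfl⟩
  obtain ⟨Z, hZ⟩ : ∃ Z, Z = Subgroup.closure {x : R | x ∈ Subgroup.center R ∧ x ^ p = 1} :=
    ⟨_, rfl⟩
  rw [← hW] at hET hTchar hTidx
  rw [← hZ] at hZcard
  set T := Subgroup.centralizer (W : Set R) with hT
  have hmemZ : ∀ x, x ∈ Z ↔ x ∈ Subgroup.center R ∧ x ^ p = 1 := by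
    intro x
    have hcc : ∀ a ∈ Subgroup.center R, ∀ b ∈ Subgroup.center R, a * b = b * a :=
      fun a ha b _ => (Subgroup.mem_center_iff.mp ha b).symm
    have h1 := Cfsg.Agent.S3078.mem_omegaOne_iff_of_comm p (Subgroup.center R) hcc x
    unfold Cfsg.omegaOne at h1
    rw [hZ]
    exact h1
  have hZE : Z ≤ E := by
    intro x hx
    obtain ⟨hxc, hxp⟩ := (hmemZ x).mp hx
    exact mem_of_max hE hEmax hxp (fun e _ => Subgroup.mem_center_iff.mp hxc e)
  have hZT : Z ≤ T := by
    intro x hx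
    obtain ⟨hxc, -⟩ := (hmemZ x).mp hx
    rw [hT, Subgroup.mem_centralizer_iff]
    intro w _
    exact Subgroup.mem_center_iff.mp hxc w
  obtain ⟨s, hsE, hsT⟩ := SetLike.not_le_iff_exists.mp hET
  -- `E ⊓ T = Z`
  have hETZ : E ⊓ T = Z := by
    symm
    apply Subgroup.eq_of_le_of_card_ge (le_inf hZE hZT)
    rw [hZcard]
    have h1 : Nat.card ↥(E ⊓ T) ∣ p ^ 2 := by
      rw [← hE2]; exact Subgroup.card_dvd_of_le inf_le_left
    obtain ⟨k, hk, hkc⟩ := (Nat.dvd_prime_pow hpp).mp h1
    have hk2 : k ≠ 2 := by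
      intro h2
      rw [h2, ← hE2] at hkc
      have h9 : E ⊓ T = E := Subgroup.eq_of_le_of_card_ge inf_le_left hkc.ge
      have h10 : s ∈ E ⊓ T := by rw [h9]; exact hsE
      exact hsT h10.2
    have hk1 : k ≤ 1 := by omega
    rw [hkc]
    calc p ^ k ≤ p ^ 1 := Nat.pow_le_pow_right hpp.pos hk1
      _ = p := pow_one p
  have hEc : ∀ a ∈ E, ∀ b ∈ E, a * b = b * a := by
    intro a ha b hb
    have h1 := hE.1.is_comm.comm ⟨a, ha⟩ ⟨b, hb⟩
    exact congrArg Subtype.val h1
  refine ⟨T, Z, s, ?_, hTidx, hZcard.le, ?_⟩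
  · intro σ x
    have := hTchar.fixed σ
    constructor
    · intro h
      rw [← this]
      exact h
    · intro h
      rw [← this] at h
      exact h
  · intro x hxT hxp hxs
    -- `x` centralizes `E`
    set D : Subgroup R := E ⊓ Subgroup.centralizer ({x} : Set R) with hD
    have hZD : Z ≤ D := by
      intro z hz
      refine ⟨hZE hz, ?_⟩
      show z ∈ Subgroup.centralizer ({x} : Set R)
      rw [Subgroup.mem_centralizer_iff]
      intro y hy
      rw [Set.mem_singleton_iff] at hy
      rw [hy]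
      exact Subgroup.mem_center_iff.mp ((hmemZ z).mp hz).1 x
    have hsD : s ∈ D := by
      refine ⟨hsE, ?_⟩
      show s ∈ Subgroup.centralizer ({x} : Set R)
      rw [Subgroup.mem_centralizer_iff]
      intro y hy
      rw [Set.mem_singleton_iff] at hy
      rw [hy]
      exact hxs
    have hDE : D = E := by
      apply Subgroup.eq_of_le_of_card_ge inf_le_left
      rw [hE2]
      have h1 : Nat.card ↥D ∣ p ^ 2 := by
        rw [← hE2]; exact Subgroup.card_dvd_of_le inf_le_left
      obtain ⟨k, hk, hkc⟩ := (Nat.dvd_prime_pow hpp).mp h1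
      have hk2 : k = 2 := by
        by_contra hne
        have hk1 : k ≤ 1 := by omega
        have h3 : Nat.card ↥D ≤ p := by
          rw [hkc]
          calc p ^ k ≤ p ^ 1 := Nat.pow_le_pow_right hpp.pos hk1
            _ = p := pow_one p
        have hZD' : Z = D := Subgroup.eq_of_le_of_card_ge hZD (by rw [hZcard]; exact h3)
        have : s ∈ Z := hZD' ▸ hsD
        exact hsT (hZT this)
      rw [hkc, hk2]
    have hxE : x ∈ E := by
      apply mem_of_max hE hEmax hxp
      intro e he
      have : e ∈ D := hDE ▸ he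
      have h2 := Subgroup.mem_centralizer_iff.mp this.2 x (Set.mem_singleton x)
      exact h2.symm
    have : x ∈ E ⊓ T := ⟨hxE, hxT⟩
    rw [hETZ] at this
    exact this

/-- if the centralizer of some elementary abelian subgroup has rank at most two (and the group has
rank at least three), there is a maximal elementary abelian subgroup of order `p ^ 2` -/
theorem exists_max_elem (hR : IsPGroup p R) (hr : ¬ PRankLE p 2 R)
    (E₀ : Subgroup R) (hE₀ : IsElementaryAbelian p E₀)
    (hc : PRankLE p 2 ↥(Subgroup.centralizer (E₀ : Set R))) :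
    ∃ E : Subgroup R, IsElementaryAbelian p E ∧ Nat.card E = p ^ 2 ∧
      ∀ B : Subgroup R, IsElementaryAbelian p B → E ≤ B → B = E := by
  classical
  have hpp := hp'.out
  -- choose `E ⊇ E₀` elementary abelian of maximal order
  have hfin : {B : Subgroup R | IsElementaryAbelian p B ∧ E₀ ≤ B}.Finite := Set.toFinite _
  obtain ⟨E, ⟨hE, hE₀E⟩, hmax⟩ :=
    Set.exists_max_image _ (fun B : Subgroup R => Nat.card ↥B) hfin ⟨E₀, hE₀, le_rfl⟩
  have hEmax : ∀ B : Subgroup R, IsElementaryAbelian p B → E ≤ B → B = E := by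
    intro B hB hEB
    exact (Subgroup.eq_of_le_of_card_ge hEB (hmax B ⟨hB, hE₀E.trans hEB⟩)).symm
  have hEc : ∀ a ∈ E, ∀ b ∈ E, a * b = b * a := by
    intro a ha b hb
    have h1 := hE.1.is_comm.comm ⟨a, ha⟩ ⟨b, hb⟩
    exact congrArg Subtype.val h1
  -- `#E ≤ p ^ 2`
  have hEle : E ≤ Subgroup.centralizer (E₀ : Set R) := by
    intro e he
    rw [Subgroup.mem_centralizer_iff]
    intro y hy
    exact hEc y (hE₀E hy) e he
  have hcard_le : Nat.card ↥E ≤ p ^ 2 := by
    set E' := E.subgroupOf (Subgroup.centralizer (E₀ : Set R)) with hE'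
    have hc1 : IsMulCommutative ↥E' := by
      refine ⟨⟨fun a b => ?_⟩⟩
      apply Subtype.ext
      apply Subtype.ext
      exact hEc a.1.1 a.2 b.1.1 b.2
    have hc2 : ∀ a ∈ E', a ^ p = 1 := by
      intro a ha
      apply Subtype.ext
      rw [Subgroup.coe_pow, Subgroup.coe_one]
      exact hE.2 a.1 ha
    have h1 := hc E' hc1 hc2
    have h2 : Nat.card ↥E' = Nat.card ↥E :=
      Nat.card_congr (Subgroup.subgroupOfEquivOfLe hEle).toEquiv
    rw [h2] at h1
    exact h1
  refine ⟨E, hE, ?_, hEmax⟩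
  obtain ⟨k, hk⟩ := IsPGroup.iff_card.mp (hR.to_subgroup E)
  have hk2 : k ≤ 2 := by
    rw [hk] at hcard_le
    exact (Nat.pow_le_pow_iff_right hpp.one_lt).mp hcard_le
  rcases Nat.lt_or_ge k 2 with hlt | hge
  · exfalso
    apply hr
    -- all elements of order `p` lie in `E`, and `#E ≤ p`
    obtain ⟨X, hXc, hXp, hXcard⟩ : ∃ X : Subgroup R, IsMulCommutative X ∧ (∀ a ∈ X, a ^ p = 1) ∧
        p ^ 2 < Nat.card X := by
      unfold Cfsg.PRankLE at hr
      push Not at hr
      exact hr
    have htop : (⊤ : Subgroup R) ≠ ⊥ := by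
      intro h
      have h1 : Nat.card ↥X ≤ Nat.card ↥(⊤ : Subgroup R) := Subgroup.card_le_of_le le_top
      rw [h, Subgroup.card_bot] at h1
      have : 1 < p ^ 2 := Nat.one_lt_pow (by norm_num) hpp.one_lt
      omega
    obtain ⟨z, -, hzc, hzo⟩ := Cfsg.Agent.H1.exists_central_order_p hR (⊤ : Subgroup R) htop
    have hzp : z ^ p = 1 := by rw [← hzo]; exact pow_orderOf_eq_one z
    have hzE : z ∈ E :=
      mem_of_max hE hEmax hzp (fun e _ => Subgroup.mem_center_iff.mp hzc e)
    have hz1 : z ≠ 1 := by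
      intro h
      rw [h, orderOf_one] at hzo
      exact hpp.one_lt.ne hzo
    have hk1 : k = 1 := by
      have h1 : p ∣ Nat.card ↥E := by
        have := orderOf_dvd_natCard (⟨z, hzE⟩ : ↥E)
        rw [Subgroup.orderOf_mk, hzo] at this
        exact this
      rw [hk] at h1
      have : k ≠ 0 := by
        intro h0
        rw [h0, pow_zero] at h1
        exact hpp.one_lt.ne' (Nat.dvd_one.mp h1)
      omega
    rw [hk1, pow_one] at hk
    -- `E` is central
    have hEcen : E ≤ Subgroup.center R := by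
      haveI : Fact (Nat.card ↥E).Prime := ⟨hk ▸ hpp⟩
      have h1 := Subgroup.eq_bot_or_eq_top_of_prime_card ((Subgroup.center R).subgroupOf E)
      rcases h1 with h1 | h1
      · exfalso
        have : (⟨z, hzE⟩ : ↥E) ∈ (Subgroup.center R).subgroupOf E := Subgroup.mem_subgroupOf.mpr hzc
        rw [h1, Subgroup.mem_bot] at this
        exact hz1 (congrArg Subtype.val this)
      · rw [Subgroup.subgroupOf_eq_top] at h1
        exact h1
    have hall : ∀ x : R, x ^ p = 1 → x ∈ E := fun x hx =>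
      mem_of_max hE hEmax hx (fun e he => Subgroup.mem_center_iff.mp (hEcen he) x |>.symm ▸ rfl)
    have hXE : X ≤ E := fun x hx => hall x (hXp x hx)
    have h1 := Subgroup.card_le_of_le hXE
    rw [hk] at h1
    have : p < p ^ 2 := by
      have := hpp.one_lt
      nlinarith
    omega
  · have : k = 2 := by omega
    rw [hk, this]

/-- **B&G Theorem 5.5 (a), (b)** for a `p`-group of rank at least three in which some elementary
abelian subgroup has a centralizer of rank at most two -/
theorem narrow_aut (hp : p ≠ 2) (hR : IsPGroup p R) (hr : ¬ PRankLE p 2 R)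
    (E₀ : Subgroup R) (hE₀ : IsElementaryAbelian p E₀)
    (hc : PRankLE p 2 ↥(Subgroup.centralizer (E₀ : Set R))) :
    (∀ (σ : MulAut R) (m : ℕ), σ ^ m = 1 → m.Coprime p → σ ^ (p - 1) = 1) ∧
      (∀ c ∈ commutator (MulAut R), ∃ a : ℕ, c ^ p ^ a = 1) := by
  obtain ⟨E, hE, hE2, hEmax⟩ := exists_max_elem hR hr E₀ hE₀ hc
  obtain ⟨T, Z₀, s, hD⟩ := exists_ndata hp hR hr E hE hE2 hEmax
  exact main hp hR hD

end Cfsg.Agent.Lib.Helper4.NarrowData
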