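import Mathlib
import Cfsg.Prelude.Def_Local
import Cfsg.Prelude.Def_OddOrderLocal
import Cfsg.Agent.Lib.Helper4.Rank2Solv
import Cfsg.Agent.H1.Cores
import Cfsg.Agent.S0044

/-!
# Solvable groups of odd order whose Fitting subgroup has rank at most two (B&G Theorem 4.20)
-/

set_option autoImplicit false

namespace Cfsg.Agent.Lib.Helper4.Rank2Fit

open Cfsg Cfsg.Agent.Lib.Helper4.Rank2Aut Cfsg.Agent.Lib.Helper4.Rank2Aut2
open Cfsg.Agent.Lib.Helper4.Rank2Solv
open scoped commutatorElement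

section basic

variable {G : Type*} [Group G]

theorem eq_one_of_pow_pow_coprime {w : G} {m n : ℕ} (hm : w ^ m = 1) (hn : w ^ n = 1)
    (h : m.Coprime n) : w = 1 := by
  have h1 : orderOf w ∣ m := orderOf_dvd_of_pow_eq_one hm
  have h2 : orderOf w ∣ n := orderOf_dvd_of_pow_eq_one hn
  have h3 : orderOf w ∣ Nat.gcd m n := Nat.dvd_gcd h1 h2
  rw [h] at h3
  exact orderOf_eq_one_iff.mp (Nat.dvd_one.mp h3)

/-- the rank does not grow along injective homomorphisms -/
theorem pRankLE_of_injective {H : Type*} [Group H] {p k : ℕ} (f : H →* G)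
    (hf : Function.Injective f) (h : PRankLE p k G) : PRankLE p k H := by
  intro B hB hBe
  have hBc : IsMulCommutative ↥(B.map f) := by
    have := hB
    infer_instance
  have := h (B.map f) hBc (by
    rintro _ ⟨b, hb, rfl⟩
    rw [← map_pow, hBe b hb, map_one])
  rwa [Subgroup.card_map_of_injective hf] at this

theorem pRankLE_of_le {p k : ℕ} {H K : Subgroup G} (hHK : H ≤ K) (h : PRankLE p k ↥K) :
    PRankLE p k ↥H :=
  pRankLE_of_injective (Subgroup.inclusion hHK) (Subgroup.inclusion_injective hHK) h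

theorem mem_centralizer_of_conjNormal_eq_one {N : Subgroup G} [N.Normal] (g : G)
    (hg : (MulAut.conjNormal g : MulAut ↥N) = 1) : g ∈ Subgroup.centralizer (N : Set G) := by
  rw [Subgroup.mem_centralizer_iff]
  intro v hv
  have := congrArg (fun k : MulAut ↥N => ((k ⟨v, hv⟩ : ↥N) : G)) hg
  simp only [MulAut.conjNormal_apply, MulAut.one_apply] at this
  rw [mul_inv_eq_iff_eq_mul] at this
  exact this.symm

theorem mem_centralizer_sup {A B : Subgroup G} {z : G} (hA : z ∈ Subgroup.centralizer (A : Set G))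
    (hB : z ∈ Subgroup.centralizer (B : Set G)) :
    z ∈ Subgroup.centralizer ((A ⊔ B : Subgroup G) : Set G) := by
  have h1 : A ≤ Subgroup.centralizer ((Subgroup.zpowers z : Subgroup G) : Set G) := by
    rw [Subgroup.le_centralizer_iff, Subgroup.zpowers_le]; exact hA
  have h2 : B ≤ Subgroup.centralizer ((Subgroup.zpowers z : Subgroup G) : Set G) := by
    rw [Subgroup.le_centralizer_iff, Subgroup.zpowers_le]; exact hB
  have h3 := sup_le h1 h2
  rw [Subgroup.le_centralizer_iff, Subgroup.zpowers_le] at h3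
  exact h3

/-- the normalizer of a subgroup normalizes its characteristic subgroups -/
theorem normalizer_le_normalizer_of_char (U : Subgroup G) (T : Subgroup ↥U)
    (hT : T.Characteristic) :
    Subgroup.normalizer (U : Set G) ≤
      Subgroup.normalizer ((T.map U.subtype : Subgroup G) : Set G) := by
  intro g hg
  set φ : MulAut ↥U := U.normalizerMonoidHom ⟨g, hg⟩ with hφ
  have hφa : ∀ x : U, ((φ x : U) : G) = g * x * g⁻¹ := fun x => rfl
  have key : ∀ x : U, x ∈ T ↔ φ x ∈ T := by
    intro x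
    have := (Subgroup.characteristic_iff_comap_eq.mp hT) φ
    conv_lhs => rw [← this]
    exact Subgroup.mem_comap
  rw [Subgroup.mem_normalizer_iff]
  intro h
  constructor
  · rintro ⟨x, hx, rfl⟩
    exact ⟨φ x, (key x).mp hx, hφa x⟩
  · rintro ⟨y, hy, hyeq⟩
    refine ⟨φ.symm y, (key _).mpr ?_, ?_⟩
    · rw [MulEquiv.apply_symm_apply]; exact hy
    · have h1 := hφa (φ.symm y)
      rw [MulEquiv.apply_symm_apply] at h1
      have h2 : g * ((φ.symm y : U) : G) * g⁻¹ = g * h * g⁻¹ := by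
        rw [← h1]; exact hyeq
      have h3 := congrArg (fun z => g⁻¹ * z * g) h2
      simpa [mul_assoc] using h3

/-- if `σ ^ (q ^ k) = 1` and there are no elements of order `q`, then `σ = 1` -/
theorem eq_one_of_pow_prime_pow {σ : G} {q : ℕ} (h : ∀ τ : G, τ ^ q = 1 → τ = 1) :
    ∀ k : ℕ, σ ^ q ^ k = 1 → σ = 1 := by
  intro k
  induction k with
  | zero => intro hk; simpa using hk
  | succ k ih =>
    intro hk
    apply ih
    apply h
    rw [← pow_mul, ← pow_succ]
    exact hk

end basic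

section fit

variable {G : Type*} [Group G] [Finite G]

/-- the `q'`-part of the Fitting subgroup -/
def fitPrime (q : ℕ) (G : Type*) [Group G] : Subgroup G :=
  ⨆ (r : Nat.Primes) (_ : (r : ℕ) ≠ q), pCore (r : ℕ) G

instance fitPrime_normal (q : ℕ) : (fitPrime q G).Normal := by
  unfold fitPrime
  rw [iSup]
  apply Subgroup.sSup_normal
  rintro _ ⟨r, rfl⟩
  show (⨆ (_ : (r : ℕ) ≠ q), pCore (r : ℕ) G).Normal
  rw [iSup]
  apply Subgroup.sSup_normal
  rintro _ ⟨hr, rfl⟩
  exact Cfsg.Agent.H1.pCore_normal _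

theorem pCore_le_fitPrime {q r : ℕ} (hr : r.Prime) (hrq : r ≠ q) : pCore r G ≤ fitPrime q G :=
  le_iSup₂_of_le (⟨r, hr⟩ : Nat.Primes) hrq le_rfl

theorem fitPrime_le_pPrimeCore {q : ℕ} (hq : q.Prime) : fitPrime q G ≤ pPrimeCore q G := by
  unfold fitPrime
  apply iSup₂_le
  intro r hrq
  exact Cfsg.Agent.H1.le_pPrimeCore inferInstance
    (Cfsg.Agent.H1.pCore_coprime_of_ne hq r.2 hrq)

theorem card_fitPrime_coprime {q : ℕ} (hq : q.Prime) : (Nat.card ↥(fitPrime q G)).Coprime q :=
  Nat.Coprime.coprime_dvd_left (Subgroup.card_dvd_of_le (fitPrime_le_pPrimeCore hq))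
    (Cfsg.Agent.H1.pPrimeCore_coprime q)

theorem fitting_le_sup (q : ℕ) (hq : q.Prime) :
    fittingSubgroup G ≤ pCore q G ⊔ fitPrime q G := by
  rw [Cfsg.Agent.H1.fittingSubgroup_eq_iSup_pCore]
  apply iSup_le
  intro r
  by_cases hrq : (r : ℕ) = q
  · rw [hrq]; exact le_sup_left
  · exact (pCore_le_fitPrime r.2 hrq).trans le_sup_right

theorem pCore_le_fitting' (q : ℕ) (hq : q.Prime) : pCore q G ≤ fittingSubgroup G := by
  haveI := Fact.mk hq
  exact Cfsg.Agent.H1.le_fittingSubgroup inferInstance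
    (Cfsg.Agent.H1.pCore_isPGroup (G := G) q).isNilpotent

theorem fitPrime_le_fitting (q : ℕ) : fitPrime q G ≤ fittingSubgroup G := by
  unfold fitPrime
  apply iSup₂_le
  intro r _
  exact pCore_le_fitting' _ r.2

theorem disjoint_pCore_fitPrime {q : ℕ} (hq : q.Prime) : Disjoint (pCore q G) (fitPrime q G) := by
  haveI := Fact.mk hq
  rw [disjoint_iff]
  apply Subgroup.inf_eq_bot_of_coprime
  obtain ⟨i, hi⟩ := IsPGroup.iff_card.mp (Cfsg.Agent.H1.pCore_isPGroup (G := G) q)
  rw [hi]
  exact Nat.Coprime.pow_left i (card_fitPrime_coprime hq).symm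

theorem commute_pCore_fitPrime {q : ℕ} (hq : q.Prime) {a b : G} (ha : a ∈ pCore q G)
    (hb : b ∈ fitPrime q G) : Commute a b :=
  Subgroup.commute_of_normal_of_disjoint _ _ (Cfsg.Agent.H1.pCore_normal q) inferInstance
    (disjoint_pCore_fitPrime hq) a b ha hb

/-- decomposition of elements of the Fitting subgroup -/
theorem exists_decomp {q : ℕ} (hq : q.Prime) {x : G} (hx : x ∈ fittingSubgroup G) :
    ∃ a ∈ pCore q G, ∃ b ∈ fitPrime q G, x = a * b ∧ Commute a b := by
  have h1 := fitting_le_sup q hq hx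
  rw [Subgroup.mem_sup_of_normal_right] at h1
  obtain ⟨a, ha, b, hb, rfl⟩ := h1
  exact ⟨a, ha, b, hb, rfl, commute_pCore_fitPrime hq ha hb⟩

/-- a `q`-element of the Fitting subgroup lies in `O_q(G)` -/
theorem mem_pCore_of_mem_fitting {q : ℕ} (hq : q.Prime) {x : G} (hx : x ∈ fittingSubgroup G)
    {k : ℕ} (hk : x ^ q ^ k = 1) : x ∈ pCore q G := by
  haveI := Fact.mk hq
  obtain ⟨a, ha, b, hb, rfl, hab⟩ := exists_decomp hq hx
  obtain ⟨m, hm⟩ := (Cfsg.Agent.H1.pCore_isPGroup (G := G) q) ⟨a, ha⟩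
  have hm' : a ^ q ^ m = 1 := by
    have := congrArg Subtype.val hm
    simpa using this
  have h1 : b ^ q ^ (k + m) = 1 := by
    have h2 : (a * b) ^ q ^ (k + m) = 1 := by rw [pow_add, pow_mul, hk, one_pow]
    rw [hab.mul_pow, pow_add, mul_comm (q ^ k), pow_mul, hm', one_pow, one_mul] at h2
    rw [pow_add, mul_comm (q ^ k)]
    exact h2
  have h3 : b ^ Nat.card ↥(fitPrime q G) = 1 := by
    have h4 := pow_card_eq_one' (G := ↥(fitPrime q G)) (x := ⟨b, hb⟩)
    have h5 := congrArg Subtype.val h4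
    rw [Subgroup.coe_pow, Subgroup.coe_one] at h5
    exact h5
  have hb1 : b = 1 :=
    eq_one_of_pow_pow_coprime h3 h1 (Nat.Coprime.pow_right _ (card_fitPrime_coprime hq))
  rw [hb1, mul_one]
  exact ha

end fit

section main

variable {G : Type*} [Group G] [Finite G]

theorem pCore_two_eq_bot (hodd : Odd (Nat.card G)) : pCore 2 G = ⊥ := by
  haveI : Fact (Nat.Prime 2) := ⟨Nat.prime_two⟩
  have h2 : IsPGroup 2 ↥(pCore 2 G) := Cfsg.Agent.H1.pCore_isPGroup 2
  obtain ⟨i, hi⟩ := IsPGroup.iff_card.mp h2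
  have hodd' : Odd (Nat.card ↥(pCore 2 G)) :=
    Odd.of_dvd_nat hodd (Subgroup.card_subgroup_dvd_card _)
  rw [hi] at hodd'
  have hi0 : i = 0 := by
    by_contra h
    exact (Nat.not_even_iff_odd.mpr hodd') ((Nat.even_pow).mpr ⟨even_two, h⟩)
  rw [hi0, pow_zero] at hi
  exact Subgroup.card_eq_one.mp hi

/-- for `g ∈ G'`, the action of `g` on `O_r(G)` has `r`-power order -/
theorem exists_pow_conj_eq_one (hodd : Odd (Nat.card G)) {r : ℕ} [Fact r.Prime] (hr2 : r ≠ 2)
    (hr : PRankLE r 2 ↥(pCore r G)) {g : G} (hg : g ∈ commutator G) :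
    ∃ k : ℕ, (MulAut.conjNormal g : MulAut ↥(pCore r G)) ^ r ^ k = 1 := by
  set c : G →* MulAut ↥(pCore r G) := MulAut.conjNormal with hc
  have hRp : IsPGroup r ↥(pCore r G) := Cfsg.Agent.H1.pCore_isPGroup r
  have hoddA : Odd (Nat.card c.range) := Odd.of_dvd_nat hodd (Subgroup.card_range_dvd c)
  have hcore := isPGroup_commutator hr2 hRp hr c.range hoddA
  have hmem : c.rangeRestrict g ∈ commutator ↥c.range :=
    map_commutator_le c.rangeRestrict (Subgroup.mem_map_of_mem _ hg)
  obtain ⟨k, hk⟩ := hcore ⟨_, hmem⟩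
  have h2 := congrArg (fun u : ↥(commutator ↥c.range) => ((u : ↥c.range) : MulAut ↥(pCore r G))) hk
  simp only [Subgroup.coe_pow, Subgroup.coe_one] at h2
  exact ⟨k, h2⟩

/-- a `q`-element of `G'` centralizes `O_r(G)` for `r ≠ q` -/
theorem mem_centralizer_pCore_of_ne (hodd : Odd (Nat.card G)) {q r : ℕ} (hq : q.Prime)
    [hr' : Fact r.Prime] (hrq : r ≠ q) (hr : PRankLE r 2 ↥(pCore r G)) {g : G}
    (hg : g ∈ commutator G) {k : ℕ} (hk : g ^ q ^ k = 1) :
    g ∈ Subgroup.centralizer (pCore r G : Set G) := by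
  by_cases hr2 : r = 2
  · subst hr2
    rw [pCore_two_eq_bot hodd, Subgroup.mem_centralizer_iff]
    intro h hh
    rw [SetLike.mem_coe, Subgroup.mem_bot] at hh
    rw [hh, one_mul, mul_one]
  · obtain ⟨a, ha⟩ := exists_pow_conj_eq_one hodd hr2 hr hg
    apply mem_centralizer_of_conjNormal_eq_one
    have h1 : (MulAut.conjNormal g : MulAut ↥(pCore r G)) ^ q ^ k = 1 := by
      rw [← map_pow, hk, map_one]
    refine eq_one_of_pow_pow_coprime ha h1 ?_
    exact Nat.Coprime.pow _ _ ((Nat.coprime_primes hr'.out hq).mpr hrq)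

variable [Group.IsSolvable G]

/-- **B&G 4.20(a)**: if `F(G)` has rank at most two then `G' ≤ F(G)` -/
theorem commutator_le_fitting (hodd : Odd (Nat.card G)) (hr : RankLE 2 ↥(fittingSubgroup G)) :
    commutator G ≤ fittingSubgroup G := by
  classical
  set F := fittingSubgroup G with hF
  have hrk : ∀ r : ℕ, r.Prime → PRankLE r 2 ↥(pCore r G) := fun r hr' =>
    pRankLE_of_le (pCore_le_fitting' r hr') (hr r hr')
  have key : ∀ q : ℕ, q.Prime → ∀ g ∈ commutator G, ∀ k : ℕ, g ^ q ^ k = 1 → g ∈ F := by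
    intro q hq g hg k hk
    haveI := Fact.mk hq
    by_cases hq2 : q = 2
    · subst hq2
      have h1 : g ^ Nat.card G = 1 := pow_card_eq_one'
      have h2 : g = 1 := by
        refine eq_one_of_pow_pow_coprime h1 hk ?_
        exact Nat.Coprime.pow_right _ (Nat.coprime_two_right.mpr hodd)
      rw [h2]; exact F.one_mem
    set c : G →* MulAut ↥(pCore q G) := MulAut.conjNormal with hc
    have hRp : IsPGroup q ↥(pCore q G) := Cfsg.Agent.H1.pCore_isPGroup q
    have hoddA : Odd (Nat.card c.range) := Odd.of_dvd_nat hodd (Subgroup.card_range_dvd c)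
    have hcore := isPGroup_commutator hq2 hRp (hrk q hq) c.range hoddA
    set W : Subgroup G := Subgroup.centralizer (fitPrime q G : Set G) ⊓
      (commutator ↥c.range).comap c.rangeRestrict with hW
    haveI hWn : W.Normal := by
      haveI : (Subgroup.centralizer (fitPrime q G : Set G)).Normal := Subgroup.normal_centralizer
      haveI : ((commutator ↥c.range).comap c.rangeRestrict).Normal := inferInstance
      infer_instance
    have hgW : g ∈ W := by
      refine ⟨?_, ?_⟩
      · have h1 : fitPrime q G ≤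
            Subgroup.centralizer ((Subgroup.zpowers g : Subgroup G) : Set G) := by
          unfold fitPrime
          apply iSup₂_le
          intro r hrq
          haveI := Fact.mk r.2
          rw [Subgroup.le_centralizer_iff, Subgroup.zpowers_le]
          exact mem_centralizer_pCore_of_ne hodd hq hrq (hrk r r.2) hg hk
        rw [Subgroup.le_centralizer_iff, Subgroup.zpowers_le] at h1
        exact h1
      · exact map_commutator_le c.rangeRestrict (Subgroup.mem_map_of_mem _ hg)
    have hpow : ∀ w ∈ W, ∃ n : ℕ, w ^ q ^ n ∈ W ⊓ fitPrime q G := by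
      intro w hw
      obtain ⟨a, ha⟩ := hcore ⟨_, hw.2⟩
      have h2 := congrArg
        (fun u : ↥(commutator ↥c.range) => ((u : ↥c.range) : MulAut ↥(pCore q G))) ha
      simp only [Subgroup.coe_pow, Subgroup.coe_one] at h2
      have h3 : c (w ^ q ^ a) = 1 := by rw [map_pow]; exact h2
      have h4 : w ^ q ^ a ∈ Subgroup.centralizer (pCore q G : Set G) :=
        mem_centralizer_of_conjNormal_eq_one _ h3
      have h5 : w ^ q ^ a ∈ Subgroup.centralizer (fitPrime q G : Set G) :=
        Subgroup.pow_mem _ hw.1 _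
      have h6 : w ^ q ^ a ∈ F := by
        apply Cfsg.Agent.S0044.result
        have h7 := mem_centralizer_sup h4 h5
        exact Subgroup.centralizer_le (fitting_le_sup q hq) h7
      obtain ⟨x, hx, y, hy, hxy, hcomm⟩ := exists_decomp hq h6
      obtain ⟨m, hm⟩ := hRp ⟨x, hx⟩
      have hm' : x ^ q ^ m = 1 := by
        have h9 := congrArg Subtype.val hm
        rw [Subgroup.coe_pow, Subgroup.coe_one] at h9
        exact h9
      have h8 : w ^ q ^ (a + m) = y ^ q ^ m := by
        rw [pow_add, pow_mul, hxy, hcomm.mul_pow, hm', one_mul]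
      refine ⟨a + m, ?_⟩
      refine ⟨Subgroup.pow_mem _ hw _, ?_⟩
      rw [h8]
      exact Subgroup.pow_mem _ hy _
    have hWnil : Group.IsNilpotent ↥W := by
      haveI : (W ⊓ fitPrime q G).Normal := inferInstance
      set C : Subgroup ↥W := (W ⊓ fitPrime q G).subgroupOf W with hC
      haveI : C.Normal := by rw [hC]; infer_instance
      have hker : (QuotientGroup.mk' C).ker ≤ Subgroup.center ↥W := by
        rw [QuotientGroup.ker_mk']
        intro x hx
        rw [Subgroup.mem_center_iff]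
        intro y
        apply Subtype.ext
        rw [Subgroup.coe_mul, Subgroup.coe_mul]
        have hx' : (x : G) ∈ fitPrime q G := (Subgroup.mem_subgroupOf.mp hx).2
        exact (Subgroup.mem_centralizer_iff.mp y.2.1 _ hx').symm
      have hQ : IsPGroup q (↥W ⧸ C) := by
        intro u
        obtain ⟨w, rfl⟩ := QuotientGroup.mk_surjective u
        obtain ⟨n, hn⟩ := hpow w.1 w.2
        refine ⟨n, ?_⟩
        rw [← QuotientGroup.mk_pow, QuotientGroup.eq_one_iff, hC, Subgroup.mem_subgroupOf,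
          Subgroup.coe_pow]
        exact hn
      haveI := hQ.isNilpotent
      exact isNilpotent_of_ker_le_center (QuotientGroup.mk' C) hker
    exact Cfsg.Agent.H1.le_fittingSubgroup hWn hWnil hgW
  have htop : F.subgroupOf (commutator G) = ⊤ := by
    apply Cfsg.Agent.H1.eq_top_of_forall_sylow_le
    intro q hq
    obtain ⟨Q⟩ : Nonempty (Sylow q ↥(commutator G)) := inferInstance
    refine ⟨Q, ?_⟩
    intro x hx
    rw [Subgroup.mem_subgroupOf]
    obtain ⟨k, hk⟩ := Q.2 ⟨x, hx⟩
    have hk' : (x : G) ^ q ^ k = 1 := by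
      have h9 := congrArg (fun u : ↥(Q : Subgroup ↥(commutator G)) => ((u : ↥(commutator G)) : G)) hk
      simpa using h9
    exact key q hq.out x.1 x.2 k hk'
  rwa [Subgroup.subgroupOf_eq_top] at htop

/-- **B&G 4.20(b)** -/
theorem char_normal (hodd : Odd (Nat.card G)) (hr : RankLE 2 ↥(fittingSubgroup G))
    (q : ℕ) [Fact q.Prime] (S : Sylow q G) (T : Subgroup ↥(S : Subgroup G)) (hT : T.Characteristic)
    (hTS : T.map (S : Subgroup G).subtype ≤ ⁅(S : Subgroup G), (S : Subgroup G)⁆) :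
    (T.map (S : Subgroup G).subtype).Normal := by
  have hq := (Fact.out : q.Prime)
  have hDF := commutator_le_fitting hodd hr
  set F := fittingSubgroup G with hF
  set T₀ := T.map (S : Subgroup G).subtype with hT₀
  have hT₀S : T₀ ≤ S := by
    rintro _ ⟨t, -, rfl⟩
    exact t.2
  have hT₀D : T₀ ≤ commutator G :=
    hTS.trans (by rw [commutator_def]; exact Subgroup.commutator_mono le_top le_top)
  have hT₀q : T₀ ≤ pCore q G := by
    intro x hx
    obtain ⟨k, hk⟩ := S.2 ⟨x, hT₀S hx⟩
    have hk' : x ^ q ^ k = 1 := by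
      have h9 := congrArg Subtype.val hk
      rw [Subgroup.coe_pow, Subgroup.coe_one] at h9
      exact h9
    exact mem_pCore_of_mem_fitting hq (hDF (hT₀D hx)) hk'
  have hN1 : Subgroup.normalizer ((S : Subgroup G) : Set G) ≤ Subgroup.normalizer (T₀ : Set G) :=
    normalizer_le_normalizer_of_char _ T hT
  haveI hSF : ((S : Subgroup G) ⊔ F).Normal := normal_of_commutator_le (hDF.trans le_sup_right)
  have hfr : Subgroup.normalizer ((S : Subgroup G) : Set G) ⊔ ((S : Subgroup G) ⊔ F) = ⊤ :=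
    Sylow.normalizer_sup_eq_top' S le_sup_left
  have hN2 : F ≤ Subgroup.normalizer (T₀ : Set G) := by
    intro x hx
    obtain ⟨a, ha, b, hb, rfl, -⟩ := exists_decomp hq hx
    apply Subgroup.mul_mem
    · exact hN1 (Subgroup.le_normalizer ((Cfsg.Agent.H1.pCore_le_sylow S) ha))
    · apply Subgroup.centralizer_le_normalizer
      rw [Subgroup.mem_centralizer_iff]
      intro t ht
      exact (commute_pCore_fitPrime hq (hT₀q ht) hb).eq
  have htop : Subgroup.normalizer (T₀ : Set G) = ⊤ := by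
    rw [eq_top_iff, ← hfr]
    exact sup_le hN1 (sup_le (Subgroup.le_normalizer.trans hN1) hN2)
  exact Subgroup.normalizer_eq_top_iff.mp htop

omit [Group.IsSolvable G] in
/-- a `q`-element centralizes `O_r(G)` for `r < q` -/
theorem mem_centralizer_pCore_of_gt {q r : ℕ} (hq : q.Prime) [Fact r.Prime] (hr2 : r ≠ 2)
    (hrq : r < q) (hr : PRankLE r 2 ↥(pCore r G)) {x : G} {k : ℕ} (hk : x ^ q ^ k = 1) :
    x ∈ Subgroup.centralizer (pCore r G : Set G) := by
  apply mem_centralizer_of_conjNormal_eq_one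
  have hRp : IsPGroup r ↥(pCore r G) := Cfsg.Agent.H1.pCore_isPGroup r
  refine eq_one_of_pow_prime_pow (q := q)
    (fun τ hτ => eq_one_of_prime_gt hr2 hRp hr τ hq hrq hτ) k ?_
  rw [← map_pow, hk, map_one]

/-- a `q`-element lies in `O_{r'}(G)` for `r < q` -/
theorem mem_pPrimeCore_of_gt (hodd : Odd (Nat.card G))
    (hDF : commutator G ≤ fittingSubgroup G) {q r : ℕ} (hq : q.Prime) [Fact r.Prime]
    (hrq : r < q) (hr : PRankLE r 2 ↥(pCore r G)) {x : G} {k : ℕ} (hk : x ^ q ^ k = 1) :
    x ∈ pPrimeCore r G := by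
  have hrp := (Fact.out : r.Prime)
  by_cases hr2 : r = 2
  · subst hr2
    have h1 : pPrimeCore 2 G = ⊤ := by
      rw [eq_top_iff]
      apply Cfsg.Agent.H1.le_pPrimeCore inferInstance
      rw [Subgroup.card_top]; exact Nat.coprime_two_right.mpr hodd
    rw [h1]; trivial
  have hrq' : ∀ m k : ℕ, (r ^ m).Coprime (q ^ k) := fun m k =>
    Nat.Coprime.pow _ _ ((Nat.coprime_primes hrp hq).mpr hrq.ne)
  set N := pPrimeCore r G with hN
  set π := QuotientGroup.mk' N with hπ
  have hbot : pPrimeCore r (G ⧸ N) = ⊥ :=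
    Cfsg.Agent.Lib.Lead.PiCore.pPrimeCore_quotient_eq_bot hrp
  have hcent := Cfsg.Agent.Lib.Lead.PSolvable.centralizer_pCore_le
    (Cfsg.Agent.Lib.Helper4.SolvPSolv.isPSolvable_of_isSolvable r (G ⧸ N)) hbot
  have hRp : IsPGroup r ↥(pCore r (G ⧸ N)) := Cfsg.Agent.H1.pCore_isPGroup r
  have hxc : x ∈ Subgroup.centralizer (pCore r G : Set G) :=
    mem_centralizer_pCore_of_gt hq hr2 hrq hr hk
  have hclaim : π x ∈ Subgroup.centralizer (pCore r (G ⧸ N) : Set (G ⧸ N)) := by
    rw [Subgroup.mem_centralizer_iff]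
    intro ybar hy
    obtain ⟨y, rfl⟩ := QuotientGroup.mk'_surjective N ybar
    set σ : MulAut (G ⧸ N) := MulAut.conj (π x) with hσ
    have hσm : σ ^ q ^ k = 1 := by rw [hσ, ← map_pow, ← map_pow, hk, map_one, map_one]
    set w : G ⧸ N := (π y)⁻¹ * σ (π y) with hw
    have hw1 : σ (π y) = π y * w := by rw [hw]; group
    have hw2 : w = π ⁅y⁻¹, x⁆ := by
      rw [hw, hσ, MulAut.conj_apply, commutatorElement_def]
      simp only [map_mul, map_inv, inv_inv, mul_assoc]
    have hcf : ⁅y⁻¹, x⁆ ∈ fittingSubgroup G := hDF ((commutator_le_iff' _).mp le_rfl _ _)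
    obtain ⟨a, ha, b, hb, hab, -⟩ := exists_decomp hrp hcf
    have hbN : b ∈ N := fitPrime_le_pPrimeCore hrp hb
    have hw3 : w = π a := by
      rw [hw2, hab, map_mul]
      have : π b = 1 := (QuotientGroup.eq_one_iff b).mpr hbN
      rw [this, mul_one]
    have hw4 : σ w = w := by
      rw [hw3, hσ, MulAut.conj_apply, ← map_inv, ← map_mul, ← map_mul]
      congr 1
      have := Subgroup.mem_centralizer_iff.mp hxc a ha
      rw [← this, mul_inv_cancel_right]
    have hw5 : w ^ q ^ k = 1 := pow_eq_one_of_stab σ hσm hw1 hw4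
    have hw6 : w ∈ pCore r (G ⧸ N) := by
      rw [hw]
      apply Subgroup.mul_mem _ (Subgroup.inv_mem _ hy)
      rw [hσ, MulAut.conj_apply]
      exact (Cfsg.Agent.H1.pCore_normal r).conj_mem _ hy _
    obtain ⟨m, hm⟩ := hRp ⟨w, hw6⟩
    have hm' : w ^ r ^ m = 1 := by
      have h9 := congrArg Subtype.val hm
      rw [Subgroup.coe_pow, Subgroup.coe_one] at h9
      exact h9
    have hw7 : w = 1 := eq_one_of_pow_pow_coprime hm' hw5 (hrq' m k)
    rw [hw7, mul_one, hσ, MulAut.conj_apply, mul_inv_eq_iff_eq_mul] at hw1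
    exact hw1.symm
  have h1 := hcent hclaim
  obtain ⟨m, hm⟩ := hRp ⟨π x, h1⟩
  have hm' : (π x) ^ r ^ m = 1 := by
    have h9 := congrArg Subtype.val hm
    rw [Subgroup.coe_pow, Subgroup.coe_one] at h9
    exact h9
  have h2 : (π x) ^ q ^ k = 1 := by rw [← map_pow, hk, map_one]
  have h3 : π x = 1 := eq_one_of_pow_pow_coprime hm' h2 (hrq' m k)
  exact (QuotientGroup.eq_one_iff x).mp h3

/-- **B&G 4.20(c)** -/
theorem exists_char_hall (hodd : Odd (Nat.card G)) (hr : RankLE 2 ↥(fittingSubgroup G)) (p : ℕ) :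
    ∃ N : Subgroup G, N.Characteristic ∧ IsPiHall {q | q.Prime ∧ p < q} N := by
  have hDF := commutator_le_fitting hodd hr
  have hrk : ∀ r : ℕ, r.Prime → PRankLE r 2 ↥(pCore r G) := fun r hr' =>
    pRankLE_of_le (pCore_le_fitting' r hr') (hr r hr')
  set N : Subgroup G := ⨅ (r : Nat.Primes) (_ : (r : ℕ) ≤ p), pPrimeCore (r : ℕ) G with hN
  refine ⟨N, ?_, ?_, ?_⟩
  · rw [Subgroup.characteristic_iff_comap_eq]
    intro φ
    rw [hN, Subgroup.comap_iInf]
    congr 1
    funext r
    rw [Subgroup.comap_iInf]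
    congr 1
    funext h
    exact (Subgroup.characteristic_iff_comap_eq.mp
      (Cfsg.Agent.Lib.Lead.PiCore.pPrimeCore_characteristic r.2)) φ
  · intro q hq hqN
    refine ⟨hq, ?_⟩
    by_contra hle
    rw [not_lt] at hle
    have h1 : N ≤ pPrimeCore q G := iInf₂_le (⟨q, hq⟩ : Nat.Primes) hle
    have h2 : (Nat.card ↥(pPrimeCore q G)).Coprime q := Cfsg.Agent.H1.pPrimeCore_coprime q
    have h3 : q ∣ Nat.card ↥(pPrimeCore q G) := hqN.trans (Subgroup.card_dvd_of_le h1)
    exact (Nat.Prime.coprime_iff_not_dvd hq).mp h2.symm h3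
  · rintro q hq ⟨-, hpq⟩ hqd
    haveI := Fact.mk hq
    obtain ⟨Q⟩ : Nonempty (Sylow q G) := inferInstance
    have hQN : (Q : Subgroup G) ≤ N := by
      rw [hN]
      apply le_iInf₂
      intro r hrp
      haveI := Fact.mk r.2
      intro x hx
      obtain ⟨k, hk⟩ := Q.2 ⟨x, hx⟩
      have hk' : x ^ q ^ k = 1 := by
        have h9 := congrArg Subtype.val hk
        rw [Subgroup.coe_pow, Subgroup.coe_one] at h9
        exact h9
      exact mem_pPrimeCore_of_gt hodd hDF hq (lt_of_le_of_lt hrp hpq) (hrk r r.2) hk'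
    exact Q.not_dvd_index (hqd.trans (Subgroup.index_dvd_of_le hQN))

/-- **B&G Theorem 4.20** (= S1451) -/
theorem rank_two_fitting (hodd : Odd (Nat.card G))
    (hr : RankLE 2 G ∨ RankLE 2 ↥(fittingSubgroup G)) :
    Group.IsNilpotent ↥(commutator G) ∧
      (∀ (q : ℕ) [Fact q.Prime] (S : Sylow q G) (T : Subgroup ↥(S : Subgroup G)),
        T.Characteristic →
        T.map (S : Subgroup G).subtype ≤ ⁅(S : Subgroup G), (S : Subgroup G)⁆ →
        (T.map (S : Subgroup G).subtype).Normal) ∧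
      ∀ p : ℕ, ∃ N : Subgroup G, N.Characteristic ∧ IsPiHall {q | q.Prime ∧ p < q} N := by
  have hr' : RankLE 2 ↥(fittingSubgroup G) := by
    rcases hr with h | h
    · intro r hr
      exact pRankLE_of_injective (fittingSubgroup G).subtype (Subgroup.subtype_injective _) (h r hr)
    · exact h
  refine ⟨?_, ?_, ?_⟩
  · have hDF := commutator_le_fitting hodd hr'
    haveI := Cfsg.Agent.H1.fittingSubgroup_nilpotent (G := G)
    exact isNilpotent_of_ker_le_center (Subgroup.inclusion hDF)
      (by rw [(MonoidHom.ker_eq_bot_iff _).mpr (Subgroup.inclusion_injective hDF)]; exact bot_le)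
  · intro q _ S T hT hTS
    exact char_normal hodd hr' q S T hT hTS
  · exact exists_char_hall hodd hr'

end main

end Cfsg.Agent.Lib.Helper4.Rank2Fit
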