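import Mathlib

set_option autoImplicit false

namespace Cfsg.Agent.Lib.Helper4.Sylow

/-- order of a Sylow subgroup when `|G| = p^a * m` with `p ∤ m`. -/
theorem card_sylow_of_card_eq {G : Type*} [Group G] [Finite G] {p a m : ℕ} [hp : Fact p.Prime]
    (hG : Nat.card G = p ^ a * m) (hm : ¬ p ∣ m) (P : Sylow p G) : Nat.card P = p ^ a := by
  have hm0 : m ≠ 0 := by rintro rfl; exact hm (dvd_zero p)
  rw [P.card_eq_multiplicity, hG, Nat.factorization_mul (pow_ne_zero _ hp.out.ne_zero) hm0]
  simp [hp.out.factorization_self, Nat.factorization_eq_zero_of_not_dvd hm]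

/-- index of a Sylow subgroup when `|G| = p^a * m` with `p ∤ m`. -/
theorem index_sylow_of_card_eq {G : Type*} [Group G] [Finite G] {p a m : ℕ} [hp : Fact p.Prime]
    (hG : Nat.card G = p ^ a * m) (hm : ¬ p ∣ m) (P : Sylow p G) :
    (P : Subgroup G).index = m := by
  have h1 := (P : Subgroup G).card_mul_index
  rw [card_sylow_of_card_eq hG hm P, hG] at h1
  exact Nat.eq_of_mul_eq_mul_left (pow_pos hp.out.pos _) h1

/-- the number of Sylow `p`-subgroups divides `m` when `|G| = p^a * m` with `p ∤ m`. -/
theorem card_sylow_dvd_of_card_eq {G : Type*} [Group G] [Finite G] {p a m : ℕ} [hp : Fact p.Prime]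
    (hG : Nat.card G = p ^ a * m) (hm : ¬ p ∣ m) : Nat.card (Sylow p G) ∣ m := by
  obtain ⟨P⟩ : Nonempty (Sylow p G) := inferInstance
  have := P.card_dvd_index
  rwa [index_sylow_of_card_eq hG hm P] at this

/-- `n_p * |N(P)| = |G|`. -/
theorem card_sylow_mul_card_normalizer {G : Type*} [Group G] [Finite G] {p : ℕ} [hp : Fact p.Prime]
    (P : Sylow p G) :
    Nat.card (Sylow p G) * Nat.card (Subgroup.normalizer ((P : Subgroup G) : Set G)) = Nat.card G := by
  rw [P.card_eq_index_normalizer, mul_comm]
  exact Subgroup.card_mul_index _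

/-- in a simple group whose order is divisible by `p` but is not a power of `p`... we only need:
a nontrivial proper Sylow subgroup of a simple group is not normal, so `n_p ≠ 1`. -/
theorem card_sylow_ne_one_of_simple {G : Type*} [Group G] [Finite G] [IsSimpleGroup G] {p : ℕ}
    [hp : Fact p.Prime] (P : Sylow p G) (h1 : Nat.card P ≠ 1) (h2 : Nat.card P ≠ Nat.card G) :
    Nat.card (Sylow p G) ≠ 1 := by
  intro h
  have hsub : Subsingleton (Sylow p G) := (Nat.card_eq_one_iff_unique.mp h).1
  have hn : (P : Subgroup G).Normal := P.normal_of_subsingleton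
  rcases hn.eq_bot_or_eq_top with hb | ht
  · apply h1
    rw [show Nat.card P = Nat.card (P : Subgroup G) from rfl, hb]
    exact Subgroup.card_bot
  · apply h2
    rw [show Nat.card P = Nat.card (P : Subgroup G) from rfl, ht]
    exact Subgroup.card_top

/-- A simple group with a proper subgroup of index `k` has order dividing `k!`. -/
theorem card_dvd_factorial_of_simple {G : Type*} [Group G] [Finite G] [IsSimpleGroup G]
    (H : Subgroup G) (hH : H ≠ ⊤) : Nat.card G ∣ (H.index).factorial := by
  classical
  have hfi : H.FiniteIndex := inferInstance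
  have : Fintype (G ⧸ H) := Fintype.ofFinite _
  let φ := MulAction.toPermHom G (G ⧸ H)
  have hker : φ.ker = ⊥ := by
    rcases φ.normal_ker.eq_bot_or_eq_top with h | h
    · exact h
    · exfalso
      apply hH
      rw [eq_top_iff]
      have hle : φ.ker ≤ H := by
        rw [← Subgroup.normalCore_eq_ker]
        exact Subgroup.normalCore_le H
      rw [h] at hle
      exact hle
  have hinj : Function.Injective φ := (MonoidHom.ker_eq_bot_iff φ).mp hker
  have := Subgroup.card_dvd_of_injective φ hinj
  rwa [Nat.card_perm, ← Subgroup.index_eq_card] at this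

open MulAction in
/-- Orbit counting modulo `m`: if `x₀` is fixed and all other orbits have size divisible by `m`,
then `|X| ≡ 1 [MOD m]`. -/
theorem card_modEq_one_of_orbits {P X : Type*} [Group P] [MulAction P X] [Finite X] (m : ℕ) (x₀ : X)
    (hfix : ∀ g : P, g • x₀ = x₀)
    (h : ∀ x : X, x ≠ x₀ → m ∣ Nat.card (MulAction.orbit P x)) : Nat.card X ≡ 1 [MOD m] := by
  classical
  have : Fintype (orbitRel.Quotient P X) := Fintype.ofFinite _
  have e := selfEquivSigmaOrbits' P X
  rw [Nat.card_congr e, Nat.card_sigma]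
  set ω₀ : orbitRel.Quotient P X := Quotient.mk'' x₀ with hω₀
  rw [← Finset.add_sum_erase Finset.univ _ (Finset.mem_univ ω₀)]
  have h1 : Nat.card (ω₀.orbit) = 1 := by
    rw [hω₀, orbitRel.Quotient.orbit_mk]
    have : MulAction.orbit P x₀ = {x₀} := by
      ext y
      simp only [MulAction.mem_orbit_iff, Set.mem_singleton_iff]
      constructor
      · rintro ⟨g, rfl⟩; exact hfix g
      · rintro rfl; exact ⟨1, one_smul _ _⟩
    rw [this]
    simp
  have h2 : m ∣ ∑ ω ∈ Finset.univ.erase ω₀, Nat.card (ω.orbit) := by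
    apply Finset.dvd_sum
    intro ω hω
    have hne : ω ≠ ω₀ := Finset.ne_of_mem_erase hω
    induction ω using Quotient.inductionOn' with
    | h x =>
      rw [orbitRel.Quotient.orbit_mk]
      apply h
      rintro rfl
      exact hne rfl
  rw [h1]
  obtain ⟨c, hc⟩ := h2
  rw [hc]
  show (1 + m * c) % m = 1 % m
  rw [Nat.add_mul_mod_self_left]

/-- The stabilizer in a Sylow subgroup `P` of another Sylow subgroup `R` (conjugation action)
is `P ∩ R`. -/
theorem stabilizer_sylow_eq {G : Type*} [Group G] {p : ℕ} [Fact p.Prime] (P R : Sylow p G) :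
    MulAction.stabilizer (↥(P : Subgroup G)) R = (R : Subgroup G).subgroupOf (P : Subgroup G) := by
  ext g
  rw [MulAction.mem_stabilizer_iff, Subgroup.mem_subgroupOf]
  have : g • R = (g : G) • R := rfl
  rw [this, Sylow.smul_eq_iff_mem_normalizer]
  constructor
  · intro hg
    have h1 := (P.2.inf_normalizer_sylow R).le ⟨g.2, hg⟩
    exact h1.2
  · intro hg
    exact Subgroup.le_normalizer hg

/-- S0985: two Sylows with large intersection when `n_p ≢ 1 mod p^k`. -/
theorem exists_sylow_index_le {G : Type*} [Group G] [Finite G] (p k : ℕ) [Fact p.Prime] (h : ¬ Nat.card (Sylow p G) ≡ 1 [MOD p ^ k]) : ∃ P R : Sylow p G, P ≠ R ∧ ((R : Subgroup G).subgroupOf (P : Subgroup G)).index ≤ p ^ (k - 1) := by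
  by_contra hcon
  push Not at hcon
  apply h
  obtain ⟨P⟩ : Nonempty (Sylow p G) := inferInstance
  have hp : p.Prime := Fact.out
  apply card_modEq_one_of_orbits (P := ↥(P : Subgroup G)) (p ^ k) P
  · intro g
    have : g • P = (g : G) • P := rfl
    rw [this, Sylow.smul_eq_iff_mem_normalizer]
    exact Subgroup.le_normalizer g.2
  · intro R hR
    rw [Nat.card_coe_set_eq, ← MulAction.index_stabilizer, stabilizer_sylow_eq]
    have hlt := hcon P R (Ne.symm hR)
    obtain ⟨n, hn⟩ := P.2.index ((R : Subgroup G).subgroupOf (P : Subgroup G))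
    rw [hn] at hlt ⊢
    apply pow_dvd_pow
    have := (Nat.pow_lt_pow_iff_right hp.one_lt).mp hlt
    omega

end Cfsg.Agent.Lib.Helper4.Sylow
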