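import Mathlib

/-!
# Frobenius' divisibility theorem

If `n ∣ |G|` then `n ∣ #{x : G | x ^ n = 1}`.
-/

namespace Cfsg.Agent.Lib.Helper4.FrobDiv

open Finset

section basic

variable {G : Type*} [Group G]

theorem pow_eq_one_iff_gcd [Finite G] (g : G) (m : ℕ) :
    g ^ m = 1 ↔ g ^ (Nat.gcd m (Nat.card G)) = 1 := by
  rw [pow_gcd_eq_one]
  exact ⟨fun h => ⟨h, pow_card_eq_one'⟩, fun h => h.1⟩

theorem card_tors_gcd [Finite G] (m : ℕ) :
    Nat.card {g : G // g ^ m = 1} = Nat.card {g : G // g ^ (Nat.gcd m (Nat.card G)) = 1} := by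
  apply Nat.card_congr
  exact Equiv.subtypeEquivRight (fun g => pow_eq_one_iff_gcd g m)

theorem pow_eq_of_modEq {x : G} {k a b : ℕ} (hx : x ^ k = 1) (h : a ≡ b [MOD k]) :
    x ^ a = x ^ b :=
  pow_eq_pow_iff_modEq.mpr (h.of_dvd (orderOf_dvd_of_pow_eq_one hx))

open scoped Classical in
/-- The number of elements of order `d` is divisible by `φ d`. -/
theorem totient_dvd_card_orderOf [Fintype G] (d : ℕ) :
    Nat.totient d ∣ (Finset.univ.filter (fun x : G => orderOf x = d)).card := by
  rw [Finset.card_eq_sum_card_fiberwise (f := fun x : G => Subgroup.zpowers x)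
    (t := (Finset.univ.filter (fun x : G => orderOf x = d)).image (fun x => Subgroup.zpowers x))
    (fun x hx => Finset.mem_image_of_mem _ hx)]
  apply Finset.dvd_sum
  intro H hH
  obtain ⟨x0, hx0, rfl⟩ := Finset.mem_image.mp hH
  rw [Finset.mem_filter] at hx0
  have hd : d ∣ Fintype.card (Subgroup.zpowers x0) := by
    rw [← Nat.card_eq_fintype_card, Nat.card_zpowers, hx0.2]
  have h1 := IsCyclic.card_orderOf_eq_totient (α := Subgroup.zpowers x0) hd
  rw [← h1]
  apply Eq.dvd
  rw [← Finset.card_map ⟨Subtype.val, Subtype.val_injective⟩]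
  congr 1
  ext x
  simp only [Finset.mem_filter, Finset.mem_univ, true_and, Finset.mem_map,
    Function.Embedding.coeFn_mk]
  constructor
  · rintro ⟨a, ha, rfl⟩
    refine ⟨by rw [← ha, Subgroup.orderOf_coe], ?_⟩
    apply Subgroup.eq_of_le_of_card_ge
    · rw [Subgroup.zpowers_le]; exact a.2
    · rw [Nat.card_zpowers, Nat.card_zpowers, Subgroup.orderOf_coe, ha, hx0.2]
  · rintro ⟨hx, hz⟩
    refine ⟨⟨x, by rw [← hz]; exact Subgroup.mem_zpowers x⟩, ?_, rfl⟩
    rw [Subgroup.orderOf_mk, hx]

open scoped Classical in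
/-- Claim 1. -/
theorem pow_dvd_card_exact [Fintype G] {p : ℕ} (hp : p.Prime) (a m : ℕ) :
    p ^ a ∣ (Finset.univ.filter
      (fun x : G => x ^ (p ^ (a + 1) * m) = 1 ∧ x ^ (p ^ a * m) ≠ 1)).card := by
  haveI : Fact p.Prime := ⟨hp⟩
  set Y := Finset.univ.filter
      (fun x : G => x ^ (p ^ (a + 1) * m) = 1 ∧ x ^ (p ^ a * m) ≠ 1) with hY
  rw [Finset.card_eq_sum_card_fiberwise (f := fun x : G => orderOf x)
    (t := Y.image (fun x => orderOf x)) (fun x hx => Finset.mem_image_of_mem _ hx)]
  apply Finset.dvd_sum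
  intro d hd
  obtain ⟨x0, hx0, rfl⟩ := Finset.mem_image.mp hd
  have hx0' := hx0
  rw [hY, Finset.mem_filter] at hx0'
  have h1 : Y.filter (fun x => orderOf x = orderOf x0) =
      Finset.univ.filter (fun x : G => orderOf x = orderOf x0) := by
    ext x
    simp only [hY, Finset.mem_filter, Finset.mem_univ, true_and]
    constructor
    · exact fun h => h.2
    · intro h
      refine ⟨⟨?_, ?_⟩, h⟩
      · rw [← orderOf_dvd_iff_pow_eq_one, h, orderOf_dvd_iff_pow_eq_one]; exact hx0'.2.1
      · rw [Ne, ← orderOf_dvd_iff_pow_eq_one, h, orderOf_dvd_iff_pow_eq_one]; exact hx0'.2.2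
  rw [h1]
  refine dvd_trans ?_ (totient_dvd_card_orderOf (orderOf x0))
  have h2 : orderOf (x0 ^ m) = p ^ (a + 1) := by
    apply orderOf_eq_prime_pow
    · rw [← pow_mul, mul_comm]; exact hx0'.2.2
    · rw [← pow_mul, mul_comm]; exact hx0'.2.1
  have h3 : p ^ (a + 1) ∣ orderOf x0 := by
    rw [← h2]; exact orderOf_pow_dvd m
  refine dvd_trans ?_ (Nat.totient_dvd_of_dvd h3)
  rw [Nat.totient_prime_pow_succ hp]
  exact dvd_mul_right _ _

theorem index_centralizer_eq_ncard_carrier [Finite G] (x : G) :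
    (Subgroup.centralizer ({x} : Set G)).index = (ConjClasses.mk x).carrier.ncard := by
  rw [← ConjAct.orbit_eq_carrier_conjClasses, ← MulAction.index_stabilizer]
  have h1 := Subgroup.nat_card_centralizer_nat_card_stabilizer x
  have h2 := (Subgroup.centralizer ({x} : Set G)).card_mul_index
  have h3 := (MulAction.stabilizer (ConjAct G) x).card_mul_index
  have h4 : Nat.card (ConjAct G) = Nat.card G := rfl
  rw [h4, ← h1] at h3
  have hpos : 0 < Nat.card (Subgroup.centralizer ({x} : Set G)) := Nat.card_pos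
  exact Nat.eq_of_mul_eq_mul_left hpos (h2.trans h3.symm)

open scoped Classical in
/-- Sum of a class function over a conjugation-invariant set. -/
theorem classSum [Fintype G] (S : Finset G) (F : G → ℕ) (m : ℕ)
    (hS : ∀ g y, y ∈ S → g * y * g⁻¹ ∈ S) (hF : ∀ g y, F (g * y * g⁻¹) = F y)
    (h : ∀ y ∈ S, m ∣ (Subgroup.centralizer ({y} : Set G)).index * F y) :
    m ∣ ∑ y ∈ S, F y := by
  rw [← Finset.sum_fiberwise_of_maps_to (g := fun y => ConjClasses.mk y)
    (t := S.image ConjClasses.mk) (fun y hy => Finset.mem_image_of_mem _ hy)]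
  apply Finset.dvd_sum
  intro c hc
  obtain ⟨y0, hy0, rfl⟩ := Finset.mem_image.mp hc
  have h1 : ∀ y ∈ S.filter (fun y => ConjClasses.mk y = ConjClasses.mk y0), F y = F y0 := by
    intro y hy
    rw [Finset.mem_filter] at hy
    obtain ⟨g, hg⟩ := isConj_iff.mp (ConjClasses.mk_eq_mk_iff_isConj.mp hy.2)
    rw [← hg, hF]
  rw [Finset.sum_congr rfl h1, Finset.sum_const, smul_eq_mul]
  have h2 : (S.filter (fun y => ConjClasses.mk y = ConjClasses.mk y0)).card =
      (Subgroup.centralizer ({y0} : Set G)).index := by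
    rw [index_centralizer_eq_ncard_carrier, Set.ncard_eq_toFinset_card']
    congr 1
    ext y
    simp only [Finset.mem_filter, Set.mem_toFinset, ConjClasses.mem_carrier_iff_mk_eq]
    constructor
    · exact fun h => h.2
    · intro h
      refine ⟨?_, h⟩
      obtain ⟨g, hg⟩ := isConj_iff.mp (ConjClasses.mk_eq_mk_iff_isConj.mp h.symm)
      rw [← hg]; exact hS g y0 hy0
  rw [h2]
  exact h y0 hy0

/-- `m`-torsion elements of a central quotient by a subgroup of order prime to `m`. -/
theorem tors_quot [Finite G] (N : Subgroup G) [N.Normal] (hN : N ≤ Subgroup.center G) (m : ℕ)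
    (hco : (Nat.card N).Coprime m) :
    Nat.card {w : G ⧸ N // w ^ m = 1} = Nat.card {z : G // z ^ m = 1} := by
  symm
  apply Nat.card_eq_of_bijective
    (fun z : {z : G // z ^ m = 1} => (⟨QuotientGroup.mk z.1, by
      rw [← QuotientGroup.mk_pow, z.2]; rfl⟩ : {w : G ⧸ N // w ^ m = 1}))
  constructor
  · rintro ⟨z, hz⟩ ⟨z', hz'⟩ h
    simp only [Subtype.mk.injEq] at h
    rw [QuotientGroup.eq] at h
    have hc : z⁻¹ * z' ∈ Subgroup.center G := hN h
    have hcomm : Commute z (z⁻¹ * z') := Subgroup.mem_center_iff.mp hc z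
    have h1 : z' = z * (z⁻¹ * z') := by group
    have h2 : (z⁻¹ * z') ^ m = 1 := by
      have := hz'
      rw [h1, hcomm.mul_pow, hz, one_mul] at this
      exact this
    have h3 : orderOf (z⁻¹ * z') ∣ Nat.card N := by
      have := orderOf_dvd_natCard (⟨z⁻¹ * z', h⟩ : N)
      rwa [Subgroup.orderOf_mk] at this
    have h4 : orderOf (z⁻¹ * z') = 1 :=
      Nat.eq_one_of_dvd_coprimes hco h3 (orderOf_dvd_of_pow_eq_one h2)
    rw [orderOf_eq_one_iff] at h4
    apply Subtype.ext
    show z = z'
    rw [h1, h4, mul_one]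
  · rintro ⟨w, hw⟩
    obtain ⟨c, rfl⟩ := QuotientGroup.mk_surjective w
    have hcN : c ^ m ∈ N := by
      rw [← QuotientGroup.eq_one_iff, QuotientGroup.mk_pow]; exact hw
    obtain ⟨d, hd⟩ := (powCoprime hco).surjective ⟨c ^ m, hcN⟩
    have hd' : (d : G) ^ m = c ^ m := by
      have := congrArg Subtype.val hd
      simpa using this
    have hdc0 : Commute c (d : G) := Subgroup.mem_center_iff.mp (hN d.2) c
    have hdc : Commute c (d : G)⁻¹ := hdc0.inv_right
    refine ⟨⟨c * (d : G)⁻¹, ?_⟩, ?_⟩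
    · rw [hdc.mul_pow, inv_pow, hd', mul_inv_cancel]
    · apply Subtype.ext
      show ((c * (d : G)⁻¹ : G) : G ⧸ N) = (c : G ⧸ N)
      rw [QuotientGroup.eq]
      have : (c * (d : G)⁻¹)⁻¹ * c = (d : G) := by group
      rw [this]
      exact d.2

open scoped Classical in
/-- Decomposition of elements into commuting `e`-part and `m`-part, for coprime `e`, `m`. -/
theorem decomp [Fintype G] (e m : ℕ) (hem : e.Coprime m) (Q : G → Prop)
    (hQ : ∀ y z : G, Commute y z → y ^ e = 1 → z ^ m = 1 → (Q (y * z) ↔ Q y)) :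
    (Finset.univ.filter (fun x : G => x ^ (e * m) = 1 ∧ Q x)).card =
      ∑ y ∈ Finset.univ.filter (fun y : G => y ^ e = 1 ∧ Q y),
        (Finset.univ.filter (fun z : G => Commute z y ∧ z ^ m = 1)).card := by
  obtain ⟨u, hu1, hu0⟩ := Nat.chineseRemainder hem 1 0
  have hmu : m ∣ u := (Nat.modEq_zero_iff_dvd).mp hu0
  -- facts
  have fa : ∀ x : G, x ^ (e * m) = 1 → (x ^ u) ^ e = 1 := by
    intro x hx
    obtain ⟨k, rfl⟩ := hmu
    rw [← pow_mul, show m * k * e = e * m * k by ring, pow_mul, hx, one_pow]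
  have fb : ∀ x : G, x ^ (e * m) = 1 → ((x ^ u)⁻¹ * x) ^ m = 1 := by
    intro x hx
    have hc : Commute (x ^ u)⁻¹ x := (Commute.pow_left (Commute.refl x) u).inv_left
    rw [hc.mul_pow, inv_pow, ← pow_mul]
    have : x ^ (u * m) = x ^ (1 * m) := pow_eq_of_modEq hx (Nat.ModEq.mul_right' m hu1)
    rw [this, one_mul, inv_mul_cancel]
  have fc : ∀ y : G, y ^ e = 1 → y ^ u = y := by
    intro y hy
    have := pow_eq_of_modEq hy hu1
    rwa [pow_one] at this
  have fd : ∀ z : G, z ^ m = 1 → z ^ u = 1 := by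
    intro z hz
    obtain ⟨k, rfl⟩ := hmu
    rw [pow_mul, hz, one_pow]
  rw [Finset.card_eq_sum_card_fiberwise (f := fun x : G => x ^ u)
    (t := Finset.univ.filter (fun y : G => y ^ e = 1 ∧ Q y))]
  · apply Finset.sum_congr rfl
    intro y hy
    rw [Finset.mem_filter] at hy
    obtain ⟨-, hye, hyQ⟩ := hy
    apply Finset.card_nbij' (fun x => y⁻¹ * x) (fun z => y * z)
    · intro x hx
      simp only [Finset.coe_filter, Finset.mem_filter, Finset.mem_univ, true_and,
        Set.mem_ofPred_eq] at hx ⊢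
      obtain ⟨⟨hx1, hx2⟩, hx3⟩ := hx
      subst hx3
      refine ⟨?_, fb x hx1⟩
      have h1 : Commute x (x ^ u) := Commute.pow_right (Commute.refl x) u
      exact (h1.pow_left u).inv_left.mul_left h1 |>.symm.symm
    · intro z hz
      simp only [Finset.coe_filter, Finset.mem_filter, Finset.mem_univ, true_and,
        Set.mem_ofPred_eq] at hz ⊢
      obtain ⟨hz1, hz2⟩ := hz
      refine ⟨⟨?_, ?_⟩, ?_⟩
      · rw [hz1.symm.mul_pow, pow_mul, hye, one_pow, one_mul, mul_comm, pow_mul, hz2, one_pow]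
      · exact (hQ y z hz1.symm hye hz2).mpr hyQ
      · rw [hz1.symm.mul_pow, fc y hye, fd z hz2, mul_one]
    · intro x _; simp
    · intro z _; simp
  · intro x hx
    simp only [Finset.coe_filter, Finset.mem_filter, Finset.mem_univ, true_and,
        Set.mem_ofPred_eq] at hx ⊢
    obtain ⟨hx1, hx2⟩ := hx
    refine ⟨fa x hx1, ?_⟩
    have hc : Commute (x ^ u) ((x ^ u)⁻¹ * x) := by
      have h1 : Commute (x ^ u) x := Commute.pow_left (Commute.refl x) u
      exact (Commute.refl (x ^ u)).inv_right.mul_right h1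
    have := hQ (x ^ u) ((x ^ u)⁻¹ * x) hc (fa x hx1) (fb x hx1)
    rw [mul_inv_cancel_left] at this
    exact this.mp hx2

open scoped Classical in
theorem card_comm_conj [Fintype G] (g y : G) (m : ℕ) :
    (Finset.univ.filter (fun z : G => Commute z (g * y * g⁻¹) ∧ z ^ m = 1)).card =
    (Finset.univ.filter (fun z : G => Commute z y ∧ z ^ m = 1)).card := by
  apply Finset.card_nbij' (fun z => g⁻¹ * z * g) (fun z => g * z * g⁻¹)
  · intro z hz
    simp only [Finset.coe_filter, Finset.mem_filter, Finset.mem_univ, true_and,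
        Set.mem_ofPred_eq] at hz ⊢
    obtain ⟨h1, h2⟩ := hz
    refine ⟨?_, ?_⟩
    · have h1' : z * (g * y * g⁻¹) = (g * y * g⁻¹) * z := h1
      show g⁻¹ * z * g * y = y * (g⁻¹ * z * g)
      calc g⁻¹ * z * g * y = g⁻¹ * (z * (g * y * g⁻¹)) * g := by group
        _ = g⁻¹ * ((g * y * g⁻¹) * z) * g := by rw [h1']
        _ = y * (g⁻¹ * z * g) := by group
    · have := conj_pow (a := g⁻¹) (b := z) (i := m)
      rw [inv_inv] at this
      rw [this, h2, mul_one, inv_mul_cancel]
  · intro z hz
    simp only [Finset.coe_filter, Finset.mem_filter, Finset.mem_univ, true_and,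
        Set.mem_ofPred_eq] at hz ⊢
    obtain ⟨h1, h2⟩ := hz
    refine ⟨?_, ?_⟩
    · have h1' : z * y = y * z := h1
      show g * z * g⁻¹ * (g * y * g⁻¹) = (g * y * g⁻¹) * (g * z * g⁻¹)
      calc g * z * g⁻¹ * (g * y * g⁻¹) = g * (z * y) * g⁻¹ := by group
        _ = g * (y * z) * g⁻¹ := by rw [h1']
        _ = (g * y * g⁻¹) * (g * z * g⁻¹) := by group
    · rw [conj_pow, h2, mul_one, mul_inv_cancel]
  · intro z _; group
  · intro z _; group

open scoped Classical in
theorem sum_dvd [Fintype G] (S : Finset G) (m : ℕ) (hm : m ∣ Nat.card G)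
    (hS : ∀ g y, y ∈ S → g * y * g⁻¹ ∈ S)
    (h : ∀ y ∈ S, Nat.gcd m (Nat.card (Subgroup.centralizer ({y} : Set G))) ∣
      (Finset.univ.filter (fun z : G => Commute z y ∧ z ^ m = 1)).card) :
    m ∣ ∑ y ∈ S, (Finset.univ.filter (fun z : G => Commute z y ∧ z ^ m = 1)).card := by
  apply classSum S _ m hS (fun g y => card_comm_conj g y m)
  intro y hy
  have h1 : m ∣ (Subgroup.centralizer ({y} : Set G)).index *
      Nat.card (Subgroup.centralizer ({y} : Set G)) := by
    rw [mul_comm, Subgroup.card_mul_index]; exact hm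
  have h2 : m ∣ (Subgroup.centralizer ({y} : Set G)).index * m := dvd_mul_left _ _
  have h3 : m ∣ (Subgroup.centralizer ({y} : Set G)).index *
      Nat.gcd m (Nat.card (Subgroup.centralizer ({y} : Set G))) := by
    rw [← Nat.gcd_mul_left]; exact Nat.dvd_gcd h2 h1
  exact dvd_trans h3 (Nat.mul_dvd_mul_left _ (h y hy))

open scoped Classical in
theorem card_tors_centralizer [Fintype G] (y : G) (m : ℕ) :
    Nat.card {z : Subgroup.centralizer ({y} : Set G) // z ^ m = 1} =
      (Finset.univ.filter (fun z : G => Commute z y ∧ z ^ m = 1)).card := by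
  rw [← Fintype.card_subtype, ← Nat.card_eq_fintype_card]
  apply Nat.card_congr
  exact {
    toFun := fun z => ⟨z.1.1, Subgroup.mem_centralizer_singleton_iff.mp z.1.2, by
      have := congrArg Subtype.val z.2
      simpa using this⟩
    invFun := fun z => ⟨⟨z.1, Subgroup.mem_centralizer_singleton_iff.mpr z.2.1⟩, by
      apply Subtype.ext
      simpa using z.2.2⟩
    left_inv := fun z => rfl
    right_inv := fun z => rfl }

theorem normal_of_le_center' {K : Type*} [Group K] (Z : Subgroup K)
    (hZ : Z ≤ Subgroup.center K) : Z.Normal :=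
  ⟨fun n hn g => by
    have := Subgroup.mem_center_iff.mp (hZ hn) g
    rw [this, mul_inv_cancel_right]; exact hn⟩

end basic

section main

universe u

open scoped Classical in
/-- the key step: `gcd m |C(y)|` divides the number of `m`-torsion elements of `C(y)`, given
Frobenius for all groups of smaller order, when `y ≠ 1` has order prime to `m`. -/
theorem gcd_dvd_of_IH {G : Type u} [Group G] [Fintype G]
    (IH : ∀ (K : Type u) [Group K] [Finite K], Nat.card K < Nat.card G →
      ∀ n, n ∣ Nat.card K → n ∣ Nat.card {g : K // g ^ n = 1})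
    (y : G) (hy1 : y ≠ 1) (m : ℕ) (hym : (orderOf y).Coprime m) :
    Nat.gcd m (Nat.card (Subgroup.centralizer ({y} : Set G))) ∣
      (Finset.univ.filter (fun z : G => Commute z y ∧ z ^ m = 1)).card := by
  classical
  rw [← card_tors_centralizer]
  set C := Subgroup.centralizer ({y} : Set G) with hC
  have hyC : y ∈ C := Subgroup.mem_centralizer_singleton_iff.mpr rfl
  set Z : Subgroup C := Subgroup.zpowers ⟨y, hyC⟩ with hZ
  have hZc : Z ≤ Subgroup.center C := by
    rw [hZ, Subgroup.zpowers_le, Subgroup.mem_center_iff]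
    intro c
    apply Subtype.ext
    exact Subgroup.mem_centralizer_singleton_iff.mp c.2
  haveI : Z.Normal := normal_of_le_center' Z hZc
  have hZcard : Nat.card Z = orderOf y := by
    rw [hZ, Nat.card_zpowers, Subgroup.orderOf_mk]
  have hZ2 : 2 ≤ Nat.card Z := by
    rw [hZcard]
    have h1 : orderOf y ≠ 1 := fun h => hy1 (orderOf_eq_one_iff.mp h)
    have h0 : 0 < orderOf y := orderOf_pos y
    omega
  have hcard : Nat.card C = Nat.card (C ⧸ Z) * Nat.card Z := Subgroup.card_eq_card_quotient_mul_card_subgroup Z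
  have hlt : Nat.card (C ⧸ Z) < Nat.card G := by
    have h1 : Nat.card C ≤ Nat.card G := Subgroup.card_le_card_group C
    have h2 : 0 < Nat.card (C ⧸ Z) := Nat.card_pos
    nlinarith
  have h1 := IH (C ⧸ Z) hlt (Nat.gcd m (Nat.card (C ⧸ Z))) (Nat.gcd_dvd_right _ _)
  rw [← card_tors_gcd, tors_quot Z hZc m (hZcard ▸ hym)] at h1
  refine dvd_trans ?_ h1
  rw [hcard]
  apply Nat.dvd_gcd (Nat.gcd_dvd_left _ _)
  have h2 : (Nat.gcd m (Nat.card (C ⧸ Z) * Nat.card Z)).Coprime (Nat.card Z) := by
    rw [hZcard]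
    exact Nat.Coprime.coprime_dvd_left (Nat.gcd_dvd_left _ _) hym.symm
  exact h2.dvd_of_dvd_mul_right (Nat.gcd_dvd_right _ _)

theorem frobenius_aux : ∀ (N : ℕ) (G : Type u) [Group G] [Finite G], Nat.card G = N →
    ∀ n, n ∣ N → n ∣ Nat.card {g : G // g ^ n = 1} := by
  intro N
  induction N using Nat.strong_induction_on with
  | _ N IH =>
  intro G _ _ hGN
  classical
  haveI : Fintype G := Fintype.ofFinite G
  have hNpos : 0 < N := hGN ▸ Nat.card_pos
  suffices H : ∀ k n, n ∣ N → N / n = k → n ∣ Nat.card {g : G // g ^ n = 1} from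
    fun n hn => H (N / n) n hn rfl
  intro k
  induction k using Nat.strong_induction_on with
  | _ k IHk =>
  intro n hn hk
  have hnpos : 0 < n := Nat.pos_of_dvd_of_pos hn hNpos
  by_cases hk1 : k = 1
  · have hnN : n = N := by
      subst hk1
      exact Nat.eq_of_dvd_of_div_eq_one hn hk
    subst hnN
    have : ∀ g : G, g ^ n = 1 := fun g => by rw [← hGN]; exact pow_card_eq_one'
    rw [Nat.card_congr (Equiv.subtypeUnivEquiv this), hGN]
  · have hk0 : 0 < k := by
      rw [← hk]; exact Nat.div_pos (Nat.le_of_dvd hNpos hn) hnpos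
    obtain ⟨p, hp, hpk⟩ := Nat.exists_prime_and_dvd hk1
    have hNnk : N = n * k := by rw [← hk, Nat.mul_div_cancel' hn]
    have hpn : p * n ∣ N := by
      rw [hNnk, mul_comm]; exact Nat.mul_dvd_mul_left n hpk
    have hk' : N / (p * n) = k / p := by
      rw [← hk, mul_comm, Nat.div_div_eq_div_mul]
    have hlt : k / p < k := Nat.div_lt_self hk0 hp.one_lt
    have ih1 := IHk (k / p) hlt (p * n) hpn hk'
    obtain ⟨a, m, hpm, hnam⟩ := Nat.exists_eq_pow_mul_and_not_dvd hnpos.ne' p hp.ne_one
    have hpn' : p * n = p ^ (a + 1) * m := by rw [hnam, pow_succ]; ring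
    have hcop : (p ^ (a + 1)).Coprime m :=
      Nat.Coprime.pow_left _ ((Nat.Prime.coprime_iff_not_dvd hp).mpr hpm)
    have hmN : m ∣ Nat.card G := by
      rw [hGN]; exact dvd_trans (hnam ▸ dvd_mul_left m (p ^ a)) hn
    -- the three finsets
    have e1 : Nat.card {g : G // g ^ (p * n) = 1} =
        (Finset.univ.filter (fun x : G => x ^ (p * n) = 1)).card := by
      rw [Nat.card_eq_fintype_card, Fintype.card_subtype]
    have e0 : Nat.card {g : G // g ^ n = 1} =
        (Finset.univ.filter (fun x : G => x ^ n = 1)).card := by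
      rw [Nat.card_eq_fintype_card, Fintype.card_subtype]
    have hX : (Finset.univ.filter (fun x : G => x ^ n = 1)).card +
        (Finset.univ.filter
          (fun x : G => x ^ (p ^ (a + 1) * m) = 1 ∧ x ^ (p ^ a * m) ≠ 1)).card =
        (Finset.univ.filter (fun x : G => x ^ (p * n) = 1)).card := by
      rw [← Finset.card_filter_add_card_filter_not (s := Finset.univ.filter
        (fun x : G => x ^ (p * n) = 1)) (fun x : G => x ^ n = 1)]
      congr 2
      · ext x
        simp only [Finset.mem_filter, Finset.mem_univ, true_and]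
        constructor
        · intro h
          refine ⟨?_, h⟩
          rw [mul_comm, pow_mul, h, one_pow]
        · exact fun h => h.2
      · ext x
        simp only [Finset.mem_filter, Finset.mem_univ, true_and]
        rw [hpn', hnam]
    -- claim 1
    have c1 := pow_dvd_card_exact (G := G) hp a m
    -- claim 2
    have c2 : m ∣ (Finset.univ.filter
          (fun x : G => x ^ (p ^ (a + 1) * m) = 1 ∧ x ^ (p ^ a * m) ≠ 1)).card := by
      have hdec := decomp (G := G) (p ^ (a + 1)) m hcop (fun x : G => x ^ (p ^ a * m) ≠ 1) (by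
        intro y z hyz _ hz
        rw [hyz.mul_pow, mul_comm (p ^ a) m, pow_mul z, hz, one_pow, mul_one])
      have hsum := sum_dvd (G := G)
        (Finset.univ.filter (fun y : G => y ^ p ^ (a + 1) = 1 ∧ y ^ (p ^ a * m) ≠ 1)) m hmN (by
          intro g y hy
          simp only [Finset.mem_filter, Finset.mem_univ, true_and] at hy ⊢
          rw [conj_pow, conj_pow, hy.1]
          refine ⟨by group, ?_⟩
          intro h
          apply hy.2
          have : y ^ (p ^ a * m) = g⁻¹ * (g * y ^ (p ^ a * m) * g⁻¹) * g := by group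
          rw [this, h]; group) (by
          intro y hy
          simp only [Finset.mem_filter, Finset.mem_univ, true_and] at hy
          apply gcd_dvd_of_IH _ y
          · rintro rfl
            exact hy.2 (one_pow _)
          · exact Nat.Coprime.coprime_dvd_left (orderOf_dvd_of_pow_eq_one hy.1) hcop
          · intro K _ _ hK n' hn'
            exact IH (Nat.card K) (hGN ▸ hK) K rfl n' hn')
      have hcard : (Finset.univ.filter
          (fun x : G => x ^ (p ^ (a + 1) * m) = 1 ∧ x ^ (p ^ a * m) ≠ 1)).card =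
          ∑ y ∈ Finset.univ.filter (fun y : G => y ^ p ^ (a + 1) = 1 ∧ y ^ (p ^ a * m) ≠ 1),
            (Finset.univ.filter (fun z : G => Commute z y ∧ z ^ m = 1)).card := by
        convert hdec
      rw [hcard]; exact hsum
    have c3 : n ∣ (Finset.univ.filter
          (fun x : G => x ^ (p ^ (a + 1) * m) = 1 ∧ x ^ (p ^ a * m) ≠ 1)).card := by
      rw [hnam]
      exact Nat.Coprime.mul_dvd_of_dvd_of_dvd
        (Nat.Coprime.pow_left _ ((Nat.Prime.coprime_iff_not_dvd hp).mpr hpm)) c1 c2
    rw [e1, ← hX] at ih1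
    rw [e0]
    exact (Nat.dvd_add_left c3).mp (dvd_trans (dvd_mul_left n p) ih1)

/-- **Frobenius' divisibility theorem.** -/
theorem frobenius_dvd {G : Type u} [Group G] [Finite G] (n : ℕ) (hn : n ∣ Nat.card G) :
    n ∣ Nat.card {g : G // g ^ n = 1} :=
  frobenius_aux (Nat.card G) G rfl n hn

/-- gcd form of Frobenius' theorem, for arbitrary `m`. -/
theorem frobenius_gcd_dvd {G : Type u} [Group G] [Finite G] (m : ℕ) :
    Nat.gcd m (Nat.card G) ∣ Nat.card {g : G // g ^ m = 1} := by
  rw [card_tors_gcd]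
  exact frobenius_dvd _ (Nat.gcd_dvd_right _ _)

end main

end Cfsg.Agent.Lib.Helper4.FrobDiv
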