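import Mathlib
import Cfsg.Prelude.Def_Solvable
import Cfsg.Agent.H1.FrobeniusCount
import Cfsg.Agent.Lib.Helper4.FrobThm

/-!
# A Frobenius group acting on an abelian group (helper4)

If the Frobenius group `F` (complement `H`, kernel `K`) acts on an abelian group `A` such that
neither `K` nor `H` has a nontrivial fixed point, then `a ^ |K| = 1` for all `a ∈ A`.
-/

set_option autoImplicit false
set_option linter.style.haveILetI false

namespace Cfsg.Agent.Lib.Helper4.FrobAction

open Cfsg

variable {F : Type*} [Group F] [Fintype F] {A : Type*} [CommGroup A]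

/-- The norm of `a` over a subgroup is fixed by that subgroup. -/
theorem norm_fixed [DecidableEq F] (φ : F →* MulAut A) (S : Subgroup F) [Fintype S] (a : A)
    (t : F) (ht : t ∈ S) : φ t (∏ s : S, φ (s : F) a) = ∏ s : S, φ (s : F) a := by
  rw [map_prod]
  refine Fintype.prod_equiv (Equiv.mulLeft (⟨t, ht⟩ : S)) _ _ ?_
  intro s
  simp only [Equiv.coe_mulLeft, Subgroup.coe_mul, map_mul, MulAut.mul_apply]

theorem pow_index_eq_one [DecidableEq F] (φ : F →* MulAut A) (H : Subgroup F)
    (hH : IsFrobeniusComplement H)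
    (hK : ∀ a : A, (∀ x ∈ frobeniusKernel H, φ x a = a) → a = 1)
    (hHfix : ∀ a : A, (∀ x ∈ H, φ x a = a) → a = 1) (a : A) : a ^ H.index = 1 := by
  classical
  obtain ⟨K, hKset, hKn, hKc⟩ := Cfsg.Agent.Lib.Helper4.FrobThm.frobenius_theorem H hH
  haveI : Fintype K := Fintype.ofFinite K
  haveI : Fintype H := Fintype.ofFinite H
  haveI : Fintype (F ⧸ H) := Fintype.ofFinite _
  have hmemK : ∀ x, x ∈ K ↔ x ∈ frobeniusKernel H := by
    intro x
    rw [← hKset]; rfl
  -- norms vanish
  have hNK : ∀ b : A, ∏ k : K, φ (k : F) b = 1 := by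
    intro b
    apply hK
    intro x hx
    exact norm_fixed φ K b x ((hmemK x).2 hx)
  have hNH : ∀ b : A, ∏ h : H, φ (h : F) b = 1 := by
    intro b
    apply hHfix
    intro x hx
    exact norm_fixed φ H b x hx
  have hNF : ∏ x : F, φ x a = 1 := by
    apply hK
    intro x _
    rw [map_prod]
    refine Fintype.prod_equiv (Equiv.mulLeft x) _ _ ?_
    intro s
    simp only [Equiv.coe_mulLeft, map_mul, MulAut.mul_apply]
  -- split
  have hsplit := Finset.prod_filter_mul_prod_filter_not (Finset.univ : Finset F) (· ∈ K)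
    (fun x => φ x a)
  rw [hNF] at hsplit
  have h1 : ∏ x ∈ Finset.univ.filter (· ∈ K), φ x a = 1 := by
    rw [Finset.prod_subtype (Finset.univ.filter (· ∈ K)) (p := (· ∈ K)) (by simp)]
    exact hNK a
  rw [h1, one_mul] at hsplit
  -- the complement of the kernel
  have himg : Finset.univ.filter (· ∉ K) = Finset.image (Cfsg.Agent.H1.frobMap H) Finset.univ := by
    ext x
    simp only [Finset.mem_filter, Finset.mem_univ, true_and, Finset.mem_image]
    have := Set.ext_iff.1 (Cfsg.Agent.H1.range_frobMap H) x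
    rw [Set.mem_range, Set.mem_compl_iff, ← hmemK] at this
    exact this.symm
  rw [himg, Finset.prod_image (fun x _ y _ h => Cfsg.Agent.H1.frobMap_injective H hH h),
    Fintype.prod_prod_type] at hsplit
  have hc : ∀ c : F ⧸ H, ∏ m : {m : H // m ≠ 1}, φ (Cfsg.Agent.H1.frobMap H (c, m)) a = a⁻¹ := by
    intro c
    set g := c.out with hg
    have e1 : ∏ m : H, φ (g * (m : F) * g⁻¹) a = 1 := by
      have : ∀ m : H, φ (g * (m : F) * g⁻¹) a = φ g (φ (m : F) (φ g⁻¹ a)) := by
        intro m
        simp only [map_mul, MulAut.mul_apply]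
      rw [Finset.prod_congr rfl (fun m _ => this m), ← map_prod, hNH, map_one]
    have e2 := Finset.mul_prod_erase Finset.univ (fun m : H => φ (g * (m : F) * g⁻¹) a)
      (Finset.mem_univ (1 : H))
    rw [e1] at e2
    simp only [Subgroup.coe_one, mul_one, mul_inv_cancel, map_one, MulAut.one_apply] at e2
    rw [Finset.prod_subtype (Finset.univ.erase (1 : H)) (p := (· ≠ 1)) (by simp)] at e2
    exact eq_inv_of_mul_eq_one_right e2
  rw [Finset.prod_congr rfl (fun c _ => hc c), Finset.prod_const, Finset.card_univ,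
    ← Nat.card_eq_fintype_card, ← Subgroup.index_eq_card, inv_pow, inv_eq_one] at hsplit
  exact hsplit

end Cfsg.Agent.Lib.Helper4.FrobAction
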