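import Mathlib
import Cfsg.Prelude.Def_Local
import Cfsg.Prelude.Def_OddOrderLocal
import Cfsg.Agent.Lib.Helper4.Rank2Solv
import Cfsg.Agent.Lib.Helper4.Rank2Fit
import Cfsg.Agent.Lib.Helper4.NarrowData
import Cfsg.Agent.S1461

/-!
# Solvable groups of odd order with narrow Sylow `p`-subgroups (B&G Theorem 5.6 style, = S1455)
-/

set_option autoImplicit false

namespace Cfsg.Agent.Lib.Helper4.NarrowSolv

open Cfsg Cfsg.Agent.Lib.Helper4.Rank2Aut Cfsg.Agent.Lib.Helper4.Rank2Aut2
open Cfsg.Agent.Lib.Helper4.Rank2Solv Cfsg.Agent.Lib.Helper4.Rank2Fit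
open scoped commutatorElement Pointwise

/-- the conclusions of B&G 5.5(a),(b) for the automorphism group of `R` -/
def AutNarrow (p : ℕ) (R : Type*) [Group R] : Prop :=
  (∀ (σ : MulAut R) (m : ℕ), σ ^ m = 1 → m.Coprime p → σ ^ (p - 1) = 1) ∧
    (∀ c ∈ commutator (MulAut R), ∃ a : ℕ, c ^ p ^ a = 1)

theorem autNarrow_of_equiv {p : ℕ} {A B : Type*} [Group A] [Group B] (φ : A ≃* B)
    (h : AutNarrow p A) : AutNarrow p B := by
  set e : MulAut A ≃* MulAut B := MulAut.congr φ with he
  refine ⟨fun σ m hσ hm => ?_, fun c hc => ?_⟩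
  · have h1 : (e.symm σ) ^ m = 1 := by rw [← map_pow, hσ, map_one]
    have h2 := h.1 _ m h1 hm
    rw [← map_pow] at h2
    exact (EmbeddingLike.map_eq_one_iff).mp h2
  · have h1 : e.symm c ∈ commutator (MulAut A) :=
      map_commutator_le e.symm.toMonoidHom (Subgroup.mem_map_of_mem _ hc)
    obtain ⟨a, ha⟩ := h.2 _ h1
    refine ⟨a, ?_⟩
    rw [← map_pow] at ha
    exact (EmbeddingLike.map_eq_one_iff).mp ha

theorem card_le_of_cyclic {C : Type*} [Group C] [Finite C] [IsCyclic C] {n : ℕ} (hn : 0 < n) :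
    Nat.card {y : C // y ^ n = 1} ≤ n := by
  classical
  haveI := Fintype.ofFinite C
  rw [Nat.card_eq_fintype_card, Fintype.card_subtype]
  exact IsCyclic.card_pow_eq_one_le hn

/-- a product of a group of order `p` and a cyclic group commuting with it has `p`-rank at most 2 -/
theorem pRankLE_of_mul {p : ℕ} [hp' : Fact p.Prime] {R : Type*} [Group R] [Finite R]
    (R₀ R₁ : Subgroup R) (h0 : Nat.card R₀ = p)
    (h1 : IsCyclic R₁) (hcomm : ∀ a ∈ R₀, ∀ b ∈ R₁, a * b = b * a) : PRankLE p 2 ↥(R₀ ⊔ R₁) := by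
  intro B hBc hBe
  have hnorm : R₀ ≤ Subgroup.normalizer (R₁ : Set R) := by
    intro a ha
    apply Subgroup.centralizer_le_normalizer
    rw [Subgroup.mem_centralizer_iff]
    intro b hb
    exact (hcomm a ha b hb).symm
  have hdec : ∀ z : ↥B, ∃ x : ↥R₀, ∃ y : {y : ↥R₁ // y ^ p = 1}, (x : R) * (y.1 : R) = (z.1 : R) := by
    intro z
    have hz : (z.1 : R) ∈ ((R₀ ⊔ R₁ : Subgroup R) : Set R) := z.1.2
    rw [Subgroup.coe_mul_of_left_le_normalizer_right R₀ R₁ hnorm, Set.mem_mul] at hz
    obtain ⟨x, hx, y, hy, hxy⟩ := hz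
    have hxp : x ^ p = 1 := by
      have := pow_card_eq_one' (G := ↥R₀) (x := ⟨x, hx⟩)
      rw [h0] at this
      have h9 := congrArg Subtype.val this
      simpa using h9
    have hzp : (z.1 : R) ^ p = 1 := by
      have := hBe z.1 z.2
      have h9 := congrArg Subtype.val this
      simpa using h9
    have hyp : y ^ p = 1 := by
      rw [← hxy, (show Commute x y from hcomm x hx y hy).mul_pow, hxp, one_mul] at hzp
      exact hzp
    refine ⟨⟨x, hx⟩, ⟨⟨y, hy⟩, ?_⟩, hxy⟩
    apply Subtype.ext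
    rw [Subgroup.coe_pow, Subgroup.coe_one]
    exact hyp
  choose fx fy hf using hdec
  have hinj : Function.Injective (fun z : ↥B => (fx z, fy z)) := by
    intro z z' h
    simp only [Prod.mk.injEq] at h
    apply Subtype.ext
    apply Subtype.ext
    rw [← hf z, ← hf z', h.1, h.2]
  have hle := Nat.card_le_card_of_injective _ hinj
  rw [Nat.card_prod, h0] at hle
  have h2 : Nat.card {y : ↥R₁ // y ^ p = 1} ≤ p := card_le_of_cyclic hp'.out.pos
  calc Nat.card ↥B ≤ p * Nat.card {y : ↥R₁ // y ^ p = 1} := hle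
    _ ≤ p * p := Nat.mul_le_mul_left p h2
    _ = p ^ 2 := (sq p).symm

/-- the rank of a group is the rank of its Sylow subgroup -/
theorem pRankLE_of_sylow {p k : ℕ} [Fact p.Prime] {G : Type*} [Group G] [Finite G] (S : Sylow p G)
    (h : PRankLE p k ↥(S : Subgroup G)) : PRankLE p k G := by
  intro A hAc hAe
  have hAp : IsPGroup p ↥A := by
    intro a
    refine ⟨1, ?_⟩
    rw [pow_one]
    apply Subtype.ext
    rw [Subgroup.coe_pow, Subgroup.coe_one]
    exact hAe a.1 a.2
  obtain ⟨Q, hQ⟩ := hAp.exists_le_sylow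
  obtain ⟨g, hg⟩ := MulAction.exists_smul_eq G Q S
  have hmem : ∀ a : ↥A, g * (a : G) * g⁻¹ ∈ (S : Subgroup G) := by
    intro a
    rw [← hg]
    show g * (a : G) * g⁻¹ ∈ (MulAut.conj g • (Q : Subgroup G))
    rw [Subgroup.mem_pointwise_smul_iff_inv_smul_mem]
    rw [MulAut.smul_def, MulAut.conj_inv_apply]
    have : g⁻¹ * (g * (a : G) * g⁻¹) * g = a := by group
    rw [this]
    exact hQ a.2
  let f : ↥A →* ↥(S : Subgroup G) :=
    { toFun := fun a => ⟨g * (a : G) * g⁻¹, hmem a⟩
      map_one' := by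
        apply Subtype.ext
        simp
      map_mul' := by
        intro a b
        apply Subtype.ext
        simp only [Subgroup.coe_mul]
        group }
  have hf : Function.Injective f := by
    intro a b hab
    have h9 := congrArg (fun u : ↥(S : Subgroup G) => (u : G)) hab
    simp only [f, MonoidHom.coe_mk, OneHom.coe_mk] at h9
    apply Subtype.ext
    have h10 : g * (a : G) = g * (b : G) := mul_right_cancel h9
    exact mul_left_cancel h10
  have hA' := pRankLE_of_injective f hf h
  have htop := hA' ⊤ (by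
    refine ⟨⟨fun x y => ?_⟩⟩
    apply Subtype.ext
    apply Subtype.ext
    have := hAc.is_comm.comm x.1 y.1
    exact congrArg Subtype.val this) (by
    intro a _
    apply Subtype.ext
    rw [Subgroup.coe_pow, Subgroup.coe_one]
    exact hAe a.1 a.2)
  rw [Subgroup.card_top] at htop
  exact htop

section main

universe u

variable {p : ℕ} [hp' : Fact p.Prime] {G : Type u} [Group G] [Finite G] [Group.IsSolvable G]

/-- the structure statement of B&G 4.18 from its two key facts about `G / O_{p'}(G)` -/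
theorem generic_structure (hodd : Odd (Nat.card G))
    (hcomq : commutator (G ⧸ pPrimeCore p G) ≤ pCore p (G ⧸ pPrimeCore p G))
    (hprime : ∀ q : ℕ, q.Prime → q ∣ Nat.card (G ⧸ pPrimeCore p G) → q ≤ p) :
    (∀ q : ℕ, q.Prime → q ∣ (pPrimeCore p G).index → q ≤ p) ∧
      ((p = 3 ∨ ∀ q : ℕ, q.Prime → q ∣ Nat.card G → p ≤ q) → HasNormalPComplement p G) ∧
      HasNormalPComplement p ↥(commutator G) ∧
      (∀ L : Subgroup ↥(commutator G), (Nat.card L).Coprime p →
        L ≤ pPrimeCore p ↥(commutator G)) ∧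
      commutator G ≤ pPrimePCore p G ∧ ((pPrimePCore p G).index).Coprime p := by
  classical
  have hpp := hp'.out
  set N := pPrimeCore p G with hN
  set π := QuotientGroup.mk' N with hπ
  have hπs : Function.Surjective π := QuotientGroup.mk'_surjective N
  have hNc : (Nat.card ↥N).Coprime p := Cfsg.Agent.Lib.Lead.PiCore.pPrimeCore_coprime hpp
  have hRp : IsPGroup p ↥(pCore p (G ⧸ N)) := Cfsg.Agent.H9.pCore_isPGroup p (G ⧸ N)
  have hDmap : (commutator G).map π ≤ pCore p (G ⧸ N) := (map_commutator_le π).trans hcomq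
  -- (1)
  have h1 : ∀ q : ℕ, q.Prime → q ∣ N.index → q ≤ p := by
    intro q hq hqd
    rw [Subgroup.index_eq_card] at hqd
    exact hprime q hq hqd
  refine ⟨h1, ?_, ?_, ?_, ?_, ?_⟩
  · -- (2)
    intro hsmall
    have hsm : ∀ q : ℕ, q.Prime → q ∣ Nat.card G → p ≤ q := by
      rcases hsmall with h3 | h
      · intro q hq hqd
        rw [h3]
        have hq2 : q ≠ 2 := by
          intro h2
          rw [h2] at hqd
          exact (Nat.not_even_iff_odd.mpr hodd) (even_iff_two_dvd.mpr hqd)
        have := hq.two_le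
        omega
      · exact h
    have hidx : N.index = p ^ (N.index).primeFactorsList.length := by
      apply Nat.eq_prime_pow_of_unique_prime_dvd Subgroup.index_ne_zero_of_finite
      intro q hq hqd
      have hle := h1 q hq hqd
      have hge := hsm q hq (hqd.trans (Subgroup.index_dvd_card N))
      omega
    exact Cfsg.Agent.Lib.Lead.PComplement.hasNormalPComplement_of_normal N hNc hidx
  · -- (3)
    set D := commutator G with hD
    haveI : (N.subgroupOf D).Normal := Subgroup.normal_subgroupOf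
    have hKc : (Nat.card ↥(N.subgroupOf D)).Coprime p := by
      have e : Nat.card ↥(N.subgroupOf D) = Nat.card ↥(N ⊓ D) := by
        rw [← Subgroup.subgroupOf_map_subtype, Subgroup.card_map_of_injective D.subtype_injective]
      rw [e]
      exact Nat.Coprime.coprime_dvd_left (Subgroup.card_dvd_of_le inf_le_left) hNc
    have hKi : ∃ n : ℕ, (N.subgroupOf D).index = p ^ n := by
      have e : (N.subgroupOf D).index = Nat.card ↥(D.map π) := by
        have := Subgroup.relIndex_ker (K := D) π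
        rw [hπ, QuotientGroup.ker_mk'] at this
        exact this
      rw [e]
      exact IsPGroup.iff_card.mp (hRp.to_le hDmap)
    obtain ⟨n, hn⟩ := hKi
    exact Cfsg.Agent.Lib.Lead.PComplement.hasNormalPComplement_of_normal (N.subgroupOf D) hKc hn
  · -- (4)
    intro L hL
    haveI hKn : (N.subgroupOf (commutator G)).Normal := Subgroup.normal_subgroupOf
    have hKc : (Nat.card ↥(N.subgroupOf (commutator G))).Coprime p := by
      have e : Nat.card ↥(N.subgroupOf (commutator G)) = Nat.card ↥(N ⊓ commutator G) := by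
        rw [← Subgroup.subgroupOf_map_subtype, Subgroup.card_map_of_injective (commutator G).subtype_injective]
      rw [e]
      exact Nat.Coprime.coprime_dvd_left (Subgroup.card_dvd_of_le inf_le_left) hNc
    have hLK : L ≤ N.subgroupOf (commutator G) := by
      intro l hl
      rw [Subgroup.mem_subgroupOf]
      have hmem : π l.1 ∈ pCore p (G ⧸ N) := hDmap (Subgroup.mem_map_of_mem π l.2)
      obtain ⟨i, hi⟩ := hRp ⟨_, hmem⟩
      have h3 : (π l.1) ^ p ^ i = 1 := by
        have := congrArg Subtype.val hi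
        simpa using this
      have hd1 : orderOf (π l.1) ∣ p ^ i := orderOf_dvd_of_pow_eq_one h3
      have hd2 : orderOf (π l.1) ∣ Nat.card ↥L := by
        have h4 : orderOf (π l.1) ∣ orderOf l.1 := orderOf_map_dvd π l.1
        have h5 : orderOf l.1 = orderOf (⟨l, hl⟩ : ↥L) := by
          rw [← Subgroup.orderOf_coe (⟨l, hl⟩ : ↥L), ← Subgroup.orderOf_coe l]
        rw [h5] at h4
        exact h4.trans (orderOf_dvd_natCard _)
      have hcop : (p ^ i).Coprime (Nat.card ↥L) := Nat.Coprime.pow_left i hL.symm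
      have h6 : orderOf (π l.1) = 1 := Nat.eq_one_of_dvd_coprimes hcop hd1 hd2
      have h7 : π l.1 = 1 := orderOf_eq_one_iff.mp h6
      exact (QuotientGroup.eq_one_iff l.1).mp h7
    exact hLK.trans (Cfsg.Agent.Lib.Lead.PiCore.le_pPrimeCore hKn hKc)
  · -- (5a)
    intro g hg
    exact hDmap (Subgroup.mem_map_of_mem π hg)
  · -- (5b)
    have e : (pPrimePCore p G).index = (pCore p (G ⧸ N)).index := by
      unfold pPrimePCore
      exact Subgroup.index_comap_of_surjective _ hπs
    rw [e]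
    obtain ⟨S⟩ : Nonempty (Sylow p (G ⧸ N)) := inferInstance
    have hRS : pCore p (G ⧸ N) ≤ (S : Subgroup (G ⧸ N)) := Cfsg.Agent.Lib.Helper7.pCore_le_sylow S
    haveI hSn : (S : Subgroup (G ⧸ N)).Normal := normal_of_commutator_le (hcomq.trans hRS)
    have hSR : (S : Subgroup (G ⧸ N)) ≤ pCore p (G ⧸ N) := Cfsg.Agent.H9.le_pCore _ S.2
    have heq : pCore p (G ⧸ N) = (S : Subgroup (G ⧸ N)) := le_antisymm hRS hSR
    rw [heq]
    exact ((Nat.Prime.coprime_iff_not_dvd hpp).mpr S.not_dvd_index).symm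

/-- the two key facts from the automorphism statement for `O_p(G / O_{p'}(G))` -/
theorem key_facts (hp : p ≠ 2)
    (hA : AutNarrow p ↥(pCore p (G ⧸ pPrimeCore p G))) :
    commutator (G ⧸ pPrimeCore p G) ≤ pCore p (G ⧸ pPrimeCore p G) ∧
      ∀ q : ℕ, q.Prime → q ∣ Nat.card (G ⧸ pPrimeCore p G) → q ≤ p := by
  have hpp := hp'.out
  set N := pPrimeCore p G with hN
  have hbot : pPrimeCore p (G ⧸ N) = ⊥ :=
    Cfsg.Agent.Lib.Lead.PiCore.pPrimeCore_quotient_eq_bot hpp
  have hRp : IsPGroup p ↥(pCore p (G ⧸ N)) := Cfsg.Agent.H9.pCore_isPGroup p (G ⧸ N)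
  set c : (G ⧸ N) →* MulAut ↥(pCore p (G ⧸ N)) := MulAut.conjNormal with hc
  constructor
  · have hDp : IsPGroup p ↥(commutator (G ⧸ N)) := by
      rintro ⟨g, hg⟩
      have hmem : c g ∈ commutator (MulAut ↥(pCore p (G ⧸ N))) :=
        map_commutator_le c (Subgroup.mem_map_of_mem _ hg)
      obtain ⟨k, hk⟩ := hA.2 _ hmem
      have h3 : c (g ^ p ^ k) = 1 := by rw [map_pow]; exact hk
      have h4 : g ^ p ^ k ∈ pCore p (G ⧸ N) := ker_conj_le hbot _ h3
      obtain ⟨i, hi⟩ := hRp ⟨_, h4⟩
      refine ⟨k + i, ?_⟩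
      apply Subtype.ext
      have h5 := congrArg Subtype.val hi
      rw [Subgroup.coe_pow, Subgroup.coe_one] at h5
      rw [Subgroup.coe_pow, Subgroup.coe_one, pow_add, pow_mul]
      exact h5
    haveI : (commutator (G ⧸ N)).Normal := inferInstance
    exact Cfsg.Agent.H9.le_pCore (commutator (G ⧸ N)) hDp
  · intro q hq hqG
    by_contra hlt
    rw [not_le] at hlt
    haveI : Fact q.Prime := ⟨hq⟩
    obtain ⟨x, hx⟩ := exists_prime_orderOf_dvd_card' q hqG
    have hσ : (c x) ^ q = 1 := by rw [← map_pow, ← hx, pow_orderOf_eq_one, map_one]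
    have hqp : q.Coprime p := (Nat.coprime_primes hq hpp).mpr (by omega)
    have h0 : (c x) ^ (p - 1) = 1 := hA.1 (c x) q hσ hqp
    have hcop : q.Coprime (p - 1) := by
      rw [Nat.Prime.coprime_iff_not_dvd hq]
      intro hd
      have h2 := hpp.two_le
      have := Nat.le_of_dvd (by omega) hd
      omega
    have h1 : c x = 1 := eq_one_of_pow_pow_coprime hσ h0 hcop
    have h2 : x ∈ pCore p (G ⧸ N) := ker_conj_le hbot x h1
    obtain ⟨i, hi⟩ := hRp ⟨x, h2⟩
    have h3 : x ^ p ^ i = 1 := by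
      have := congrArg Subtype.val hi
      simpa using this
    have h4 : q ∣ p ^ i := hx ▸ orderOf_dvd_of_pow_eq_one h3
    have h5 : q ∣ p := hq.dvd_of_dvd_pow h4
    have := Nat.le_of_dvd hpp.pos h5
    omega

/-- the image of a Sylow `p`-subgroup in `G / O_{p'}(G)` is `O_p` when the `p`-length is one -/
theorem sylow_equiv_pCore (hpl : PLengthLE p 1 G) (S : Sylow p G) :
    Nonempty (↥(S : Subgroup G) ≃* ↥(pCore p (G ⧸ pPrimeCore p G))) := by
  have hpp := hp'.out
  set N := pPrimeCore p G with hN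
  set π := QuotientGroup.mk' N with hπ
  have hπs : Function.Surjective π := QuotientGroup.mk'_surjective N
  have hNc : (Nat.card ↥N).Coprime p := Cfsg.Agent.Lib.Lead.PiCore.pPrimeCore_coprime hpp
  obtain ⟨K, hKn, hKp, hKU⟩ := Cfsg.Agent.S1461.main p hpl S
  have hKN : K ≤ N := Cfsg.Agent.Lib.Lead.PiCore.le_pPrimeCore hKn hKp
  have hKmap : K.map π = ⊥ := by
    rw [Subgroup.map_eq_bot_iff, hπ, QuotientGroup.ker_mk']
    exact hKN
  have hNmap : (Subgroup.normalizer ((S : Subgroup G) : Set G)).map π = ⊤ := by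
    have h1 := congrArg (Subgroup.map π) hKU
    rw [Subgroup.map_sup, hKmap, bot_sup_eq, Subgroup.map_top_of_surjective π hπs] at h1
    exact h1
  haveI hSn : ((S : Subgroup G).map π).Normal := by
    rw [← Subgroup.normalizer_eq_top_iff, eq_top_iff, ← hNmap]
    exact Subgroup.le_normalizer_map π
  have hSle : (S : Subgroup G).map π ≤ pCore p (G ⧸ N) :=
    Cfsg.Agent.H9.le_pCore _ (S.isPGroup'.map π)
  have hle : pCore p (G ⧸ N) ≤ (S : Subgroup G).map π := by
    have := Cfsg.Agent.Lib.Helper7.pCore_le_sylow (S.mapSurjective hπs)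
    rwa [Sylow.coe_mapSurjective] at this
  have hSP : (S : Subgroup G).map π = pCore p (G ⧸ N) := le_antisymm hSle hle
  have hinj : Function.Injective (π.comp (S : Subgroup G).subtype) := by
    rw [← MonoidHom.ker_eq_bot_iff, eq_bot_iff]
    intro x hx
    rw [MonoidHom.mem_ker, MonoidHom.comp_apply, hπ, QuotientGroup.mk'_apply,
      QuotientGroup.eq_one_iff] at hx
    have hdisj : Disjoint (S : Subgroup G) N := by
      apply Subgroup.disjoint_of_coprime_natCard
      obtain ⟨k, hk⟩ := S.isPGroup'.exists_card_eq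
      rw [hk]
      exact Nat.Coprime.pow_left k hNc.symm
    have h1 : (x : G) ∈ (S : Subgroup G) ⊓ N := ⟨x.2, hx⟩
    rw [hdisj.eq_bot, Subgroup.mem_bot] at h1
    rw [Subgroup.mem_bot]
    exact Subtype.ext h1
  have hrange : (π.comp (S : Subgroup G).subtype).range = pCore p (G ⧸ N) := by
    rw [MonoidHom.range_comp, Subgroup.range_subtype, hSP]
  exact ⟨(MonoidHom.ofInjective hinj).trans (MulEquiv.subgroupCongr hrange)⟩

/-- **S1455** -/
theorem narrow_structure (hodd : Odd (Nat.card G)) (hpG : p ∣ Nat.card G) (S : Sylow p G)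
    (hS : IsNarrow p ↥(S : Subgroup G))
    (hpl : ¬ PRankLE p 2 ↥(S : Subgroup G) → PLengthLE p 1 G) :
    (∀ q : ℕ, q.Prime → q ∣ (pPrimeCore p G).index → q ≤ p) ∧
      ((p = 3 ∨ ∀ q : ℕ, q.Prime → q ∣ Nat.card G → p ≤ q) → HasNormalPComplement p G) ∧
      HasNormalPComplement p ↥(commutator G) ∧
      (∀ L : Subgroup ↥(commutator G), (Nat.card L).Coprime p →
        L ≤ pPrimeCore p ↥(commutator G)) ∧
      commutator G ≤ pPrimePCore p G ∧ ((pPrimePCore p G).index).Coprime p := by
  have hpp := hp'.out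
  have hp : p ≠ 2 := odd_prime_of_dvd hodd hpG
  by_cases hr : PRankLE p 2 ↥(S : Subgroup G)
  · exact rank_two_structure hodd hpG (pRankLE_of_sylow S hr)
  · have hpl' := hpl hr
    rcases hS with h | ⟨R₀, R₁, h0, h1, -, hcomm, hC⟩
    · exact absurd h hr
    have hE₀ : IsElementaryAbelian p R₀ := by
      haveI : IsCyclic ↥R₀ := isCyclic_of_prime_card h0
      refine ⟨IsCyclic.commutative, fun a ha => ?_⟩
      · have := pow_card_eq_one' (G := ↥R₀) (x := ⟨a, ha⟩)
        rw [h0] at this
        have h9 := congrArg Subtype.val this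
        simpa using h9
    have hc : PRankLE p 2 ↥(Subgroup.centralizer (R₀ : Set ↥(S : Subgroup G))) := by
      rw [← hC]
      exact pRankLE_of_mul R₀ R₁ h0 h1 hcomm
    have hA : AutNarrow p ↥(S : Subgroup G) :=
      Cfsg.Agent.Lib.Helper4.NarrowData.narrow_aut hp S.isPGroup' hr R₀ hE₀ hc
    obtain ⟨φ⟩ := sylow_equiv_pCore hpl' S
    have hA' := autNarrow_of_equiv φ hA
    obtain ⟨hcomq, hprime⟩ := key_facts hp hA'
    exact generic_structure hodd hcomq hprime

end main

end Cfsg.Agent.Lib.Helper4.NarrowSolv
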