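import Mathlib
import Cfsg.Prelude.Def_OddOrderLocal
import Cfsg.Prelude.Def_OddOrder
import Cfsg.Agent.H2.RankTwoGraph

/-!
Bender–Glauberman Section 9 (uniqueness theorem, easy parts), helper4.
Basics on `InUniqueMaximal` and the conditional Lemma 9.2.
-/

set_option autoImplicit false

namespace Cfsg.Agent.Lib.Helper4.BGUniq

variable {G : Type*} [Group G]

/-- an elementary abelian subgroup `W` of `C` of order `> p^k` shows that `C` has `p`-rank `> k` -/
theorem not_pRankLE_of_le {p k : ℕ} {W C : Subgroup G} (hW : Cfsg.IsElementaryAbelian p W)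
    (hWC : W ≤ C) (hcard : p ^ k < Nat.card ↥W) : ¬ Cfsg.PRankLE p k ↥C := by
  intro h
  have h1 := h (W.subgroupOf C) ?_ ?_
  · rw [Nat.card_congr (Subgroup.subgroupOfEquivOfLe hWC).toEquiv] at h1
    omega
  · refine ⟨⟨fun a b => ?_⟩⟩
    apply Subtype.ext
    apply Subtype.ext
    show ((a : ↥C) : G) * ((b : ↥C) : G) = ((b : ↥C) : G) * ((a : ↥C) : G)
    exact Cfsg.Agent.H2.RankTwoGraph.comm_of_isElementaryAbelian hW (Subgroup.mem_subgroupOf.1 a.2)
      (Subgroup.mem_subgroupOf.1 b.2)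
  · intro a ha
    apply Subtype.ext
    show ((a : G)) ^ p = 1
    exact hW.2 _ (Subgroup.mem_subgroupOf.1 ha)

/-- conversely -/
theorem exists_of_not_pRankLE {p k : ℕ} {C : Subgroup G} (h : ¬ Cfsg.PRankLE p k ↥C) :
    ∃ W : Subgroup G, Cfsg.IsElementaryAbelian p W ∧ W ≤ C ∧ p ^ k < Nat.card ↥W := by
  unfold Cfsg.PRankLE at h
  push Not at h
  obtain ⟨E, hEc, hEp, hEcard⟩ := h
  refine ⟨E.map C.subtype, ⟨⟨⟨fun a b => ?_⟩⟩, ?_⟩, Subgroup.map_subtype_le _, ?_⟩
  · obtain ⟨a, ha⟩ := a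
    obtain ⟨b, hb⟩ := b
    obtain ⟨a', ha', rfl⟩ := ha
    obtain ⟨b', hb', rfl⟩ := hb
    apply Subtype.ext
    show C.subtype a' * C.subtype b' = C.subtype b' * C.subtype a'
    rw [← map_mul, ← map_mul]
    congr 1
    exact congrArg Subtype.val (isMulCommutative_iff.1 hEc ⟨a', ha'⟩ ⟨b', hb'⟩)
  · rintro _ ⟨a, ha, rfl⟩
    rw [← map_pow, hEp a ha, map_one]
  · rw [Subgroup.card_map_of_injective C.subtype_injective]
    exact hEcard

/-- rank at least `2` from an elementary abelian subgroup of order `> p` -/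
theorem not_rankLE_one_of_le {p : ℕ} (hp : p.Prime) {W C : Subgroup G}
    (hW : Cfsg.IsElementaryAbelian p W) (hWC : W ≤ C) (hcard : p < Nat.card ↥W) :
    ¬ Cfsg.RankLE 1 ↥C := by
  intro h
  exact not_pRankLE_of_le hW hWC (by rwa [pow_one]) (h p hp)

theorem exists_of_not_rankLE {k : ℕ} {C : Subgroup G} (h : ¬ Cfsg.RankLE k ↥C) :
    ∃ p : ℕ, p.Prime ∧ ∃ W : Subgroup G, Cfsg.IsElementaryAbelian p W ∧ W ≤ C ∧
      p ^ k < Nat.card ↥W := by
  unfold Cfsg.RankLE at h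
  push Not at h
  obtain ⟨p, hp, h⟩ := h
  exact ⟨p, hp, exists_of_not_pRankLE h⟩

/-- every proper subgroup of a finite group lies in a maximal subgroup -/
theorem exists_coatom_ge [Finite G] {X : Subgroup G} (hX : X ≠ ⊤) :
    ∃ M : Subgroup G, IsCoatom M ∧ X ≤ M := by
  rcases eq_top_or_exists_le_coatom X with h | ⟨M, hM, hXM⟩
  · exact absurd h hX
  · exact ⟨M, hM, hXM⟩

theorem le_of_inUniqueMaximal {X M N : Subgroup G} (hX : Cfsg.InUniqueMaximal X)
    (hM : IsCoatom M) (hXM : X ≤ M) (hN : IsCoatom N) (hXN : X ≤ N) : M = N := by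
  obtain ⟨M₀, _, hu⟩ := hX
  rw [hu M ⟨hM, hXM⟩, hu N ⟨hN, hXN⟩]

theorem inUniqueMaximal_mono [Finite G] {X Y : Subgroup G} (hX : Cfsg.InUniqueMaximal X)
    (hXY : X ≤ Y) (hY : Y ≠ ⊤) : Cfsg.InUniqueMaximal Y := by
  obtain ⟨M, hM, hYM⟩ := exists_coatom_ge hY
  refine ⟨M, ⟨hM, hYM⟩, ?_⟩
  rintro N ⟨hN, hYN⟩
  exact le_of_inUniqueMaximal hX hN (hXY.trans hYN) hM (hXY.trans hYM)

/-- a proper overgroup of a member of `U` lies in its unique maximal subgroup -/
theorem le_of_inUniqueMaximal_of_le [Finite G] {X Y M : Subgroup G} (hX : Cfsg.InUniqueMaximal X)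
    (hM : IsCoatom M) (hXM : X ≤ M) (hXY : X ≤ Y) (hY : Y ≠ ⊤) : Y ≤ M := by
  obtain ⟨N, hN, hYN⟩ := exists_coatom_ge hY
  rw [le_of_inUniqueMaximal hX hM hXM hN (hXY.trans hYN)]
  exact hYN

theorem inUniqueMaximal_map (e : G ≃* G) {X : Subgroup G} (hX : Cfsg.InUniqueMaximal X) :
    Cfsg.InUniqueMaximal (X.map e.toMonoidHom) := by
  obtain ⟨M, ⟨hM, hXM⟩, hu⟩ := hX
  have hco : ∀ (f : G ≃* G) (N : Subgroup G), IsCoatom N → IsCoatom (N.map f.toMonoidHom) := by
    intro f N hN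
    exact (f.mapSubgroup.isCoatom_iff N).2 hN
  refine ⟨M.map e.toMonoidHom, ⟨hco e M hM, Subgroup.map_mono hXM⟩, ?_⟩
  rintro N ⟨hN, hXN⟩
  have h1 : X ≤ N.map e.symm.toMonoidHom := by
    intro x hx
    refine ⟨e x, hXN ⟨x, hx, rfl⟩, ?_⟩
    simp
  have h2 := hu _ ⟨hco e.symm N hN, h1⟩
  rw [← h2, Subgroup.map_map]
  ext x
  simp

theorem center_eq_bot (hG : Cfsg.IsMinSimpleOddOrder G) : Subgroup.center G = ⊥ := by
  obtain ⟨_, hs, hnc, _⟩ := hG
  haveI := hs
  rcases (inferInstance : (Subgroup.center G).Normal).eq_bot_or_eq_top with h | h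
  · exact h
  · exfalso
    apply hnc
    refine ⟨⟨fun a b => ?_⟩⟩
    have : b ∈ Subgroup.center G := by rw [h]; exact Subgroup.mem_top b
    exact Subgroup.mem_center_iff.1 this a

theorem centralizer_ne_top (hG : Cfsg.IsMinSimpleOddOrder G) {L : Subgroup G} (hL : L ≠ ⊥) :
    Subgroup.centralizer (L : Set G) ≠ ⊤ := by
  intro h
  apply hL
  rw [eq_bot_iff, ← center_eq_bot hG]
  intro x hx
  rw [Subgroup.mem_center_iff]
  intro g
  have hg : g ∈ Subgroup.centralizer (L : Set G) := by rw [h]; exact Subgroup.mem_top g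
  exact (Subgroup.mem_centralizer_iff.1 hg x hx).symm

theorem centralizer_singleton_ne_top (hG : Cfsg.IsMinSimpleOddOrder G) {b : G} (hb : b ≠ 1) :
    Subgroup.centralizer ({b} : Set G) ≠ ⊤ := by
  intro h
  apply hb
  have : b ∈ Subgroup.center G := by
    rw [Subgroup.mem_center_iff]
    intro g
    have hg : g ∈ Subgroup.centralizer ({b} : Set G) := by rw [h]; exact Subgroup.mem_top g
    exact (Subgroup.mem_centralizer_iff.1 hg b rfl).symm
  rw [center_eq_bot hG] at this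
  exact Subgroup.mem_bot.1 this

/-- `1` is not in `U`: a nonabelian simple group has more than one maximal subgroup -/
theorem not_inUniqueMaximal_bot [Finite G] (hG : Cfsg.IsMinSimpleOddOrder G) :
    ¬ Cfsg.InUniqueMaximal (⊥ : Subgroup G) := by
  intro h
  obtain ⟨M, ⟨hM, _⟩, hu⟩ := h
  obtain ⟨g, hg⟩ : ∃ g : G, g ∉ M := by
    by_contra hcon
    push Not at hcon
    exact hM.1 (eq_top_iff.2 fun x _ => hcon x)
  have htop : Subgroup.zpowers g = ⊤ := by
    by_contra hne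
    obtain ⟨N, hN, hgN⟩ := exists_coatom_ge hne
    have := hu N ⟨hN, bot_le⟩
    rw [this] at hgN
    exact hg (hgN (Subgroup.mem_zpowers g))
  apply hG.2.2.1
  refine ⟨⟨fun a b => ?_⟩⟩
  have ha : a ∈ Subgroup.zpowers g := by rw [htop]; exact Subgroup.mem_top a
  have hb : b ∈ Subgroup.zpowers g := by rw [htop]; exact Subgroup.mem_top b
  obtain ⟨m, rfl⟩ := ha
  obtain ⟨n, rfl⟩ := hb
  rw [← zpow_add, ← zpow_add, add_comm]

/-- the statement of Lemma 9.1, as a hypothesis -/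
def Lemma91 (G : Type*) [Group G] : Prop :=
  ∀ (M : Subgroup G), IsCoatom M → ∀ (p : ℕ), p.Prime → ∀ (B : Subgroup G), B ≤ M →
    Cfsg.IsElementaryAbelian p B → ¬ IsCyclic B →
    (∀ b ∈ B, b ≠ 1 → Subgroup.centralizer ({b} : Set G) ≤ M) → Cfsg.InUniqueMaximal B

/-- the statement of Lemma 9.2 -/
def Lemma92 (G : Type*) [Group G] : Prop :=
  ∀ (L K : Subgroup G), Cfsg.InUniqueMaximal L → K ≤ Subgroup.centralizer (L : Set G) →
    ¬ Cfsg.RankLE 1 K → Cfsg.InUniqueMaximal K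

/-- an elementary abelian group of order `> p` is not cyclic -/
theorem not_isCyclic_of_card {p : ℕ} (hp : p.Prime) {W : Subgroup G}
    (hW : Cfsg.IsElementaryAbelian p W) (hcard : p < Nat.card ↥W) : ¬ IsCyclic ↥W := by
  intro hcyc
  have h1 : Monoid.exponent ↥W = Nat.card ↥W := IsCyclic.exponent_eq_card
  have h2 : Monoid.exponent ↥W ∣ p := by
    apply Monoid.exponent_dvd_of_forall_pow_eq_one
    intro g
    apply Subtype.ext
    show (g : G) ^ p = 1
    exact hW.2 _ g.2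
  rw [h1] at h2
  have h3 : Nat.card ↥W ≤ p := Nat.le_of_dvd hp.pos h2
  omega

/-- Lemma 9.2, conditionally on Lemma 9.1 -/
theorem lemma92 [Finite G] (hG : Cfsg.IsMinSimpleOddOrder G) (h91 : Lemma91 G) : Lemma92 G := by
  intro L K hL hK hKr
  obtain ⟨M, ⟨hM, hLM⟩, hu⟩ := id hL
  obtain ⟨p, hp, B, hBe, hBK, hBcard⟩ := exists_of_not_rankLE hKr
  rw [pow_one] at hBcard
  have hLbot : L ≠ ⊥ := by
    rintro rfl
    exact not_inUniqueMaximal_bot hG hL
  -- centralizers of nonidentity elements of `K` lie in `M`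
  have hcent : ∀ b ∈ K, b ≠ 1 → Subgroup.centralizer ({b} : Set G) ≤ M := by
    intro b hb hb1
    apply le_of_inUniqueMaximal_of_le hL hM hLM _ (centralizer_singleton_ne_top hG hb1)
    intro x hx
    rw [Subgroup.mem_centralizer_iff]
    rintro _ rfl
    exact (Subgroup.mem_centralizer_iff.1 (hK hb) x hx).symm
  have hBne : ∃ b ∈ B, b ≠ 1 := by
    by_contra hcon
    push Not at hcon
    have : B = ⊥ := by
      rw [eq_bot_iff]
      intro x hx
      exact Subgroup.mem_bot.2 (hcon x hx)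
    rw [this, Subgroup.card_bot] at hBcard
    exact absurd hBcard (by have := hp.one_lt; omega)
  obtain ⟨b₀, hb₀, hb₀1⟩ := hBne
  have hBM : B ≤ M := by
    refine le_trans ?_ (hcent b₀ (hBK hb₀) hb₀1)
    intro x hx
    rw [Subgroup.mem_centralizer_iff]
    rintro _ rfl
    exact Cfsg.Agent.H2.RankTwoGraph.comm_of_isElementaryAbelian hBe hb₀ hx
  have hBU : Cfsg.InUniqueMaximal B :=
    h91 M hM p hp B hBM hBe (not_isCyclic_of_card hp hBe hBcard)
      (fun b hb hb1 => hcent b (hBK hb) hb1)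
  have hKtop : K ≠ ⊤ := by
    rintro rfl
    apply centralizer_ne_top hG hLbot
    exact top_le_iff.1 hK
  exact inUniqueMaximal_mono hBU hBK hKtop

end Cfsg.Agent.Lib.Helper4.BGUniq
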