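import Mathlib
import Cfsg.Agent.Lib.Helper4.BGUniqA
import Cfsg.Agent.H1.CentralizerIndexBound
import Cfsg.Agent.S0126

/-!
Bender–Glauberman Lemma 9.3, conditionally on Lemma 9.2 (helper4).
-/

set_option autoImplicit false

namespace Cfsg.Agent.Lib.Helper4.BGUniq

variable {G : Type*} [Group G]

theorem isPGroup_of_isElementaryAbelian {p : ℕ} {W : Subgroup G}
    (hW : Cfsg.IsElementaryAbelian p W) : IsPGroup p ↥W := by
  intro g
  refine ⟨1, ?_⟩
  apply Subtype.ext
  rw [pow_one]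
  show (g : G) ^ p = 1
  exact hW.2 _ g.2

theorem pow_succ_le_card [Finite G] {p : ℕ} [hp : Fact p.Prime] {W : Subgroup G}
    (hW : IsPGroup p ↥W) {k : ℕ} (hcard : p ^ k < Nat.card ↥W) :
    p ^ (k + 1) ≤ Nat.card ↥W := by
  obtain ⟨n, hn⟩ := hW.exists_card_eq
  rw [hn] at hcard ⊢
  have h1 : k < n := (Nat.pow_lt_pow_iff_right hp.out.one_lt).1 hcard
  exact Nat.pow_le_pow_right hp.out.pos h1

/-- the index of the centralizer of a normal subgroup of order `p^2` of a `p`-group `P`,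
read on subgroups of `P` inside `G` -/
theorem card_le_card_inf_centralizer_mul [Finite G] {p : ℕ} [Fact p.Prime] {P : Subgroup G}
    (hP : IsPGroup p ↥P) (U : Subgroup ↥P) (hUn : U.Normal) (hUcard : Nat.card ↥U = p ^ 2)
    (X : Subgroup G) (hX : X ≤ P) :
    Nat.card ↥X ≤
      Nat.card ↥(X ⊓ Subgroup.centralizer ((U.map P.subtype : Subgroup G) : Set G) : Subgroup G)
        * p := by
  have hidx : (Subgroup.centralizer (U : Set ↥P)).index ≤ p := by
    have := Cfsg.Agent.H1.index_centralizer_le_of_normal hP 2 U hUn hUcard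
    simpa [Finset.sum_range_succ] using this
  set C := Subgroup.centralizer (U : Set ↥P) with hC
  set X' : Subgroup ↥P := X.subgroupOf P with hX'
  have hX'card : Nat.card ↥X' = Nat.card ↥X :=
    Nat.card_congr (Subgroup.subgroupOfEquivOfLe hX).toEquiv
  have h1 := ((C ⊓ X').subgroupOf X').card_mul_index
  rw [Nat.card_congr (Subgroup.subgroupOfEquivOfLe (inf_le_right : C ⊓ X' ≤ X')).toEquiv] at h1
  have h2 : ((C ⊓ X').subgroupOf X').index ≤ p := by
    show (C ⊓ X').relIndex X' ≤ p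
    rw [Subgroup.inf_relIndex_right]
    have h0 : C.relIndex ⊤ ≠ 0 := by
      rw [Subgroup.relIndex_top_right]; exact Subgroup.index_ne_zero_of_finite
    have := Subgroup.relIndex_le_of_le_right (H := C) (le_top : X' ≤ ⊤) h0
    rw [Subgroup.relIndex_top_right] at this
    exact this.trans hidx
  have h3 : Nat.card ↥(C ⊓ X' : Subgroup ↥P) ≤
      Nat.card ↥(X ⊓ Subgroup.centralizer ((U.map P.subtype : Subgroup G) : Set G) :
        Subgroup G) := by
    rw [← Subgroup.card_map_of_injective P.subtype_injective]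
    apply Subgroup.card_le_of_le
    rintro _ ⟨x, ⟨hxC, hxX⟩, rfl⟩
    refine ⟨Subgroup.mem_subgroupOf.1 hxX, Subgroup.mem_centralizer_iff.2 ?_⟩
    rintro _ ⟨u, hu, rfl⟩
    have := Subgroup.mem_centralizer_iff.1 hxC u hu
    exact congrArg Subtype.val this
  calc Nat.card ↥X = Nat.card ↥X' := hX'card.symm
    _ = Nat.card ↥(C ⊓ X' : Subgroup ↥P) * ((C ⊓ X').subgroupOf X').index := h1.symm
    _ ≤ Nat.card ↥(C ⊓ X' : Subgroup ↥P) * p := Nat.mul_le_mul_left _ h2
    _ ≤ _ := Nat.mul_le_mul_right _ h3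

/-- an odd noncyclic `p`-subgroup has rank at least two -/
theorem not_rankLE_one_of_not_isCyclic [Finite G] {p : ℕ} [hp : Fact p.Prime] (hp2 : p ≠ 2)
    {B : Subgroup G} (hB : IsPGroup p ↥B) (hnc : ¬ IsCyclic ↥B) : ¬ Cfsg.RankLE 1 ↥B := by
  obtain ⟨W, -, hWe, hWcard⟩ := Cfsg.Agent.S0126.result hp2 hB hnc
  intro h
  have := h p hp.out W hWe.1 hWe.2
  rw [hWcard, pow_one] at this
  have h1 : p < p ^ 2 := by
    calc p = p ^ 1 := (pow_one p).symm
      _ < p ^ 2 := Nat.pow_lt_pow_right hp.out.one_lt (by norm_num)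
  omega

theorem inf_centralizer_le_centralizer (X Z : Subgroup G) :
    Z ≤ Subgroup.centralizer ((X ⊓ Subgroup.centralizer (Z : Set G) : Subgroup G) : Set G) := by
  intro z hz
  rw [Subgroup.mem_centralizer_iff]
  rintro x ⟨-, hx⟩
  exact (Subgroup.mem_centralizer_iff.1 hx z hz).symm

/-- the core of Lemma 9.3, inside one `p`-subgroup -/
theorem lemma93_core [Finite G] (h92 : Lemma92 G)
    (p : ℕ) [hp : Fact p.Prime] (hp2 : p ≠ 2) (P : Subgroup G) (hP : IsPGroup p ↥P)
    (A A₁ B E : Subgroup G) (hAP : A ≤ P) (hAc : A ≤ Subgroup.centralizer (A : Set G))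
    (hA₁ : Cfsg.IsElementaryAbelian p A₁) (hA₁A : A₁ ≤ A) (hA₁card : p ^ 2 < Nat.card ↥A₁)
    (hAU : Cfsg.InUniqueMaximal A) (hBP : B ≤ P) (hBnc : ¬ IsCyclic ↥B)
    (hE : Cfsg.IsElementaryAbelian p E) (hEP : E ≤ P) (hEcard : p ^ 2 < Nat.card ↥E)
    (hBE : B ≤ Subgroup.centralizer (E : Set G)) : Cfsg.InUniqueMaximal B := by
  have hpp : p < p ^ 2 := by
    calc p = p ^ 1 := (pow_one p).symm
      _ < p ^ 2 := Nat.pow_lt_pow_right hp.out.one_lt (by norm_num)
  have hrk : ¬ Cfsg.PRankLE p 2 ↥P := not_pRankLE_of_le hE hEP hEcard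
  obtain ⟨U, hUn, hUel, hUcard⟩ := Cfsg.Agent.H2.RankTwoGraph.exists_normal_rank_two hP hrk
  set Z : Subgroup G := U.map P.subtype with hZ
  have hZcard : Nat.card ↥Z = p ^ 2 := by
    rw [hZ, Subgroup.card_map_of_injective P.subtype_injective, hUcard]
  have hZel : Cfsg.IsElementaryAbelian p Z := by
    refine ⟨⟨⟨fun a b => ?_⟩⟩, ?_⟩
    · obtain ⟨a, ha⟩ := a
      obtain ⟨b, hb⟩ := b
      obtain ⟨a', ha', rfl⟩ := ha
      obtain ⟨b', hb', rfl⟩ := hb
      apply Subtype.ext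
      show P.subtype a' * P.subtype b' = P.subtype b' * P.subtype a'
      rw [← map_mul, ← map_mul]
      congr 1
      exact congrArg Subtype.val (isMulCommutative_iff.1 hUel.1 ⟨a', ha'⟩ ⟨b', hb'⟩)
    · rintro _ ⟨a, ha, rfl⟩
      rw [← map_pow, hUel.2 a ha, map_one]
  have hidx : ∀ X : Subgroup G, X ≤ P → Nat.card ↥X ≤
      Nat.card ↥(X ⊓ Subgroup.centralizer (Z : Set G) : Subgroup G) * p :=
    card_le_card_inf_centralizer_mul hP U hUn hUcard
  -- a subgroup of `P` that is elementary abelian of order `> p^2` meets `C(Z)` in order `> p`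
  have hbig : ∀ W : Subgroup G, Cfsg.IsElementaryAbelian p W → W ≤ P → p ^ 2 < Nat.card ↥W →
      ¬ Cfsg.RankLE 1 ↥(W ⊓ Subgroup.centralizer (Z : Set G) : Subgroup G) := by
    intro W hW hWP hWcard
    have h3 := pow_succ_le_card (isPGroup_of_isElementaryAbelian hW) hWcard
    have h4 := hidx W hWP
    have h5 : p ^ 2 ≤ Nat.card ↥(W ⊓ Subgroup.centralizer (Z : Set G) : Subgroup G) := by
      by_contra hlt
      push Not at hlt
      have : Nat.card ↥(W ⊓ Subgroup.centralizer (Z : Set G) : Subgroup G) * p < p ^ 2 * p :=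
        Nat.mul_lt_mul_of_pos_right hlt hp.out.pos
      have h6 : p ^ 2 * p = p ^ (2 + 1) := by ring
      omega
    exact not_rankLE_one_of_le hp.out
      (Cfsg.Agent.H2.RankTwoGraph.isElementaryAbelian_of_le hW inf_le_left) le_rfl (by omega)
  -- step 1
  have h1 : Cfsg.InUniqueMaximal (A ⊓ Subgroup.centralizer (Z : Set G)) := by
    apply h92 A _ hAU (inf_le_left.trans hAc)
    intro hle
    apply hbig A₁ hA₁ (hA₁A.trans hAP) hA₁card
    intro q hq W hWc hWq
    have hle' : A₁ ⊓ Subgroup.centralizer (Z : Set G) ≤ A ⊓ Subgroup.centralizer (Z : Set G) :=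
      inf_le_inf_right _ hA₁A
    have := hle q hq (W.map (Subgroup.inclusion hle')) ?_ ?_
    · rwa [Subgroup.card_map_of_injective (Subgroup.inclusion_injective hle')] at this
    · refine ⟨⟨fun a b => ?_⟩⟩
      obtain ⟨a, ha⟩ := a
      obtain ⟨b, hb⟩ := b
      obtain ⟨a', ha', rfl⟩ := ha
      obtain ⟨b', hb', rfl⟩ := hb
      apply Subtype.ext
      show Subgroup.inclusion hle' a' * Subgroup.inclusion hle' b' =
        Subgroup.inclusion hle' b' * Subgroup.inclusion hle' a'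
      rw [← map_mul, ← map_mul]
      congr 1
      exact congrArg Subtype.val (isMulCommutative_iff.1 hWc ⟨a', ha'⟩ ⟨b', hb'⟩)
    · rintro _ ⟨a, ha, rfl⟩
      rw [← map_pow, hWq a ha, map_one]
  -- step 2
  have h2 : Cfsg.InUniqueMaximal Z := by
    apply h92 _ Z h1 (inf_centralizer_le_centralizer A Z)
    exact not_rankLE_one_of_le hp.out hZel le_rfl (by omega)
  -- step 3
  have h3 : Cfsg.InUniqueMaximal (E ⊓ Subgroup.centralizer (Z : Set G)) :=
    h92 Z _ h2 inf_le_right (hbig E hE hEP hEcard)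
  -- step 4
  apply h92 _ B h3
  · refine hBE.trans ?_
    apply Subgroup.centralizer_le
    exact fun x hx => hx.1
  · exact not_rankLE_one_of_not_isCyclic hp2 (hP.to_le hBP) hBnc

end Cfsg.Agent.Lib.Helper4.BGUniq
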