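import Mathlib
import Cfsg.Agent.Lib.Helper4.BGUniqB

/-!
Bender–Glauberman Lemma 9.3 (statement form), conditionally on Lemma 9.2 (helper4).
-/

set_option autoImplicit false

namespace Cfsg.Agent.Lib.Helper4.BGUniq

variable {G : Type*} [Group G]

/-- the statement of Lemma 9.3 -/
def Lemma93 (G : Type*) [Group G] : Prop :=
  ∀ (p : ℕ), p.Prime → ∀ (A B : Subgroup G), IsPGroup p ↥A → IsMulCommutative ↥A →
    ¬ Cfsg.PRankLE p 2 ↥A → Cfsg.InUniqueMaximal A → IsPGroup p ↥B → ¬ IsCyclic ↥B →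
    ¬ Cfsg.PRankLE p 2 ↥(Subgroup.centralizer (B : Set G)) → Cfsg.InUniqueMaximal B

theorem isElementaryAbelian_map {H : Type*} [Group H] (f : G →* H) {p : ℕ} {W : Subgroup G}
    (hW : Cfsg.IsElementaryAbelian p W) : Cfsg.IsElementaryAbelian p (W.map f) := by
  refine ⟨⟨⟨fun a b => ?_⟩⟩, ?_⟩
  · obtain ⟨a, ha⟩ := a
    obtain ⟨b, hb⟩ := b
    obtain ⟨a', ha', rfl⟩ := ha
    obtain ⟨b', hb', rfl⟩ := hb
    apply Subtype.ext
    show f a' * f b' = f b' * f a'
    rw [← map_mul, ← map_mul]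
    congr 1
    exact Cfsg.Agent.H2.RankTwoGraph.comm_of_isElementaryAbelian hW ha' hb'
  · rintro _ ⟨a, ha, rfl⟩
    rw [← map_pow, hW.2 a ha, map_one]

/-- odd order: the prime `p` of a nontrivial `p`-subgroup is odd -/
theorem prime_ne_two [Finite G] (hG : Cfsg.IsMinSimpleOddOrder G) {p : ℕ} [hp : Fact p.Prime]
    {W : Subgroup G} (hW : IsPGroup p ↥W) (hcard : 1 < Nat.card ↥W) : p ≠ 2 := by
  rintro rfl
  obtain ⟨n, hn⟩ := hW.exists_card_eq
  have hn0 : n ≠ 0 := by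
    rintro rfl
    rw [hn] at hcard
    simp at hcard
  have h1 : 2 ∣ Nat.card ↥W := by
    rw [hn]; exact dvd_pow_self 2 hn0
  have h2 : 2 ∣ Nat.card G := h1.trans (Subgroup.card_subgroup_dvd_card W)
  exact (Nat.not_even_iff_odd.2 hG.1) (even_iff_two_dvd.2 h2)

theorem lemma93 [Finite G] (hG : Cfsg.IsMinSimpleOddOrder G) (h92 : Lemma92 G) : Lemma93 G := by
  intro p hp A B hAp hAc hA3 hAU hBp hBnc hB3
  haveI : Fact p.Prime := ⟨hp⟩
  obtain ⟨A₁, hA₁, hA₁A, hA₁card⟩ := exists_of_not_pRankLE hA3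
  obtain ⟨E, hE, hEB, hEcard⟩ := exists_of_not_pRankLE hB3
  have h1p : 1 < p ^ 2 := Nat.one_lt_pow (by norm_num) hp.one_lt
  have hp2 : p ≠ 2 :=
    prime_ne_two hG (isPGroup_of_isElementaryAbelian hA₁) (by omega)
  have hBE : B ≤ Subgroup.centralizer (E : Set G) := by
    intro b hb
    rw [Subgroup.mem_centralizer_iff]
    intro e he
    exact (Subgroup.mem_centralizer_iff.1 (hEB he) b hb).symm
  have hBEp : IsPGroup p ↥(B ⊔ E : Subgroup G) :=
    IsPGroup.to_sup_of_normal_right' hBp (isPGroup_of_isElementaryAbelian hE)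
      (hBE.trans (Subgroup.centralizer_le_normalizer _))
  obtain ⟨P, hP⟩ := hBEp.exists_le_sylow
  obtain ⟨Q, hQ⟩ := hAp.exists_le_sylow
  obtain ⟨g, hg⟩ := MulAction.exists_smul_eq G Q P
  have hconj : ∀ x ∈ (Q : Subgroup G), g * x * g⁻¹ ∈ (P : Subgroup G) := by
    intro x hx
    rw [← hg, Sylow.coe_subgroup_smul]
    exact ⟨x, hx, rfl⟩
  set c : G →* G := (MulAut.conj g).toMonoidHom with hc
  have hcinj : Function.Injective c := (MulAut.conj g).injective
  have hAcomm : ∀ a ∈ A, ∀ b ∈ A, a * b = b * a := fun a ha b hb =>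
    congrArg Subtype.val (isMulCommutative_iff.1 hAc ⟨a, ha⟩ ⟨b, hb⟩)
  apply lemma93_core h92 p hp2 (P : Subgroup G) P.isPGroup' (A.map c) (A₁.map c) B E
  · rintro _ ⟨a, ha, rfl⟩
    exact hconj a (hQ ha)
  · rintro _ ⟨a, ha, rfl⟩
    rw [Subgroup.mem_centralizer_iff]
    rintro _ ⟨b, hb, rfl⟩
    rw [← map_mul, ← map_mul, hAcomm a ha b hb]
  · exact isElementaryAbelian_map c hA₁
  · exact Subgroup.map_mono hA₁A
  · rw [Subgroup.card_map_of_injective hcinj]; exact hA₁card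
  · exact inUniqueMaximal_map (MulAut.conj g) hAU
  · exact le_sup_left.trans hP
  · exact hBnc
  · exact hE
  · exact le_sup_right.trans hP
  · exact hEcard
  · exact hBE

end Cfsg.Agent.Lib.Helper4.BGUniq
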