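import Mathlib
import Cfsg.Agent.Lib.Helper4.BGUniqC
import Cfsg.Agent.S1452
import Cfsg.Agent.H1.Cores

/-!
Bender–Glauberman Lemmas 9.4 and 9.6, conditionally on Theorem 8.1, Lemma 9.2, Lemma 9.3 and
Lemma 9.5 (helper4).
-/

set_option autoImplicit false

namespace Cfsg.Agent.Lib.Helper4.BGUniq

variable {G : Type*} [Group G]

/-- a `p`-subgroup of rank at least three, `p` odd, has a member of `SCN_3` -/
theorem exists_isSCN [Finite G] {p : ℕ} [hp : Fact p.Prime] (hp2 : p ≠ 2) {R : Subgroup G}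
    (hR : IsPGroup p ↥R) (hr : ¬ Cfsg.PRankLE p 2 ↥R) :
    ∃ A : Subgroup G, Cfsg.IsSCN R A ∧ ¬ Cfsg.PRankLE p 2 ↥A := by
  obtain ⟨E, hEn, hEel, hEcard⟩ := Cfsg.Agent.H2.RankTwoGraph.exists_normal_rank_two hR hr
  haveI := hEn
  obtain ⟨A', -, hAn, hAC, hA3⟩ := Cfsg.Agent.S1452.result p hp2 hR hr E hEel hEcard
  obtain ⟨W, hWel, hWA, hWcard⟩ := exists_of_not_pRankLE hA3
  have hcomm : ∀ a ∈ A', ∀ b ∈ A', a * b = b * a := by
    intro a ha b hb
    have : a ∈ Subgroup.centralizer (A' : Set ↥R) := by rw [hAC]; exact ha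
    exact (Subgroup.mem_centralizer_iff.1 this b hb).symm
  refine ⟨A'.map R.subtype, ⟨Subgroup.map_subtype_le _, ?_, ?_⟩, ?_⟩
  · have h1 := Subgroup.le_normalizer_map (H := A') R.subtype
    rw [Subgroup.normalizer_eq_top_iff.2 hAn, ← MonoidHom.range_eq_map, Subgroup.range_subtype]
      at h1
    exact h1
  · apply le_antisymm
    · rintro x ⟨hxR, hxC⟩
      have : (⟨x, hxR⟩ : ↥R) ∈ Subgroup.centralizer (A' : Set ↥R) := by
        rw [Subgroup.mem_centralizer_iff]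
        intro a ha
        apply Subtype.ext
        exact Subgroup.mem_centralizer_iff.1 hxC (a : G) ⟨a, ha, rfl⟩
      rw [hAC] at this
      exact ⟨⟨x, hxR⟩, this, rfl⟩
    · rintro _ ⟨a, ha, rfl⟩
      refine ⟨a.2, Subgroup.mem_centralizer_iff.2 ?_⟩
      rintro _ ⟨b, hb, rfl⟩
      exact congrArg Subtype.val (hcomm b hb a ha)
  · apply not_pRankLE_of_le (isElementaryAbelian_map R.subtype hWel) (Subgroup.map_mono hWA)
    rw [Subgroup.card_map_of_injective R.subtype_injective]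
    exact hWcard

/-- Lemma 9.3 for an abelian target of rank at least three -/
theorem lemma93_abelian [Finite G] (h93 : Lemma93 G) {p : ℕ} (hp : p.Prime)
    {A B : Subgroup G} (hAp : IsPGroup p ↥A) (hAc : IsMulCommutative ↥A)
    (hA3 : ¬ Cfsg.PRankLE p 2 ↥A) (hAU : Cfsg.InUniqueMaximal A) (hBp : IsPGroup p ↥B)
    (hBc : IsMulCommutative ↥B) (hB3 : ¬ Cfsg.PRankLE p 2 ↥B) : Cfsg.InUniqueMaximal B := by
  obtain ⟨W, hWel, hWB, hWcard⟩ := exists_of_not_pRankLE hB3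
  have hpp : p < p ^ 2 := by
    calc p = p ^ 1 := (pow_one p).symm
      _ < p ^ 2 := Nat.pow_lt_pow_right hp.one_lt (by norm_num)
  apply h93 p hp A B hAp hAc hA3 hAU hBp
  · intro hcyc
    have : IsCyclic ↥W :=
      isCyclic_of_injective (Subgroup.inclusion hWB) (Subgroup.inclusion_injective hWB)
    exact not_isCyclic_of_card hp hWel (by omega) this
  · apply not_pRankLE_of_le hWel _ hWcard
    intro w hw
    rw [Subgroup.mem_centralizer_iff]
    intro b hb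
    exact congrArg Subtype.val (isMulCommutative_iff.1 hBc ⟨b, hb⟩ ⟨w, hWB hw⟩)

/-- the statement of Theorem 8.1 (the parts that are used), as a hypothesis -/
def Thm81 (G : Type*) [Group G] : Prop :=
  ∀ (M : Subgroup G), IsCoatom M → ∀ (p : ℕ), p.Prime → ∀ (A₀ : Subgroup G),
    A₀ ≤ Cfsg.fittingOf M → Cfsg.IsElementaryAbelian p A₀ → p ^ 3 ≤ Nat.card ↥A₀ →
    (∀ B : Subgroup G, B ≤ Cfsg.fittingOf M → Cfsg.IsElementaryAbelian p B → A₀ ≤ B → B = A₀) →
    (¬ IsPGroup p ↥(Cfsg.fittingOf M) →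
      Cfsg.InUniqueMaximal (Cfsg.fittingOf M ⊓ Subgroup.centralizer (A₀ : Set G))) ∧
    (IsPGroup p ↥(Cfsg.fittingOf M) → ∀ P : Sylow p ↥M, ∀ A : Subgroup G,
      Cfsg.IsSCN ((P : Subgroup ↥M).map M.subtype) A → ¬ Cfsg.PRankLE p 2 ↥A →
      Cfsg.InUniqueMaximal A)

/-- the statement of Lemma 9.5, as a hypothesis -/
def Lemma95 (G : Type*) [Group G] : Prop :=
  ∀ (p : ℕ), p.Prime → ∀ (P : Sylow p G) (A : Subgroup G), Cfsg.IsSCN (P : Subgroup G) A →
    ¬ Cfsg.PRankLE p 2 ↥A → Cfsg.InUniqueMaximal A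

theorem isMulCommutative_of_isSCN {P A : Subgroup G} (h : Cfsg.IsSCN P A) :
    IsMulCommutative ↥A := by
  refine ⟨⟨fun a b => ?_⟩⟩
  apply Subtype.ext
  have : (a : G) ∈ P ⊓ Subgroup.centralizer (A : Set G) := by rw [h.2.2]; exact a.2
  exact (Subgroup.mem_centralizer_iff.1 this.2 b b.2).symm

/-- Lemma 9.4 -/
theorem lemma94 [Finite G] (hG : Cfsg.IsMinSimpleOddOrder G) (h81 : Thm81 G) (h92 : Lemma92 G)
    (h93 : Lemma93 G) (M : Subgroup G) (hM : IsCoatom M) (p : ℕ) (hp : p.Prime)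
    (hF : ¬ Cfsg.PRankLE p 2 ↥(Cfsg.fittingOf M))
    (A : Subgroup G) (hAp : IsPGroup p ↥A) (hAc : IsMulCommutative ↥A)
    (hA3 : ¬ Cfsg.PRankLE p 2 ↥A) : Cfsg.InUniqueMaximal A := by
  haveI : Fact p.Prime := ⟨hp⟩
  have hpp : p < p ^ 2 := by
    calc p = p ^ 1 := (pow_one p).symm
      _ < p ^ 2 := Nat.pow_lt_pow_right hp.one_lt (by norm_num)
  have h1p : 1 < p := hp.one_lt
  obtain ⟨W, hWel, hWF, hWcard⟩ := exists_of_not_pRankLE hF
  have hp2 : p ≠ 2 := prime_ne_two hG (isPGroup_of_isElementaryAbelian hWel) (by omega)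
  obtain ⟨A₀, hWA₀, hA₀max⟩ := Finite.exists_le_maximal
    (p := fun B : Subgroup G => B ≤ Cfsg.fittingOf M ∧ Cfsg.IsElementaryAbelian p B)
    ⟨hWF, hWel⟩
  obtain ⟨⟨hA₀F, hA₀el⟩, hmax⟩ := hA₀max
  have hA₀card : p ^ 2 < Nat.card ↥A₀ := lt_of_lt_of_le hWcard (Subgroup.card_le_of_le hWA₀)
  have hA₀3 : p ^ 3 ≤ Nat.card ↥A₀ :=
    pow_succ_le_card (isPGroup_of_isElementaryAbelian hA₀el) hA₀card
  obtain ⟨ha, hb⟩ := h81 M hM p hp A₀ hA₀F hA₀el hA₀3
    (fun B hBF hBel hAB => le_antisymm (hmax ⟨hBF, hBel⟩ hAB) hAB)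
  by_cases hFp : IsPGroup p ↥(Cfsg.fittingOf M)
  · -- `F(M)` is a `p`-group
    obtain ⟨P⟩ : Nonempty (Sylow p ↥M) := inferInstance
    have hFP : Cfsg.fittingOf M ≤ (P : Subgroup ↥M).map M.subtype := by
      apply Subgroup.map_mono
      apply IsPGroup.le_sylow_of_normal _ P
      exact hFp.of_injective ((Cfsg.fittingSubgroup ↥M).equivMapOfInjective M.subtype
        M.subtype_injective).toMonoidHom
        ((Cfsg.fittingSubgroup ↥M).equivMapOfInjective M.subtype M.subtype_injective).injective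
    have hPp : IsPGroup p ↥((P : Subgroup ↥M).map M.subtype) := P.isPGroup'.map _
    have hPr : ¬ Cfsg.PRankLE p 2 ↥((P : Subgroup ↥M).map M.subtype) :=
      not_pRankLE_of_le hWel (hWF.trans hFP) hWcard
    obtain ⟨A₁, hA₁scn, hA₁3⟩ := exists_isSCN hp2 hPp hPr
    have hA₁U := hb hFp P A₁ hA₁scn hA₁3
    exact lemma93_abelian h93 hp (hPp.to_le hA₁scn.1) (isMulCommutative_of_isSCN hA₁scn) hA₁3
      hA₁U hAp hAc hA3
  · -- `F(M)` is not a `p`-group
    have hLU := ha hFp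
    have hA₀U : Cfsg.InUniqueMaximal A₀ := by
      apply h92 _ A₀ hLU (inf_centralizer_le_centralizer _ A₀)
      exact not_rankLE_one_of_le hp hA₀el le_rfl (by omega)
    exact lemma93_abelian h93 hp (isPGroup_of_isElementaryAbelian hA₀el) hA₀el.1
      (not_pRankLE_of_le hA₀el le_rfl hA₀card) hA₀U hAp hAc hA3

/-- the first half of Lemma 9.6: proper subgroups of rank at least three are in `U` -/
theorem lemma96_aux [Finite G] (hG : Cfsg.IsMinSimpleOddOrder G) (h93 : Lemma93 G)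
    (h95 : Lemma95 G) (X : Subgroup G) (hX : X ≠ ⊤) (hX3 : ¬ Cfsg.RankLE 2 ↥X) :
    Cfsg.InUniqueMaximal X := by
  obtain ⟨q, hq, B, hBel, hBX, hBcard⟩ := exists_of_not_rankLE hX3
  haveI : Fact q.Prime := ⟨hq⟩
  have hqq : 1 < q ^ 2 := Nat.one_lt_pow (by norm_num) hq.one_lt
  have hBp : IsPGroup q ↥B := isPGroup_of_isElementaryAbelian hBel
  have hq2 : q ≠ 2 := prime_ne_two hG hBp (by omega)
  obtain ⟨P, hBP⟩ := hBp.exists_le_sylow
  have hPr : ¬ Cfsg.PRankLE q 2 ↥(P : Subgroup G) := not_pRankLE_of_le hBel hBP hBcard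
  obtain ⟨A₁, hA₁scn, hA₁3⟩ := exists_isSCN hq2 P.isPGroup' hPr
  have hA₁U := h95 q hq P A₁ hA₁scn hA₁3
  have hBU : Cfsg.InUniqueMaximal B :=
    lemma93_abelian h93 hq (P.isPGroup'.to_le hA₁scn.1) (isMulCommutative_of_isSCN hA₁scn) hA₁3
      hA₁U hBp hBel.1 (not_pRankLE_of_le hBel le_rfl hBcard)
  exact inUniqueMaximal_mono hBU hBX hX

/-- Lemma 9.6 -/
theorem lemma96 [Finite G] (hG : Cfsg.IsMinSimpleOddOrder G) (h92 : Lemma92 G) (h93 : Lemma93 G)
    (h95 : Lemma95 G) (K : Subgroup G) (hK : K ≠ ⊤) (hK2 : ¬ Cfsg.RankLE 1 ↥K)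
    (hK3 : ¬ Cfsg.RankLE 2 ↥K ∨ ¬ Cfsg.RankLE 2 ↥(Subgroup.centralizer (K : Set G))) :
    Cfsg.InUniqueMaximal K := by
  rcases hK3 with h | h
  · exact lemma96_aux hG h93 h95 K hK h
  · have hKbot : K ≠ ⊥ := by
      rintro rfl
      apply hK2
      intro q hq W _ _
      have : Nat.card ↥W = 1 := by
        haveI : Subsingleton ↥(⊥ : Subgroup G) := inferInstance
        haveI : Subsingleton ↥W := inferInstance
        exact Nat.card_unique
      rw [this]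
      exact Nat.one_le_pow _ _ hq.pos
    have hCU := lemma96_aux hG h93 h95 _ (centralizer_ne_top hG hKbot) h
    apply h92 _ K hCU _ hK2
    intro k hk
    rw [Subgroup.mem_centralizer_iff]
    intro c hc
    exact (Subgroup.mem_centralizer_iff.1 hc k hk).symm

end Cfsg.Agent.Lib.Helper4.BGUniq
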