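import Mathlib
import Cfsg.Agent.Lib.Helper4.BGTransD

/-!
# The Transitivity Theorem of Bender–Glauberman, V: the step for `B ⊴ B'` (BG 7.5)
-/

set_option autoImplicit false
set_option linter.style.haveILetI false
set_option linter.unusedVariables false
set_option linter.unusedSectionVars false

open scoped commutatorElement Pointwise

namespace Cfsg.Agent.Lib.Helper4.BGTrans

open Cfsg Cfsg.Agent.Lib.Helper4.ThreeStep Cfsg.Agent.Lib.Lead.Conj Cfsg.Agent.Lib.Lead.PiCore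
  Cfsg.Agent.Lib.Helper4.CNMax

universe u

variable {G : Type u} [Group G] [Finite G]

theorem invSubgroups_mono_left {A B : Subgroup G} (hAB : A ≤ B) {π : Set ℕ} {X Y : Subgroup G}
    (hY : Y ∈ Cfsg.invSubgroups X B π) : Y ∈ Cfsg.invSubgroups X A π :=
  ⟨hY.1, hY.2.1, hAB.trans hY.2.2⟩

/-- a member of `И*(A)` that is `B`-invariant lies in `И*(B)` -/
theorem mem_maxInv_of_mem_maxInv {A B : Subgroup G} (hAB : A ≤ B) {π : Set ℕ} {Q : Subgroup G}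
    (hQ : Q ∈ Cfsg.maxInvSubgroups ⊤ A π) (hBQ : B ≤ Subgroup.normalizer (Q : Set G)) :
    Q ∈ Cfsg.maxInvSubgroups ⊤ B π :=
  ⟨⟨le_top, hQ.1.2.1, hBQ⟩, fun R hR hle => hQ.2 R (invSubgroups_mono_left hAB hR) hle⟩

theorem coprime_card_of_pi {A B O : Subgroup G}
    (hBπ : ∀ r : ℕ, r.Prime → r ∣ Nat.card B → r ∣ Nat.card A)
    (hO : IsPiNat (Cfsg.primesNotDvd (Nat.card A)) (Nat.card ↥O)) :
    (Nat.card B).Coprime (Nat.card O) := by
  apply Nat.coprime_of_dvd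
  intro k hk hkB hkO
  exact (hO k hk hkO).2 (hBπ k hk hkB)

/-- a nontrivial maximal `B`-invariant `q`-subgroup is a maximal `A`-invariant `q`-subgroup -/
theorem maxInv_mem_of_ne_bot (hG : Cfsg.IsMinSimpleOddOrder G) {A : Subgroup G}
    (hA : Cfsg.TransitivityHypothesis A) {q : ℕ} [hqf : Fact q.Prime] (hqA : ¬ q ∣ Nat.card A)
    {B : Subgroup G} (hB : B ≠ ⊤) (hAB : A ≤ B)
    (hBπ : ∀ r : ℕ, r.Prime → r ∣ Nat.card B → r ∣ Nat.card A)
    {Q : Subgroup G} (hQ : Q ∈ Cfsg.maxInvSubgroups ⊤ B {q}) (hQne : Q ≠ ⊥) :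
    Q ∈ Cfsg.maxInvSubgroups ⊤ A {q} := by
  have hq : q.Prime := hqf.out
  set π' := Cfsg.primesNotDvd (Nat.card A) with hπ'
  have hQ' := mem_invSubgroups_top.mp hQ.1
  have hQq : IsPGroup q ↥Q := isPGroup_of_isPiNat hq hQ'.1
  refine ⟨invSubgroups_mono_left hAB hQ.1, fun R hR hQR => ?_⟩
  by_contra hne
  have hR' := mem_invSubgroups_top.mp hR
  have hRq : IsPGroup q ↥R := isPGroup_of_isPiNat hq hR'.1
  obtain ⟨t, htR, htN, htQ⟩ := exists_mem_normalizer_not_mem Q R hRq.isNilpotent hQR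
    (fun h => hne h.symm)
  set N : Subgroup G := Subgroup.normalizer (Q : Set G) with hN
  have hNtop : N ≠ ⊤ := normalizer_ne_top hG.2 Q hQne (IsNilpotent.to_isSolvable (h := hQq.isNilpotent))
  have hBN : B ≤ N := hQ'.2
  have hAN : A ≤ N := hAB.trans hBN
  have hsub : ∀ Y : Subgroup G, Y ≤ N → IsPGroup q ↥Y → A ≤ Subgroup.normalizer (Y : Set G) →
      Y ≤ Cfsg.piCoreOf π' N := by
    intro Y hYN hYq hAY
    apply le_piCoreOf_of_inv hA hNtop hAN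
    refine ⟨hYN, fun p hp hpd => ?_, hAY⟩
    obtain ⟨m, hm⟩ := hYq.exists_card_eq
    rw [hm] at hpd
    have := (Nat.prime_dvd_prime_iff_eq hp hq).mp (hp.dvd_of_dvd_pow hpd)
    subst this
    exact ⟨hp, hqA⟩
  set O := Cfsg.piCoreOf π' N with hO
  have hQO : Q ≤ O := hsub Q Subgroup.le_normalizer hQq (hAB.trans hQ'.2)
  have hR₁O : R ⊓ N ≤ O := by
    apply hsub _ inf_le_right (hRq.to_le inf_le_left)
    exact le_normalizer_inf hR'.2 (hAN.trans Subgroup.le_normalizer)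
  have hBO : B ≤ Subgroup.normalizer (O : Set G) := hBN.trans (le_normalizer_piCoreOf π' N)
  have hcop : (Nat.card B).Coprime (Nat.card O) := coprime_card_of_pi hBπ (isPiNat_piCoreOf π' N)
  have hBs : Group.IsSolvable ↥B := solvable_of_ne_top hG hB
  obtain ⟨P, hQP, hBP⟩ := Cfsg.Agent.S0025.result B O hBO hcop (Or.inl hBs) q Q hQO hQq hQ'.2
  have hPQ : (P : Subgroup ↥O).map O.subtype = Q := by
    apply hQ.2 _ _ hQP
    rw [mem_invSubgroups_top]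
    exact ⟨isPiNat_of_isPGroup (P.isPGroup'.map _), hBP⟩
  -- `R ⊓ N` is a `q`-subgroup of `O` containing the Sylow subgroup `Q`
  have hmax : (R ⊓ N).subgroupOf O = (P : Subgroup ↥O) := by
    apply P.is_maximal'
    · exact (hRq.to_le inf_le_left).comap_subtype
    · intro x hx
      rw [Subgroup.mem_subgroupOf]
      have hxQ : (x : G) ∈ Q := by
        rw [← hPQ]
        exact ⟨x, hx, rfl⟩
      exact ⟨hQR hxQ, Subgroup.le_normalizer hxQ⟩
  apply htQ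
  rw [← hPQ]
  have htO : t ∈ O := hR₁O ⟨htR, htN⟩
  refine ⟨⟨t, htO⟩, ?_, rfl⟩
  have : (⟨t, htO⟩ : ↥O) ∈ (R ⊓ N).subgroupOf O := Subgroup.mem_subgroupOf.mpr ⟨htR, htN⟩
  rw [hmax] at this
  exact this

/-- the invariant carried along a subnormal chain above `A` -/
def TT (A : Subgroup G) (q : ℕ) (B : Subgroup G) : Prop :=
  A ≤ B ∧
  (∀ Q₁ ∈ Cfsg.maxInvSubgroups ⊤ B {q}, ∀ Q₂ ∈ Cfsg.maxInvSubgroups ⊤ B {q},
    KConj (KKp A B) Q₁ Q₂) ∧
  Cfsg.maxInvSubgroups ⊤ B {q} ⊆ Cfsg.maxInvSubgroups ⊤ A {q}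

theorem bot_mem_invSubgroups (A : Subgroup G) (π : Set ℕ) :
    (⊥ : Subgroup G) ∈ Cfsg.invSubgroups ⊤ A π := by
  rw [mem_invSubgroups_top]
  refine ⟨fun p hp hpd => ?_, ?_⟩
  · rw [Subgroup.card_bot] at hpd
    exact absurd (Nat.dvd_one.mp hpd) hp.one_lt.ne'
  · intro a _
    apply mem_normalizer_of_conj_mem
    intro r hr
    rw [Subgroup.mem_bot] at hr ⊢
    rw [hr]; group

/-- the step `B ⊴ B'` of **BG 7.5** -/
theorem TT_step (hG : Cfsg.IsMinSimpleOddOrder G) {A : Subgroup G}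
    (hA : Cfsg.TransitivityHypothesis A) {q : ℕ} [hqf : Fact q.Prime] (hqA : ¬ q ∣ Nat.card A)
    {B B' : Subgroup G} (hBB' : B ≤ B') (hn : B' ≤ Subgroup.normalizer (B : Set G))
    (hB' : B' ≠ ⊤) (hB'π : ∀ r : ℕ, r.Prime → r ∣ Nat.card B' → r ∣ Nat.card A)
    (hT : TT A q B) : TT A q B' := by
  obtain ⟨hAB, htr, hsub⟩ := hT
  have hAB' : A ≤ B' := hAB.trans hBB'
  set K := KKp A B with hK
  have hB'K : B' ≤ Subgroup.normalizer (K : Set G) :=
    hn.trans ((normalizer_le_normalizer_centralizer B).trans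
      (normalizer_le_normalizer_piCoreOf _ _))
  have hcop : (Nat.card B').Coprime (Nat.card K) :=
    coprime_card_of_pi hB'π (isPiNat_piCoreOf _ _)
  have hB's : Group.IsSolvable ↥B' := solvable_of_ne_top hG hB'
  have hKC : K ≤ Subgroup.centralizer (B : Set G) := KKp_le_centralizer A B
  -- a `B'`-invariant member of `И*(B)`
  obtain ⟨Q₀, hQ₀, -⟩ := exists_maxInv_ge (bot_mem_invSubgroups B {q})
  have hconj : ∀ a ∈ B', ∃ g ∈ K, Q₀.map (MulAut.conj a).toMonoidHom =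
      Q₀.map (MulAut.conj g).toMonoidHom := by
    intro a ha
    obtain ⟨k, hk, hkQ⟩ := htr Q₀ hQ₀ _ (conj_mem_maxInvSubgroups_of_normalizer hQ₀ (hn ha))
    exact ⟨k, hk, hkQ⟩
  obtain ⟨g, hg, hgQ⟩ := Cfsg.Agent.H1.exists_conj_invariant B' K Q₀ hB'K hcop (Or.inl hB's) hconj
  set Q := Q₀.map (MulAut.conj g).toMonoidHom with hQdef
  have hQB : Q ∈ Cfsg.maxInvSubgroups ⊤ B {q} := conj_mem_maxInvSubgroups hQ₀ (hKC hg)
  have hQB' : Q ∈ Cfsg.maxInvSubgroups ⊤ B' {q} := mem_maxInv_of_mem_maxInv hBB' hQB hgQ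
  -- every member of `И*(B')` lies in `И*(A)` and in `И*(B)`
  have key : ∀ Q' ∈ Cfsg.maxInvSubgroups ⊤ B' {q},
      Q' ∈ Cfsg.maxInvSubgroups ⊤ A {q} ∧ Q' ∈ Cfsg.maxInvSubgroups ⊤ B {q} := by
    intro Q' hQ'
    by_cases hbot : Q' = ⊥
    · have : Q = Q' := hQ'.2 Q hQB'.1 (hbot ▸ bot_le)
      rw [← this]
      exact ⟨hsub hQB, hQB⟩
    · have h1 := maxInv_mem_of_ne_bot hG hA hqA hB' hAB' hB'π hQ' hbot
      exact ⟨h1, mem_maxInv_of_mem_maxInv hAB h1 (hBB'.trans hQ'.1.2.2)⟩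
  refine ⟨hAB', fun Q₁ hQ₁ Q₂ hQ₂ => ?_, fun Q' hQ' => (key Q' hQ').1⟩
  obtain ⟨k, hk, hkQ⟩ := htr Q₁ (key Q₁ hQ₁).2 Q₂ (key Q₂ hQ₂).2
  obtain ⟨c, hc, hcQ⟩ := Cfsg.Agent.H1.conj_centralizer_of_invariant B' K Q₁ Q₂ hB'K hcop
    (Or.inl hB's) hQ₁.1.2.2 hQ₂.1.2.2 k hk hkQ
  exact ⟨c, KKp_inf_centralizer_le hG hA hAB hBB' hc, hcQ⟩

/-- **BG 7.5(b),(c)**: induction along a subnormal chain -/
theorem TT_of_subnormal (hG : Cfsg.IsMinSimpleOddOrder G) {A : Subgroup G}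
    (hA : Cfsg.TransitivityHypothesis A) {q : ℕ} [hqf : Fact q.Prime] (hqA : ¬ q ∣ Nat.card A)
    {P : Subgroup G} (hP : P ≠ ⊤) (hPπ : ∀ r : ℕ, r.Prime → r ∣ Nat.card P → r ∣ Nat.card A)
    (H : Subgroup ↥P) (hH : H.IsSubnormal) (hT : TT A q (H.map P.subtype)) : TT A q P := by
  induction hH with
  | top =>
    rwa [← MonoidHom.range_eq_map, Subgroup.range_subtype] at hT
  | step H K hle hK hN ih =>
    apply ih
    have hKP : K.map P.subtype ≤ P := Subgroup.map_subtype_le K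
    apply TT_step hG hA hqA (Subgroup.map_mono hle) _ _ _ hT
    · rintro _ ⟨k, hk, rfl⟩
      apply mem_normalizer_of_conj_mem
      rintro _ ⟨h, hh, rfl⟩
      have := hN.conj_mem ⟨h, hle hh⟩ (Subgroup.mem_subgroupOf.mpr hh) ⟨k, hk⟩
      rw [Subgroup.mem_subgroupOf] at this
      exact ⟨_, this, rfl⟩
    · intro h
      apply hP
      rw [eq_top_iff, ← h]
      exact hKP
    · intro r hr hrd
      exact hPπ r hr (hrd.trans (Subgroup.card_dvd_of_le hKP))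

end Cfsg.Agent.Lib.Helper4.BGTrans
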