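import Mathlib
import Cfsg.Agent.Lib.Helper4.BGTransE

/-!
# The Transitivity Theorem of Bender–Glauberman, VI: the normalizer of `P` (BG 7.5(d))
-/

set_option autoImplicit false
set_option linter.style.haveILetI false
set_option linter.unusedVariables false
set_option linter.unusedSectionVars false

open scoped commutatorElement Pointwise

namespace Cfsg.Agent.Lib.Helper4.BGTrans

open Cfsg Cfsg.Agent.Lib.Helper4.ThreeStep Cfsg.Agent.Lib.Lead.Conj Cfsg.Agent.Lib.Lead.PiCore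
  Cfsg.Agent.Lib.Helper4.CNMax

universe u

variable {G : Type u} [Group G] [Finite G]

/-- if `M` normalizes `K` then `(KM)' ≤ K M'` -/
theorem commutator_sup_le {K M : Subgroup G} (hMK : M ≤ Subgroup.normalizer (K : Set G)) :
    ⁅K ⊔ M, K ⊔ M⁆ ≤ K ⊔ ⁅M, M⁆ := by
  set NK : Subgroup G := Subgroup.normalizer (K : Set G) with hNK
  haveI : (K.subgroupOf NK).Normal := Subgroup.normal_in_normalizer
  let φ := QuotientGroup.mk' (K.subgroupOf NK)
  have hφ : ∀ (k m : G) (hk : k ∈ K) (hm : m ∈ M),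
      φ ⟨k * m, NK.mul_mem (Subgroup.le_normalizer hk) (hMK hm)⟩ = φ ⟨m, hMK hm⟩ := by
    intro k m hk hm
    rw [QuotientGroup.mk'_eq_mk', ]
    refine ⟨⟨(k * m)⁻¹ * m, ?_⟩, ?_, ?_⟩
    · exact NK.mul_mem (NK.inv_mem (NK.mul_mem (Subgroup.le_normalizer hk) (hMK hm))) (hMK hm)
    · rw [Subgroup.mem_subgroupOf]
      have e : (k * m)⁻¹ * m = m⁻¹ * k⁻¹ * m := by group
      show (k * m)⁻¹ * m ∈ K
      rw [e]
      exact conj_inv_mem_of_mem_normalizer (hMK hm) (K.inv_mem hk)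
    · apply Subtype.ext
      show k * m * ((k * m)⁻¹ * m) = m
      group
  rw [Subgroup.commutator_le]
  intro a ha b hb
  obtain ⟨k₁, hk₁, m₁, hm₁, rfl⟩ := (Cfsg.Agent.H1.mem_sup_of_le_normalizer K M hMK).mp ha
  obtain ⟨k₂, hk₂, m₂, hm₂, rfl⟩ := (Cfsg.Agent.H1.mem_sup_of_le_normalizer K M hMK).mp hb
  have h1 : φ ⁅(⟨k₁ * m₁, NK.mul_mem (Subgroup.le_normalizer hk₁) (hMK hm₁)⟩ : ↥NK),
      ⟨k₂ * m₂, NK.mul_mem (Subgroup.le_normalizer hk₂) (hMK hm₂)⟩⁆ =
      φ ⁅(⟨m₁, hMK hm₁⟩ : ↥NK), ⟨m₂, hMK hm₂⟩⁆ := by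
    rw [map_commutatorElement, map_commutatorElement, hφ k₁ m₁ hk₁ hm₁, hφ k₂ m₂ hk₂ hm₂]
  have h2 := (QuotientGroup.mk'_eq_mk' _).mp h1.symm
  obtain ⟨z, hz, hze⟩ := h2
  have hzK : (z : G) ∈ K := Subgroup.mem_subgroupOf.mp hz
  have hze' : ⁅m₁, m₂⁆ * (z : G) = ⁅k₁ * m₁, k₂ * m₂⁆ := by
    have := congrArg (fun x : ↥NK => (x : G)) hze
    simpa [commutatorElement_def] using this
  rw [← hze']
  exact Subgroup.mul_mem _ (Subgroup.mem_sup_right (Subgroup.commutator_mem_commutator hm₁ hm₂))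
    (Subgroup.mem_sup_left hzK)

/-- **BG 7.5(d)**, the Frattini argument -/
theorem normalizer_eq_sup {A : Subgroup G} {q : ℕ} {P : Subgroup G} (hT : TT A q P)
    {Q : Subgroup G} (hQ : Q ∈ Cfsg.maxInvSubgroups ⊤ P {q}) :
    Subgroup.normalizer (P : Set G) =
      KKp A P ⊔ (Subgroup.normalizer (P : Set G) ⊓ Subgroup.normalizer (Q : Set G)) := by
  have hKN : KKp A P ≤ Subgroup.normalizer (P : Set G) :=
    (KKp_le_centralizer A P).trans (Subgroup.centralizer_le_normalizer _)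
  apply le_antisymm _ (sup_le hKN inf_le_left)
  intro g hg
  obtain ⟨k, hk, hkQ⟩ := hT.2.1 Q hQ _ (conj_mem_maxInvSubgroups_of_normalizer hQ hg)
  have h1 : k⁻¹ * g ∈ Subgroup.normalizer (Q : Set G) := by
    apply mem_normalizer_of_map_conj_eq
    rw [← map_conj_mul, hkQ, map_conj_mul, inv_mul_cancel, map_conj_one]
  have e : g = k * (k⁻¹ * g) := by group
  rw [e]
  exact Subgroup.mul_mem_sup hk
    ⟨Subgroup.mul_mem _ (Subgroup.inv_mem _ (hKN hk)) hg, h1⟩

theorem commutator_self_le (M : Subgroup G) : ⁅M, M⁆ ≤ M := by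
  rw [Subgroup.commutator_le]
  intro a ha b hb
  rw [commutatorElement_def]
  exact M.mul_mem (M.mul_mem (M.mul_mem ha hb) (M.inv_mem ha)) (M.inv_mem hb)

/-- **BG 7.5(d)**, the focal part -/
theorem inf_commutator_normalizer_le {A : Subgroup G} {q : ℕ} {P : Subgroup G} (hT : TT A q P)
    (hPπ : ∀ r : ℕ, r.Prime → r ∣ Nat.card P → r ∣ Nat.card A)
    {Q : Subgroup G} (hQ : Q ∈ Cfsg.maxInvSubgroups ⊤ P {q}) :
    P ⊓ ⁅Subgroup.normalizer (P : Set G), Subgroup.normalizer (P : Set G)⁆ ≤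
      ⁅Subgroup.normalizer (Q : Set G), Subgroup.normalizer (Q : Set G)⁆ := by
  set L := KKp A P with hL
  set M := Subgroup.normalizer (P : Set G) ⊓ Subgroup.normalizer (Q : Set G) with hM
  have hN : Subgroup.normalizer (P : Set G) = L ⊔ M := normalizer_eq_sup hT hQ
  have hML : M ≤ Subgroup.normalizer (L : Set G) :=
    inf_le_left.trans ((normalizer_le_normalizer_centralizer P).trans
      (normalizer_le_normalizer_piCoreOf _ _))
  have hM'L : ⁅M, M⁆ ≤ Subgroup.normalizer (L : Set G) := (commutator_self_le M).trans hML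
  have hcop : (Nat.card P).Coprime (Nat.card L) := coprime_card_of_pi hPπ (isPiNat_piCoreOf _ _)
  refine le_trans ?_ (Subgroup.commutator_mono (inf_le_right : M ≤ _) (inf_le_right : M ≤ _))
  rintro x ⟨hxP, hxN⟩
  rw [hN] at hxN
  have hx := commutator_sup_le hML hxN
  obtain ⟨k, hk, m₀, hm₀, rfl⟩ := (Cfsg.Agent.H1.mem_sup_of_le_normalizer L ⁅M, M⁆ hM'L).mp hx
  -- `k` commutes with `x = k * m₀`
  have hkx : k * m₀ * k = k * (k * m₀) :=
    Subgroup.mem_centralizer_iff.mp (KKp_le_centralizer A P hk) _ hxP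
  have hcomm : Commute k m₀ := by
    have : k * (m₀ * k) = k * (k * m₀) := by rw [← hkx]; group
    exact (mul_left_cancel this).symm
  have hpow : (k * m₀) ^ orderOf k = m₀ ^ orderOf k := by
    rw [hcomm.mul_pow, pow_orderOf_eq_one, one_mul]
  have hcop' : (orderOf k).Coprime (orderOf (k * m₀)) := by
    have h1 : orderOf k ∣ Nat.card L := by
      have := orderOf_dvd_natCard (⟨k, hk⟩ : ↥L)
      rwa [Subgroup.orderOf_mk] at this
    have h2 : orderOf (k * m₀) ∣ Nat.card P := by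
      have := orderOf_dvd_natCard (⟨k * m₀, hxP⟩ : ↥P)
      rwa [Subgroup.orderOf_mk] at this
    exact (Nat.Coprime.coprime_dvd_left h2 (Nat.Coprime.coprime_dvd_right h1 hcop)).symm
  obtain ⟨j, hj⟩ := exists_pow_eq_self_of_coprime hcop'
  rw [← hj, hpow]
  exact Subgroup.pow_mem _ (Subgroup.pow_mem _ hm₀ _) _

end Cfsg.Agent.Lib.Helper4.BGTrans
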