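import Mathlib
import Cfsg.Prelude.Def_OddOrderLocal
import Cfsg.Prelude.Def_OddOrder
import Cfsg.Agent.Lib.Helper4.CNMaxB
import Cfsg.Agent.S0035

/-!
# Maximal nilpotent subgroups of a minimal simple CN-group of odd order, II

* `maxNil_normalizer` : `N_G(H) = H ⋊ E` is a Frobenius group with kernel `H = N_G(H)_F`;
* `maxNil_normalizer_isCoatom` : `N_G(H)` is a maximal subgroup;
* `coatom_eq_normalizer` : every maximal subgroup is the normalizer of a maximal nilpotent subgroup.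
-/

set_option autoImplicit false
set_option linter.style.haveILetI false
set_option linter.unusedVariables false
set_option linter.unusedSectionVars false

open scoped commutatorElement Pointwise

namespace Cfsg.Agent.Lib.Helper4.CNMax

open Cfsg Cfsg.Agent.Lib.Helper4.ThreeStep Cfsg.Agent.Lib.Lead.Conj

universe u

variable {G : Type u} [Group G] [Finite G]

theorem mem_normalizer_of_map_conj_eq {H : Subgroup G} {g : G}
    (h : H.map (MulAut.conj g).toMonoidHom = H) : g ∈ Subgroup.normalizer (H : Set G) := by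
  apply mem_normalizer_of_conj_mem
  intro r hr
  have := conj_mem_map_conj H g hr
  rwa [h] at this

theorem maxNil_normalizer_ne (hG : Cfsg.IsMinSimpleOddOrder G) (hCN : Cfsg.IsCNGroup G)
    {H : Subgroup G} (hH : IsMaxNil H) : Subgroup.normalizer (H : Set G) ≠ H := by
  intro hN
  have hms := hG.2
  haveI : IsSimpleGroup G := hms.1
  have hFrob : Cfsg.IsFrobeniusComplement H := by
    refine ⟨hH.ne_bot, hH.ne_top hms, fun g hg => ?_⟩
    have hne : H.map (MulAut.conj g).toMonoidHom ≠ H := by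
      intro h
      apply hg
      rw [← hN]
      exact mem_normalizer_of_map_conj_eq h
    exact maxNil_TI hG hCN hH g hne
  obtain ⟨K, -, hKn, hKc⟩ := Cfsg.Agent.S0035.result H hFrob
  rcases hKn.eq_bot_or_eq_top with h | h
  · rw [h, Subgroup.isComplement'_bot_left] at hKc
    exact hH.ne_top hms hKc
  · rw [h, Subgroup.isComplement'_top_left] at hKc
    exact hH.ne_bot hKc

theorem maxNil_normalizer_ne_top (hG : Cfsg.IsMinSimpleOddOrder G) {H : Subgroup G}
    (hH : IsMaxNil H) : Subgroup.normalizer (H : Set G) ≠ ⊤ := by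
  haveI : IsSimpleGroup G := hG.2.1
  have := hH.1
  exact normalizer_ne_top hG.2 H hH.ne_bot inferInstance

theorem maxNil_normalizer (hG : Cfsg.IsMinSimpleOddOrder G) (hCN : Cfsg.IsCNGroup G)
    {H : Subgroup G} (hH : IsMaxNil H) :
    Cfsg.fittingHallOf (Subgroup.normalizer (H : Set G)) = H ∧
    ∃ E : Subgroup G, Cfsg.IsComplIn H E (Subgroup.normalizer (H : Set G)) ∧ E ≠ ⊥ ∧
      ∀ e ∈ E, e ≠ 1 → H ⊓ Subgroup.centralizer ({e} : Set G) = ⊥ := by
  have hms := hG.2
  haveI : IsSimpleGroup G := hms.1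
  set N : Subgroup G := Subgroup.normalizer (H : Set G) with hN
  have hHN : H ≤ N := Subgroup.le_normalizer
  have hNH : N ≠ H := maxNil_normalizer_ne hG hCN hH
  have hNtop : N ≠ ⊤ := maxNil_normalizer_ne_top hG hH
  obtain ⟨hNs, hNCN, hN3⟩ := proper_data hG hCN N hNtop
  haveI := hNs
  have hnn : ¬ Group.IsNilpotent ↥N := fun h => hNH (hH.2 N h hHN)
  have hcop := maxNil_coprime hCN hH
  have hFH : Cfsg.fittingHallOf N = H := by
    apply hH.2 _ (Cfsg.Agent.Lib.Helper4.TypeP.fittingHallOf_nilpotent N)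
    apply Cfsg.Agent.Lib.Helper4.TypeP.le_fittingHallOf hHN le_rfl hH.1
    apply hcop.coprime_dvd_right
    exact Dvd.intro _ (Subgroup.relIndex_mul_index hHN)
  refine ⟨hFH, ?_⟩
  obtain ⟨hF1, hFtop, E₀, hE₀, hE₀1, hfpf⟩ := frobenius_of_not_nilpotent hNCN hN3 hnn
  have hFH' : (Cfsg.fittingHall ↥N).map N.subtype = H := hFH
  refine ⟨E₀.map N.subtype, ⟨hHN, Subgroup.map_subtype_le _, ?_, ?_⟩, ?_, ?_⟩
  · rw [eq_bot_iff]
    rintro x ⟨hxH, ⟨e, he, rfl⟩⟩
    rw [← hFH'] at hxH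
    obtain ⟨f, hf, hfe⟩ := hxH
    have hfe' : f = e := Subtype.ext hfe
    subst hfe'
    have : f ∈ Cfsg.fittingHall ↥N ⊓ E₀ := ⟨hf, he⟩
    rw [hE₀.disjoint.eq_bot, Subgroup.mem_bot] at this
    rw [this]
    exact Subgroup.one_mem _
  · intro m hm
    obtain ⟨⟨f, e⟩, hfe, -⟩ := hE₀.existsUnique (⟨m, hm⟩ : ↥N)
    refine ⟨(f : ↥N), ?_, (e : ↥N), ⟨e, e.2, rfl⟩, ?_⟩
    · rw [← hFH']
      exact ⟨f, f.2, rfl⟩
    · have := congrArg Subtype.val hfe
      simpa using this.symm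
  · intro h
    exact hE₀1 ((Subgroup.map_eq_bot_iff_of_injective _ N.subtype_injective).mp h)
  · rintro _ ⟨e, he, rfl⟩ he1
    have he1' : e ≠ 1 := by
      rintro rfl
      exact he1 rfl
    rw [eq_bot_iff]
    rintro x ⟨hxH, hxc⟩
    rw [← hFH'] at hxH
    obtain ⟨f, hf, rfl⟩ := hxH
    have hfc : f ∈ Subgroup.centralizer ({e} : Set ↥N) := by
      rw [Subgroup.mem_centralizer_singleton_iff]
      have := Subgroup.mem_centralizer_singleton_iff.mp hxc
      exact Subtype.ext this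
    have : f ∈ Cfsg.fittingHall ↥N ⊓ Subgroup.centralizer ({e} : Set ↥N) := ⟨hf, hfc⟩
    rw [hfpf e he he1', Subgroup.mem_bot] at this
    rw [this]
    exact Subgroup.one_mem _

/-- `H ≤ N_G(H)'` -/
theorem exists_commutator_eq (H E : Subgroup G) (hEN : E ≤ Subgroup.normalizer (H : Set G))
    {e : G} (he : e ∈ E) (hfpf : H ⊓ Subgroup.centralizer ({e} : Set G) = ⊥) {h : G} (hh : h ∈ H) :
    ∃ u ∈ H, h = ⁅u, e⁆ := by
  have heN := hEN he
  have hmem : ∀ u : ↥H, (u : G) * e * (u : G)⁻¹ * e⁻¹ ∈ H := by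
    intro u
    have h1 : e * (u : G)⁻¹ * e⁻¹ ∈ H := (Subgroup.mem_normalizer_iff.mp heN _).mp (H.inv_mem u.2)
    have e1 : (u : G) * e * (u : G)⁻¹ * e⁻¹ = (u : G) * (e * (u : G)⁻¹ * e⁻¹) := by group
    rw [e1]
    exact H.mul_mem u.2 h1
  let φ : ↥H → ↥H := fun u => ⟨(u : G) * e * (u : G)⁻¹ * e⁻¹, hmem u⟩
  have hinj : Function.Injective φ := by
    intro u v huv
    have h1 : (u : G) * e * (u : G)⁻¹ * e⁻¹ = (v : G) * e * (v : G)⁻¹ * e⁻¹ := congrArg Subtype.val huv
    have h2 : (u : G) * e * (u : G)⁻¹ = (v : G) * e * (v : G)⁻¹ := mul_right_cancel h1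
    have h3 : (v : G)⁻¹ * (u : G) ∈ H ⊓ Subgroup.centralizer ({e} : Set G) := by
      refine Subgroup.mem_inf.mpr ⟨H.mul_mem (H.inv_mem v.2) u.2, ?_⟩
      rw [Subgroup.mem_centralizer_singleton_iff]
      have e1 : e * ((v : G)⁻¹ * (u : G)) = (v : G)⁻¹ * ((v : G) * e * (v : G)⁻¹) * (u : G) := by group
      rw [e1, ← h2]
      group
    rw [hfpf, Subgroup.mem_bot] at h3
    apply Subtype.ext
    exact (inv_mul_eq_one.mp h3).symm
  obtain ⟨u, hu⟩ := (Finite.injective_iff_surjective.mp hinj) ⟨h, hh⟩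
  refine ⟨u, u.2, ?_⟩
  rw [commutatorElement_def]
  exact (congrArg Subtype.val hu).symm

theorem maxNil_normalizer_isCoatom (hG : Cfsg.IsMinSimpleOddOrder G) (hCN : Cfsg.IsCNGroup G)
    {H : Subgroup G} (hH : IsMaxNil H) : IsCoatom (Subgroup.normalizer (H : Set G)) := by
  refine ⟨maxNil_normalizer_ne_top hG hH, fun M' hlt => ?_⟩
  by_contra hM'
  obtain ⟨M, hM, hM'M⟩ := (eq_top_or_exists_le_coatom M').resolve_left hM'
  obtain ⟨L, hLn, hLnil, hLc⟩ := exists_nilpotent_normal hG hCN M hM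
  obtain ⟨-, E, hcompl, hE1, hfpf⟩ := maxNil_normalizer hG hCN hH
  obtain ⟨⟨e, heE⟩, he1'⟩ := (Subgroup.ne_bot_iff_exists_ne_one).mp hE1
  have he1 : e ≠ 1 := fun h => he1' (Subtype.ext h)
  have hNM : Subgroup.normalizer (H : Set G) ≤ M := hlt.le.trans hM'M
  have hHL : H ≤ L.map M.subtype := by
    intro h hh
    obtain ⟨u, hu, rfl⟩ := exists_commutator_eq H E hcompl.2.1 heE (hfpf e heE he1) hh
    have huM : u ∈ M := hNM (Subgroup.le_normalizer hu)
    have heM : e ∈ M := hNM (hcompl.2.1 heE)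
    refine ⟨⁅(⟨u, huM⟩ : ↥M), (⟨e, heM⟩ : ↥M)⁆, hLc ?_, rfl⟩
    rw [commutator_def]
    exact Subgroup.commutator_mem_commutator (Subgroup.mem_top _) (Subgroup.mem_top _)
  have hLH := hH.2 _ (Cfsg.Agent.H2.CNQ.nilpotent_map M.subtype hLnil) hHL
  haveI := hLn
  have hMN : M ≤ Subgroup.normalizer (H : Set G) := by
    have := Cfsg.Agent.Lib.Helper4.TypeP.le_normalizer_map_subtype M L
    rwa [hLH] at this
  exact lt_irrefl _ (lt_of_lt_of_le hlt (hM'M.trans hMN))

theorem coatom_ne_bot (hG : Cfsg.IsMinSimpleOddOrder G) {M : Subgroup G} (hM : IsCoatom M) :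
    M ≠ ⊥ := by
  rintro rfl
  have hms := hG.2
  haveI : IsSimpleGroup G := hms.1
  obtain ⟨g, hg⟩ := exists_ne (1 : G)
  have h1 : Subgroup.zpowers g ≠ ⊥ := by
    intro h
    apply hg
    have : g ∈ Subgroup.zpowers g := Subgroup.mem_zpowers g
    rwa [h, Subgroup.mem_bot] at this
  have h2 := hM.2 _ (bot_lt_iff_ne_bot.mpr h1)
  apply not_isSolvable hms
  haveI : IsCyclic G := ⟨g, fun x => by
    have : x ∈ Subgroup.zpowers g := by rw [h2]; trivial
    exact this⟩
  letI : CommGroup G := IsCyclic.commGroup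
  infer_instance

theorem coatom_eq_normalizer (hG : Cfsg.IsMinSimpleOddOrder G) (hCN : Cfsg.IsCNGroup G)
    {M : Subgroup G} (hM : IsCoatom M) :
    ∃ H : Subgroup G, IsMaxNil H ∧ Subgroup.normalizer (H : Set G) = M := by
  have hms := hG.2
  haveI : IsSimpleGroup G := hms.1
  have hM1 := coatom_ne_bot hG hM
  obtain ⟨F₀, hF₀1, hF₀M, hMF₀, hF₀nil⟩ : ∃ F₀ : Subgroup G, F₀ ≠ ⊥ ∧ F₀ ≤ M ∧
      M ≤ Subgroup.normalizer (F₀ : Set G) ∧ Group.IsNilpotent F₀ := by
    obtain ⟨L, hLn, hLnil, hLc⟩ := exists_nilpotent_normal hG hCN M hM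
    by_cases hL : L = ⊥
    · refine ⟨M, hM1, le_rfl, Subgroup.le_normalizer, ?_⟩
      rw [hL, le_bot_iff] at hLc
      letI : CommGroup ↥M :=
        { (inferInstance : Group ↥M) with
          mul_comm := fun a b => by
            have h1 : ⁅a, b⁆ ∈ commutator ↥M := by
              rw [commutator_def]
              exact Subgroup.commutator_mem_commutator (Subgroup.mem_top _) (Subgroup.mem_top _)
            rw [hLc, Subgroup.mem_bot] at h1
            exact commutatorElement_eq_one_iff_mul_comm.mp h1 }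
      exact CommGroup.isNilpotent
    · haveI := hLn
      refine ⟨L.map M.subtype, ?_, Subgroup.map_subtype_le _,
        Cfsg.Agent.Lib.Helper4.TypeP.le_normalizer_map_subtype M L,
        Cfsg.Agent.H2.CNQ.nilpotent_map M.subtype hLnil⟩
      intro h
      exact hL ((Subgroup.map_eq_bot_iff_of_injective _ M.subtype_injective).mp h)
  obtain ⟨H, hH, hF₀H⟩ := exists_maxNil_ge F₀ hF₀nil
  refine ⟨H, hH, ?_⟩
  have hMN : M ≤ Subgroup.normalizer (H : Set G) := by
    intro m hm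
    apply mem_normalizer_of_map_conj_eq
    by_contra hne
    have hTI := maxNil_TI hG hCN hH m hne
    obtain ⟨⟨x, hx⟩, hx1'⟩ := (Subgroup.ne_bot_iff_exists_ne_one).mp hF₀1
    have hx1 : x ≠ 1 := fun h => hx1' (Subtype.ext h)
    apply hx1
    have h1 : x ∈ H ⊓ H.map (MulAut.conj m).toMonoidHom := by
      refine Subgroup.mem_inf.mpr ⟨hF₀H hx, ?_⟩
      rw [mem_map_conj]
      apply hF₀H
      have hmn : m⁻¹ ∈ Subgroup.normalizer (F₀ : Set G) := Subgroup.inv_mem _ (hMF₀ hm)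
      have := (Subgroup.mem_normalizer_iff.mp hmn x).mp hx
      rwa [inv_inv] at this
    rwa [hTI, Subgroup.mem_bot] at h1
  by_contra hne
  exact maxNil_normalizer_ne_top hG hH (hM.2 _ (lt_of_le_of_ne hMN (Ne.symm hne)))

end Cfsg.Agent.Lib.Helper4.CNMax
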