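import Mathlib
import Cfsg.Prelude.Def_OddOrderLocal
import Cfsg.Prelude.Def_OddOrder
import Cfsg.Agent.Lib.Helper4.CNMaxC
import Cfsg.Agent.Lib.Lead.CarterSys
import Cfsg.Agent.H1.KpClasses

/-!
# Maximal nilpotent subgroups of a minimal simple CN-group of odd order, III

* `maxNil_conj_or_coprime` : two maximal nilpotent subgroups are conjugate or of coprime orders;
* `commuting_primes_trans` : the relation "some nonidentity `p`-element commutes with some nonidentity `q`-element" is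
  transitive.
-/

set_option autoImplicit false
set_option linter.style.haveILetI false
set_option linter.unusedVariables false
set_option linter.unusedSectionVars false

open scoped commutatorElement Pointwise

namespace Cfsg.Agent.Lib.Helper4.CNMax

open Cfsg Cfsg.Agent.Lib.Helper4.ThreeStep Cfsg.Agent.Lib.Lead.Conj

universe u

variable {G : Type u} [Group G] [Finite G]

theorem exists_central (H : Subgroup G) (hH : Group.IsNilpotent H) (hH1 : H ≠ ⊥) :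
    ∃ w ∈ H, w ≠ 1 ∧ ∀ h ∈ H, h * w = w * h := by
  have := hH
  have h1 := Cfsg.Agent.Lib.Lead.CarterSys.normal_inf_center_ne_bot_of_nilpotent (H := ↥H) ⊤ (by
    intro h
    apply hH1
    rw [eq_bot_iff]
    intro x hx
    have : (⟨x, hx⟩ : ↥H) ∈ (⊤ : Subgroup ↥H) := trivial
    rw [h, Subgroup.mem_bot] at this
    exact congrArg Subtype.val this)
  rw [top_inf_eq] at h1
  obtain ⟨⟨w, hw⟩, hw1'⟩ := (Subgroup.ne_bot_iff_exists_ne_one).mp h1
  refine ⟨w, w.2, fun h => hw1' (Subtype.ext (Subtype.ext h)), fun h hh => ?_⟩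
  have := Subgroup.mem_center_iff.mp hw ⟨h, hh⟩
  exact congrArg Subtype.val this

theorem mem_centralizer_singleton_of_comm {a b : G} (h : a * b = b * a) :
    b ∈ Subgroup.centralizer ({a} : Set G) :=
  Subgroup.mem_centralizer_singleton_iff.mpr h.symm

/-- if two maximal nilpotent subgroups contain nonidentity elements of a common `p`-subgroup they are equal -/
theorem maxNil_eq_of_sylow (hG : Cfsg.IsMinSimpleOddOrder G) (hCN : Cfsg.IsCNGroup G)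
    {H₁ H₂ : Subgroup G} (h₁ : IsMaxNil H₁) (h₂ : IsMaxNil H₂) {p : ℕ} [Fact p.Prime]
    (S : Sylow p G) {x₁ x₂ : G} (hx₁ : x₁ ∈ H₁) (hx₂ : x₂ ∈ H₂) (hx₁1 : x₁ ≠ 1) (hx₂1 : x₂ ≠ 1)
    (hx₁S : x₁ ∈ (S : Subgroup G)) (hx₂S : x₂ ∈ (S : Subgroup G)) : H₁ = H₂ := by
  haveI : IsSimpleGroup G := hG.2.1
  have hS1 : (S : Subgroup G) ≠ ⊥ := by
    intro h
    apply hx₁1
    rwa [h, Subgroup.mem_bot] at hx₁S
  obtain ⟨z, hzS, hz1, hzc⟩ := exists_central (S : Subgroup G) S.isPGroup'.isNilpotent hS1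
  have hz₁ : z ∈ H₁ :=
    maxNil_centralizer_le hG hCN h₁ hx₁ hx₁1 (mem_centralizer_singleton_of_comm (hzc x₁ hx₁S))
  have hz₂ : z ∈ H₂ :=
    maxNil_centralizer_le hG hCN h₂ hx₂ hx₂1 (mem_centralizer_singleton_of_comm (hzc x₂ hx₂S))
  obtain ⟨w, hw, hw1, hwc⟩ := exists_central H₂ h₂.1 h₂.ne_bot
  have hw₁ : w ∈ H₁ := by
    apply maxNil_centralizer_le hG hCN h₁ hz₁ hz1
    exact mem_centralizer_singleton_of_comm (hwc z hz₂)
  have hle : H₂ ≤ H₁ := by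
    intro h hh
    apply maxNil_centralizer_le hG hCN h₁ hw₁ hw1
    exact mem_centralizer_singleton_of_comm (hwc h hh).symm
  exact h₂.2 H₁ h₁.1 hle

theorem maxNil_conj_or_coprime (hG : Cfsg.IsMinSimpleOddOrder G) (hCN : Cfsg.IsCNGroup G)
    {H₁ H₂ : Subgroup G} (h₁ : IsMaxNil H₁) (h₂ : IsMaxNil H₂) :
    (∃ g : G, H₂ = H₁.map (MulAut.conj g).toMonoidHom) ∨
      (Nat.card ↥H₁).Coprime (Nat.card ↥H₂) := by
  by_cases hcop : (Nat.card ↥H₁).Coprime (Nat.card ↥H₂)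
  · exact Or.inr hcop
  left
  obtain ⟨p, hp, hp₁, hp₂⟩ := Nat.Prime.not_coprime_iff_dvd.mp hcop
  haveI : Fact p.Prime := ⟨hp⟩
  obtain ⟨x₁, hx₁⟩ := exists_prime_orderOf_dvd_card' p hp₁
  obtain ⟨x₂, hx₂⟩ := exists_prime_orderOf_dvd_card' p hp₂
  have ho₁ : orderOf (x₁ : G) = p ^ 1 := by rw [Subgroup.orderOf_coe, hx₁, pow_one]
  have ho₂ : orderOf (x₂ : G) = p ^ 1 := by rw [Subgroup.orderOf_coe, hx₂, pow_one]
  have hz₂ : IsPGroup p (Subgroup.zpowers (x₂ : G)) :=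
    IsPGroup.of_card (n := 1) (by rw [Nat.card_zpowers, ho₂])
  obtain ⟨S, hS⟩ := hz₂.exists_le_sylow
  obtain ⟨g, hg⟩ := Cfsg.Agent.H1.KpClasses.exists_conj_mem S ho₁
  have hne₁ : (x₁ : G) ≠ 1 := by
    intro h
    rw [h, orderOf_one, pow_one] at ho₁
    exact hp.one_lt.ne ho₁
  have hne₂ : (x₂ : G) ≠ 1 := by
    intro h
    rw [h, orderOf_one, pow_one] at ho₂
    exact hp.one_lt.ne ho₂
  refine ⟨g, ?_⟩
  symm
  apply maxNil_eq_of_sylow hG hCN (h₁.conj g) h₂ S (conj_mem_map_conj H₁ g x₁.2) x₂.2 ?_ hne₂ hg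
    (hS (Subgroup.mem_zpowers _))
  intro h
  apply hne₁
  have e : (x₁ : G) = g⁻¹ * (g * (x₁ : G) * g⁻¹) * g := by group
  rw [e, h]
  group

theorem isPGroup_zpowers_iff {p : ℕ} [Fact p.Prime] {x : G} :
    IsPGroup p (Subgroup.zpowers x) ↔ ∃ k : ℕ, orderOf x = p ^ k := by
  constructor
  · intro h
    obtain ⟨k, hk⟩ := (IsPGroup.iff_orderOf.mp h) ⟨x, Subgroup.mem_zpowers x⟩
    rw [Subgroup.orderOf_mk] at hk
    exact ⟨k, hk⟩
  · rintro ⟨k, hk⟩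
    exact IsPGroup.of_card (n := k) (by rw [Nat.card_zpowers, hk])

theorem dvd_card_of_mem {p : ℕ} (hp : p.Prime) {H : Subgroup G} {y : G} (hy : y ∈ H) (hy1 : y ≠ 1)
    (hyp : IsPGroup p (Subgroup.zpowers y)) : p ∣ Nat.card ↥H := by
  haveI : Fact p.Prime := ⟨hp⟩
  obtain ⟨k, hk⟩ := isPGroup_zpowers_iff.mp hyp
  have hk0 : k ≠ 0 := by
    rintro rfl
    rw [pow_zero, orderOf_eq_one_iff] at hk
    exact hy1 hk
  have h1 : orderOf y ∣ Nat.card ↥H := by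
    have := orderOf_dvd_natCard (⟨y, hy⟩ : ↥H)
    rwa [Subgroup.orderOf_mk] at this
  exact (dvd_pow_self p hk0).trans (hk ▸ h1)

theorem commuting_primes_trans (hG : Cfsg.IsMinSimpleOddOrder G) (hCN : Cfsg.IsCNGroup G)
    (p q r : ℕ) (hp : p.Prime) (hq : q.Prime) (hr : r.Prime) (x y y' z : G) (hx1 : x ≠ 1)
    (hy1 : y ≠ 1) (hy'1 : y' ≠ 1) (hz1 : z ≠ 1) (hxp : IsPGroup p (Subgroup.zpowers x))
    (hyq : IsPGroup q (Subgroup.zpowers y)) (hy'q : IsPGroup q (Subgroup.zpowers y'))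
    (hzr : IsPGroup r (Subgroup.zpowers z)) (hxy : x * y = y * x) (hyz : y' * z = z * y') :
    ∃ x' z' : G, x' ≠ 1 ∧ z' ≠ 1 ∧ IsPGroup p (Subgroup.zpowers x') ∧
      IsPGroup r (Subgroup.zpowers z') ∧ x' * z' = z' * x' := by
  by_cases hpr : p = r
  · subst hpr
    exact ⟨x, x, hx1, hx1, hxp, hxp, rfl⟩
  haveI : Fact p.Prime := ⟨hp⟩
  haveI : Fact r.Prime := ⟨hr⟩
  obtain ⟨H₁, h₁, hle₁⟩ := exists_maxNil_ge _ (hCN x hx1)
  obtain ⟨H₂, h₂, hle₂⟩ := exists_maxNil_ge _ (hCN z hz1)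
  have hxH₁ : x ∈ H₁ := hle₁ (mem_centralizer_singleton_of_comm rfl)
  have hyH₁ : y ∈ H₁ := hle₁ (mem_centralizer_singleton_of_comm hxy)
  have hzH₂ : z ∈ H₂ := hle₂ (mem_centralizer_singleton_of_comm rfl)
  have hy'H₂ : y' ∈ H₂ := hle₂ (mem_centralizer_singleton_of_comm hyz.symm)
  have hq₁ := dvd_card_of_mem hq hyH₁ hy1 hyq
  have hq₂ := dvd_card_of_mem hq hy'H₂ hy'1 hy'q
  rcases maxNil_conj_or_coprime hG hCN h₁ h₂ with ⟨g, hg⟩ | hcop
  · have hz₀ : g⁻¹ * z * g ∈ H₁ := by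
      rw [hg, mem_map_conj] at hzH₂
      exact hzH₂
    obtain ⟨k, hk⟩ := isPGroup_zpowers_iff.mp hzr
    obtain ⟨j, hj⟩ := isPGroup_zpowers_iff.mp hxp
    have ho : orderOf (g⁻¹ * z * g) = r ^ k := by rw [orderOf_conj', hk]
    refine ⟨x, g⁻¹ * z * g, hx1, ?_, hxp, isPGroup_zpowers_iff.mpr ⟨k, ho⟩, ?_⟩
    · intro h
      apply hz1
      have e : z = g * (g⁻¹ * z * g) * g⁻¹ := by group
      rw [e, h]
      group
    · apply Cfsg.Agent.H2.CNSyl.commute_of_mem_nilpotent h₁.1 hxH₁ hz₀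
      rw [hj, ho]
      exact Nat.Coprime.pow j k ((Nat.coprime_primes hp hr).mpr hpr)
  · exfalso
    have := Nat.dvd_gcd hq₁ hq₂
    rw [hcop.gcd_eq_one] at this
    exact hq.one_lt.ne' (Nat.dvd_one.mp this)

end Cfsg.Agent.Lib.Helper4.CNMax
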