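import Mathlib
import Cfsg.Prelude.Def_OddOrderLocal

set_option autoImplicit false

namespace Cfsg.Agent.Lib.Helper4.Puig

open Cfsg
open scoped commutatorElement

variable {G : Type*} [Group G]

/-- relative Puig step: the subgroup generated by the abelian subgroups of `H` normalized by `X` -/
def relStep (H X : Subgroup G) : Subgroup G :=
  sSup {A : Subgroup G | IsMulCommutative A ∧ A ≤ H ∧ X ≤ Subgroup.normalizer (A : Set G)}

/-- relative Puig series of the subgroup `H` -/
def relSeq (H : Subgroup G) : ℕ → Subgroup G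
  | 0 => ⊥
  | n + 1 => relStep H (relSeq H n)

theorem le_relStep {H X A : Subgroup G} (hA : IsMulCommutative A) (hAH : A ≤ H)
    (hX : X ≤ Subgroup.normalizer (A : Set G)) : A ≤ relStep H X :=
  le_sSup ⟨hA, hAH, hX⟩

theorem relStep_le (H X : Subgroup G) : relStep H X ≤ H := sSup_le fun _ hA => hA.2.1

theorem relStep_anti (H : Subgroup G) {X Y : Subgroup G} (h : X ≤ Y) : relStep H Y ≤ relStep H X :=
  sSup_le_sSup fun _ hA => ⟨hA.1, hA.2.1, h.trans hA.2.2⟩

theorem relStep_mono {H H' : Subgroup G} (h : H ≤ H') (X : Subgroup G) :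
    relStep H X ≤ relStep H' X :=
  sSup_le_sSup fun _ hA => ⟨hA.1, hA.2.1.trans h, hA.2.2⟩

theorem relSeq_le (H : Subgroup G) (n : ℕ) : relSeq H n ≤ H := by
  cases n with
  | zero => exact bot_le
  | succ n => exact relStep_le H _

theorem relSeq_succ (H : Subgroup G) (n : ℕ) : relSeq H (n + 1) = relStep H (relSeq H n) := rfl

theorem relSeq_chain (H : Subgroup G) (n : ℕ) :
    relSeq H (2 * n) ≤ relSeq H (2 * n + 2) ∧ relSeq H (2 * n + 3) ≤ relSeq H (2 * n + 1) := by
  induction n with
  | zero =>
    refine ⟨bot_le, ?_⟩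
    exact relStep_anti H bot_le
  | succ n ih =>
    have h1 : relSeq H (2 * (n + 1)) ≤ relSeq H (2 * (n + 1) + 2) := relStep_anti H ih.2
    exact ⟨h1, relStep_anti H h1⟩

theorem relSeq_even_mono (H : Subgroup G) : Monotone (fun n => relSeq H (2 * n)) :=
  monotone_nat_of_le_succ fun n => (relSeq_chain H n).1

theorem relSeq_odd_anti (H : Subgroup G) : Antitone (fun n => relSeq H (2 * n + 1)) :=
  antitone_nat_of_succ_le fun n => (relSeq_chain H n).2

theorem relSeq_even_le_succ (H : Subgroup G) (n : ℕ) : relSeq H (2 * n) ≤ relSeq H (2 * n + 1) := by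
  induction n with
  | zero => exact bot_le
  | succ n ih =>
    have h1 : relSeq H (2 * n + 2) ≤ relSeq H (2 * n + 1) := relStep_anti H ih
    exact relStep_anti H h1

theorem relSeq_even_le_odd (H : Subgroup G) (m n : ℕ) :
    relSeq H (2 * m) ≤ relSeq H (2 * n + 1) := by
  rcases le_total m n with h | h
  · exact (relSeq_even_mono H h).trans (relSeq_even_le_succ H n)
  · exact (relSeq_even_le_succ H m).trans (relSeq_odd_anti H h)

/-- `L_*` and `L` of the subgroup `H`, inside `G` -/
def relLower (H : Subgroup G) : Subgroup G := ⨆ n : ℕ, relSeq H (2 * n)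

def relUpper (H : Subgroup G) : Subgroup G := ⨅ n : ℕ, relSeq H (2 * n + 1)

theorem relLower_le_relUpper (H : Subgroup G) : relLower H ≤ relUpper H :=
  iSup_le fun m => le_iInf fun n => relSeq_even_le_odd H m n

theorem relUpper_le (H : Subgroup G) : relUpper H ≤ H :=
  (iInf_le _ 0).trans (relSeq_le H _)

theorem relSeq_even_le_relLower (H : Subgroup G) (n : ℕ) : relSeq H (2 * n) ≤ relLower H :=
  le_iSup (fun n => relSeq H (2 * n)) n

theorem relUpper_le_relSeq_odd (H : Subgroup G) (n : ℕ) : relUpper H ≤ relSeq H (2 * n + 1) :=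
  iInf_le (fun n => relSeq H (2 * n + 1)) n

/-- transport of the relative step along a homomorphism injective on `H` -/
theorem map_relStep {G' : Type*} [Group G'] (f : G →* G') (H X : Subgroup G) (hX : X ≤ H)
    (hinj : Set.InjOn f H) : (relStep H X).map f = relStep (H.map f) (X.map f) := by
  apply le_antisymm
  · rw [Subgroup.map_le_iff_le_comap]
    apply sSup_le
    rintro A ⟨hA, hAH, hAX⟩
    rw [← Subgroup.map_le_iff_le_comap]
    have := hA
    refine le_relStep inferInstance (Subgroup.map_mono hAH) ?_
    exact (Subgroup.map_mono hAX).trans (Subgroup.le_normalizer_map f)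
  · apply sSup_le
    rintro B ⟨hB, hBH, hBX⟩
    set A : Subgroup G := H ⊓ B.comap f with hAdef
    have hAB : A.map f = B := by
      ext y
      constructor
      · rintro ⟨a, ha, rfl⟩
        exact ha.2
      · intro hy
        obtain ⟨a, ha, rfl⟩ := hBH hy
        exact ⟨a, ⟨ha, hy⟩, rfl⟩
    have hAc : IsMulCommutative A := by
      refine ⟨⟨fun a b => ?_⟩⟩
      apply Subtype.ext
      apply hinj (H.mul_mem a.2.1 b.2.1) (H.mul_mem b.2.1 a.2.1)
      rw [map_mul, map_mul]
      have := hB.is_comm.comm (⟨f a, a.2.2⟩ : B) ⟨f b, b.2.2⟩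
      exact congrArg Subtype.val this
    have hAX : X ≤ Subgroup.normalizer (A : Set G) := by
      intro x hx
      have hfx : f x ∈ Subgroup.normalizer (B : Set G') := hBX (Subgroup.mem_map_of_mem f hx)
      have hxH : x ∈ H := hX hx
      rw [Subgroup.mem_normalizer_iff]
      intro a
      constructor
      · rintro ⟨haH, haB⟩
        refine ⟨H.mul_mem (H.mul_mem hxH haH) (H.inv_mem hxH), ?_⟩
        change f (x * a * x⁻¹) ∈ B
        rw [map_mul, map_mul, map_inv]
        exact (Subgroup.mem_normalizer_iff.mp hfx (f a)).mp haB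
      · rintro ⟨haH, haB⟩
        have e : a = x⁻¹ * (x * a * x⁻¹) * x := by group
        refine ⟨?_, ?_⟩
        · rw [e]
          exact H.mul_mem (H.mul_mem (H.inv_mem hxH) haH) hxH
        · have haB' : f (x * a * x⁻¹) ∈ B := haB
          rw [map_mul, map_mul, map_inv] at haB'
          exact (Subgroup.mem_normalizer_iff.mp hfx (f a)).mpr haB'
    rw [← hAB]
    exact Subgroup.map_mono (le_relStep hAc inf_le_left hAX)

theorem map_relSeq {G' : Type*} [Group G'] (f : G →* G') (H : Subgroup G)
    (hinj : Set.InjOn f H) (n : ℕ) : (relSeq H n).map f = relSeq (H.map f) n := by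
  induction n with
  | zero => exact Subgroup.map_bot f
  | succ n ih =>
    rw [relSeq_succ, relSeq_succ, map_relStep f H _ (relSeq_le H n) hinj, ih]

theorem puigStep_eq (X : Subgroup G) : puigStep X = relStep ⊤ X := by
  unfold puigStep relStep
  congr 1
  ext A
  simp

theorem puigSeq_eq (n : ℕ) : puigSeq G n = relSeq ⊤ n := by
  induction n with
  | zero => rfl
  | succ n ih =>
    rw [relSeq_succ, ← ih, ← puigStep_eq]
    rfl

theorem map_puigSeq_subtype (H : Subgroup G) (n : ℕ) :
    (puigSeq ↥H n).map H.subtype = relSeq H n := by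
  rw [puigSeq_eq, map_relSeq H.subtype ⊤ (H.subtype_injective.injOn) n]
  congr 1
  rw [← MonoidHom.range_eq_map, Subgroup.range_subtype]

theorem map_puigLower_subtype (H : Subgroup G) :
    (puigLower ↥H).map H.subtype = relLower H := by
  unfold puigLower relLower
  rw [Subgroup.map_iSup]
  exact iSup_congr fun n => map_puigSeq_subtype H (2 * n)

theorem map_puigSubgroup_subtype (H : Subgroup G) :
    (puigSubgroup ↥H).map H.subtype = relUpper H := by
  unfold puigSubgroup relUpper
  rw [Subgroup.map_iInf _ H.subtype_injective]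
  exact iInf_congr fun n => map_puigSeq_subtype H (2 * n + 1)


/-! ### normalizers -/

theorem le_normalizer_of_conj_mem {H M : Subgroup G} (h : ∀ x ∈ H, ∀ m ∈ M, x * m * x⁻¹ ∈ M) :
    H ≤ Subgroup.normalizer (M : Set G) := by
  intro x hx
  rw [Subgroup.mem_normalizer_iff]
  intro m
  constructor
  · exact h x hx m
  · intro hm
    have := h x⁻¹ (H.inv_mem hx) _ hm
    simpa [mul_assoc] using this

theorem conj_mem_of_mem_normalizer {M : Subgroup G} {x m : G}
    (hx : x ∈ Subgroup.normalizer (M : Set G)) (hm : m ∈ M) : x * m * x⁻¹ ∈ M :=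
  (Subgroup.mem_normalizer_iff.mp hx m).mp hm

theorem normalizer_le_normalizer_relStep (H X : Subgroup G) (hX : X ≤ H) :
    Subgroup.normalizer (H : Set G) ⊓ Subgroup.normalizer (X : Set G) ≤
      Subgroup.normalizer (relStep H X : Set G) := by
  intro g hg
  have hgH : g ∈ Subgroup.normalizer (H : Set G) := hg.1
  have hgX : g ∈ Subgroup.normalizer (X : Set G) := hg.2
  rw [Subgroup.mem_normalizer_iff_map_conj_eq] at hgH hgX ⊢
  have := map_relStep (MulAut.conj g : G →* G) H X hX ((MulAut.conj g).injective.injOn)
  rw [hgH, hgX] at this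
  exact this

theorem normalizer_le_normalizer_relSeq (H : Subgroup G) (n : ℕ) :
    Subgroup.normalizer (H : Set G) ≤ Subgroup.normalizer (relSeq H n : Set G) := by
  intro g hg
  rw [Subgroup.mem_normalizer_iff_map_conj_eq] at hg ⊢
  have := map_relSeq (MulAut.conj g : G →* G) H ((MulAut.conj g).injective.injOn) n
  rw [hg] at this
  exact this

theorem normalizer_le_normalizer_relUpper (H : Subgroup G) :
    Subgroup.normalizer (H : Set G) ≤ Subgroup.normalizer (relUpper H : Set G) := by
  apply le_normalizer_of_conj_mem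
  intro x hx m hm
  unfold relUpper at hm ⊢
  rw [Subgroup.mem_iInf] at hm ⊢
  intro n
  exact conj_mem_of_mem_normalizer (normalizer_le_normalizer_relSeq H _ hx) (hm n)

theorem relSeq_normal (H : Subgroup G) [hH : H.Normal] (n : ℕ) : (relSeq H n).Normal := by
  rw [← Subgroup.normalizer_eq_top_iff, eq_top_iff]
  refine le_trans ?_ (normalizer_le_normalizer_relSeq H n)
  rw [Subgroup.normalizer_eq_top]

theorem relUpper_normal (H : Subgroup G) [hH : H.Normal] : (relUpper H).Normal := by
  rw [← Subgroup.normalizer_eq_top_iff, eq_top_iff]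
  refine le_trans ?_ (normalizer_le_normalizer_relUpper H)
  rw [Subgroup.normalizer_eq_top]

/-- B.1(c): abelian normal subgroups of `H` lie in every term of positive index -/
theorem le_relSeq_succ {A H : Subgroup G} (hA : IsMulCommutative A) (hAH : A ≤ H)
    (hN : H ≤ Subgroup.normalizer (A : Set G)) (n : ℕ) : A ≤ relSeq H (n + 1) :=
  le_relStep hA hAH ((relSeq_le H n).trans hN)

/-! ### stabilization -/

theorem exists_stable [Finite G] (H : Subgroup G) :
    ∃ n, ∀ m, n ≤ m → relSeq H (2 * n) = relSeq H (2 * m) :=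
  WellFoundedGT.monotone_chain_condition ⟨fun n => relSeq H (2 * n), relSeq_even_mono H⟩

theorem exists_eq [Finite G] (H : Subgroup G) :
    ∃ n, relLower H = relSeq H (2 * n) ∧ relUpper H = relSeq H (2 * n + 1) ∧
      relSeq H (2 * n + 2) = relSeq H (2 * n) := by
  obtain ⟨n, hn⟩ := exists_stable H
  refine ⟨n, ?_, ?_, ?_⟩
  · apply le_antisymm
    · apply iSup_le
      intro m
      rcases le_total m n with h | h
      · exact relSeq_even_mono H h
      · rw [← hn m h]
    · exact relSeq_even_le_relLower H n
  · apply le_antisymm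
    · exact relUpper_le_relSeq_odd H n
    · apply le_iInf
      intro m
      rcases le_total m n with h | h
      · exact relSeq_odd_anti H h
      · rw [relSeq_succ, relSeq_succ, ← hn m h]
  · exact (hn (n + 1) (Nat.le_succ n)).symm

theorem relStep_relLower [Finite G] (H : Subgroup G) : relStep H (relLower H) = relUpper H := by
  obtain ⟨n, h1, h2, -⟩ := exists_eq H
  rw [h1, h2]
  rfl

theorem relStep_relUpper [Finite G] (H : Subgroup G) : relStep H (relUpper H) = relLower H := by
  obtain ⟨n, h1, h2, h3⟩ := exists_eq H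
  rw [h1, h2, ← h3]
  rfl

/-- B.1(e) -/
theorem relUpper_eq_of_le [Finite G] {H D : Subgroup G} (hDH : D ≤ H) (hL : relUpper H ≤ D) :
    relUpper D = relUpper H := by
  have key1 : ∀ n, relSeq H (2 * n) ≤ relSeq D (2 * n) ∧
      relSeq D (2 * n + 1) ≤ relSeq H (2 * n + 1) := by
    intro n
    induction n with
    | zero => exact ⟨bot_le, relStep_mono hDH _⟩
    | succ n ih =>
      have h1 : relSeq H (2 * (n + 1)) ≤ relSeq D (2 * (n + 1)) := by
        change relStep H (relSeq H (2 * n + 1)) ≤ relStep D (relSeq D (2 * n + 1))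
        apply sSup_le
        rintro A ⟨hA, hAH, hAX⟩
        have hAD : A ≤ D := by
          have : A ≤ relSeq H (2 * (n + 1)) := le_relStep hA hAH hAX
          exact this.trans ((relSeq_even_le_relLower H (n + 1)).trans
            ((relLower_le_relUpper H).trans hL))
        exact le_relStep hA hAD (ih.2.trans hAX)
      refine ⟨h1, ?_⟩
      change relStep D (relSeq D (2 * (n + 1))) ≤ relStep H (relSeq H (2 * (n + 1)))
      exact (relStep_mono hDH _).trans (relStep_anti H h1)
  have key2 : ∀ n, relSeq D (2 * n) ≤ relLower H ∧ relUpper H ≤ relSeq D (2 * n + 1) := by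
    intro n
    induction n with
    | zero =>
      refine ⟨bot_le, ?_⟩
      rw [← relStep_relLower H]
      apply sSup_le
      rintro A ⟨hA, hAH, hAX⟩
      have hAD : A ≤ D := by
        have : A ≤ relStep H (relLower H) := le_relStep hA hAH hAX
        rw [relStep_relLower] at this
        exact this.trans hL
      exact le_relStep hA hAD bot_le
    | succ n ih =>
      have h1 : relSeq D (2 * (n + 1)) ≤ relLower H := by
        change relStep D (relSeq D (2 * n + 1)) ≤ relLower H
        rw [← relStep_relUpper H]
        exact (relStep_mono hDH _).trans (relStep_anti H ih.2)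
      refine ⟨h1, ?_⟩
      change relUpper H ≤ relStep D (relSeq D (2 * (n + 1)))
      rw [← relStep_relLower H]
      apply sSup_le
      rintro A ⟨hA, hAH, hAX⟩
      have hAD : A ≤ D := by
        have : A ≤ relStep H (relLower H) := le_relStep hA hAH hAX
        rw [relStep_relLower] at this
        exact this.trans hL
      exact le_relStep hA hAD (h1.trans hAX)
  apply le_antisymm
  · exact iInf_mono fun n => (key1 n).2
  · exact le_iInf fun n => (key2 n).2


/-! ### B.1(d): the centralizer lemma -/

theorem inf_centralizer_relStep_le {H X : Subgroup G} [hnil : Group.IsNilpotent ↥H] (hXH : X ≤ H)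
    (hXn : H ≤ Subgroup.normalizer (X : Set G)) :
    H ⊓ Subgroup.centralizer (relStep H X : Set G) ≤ relStep H X := by
  set L := relStep H X with hL
  have hLH : L ≤ H := relStep_le H X
  have hLn : H ≤ Subgroup.normalizer (L : Set G) := by
    refine le_trans ?_ (normalizer_le_normalizer_relStep H X hXH)
    exact le_inf Subgroup.le_normalizer hXn
  have hCn : ∀ h ∈ H, ∀ z ∈ Subgroup.centralizer (L : Set G),
      h * z * h⁻¹ ∈ Subgroup.centralizer (L : Set G) := by
    intro h hh z hz
    rw [Subgroup.mem_centralizer_iff] at hz ⊢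
    intro m hm
    have hm' : h⁻¹ * m * h ∈ L := by
      have := conj_mem_of_mem_normalizer (hLn (H.inv_mem hh)) hm
      simpa using this
    have := hz _ hm'
    calc m * (h * z * h⁻¹) = h * ((h⁻¹ * m * h) * z) * h⁻¹ := by group
      _ = h * (z * (h⁻¹ * m * h)) * h⁻¹ := by rw [this]
      _ = h * z * h⁻¹ * m := by group
  have key : ∀ i : ℕ, ∀ c : ↥H, c ∈ Subgroup.upperCentralSeries ↥H i →
      (c : G) ∈ Subgroup.centralizer (L : Set G) → (c : G) ∈ L := by
    intro i
    induction i with
    | zero =>
      intro c hc _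
      rw [Subgroup.upperCentralSeries_zero, Subgroup.mem_bot] at hc
      rw [hc]; exact L.one_mem
    | succ i ih =>
      intro c hc hcC
      rw [Subgroup.mem_upperCentralSeries_succ_iff] at hc
      have hcomm : ∀ y ∈ H, ⁅(c : G), y⁆ ∈ L := by
        intro y hy
        have h1 := hc ⟨y, hy⟩
        have h2 := ih _ h1 (by
          change ⁅(c : G), y⁆ ∈ _
          rw [commutatorElement_def]
          have : (c : G) * y * (c : G)⁻¹ * y⁻¹ = (c : G) * (y * (c : G)⁻¹ * y⁻¹) := by group
          rw [this]
          exact Subgroup.mul_mem _ hcC (hCn y hy _ (Subgroup.inv_mem _ hcC)))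
        exact h2
      set M := L ⊔ Subgroup.zpowers (c : G) with hM
      have hcM : (c : G) ∈ M :=
        (le_sup_right : Subgroup.zpowers (c : G) ≤ M) (Subgroup.mem_zpowers _)
      have hMH : M ≤ H := sup_le hLH ((Subgroup.zpowers_le).mpr c.2)
      have hMn : ∀ x ∈ H, ∀ m ∈ M, x * m * x⁻¹ ∈ M := by
        intro x hx m hm
        have hmap : M.map (MulAut.conj x : G →* G) ≤ M := by
          rw [hM, Subgroup.map_sup]
          apply sup_le
          · have := hLn hx
            rw [Subgroup.mem_normalizer_iff_map_conj_eq] at this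
            rw [this]; exact le_sup_left
          · rw [MonoidHom.map_zpowers, Subgroup.zpowers_le]
            change x * c * x⁻¹ ∈ M
            have e : x * (c : G) * x⁻¹ = (⁅(c : G), x⁆)⁻¹ * c := by
              rw [commutatorElement_def]; group
            rw [e]
            exact M.mul_mem (M.inv_mem ((le_sup_left : L ≤ M) (hcomm x hx))) hcM
        exact hmap ⟨m, hm, rfl⟩
      set A := M ⊓ Subgroup.centralizer (M : Set G) with hA
      have hAc : IsMulCommutative A := by
        refine ⟨⟨fun a b => ?_⟩⟩
        apply Subtype.ext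
        have := Subgroup.mem_centralizer_iff.mp a.2.2 b.1 b.2.1
        exact this.symm
      have hAH : A ≤ H := inf_le_left.trans hMH
      have hAn : H ≤ Subgroup.normalizer (A : Set G) := by
        apply le_normalizer_of_conj_mem
        intro x hx a ha
        refine ⟨hMn x hx a ha.1, ?_⟩
        change x * a * x⁻¹ ∈ Subgroup.centralizer (M : Set G)
        rw [Subgroup.mem_centralizer_iff]
        intro m hm
        have hm' : x⁻¹ * m * x ∈ M := by
          have := hMn x⁻¹ (H.inv_mem hx) m hm
          simpa using this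
        have := Subgroup.mem_centralizer_iff.mp ha.2 _ hm'
        calc m * (x * a * x⁻¹) = x * ((x⁻¹ * m * x) * a) * x⁻¹ := by group
          _ = x * (a * (x⁻¹ * m * x)) * x⁻¹ := by rw [this]
          _ = x * a * x⁻¹ * m := by group
      have hcA : (c : G) ∈ A := by
        refine ⟨hcM, ?_⟩
        have hle : M ≤ Subgroup.centralizer ({(c : G)} : Set G) := by
          apply sup_le
          · intro l hl
            rw [Subgroup.mem_centralizer_iff]
            intro y hy
            rw [Set.mem_singleton_iff] at hy
            subst hy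
            exact (Subgroup.mem_centralizer_iff.mp hcC l hl).symm
          · rw [Subgroup.zpowers_le, Subgroup.mem_centralizer_iff]
            intro y hy
            rw [Set.mem_singleton_iff] at hy
            rw [hy]
        change (c : G) ∈ Subgroup.centralizer (M : Set G)
        rw [Subgroup.mem_centralizer_iff]
        intro m hm
        have := Subgroup.mem_centralizer_iff.mp (hle hm) c rfl
        exact this.symm
      exact le_relStep hAc hAH (hXH.trans hAn) hcA
  obtain ⟨n, hn⟩ := Group.IsNilpotent.nilpotent ↥H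
  rintro c ⟨hcH, hcC⟩
  exact key n ⟨c, hcH⟩ (by rw [hn]; trivial) hcC

/-- `C_H(L_{n+1}(H)) ≤ L_{n+1}(H)` for nilpotent `H` -/
theorem inf_centralizer_relSeq_le (H : Subgroup G) [Group.IsNilpotent ↥H] (n : ℕ) :
    H ⊓ Subgroup.centralizer (relSeq H (n + 1) : Set G) ≤ relSeq H (n + 1) :=
  inf_centralizer_relStep_le (relSeq_le H n)
    (Subgroup.le_normalizer.trans (normalizer_le_normalizer_relSeq H n))

end Cfsg.Agent.Lib.Helper4.Puig
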