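import Mathlib
import Cfsg.Prelude.Def_OddOrderLocal
import Cfsg.Agent.Lib.Helper4.Puig
import Cfsg.Agent.Lib.Helper4.OddSolv

/-!
# Puig subgroups in solvable groups of odd order (B&G Appendix B)
-/

set_option autoImplicit false

namespace Cfsg.Agent.Lib.Helper4.PuigOdd

open Cfsg Cfsg.Agent.Lib.Helper4.Puig
open scoped commutatorElement

variable {G : Type*} [Group G] [Finite G] [Group.IsSolvable G]

/-- B&G Lemma B.2 -/
theorem relStep_le_relStep_pCore (hodd : Odd (Nat.card G)) (p : ℕ) [Fact p.Prime] (hp : p ≠ 2)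
    (hO : pPrimeCore p G = ⊥) (S : Sylow p G) {D E : Subgroup G} (hDE : D ≤ E)
    (hES : E ≤ (S : Subgroup G)) [hDn : D.Normal]
    (hDc : pCore p G ⊓ Subgroup.centralizer (D : Set G) ≤ D) :
    relStep (S : Subgroup G) E ≤ relStep (pCore p G) D := by
  apply sSup_le
  rintro A ⟨hA, hAS, hAE⟩
  have hDp : IsPGroup p D := S.2.to_le (hDE.trans hES)
  have hAT : A ≤ pCore p G := by
    have := Cfsg.Agent.Lib.Helper4.OddSolv.sSup_le_pCore hodd p hp D hDp {A} (by
      intro B hB
      rw [Set.mem_singleton_iff] at hB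
      subst hB
      exact ⟨hA, hDE.trans hAE⟩) hO hDc
    rwa [sSup_singleton] at this
  exact le_relStep hA hAT (hDE.trans hAE)

theorem relSeq_sylow_pCore (hodd : Odd (Nat.card G)) (p : ℕ) [Fact p.Prime] (hp : p ≠ 2)
    (hO : pPrimeCore p G = ⊥) (S : Sylow p G) (n : ℕ) :
    relSeq (S : Subgroup G) (2 * n) ≤ relSeq (pCore p G) (2 * n) ∧
      relSeq (pCore p G) (2 * n + 1) ≤ relSeq (S : Subgroup G) (2 * n + 1) := by
  have hTS : pCore p G ≤ (S : Subgroup G) := Cfsg.Agent.Lib.Helper7.pCore_le_sylow S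
  haveI hTn : (pCore p G).Normal := Cfsg.Agent.H9.pCore_normal p G
  haveI hTnil : Group.IsNilpotent ↥(pCore p G) :=
    (Cfsg.Agent.H9.pCore_isPGroup p G).isNilpotent
  induction n with
  | zero => exact ⟨bot_le, relStep_mono hTS _⟩
  | succ n ih =>
    haveI : (relSeq (pCore p G) (2 * n + 1)).Normal := relSeq_normal _ _
    have h1 : relSeq (S : Subgroup G) (2 * (n + 1)) ≤ relSeq (pCore p G) (2 * (n + 1)) := by
      change relStep (S : Subgroup G) (relSeq (S : Subgroup G) (2 * n + 1)) ≤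
        relStep (pCore p G) (relSeq (pCore p G) (2 * n + 1))
      exact relStep_le_relStep_pCore hodd p hp hO S ih.2 (relSeq_le _ _)
        (inf_centralizer_relSeq_le (pCore p G) (2 * n))
    refine ⟨h1, ?_⟩
    change relStep (pCore p G) (relSeq (pCore p G) (2 * (n + 1))) ≤
      relStep (S : Subgroup G) (relSeq (S : Subgroup G) (2 * (n + 1)))
    exact (relStep_mono hTS _).trans (relStep_anti _ h1)

/-- S1468 in relative form -/
theorem relLower_relUpper_sylow_pCore (hodd : Odd (Nat.card G)) (p : ℕ) [Fact p.Prime] (hp : p ≠ 2)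
    (hO : pPrimeCore p G = ⊥) (S : Sylow p G) :
    relLower (S : Subgroup G) ≤ relLower (pCore p G) ∧
      relLower (pCore p G) ≤ relUpper (pCore p G) ∧
      relUpper (pCore p G) ≤ relUpper (S : Subgroup G) :=
  ⟨iSup_mono fun n => (relSeq_sylow_pCore hodd p hp hO S n).1, relLower_le_relUpper _,
    iInf_mono fun n => (relSeq_sylow_pCore hodd p hp hO S n).2⟩

end Cfsg.Agent.Lib.Helper4.PuigOdd
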