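import Mathlib
import Cfsg.Prelude.Def_OddOrderLocal
import Cfsg.Agent.Lib.Helper4.Puig
import Cfsg.Agent.Lib.Helper4.PuigOdd
import Cfsg.Agent.Lib.Helper4.OddSolv
import Cfsg.Agent.Lib.Helper7.SylowLib
import Cfsg.Agent.Lib.Lead.PiCore

/-!
# The centre of the Puig subgroup in solvable groups of odd order (B&G Theorem B.4)
-/

set_option autoImplicit false

namespace Cfsg.Agent.Lib.Helper4.PuigCenter

open Cfsg Cfsg.Agent.Lib.Helper4.Puig Cfsg.Agent.Lib.Helper4.PuigOdd
open scoped commutatorElement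

variable {G : Type*} [Group G] [Finite G] [Group.IsSolvable G]

/-! ### auxiliary facts -/

omit [Finite G] [Group.IsSolvable G] in
theorem normalizer_le_normalizer_inf_centralizer (K : Subgroup G) :
    Subgroup.normalizer (K : Set G) ≤
      Subgroup.normalizer ((K ⊓ Subgroup.centralizer (K : Set G) : Subgroup G) : Set G) := by
  apply le_normalizer_of_conj_mem
  intro x hx a ha
  have hx' : x⁻¹ ∈ Subgroup.normalizer (K : Set G) := Subgroup.inv_mem _ hx
  refine ⟨conj_mem_of_mem_normalizer hx ha.1, ?_⟩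
  change x * a * x⁻¹ ∈ Subgroup.centralizer (K : Set G)
  rw [Subgroup.mem_centralizer_iff]
  intro m hm
  have hm' : x⁻¹ * m * x ∈ K := by
    have := conj_mem_of_mem_normalizer hx' hm
    simpa using this
  have := Subgroup.mem_centralizer_iff.mp ha.2 _ hm'
  calc m * (x * a * x⁻¹) = x * ((x⁻¹ * m * x) * a) * x⁻¹ := by group
    _ = x * (a * (x⁻¹ * m * x)) * x⁻¹ := by rw [this]
    _ = x * a * x⁻¹ * m := by group

omit [Finite G] [Group.IsSolvable G] in
theorem isMulCommutative_inf_centralizer (K : Subgroup G) :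
    IsMulCommutative ↥(K ⊓ Subgroup.centralizer (K : Set G)) := by
  refine ⟨⟨fun a b => ?_⟩⟩
  apply Subtype.ext
  have := Subgroup.mem_centralizer_iff.mp a.2.2 b.1 b.2.1
  exact this.symm

omit [Group.IsSolvable G] in
/-- Frattini argument for `S ⊓ M` -/
theorem normalizer_sylow_inf_sup_eq_top {p : ℕ} [Fact p.Prime] (S : Sylow p G) (M : Subgroup G)
    [M.Normal] :
    Subgroup.normalizer (((S : Subgroup G) ⊓ M : Subgroup G) : Set G) ⊔ M = ⊤ := by
  have h1 : Cfsg.Agent.Lib.Helper7.IsSylowIn p ((S : Subgroup G) ⊓ M) M :=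
    (Cfsg.Agent.Lib.Helper7.IsSylowIn.of_sylow_top S).inf_normal M le_top
      (by rw [Subgroup.normalizer_eq_top])
  obtain ⟨R, hR⟩ := h1.exists_sylow
  have := Sylow.normalizer_sup_eq_top R
  rw [hR, Subgroup.subgroupOf_map_subtype, inf_eq_left.mpr inf_le_right] at this
  exact this

omit [Group.IsSolvable G] in
/-- if `C/K` is a normal `p`-subgroup of `G/K` then `C = K (S ∩ C)` -/
theorem le_sup_sylow_inf {p : ℕ} [Fact p.Prime] (S : Sylow p G) (K : Subgroup G) [K.Normal]
    (Q : Subgroup (G ⧸ K)) [Q.Normal] (hQ : IsPGroup p Q) :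
    Q.comap (QuotientGroup.mk' K) ≤ K ⊔ ((S : Subgroup G) ⊓ Q.comap (QuotientGroup.mk' K)) := by
  set C := Q.comap (QuotientGroup.mk' K) with hC
  haveI : C.Normal := Subgroup.Normal.comap inferInstance _
  have h1 : Cfsg.Agent.Lib.Helper7.IsSylowIn p ((S : Subgroup G) ⊓ C) C :=
    (Cfsg.Agent.Lib.Helper7.IsSylowIn.of_sylow_top S).inf_normal C le_top
      (by rw [Subgroup.normalizer_eq_top])
  obtain ⟨R, hR⟩ := h1.exists_sylow
  let φ : ↥C →* ↥Q := ((QuotientGroup.mk' K).comp C.subtype).codRestrict Q (fun c => c.2)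
  have hφ : Function.Surjective φ := by
    rintro ⟨q, hq⟩
    obtain ⟨g, rfl⟩ := QuotientGroup.mk'_surjective K q
    exact ⟨⟨g, hq⟩, rfl⟩
  have hR' : ((R.mapSurjective hφ : Sylow p ↥Q) : Subgroup ↥Q) = ⊤ :=
    ((R.mapSurjective hφ).is_maximal' (hQ.to_subgroup ⊤) le_top).symm
  intro c hc
  have hmem : φ ⟨c, hc⟩ ∈ ((R.mapSurjective hφ : Sylow p ↥Q) : Subgroup ↥Q) := by
    rw [hR']; trivial
  rw [Sylow.coe_mapSurjective] at hmem
  obtain ⟨d, hd, hdc⟩ := hmem
  have hdD : (d : G) ∈ (S : Subgroup G) ⊓ C := by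
    have hd' : d ∈ (R : Subgroup ↥C) := hd
    rw [hR] at hd'
    exact Subgroup.mem_subgroupOf.mp hd'
  have heq : (QuotientGroup.mk' K) (d : G) = (QuotientGroup.mk' K) c := congrArg Subtype.val hdc
  have hk : (d : G)⁻¹ * c ∈ K := QuotientGroup.eq.mp heq
  have e : c = (d : G) * ((d : G)⁻¹ * c) := by group
  rw [e, sup_comm]
  exact Subgroup.mul_mem_sup hdD hk


/-- B&G Theorem B.4 (second part): if `O_{p'}(G) = 1` then `Z(L(S))` is normal in `G`. -/
theorem center_relUpper_normal (hodd : Odd (Nat.card G)) (p : ℕ) [Fact p.Prime] (hp : p ≠ 2)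
    (hO : pPrimeCore p G = ⊥) (S : Sylow p G) :
    (relUpper (S : Subgroup G) ⊓
      Subgroup.centralizer (relUpper (S : Subgroup G) : Set G)).Normal := by
  set T := pCore p G with hT
  set LS := relUpper (S : Subgroup G) with hLS
  set LT := relUpper T with hLT
  set Z := LS ⊓ Subgroup.centralizer (LS : Set G) with hZ
  set ZT := LT ⊓ Subgroup.centralizer (LT : Set G) with hZT
  have hTS : T ≤ (S : Subgroup G) := Cfsg.Agent.Lib.Helper7.pCore_le_sylow S
  haveI hTn : T.Normal := Cfsg.Agent.H9.pCore_normal p G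
  obtain ⟨h1, h2, h3⟩ := relLower_relUpper_sylow_pCore hodd p hp hO S
  have hLSS : LS ≤ (S : Subgroup G) := relUpper_le _
  -- `S` normalizes `Z`
  have hSNLS : (S : Subgroup G) ≤ Subgroup.normalizer (LS : Set G) :=
    Subgroup.le_normalizer.trans (normalizer_le_normalizer_relUpper _)
  have hSNZ : (S : Subgroup G) ≤ Subgroup.normalizer (Z : Set G) :=
    hSNLS.trans (normalizer_le_normalizer_inf_centralizer LS)
  -- `Z ≤ ZT`
  have hZ2 : Z ≤ relSeq (S : Subgroup G) 2 :=
    le_relSeq_succ (isMulCommutative_inf_centralizer LS) (inf_le_left.trans hLSS) hSNZ 1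
  have hZLT : Z ≤ LT :=
    hZ2.trans ((relSeq_even_le_relLower (S : Subgroup G) 1).trans (h1.trans h2))
  have hZZT : Z ≤ ZT := by
    refine le_inf hZLT ?_
    exact inf_le_right.trans (Subgroup.centralizer_le h3)
  -- `ZT` is a normal abelian `p`-subgroup
  haveI hLTn : LT.Normal := relUpper_normal T
  haveI hCLTn : (Subgroup.centralizer (LT : Set G)).Normal := Subgroup.normal_centralizer
  haveI hZTn : ZT.Normal := Subgroup.normal_inf_normal _ _
  have hZTS : ZT ≤ (S : Subgroup G) := inf_le_left.trans ((relUpper_le T).trans hTS)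
  have hZTp : IsPGroup p ZT := S.2.to_le hZTS
  have hZT2 : ZT ≤ relSeq (S : Subgroup G) 2 :=
    le_relSeq_succ (isMulCommutative_inf_centralizer LT) hZTS
      (by rw [Subgroup.normalizer_eq_top]; exact le_top) 1
  -- the subgroup `C`
  set K := Subgroup.centralizer (ZT : Set G) with hK
  haveI hKn : K.Normal := Subgroup.normal_centralizer
  have hstab := Cfsg.Agent.Lib.Helper4.OddSolv.map_sSup_le_pCore hodd p hp ZT hZTp
    {A : Subgroup G | IsMulCommutative A ∧ A ≤ (S : Subgroup G) ∧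
      relSeq (S : Subgroup G) 2 ≤ Subgroup.normalizer (A : Set G)}
    (fun B hB => ⟨hB.1, hZT2.trans hB.2.2⟩)
  set C := (pCore p (G ⧸ K)).comap (QuotientGroup.mk' K) with hC
  haveI hQn : (pCore p (G ⧸ K)).Normal := Cfsg.Agent.H9.pCore_normal p (G ⧸ K)
  haveI hCn : C.Normal := Subgroup.Normal.comap inferInstance _
  have hLSC : LS ≤ C := by
    have h3' : LS ≤ relSeq (S : Subgroup G) 3 := relUpper_le_relSeq_odd (S : Subgroup G) 1
    rw [Subgroup.map_le_iff_le_comap] at hstab
    exact h3'.trans hstab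
  -- `D = S ⊓ C`
  set D := (S : Subgroup G) ⊓ C with hD
  have hfrat : Subgroup.normalizer (D : Set G) ⊔ C = ⊤ := normalizer_sylow_inf_sup_eq_top S C
  have hCKD : C ≤ K ⊔ D :=
    le_sup_sylow_inf S K (pCore p (G ⧸ K)) (Cfsg.Agent.H9.pCore_isPGroup p (G ⧸ K))
  have hLD : relUpper D = LS := relUpper_eq_of_le inf_le_left (le_inf hLSS hLSC)
  have hND : Subgroup.normalizer (D : Set G) ≤ Subgroup.normalizer (Z : Set G) := by
    refine (normalizer_le_normalizer_relUpper D).trans ?_
    rw [hLD]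
    exact normalizer_le_normalizer_inf_centralizer LS
  have hKN : K ≤ Subgroup.normalizer (Z : Set G) :=
    (Subgroup.centralizer_le hZZT).trans (Subgroup.centralizer_le_normalizer _)
  have hDN : D ≤ Subgroup.normalizer (Z : Set G) := inf_le_left.trans hSNZ
  rw [← Subgroup.normalizer_eq_top_iff, eq_top_iff, ← hfrat]
  exact sup_le hND (hCKD.trans (sup_le hKN hDN))



omit [Group.IsSolvable G] in
theorem exists_forall_relUpper_eq (H : Subgroup G) :
    ∃ n, ∀ m, n ≤ m → relUpper H = relSeq H (2 * m + 1) := by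
  obtain ⟨n, hn⟩ := exists_stable H
  obtain ⟨n', -, h2, -⟩ := exists_eq H
  refine ⟨max n n', fun m hm => ?_⟩
  have hnm : n ≤ m := (le_max_left n n').trans hm
  have hn'm : n' ≤ m := (le_max_right n n').trans hm
  apply le_antisymm
  · exact relUpper_le_relSeq_odd H m
  · rw [h2]
    exact relSeq_odd_anti H hn'm

/-- B&G Theorem B.4 (first part): `G = O_{p'}(G) N_G(Z(L(S)))`. -/
theorem pPrimeCore_sup_normalizer_eq_top (hodd : Odd (Nat.card G)) (p : ℕ) [hp' : Fact p.Prime]
    (hp : p ≠ 2) (S : Sylow p G) :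
    pPrimeCore p G ⊔ Subgroup.normalizer ((relUpper (S : Subgroup G) ⊓
      Subgroup.centralizer (relUpper (S : Subgroup G) : Set G) : Subgroup G) : Set G) = ⊤ := by
  set N := pPrimeCore p G with hN
  set π := QuotientGroup.mk' N with hπ
  have hπs : Function.Surjective π := QuotientGroup.mk'_surjective N
  set LS := relUpper (S : Subgroup G) with hLS
  set Z := LS ⊓ Subgroup.centralizer (LS : Set G) with hZ
  have hLSS : LS ≤ (S : Subgroup G) := relUpper_le _
  have hSN : (S : Subgroup G) ⊓ N = ⊥ := by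
    apply Subgroup.inf_eq_bot_of_coprime
    obtain ⟨k, hk⟩ := IsPGroup.iff_card.mp S.2
    rw [hk]
    exact Nat.Coprime.pow_left k (Cfsg.Agent.Lib.Lead.PiCore.pPrimeCore_coprime hp'.out).symm
  have hinj : Set.InjOn π (S : Subgroup G) := by
    intro a ha b hb hab
    have h1 : a⁻¹ * b ∈ N := QuotientGroup.eq.mp hab
    have h2 : a⁻¹ * b ∈ (S : Subgroup G) ⊓ N :=
      ⟨(S : Subgroup G).mul_mem ((S : Subgroup G).inv_mem ha) hb, h1⟩
    rw [hSN, Subgroup.mem_bot] at h2
    exact (inv_mul_eq_one.mp h2)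
  have hoddq : Odd (Nat.card (G ⧸ N)) :=
    Odd.of_dvd_nat hodd (Subgroup.card_quotient_dvd_card N)
  have hbot : pPrimeCore p (G ⧸ N) = ⊥ :=
    Cfsg.Agent.Lib.Lead.PiCore.pPrimeCore_quotient_eq_bot hp'.out
  let Sbar : Sylow p (G ⧸ N) := S.mapSurjective hπs
  have hSbar : (Sbar : Subgroup (G ⧸ N)) = (S : Subgroup G).map π := rfl
  -- the Puig subgroup of the image
  have hup : relUpper ((S : Subgroup G).map π) = LS.map π := by
    obtain ⟨n1, h1⟩ := exists_forall_relUpper_eq (S : Subgroup G)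
    obtain ⟨n2, h2⟩ := exists_forall_relUpper_eq ((S : Subgroup G).map π)
    rw [h2 (max n1 n2) (le_max_right _ _), hLS, h1 (max n1 n2) (le_max_left _ _)]
    exact (map_relSeq π (S : Subgroup G) hinj _).symm
  have hZbar : relUpper ((S : Subgroup G).map π) ⊓
      Subgroup.centralizer (relUpper ((S : Subgroup G).map π) : Set (G ⧸ N)) = Z.map π := by
    rw [hup]
    ext x
    constructor
    · rintro ⟨⟨y, hy, rfl⟩, hxC⟩
      refine ⟨y, ⟨hy, ?_⟩, rfl⟩
      change y ∈ Subgroup.centralizer (LS : Set G)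
      rw [Subgroup.mem_centralizer_iff]
      intro l hl
      have hc : π y ∈ Subgroup.centralizer ((LS.map π : Subgroup (G ⧸ N)) : Set (G ⧸ N)) := hxC
      have := Subgroup.mem_centralizer_iff.mp hc (π l) (Subgroup.mem_map_of_mem π hl)
      rw [← map_mul, ← map_mul] at this
      exact hinj ((S : Subgroup G).mul_mem (hLSS hl) (hLSS hy))
        ((S : Subgroup G).mul_mem (hLSS hy) (hLSS hl)) this
    · rintro ⟨z, hz, rfl⟩
      refine ⟨Subgroup.mem_map_of_mem π hz.1, ?_⟩
      change π z ∈ Subgroup.centralizer ((LS.map π : Subgroup (G ⧸ N)) : Set (G ⧸ N))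
      rw [Subgroup.mem_centralizer_iff]
      rintro _ ⟨l, hl, rfl⟩
      have := Subgroup.mem_centralizer_iff.mp hz.2 l hl
      rw [← map_mul, ← map_mul, this]
  have hnorm : (Z.map π).Normal := by
    have := center_relUpper_normal hoddq p hp hbot Sbar
    rw [hSbar, hZbar] at this
    exact this
  -- `M = Z N`
  set M := (Z.map π).comap π with hM
  haveI hMn : M.Normal := Subgroup.Normal.comap hnorm _
  have hMeq : M = Z ⊔ N := by
    rw [hM, Subgroup.comap_map_eq, hπ, QuotientGroup.ker_mk']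
  have hSM : (S : Subgroup G) ⊓ M = Z := by
    apply le_antisymm
    · rintro x ⟨hxS, hxM⟩
      rw [hMeq] at hxM
      obtain ⟨z, hz, n, hn, rfl⟩ := (Subgroup.mem_sup_of_normal_right).mp hxM
      have hzS : z ∈ (S : Subgroup G) := hLSS hz.1
      have hnS : n ∈ (S : Subgroup G) := by
        have e : n = z⁻¹ * (z * n) := by group
        rw [e]
        exact (S : Subgroup G).mul_mem ((S : Subgroup G).inv_mem hzS) hxS
      have : n ∈ (S : Subgroup G) ⊓ N := ⟨hnS, hn⟩
      rw [hSN, Subgroup.mem_bot] at this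
      rw [this, mul_one]
      exact hz
    · refine le_inf (inf_le_left.trans hLSS) ?_
      rw [hMeq]
      exact le_sup_left
  have hfrat := normalizer_sylow_inf_sup_eq_top S M
  rw [hSM, hMeq] at hfrat
  rw [eq_top_iff, ← hfrat]
  refine sup_le le_sup_right (sup_le ?_ le_sup_left)
  exact Subgroup.le_normalizer.trans le_sup_right

omit [Finite G] [Group.IsSolvable G] in
/-- the centre of a subgroup of a subgroup, viewed inside `G` -/
theorem map_map_center (S : Subgroup G) (K' : Subgroup ↥S) :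
    ((Subgroup.center ↥K').map K'.subtype).map S.subtype =
      K'.map S.subtype ⊓ Subgroup.centralizer ((K'.map S.subtype : Subgroup G) : Set G) := by
  ext x
  constructor
  · rintro ⟨_, ⟨z, hz, rfl⟩, rfl⟩
    refine ⟨⟨(z : ↥S), z.2, rfl⟩, ?_⟩
    change ((z : ↥S) : G) ∈ Subgroup.centralizer ((K'.map S.subtype : Subgroup G) : Set G)
    rw [Subgroup.mem_centralizer_iff]
    rintro _ ⟨k, hk, rfl⟩
    have := Subgroup.mem_center_iff.mp hz ⟨k, hk⟩
    have := congrArg (fun w : ↥K' => ((w : ↥S) : G)) this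
    exact this
  · rintro ⟨⟨k, hk, rfl⟩, hxC⟩
    refine ⟨k, ⟨⟨k, hk⟩, ?_, rfl⟩, rfl⟩
    change (⟨k, hk⟩ : ↥K') ∈ Subgroup.center ↥K'
    rw [Subgroup.mem_center_iff]
    intro g
    apply Subtype.ext
    apply Subtype.ext
    have hc : (k : G) ∈ Subgroup.centralizer ((K'.map S.subtype : Subgroup G) : Set G) := hxC
    exact Subgroup.mem_centralizer_iff.mp hc ((g : ↥S) : G) ⟨(g : ↥S), g.2, rfl⟩

end Cfsg.Agent.Lib.Helper4.PuigCenter
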