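import Mathlib
import Cfsg.Agent.Lib.Helper4.BGUniqD
import Cfsg.Agent.H2.CyclicSylowStructure
import Cfsg.Agent.Lib.Lead.PGroup

/-!
Bender–Glauberman Section 10, consequences of the Uniqueness Theorem (conditional), helper4.
Lemmas 10.? : primes outside `σ(M)` of rank two (S1408, S1409).
-/

set_option autoImplicit false

namespace Cfsg.Agent.Lib.Helper4.BGUniq

variable {G : Type*} [Group G]

/-- the statement of the Uniqueness Theorem 9.6 -/
def UniqThm (G : Type*) [Group G] : Prop :=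
  ∀ K : Subgroup G, K ≠ ⊤ → ¬ Cfsg.RankLE 1 ↥K →
    (¬ Cfsg.RankLE 2 ↥K ∨ ¬ Cfsg.RankLE 2 ↥(Subgroup.centralizer (K : Set G))) →
    Cfsg.InUniqueMaximal K

theorem normalizer_ne_top (hG : Cfsg.IsMinSimpleOddOrder G) {X : Subgroup G} (hX : X ≠ ⊥)
    (hX' : X ≠ ⊤) : Subgroup.normalizer (X : Set G) ≠ ⊤ := by
  intro h
  haveI := hG.2.1
  have hn : X.Normal := Subgroup.normalizer_eq_top_iff.1 h
  rcases hn.eq_bot_or_eq_top with h1 | h1
  · exact hX h1
  · exact hX' h1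

theorem ne_top_of_le_coatom {M X : Subgroup G} (hM : IsCoatom M) (hXM : X ≤ M) : X ≠ ⊤ := by
  rintro rfl
  exact hM.1 (top_le_iff.1 hXM)

/-- elementary abelian subgroups of prescribed order between `X` and `W` -/
theorem exists_card_pow [Finite G] {p : ℕ} [hp : Fact p.Prime] {W X : Subgroup G}
    (hW : Cfsg.IsElementaryAbelian p W) (hXW : X ≤ W) {n m : ℕ} (hX : Nat.card ↥X = p ^ n)
    (hnm : n ≤ m) (hcard : p ^ m ≤ Nat.card ↥W) :
    ∃ A : Subgroup G, Cfsg.IsElementaryAbelian p A ∧ Nat.card ↥A = p ^ m ∧ X ≤ A ∧ A ≤ W := by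
  obtain ⟨k, hk⟩ := (isPGroup_of_isElementaryAbelian hW).exists_card_eq
  have hmk : m ≤ k := by
    rw [hk] at hcard
    exact (Nat.pow_le_pow_iff_right hp.out.one_lt).1 hcard
  have hdvd : p ^ m ∣ Nat.card ↥W := by rw [hk]; exact pow_dvd_pow p hmk
  obtain ⟨K, hKcard, hXK⟩ := Sylow.exists_subgroup_card_pow_prime_le p hdvd (X.subgroupOf W)
    (by rw [Nat.card_congr (Subgroup.subgroupOfEquivOfLe hXW).toEquiv]; exact hX) hnm
  refine ⟨K.map W.subtype, Cfsg.Agent.H2.RankTwoGraph.isElementaryAbelian_of_le hW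
    (Subgroup.map_subtype_le _), ?_, ?_, Subgroup.map_subtype_le _⟩
  · rw [Subgroup.card_map_of_injective W.subtype_injective, hKcard]
  · intro x hx
    exact ⟨⟨x, hXW hx⟩, hXK (Subgroup.mem_subgroupOf.2 hx), rfl⟩

/-- a subgroup of rank at most `k` bounds its elementary abelian subgroups -/
theorem card_le_of_pRankLE {p k : ℕ} {W C : Subgroup G} (h : Cfsg.PRankLE p k ↥C)
    (hW : Cfsg.IsElementaryAbelian p W) (hWC : W ≤ C) : Nat.card ↥W ≤ p ^ k := by
  by_contra hlt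
  push Not at hlt
  exact not_pRankLE_of_le hW hWC hlt h

/-- a Sylow subgroup of `M` lying in `U` puts its prime in `σ(M)` -/
theorem mem_sigma_of_inUniqueMaximal [Finite G] (hG : Cfsg.IsMinSimpleOddOrder G)
    {M : Subgroup G} (hM : IsCoatom M) {p : ℕ} [hp : Fact p.Prime] (P : Sylow p ↥M)
    (hP1 : (P : Subgroup ↥M).map M.subtype ≠ ⊥)
    (hPU : Cfsg.InUniqueMaximal ((P : Subgroup ↥M).map M.subtype)) : p ∈ Cfsg.sigma M := by
  have hPM : (P : Subgroup ↥M).map M.subtype ≤ M := Subgroup.map_subtype_le _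
  refine ⟨hp.out, ?_, P, ?_⟩
  · have h1 : Nat.card ↥(P : Subgroup ↥M) ∣ Nat.card ↥M := Subgroup.card_subgroup_dvd_card _
    refine dvd_trans ?_ h1
    rcases P.isPGroup'.card_eq_or_dvd with h | h
    · exfalso
      apply hP1
      rw [Subgroup.card_eq_one.1 h, Subgroup.map_bot]
    · exact h
  · exact le_of_inUniqueMaximal_of_le hPU hM hPM Subgroup.le_normalizer
      (normalizer_ne_top hG hP1 (ne_top_of_le_coatom hM hPM))

/-- a `p`-subgroup of `M` lies in (the image of) a Sylow `p`-subgroup of `M` -/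
theorem exists_sylow_ge {M : Subgroup G} [Finite G] {p : ℕ} [Fact p.Prime] {X : Subgroup G}
    (hXp : IsPGroup p ↥X) (hXM : X ≤ M) :
    ∃ P : Sylow p ↥M, X ≤ (P : Subgroup ↥M).map M.subtype := by
  have h1 : IsPGroup p ↥(X.subgroupOf M) :=
    hXp.of_equiv (Subgroup.subgroupOfEquivOfLe hXM).symm
  obtain ⟨P, hP⟩ := h1.exists_le_sylow
  refine ⟨P, ?_⟩
  intro x hx
  exact ⟨⟨x, hXM hx⟩, hP (Subgroup.mem_subgroupOf.2 hx), rfl⟩

theorem lt_sq {p : ℕ} (hp : p.Prime) : p < p ^ 2 := by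
  calc p = p ^ 1 := (pow_one p).symm
    _ < p ^ 2 := Nat.pow_lt_pow_right hp.one_lt (by norm_num)

/-- (S1408, second part) -/
theorem tau2_maximal [Finite G] (hG : Cfsg.IsMinSimpleOddOrder G) (hU : UniqThm G)
    (M : Subgroup G) (hM : IsCoatom M) (p : ℕ) [hp : Fact p.Prime] (hpσ : p ∉ Cfsg.sigma M)
    (A : Subgroup G) (hAM : A ≤ M) (hAel : Cfsg.IsElementaryAbelian p A)
    (hAcard : Nat.card ↥A = p ^ 2) (B : Subgroup G) (hBel : Cfsg.IsElementaryAbelian p B)
    (hAB : A ≤ B) : B = A := by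
  by_contra hne
  have hpp := lt_sq hp.out
  have h1p : 1 < p := hp.out.one_lt
  have hBcard : p ^ 2 < Nat.card ↥B := by
    by_contra hle
    push Not at hle
    exact hne (Subgroup.eq_of_le_of_card_ge hAB (by rw [hAcard]; exact hle)).symm
  have hAU : Cfsg.InUniqueMaximal A := by
    apply hU A (ne_top_of_le_coatom hM hAM)
    · exact not_rankLE_one_of_le hp.out hAel le_rfl (by omega)
    · right
      intro h
      apply not_pRankLE_of_le hBel _ hBcard (h p hp.out)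
      intro b hb
      rw [Subgroup.mem_centralizer_iff]
      intro a ha
      exact Cfsg.Agent.H2.RankTwoGraph.comm_of_isElementaryAbelian hBel (hAB ha) hb
  obtain ⟨P, hAP⟩ := exists_sylow_ge (isPGroup_of_isElementaryAbelian hAel) hAM
  have hPM : (P : Subgroup ↥M).map M.subtype ≤ M := Subgroup.map_subtype_le _
  have hP1 : (P : Subgroup ↥M).map M.subtype ≠ ⊥ := by
    intro h
    rw [h, le_bot_iff] at hAP
    rw [hAP, Subgroup.card_bot] at hAcard
    omega
  exact hpσ (mem_sigma_of_inUniqueMaximal hG hM P hP1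
    (inUniqueMaximal_mono hAU hAP (ne_top_of_le_coatom hM hPM)))

/-- (S1408, first part) -/
theorem tau2_not_ideal [Finite G] (hG : Cfsg.IsMinSimpleOddOrder G) (hU : UniqThm G)
    (M : Subgroup G) (hM : IsCoatom M) (p : ℕ) [hp : Fact p.Prime] (hpσ : p ∉ Cfsg.sigma M)
    (hr2 : Cfsg.PRankLE p 2 ↥M) (hr1 : ¬ Cfsg.PRankLE p 1 ↥M) : ¬ Cfsg.IsIdealPrime p G := by
  rintro ⟨-, -, hid⟩
  obtain ⟨W, hWel, hWM, hWcard⟩ := exists_of_not_pRankLE hr1
  have hW2 : Nat.card ↥W ≤ p ^ 2 := card_le_of_pRankLE hr2 hWel hWM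
  have hW2' : p ^ 2 ≤ Nat.card ↥W := pow_succ_le_card (isPGroup_of_isElementaryAbelian hWel) hWcard
  have hWc : Nat.card ↥W = p ^ 2 := le_antisymm hW2 hW2'
  obtain ⟨S, hWS⟩ := (isPGroup_of_isElementaryAbelian hWel).exists_le_sylow
  obtain ⟨B, -, hBel, hWB⟩ := hid S W hWS hWel hWc
  have := tau2_maximal hG hU M hM p hpσ W hWM hWel hWc B hBel hWB.le
  rw [this] at hWB
  exact lt_irrefl _ hWB

end Cfsg.Agent.Lib.Helper4.BGUniq
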