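import Mathlib
import Cfsg.Agent.Lib.Helper4.BGUniqE

/-!
Bender–Glauberman Section 10 (S1409), conditional on the Uniqueness Theorem, helper4.
-/

set_option autoImplicit false

namespace Cfsg.Agent.Lib.Helper4.BGUniq

variable {G : Type*} [Group G]

/-- subgroups of equal order of a cyclic `p`-subgroup are equal -/
theorem eq_of_card_eq_of_le_cyclic [Finite G] {p : ℕ} [Fact p.Prime] {D X Y : Subgroup G}
    (hD : IsPGroup p ↥D) (hc : IsCyclic ↥D) (hX : X ≤ D) (hY : Y ≤ D)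
    (h : Nat.card ↥X = Nat.card ↥Y) : X = Y := by
  rcases Cfsg.Agent.H2.CycSyl.le_or_le_of_cyclic_pgroup hD (X.subgroupOf D) (Y.subgroupOf D)
    with h1 | h1
  · apply Subgroup.eq_of_le_of_card_ge _ h.ge
    intro x hx
    exact h1 (show (⟨x, hX hx⟩ : ↥D) ∈ X.subgroupOf D from hx)
  · symm
    apply Subgroup.eq_of_le_of_card_ge _ h.le
    intro x hx
    exact h1 (show (⟨x, hY hx⟩ : ↥D) ∈ Y.subgroupOf D from hx)

/-- a subgroup of prime order is elementary abelian -/
theorem isElementaryAbelian_of_card_prime {p : ℕ} [hp : Fact p.Prime] {X : Subgroup G}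
    (hX : Nat.card ↥X = p) : Cfsg.IsElementaryAbelian p X := by
  haveI : IsCyclic ↥X := isCyclic_of_prime_card hX
  refine ⟨⟨⟨fun a b => ?_⟩⟩, ?_⟩
  · exact IsCyclic.commGroup.mul_comm a b
  · intro a ha
    have : (⟨a, ha⟩ : ↥X) ^ Nat.card ↥X = 1 := pow_card_eq_one'
    rw [hX] at this
    exact congrArg Subtype.val this

theorem isElementaryAbelian_zpowers {p : ℕ} {z : G} (hz : z ^ p = 1) :
    Cfsg.IsElementaryAbelian p (Subgroup.zpowers z) := by
  refine ⟨⟨⟨fun a b => ?_⟩⟩, ?_⟩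
  · obtain ⟨a, ⟨m, rfl⟩⟩ := a
    obtain ⟨b, ⟨n, rfl⟩⟩ := b
    apply Subtype.ext
    show z ^ m * z ^ n = z ^ n * z ^ m
    rw [← zpow_add, ← zpow_add, add_comm]
  · rintro _ ⟨m, rfl⟩
    rw [← zpow_natCast, ← zpow_mul, mul_comm, zpow_mul, zpow_natCast, hz, one_zpow]

/-- (S1409) -/
theorem tau2_of_normalizer_le [Finite G] (hG : Cfsg.IsMinSimpleOddOrder G) (hU : UniqThm G)
    (M : Subgroup G) (hM : IsCoatom M) (p : ℕ) [hp : Fact p.Prime] (hpσ : p ∉ Cfsg.sigma M)
    (X : Subgroup G) (hX : Nat.card ↥X = p) (hNX : Subgroup.normalizer (X : Set G) ≤ M) :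
    (Cfsg.PRankLE p 2 ↥M ∧ ¬ Cfsg.PRankLE p 1 ↥M) ∧ ¬ Cfsg.IsIdealPrime p G ∧
      ∃ A : Subgroup G, Cfsg.IsElementaryAbelian p A ∧ Nat.card ↥A = p ^ 2 ∧ X ≤ A := by
  have hpp := lt_sq hp.out
  have h1p : 1 < p := hp.out.one_lt
  have hXM : X ≤ M := Subgroup.le_normalizer.trans hNX
  have hXp : IsPGroup p ↥X := IsPGroup.of_card (n := 1) (by rw [hX, pow_one])
  have hp2 : p ≠ 2 := prime_ne_two hG hXp (by omega)
  have hXel := isElementaryAbelian_of_card_prime hX
  -- rank at most two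
  have hr2 : Cfsg.PRankLE p 2 ↥M := by
    by_contra h
    obtain ⟨W, hWel, hWM, hWcard⟩ := exists_of_not_pRankLE h
    obtain ⟨P, hWP⟩ := exists_sylow_ge (isPGroup_of_isElementaryAbelian hWel) hWM
    have hPM : (P : Subgroup ↥M).map M.subtype ≤ M := Subgroup.map_subtype_le _
    have hPU : Cfsg.InUniqueMaximal ((P : Subgroup ↥M).map M.subtype) := by
      apply hU _ (ne_top_of_le_coatom hM hPM)
      · exact not_rankLE_one_of_le hp.out hWel hWP (by omega)
      · left
        intro h'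
        exact not_pRankLE_of_le hWel hWP hWcard (h' p hp.out)
    apply hpσ (mem_sigma_of_inUniqueMaximal hG hM P _ hPU)
    intro h'
    rw [h', le_bot_iff] at hWP
    rw [hWP, Subgroup.card_bot] at hWcard
    omega
  -- a Sylow subgroup of `M` containing `X`
  obtain ⟨P, hXP⟩ := exists_sylow_ge hXp hXM
  set PG : Subgroup G := (P : Subgroup ↥M).map M.subtype with hPG
  have hPM : PG ≤ M := Subgroup.map_subtype_le _
  have hPp : IsPGroup p ↥PG := P.isPGroup'.map _
  have hncyc : ¬ IsCyclic ↥PG := by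
    intro hc
    apply hpσ
    refine ⟨hp.out, ?_, P, le_trans ?_ hNX⟩
    · rw [← hX]; exact Subgroup.card_dvd_of_le hXM
    · intro g hg
      rw [Subgroup.mem_normalizer_iff_map_conj_eq] at hg ⊢
      rw [← hPG] at hg
      apply eq_of_card_eq_of_le_cyclic hPp hc _ hXP
      · rw [Subgroup.card_map_of_injective (MulAut.conj g).injective]
      · rw [← hg]
        exact Subgroup.map_mono hXP
  obtain ⟨Z', hZ'n, hZ'el, hZ'card⟩ := Cfsg.Agent.S0126.result hp2 hPp hncyc
  set Z : Subgroup G := Z'.map PG.subtype with hZ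
  have hZel : Cfsg.IsElementaryAbelian p Z := isElementaryAbelian_map _ hZ'el
  have hZcard : Nat.card ↥Z = p ^ 2 := by
    rw [hZ, Subgroup.card_map_of_injective PG.subtype_injective, hZ'card]
  have hZP : Z ≤ PG := Subgroup.map_subtype_le _
  have hr1 : ¬ Cfsg.PRankLE p 1 ↥M :=
    not_pRankLE_of_le hZel (hZP.trans hPM) (by rw [hZcard, pow_one]; exact hpp)
  refine ⟨⟨hr2, hr1⟩, tau2_not_ideal hG hU M hM p hpσ hr2 hr1, ?_⟩
  -- an element of order `p` of `Z` central in `PG`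
  have hZ'1 : Z' ≠ ⊥ := by
    intro h
    rw [h, Subgroup.card_bot] at hZ'card
    omega
  haveI := hZ'n
  have hne := Cfsg.Agent.Lib.Lead.PGroup.normal_inf_center_ne_bot hPp Z' hZ'1
  obtain ⟨z', hz', hz'1⟩ : ∃ z' ∈ Z' ⊓ Subgroup.center ↥PG, z' ≠ 1 := by
    by_contra hcon
    push Not at hcon
    apply hne
    rw [eq_bot_iff]
    intro x hx
    exact Subgroup.mem_bot.2 (hcon x hx)
  have hzZ : (z' : G) ∈ Z := ⟨z', hz'.1, rfl⟩
  have hz1 : (z' : G) ≠ 1 := fun h => hz'1 (Subtype.ext h)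
  have hzcomm : ∀ x ∈ PG, x * (z' : G) = (z' : G) * x := by
    intro x hx
    have := Subgroup.mem_center_iff.1 hz'.2 ⟨x, hx⟩
    exact congrArg Subtype.val this
  by_cases hzX : (z' : G) ∈ X
  · -- then `X ≤ Z`
    refine ⟨Z, hZel, hZcard, ?_⟩
    have h1 : Nat.card ↥(X ⊓ Z : Subgroup G) ∣ p := by
      rw [← hX]; exact Subgroup.card_dvd_of_le inf_le_left
    rcases (Nat.dvd_prime hp.out).1 h1 with h2 | h2
    · exfalso
      have h3 := Subgroup.card_eq_one.1 h2
      have : (z' : G) ∈ X ⊓ Z := ⟨hzX, hzZ⟩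
      rw [h3] at this
      exact hz1 (Subgroup.mem_bot.1 this)
    · have h3 : X ⊓ Z = X :=
        Subgroup.eq_of_le_of_card_ge inf_le_left (by rw [h2, hX])
      rw [← h3]
      exact inf_le_right
  · -- then `X ⊔ ⟨z⟩` has order `p^2`
    have hzp : (z' : G) ^ p = 1 := hZel.2 _ hzZ
    have hWel : Cfsg.IsElementaryAbelian p (X ⊔ Subgroup.zpowers (z' : G)) := by
      apply Cfsg.Agent.H2.RankTwoGraph.isElementaryAbelian_sup hXel
        (isElementaryAbelian_zpowers hzp)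
      rintro a ha _ ⟨m, rfl⟩
      have h1 : Commute a (z' : G) := hzcomm a (hXP ha)
      exact (h1.zpow_right m)
    have hWcard : p ^ 1 < Nat.card ↥(X ⊔ Subgroup.zpowers (z' : G) : Subgroup G) := by
      by_contra hle
      push Not at hle
      have h1 : X = X ⊔ Subgroup.zpowers (z' : G) :=
        Subgroup.eq_of_le_of_card_ge le_sup_left (by rw [hX]; simpa using hle)
      apply hzX
      rw [h1]
      exact le_sup_right (a := X) (Subgroup.mem_zpowers _)
    have hW2 := pow_succ_le_card (isPGroup_of_isElementaryAbelian hWel) hWcard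
    obtain ⟨A, hAel, hAcard, hXA, -⟩ := exists_card_pow hWel (le_sup_left : X ≤ _) (n := 1) (m := 2)
      (by rw [hX, pow_one]) (by norm_num) hW2
    exact ⟨A, hAel, hAcard, hXA⟩

end Cfsg.Agent.Lib.Helper4.BGUniq
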