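import Mathlib
import Cfsg.Prelude.Def_Local
import Cfsg.Prelude.Def_OddOrderLocal
import Cfsg.Agent.Lib.Helper4.Rank2Fit
import Cfsg.Agent.Lib.Helper4.NarrowData

/-!
# `G' ≤ F(G)` when the automizers of the `O_q(G)` have `q`-groups as derived groups
-/

set_option autoImplicit false

namespace Cfsg.Agent.Lib.Helper4.NarrowFit

open Cfsg Cfsg.Agent.Lib.Helper4.Rank2Aut Cfsg.Agent.Lib.Helper4.Rank2Aut2
open Cfsg.Agent.Lib.Helper4.Rank2Solv Cfsg.Agent.Lib.Helper4.Rank2Fit
open scoped commutatorElement

variable {G : Type*} [Group G] [Finite G]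

/-- the derived group of the automizer of `O_q(G)` is a `q`-group -/
def AutDer (q : ℕ) (G : Type*) [Group G] : Prop :=
  IsPGroup q (commutator ↥(MulAut.conjNormal : G →* MulAut ↥(pCore q G)).range)

theorem autDer_of_rank (hodd : Odd (Nat.card G)) {q : ℕ} [Fact q.Prime] (hq2 : q ≠ 2)
    (hr : PRankLE q 2 ↥(pCore q G)) : AutDer q G := by
  set c : G →* MulAut ↥(pCore q G) := MulAut.conjNormal with hc
  have hRp : IsPGroup q ↥(pCore q G) := Cfsg.Agent.H1.pCore_isPGroup q
  have hoddA : Odd (Nat.card c.range) := Odd.of_dvd_nat hodd (Subgroup.card_range_dvd c)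
  exact isPGroup_commutator hq2 hRp hr c.range hoddA

/-- for `g ∈ G'`, the action of `g` on `O_r(G)` has `r`-power order -/
theorem exists_pow_conj_eq_one' {r : ℕ} (hcore : AutDer r G) {g : G} (hg : g ∈ commutator G) :
    ∃ k : ℕ, (MulAut.conjNormal g : MulAut ↥(pCore r G)) ^ r ^ k = 1 := by
  set c : G →* MulAut ↥(pCore r G) := MulAut.conjNormal with hc
  have hmem : c.rangeRestrict g ∈ commutator ↥c.range :=
    map_commutator_le c.rangeRestrict (Subgroup.mem_map_of_mem _ hg)
  obtain ⟨k, hk⟩ := hcore ⟨_, hmem⟩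
  have h2 := congrArg (fun u : ↥(commutator ↥c.range) => ((u : ↥c.range) : MulAut ↥(pCore r G))) hk
  simp only [Subgroup.coe_pow, Subgroup.coe_one] at h2
  exact ⟨k, h2⟩

/-- a `q`-element of `G'` centralizes `O_r(G)` for `r ≠ q` -/
theorem mem_centralizer_pCore_of_ne' (hodd : Odd (Nat.card G)) {q r : ℕ} (hq : q.Prime)
    [hr' : Fact r.Prime] (hrq : r ≠ q) (hr : r ≠ 2 → AutDer r G) {g : G}
    (hg : g ∈ commutator G) {k : ℕ} (hk : g ^ q ^ k = 1) :
    g ∈ Subgroup.centralizer (pCore r G : Set G) := by
  by_cases hr2 : r = 2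
  · subst hr2
    rw [pCore_two_eq_bot hodd, Subgroup.mem_centralizer_iff]
    intro h hh
    rw [SetLike.mem_coe, Subgroup.mem_bot] at hh
    rw [hh, one_mul, mul_one]
  · obtain ⟨a, ha⟩ := exists_pow_conj_eq_one' (hr hr2) hg
    apply mem_centralizer_of_conjNormal_eq_one
    have h1 : (MulAut.conjNormal g : MulAut ↥(pCore r G)) ^ q ^ k = 1 := by
      rw [← map_pow, hk, map_one]
    refine eq_one_of_pow_pow_coprime ha h1 ?_
    exact Nat.Coprime.pow _ _ ((Nat.coprime_primes hr'.out hq).mpr hrq)

variable [Group.IsSolvable G]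

/-- `G' ≤ F(G)` as soon as all the automizers of the `O_q(G)` have `q`-groups as derived groups -/
theorem commutator_le_fitting' (hodd : Odd (Nat.card G))
    (hder : ∀ q : ℕ, q.Prime → q ≠ 2 → AutDer q G) :
    commutator G ≤ fittingSubgroup G := by
  classical
  set F := fittingSubgroup G with hF
  have key : ∀ q : ℕ, q.Prime → ∀ g ∈ commutator G, ∀ k : ℕ, g ^ q ^ k = 1 → g ∈ F := by
    intro q hq g hg k hk
    haveI := Fact.mk hq
    by_cases hq2 : q = 2
    · subst hq2
      have h1 : g ^ Nat.card G = 1 := pow_card_eq_one'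
      have h2 : g = 1 := by
        refine eq_one_of_pow_pow_coprime h1 hk ?_
        exact Nat.Coprime.pow_right _ (Nat.coprime_two_right.mpr hodd)
      rw [h2]; exact F.one_mem
    set c : G →* MulAut ↥(pCore q G) := MulAut.conjNormal with hc
    have hRp : IsPGroup q ↥(pCore q G) := Cfsg.Agent.H1.pCore_isPGroup q
    have hcore : IsPGroup q (commutator ↥c.range) := hder q hq hq2
    set W : Subgroup G := Subgroup.centralizer (fitPrime q G : Set G) ⊓
      (commutator ↥c.range).comap c.rangeRestrict with hW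
    haveI hWn : W.Normal := by
      haveI : (Subgroup.centralizer (fitPrime q G : Set G)).Normal := Subgroup.normal_centralizer
      haveI : ((commutator ↥c.range).comap c.rangeRestrict).Normal := inferInstance
      infer_instance
    have hgW : g ∈ W := by
      refine ⟨?_, ?_⟩
      · have h1 : fitPrime q G ≤
            Subgroup.centralizer ((Subgroup.zpowers g : Subgroup G) : Set G) := by
          unfold fitPrime
          apply iSup₂_le
          intro r hrq
          haveI := Fact.mk r.2
          rw [Subgroup.le_centralizer_iff, Subgroup.zpowers_le]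
          exact mem_centralizer_pCore_of_ne' hodd hq hrq (hder r r.2) hg hk
        rw [Subgroup.le_centralizer_iff, Subgroup.zpowers_le] at h1
        exact h1
      · exact map_commutator_le c.rangeRestrict (Subgroup.mem_map_of_mem _ hg)
    have hpow : ∀ w ∈ W, ∃ n : ℕ, w ^ q ^ n ∈ W ⊓ fitPrime q G := by
      intro w hw
      obtain ⟨a, ha⟩ := hcore ⟨_, hw.2⟩
      have h2 := congrArg
        (fun u : ↥(commutator ↥c.range) => ((u : ↥c.range) : MulAut ↥(pCore q G))) ha
      simp only [Subgroup.coe_pow, Subgroup.coe_one] at h2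
      have h3 : c (w ^ q ^ a) = 1 := by rw [map_pow]; exact h2
      have h4 : w ^ q ^ a ∈ Subgroup.centralizer (pCore q G : Set G) :=
        mem_centralizer_of_conjNormal_eq_one _ h3
      have h5 : w ^ q ^ a ∈ Subgroup.centralizer (fitPrime q G : Set G) :=
        Subgroup.pow_mem _ hw.1 _
      have h6 : w ^ q ^ a ∈ F := by
        apply Cfsg.Agent.S0044.result
        have h7 := mem_centralizer_sup h4 h5
        exact Subgroup.centralizer_le (fitting_le_sup q hq) h7
      obtain ⟨x, hx, y, hy, hxy, hcomm⟩ := exists_decomp hq h6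
      obtain ⟨m, hm⟩ := hRp ⟨x, hx⟩
      have hm' : x ^ q ^ m = 1 := by
        have h9 := congrArg Subtype.val hm
        rw [Subgroup.coe_pow, Subgroup.coe_one] at h9
        exact h9
      have h8 : w ^ q ^ (a + m) = y ^ q ^ m := by
        rw [pow_add, pow_mul, hxy, hcomm.mul_pow, hm', one_mul]
      refine ⟨a + m, ?_⟩
      refine ⟨Subgroup.pow_mem _ hw _, ?_⟩
      rw [h8]
      exact Subgroup.pow_mem _ hy _
    have hWnil : Group.IsNilpotent ↥W := by
      haveI : (W ⊓ fitPrime q G).Normal := inferInstance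
      set C : Subgroup ↥W := (W ⊓ fitPrime q G).subgroupOf W with hC
      haveI : C.Normal := by rw [hC]; infer_instance
      have hker : (QuotientGroup.mk' C).ker ≤ Subgroup.center ↥W := by
        rw [QuotientGroup.ker_mk']
        intro x hx
        rw [Subgroup.mem_center_iff]
        intro y
        apply Subtype.ext
        rw [Subgroup.coe_mul, Subgroup.coe_mul]
        have hx' : (x : G) ∈ fitPrime q G := (Subgroup.mem_subgroupOf.mp hx).2
        exact (Subgroup.mem_centralizer_iff.mp y.2.1 _ hx').symm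
      have hQ : IsPGroup q (↥W ⧸ C) := by
        intro u
        obtain ⟨w, rfl⟩ := QuotientGroup.mk_surjective u
        obtain ⟨n, hn⟩ := hpow w.1 w.2
        refine ⟨n, ?_⟩
        rw [← QuotientGroup.mk_pow, QuotientGroup.eq_one_iff, hC, Subgroup.mem_subgroupOf,
          Subgroup.coe_pow]
        exact hn
      haveI := hQ.isNilpotent
      exact isNilpotent_of_ker_le_center (QuotientGroup.mk' C) hker
    exact Cfsg.Agent.H1.le_fittingSubgroup hWn hWnil hgW
  have htop : F.subgroupOf (commutator G) = ⊤ := by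
    apply Cfsg.Agent.H1.eq_top_of_forall_sylow_le
    intro q hq
    obtain ⟨Q⟩ : Nonempty (Sylow q ↥(commutator G)) := inferInstance
    refine ⟨Q, ?_⟩
    intro x hx
    rw [Subgroup.mem_subgroupOf]
    obtain ⟨k, hk⟩ := Q.2 ⟨x, hx⟩
    have hk' : (x : G) ^ q ^ k = 1 := by
      have h9 := congrArg (fun u : ↥(Q : Subgroup ↥(commutator G)) => ((u : ↥(commutator G)) : G)) hk
      simpa using h9
    exact key q hq.out x.1 x.2 k hk'
  rwa [Subgroup.subgroupOf_eq_top] at htop

/-- the automizer condition for a narrow `O_p(G)` -/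
theorem autDer_of_narrow {p : ℕ} [Fact p.Prime] (hp : p ≠ 2) (hr : ¬ PRankLE p 2 ↥(pCore p G))
    (E₀ : Subgroup ↥(pCore p G)) (hE₀ : IsElementaryAbelian p E₀)
    (hc : PRankLE p 2 ↥(Subgroup.centralizer (E₀ : Set ↥(pCore p G)))) : AutDer p G := by
  have hRp : IsPGroup p ↥(pCore p G) := Cfsg.Agent.H1.pCore_isPGroup p
  obtain ⟨-, h2⟩ := Cfsg.Agent.Lib.Helper4.NarrowData.narrow_aut hp hRp hr E₀ hE₀ hc
  set c : G →* MulAut ↥(pCore p G) := MulAut.conjNormal with hc'
  intro u
  have hmem : ((u : ↥c.range) : MulAut ↥(pCore p G)) ∈ commutator (MulAut ↥(pCore p G)) :=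
    map_commutator_le c.range.subtype (Subgroup.mem_map_of_mem _ u.2)
  obtain ⟨a, ha⟩ := h2 _ hmem
  refine ⟨a, ?_⟩
  apply Subtype.ext
  apply Subtype.ext
  rw [Subgroup.coe_pow, Subgroup.coe_pow, Subgroup.coe_one, Subgroup.coe_one]
  exact ha

/-- **S1456** -/
theorem commutator_le_fitting_of_cent (hodd : Odd (Nat.card G)) (p : ℕ) [Fact p.Prime]
    (E : Subgroup G) (hE : E ≤ fittingSubgroup G) (hEe : IsElementaryAbelian p E)
    (hr : RankLE 2 ↥(fittingSubgroup G ⊓ Subgroup.centralizer (E : Set G))) :
    commutator G ≤ fittingSubgroup G := by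
  have hpp := (Fact.out : p.Prime)
  have hEP : E ≤ pCore p G := by
    intro e he
    have h1 : e ^ p ^ 1 = 1 := by rw [pow_one]; exact hEe.2 e he
    exact mem_pCore_of_mem_fitting hpp (hE he) h1
  apply commutator_le_fitting' hodd
  intro q hq hq2
  haveI := Fact.mk hq
  by_cases hqp : q = p
  · subst hqp
    by_cases hrk : PRankLE q 2 ↥(pCore q G)
    · exact autDer_of_rank hodd hq2 hrk
    · set E₀ : Subgroup ↥(pCore q G) := E.subgroupOf (pCore q G) with hE₀
      have hE₀e : IsElementaryAbelian q E₀ := by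
        refine ⟨⟨⟨fun a b => ?_⟩⟩, ?_⟩
        · apply Subtype.ext
          apply Subtype.ext
          have := hEe.1.is_comm.comm ⟨a.1.1, a.2⟩ ⟨b.1.1, b.2⟩
          have h9 := congrArg (fun u : ↥E => (u : G)) this
          simpa using h9
        · intro a ha
          apply Subtype.ext
          rw [Subgroup.coe_pow, Subgroup.coe_one]
          exact hEe.2 a.1 ha
      have hc : PRankLE q 2 ↥(Subgroup.centralizer (E₀ : Set ↥(pCore q G))) := by
        let f : ↥(Subgroup.centralizer (E₀ : Set ↥(pCore q G))) →*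
            ↥(fittingSubgroup G ⊓ Subgroup.centralizer (E : Set G)) :=
          ((pCore q G).subtype.comp (Subgroup.centralizer (E₀ : Set ↥(pCore q G))).subtype).codRestrict
            _ (fun x => by
              refine ⟨pCore_le_fitting' q hq x.1.2, ?_⟩
              show (x.1.1 : G) ∈ Subgroup.centralizer (E : Set G)
              rw [Subgroup.mem_centralizer_iff]
              intro e he
              have h1 := Subgroup.mem_centralizer_iff.mp x.2 ⟨e, hEP he⟩
                (Subgroup.mem_subgroupOf.mpr he)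
              exact congrArg Subtype.val h1)
        have hf : Function.Injective f := by
          intro x y hxy
          apply Subtype.ext
          apply Subtype.ext
          have := congrArg (fun u : ↥(fittingSubgroup G ⊓ Subgroup.centralizer (E : Set G)) =>
            (u : G)) hxy
          exact this
        exact pRankLE_of_injective f hf (hr q hq)
      exact autDer_of_narrow hq2 hrk E₀ hE₀e hc
  · apply autDer_of_rank hodd hq2
    have hle : pCore q G ≤ fittingSubgroup G ⊓ Subgroup.centralizer (E : Set G) := by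
      intro x hx
      refine ⟨pCore_le_fitting' q hq hx, ?_⟩
      show x ∈ Subgroup.centralizer (E : Set G)
      rw [Subgroup.mem_centralizer_iff]
      intro e he
      have hx' : x ∈ fitPrime p G := pCore_le_fitPrime hq hqp hx
      exact (commute_pCore_fitPrime hpp (hEP he) hx').eq
    exact pRankLE_of_le hle (hr q hq)

end Cfsg.Agent.Lib.Helper4.NarrowFit
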