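import Mathlib

/-!
Bender–Glauberman Theorem 3.6 (helper4), part A: abstract lemmas on a group `G` acting by
automorphisms on a finite abelian group `V` of exponent `p`: fixed points, weight spaces of an
abelian subgroup, averaging maps, independence of weight spaces, and the norm map of an element.
-/

set_option autoImplicit false

namespace Cfsg.Agent.Lib.Helper4.BGZ

section action
variable {G V : Type*} [Group G] [CommGroup V] [MulDistribMulAction G V]

/-- fixed points of a set of operators -/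
def fix (V : Type*) [CommGroup V] [MulDistribMulAction G V] (S : Set G) : Subgroup V where
  carrier := {v | ∀ s ∈ S, s • v = v}
  one_mem' := fun s _ => smul_one s
  mul_mem' := fun {a b} ha hb s hs => by rw [smul_mul', ha s hs, hb s hs]
  inv_mem' := fun {a} ha s hs => by rw [smul_inv', ha s hs]

theorem mem_fix {S : Set G} {v : V} : v ∈ fix V S ↔ ∀ s ∈ S, s • v = v := Iff.rfl

theorem fix_anti {S T : Set G} (h : S ⊆ T) : fix V T ≤ fix V S := fun _ hv s hs => hv s (h hs)

theorem mem_fix_sup {K K' : Subgroup G} {v : V} (h : v ∈ fix V (K : Set G)) (h' : v ∈ fix V (K' : Set G)) :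
    v ∈ fix V ((K ⊔ K' : Subgroup G) : Set G) := by
  have h1 : K ⊔ K' ≤ MulAction.stabilizer G v := by
    apply sup_le
    · intro k hk; exact h k hk
    · intro k hk; exact h' k hk
  intro s hs
  exact h1 hs

/-- the weight space `[C_V(K), E]` -/
def wt (V : Type*) [CommGroup V] [MulDistribMulAction G V] (E K : Subgroup G) : Subgroup V :=
  Subgroup.closure {u | ∃ m ∈ E, ∃ v ∈ fix V (K : Set G), u = (m • v) * v⁻¹}

theorem gen_mem_wt {E K : Subgroup G} {m : G} (hm : m ∈ E) {v : V} (hv : v ∈ fix V (K : Set G)) :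
    (m • v) * v⁻¹ ∈ wt V E K :=
  Subgroup.subset_closure ⟨m, hm, v, hv, rfl⟩

theorem smul_mem_fix_of_comm {K : Subgroup G} {g : G} (hg : ∀ k ∈ K, g * k = k * g) {v : V}
    (hv : v ∈ fix V (K : Set G)) : g • v ∈ fix V (K : Set G) := by
  intro k hk
  rw [smul_smul, ← hg k hk, mul_smul, hv k hk]

theorem wt_le_fix {E K : Subgroup G} (hE : ∀ a ∈ E, ∀ b ∈ E, a * b = b * a) (hK : K ≤ E) :
    wt V E K ≤ fix V (K : Set G) := by
  rw [wt, Subgroup.closure_le]
  rintro u ⟨m, hm, v, hv, rfl⟩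
  exact mul_mem (smul_mem_fix_of_comm (fun k hk => hE m hm k (hK hk)) hv) (inv_mem hv)

theorem smul_mem_wt {E K : Subgroup G} (hE : ∀ a ∈ E, ∀ b ∈ E, a * b = b * a) (hK : K ≤ E) {g : G}
    (hg : g ∈ E) {w : V} (hw : w ∈ wt V E K) : g • w ∈ wt V E K := by
  have h1 : wt V E K ≤ (wt V E K).comap (MulDistribMulAction.toMonoidHom V g) := by
    rw [wt, Subgroup.closure_le]
    rintro u ⟨m, hm, v, hv, rfl⟩
    show g • (m • v * v⁻¹) ∈ wt V E K
    rw [smul_mul', smul_inv', smul_smul, hE g hg m hm, mul_smul]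
    exact gen_mem_wt hm (smul_mem_fix_of_comm (fun k hk => hE g hg k (hK hk)) hv)
  exact h1 hw

end action

section finite
variable {G V : Type*} [Group G] [Finite G] [CommGroup V] [MulDistribMulAction G V]

/-- the finset of elements of a subgroup -/
noncomputable def Kf (K : Subgroup G) : Finset G := (Set.toFinite (K : Set G)).toFinset

theorem mem_Kf {K : Subgroup G} {g : G} : g ∈ Kf K ↔ g ∈ K := by
  rw [Kf, Set.Finite.mem_toFinset]; rfl

theorem card_Kf (K : Subgroup G) : (Kf K).card = Nat.card K := by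
  rw [Kf, ← Set.ncard_eq_toFinset_card (K : Set G)]
  rfl

/-- the averaging map over a subgroup -/
noncomputable def piK (K : Subgroup G) : V →* V :=
  ∏ k ∈ Kf K, MulDistribMulAction.toMonoidHom V k

theorem piK_apply (K : Subgroup G) (v : V) : piK K v = ∏ k ∈ Kf K, k • v := by
  rw [piK, MonoidHom.finset_prod_apply]
  rfl

theorem smul_piK (K : Subgroup G) {g : G} (hg : g ∈ K) (v : V) : g • piK K v = piK K v := by
  rw [piK_apply, Finset.smul_prod']
  apply Finset.prod_nbij' (fun k => g * k) (fun k => g⁻¹ * k)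
  · intro k hk; rw [mem_Kf] at hk ⊢; exact mul_mem hg hk
  · intro k hk; rw [mem_Kf] at hk ⊢; exact mul_mem (inv_mem hg) hk
  · intro k _; group
  · intro k _; group
  · intro k _; rw [mul_smul]

theorem piK_mem_fix (K : Subgroup G) (v : V) : piK K v ∈ fix V (K : Set G) :=
  fun _ hg => smul_piK K hg v

theorem piK_smul (K : Subgroup G) {g : G} (hg : g ∈ K) (v : V) : piK K (g • v) = piK K v := by
  rw [piK_apply, piK_apply]
  apply Finset.prod_nbij' (fun k => k * g) (fun k => k * g⁻¹)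
  · intro k hk; rw [mem_Kf] at hk ⊢; exact mul_mem hk hg
  · intro k hk; rw [mem_Kf] at hk ⊢; exact mul_mem hk (inv_mem hg)
  · intro k _; group
  · intro k _; group
  · intro k _; rw [mul_smul]

theorem piK_of_mem_fix {K : Subgroup G} {v : V} (hv : v ∈ fix V (K : Set G)) :
    piK K v = v ^ Nat.card K := by
  rw [piK_apply, ← card_Kf, ← Finset.prod_const]
  apply Finset.prod_congr rfl
  intro k hk
  exact hv k (mem_Kf.mp hk)

theorem piK_wt_eq_one {E K : Subgroup G} {w : V} (hw : w ∈ wt V E K) : piK E w = 1 := by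
  have h1 : wt V E K ≤ (piK (V := V) E).ker := by
    rw [wt, Subgroup.closure_le]
    rintro u ⟨m, hm, v, _, rfl⟩
    show piK E (m • v * v⁻¹) = 1
    rw [map_mul, map_inv, piK_smul E hm, mul_inv_cancel]
  exact h1 hw

/-- an element of exponent `p` killed by a power prime to `p` is trivial -/
theorem eq_one_of_pow_coprime {p n : ℕ} (hn : n.Coprime p) {v : V} (hp : v ^ p = 1) (hv : v ^ n = 1) :
    v = 1 := by
  have h1 : orderOf v ∣ Nat.gcd n p := Nat.dvd_gcd (orderOf_dvd_of_pow_eq_one hv) (orderOf_dvd_of_pow_eq_one hp)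
  rw [hn, Nat.dvd_one] at h1
  exact orderOf_eq_one_iff.mp h1

variable {p : ℕ} (hexp : ∀ v : V, v ^ p = 1)
include hexp

theorem wt_inf_fix {E K : Subgroup G} (hcop : (Nat.card E).Coprime p) {w : V} (hw : w ∈ wt V E K)
    (hf : w ∈ fix V (E : Set G)) : w = 1 := by
  have h1 := piK_wt_eq_one hw
  rw [piK_of_mem_fix hf] at h1
  exact eq_one_of_pow_coprime hcop (hexp w) h1

theorem piK_wt_other {E K K' : Subgroup G} (hE : ∀ a ∈ E, ∀ b ∈ E, a * b = b * a)
    (hcop : (Nat.card E).Coprime p) (hK : K ≤ E) (hK' : K' ≤ E) (hsup : E ≤ K ⊔ K') {w : V}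
    (hw : w ∈ wt V E K') : piK K w = 1 := by
  have h1 : piK K w ∈ wt V E K' := by
    rw [piK_apply]
    apply Subgroup.prod_mem
    intro k hk
    exact smul_mem_wt hE hK' (hK (mem_Kf.mp hk)) hw
  apply wt_inf_fix hexp hcop h1
  have h2 := mem_fix_sup (piK_mem_fix K w) (wt_le_fix hE hK' h1)
  exact fix_anti (fun _ h => hsup h) h2

/-- independence of the weight spaces of pairwise complementary subgroups -/
theorem indep {E : Subgroup G} (hE : ∀ a ∈ E, ∀ b ∈ E, a * b = b * a)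
    (hcop : (Nat.card E).Coprime p) {ι : Type*} [Fintype ι] (κ : ι → Subgroup G)
    (hκ : ∀ i, κ i ≤ E) (hpair : ∀ i j, i ≠ j → E ≤ κ i ⊔ κ j) (w : ι → V)
    (hw : ∀ i, w i ∈ wt V E (κ i)) (hprod : ∏ i, w i = 1) (i : ι) : w i = 1 := by
  classical
  have h1 : piK (κ i) (∏ j, w j) = 1 := by rw [hprod, map_one]
  rw [map_prod, Finset.prod_eq_single i] at h1
  · rw [piK_of_mem_fix (wt_le_fix hE (hκ i) (hw i))] at h1
    exact eq_one_of_pow_coprime
      (Nat.Coprime.coprime_dvd_left (Subgroup.card_dvd_of_le (hκ i)) hcop) (hexp _) h1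
  · intro j _ hji
    exact piK_wt_other hexp hE hcop (hκ i) (hκ j) (hpair i j (Ne.symm hji)) (hw j)
  · intro h; exact absurd (Finset.mem_univ i) h

end finite

section conj
variable {G V : Type*} [Group G] [CommGroup V] [MulDistribMulAction G V]

/-- the conjugate `g K g⁻¹` -/
def cj (g : G) (K : Subgroup G) : Subgroup G := K.map (MulAut.conj g).toMonoidHom

theorem mem_cj {g : G} {K : Subgroup G} {y : G} : y ∈ cj g K ↔ ∃ k ∈ K, g * k * g⁻¹ = y := by
  rw [cj, Subgroup.mem_map]; rfl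

theorem conj_mem_cj {g : G} {K : Subgroup G} {k : G} (hk : k ∈ K) : g * k * g⁻¹ ∈ cj g K :=
  mem_cj.mpr ⟨k, hk, rfl⟩

theorem cj_one (K : Subgroup G) : cj 1 K = K := by
  ext y
  rw [mem_cj]
  constructor
  · rintro ⟨k, hk, rfl⟩; simpa using hk
  · intro hy; exact ⟨y, hy, by simp⟩

theorem cj_mul (g h : G) (K : Subgroup G) : cj (g * h) K = cj g (cj h K) := by
  ext y
  simp only [mem_cj]
  constructor
  · rintro ⟨k, hk, rfl⟩
    exact ⟨h * k * h⁻¹, ⟨k, hk, rfl⟩, by group⟩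
  · rintro ⟨_, ⟨k, hk, rfl⟩, rfl⟩
    exact ⟨k, hk, by group⟩

theorem cj_le_of_normalizes {g : G} {E K : Subgroup G} (hg : ∀ m ∈ E, g * m * g⁻¹ ∈ E) (hK : K ≤ E) :
    cj g K ≤ E := by
  intro y hy
  obtain ⟨k, hk, rfl⟩ := mem_cj.mp hy
  exact hg k (hK hk)

theorem card_cj [Finite G] (g : G) (K : Subgroup G) : Nat.card (cj g K) = Nat.card K :=
  Subgroup.card_map_of_injective (MulAut.conj g).injective

theorem smul_mem_fix_cj {g : G} {K : Subgroup G} {v : V} (hv : v ∈ fix V (K : Set G)) :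
    g • v ∈ fix V ((cj g K : Subgroup G) : Set G) := by
  intro y hy
  obtain ⟨k, hk, rfl⟩ := mem_cj.mp hy
  rw [smul_smul, inv_mul_cancel_right, mul_smul, hv k hk]

theorem smul_mem_wt_cj {g : G} {E K : Subgroup G} (hg : ∀ m ∈ E, g * m * g⁻¹ ∈ E) {w : V}
    (hw : w ∈ wt V E K) : g • w ∈ wt V E (cj g K) := by
  have h1 : wt V E K ≤ (wt V E (cj g K)).comap (MulDistribMulAction.toMonoidHom V g) := by
    rw [wt, Subgroup.closure_le]
    rintro u ⟨m, hm, v, hv, rfl⟩
    show g • (m • v * v⁻¹) ∈ wt V E (cj g K)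
    have e : g • (m • v * v⁻¹) = ((g * m * g⁻¹) • (g • v)) * (g • v)⁻¹ := by
      rw [smul_mul', smul_inv', smul_smul, smul_smul, inv_mul_cancel_right]
    rw [e]
    exact gen_mem_wt (hg m hm) (smul_mem_fix_cj hv)
  exact h1 hw

theorem pow_normalizes {x : G} {E : Subgroup G} (hx : ∀ m ∈ E, x * m * x⁻¹ ∈ E) (j : ℕ) :
    ∀ m ∈ E, x ^ j * m * (x ^ j)⁻¹ ∈ E := by
  induction j with
  | zero => intro m hm; simpa using hm
  | succ j ih =>
    intro m hm
    have := hx _ (ih m hm)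
    have e : x ^ (j + 1) * m * (x ^ (j + 1))⁻¹ = x * (x ^ j * m * (x ^ j)⁻¹) * x⁻¹ := by
      rw [pow_succ']; group
    rw [e]; exact this

end conj

section norm
variable {G V : Type*} [Group G] [Finite G] [CommGroup V] [MulDistribMulAction G V]

/-- the norm map of `x` (a product over `r` consecutive powers) -/
noncomputable def nrm (x : G) (r : ℕ) : V →* V :=
  ∏ j ∈ Finset.range r, MulDistribMulAction.toMonoidHom V (x ^ j)

theorem nrm_apply (x : G) (r : ℕ) (v : V) : nrm x r v = ∏ j ∈ Finset.range r, x ^ j • v := by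
  rw [nrm, MonoidHom.finset_prod_apply]
  rfl

theorem smul_nrm {x : G} {r : ℕ} (hx : x ^ r = 1) (v : V) : x • nrm x r v = nrm x r v := by
  rw [nrm_apply, Finset.smul_prod']
  have h1 : ∀ j, x • x ^ j • v = x ^ (j + 1) • v := fun j => by rw [smul_smul, ← pow_succ']
  simp only [h1]
  have h2 := Finset.prod_range_succ_comm (fun j => x ^ j • v) r
  have h3 := Finset.prod_range_succ' (fun j => x ^ j • v) r
  rw [h2] at h3
  simp only [hx, pow_zero] at h3
  rw [mul_comm _ (1 • v)] at h3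
  exact (mul_left_cancel h3).symm

theorem nrm_mem_fix {x : G} {r : ℕ} (hx : x ^ r = 1) (v : V) : nrm x r v ∈ fix V ({x} : Set G) := by
  intro s hs
  rw [Set.mem_singleton_iff] at hs
  rw [hs]; exact smul_nrm hx v

variable {p : ℕ} (hexp : ∀ v : V, v ^ p = 1)
include hexp

/-- the norm map is injective on a product of weight spaces whose conjugates are independent -/
theorem nrm_indep {E : Subgroup G} (hE : ∀ a ∈ E, ∀ b ∈ E, a * b = b * a)
    (hcop : (Nat.card E).Coprime p) (x : G) (r : ℕ) (hr : 0 < r) (hxE : ∀ m ∈ E, x * m * x⁻¹ ∈ E)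
    {ι : Type*} [Fintype ι] (κ : ι → Subgroup G) (hκ : ∀ i, κ i ≤ E)
    (hpair : ∀ a b : Fin r × ι, a ≠ b →
      E ≤ cj (x ^ (a.1 : ℕ)) (κ a.2) ⊔ cj (x ^ (b.1 : ℕ)) (κ b.2))
    (w : ι → V) (hw : ∀ i, w i ∈ wt V E (κ i)) (h : nrm x r (∏ i, w i) = 1) (i : ι) : w i = 1 := by
  classical
  have h1 : ∏ a : Fin r × ι, x ^ (a.1 : ℕ) • w a.2 = 1 := by
    rw [Fintype.prod_prod_type]
    rw [nrm_apply, Finset.prod_range] at h
    rw [← h]
    apply Finset.prod_congr rfl
    intro j _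
    rw [Finset.smul_prod']
  have h2 := indep hexp hE hcop (fun a : Fin r × ι => cj (x ^ (a.1 : ℕ)) (κ a.2))
    (fun a => cj_le_of_normalizes (pow_normalizes hxE _) (hκ a.2)) hpair
    (fun a => x ^ (a.1 : ℕ) • w a.2)
    (fun a => smul_mem_wt_cj (pow_normalizes hxE _) (hw a.2)) h1 (⟨0, hr⟩, i)
  simpa using h2

theorem card_wt_le [Finite V] {E : Subgroup G} (hE : ∀ a ∈ E, ∀ b ∈ E, a * b = b * a)
    (hcop : (Nat.card E).Coprime p) (x : G) (r : ℕ) (hr : 0 < r) (hxr : x ^ r = 1)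
    (hxE : ∀ m ∈ E, x * m * x⁻¹ ∈ E)
    {ι : Type*} [Fintype ι] (κ : ι → Subgroup G) (hκ : ∀ i, κ i ≤ E)
    (hpair : ∀ a b : Fin r × ι, a ≠ b →
      E ≤ cj (x ^ (a.1 : ℕ)) (κ a.2) ⊔ cj (x ^ (b.1 : ℕ)) (κ b.2)) :
    ∏ i, Nat.card (wt V E (κ i)) ≤ Nat.card (fix V ({x} : Set G)) := by
  classical
  rw [← Nat.card_pi]
  apply Nat.card_le_card_of_injective
    (fun u : (∀ i, ↥(wt V E (κ i))) => (⟨nrm x r (∏ i, (u i : V)), nrm_mem_fix hxr _⟩ : ↥(fix V ({x} : Set G))))
  intro u u' huu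
  have h1 : nrm x r (∏ i, (u i : V)) = nrm x r (∏ i, (u' i : V)) := congrArg Subtype.val huu
  have h2 : nrm x r (∏ i, ((u i : V) * (u' i : V)⁻¹)) = 1 := by
    rw [Finset.prod_mul_distrib, Finset.prod_inv_distrib, map_mul, map_inv, h1, mul_inv_cancel]
  funext i
  have h3 := nrm_indep hexp hE hcop x r hr hxE κ hκ hpair (fun i => (u i : V) * (u' i : V)⁻¹)
    (fun i => mul_mem (u i).2 (inv_mem (u' i).2)) h2 i
  apply Subtype.ext
  exact mul_inv_eq_one.mp h3

end norm

end Cfsg.Agent.Lib.Helper4.BGZ
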