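import Mathlib
import Cfsg.Agent.Lib.Helper4.BGZA

/-!
Bender–Glauberman Theorem 3.6 (helper4), part B: group-theoretic lemmas (no module): generators of
a group of prime order, fixed-point-free automorphisms, conjugates and normalizers, hyperplanes.
-/

set_option autoImplicit false

namespace Cfsg.Agent.Lib.Helper4.BGZ

variable {G : Type*} [Group G]

/-- in a group of prime order every nontrivial power generates -/
theorem exists_pow_pow_eq {x : G} {r k : ℕ} (hr : r.Prime) (hx : x ^ r = 1) (hk : ¬ r ∣ k) :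
    ∃ l : ℕ, (x ^ k) ^ l = x := by
  have hcop : Nat.Coprime k r := ((Nat.Prime.coprime_iff_not_dvd hr).mpr hk).symm
  obtain ⟨l, -, hl⟩ := Nat.exists_mul_mod_eq_one_of_coprime hcop hr.one_lt
  refine ⟨l, ?_⟩
  rw [← pow_mul, ← Nat.div_add_mod (k * l) r, hl, pow_add, pow_mul, hx, one_pow, one_mul, pow_one]

theorem mem_of_pow_mem {H : Subgroup G} {x : G} {r k : ℕ} (hr : r.Prime) (hx : x ^ r = 1)
    (hk : ¬ r ∣ k) (h : x ^ k ∈ H) : x ∈ H := by
  obtain ⟨l, hl⟩ := exists_pow_pow_eq hr hx hk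
  rw [← hl]; exact pow_mem h l

theorem not_dvd_of_pos_of_lt {r d : ℕ} (h0 : 0 < d) (h1 : d < r) : ¬ r ∣ d :=
  fun h => absurd (Nat.le_of_dvd h0 h) (not_le.mpr h1)

/-- `cj g K = K` exactly when `g` normalizes `K` -/
theorem cj_eq_self_iff {g : G} {K : Subgroup G} :
    cj g K = K ↔ g ∈ Subgroup.normalizer (K : Set G) := by
  rw [Subgroup.mem_normalizer_iff]
  constructor
  · intro h k
    constructor
    · intro hk; rw [← h]; exact conj_mem_cj hk
    · intro hk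
      rw [← h] at hk
      obtain ⟨k', hk', e⟩ := mem_cj.mp hk
      have : k' = k := by
        have := congrArg (fun t => g⁻¹ * t * g) e
        simpa [mul_assoc] using this
      rw [← this]; exact hk'
  · intro h
    ext y
    rw [mem_cj]
    constructor
    · rintro ⟨k, hk, rfl⟩; exact (h k).mp hk
    · intro hy
      refine ⟨g⁻¹ * y * g, ?_, by group⟩
      rw [h]
      have e : g * (g⁻¹ * y * g) * g⁻¹ = y := by group
      rw [e]; exact hy

theorem cj_injective (g : G) {K K' : Subgroup G} (h : cj g K = cj g K') : K = K' := by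
  have h1 : cj g⁻¹ (cj g K) = cj g⁻¹ (cj g K') := by rw [h]
  rwa [← cj_mul, ← cj_mul, inv_mul_cancel, cj_one, cj_one] at h1

theorem cj_eq_iff {g h : G} {K : Subgroup G} : cj g K = cj h K ↔ cj (h⁻¹ * g) K = K := by
  constructor
  · intro e
    rw [cj_mul, e, ← cj_mul, inv_mul_cancel, cj_one]
  · intro e
    have : cj h (cj (h⁻¹ * g) K) = cj h K := by rw [e]
    rwa [← cj_mul, mul_inv_cancel_left] at this

theorem cj_pow_eq_self {x : G} {K : Subgroup G} (h : cj x K = K) (j : ℕ) : cj (x ^ j) K = K := by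
  induction j with
  | zero => rw [pow_zero, cj_one]
  | succ j ih => rw [pow_succ, cj_mul, h, ih]

section fpf
variable [Finite G]

/-- a fixed-point-free automorphism: `a ↦ y a y⁻¹ a⁻¹` is injective, hence bijective on invariant
subgroups -/
theorem fpf_injOn {A : Subgroup G} {y : G} (hfpf : ∀ a ∈ A, y * a = a * y → a = 1) :
    Set.InjOn (fun g => y * g * y⁻¹ * g⁻¹) (A : Set G) := by
  intro a ha b hb hab
  simp only at hab
  have hc : b⁻¹ * a ∈ A := mul_mem (inv_mem hb) ha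
  have h1 : y * (b⁻¹ * a) = (b⁻¹ * a) * y := by
    have e1 : y * a * y⁻¹ = y * b * y⁻¹ * b⁻¹ * a := by
      rw [← hab]; group
    calc y * (b⁻¹ * a) = (y * b * y⁻¹)⁻¹ * (y * a * y⁻¹) * y := by group
      _ = (y * b * y⁻¹)⁻¹ * (y * b * y⁻¹ * b⁻¹ * a) * y := by rw [e1]
      _ = (b⁻¹ * a) * y := by group
  have h2 := hfpf _ hc h1
  have : a = b * (b⁻¹ * a) := by group
  rw [this, h2, mul_one]

theorem fpf_mem {A I : Subgroup G} (hIA : I ≤ A) {y : G}
    (hyI : ∀ a ∈ I, y * a * y⁻¹ ∈ I)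
    (hfpf : ∀ a ∈ A, y * a = a * y → a = 1) {a : G} (ha : a ∈ A) (h : y * a * y⁻¹ * a⁻¹ ∈ I) :
    a ∈ I := by
  have hmaps : Set.MapsTo (fun g => y * g * y⁻¹ * g⁻¹) (I : Set G) (I : Set G) :=
    fun g hg => mul_mem (hyI g hg) (inv_mem hg)
  have hinj : Set.InjOn (fun g => y * g * y⁻¹ * g⁻¹) (I : Set G) :=
    (fpf_injOn hfpf).mono (fun _ h => hIA h)
  have hbij := ((Set.toFinite (I : Set G)).injOn_iff_bijOn_of_mapsTo hmaps).mp hinj
  obtain ⟨b, hb, hbe⟩ := hbij.surjOn h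
  have := fpf_injOn hfpf (hIA hb) ha hbe
  rw [← this]; exact hb

theorem fpf_surj {A : Subgroup G} {y : G} (hyA : ∀ a ∈ A, y * a * y⁻¹ ∈ A)
    (hfpf : ∀ a ∈ A, y * a = a * y → a = 1) {c : G} (hc : c ∈ A) :
    ∃ a ∈ A, y * a * y⁻¹ * a⁻¹ = c := by
  have hmaps : Set.MapsTo (fun g => y * g * y⁻¹ * g⁻¹) (A : Set G) (A : Set G) :=
    fun g hg => mul_mem (hyA g hg) (inv_mem hg)
  have hbij := ((Set.toFinite (A : Set G)).injOn_iff_bijOn_of_mapsTo hmaps).mp (fpf_injOn hfpf)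
  obtain ⟨b, hb, hbe⟩ := hbij.surjOn hc
  exact ⟨b, hb, hbe⟩

/-- fixed-point-freeness passes to generators of `⟨x⟩` -/
theorem fpf_pow {A : Subgroup G} {x : G} {r k : ℕ} (hr : r.Prime) (hx : x ^ r = 1) (hk : ¬ r ∣ k)
    (hfpf : ∀ a ∈ A, x * a = a * x → a = 1) : ∀ a ∈ A, x ^ k * a = a * x ^ k → a = 1 := by
  intro a ha h
  apply hfpf a ha
  have h1 : x ^ k ∈ Subgroup.centralizer ({a} : Set G) := by
    rw [Subgroup.mem_centralizer_iff]
    intro b hb
    rw [Set.mem_singleton_iff] at hb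
    rw [hb]; exact h.symm
  have h2 := mem_of_pow_mem hr hx hk h1
  rw [Subgroup.mem_centralizer_iff] at h2
  exact (h2 a rfl).symm

/-- two distinct subgroups of the same prime index generate -/
theorem le_sup_of_hyperplanes {M K₁ K₂ : Subgroup G} {q : ℕ} (hq : q.Prime) (h₁ : K₁ ≤ M) (h₂ : K₂ ≤ M)
    (hc₁ : Nat.card K₁ * q = Nat.card M) (hc₂ : Nat.card K₂ * q = Nat.card M) (hne : K₁ ≠ K₂) :
    M ≤ K₁ ⊔ K₂ := by
  have hJ : K₁ ⊔ K₂ ≤ M := sup_le h₁ h₂
  have hpos : 0 < Nat.card K₁ := Nat.card_pos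
  obtain ⟨d, hd⟩ := Subgroup.card_dvd_of_le (le_sup_left : K₁ ≤ K₁ ⊔ K₂)
  have hdq : d ∣ q := by
    have h3 := Subgroup.card_dvd_of_le hJ
    rw [hd, ← hc₁] at h3
    exact Nat.dvd_of_mul_dvd_mul_left hpos h3
  rcases (Nat.dvd_prime hq).mp hdq with h1 | h1
  · exfalso
    rw [h1, mul_one] at hd
    have e1 : K₁ = K₁ ⊔ K₂ := Subgroup.eq_of_le_of_card_ge le_sup_left hd.le
    have h4 : K₂ ≤ K₁ := by rw [e1]; exact le_sup_right
    have hcc : Nat.card K₁ ≤ Nat.card K₂ := by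
      have : Nat.card K₁ * q = Nat.card K₂ * q := by rw [hc₁, hc₂]
      exact (Nat.eq_of_mul_eq_mul_right hq.pos this).le
    exact hne (Subgroup.eq_of_le_of_card_ge h4 hcc).symm
  · rw [h1, hc₁] at hd
    exact (Subgroup.eq_of_le_of_card_ge hJ hd.ge).ge

end fpf

/-- if `M` is cyclic, commutators of normalizing elements centralize `M` -/
theorem commutator_centralizes_cyclic {M : Subgroup G} {m₀ : G} (hM : ∀ m ∈ M, m ∈ Subgroup.zpowers m₀)
    (hm₀ : m₀ ∈ M) {g h : G} (hg : ∀ m ∈ M, g * m * g⁻¹ ∈ M) (hh : ∀ m ∈ M, h * m * h⁻¹ ∈ M) :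
    ∀ m ∈ M, (g * h) * m * (g * h)⁻¹ = (h * g) * m * (h * g)⁻¹ := by
  obtain ⟨i, hi⟩ := Subgroup.mem_zpowers_iff.mp (hM _ (hg m₀ hm₀))
  obtain ⟨j, hj⟩ := Subgroup.mem_zpowers_iff.mp (hM _ (hh m₀ hm₀))
  have conj_zpow : ∀ (t u : G) (n : ℤ), t * u ^ n * t⁻¹ = (t * u * t⁻¹) ^ n := by
    intro t u n
    have := map_zpow (MulAut.conj t) u n
    simpa [MulAut.conj_apply] using this
  have key : (g * h) * m₀ * (g * h)⁻¹ = (h * g) * m₀ * (h * g)⁻¹ := by
    have e1 : (g * h) * m₀ * (g * h)⁻¹ = g * (h * m₀ * h⁻¹) * g⁻¹ := by group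
    have e2 : (h * g) * m₀ * (h * g)⁻¹ = h * (g * m₀ * g⁻¹) * h⁻¹ := by group
    rw [e1, e2, ← hi, ← hj, conj_zpow, conj_zpow, ← hi, ← hj, ← zpow_mul, ← zpow_mul, mul_comm]
  intro m hm
  obtain ⟨n, rfl⟩ := Subgroup.mem_zpowers_iff.mp (hM m hm)
  rw [conj_zpow, conj_zpow, key]

end Cfsg.Agent.Lib.Helper4.BGZ
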