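import Mathlib
import Cfsg.Agent.Lib.Helper4.BGZB
import Cfsg.Agent.S0027

/-!
Bender–Glauberman Theorem 3.6 (helper4), part C: the final configuration `Cfg` (a `q`-group `M`,
an abelian `p`-group `A` and an element `x` of prime order acting fixed-point-freely on `A`, with
`M` minimal subject to `[M, A] ≠ 1`, all acting on an elementary abelian `p`-group `V`) and its
first consequences.
-/

set_option autoImplicit false

namespace Cfsg.Agent.Lib.Helper4.BGZ

/-- the final configuration -/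
structure Cfg (G V : Type*) [Group G] [CommGroup V] [MulDistribMulAction G V] (p q : ℕ)
    (M A : Subgroup G) (x : G) : Prop where
  odd : Odd (Nat.card G)
  hpq : p ≠ q
  exp : ∀ v : V, v ^ p = 1
  hM : IsPGroup q M
  hA : IsPGroup p A
  hAc : ∀ a ∈ A, ∀ b ∈ A, a * b = b * a
  hxr : (orderOf x).Prime
  hxp : orderOf x ≠ p
  hxq : orderOf x ≠ q
  hAM : A ≤ Subgroup.normalizer (M : Set G)
  hxM : x ∈ Subgroup.normalizer (M : Set G)
  hxA : x ∈ Subgroup.normalizer (A : Set G)
  fpf : ∀ a ∈ A, x * a = a * x → a = 1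
  faith : ∀ m ∈ M, (∀ v : V, m • v = v) → m = 1
  hMA : ¬ A ≤ Subgroup.centralizer (M : Set G)
  hmin : ∀ M₂ : Subgroup G, M₂ ≤ M → A ≤ Subgroup.normalizer (M₂ : Set G) →
    x ∈ Subgroup.normalizer (M₂ : Set G) → M₂ ≠ M → A ≤ Subgroup.centralizer (M₂ : Set G)
  hCV : Nat.card (fix V ({x} : Set G)) ≤ p
  hCM : IsCyclic ↥(M ⊓ Subgroup.centralizer ({x} : Set G))
  hCG : ∀ E S : Subgroup G, E ≤ M → (∀ a ∈ E, ∀ b ∈ E, a * b = b * a) → S ≤ E →
    (∃ s ∈ S, ∃ v : V, s • v ≠ v) →
    ∃ B : Subgroup G, B ≤ E ∧ (∃ a ∈ E, B ⊔ Subgroup.zpowers a = E) ∧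
      ∃ s ∈ S, ∃ v ∈ fix V (B : Set G), s • v ≠ v

section general
variable {G : Type*} [Group G]

theorem conj_mem_of_mem_normalizer {g : G} {K : Subgroup G} (hg : g ∈ Subgroup.normalizer (K : Set G))
    {k : G} (hk : k ∈ K) : g * k * g⁻¹ ∈ K := (Subgroup.mem_normalizer_iff.mp hg k).mp hk

theorem cj_commutator (g : G) (H K : Subgroup G) : cj g ⁅H, K⁆ = ⁅cj g H, cj g K⁆ := by
  unfold cj
  exact Subgroup.map_commutator _ _ _

theorem mem_normalizer_commutator {g : G} {H K : Subgroup G}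
    (hH : g ∈ Subgroup.normalizer (H : Set G)) (hK : g ∈ Subgroup.normalizer (K : Set G)) :
    g ∈ Subgroup.normalizer ((⁅H, K⁆ : Subgroup G) : Set G) := by
  rw [← cj_eq_self_iff] at hH hK ⊢
  rw [cj_commutator, hH, hK]

theorem mem_normalizer_inf {g : G} {H K : Subgroup G}
    (hH : g ∈ Subgroup.normalizer (H : Set G)) (hK : g ∈ Subgroup.normalizer (K : Set G)) :
    g ∈ Subgroup.normalizer ((H ⊓ K : Subgroup G) : Set G) := by
  rw [Subgroup.mem_normalizer_iff] at hH hK ⊢
  intro h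
  rw [Subgroup.mem_inf, Subgroup.mem_inf, hH h, hK h]

theorem mem_normalizer_normalizer {g : G} {H : Subgroup G}
    (hH : g ∈ Subgroup.normalizer (H : Set G)) :
    g ∈ Subgroup.normalizer ((Subgroup.normalizer (H : Set G) : Subgroup G) : Set G) :=
  Subgroup.le_normalizer hH

theorem mem_normalizer_centralizer {g : G} {H : Subgroup G}
    (hH : g ∈ Subgroup.normalizer (H : Set G)) :
    g ∈ Subgroup.normalizer ((Subgroup.centralizer (H : Set G) : Subgroup G) : Set G) := by
  have key : ∀ t : G, t ∈ Subgroup.normalizer (H : Set G) →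
      ∀ c ∈ Subgroup.centralizer (H : Set G), t * c * t⁻¹ ∈ Subgroup.centralizer (H : Set G) := by
    intro t ht c hc
    rw [Subgroup.mem_centralizer_iff] at hc ⊢
    intro h hh
    have h1 : t⁻¹ * h * t ∈ H := by
      have := conj_mem_of_mem_normalizer (inv_mem ht) hh
      simpa using this
    have h2 := hc _ h1
    calc h * (t * c * t⁻¹) = t * ((t⁻¹ * h * t) * c) * t⁻¹ := by group
      _ = t * (c * (t⁻¹ * h * t)) * t⁻¹ := by rw [h2]
      _ = t * c * t⁻¹ * h := by group
  rw [Subgroup.mem_normalizer_iff]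
  intro c
  refine ⟨key g hH c, fun hc => ?_⟩
  have := key g⁻¹ (inv_mem hH) _ hc
  simpa [mul_assoc] using this

/-- in a finite `q`-group a proper subgroup is properly contained in its normalizer -/
theorem exists_mem_normalizer_not_mem [Finite G] {q : ℕ} [Fact q.Prime] {M M₂ : Subgroup G}
    (hM : IsPGroup q M) (h₂ : M₂ ≤ M) (hne : M₂ ≠ M) :
    ∃ y ∈ M, y ∈ Subgroup.normalizer (M₂ : Set G) ∧ y ∉ M₂ := by
  haveI : Group.IsNilpotent ↥M := hM.isNilpotent
  have hlt : M₂.subgroupOf M < ⊤ := by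
    rw [lt_top_iff_ne_top]
    intro h
    rw [Subgroup.subgroupOf_eq_top] at h
    exact hne (le_antisymm h₂ h)
  have hnc := Group.normalizerCondition_of_isNilpotent (G := ↥M) (M₂.subgroupOf M) hlt
  obtain ⟨y, hyN, hyQ⟩ := SetLike.exists_of_lt hnc
  rw [← Subgroup.subgroupOf_normalizer_eq h₂, Subgroup.mem_subgroupOf] at hyN
  exact ⟨y, y.2, hyN, fun h => hyQ (Subgroup.mem_subgroupOf.mpr h)⟩

end general

namespace Cfg
variable {G V : Type*} [Group G] [Finite G] [CommGroup V] [MulDistribMulAction G V] {p q : ℕ}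
  [hp : Fact p.Prime] [hq : Fact q.Prime] {M A : Subgroup G} {x : G}

theorem xr (h : Cfg G V p q M A x) : x ^ orderOf x = 1 := pow_orderOf_eq_one x

theorem copAM (h : Cfg G V p q M A x) : (Nat.card A).Coprime (Nat.card M) := by
  obtain ⟨a, ha⟩ := h.hA.exists_card_eq
  obtain ⟨b, hb⟩ := h.hM.exists_card_eq
  rw [ha, hb]
  exact Nat.Coprime.pow _ _ ((Nat.coprime_primes hp.out hq.out).mpr h.hpq)

theorem solvA (h : Cfg G V p q M A x) : Group.IsSolvable ↥A := by
  haveI : Group.IsNilpotent ↥A := h.hA.isNilpotent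
  infer_instance

theorem comm_le (h : Cfg G V p q M A x) : ⁅M, A⁆ ≤ M := by
  rw [Subgroup.commutator_le]
  intro m hm a ha
  rw [commutatorElement_def]
  have h1 : a * m⁻¹ * a⁻¹ ∈ M := conj_mem_of_mem_normalizer (h.hAM ha) (inv_mem hm)
  have e : m * a * m⁻¹ * a⁻¹ = m * (a * m⁻¹ * a⁻¹) := by group
  rw [e]; exact mul_mem hm h1

theorem comm_eq (h : Cfg G V p q M A x) : ⁅M, A⁆ = M := by
  by_contra hne
  have hAn : A ≤ Subgroup.normalizer ((⁅M, A⁆ : Subgroup G) : Set G) :=
    fun a ha => mem_normalizer_commutator (h.hAM ha) (Subgroup.le_normalizer ha)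
  have hxn : x ∈ Subgroup.normalizer ((⁅M, A⁆ : Subgroup G) : Set G) :=
    mem_normalizer_commutator h.hxM h.hxA
  have h1 := h.hmin _ h.comm_le hAn hxn hne
  have h2 : ⁅⁅M, A⁆, A⁆ = ⊥ := by
    rw [Subgroup.commutator_eq_bot_iff_le_centralizer]
    exact Subgroup.le_centralizer_iff.mp h1
  rw [Cfsg.Agent.S0027.result A M h.hAM h.copAM (Or.inl h.solvA)] at h2
  apply h.hMA
  rw [Subgroup.commutator_eq_bot_iff_le_centralizer] at h2
  exact Subgroup.le_centralizer_iff.mp h2

/-- property (P): proper invariant subgroups of `M` are central in `M` -/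
theorem propP (h : Cfg G V p q M A x) : ∀ (n : ℕ) (M₂ : Subgroup G), M₂ ≤ M →
    A ≤ Subgroup.normalizer (M₂ : Set G) → x ∈ Subgroup.normalizer (M₂ : Set G) → M₂ ≠ M →
    Nat.card M - Nat.card M₂ = n → M₂ ≤ Subgroup.centralizer (M : Set G) := by
  intro n
  induction n using Nat.strong_induction_on with
  | _ n ih =>
    intro M₂ h₂ hA₂ hx₂ hne hn
    by_cases hnorm : M ≤ Subgroup.normalizer (M₂ : Set G)
    · -- three subgroups lemma
      have hc := h.hmin M₂ h₂ hA₂ hx₂ hne
      have e1 : ⁅M₂, A⁆ = ⊥ := by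
        rw [Subgroup.commutator_eq_bot_iff_le_centralizer]
        exact Subgroup.le_centralizer_iff.mp hc
      have h1 : ⁅⁅M, M₂⁆, A⁆ = ⊥ := by
        have hle : ⁅M, M₂⁆ ≤ M₂ := by
          rw [Subgroup.commutator_le]
          intro m hm k hk
          rw [commutatorElement_def]
          exact mul_mem (conj_mem_of_mem_normalizer (hnorm hm) hk) (inv_mem hk)
        rw [eq_bot_iff, ← e1]
        exact Subgroup.commutator_mono hle le_rfl
      have h2 : ⁅⁅M₂, A⁆, M⁆ = ⊥ := by rw [e1, Subgroup.commutator_bot_left]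
      have h3 := Subgroup.commutator_commutator_eq_bot_of_rotate h1 h2
      rw [Subgroup.commutator_comm A M, h.comm_eq, Subgroup.commutator_eq_bot_iff_le_centralizer] at h3
      exact Subgroup.le_centralizer_iff.mp h3
    · -- pass to the normalizer
      obtain ⟨y, hyM, hyN, hyn⟩ := exists_mem_normalizer_not_mem h.hM h₂ hne
      set N := Subgroup.normalizer (M₂ : Set G) ⊓ M with hN
      have hNM : N ≤ M := inf_le_right
      have hM₂N : M₂ ≤ N := le_inf Subgroup.le_normalizer h₂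
      have hNne : N ≠ M := by
        intro e
        apply hnorm
        rw [← e]; exact inf_le_left
      have hAN : A ≤ Subgroup.normalizer (N : Set G) :=
        fun a ha => mem_normalizer_inf (mem_normalizer_normalizer (hA₂ ha)) (h.hAM ha)
      have hxN : x ∈ Subgroup.normalizer (N : Set G) :=
        mem_normalizer_inf (mem_normalizer_normalizer hx₂) h.hxM
      have hlt : Nat.card M₂ < Nat.card N := by
        apply lt_of_le_of_ne (Subgroup.card_le_of_le hM₂N)
        intro e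
        have e2 := Subgroup.eq_of_le_of_card_ge hM₂N e.ge
        exact hyn (by rw [e2]; exact ⟨hyN, hyM⟩)
      have hNle : Nat.card N ≤ Nat.card M := Subgroup.card_le_of_le hNM
      have := ih (Nat.card M - Nat.card N) (by omega) N hNM hAN hxN hNne rfl
      exact hM₂N.trans this

theorem le_center (h : Cfg G V p q M A x) {M₂ : Subgroup G} (h₂ : M₂ ≤ M)
    (hA₂ : A ≤ Subgroup.normalizer (M₂ : Set G)) (hx₂ : x ∈ Subgroup.normalizer (M₂ : Set G))
    (hne : M₂ ≠ M) : M₂ ≤ Subgroup.centralizer (M : Set G) :=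
  h.propP _ M₂ h₂ hA₂ hx₂ hne rfl

end Cfg

end Cfsg.Agent.Lib.Helper4.BGZ
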