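import Mathlib
import Cfsg.Agent.Lib.Helper4.BGZC
import Cfsg.Agent.S0055
import Cfsg.Agent.S0056
import Cfsg.Agent.H1.CoprimeAction

/-!
Bender–Glauberman Theorem 3.6 (helper4), part D: the final configuration with `M` abelian is
impossible.
-/

set_option autoImplicit false

namespace Cfsg.Agent.Lib.Helper4.BGZ

section general
variable {G : Type*} [Group G]

theorem pow_conj' (g m : G) (n : ℕ) : (g * m * g⁻¹) ^ n = g * m ^ n * g⁻¹ := by
  have := map_pow (MulAut.conj g) m n
  simpa [MulAut.conj_apply] using this.symm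

/-- in a group of odd order squares determine membership -/
theorem mem_of_sq_mem [Finite G] (hodd : Odd (Nat.card G)) {I : Subgroup G} {a : G} (h : a * a ∈ I) :
    a ∈ I := by
  have h1 : Odd (orderOf a) := Odd.of_dvd_nat hodd (orderOf_dvd_natCard a)
  obtain ⟨k, hk⟩ := h1
  have h2 : a = (a * a) ^ (k + 1) := by
    rw [← pow_two, ← pow_mul]
    have : 2 * (k + 1) = orderOf a + 1 := by omega
    rw [this, pow_succ, pow_orderOf_eq_one, one_mul]
  rw [h2]; exact pow_mem h _

theorem cj_pow_sub {x : G} {K₁ K₂ : Subgroup G} {i j : ℕ} (hji : j ≤ i)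
    (h : cj (x ^ i) K₁ = cj (x ^ j) K₂) : cj (x ^ (i - j)) K₁ = K₂ := by
  have e : x ^ i = x ^ j * x ^ (i - j) := by rw [← pow_add]; congr 1; omega
  rw [e, cj_mul] at h
  exact cj_injective _ h

theorem card_le_mul_of_sup_zpowers [Finite G] {M K : Subgroup G} {a : G} {q : ℕ} (hq : 0 < q)
    (hMab : ∀ a ∈ M, ∀ b ∈ M, a * b = b * a) (hKM : K ≤ M) (ha : a ∈ M) (haq : a ^ q = 1)
    (hsup : K ⊔ Subgroup.zpowers a = M) : Nat.card M ≤ Nat.card K * q := by
  have hnorm : Subgroup.zpowers a ≤ Subgroup.normalizer (K : Set G) := by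
    intro z hz
    rw [Subgroup.mem_normalizer_iff]
    have hzM : z ∈ M := by rw [← hsup]; exact (le_sup_right : Subgroup.zpowers a ≤ _) hz
    intro k
    constructor
    · intro hk
      have : z * k * z⁻¹ = k := by rw [hMab z hzM k (hKM hk)]; group
      rw [this]; exact hk
    · intro hk
      have hkM : k ∈ M := by
        have := hKM hk
        have e : k = z⁻¹ * (z * k * z⁻¹) * z := by group
        rw [e]; exact mul_mem (mul_mem (inv_mem hzM) this) hzM
      have : z * k * z⁻¹ = k := by rw [hMab z hzM k hkM]; group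
      rwa [this] at hk
  have hsurj : Function.Surjective (fun u : ↥K × Fin q => (⟨(u.1 : G) * a ^ (u.2 : ℕ),
      by rw [← hsup]; exact mul_mem ((le_sup_left : K ≤ _) u.1.2)
          ((le_sup_right : Subgroup.zpowers a ≤ _) (Subgroup.npow_mem_zpowers _ _))⟩ : ↥M)) := by
    rintro ⟨m, hm⟩
    rw [← hsup] at hm
    obtain ⟨k, hk, z, hz, rfl⟩ := (Cfsg.Agent.H1.mem_sup_of_le_normalizer K _ hnorm).mp hm
    obtain ⟨n, rfl⟩ := Subgroup.mem_zpowers_iff.mp hz
    refine ⟨(⟨k, hk⟩, ⟨(n % (q : ℤ)).toNat, ?_⟩), ?_⟩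
    · have h1 : 0 ≤ n % (q : ℤ) := Int.emod_nonneg _ (by exact_mod_cast hq.ne')
      have h2 : n % (q : ℤ) < q := Int.emod_lt_of_pos _ (by exact_mod_cast hq)
      omega
    · apply Subtype.ext
      show k * a ^ (n % (q : ℤ)).toNat = k * a ^ n
      congr 1
      have h1 : 0 ≤ n % (q : ℤ) := Int.emod_nonneg _ (by exact_mod_cast hq.ne')
      rw [← zpow_natCast, Int.toNat_of_nonneg h1]
      conv_rhs => rw [← Int.emod_add_mul_ediv n q]
      rw [zpow_add, zpow_mul, zpow_natCast, haq, one_zpow, mul_one]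
  have := Nat.card_le_card_of_surjective _ hsurj
  rwa [Nat.card_prod, Nat.card_fin] at this

end general

section hyp
variable {G V : Type*} [Group G] [Finite G] [CommGroup V] [Finite V] [MulDistribMulAction G V]

/-- hyperplanes of `M` with nontrivial weight space -/
def Hyp (V : Type*) [CommGroup V] [MulDistribMulAction G V] (M : Subgroup G) (q : ℕ)
    (K : Subgroup G) : Prop :=
  K ≤ M ∧ Nat.card K * q = Nat.card M ∧ wt V M K ≠ ⊥

theorem Hyp.conj {M K : Subgroup G} {q : ℕ} (hK : Hyp V M q K) {g : G}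
    (hg : g ∈ Subgroup.normalizer (M : Set G)) : Hyp V M q (cj g K) := by
  have hgM : ∀ m ∈ M, g * m * g⁻¹ ∈ M := fun m hm => conj_mem_of_mem_normalizer hg hm
  refine ⟨cj_le_of_normalizes hgM hK.1, by rw [card_cj]; exact hK.2.1, ?_⟩
  obtain ⟨w, hw1⟩ := (Subgroup.ne_bot_iff_exists_ne_one).mp hK.2.2
  have hw1' : (w : V) ≠ 1 := fun e => hw1 (Subtype.ext e)
  intro hbot
  have h1 : g • (w : V) ∈ wt V M (cj g K) := smul_mem_wt_cj hgM w.2
  rw [hbot, Subgroup.mem_bot] at h1
  apply hw1'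
  have := congrArg (fun t => g⁻¹ • t) h1
  simpa using this

theorem le_card_of_ne_bot {p : ℕ} [hp : Fact p.Prime] (hexp : ∀ v : V, v ^ p = 1) {W : Subgroup V}
    (hW : W ≠ ⊥) : p ≤ Nat.card W := by
  obtain ⟨w, hw1⟩ := (Subgroup.ne_bot_iff_exists_ne_one).mp hW
  have h1 : orderOf w ∣ p := orderOf_dvd_of_pow_eq_one (Subtype.ext (by simpa using hexp w))
  rcases (Nat.dvd_prime hp.out).mp h1 with h2 | h2
  · exact absurd (orderOf_eq_one_iff.mp h2) hw1
  · rw [← h2]
    exact Nat.le_of_dvd Nat.card_pos (orderOf_dvd_natCard w)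

end hyp

namespace Cfg
variable {G V : Type*} [Group G] [Finite G] [CommGroup V] [Finite V] [MulDistribMulAction G V]
  {p q : ℕ} [hp : Fact p.Prime] [hq : Fact q.Prime] {M A : Subgroup G} {x : G}

theorem xM (h : Cfg G V p q M A x) : ∀ m ∈ M, x * m * x⁻¹ ∈ M :=
  fun _ hm => conj_mem_of_mem_normalizer h.hxM hm

theorem xA (h : Cfg G V p q M A x) : ∀ a ∈ A, x * a * x⁻¹ ∈ A :=
  fun _ ha => conj_mem_of_mem_normalizer h.hxA ha

theorem copM (h : Cfg G V p q M A x) : (Nat.card M).Coprime p := by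
  obtain ⟨b, hb⟩ := h.hM.exists_card_eq
  rw [hb]
  exact Nat.Coprime.pow_left _ ((Nat.coprime_primes hq.out hp.out).mpr h.hpq.symm)

theorem xpow_mem_normalizer (h : Cfg G V p q M A x) (j : ℕ) :
    x ^ j ∈ Subgroup.normalizer (M : Set G) := pow_mem h.hxM j

/-- the counting inequality for a family of hyperplanes with pairwise distinct `x`-conjugates -/
theorem count (h : Cfg G V p q M A x) (hMab : ∀ a ∈ M, ∀ b ∈ M, a * b = b * a)
    {ι : Type*} [Fintype ι] (κ : ι → Subgroup G) (hκ : ∀ i, Hyp V M q (κ i))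
    (hdist : ∀ a b : Fin (orderOf x) × ι, a ≠ b →
      cj (x ^ (a.1 : ℕ)) (κ a.2) ≠ cj (x ^ (b.1 : ℕ)) (κ b.2)) :
    ∏ i, Nat.card (wt V M (κ i)) ≤ p := by
  refine le_trans ?_ h.hCV
  apply card_wt_le h.exp hMab h.copM x (orderOf x) h.hxr.pos h.xr h.xM κ (fun i => (hκ i).1)
  intro a b hab
  have ha := (hκ a.2).conj (h.xpow_mem_normalizer (a.1 : ℕ))
  have hb := (hκ b.2).conj (h.xpow_mem_normalizer (b.1 : ℕ))
  exact le_sup_of_hyperplanes hq.out ha.1 hb.1 ha.2.1 hb.2.1 (hdist a b hab)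

theorem two_false (h : Cfg G V p q M A x) (hMab : ∀ a ∈ M, ∀ b ∈ M, a * b = b * a)
    (κ : Bool → Subgroup G) (hκ : ∀ i, Hyp V M q (κ i))
    (hdist : ∀ a b : Fin (orderOf x) × Bool, a ≠ b →
      cj (x ^ (a.1 : ℕ)) (κ a.2) ≠ cj (x ^ (b.1 : ℕ)) (κ b.2)) : False := by
  have h1 := h.count hMab κ hκ hdist
  rw [Fintype.prod_bool] at h1
  have h2 := le_card_of_ne_bot h.exp (hκ true).2.2
  have h3 := le_card_of_ne_bot h.exp (hκ false).2.2
  have h4 : p * p ≤ p := le_trans (Nat.mul_le_mul h2 h3) h1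
  have := hp.out.two_le
  nlinarith

theorem r_odd (h : Cfg G V p q M A x) : Odd (orderOf x) :=
  Odd.of_dvd_nat h.odd (orderOf_dvd_natCard x)

theorem not_dvd_two_mul (h : Cfg G V p q M A x) {d : ℕ} (hd : ¬ orderOf x ∣ d) :
    ¬ orderOf x ∣ 2 * d := by
  intro h2
  rcases (Nat.Prime.dvd_mul h.hxr).mp h2 with h3 | h3
  · have := (Nat.prime_dvd_prime_iff_eq h.hxr Nat.prime_two).mp h3
    have ho := h.r_odd
    rw [this] at ho
    exact absurd ho (by decide)
  · exact hd h3

theorem fpf_pow' (h : Cfg G V p q M A x) {d : ℕ} (hd : ¬ orderOf x ∣ d) :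
    ∀ a ∈ A, x ^ d * a = a * x ^ d → a = 1 :=
  fpf_pow h.hxr h.xr hd h.fpf

/-- reduce distinctness of the conjugates to the ordered case -/
theorem dist_of_ordered {ι : Type*} (x : G) (r : ℕ) (κ : ι → Subgroup G)
    (key : ∀ (i j : ℕ) (b b' : ι), j ≤ i → i < r → ((i, b) : ℕ × ι) ≠ (j, b') →
      cj (x ^ (i - j)) (κ b) ≠ κ b') :
    ∀ a b : Fin r × ι, a ≠ b → cj (x ^ (a.1 : ℕ)) (κ a.2) ≠ cj (x ^ (b.1 : ℕ)) (κ b.2) := by
  rintro ⟨⟨i, hi⟩, b⟩ ⟨⟨j, hj⟩, b'⟩ hne heq
  simp only at heq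
  have hne' : ((i, b) : ℕ × ι) ≠ (j, b') := by
    intro e
    apply hne
    rw [Prod.mk.injEq] at e
    rw [Prod.mk.injEq, Fin.mk.injEq]
    exact e
  rcases le_total j i with hji | hij
  · exact key i j b b' hji hi hne' (cj_pow_sub hji heq)
  · exact key j i b' b hij hj (Ne.symm hne') (cj_pow_sub hij heq.symm)

/-- the case of an `x`-invariant hyperplane not normalized by `A` -/
theorem xinv_false (h : Cfg G V p q M A x) (hMab : ∀ a ∈ M, ∀ b ∈ M, a * b = b * a)
    {K : Subgroup G} (hK : Hyp V M q K) (hxK : x ∈ Subgroup.normalizer (K : Set G)) {a : G}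
    (ha : a ∈ A) (haK : a ∉ Subgroup.normalizer (K : Set G)) : False := by
  set I := A ⊓ Subgroup.normalizer (K : Set G) with hI
  have hIA : I ≤ A := inf_le_left
  have haI : a ∉ I := fun h' => haK (Subgroup.mem_inf.mp h').2
  have hainvI : a⁻¹ ∉ I := fun h' => haI (by simpa using inv_mem h')
  have hxI : ∀ j : ℕ, x ^ j ∈ Subgroup.normalizer (I : Set G) := fun j =>
    mem_normalizer_inf (pow_mem h.hxA j) (mem_normalizer_normalizer (pow_mem hxK j))
  have hcjx : ∀ j : ℕ, cj (x ^ j) K = K := cj_pow_eq_self (cj_eq_self_iff.mpr hxK)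
  -- conjugating a translate
  have hI2 : ∀ (j : ℕ) (c : G), cj (x ^ j) (cj c K) = cj (x ^ j * c * (x ^ j)⁻¹) K := by
    intro j c
    rw [← cj_mul]
    have e : x ^ j * c = (x ^ j * c * (x ^ j)⁻¹) * x ^ j := by group
    conv_lhs => rw [e, cj_mul, hcjx]
  -- equality of translates
  have hI3 : ∀ c₁ c₂ : G, c₁ ∈ A → c₂ ∈ A → cj c₁ K = cj c₂ K → c₂⁻¹ * c₁ ∈ I := by
    intro c₁ c₂ h₁ h₂ e
    exact Subgroup.mem_inf.mpr ⟨mul_mem (inv_mem h₂) h₁, cj_eq_self_iff.mp (cj_eq_iff.mp e)⟩
  have hpA : ∀ (j : ℕ) (c : G), c ∈ A → x ^ j * c * (x ^ j)⁻¹ ∈ A :=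
    fun j c hc => conj_mem_of_mem_normalizer (pow_mem h.hxA j) hc
  -- the two basic obstructions
  have obs1 : ∀ (d : ℕ) (e : G), ¬ orderOf x ∣ d → e ∈ A → e ∉ I →
      e⁻¹ * (x ^ d * e * (x ^ d)⁻¹) ∉ I := by
    intro d e hd he heI hmem
    apply heI
    apply fpf_mem hIA (fun b hb => conj_mem_of_mem_normalizer (hxI d) hb) (h.fpf_pow' hd) he
    rwa [h.hAc _ (hpA d e he) _ (inv_mem he)]
  have obs2 : ∀ (d : ℕ) (e : G), ¬ orderOf x ∣ d → e ∈ A → e ∉ I →
      e * (x ^ d * e * (x ^ d)⁻¹) ∉ I := by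
    intro d e hd he heI hmem
    apply heI
    have h1 : x ^ d * (e * (x ^ d * e * (x ^ d)⁻¹)) * (x ^ d)⁻¹ ∈ I :=
      conj_mem_of_mem_normalizer (hxI d) hmem
    have h2 : (x ^ d * (e * (x ^ d * e * (x ^ d)⁻¹)) * (x ^ d)⁻¹) *
        (e * (x ^ d * e * (x ^ d)⁻¹))⁻¹ ∈ I := mul_mem h1 (inv_mem hmem)
    have hy : x ^ d * e * (x ^ d)⁻¹ ∈ A := hpA d e he
    have hyy : x ^ (2 * d) * e * (x ^ (2 * d))⁻¹ ∈ A := hpA (2 * d) e he
    have e3 : (x ^ d * (e * (x ^ d * e * (x ^ d)⁻¹)) * (x ^ d)⁻¹) *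
        (e * (x ^ d * e * (x ^ d)⁻¹))⁻¹ = x ^ (2 * d) * e * (x ^ (2 * d))⁻¹ * e⁻¹ := by
      have e4 : x ^ d * (e * (x ^ d * e * (x ^ d)⁻¹)) * (x ^ d)⁻¹ =
          (x ^ d * e * (x ^ d)⁻¹) * (x ^ (2 * d) * e * (x ^ (2 * d))⁻¹) := by
        rw [two_mul, pow_add]; group
      rw [e4, mul_inv_rev, h.hAc _ hy _ hyy, mul_assoc, ← mul_assoc (x ^ d * e * (x ^ d)⁻¹),
        mul_inv_cancel, one_mul]
    rw [e3] at h2
    exact fpf_mem hIA (fun b hb => conj_mem_of_mem_normalizer (hxI (2 * d)) hb)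
      (h.fpf_pow' (h.not_dvd_two_mul hd)) he h2
  -- the family
  refine h.two_false hMab (fun b => cj (if b then a else a⁻¹) K) (fun b => ?_) ?_
  · apply hK.conj
    by_cases hb : b = true
    · simp only [hb, if_true]; exact h.hAM ha
    · simp only [hb]; exact h.hAM (inv_mem ha)
  · apply dist_of_ordered x (orderOf x) (fun b : Bool => cj (if b then a else a⁻¹) K)
    intro i j b b' hji hi hne heq
    rw [hI2] at heq
    have heA : ∀ b : Bool, (if b then a else a⁻¹) ∈ A := by
      intro b; by_cases hb : b = true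
      · simp only [hb, if_true]; exact ha
      · simp only [hb]; exact inv_mem ha
    have heI : ∀ b : Bool, (if b then a else a⁻¹) ∉ I := by
      intro b; by_cases hb : b = true
      · simp only [hb, if_true]; exact haI
      · simp only [hb]; exact hainvI
    have h3 := hI3 _ _ (hpA (i - j) _ (heA b)) (heA b') heq
    by_cases hd0 : i - j = 0
    · have hij : i = j := by omega
      have hbb : b ≠ b' := fun e => hne (by rw [hij, e])
      rw [hd0, pow_zero, inv_one, mul_one, one_mul] at h3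
      apply haI
      apply mem_of_sq_mem h.odd
      cases b <;> cases b'
      · exact absurd rfl hbb
      · simp at h3
        have := inv_mem h3
        simpa using this
      · simpa using h3
      · exact absurd rfl hbb
    · have hd : ¬ orderOf x ∣ (i - j) := not_dvd_of_pos_of_lt (Nat.pos_of_ne_zero hd0) (by omega)
      by_cases hbb : b = b'
      · rw [hbb] at h3
        exact obs1 (i - j) _ hd (heA b') (heI b') h3
      · have e5 : (if b' = true then a else a⁻¹)⁻¹ = (if b = true then a else a⁻¹) := by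
          cases b <;> cases b' <;> simp_all
        rw [e5] at h3
        exact obs2 (i - j) _ hd (heA b) (heI b) h3

/-- the case of a hyperplane not normalized by `A` -/
theorem notAinv_false (h : Cfg G V p q M A x) (hMab : ∀ a ∈ M, ∀ b ∈ M, a * b = b * a)
    {K : Subgroup G} (hK : Hyp V M q K) {a : G}
    (ha : a ∈ A) (haK : a ∉ Subgroup.normalizer (K : Set G)) : False := by
  have hpA : ∀ (j : ℕ) (c : G), c ∈ A → x ^ j * c * (x ^ j)⁻¹ ∈ A :=
    fun j c hc => conj_mem_of_mem_normalizer (pow_mem h.hxA j) hc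
  by_cases hd : ∃ d : ℕ, 0 < d ∧ d < orderOf x ∧ ∃ a₀ ∈ A, cj (x ^ d) K = cj a₀ K
  · obtain ⟨d, hd0, hdr, a₀, ha₀, hda⟩ := hd
    have hnd : ¬ orderOf x ∣ d := not_dvd_of_pos_of_lt hd0 hdr
    obtain ⟨a₁, ha₁, he⟩ := fpf_surj (hpA d) (h.fpf_pow' hnd) (inv_mem ha₀)
    have hK' : Hyp V M q (cj a₁ K) := hK.conj (h.hAM ha₁)
    have hx' : x ∈ Subgroup.normalizer ((cj a₁ K : Subgroup G) : Set G) := by
      apply mem_of_pow_mem h.hxr h.xr hnd
      rw [← cj_eq_self_iff, ← cj_mul]
      have e1 : x ^ d * a₁ = (x ^ d * a₁ * (x ^ d)⁻¹) * x ^ d := by group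
      rw [e1, cj_mul, hda, ← cj_mul]
      congr 1
      have e2 : x ^ d * a₁ * (x ^ d)⁻¹ = a₀⁻¹ * a₁ := by
        rw [← he]; group
      rw [e2, mul_assoc, h.hAc a₁ ha₁ a₀ ha₀, ← mul_assoc, inv_mul_cancel, one_mul]
    have ha' : a ∉ Subgroup.normalizer ((cj a₁ K : Subgroup G) : Set G) := by
      intro hmem
      apply haK
      rw [← cj_eq_self_iff, ← cj_mul] at hmem
      have := cj_eq_iff.mp hmem
      rw [← cj_eq_self_iff]
      have e3 : a₁⁻¹ * (a * a₁) = a := by
        rw [h.hAc a ha a₁ ha₁, inv_mul_cancel_left]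
      rwa [e3] at this
    exact h.xinv_false hMab hK' hx' ha ha'
  · push_neg at hd
    refine h.two_false hMab (fun b => cj (if b then 1 else a) K) (fun b => ?_) ?_
    · apply hK.conj
      by_cases hb : b = true
      · simp only [hb, if_true]; exact one_mem _
      · simp only [hb]; exact h.hAM ha
    · apply dist_of_ordered x (orderOf x) (fun b : Bool => cj (if b then 1 else a) K)
      intro i j b b' hji hi hne heq
      have heA : ∀ b : Bool, (if b then (1 : G) else a) ∈ A := by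
        intro b; by_cases hb : b = true
        · simp only [hb, if_true]; exact one_mem _
        · simp only [hb]; exact ha
      by_cases hd0 : i - j = 0
      · have hij : i = j := by omega
        have hbb : b ≠ b' := fun e => hne (by rw [hij, e])
        rw [hd0, pow_zero, cj_one] at heq
        apply haK
        rw [← cj_eq_self_iff]
        cases b <;> cases b'
        · exact absurd rfl hbb
        · simpa [cj_one] using heq
        · simpa [cj_one] using heq.symm
        · exact absurd rfl hbb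
      · have hlt : i - j < orderOf x := by omega
        rw [← cj_mul] at heq
        have e1 : x ^ (i - j) * (if b = true then 1 else a) =
            (x ^ (i - j) * (if b = true then 1 else a) * (x ^ (i - j))⁻¹) * x ^ (i - j) := by group
        rw [e1, cj_mul] at heq
        set c := x ^ (i - j) * (if b = true then 1 else a) * (x ^ (i - j))⁻¹ with hc
        have hcA : c ∈ A := hpA _ _ (heA b)
        have h2 : cj (x ^ (i - j)) K = cj (c⁻¹ * (if b' = true then 1 else a)) K := by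
          rw [cj_mul, ← heq, ← cj_mul, inv_mul_cancel, cj_one]
        exact hd (i - j) (Nat.pos_of_ne_zero hd0) hlt _ (mul_mem (inv_mem hcA) (heA b')) h2

theorem hyp_ne (h : Cfg G V p q M A x) {K : Subgroup G} (hK : Hyp V M q K) : K ≠ M := by
  intro e
  have h1 := hK.2.1
  rw [e] at h1
  have hpos : 0 < Nat.card M := Nat.card_pos
  have : q = 1 := by nlinarith [hq.out.two_le]
  exact hq.out.one_lt.ne' this

/-- no hyperplane with nontrivial weight space is invariant under `A` and `x` -/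
theorem inv_false (h : Cfg G V p q M A x) (hMab : ∀ a ∈ M, ∀ b ∈ M, a * b = b * a)
    {K : Subgroup G} (hK : Hyp V M q K) (hAK : A ≤ Subgroup.normalizer (K : Set G))
    (hxK : x ∈ Subgroup.normalizer (K : Set G)) : False := by
  have hcent := h.hmin K hK.1 hAK hxK (h.hyp_ne hK)
  haveI : IsMulCommutative ↥M := IsMulCommutative.of_comm (fun a b => Subtype.ext (hMab a a.2 b b.2))
  have h1 := (Cfsg.Agent.S0055.result A M h.hAM h.copAM).1
  rw [h.comm_eq] at h1
  have hKbot : K = ⊥ := by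
    rw [eq_bot_iff, ← h1]
    exact le_inf (le_inf hK.1 (Subgroup.le_centralizer_iff.mp hcent)) hK.1
  have hcard : Nat.card M = q := by
    have := hK.2.1
    rw [hKbot, Subgroup.card_bot, one_mul] at this
    exact this.symm
  haveI : IsCyclic ↥M := isCyclic_of_prime_card hcard
  obtain ⟨g, hg⟩ := IsCyclic.exists_generator (α := ↥M)
  have hgen : ∀ m ∈ M, m ∈ Subgroup.zpowers (g : G) := by
    intro m hm
    obtain ⟨n, hn⟩ := Subgroup.mem_zpowers_iff.mp (hg ⟨m, hm⟩)
    rw [Subgroup.mem_zpowers_iff]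
    refine ⟨n, ?_⟩
    have := congrArg Subtype.val hn
    simpa using this
  apply h.hMA
  intro a' ha'
  obtain ⟨a, ha, hae⟩ := fpf_surj h.xA h.fpf ha'
  have hxn : ∀ m ∈ M, x * m * x⁻¹ ∈ M := h.xM
  have han : ∀ m ∈ M, a * m * a⁻¹ ∈ M := fun m hm => conj_mem_of_mem_normalizer (h.hAM ha) hm
  have key := commutator_centralizes_cyclic hgen g.2 hxn han
  rw [Subgroup.mem_centralizer_iff]
  intro m hm
  have hm' : (a * x)⁻¹ * m * (a * x) ∈ M := by
    have h2 : (a * x)⁻¹ ∈ Subgroup.normalizer (M : Set G) :=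
      inv_mem (mul_mem (h.hAM ha) h.hxM)
    have := conj_mem_of_mem_normalizer h2 hm
    simpa using this
  have h3 := key _ hm'
  have h4 : a' * m * a'⁻¹ = m := by
    rw [← hae]
    calc x * a * x⁻¹ * a⁻¹ * m * (x * a * x⁻¹ * a⁻¹)⁻¹
        = (x * a) * ((a * x)⁻¹ * m * (a * x)) * (x * a)⁻¹ := by group
      _ = (a * x) * ((a * x)⁻¹ * m * (a * x)) * (a * x)⁻¹ := h3
      _ = m := by group
  calc m * a' = (a' * m * a'⁻¹) * a' := by rw [h4]
    _ = a' * m := by group

/-- the case of a hyperplane normalized by `A` -/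
theorem Ainv_false (h : Cfg G V p q M A x) (hMab : ∀ a ∈ M, ∀ b ∈ M, a * b = b * a)
    {K : Subgroup G} (hK : Hyp V M q K) (hAK : A ≤ Subgroup.normalizer (K : Set G)) : False := by
  by_cases hxK : x ∈ Subgroup.normalizer (K : Set G)
  · exact h.inv_false hMab hK hAK hxK
  -- the weight space has order at most `p`
  have hcount : Nat.card (wt V M K) ≤ p := by
    have := h.count hMab (fun _ : Unit => K) (fun _ => hK) ?_
    · simpa using this
    · apply dist_of_ordered x (orderOf x) (fun _ : Unit => K)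
      intro i j b b' hji hi hne heq
      have hd0 : i - j ≠ 0 := by
        intro e
        apply hne
        have : i = j := by omega
        rw [this]
      apply hxK
      apply mem_of_pow_mem h.hxr h.xr
        (not_dvd_of_pos_of_lt (Nat.pos_of_ne_zero hd0) (by omega : i - j < orderOf x))
      rw [← cj_eq_self_iff]; exact heq
  -- `A` acts trivially on the weight space
  have hAW : ∀ a ∈ A, ∀ w ∈ wt V M K, a • w ∈ wt V M K := by
    intro a ha w hw
    have := smul_mem_wt_cj (V := V) (fun m hm => conj_mem_of_mem_normalizer (h.hAM ha) hm) hw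
    rwa [cj_eq_self_iff.mpr (hAK ha)] at this
  have hAtriv : ∀ a ∈ A, ∀ w ∈ wt V M K, a • w = w := by
    intro a ha w hw
    by_cases hw1 : w = 1
    · rw [hw1, smul_one]
    obtain ⟨n, hn⟩ := h.hA.card_orbit w
    have hsub : MulAction.orbit ↥A w ⊆ ((wt V M K : Subgroup V) : Set V) \ {1} := by
      rintro _ ⟨b, rfl⟩
      refine ⟨hAW b b.2 w hw, ?_⟩
      rw [Set.mem_singleton_iff]
      intro e
      apply hw1
      have := congrArg (fun t => (b : G)⁻¹ • t) e
      simpa [Subgroup.smul_def] using this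
    have hlt : Nat.card (MulAction.orbit ↥A w) < p := by
      have h1 : Set.ncard (MulAction.orbit ↥A w) ≤ Set.ncard (((wt V M K : Subgroup V) : Set V) \ {1}) :=
        Set.ncard_le_ncard hsub (Set.toFinite _)
      rw [Set.ncard_diff_singleton_of_mem (one_mem _)] at h1
      have h2 : Set.ncard ((wt V M K : Subgroup V) : Set V) = Nat.card (wt V M K) := rfl
      have h3 : Nat.card (MulAction.orbit ↥A w) = Set.ncard (MulAction.orbit ↥A w) := rfl
      have hpos : 0 < Nat.card (wt V M K) := Nat.card_pos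
      omega
    rw [hn] at hlt
    have hn0 : n = 0 := by
      by_contra hne
      have : p ^ 1 ≤ p ^ n := Nat.pow_le_pow_right hp.out.pos (Nat.one_le_iff_ne_zero.mpr hne)
      rw [pow_one] at this
      omega
    rw [hn0, pow_zero] at hn
    have hmem : (⟨a, ha⟩ : ↥A) • w ∈ MulAction.orbit ↥A w := ⟨⟨a, ha⟩, rfl⟩
    have hmem' : w ∈ MulAction.orbit ↥A w := MulAction.mem_orbit_self w
    have hsing := Nat.card_eq_one_iff_unique.mp hn
    haveI := hsing.1
    have := Subsingleton.elim (⟨_, hmem⟩ : MulAction.orbit ↥A w) ⟨_, hmem'⟩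
    exact congrArg Subtype.val this
  -- hence `M = [M, A]` acts trivially
  have hMW : ∀ m ∈ M, ∀ w ∈ wt V M K, m • w ∈ wt V M K :=
    fun m hm w hw => smul_mem_wt hMab hK.1 hm hw
  let S : Subgroup G :=
    { carrier := {g | ∀ w ∈ wt V M K, g • w = w}
      one_mem' := fun w _ => one_smul _ w
      mul_mem' := fun {a b} ha hb w hw => by rw [mul_smul, hb w hw, ha w hw]
      inv_mem' := fun {a} ha w hw => by
        have := ha w hw
        calc a⁻¹ • w = a⁻¹ • (a • w) := by rw [this]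
          _ = w := by rw [smul_smul, inv_mul_cancel, one_smul] }
  have hcS : ⁅M, A⁆ ≤ S := by
    rw [Subgroup.commutator_le]
    intro m hm a ha w hw
    rw [commutatorElement_def, mul_smul, mul_smul, mul_smul, hAtriv a⁻¹ (inv_mem ha) w hw,
      hAtriv a ha _ (hMW m⁻¹ (inv_mem hm) w hw), smul_smul, mul_inv_cancel, one_smul]
  rw [h.comm_eq] at hcS
  apply hK.2.2
  rw [eq_bot_iff]
  intro w hw
  rw [Subgroup.mem_bot]
  exact wt_inf_fix h.exp h.copM hw (fun m hm => hcS hm w hw)

/-- the final configuration with `M` abelian is impossible -/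
theorem abelian_false (h : Cfg G V p q M A x) (hMab : ∀ a ∈ M, ∀ b ∈ M, a * b = b * a) : False := by
  haveI : IsMulCommutative ↥M := IsMulCommutative.of_comm (fun a b => Subtype.ext (hMab a a.2 b b.2))
  -- `M` has exponent `q`
  have hexpq : ∀ m ∈ M, m ^ q = 1 := by
    by_contra hcon
    push_neg at hcon
    obtain ⟨m₁, hm₁, hm₁q⟩ := hcon
    let Ω : Subgroup G :=
      { carrier := {m | m ∈ M ∧ m ^ q = 1}
        one_mem' := ⟨one_mem _, one_pow _⟩
        mul_mem' := fun {a b} ha hb => ⟨mul_mem ha.1 hb.1, by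
          rw [(Commute.mul_pow (hMab a ha.1 b hb.1) q), ha.2, hb.2, one_mul]⟩
        inv_mem' := fun {a} ha => ⟨inv_mem ha.1, by rw [inv_pow, ha.2, inv_one]⟩ }
    have hΩM : Ω ≤ M := fun m hm => hm.1
    have hΩne : Ω ≠ M := fun e => hm₁q ((e ▸ hm₁ : m₁ ∈ Ω).2)
    have hΩn : ∀ g ∈ Subgroup.normalizer (M : Set G), g ∈ Subgroup.normalizer (Ω : Set G) := by
      intro g hg
      have key : ∀ t ∈ Subgroup.normalizer (M : Set G), ∀ m ∈ Ω, t * m * t⁻¹ ∈ Ω := by
        intro t ht m hm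
        exact ⟨conj_mem_of_mem_normalizer ht hm.1, by rw [pow_conj', hm.2]; group⟩
      rw [Subgroup.mem_normalizer_iff]
      intro m
      refine ⟨key g hg m, fun hm => ?_⟩
      have := key g⁻¹ (inv_mem hg) _ hm
      simpa [mul_assoc] using this
    have hc := h.hmin Ω hΩM (fun a ha => hΩn a (h.hAM ha)) (hΩn x h.hxM) hΩne
    apply h.hMA
    apply Cfsg.Agent.S0056.result A M h.hAM h.copAM
    intro v hv hvp a ha
    have hvΩ : v ∈ Ω := by
      refine ⟨hv, ?_⟩
      obtain ⟨k, hk⟩ := (IsPGroup.iff_orderOf.mp h.hM) ⟨v, hv⟩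
      rw [Subgroup.orderOf_mk] at hk
      have : orderOf v = q := by
        rw [hk] at hvp
        have hk1 : k = 1 := by
          by_contra hne
          rcases Nat.lt_or_ge k 1 with h0 | h2
          · have : k = 0 := by omega
            rw [this, pow_zero] at hvp
            exact Nat.not_prime_one hvp
          · have : 2 ≤ k := by omega
            exact (Nat.Prime.not_prime_pow this) hvp
        rw [hk, hk1, pow_one]
      rw [← this]; exact pow_orderOf_eq_one v
    have := Subgroup.mem_centralizer_iff.mp (hc ha) v hvΩ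
    exact this.symm
  -- a hyperplane with nontrivial weight space
  have hMne : ∃ s ∈ M, ∃ v : V, s • v ≠ v := by
    by_contra hcon
    push_neg at hcon
    apply h.hMA
    intro a _
    rw [Subgroup.mem_centralizer_iff]
    intro m hm
    rw [h.faith m hm (hcon m hm)]; group
  obtain ⟨K, hKM, ⟨a, haM, hsup⟩, s, hsM, v, hv, hsv⟩ := h.hCG M M le_rfl hMab le_rfl hMne
  have hKne : K ≠ M := by
    intro e
    rw [e] at hv
    exact hsv (hv s hsM)
  have hwt : wt V M K ≠ ⊥ := by
    intro e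
    have h1 : s • v * v⁻¹ ∈ wt V M K := gen_mem_wt hsM hv
    rw [e, Subgroup.mem_bot] at h1
    exact hsv (mul_inv_eq_one.mp h1)
  have hcard : Nat.card K * q = Nat.card M := by
    have h1 := card_le_mul_of_sup_zpowers hq.out.pos hMab hKM haM (hexpq a haM) hsup
    obtain ⟨d, hd⟩ := Subgroup.card_dvd_of_le hKM
    have hKpos : 0 < Nat.card K := Nat.card_pos
    have hd1 : d ≠ 1 := by
      intro e
      rw [e, mul_one] at hd
      exact hKne (Subgroup.eq_of_le_of_card_ge hKM hd.le)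
    obtain ⟨b, hb⟩ := h.hM.exists_card_eq
    have hdq : d ∣ q ^ b := by rw [← hb, hd]; exact dvd_mul_left _ _
    obtain ⟨c, _, hc⟩ := (Nat.dvd_prime_pow hq.out).mp hdq
    have hc0 : c ≠ 0 := by
      intro e; rw [e, pow_zero] at hc; exact hd1 hc
    have hqd : q ≤ d := by
      rw [hc]
      calc q = q ^ 1 := (pow_one q).symm
        _ ≤ q ^ c := Nat.pow_le_pow_right hq.out.pos (Nat.one_le_iff_ne_zero.mpr hc0)
    have hdq' : d ≤ q := by
      rw [hd] at h1
      exact Nat.le_of_mul_le_mul_left h1 hKpos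
    rw [hd, le_antisymm hdq' hqd]
  have hK : Hyp V M q K := ⟨hKM, hcard, hwt⟩
  by_cases hAK : A ≤ Subgroup.normalizer (K : Set G)
  · exact h.Ainv_false hMab hK hAK
  · obtain ⟨a', ha', ha'K⟩ := SetLike.not_le_iff_exists.mp hAK
    exact h.notAinv_false hMab hK ha' ha'K

end Cfg

end Cfsg.Agent.Lib.Helper4.BGZ
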