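import Mathlib
import Cfsg.Agent.Lib.Helper4.BGZD
import Cfsg.Agent.H1.Class2

/-!
Bender–Glauberman Theorem 3.6 (helper4), part E: the final configuration with `M` nonabelian:
`M` has class two and exponent `q`, and there is a hyperplane `D` of `Z(M)`, normal in `M A ⟨x⟩`,
not containing `M'`.
-/

set_option autoImplicit false

namespace Cfsg.Agent.Lib.Helper4.BGZ

open scoped commutatorElement

section general
variable {G : Type*} [Group G]

theorem map_subtype_commutator' (M : Subgroup G) : (commutator ↥M).map M.subtype = ⁅M, M⁆ := by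
  rw [commutator_def, Subgroup.map_commutator, ← MonoidHom.range_eq_map, Subgroup.range_subtype]

theorem commutator_ne_self [Finite G] {q : ℕ} [Fact q.Prime] {M : Subgroup G} (hM : IsPGroup q M)
    (hne : M ≠ ⊥) : ⁅M, M⁆ ≠ M := by
  intro e
  haveI : Group.IsNilpotent ↥M := hM.isNilpotent
  haveI : Nontrivial ↥M := by
    rw [Subgroup.nontrivial_iff_ne_bot]; exact hne
  have h1 := Group.IsSolvable.commutator_lt_top_of_nontrivial ↥M
  apply h1.ne
  apply Subgroup.map_injective M.subtype_injective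
  rw [map_subtype_commutator', e, ← MonoidHom.range_eq_map, Subgroup.range_subtype]

end general

namespace Cfg
variable {G V : Type*} [Group G] [Finite G] [CommGroup V] [Finite V] [MulDistribMulAction G V]
  {p q : ℕ} [hp : Fact p.Prime] [hq : Fact q.Prime] {M A : Subgroup G} {x : G}

/-- the general counting inequality, for an abelian invariant subgroup `E` of `M` -/
theorem count' (h : Cfg G V p q M A x) {E : Subgroup G} (hEM : E ≤ M)
    (hEab : ∀ a ∈ E, ∀ b ∈ E, a * b = b * a) (hxE : x ∈ Subgroup.normalizer (E : Set G))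
    {ι : Type*} [Fintype ι] (κ : ι → Subgroup G) (hκ : ∀ i, Hyp V E q (κ i))
    (hdist : ∀ a b : Fin (orderOf x) × ι, a ≠ b →
      cj (x ^ (a.1 : ℕ)) (κ a.2) ≠ cj (x ^ (b.1 : ℕ)) (κ b.2)) :
    ∏ i, Nat.card (wt V E (κ i)) ≤ p := by
  have hcopE : (Nat.card E).Coprime p :=
    Nat.Coprime.coprime_dvd_left (Subgroup.card_dvd_of_le hEM) h.copM
  refine le_trans ?_ h.hCV
  apply card_wt_le h.exp hEab hcopE x (orderOf x) h.hxr.pos h.xr
    (fun m hm => conj_mem_of_mem_normalizer hxE hm) κ (fun i => (hκ i).1)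
  intro a b hab
  have ha := (hκ a.2).conj (pow_mem hxE (a.1 : ℕ))
  have hb := (hκ b.2).conj (pow_mem hxE (b.1 : ℕ))
  exact le_sup_of_hyperplanes hq.out ha.1 hb.1 ha.2.1 hb.2.1 (hdist a b hab)

theorem M_ne_bot (h : Cfg G V p q M A x) : M ≠ ⊥ := by
  intro e
  apply h.hMA
  rw [e]
  intro a _
  rw [Subgroup.mem_centralizer_iff]
  intro m hm
  rw [SetLike.mem_coe, Subgroup.mem_bot] at hm
  rw [hm]; group

theorem q_ne_two (h : Cfg G V p q M A x) : q ≠ 2 := by
  intro e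
  have h1 : q ∣ Nat.card G := by
    obtain ⟨b, hb⟩ := h.hM.exists_card_eq
    have hb0 : b ≠ 0 := by
      intro e0
      rw [e0, pow_zero] at hb
      exact h.M_ne_bot (Subgroup.card_eq_one.mp hb)
    have : q ∣ Nat.card M := by rw [hb]; exact dvd_pow_self q hb0
    exact this.trans (Subgroup.card_subgroup_dvd_card M)
  rw [e] at h1
  have := Odd.of_dvd_nat h.odd h1
  exact absurd this (by decide)

/-- the centre of `M` -/
def ZM (M : Subgroup G) : Subgroup G := M ⊓ Subgroup.centralizer (M : Set G)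

theorem ZM_le (M : Subgroup G) : ZM M ≤ M := inf_le_left

theorem ZM_comm (M : Subgroup G) : ∀ a ∈ ZM M, ∀ b ∈ ZM M, a * b = b * a := by
  intro a ha b hb
  exact (Subgroup.mem_centralizer_iff.mp ha.2 b hb.1).symm

theorem ZM_normalizer {M : Subgroup G} {g : G} (hg : g ∈ Subgroup.normalizer (M : Set G)) :
    g ∈ Subgroup.normalizer ((ZM M : Subgroup G) : Set G) :=
  mem_normalizer_inf hg (mem_normalizer_centralizer hg)

theorem ZM_ne (h : Cfg G V p q M A x) (hnab : ¬ ∀ a ∈ M, ∀ b ∈ M, a * b = b * a) : ZM M ≠ M := by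
  intro e
  apply hnab
  intro a ha b hb
  rw [← e] at ha
  exact (Subgroup.mem_centralizer_iff.mp ha.2 b hb).symm

theorem A_cent_ZM (h : Cfg G V p q M A x) (hnab : ¬ ∀ a ∈ M, ∀ b ∈ M, a * b = b * a) :
    A ≤ Subgroup.centralizer ((ZM M : Subgroup G) : Set G) :=
  h.hmin _ (ZM_le M) (fun a ha => ZM_normalizer (h.hAM ha)) (ZM_normalizer h.hxM) (h.ZM_ne hnab)

/-- proper invariant subgroups lie in the centre -/
theorem le_ZM (h : Cfg G V p q M A x) {M₂ : Subgroup G} (h₂ : M₂ ≤ M)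
    (hA₂ : A ≤ Subgroup.normalizer (M₂ : Set G)) (hx₂ : x ∈ Subgroup.normalizer (M₂ : Set G))
    (hne : M₂ ≠ M) : M₂ ≤ ZM M := le_inf h₂ (h.le_center h₂ hA₂ hx₂ hne)

theorem comm_le_ZM (h : Cfg G V p q M A x) : ⁅M, M⁆ ≤ ZM M := by
  apply h.le_ZM
  · rw [Subgroup.commutator_le]
    intro a ha b hb
    exact mul_mem (mul_mem (mul_mem ha hb) (inv_mem ha)) (inv_mem hb)
  · exact fun a ha => mem_normalizer_commutator (h.hAM ha) (h.hAM ha)
  · exact mem_normalizer_commutator h.hxM h.hxM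
  · exact commutator_ne_self h.hM h.M_ne_bot

theorem class_two (h : Cfg G V p q M A x) : ∀ a b : ↥M, ⁅a, b⁆ ∈ Subgroup.center ↥M := by
  intro a b
  rw [Subgroup.mem_center_iff]
  intro c
  have h1 : ((⁅a, b⁆ : ↥M) : G) ∈ ZM M := by
    apply h.comm_le_ZM
    have : ((⁅a, b⁆ : ↥M) : G) = ⁅(a : G), (b : G)⁆ := by
      simp [commutatorElement_def]
    rw [this]
    exact Subgroup.commutator_mem_commutator a.2 b.2
  apply Subtype.ext
  exact Subgroup.mem_centralizer_iff.mp h1.2 c c.2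

theorem coe_mem_ZM_iff {M : Subgroup G} (z : ↥M) : (z : G) ∈ ZM M ↔ z ∈ Subgroup.center ↥M := by
  rw [Subgroup.mem_center_iff]
  constructor
  · intro hz c
    apply Subtype.ext
    exact Subgroup.mem_centralizer_iff.mp hz.2 c c.2
  · intro hz
    refine Subgroup.mem_inf.mpr ⟨z.2, ?_⟩
    rw [Subgroup.mem_centralizer_iff]
    intro c hc
    exact congrArg Subtype.val (hz ⟨c, hc⟩)

/-- `q`-th powers are central -/
theorem pow_mem_ZM (h : Cfg G V p q M A x) (hnab : ¬ ∀ a ∈ M, ∀ b ∈ M, a * b = b * a) :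
    ∀ m ∈ M, m ^ q ∈ ZM M := by
  let M₁ : Subgroup G :=
    { carrier := {m | m ∈ M ∧ m ^ q ∈ ZM M}
      one_mem' := ⟨one_mem _, by rw [one_pow]; exact one_mem _⟩
      mul_mem' := fun {a b} ha hb => ⟨mul_mem ha.1 hb.1, by
        have h1 := Cfsg.Agent.H1.class2_mul_pow h.class_two ⟨a, ha.1⟩ ⟨b, hb.1⟩ q
        have h2 := congrArg Subtype.val h1
        simp only [Subgroup.coe_mul, Subgroup.coe_pow] at h2
        rw [h2]
        refine mul_mem (mul_mem ha.2 hb.2) ?_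
        have := (coe_mem_ZM_iff _).mpr (pow_mem (h.class_two ⟨b, hb.1⟩ ⟨a, ha.1⟩) (q.choose 2))
        simpa using this⟩
      inv_mem' := fun {a} ha => ⟨inv_mem ha.1, by rw [inv_pow]; exact inv_mem ha.2⟩ }
  have hM₁M : M₁ ≤ M := fun m hm => hm.1
  have hM₁n : ∀ g ∈ Subgroup.normalizer (M : Set G), g ∈ Subgroup.normalizer (M₁ : Set G) := by
    intro g hg
    have key : ∀ t ∈ Subgroup.normalizer (M : Set G), ∀ m ∈ M₁, t * m * t⁻¹ ∈ M₁ := by
      intro t ht m hm
      refine ⟨conj_mem_of_mem_normalizer ht hm.1, ?_⟩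
      rw [pow_conj']
      exact conj_mem_of_mem_normalizer (ZM_normalizer ht) hm.2
    rw [Subgroup.mem_normalizer_iff]
    intro m
    refine ⟨key g hg m, fun hm => ?_⟩
    have := key g⁻¹ (inv_mem hg) _ hm
    simpa [mul_assoc] using this
  by_contra hcon
  push_neg at hcon
  obtain ⟨m₁, hm₁, hm₁q⟩ := hcon
  have hM₁ne : M₁ ≠ M := fun e => hm₁q ((e ▸ hm₁ : m₁ ∈ M₁).2)
  have hle := h.le_ZM hM₁M (fun a ha => hM₁n a (h.hAM ha)) (hM₁n x h.hxM) hM₁ne
  -- an element of `M₁` outside the centre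
  have hm₁Z : m₁ ∉ ZM M := fun hz => hm₁q (pow_mem hz q)
  have hex : ∃ k : ℕ, m₁ ^ q ^ k ∈ ZM M := by
    obtain ⟨k, hk⟩ := (IsPGroup.iff_orderOf.mp h.hM) ⟨m₁, hm₁⟩
    rw [Subgroup.orderOf_mk] at hk
    exact ⟨k, by rw [← hk, pow_orderOf_eq_one]; exact one_mem _⟩
  classical
  have hk0 : Nat.find hex ≠ 0 := by
    intro e
    have := Nat.find_spec hex
    rw [e, pow_zero, pow_one] at this
    exact hm₁Z this
  obtain ⟨k, hk⟩ := Nat.exists_eq_succ_of_ne_zero hk0
  have h1 : m₁ ^ q ^ k ∉ ZM M := Nat.find_min hex (by omega : k < Nat.find hex)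
  apply h1
  apply hle
  refine ⟨pow_mem hm₁ _, ?_⟩
  rw [← pow_mul, ← pow_succ, ← Nat.succ_eq_add_one, ← hk]
  exact Nat.find_spec hex

/-- the `q`-th power map is multiplicative on `M` -/
theorem mul_pow_q (h : Cfg G V p q M A x) (hnab : ¬ ∀ a ∈ M, ∀ b ∈ M, a * b = b * a)
    {u v : G} (hu : u ∈ M) (hv : v ∈ M) : (u * v) ^ q = u ^ q * v ^ q := by
  have hc : ⁅(⟨v, hv⟩ : ↥M), (⟨u, hu⟩ : ↥M)⁆ ^ q = 1 := by
    rw [← Cfsg.Agent.H1.commutator_pow_of_central _ _ (h.class_two _ _) q,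
      commutatorElement_eq_one_iff_commute]
    have h1 : (⟨v, hv⟩ : ↥M) ^ q ∈ Subgroup.center ↥M := by
      rw [← coe_mem_ZM_iff]
      exact h.pow_mem_ZM hnab v hv
    exact (Subgroup.mem_center_iff.mp h1 ⟨u, hu⟩).symm
  have := Cfsg.Agent.H1.class2_mul_pow_prime h.class_two hq.out h.q_ne_two ⟨u, hu⟩ ⟨v, hv⟩ hc
  have h2 := congrArg Subtype.val this
  simpa using h2

/-- `M` has exponent `q` -/
theorem exp_q (h : Cfg G V p q M A x) (hnab : ¬ ∀ a ∈ M, ∀ b ∈ M, a * b = b * a) :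
    ∀ m ∈ M, m ^ q = 1 := by
  let M₀ : Subgroup G :=
    { carrier := {m | m ∈ M ∧ m ^ q = 1}
      one_mem' := ⟨one_mem _, one_pow _⟩
      mul_mem' := fun {a b} ha hb => ⟨mul_mem ha.1 hb.1, by
        rw [h.mul_pow_q hnab ha.1 hb.1, ha.2, hb.2, one_mul]⟩
      inv_mem' := fun {a} ha => ⟨inv_mem ha.1, by rw [inv_pow, ha.2, inv_one]⟩ }
  have hle : ⁅M, A⁆ ≤ M₀ := by
    rw [Subgroup.commutator_le]
    intro m hm a ha
    have h1 : a * m⁻¹ * a⁻¹ ∈ M := conj_mem_of_mem_normalizer (h.hAM ha) (inv_mem hm)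
    have e : ⁅m, a⁆ = m * (a * m⁻¹ * a⁻¹) := by rw [commutatorElement_def]; group
    refine ⟨by rw [e]; exact mul_mem hm h1, ?_⟩
    rw [e, h.mul_pow_q hnab hm h1, pow_conj', inv_pow]
    have hz : m ^ q ∈ ZM M := h.pow_mem_ZM hnab m hm
    have hc := Subgroup.mem_centralizer_iff.mp (h.A_cent_ZM hnab ha) _ (inv_mem hz)
    rw [← hc]; group
  rw [h.comm_eq] at hle
  exact fun m hm => (hle hm).2

end Cfg

section general2
variable {G V : Type*} [Group G] [Finite G] [CommGroup V] [MulDistribMulAction G V]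

/-- the pointwise stabilizer of a subgroup of `V` -/
def pstab (W : Subgroup V) : Subgroup G where
  carrier := {g | ∀ w ∈ W, g • w = w}
  one_mem' := fun w _ => one_smul _ w
  mul_mem' := fun {a b} ha hb w hw => by rw [mul_smul, hb w hw, ha w hw]
  inv_mem' := fun {a} ha w hw => by
    have := ha w hw
    calc a⁻¹ • w = a⁻¹ • (a • w) := by rw [this]
      _ = w := by rw [smul_smul, inv_mul_cancel, one_smul]

/-- a group acting on a cyclic group: commutators act trivially -/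
theorem commutator_mem_pstab {W : Subgroup V} [IsCyclic ↥W] {g h : G}
    (hg : ∀ w ∈ W, g • w ∈ W) (hh : ∀ w ∈ W, h • w ∈ W) (hg' : ∀ w ∈ W, g⁻¹ • w ∈ W)
    (hh' : ∀ w ∈ W, h⁻¹ • w ∈ W) : ⁅g, h⁆ ∈ pstab (G := G) W := by
  obtain ⟨w₀, hw₀⟩ := IsCyclic.exists_generator (α := ↥W)
  have hgen : ∀ w ∈ W, ∃ n : ℤ, (w₀ : V) ^ n = w := by
    intro w hw
    obtain ⟨n, hn⟩ := Subgroup.mem_zpowers_iff.mp (hw₀ ⟨w, hw⟩)
    exact ⟨n, by simpa using congrArg Subtype.val hn⟩
  obtain ⟨i, hi⟩ := hgen _ (hg _ w₀.2)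
  obtain ⟨j, hj⟩ := hgen _ (hh _ w₀.2)
  have key0 : (g * h) • (w₀ : V) = (h * g) • (w₀ : V) := by
    rw [mul_smul, mul_smul, ← hj, ← hi, smul_zpow', smul_zpow', ← hi, ← hj,
      ← zpow_mul, ← zpow_mul, mul_comm]
  have key : ∀ w ∈ W, (g * h) • w = (h * g) • w := by
    intro w hw
    obtain ⟨n, rfl⟩ := hgen w hw
    rw [smul_zpow', smul_zpow', key0]
  intro w hw
  have hw' : (h * g)⁻¹ • w ∈ W := by
    rw [mul_inv_rev, mul_smul]
    exact hg' _ (hh' _ hw)
  have h1 := key _ hw'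
  rw [smul_smul (h * g), mul_inv_cancel, one_smul] at h1
  calc ⁅g, h⁆ • w = ((g * h) * (h * g)⁻¹) • w := by
        congr 1; rw [commutatorElement_def]; group
    _ = (g * h) • ((h * g)⁻¹ • w) := mul_smul _ _ _
    _ = w := h1

/-- an abelian `q`-group of exponent `q` generated by a subgroup and one element -/
theorem card_mul_of_sup_zpowers {E D : Subgroup G} {z : G} {q : ℕ} [hq : Fact q.Prime]
    (hE : IsPGroup q E) (hEab : ∀ a ∈ E, ∀ b ∈ E, a * b = b * a) (hDE : D ≤ E) (hne : D ≠ E)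
    (hz : z ∈ E) (hzq : z ^ q = 1) (hsup : D ⊔ Subgroup.zpowers z = E) :
    Nat.card D * q = Nat.card E := by
  have h1 := card_le_mul_of_sup_zpowers hq.out.pos hEab hDE hz hzq hsup
  obtain ⟨d, hd⟩ := Subgroup.card_dvd_of_le hDE
  have hKpos : 0 < Nat.card D := Nat.card_pos
  have hd1 : d ≠ 1 := by
    intro e
    rw [e, mul_one] at hd
    exact hne (Subgroup.eq_of_le_of_card_ge hDE hd.le)
  obtain ⟨b, hb⟩ := hE.exists_card_eq
  have hdq : d ∣ q ^ b := by rw [← hb, hd]; exact dvd_mul_left _ _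
  obtain ⟨c, _, hc⟩ := (Nat.dvd_prime_pow hq.out).mp hdq
  have hc0 : c ≠ 0 := by
    intro e; rw [e, pow_zero] at hc; exact hd1 hc
  have hqd : q ≤ d := by
    rw [hc]
    calc q = q ^ 1 := (pow_one q).symm
      _ ≤ q ^ c := Nat.pow_le_pow_right hq.out.pos (Nat.one_le_iff_ne_zero.mpr hc0)
  have hdq' : d ≤ q := by
    rw [hd] at h1
    exact Nat.le_of_mul_le_mul_left h1 hKpos
  rw [hd, le_antisymm hdq' hqd]

end general2

namespace Cfg
variable {G V : Type*} [Group G] [Finite G] [CommGroup V] [Finite V] [MulDistribMulAction G V]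
  {p q : ℕ} [hp : Fact p.Prime] [hq : Fact q.Prime] {M A : Subgroup G} {x : G}

theorem M_le_normalizer_of_le_ZM {D : Subgroup G} (hD : D ≤ ZM M) :
    M ≤ Subgroup.normalizer (D : Set G) := by
  intro m hm
  rw [Subgroup.mem_normalizer_iff]
  have key : ∀ k ∈ ZM M, m * k * m⁻¹ = k := by
    intro k hk
    rw [Subgroup.mem_centralizer_iff.mp hk.2 m hm, mul_inv_cancel_right]
  intro k
  constructor
  · intro hk; rw [key k (hD hk)]; exact hk
  · intro hk
    have h1 := key _ (hD hk)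
    have h2 : m * k * m⁻¹ = k := by
      have := congrArg (fun t => m⁻¹ * t * m) h1
      simpa [mul_assoc] using this
    rw [← h2]; exact hk

/-- a hyperplane of the centre, normalized by `x`, not containing `M'` -/
theorem exists_D (h : Cfg G V p q M A x) (hnab : ¬ ∀ a ∈ M, ∀ b ∈ M, a * b = b * a) :
    ∃ D : Subgroup G, D ≤ ZM M ∧ Nat.card D * q = Nat.card (ZM M) ∧
      x ∈ Subgroup.normalizer (D : Set G) ∧ ¬ ⁅M, M⁆ ≤ D := by
  have hZab := ZM_comm M
  have hZq : IsPGroup q (ZM M) := h.hM.to_le (ZM_le M)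
  -- a nontrivial commutator
  push_neg at hnab
  obtain ⟨a, ha, b, hb, hab⟩ := hnab
  have hnab' : ¬ ∀ a ∈ M, ∀ b ∈ M, a * b = b * a := fun hh => hab (hh a ha b hb)
  have hc1 : ⁅a, b⁆ ≠ 1 := by
    rw [Ne, commutatorElement_eq_one_iff_commute]
    exact hab
  have hcM' : ⁅a, b⁆ ∈ ⁅M, M⁆ := Subgroup.commutator_mem_commutator ha hb
  have hne : ∃ s ∈ ⁅M, M⁆, ∃ v : V, s • v ≠ v := by
    refine ⟨_, hcM', ?_⟩
    by_contra hcon
    push_neg at hcon
    exact hc1 (h.faith _ (ZM_le M (h.comm_le_ZM hcM')) hcon)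
  obtain ⟨D, hDZ, ⟨z, hz, hsup⟩, s, hs, v, hv, hsv⟩ :=
    h.hCG (ZM M) ⁅M, M⁆ (ZM_le M) hZab h.comm_le_ZM hne
  have hsZ : s ∈ ZM M := h.comm_le_ZM hs
  have hsD : s ∉ D := fun hh => hsv (hv s hh)
  have hDne : D ≠ ZM M := fun e => hsD (e ▸ hsZ)
  have hcard := card_mul_of_sup_zpowers hZq hZab hDZ hDne hz (h.exp_q hnab' z (ZM_le M hz)) hsup
  have hw1 : s • v * v⁻¹ ∈ wt V (ZM M) D := gen_mem_wt hsZ hv
  have hw1ne : s • v * v⁻¹ ≠ 1 := fun e => hsv (mul_inv_eq_one.mp e)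
  have hwt : wt V (ZM M) D ≠ ⊥ := by
    intro e
    rw [e, Subgroup.mem_bot] at hw1
    exact hw1ne hw1
  have hD : Hyp V (ZM M) q D := ⟨hDZ, hcard, hwt⟩
  have hMD := M_le_normalizer_of_le_ZM hDZ
  -- the weight space has order greater than `p`
  have hbig : ¬ Nat.card (wt V (ZM M) D) ≤ p := by
    intro hle
    have hcp : Nat.card (wt V (ZM M) D) = p := le_antisymm hle (le_card_of_ne_bot h.exp hwt)
    haveI : IsCyclic ↥(wt V (ZM M) D) := isCyclic_of_prime_card hcp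
    have hMW : ∀ g ∈ M, ∀ w ∈ wt V (ZM M) D, g • w ∈ wt V (ZM M) D := by
      intro g hg w hw
      have := smul_mem_wt_cj (V := V)
        (fun m hm => conj_mem_of_mem_normalizer (ZM_normalizer (Subgroup.le_normalizer hg)) hm) hw
      rwa [cj_eq_self_iff.mpr (hMD hg)] at this
    have hle2 : ⁅M, M⁆ ≤ pstab (G := G) (wt V (ZM M) D) := by
      rw [Subgroup.commutator_le]
      intro g hg k hk
      exact commutator_mem_pstab (hMW g hg) (hMW k hk) (hMW g⁻¹ (inv_mem hg)) (hMW k⁻¹ (inv_mem hk))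
    have hs1 : s • (s • v * v⁻¹) = s • v * v⁻¹ := hle2 hs _ hw1
    have hk : ∀ k : ℕ, s ^ k • v = v * (s • v * v⁻¹) ^ k := by
      intro k
      induction k with
      | zero => simp
      | succ k ih =>
        rw [pow_succ', mul_smul, ih, smul_mul', smul_pow', hs1, pow_succ]
        rw [mul_comm ((s • v * v⁻¹) ^ k), ← mul_assoc]
        congr 1
        rw [mul_comm, mul_assoc, inv_mul_cancel, mul_one]
    have h2 := hk q
    rw [h.exp_q hnab' s (ZM_le M hsZ), one_smul] at h2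
    have h3 : (s • v * v⁻¹) ^ q = 1 := by
      have := congrArg (fun t => v⁻¹ * t) h2
      simpa using this.symm
    exact hw1ne (eq_one_of_pow_coprime ((Nat.coprime_primes hq.out hp.out).mpr h.hpq.symm)
      (h.exp _) h3)
  refine ⟨D, hDZ, hcard, ?_, fun hle => hsD (hle hs)⟩
  by_contra hxD
  apply hbig
  have := h.count' (ZM_le M) hZab (ZM_normalizer h.hxM) (fun _ : Unit => D) (fun _ => hD) ?_
  · simpa using this
  · apply dist_of_ordered x (orderOf x) (fun _ : Unit => D)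
    intro i j b b' hji hi hne heq
    have hd0 : i - j ≠ 0 := by
      intro e
      apply hne
      have : i = j := by omega
      rw [this]
    apply hxD
    apply mem_of_pow_mem h.hxr h.xr
      (not_dvd_of_pos_of_lt (Nat.pos_of_ne_zero hd0) (by omega : i - j < orderOf x))
    rw [← cj_eq_self_iff]; exact heq

end Cfg

end Cfsg.Agent.Lib.Helper4.BGZ
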