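import Mathlib
import Cfsg.Agent.Lib.Helper4.BGZE
import Cfsg.Agent.Lib.helper3.Extraspecial2
import Cfsg.Agent.Lib.helper3.ClassBound
import Cfsg.Agent.Lib.helper3.Tate1

/-!
Bender–Glauberman Theorem 3.6 (helper4), part F: in the nonabelian final configuration
`|M : Z(M)|` is an even power of `q` (the quotient `M / D` is extraspecial).
-/

set_option autoImplicit false
set_option linter.style.haveILetI false

namespace Cfsg.Agent.Lib.Helper4.BGZ

open scoped commutatorElement

section sq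
open Cfsg Module Cfsg.Agent.Lib.helper3.IndFun Cfsg.Agent.Lib.helper3.CharBasic
open Cfsg.Agent.Lib.helper3.Irr Cfsg.Agent.Lib.helper3.Central

/-- a `p`-group with `P' = Z(P)` of order `p` has order an odd power of `p`
(the proof of S0095 by helper3, without the Frattini hypothesis) -/
theorem card_of_commutator_eq_center {P : Type*} [Group P] [Finite P] {p : ℕ} [Fact p.Prime]
    (hpg : IsPGroup p P) (hcomm : commutator P = Subgroup.center P)
    (hZ : Nat.card (Subgroup.center P) = p) : ∃ n : ℕ, Nat.card P = p ^ (2 * n + 1) := by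
  classical
  haveI := Fintype.ofFinite P
  have hp := (Fact.out : p.Prime)
  have hZ1 : Subgroup.center P ≠ ⊥ := by
    intro hb
    rw [hb, Subgroup.card_bot] at hZ
    exact hp.one_lt.ne hZ
  obtain ⟨z, hz1⟩ := (Subgroup.ne_bot_iff_exists_ne_one).1 hZ1
  have hz1' : (z : P) ≠ 1 := fun h1 => hz1 (Subtype.ext h1)
  obtain ⟨ψ, hψ⟩ : ∃ ψ : IrrCharacter P, (ψ : P → ℂ) z ≠ (ψ : P → ℂ) 1 := by
    by_contra hcon
    push_neg at hcon
    exact hz1' (eq_one_of_forall_irr_apply_eq (z : P) hcon)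
  obtain ⟨ψf, d, ρ, hirr, rfl⟩ := ψ
  haveI := hirr
  obtain ⟨lam, hlam⟩ := exists_central_hom ρ
  have hlamz : lam z ≠ 1 := by
    intro h1
    apply hψ
    show ρ.character (z : P) = ρ.character 1
    unfold Representation.character
    rw [hlam z, h1, one_smul, map_one]
    rfl
  have hker := hom_ne_one_of_prime_card hZ lam ⟨z, hlamz⟩
  have hvan := character_vanish_off_center hcomm ρ lam hlam hker
  have h1 := card_eq_card_center_mul_sq ρ hvan
  rw [hZ] at h1
  obtain ⟨k, hk⟩ := IsPGroup.iff_card.mp hpg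
  have hd : finrank ℂ (Fin d → ℂ) ∣ p ^ k := by
    rw [← hk]
    exact finrank_dvd_card ρ
  obtain ⟨n, _, hn⟩ := (Nat.dvd_prime_pow hp).1 hd
  rw [hn] at h1
  exact ⟨n, by rw [h1]; ring⟩

end sq

namespace Cfg
variable {G V : Type*} [Group G] [Finite G] [CommGroup V] [Finite V] [MulDistribMulAction G V]
  {p q : ℕ} [hp : Fact p.Prime] [hq : Fact q.Prime] {M A : Subgroup G} {x : G}

/-- `|M : Z(M)|` is an even power of `q` -/
theorem card_M_sq (h : Cfg G V p q M A x) (hnab : ¬ ∀ a ∈ M, ∀ b ∈ M, a * b = b * a) :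
    ∃ n : ℕ, Nat.card M = Nat.card (ZM M) * q ^ (2 * n) := by
  obtain ⟨D, hDZ, hcard, hxD, hM'D⟩ := h.exists_D hnab
  have hMD : M ≤ Subgroup.normalizer (D : Set G) := M_le_normalizer_of_le_ZM hDZ
  have hDM : D ≤ M := hDZ.trans (ZM_le M)
  haveI hDn : (D.subgroupOf M).Normal := (Subgroup.normal_subgroupOf_iff_le_normalizer hDM).mpr hMD
  have hAD : A ≤ Subgroup.normalizer (D : Set G) := by
    intro a ha
    apply Subgroup.centralizer_le_normalizer
    exact Subgroup.centralizer_le (fun _ hd => hDZ hd) (h.A_cent_ZM hnab ha)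
  set π := QuotientGroup.mk' (D.subgroupOf M) with hπ
  have hπs : Function.Surjective π := QuotientGroup.mk'_surjective _
  -- characterisation of central elements of the quotient
  have hchar : ∀ m : ↥M, π m ∈ Subgroup.center (↥M ⧸ D.subgroupOf M) ↔
      ∀ n : ↥M, (m : G) * n * (m : G)⁻¹ * (n : G)⁻¹ ∈ D := by
    intro m
    rw [Subgroup.mem_center_iff]
    constructor
    · intro hm n
      have h1 := hm (π n)
      have h2 : π (m * n * m⁻¹ * n⁻¹) = 1 := by
        rw [map_mul, map_mul, map_mul, map_inv, map_inv, ← h1]; group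
      rw [hπ, QuotientGroup.mk'_apply, QuotientGroup.eq_one_iff, Subgroup.mem_subgroupOf] at h2
      simpa using h2
    · intro hm e
      obtain ⟨n, rfl⟩ := hπs e
      have h2 : π (m * n * m⁻¹ * n⁻¹) = 1 := by
        rw [hπ, QuotientGroup.mk'_apply, QuotientGroup.eq_one_iff, Subgroup.mem_subgroupOf]
        simpa using hm n
      rw [map_mul, map_mul, map_mul, map_inv, map_inv] at h2
      have h3 : π m * π n = (π m * π n * (π m)⁻¹ * (π n)⁻¹) * (π n * π m) := by group
      rw [h3, h2, one_mul]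
  -- the preimage of the centre of the quotient
  set Z₁ : Subgroup G := ((Subgroup.center (↥M ⧸ D.subgroupOf M)).comap π).map M.subtype with hZ₁
  have hZ₁mem : ∀ g : G, g ∈ Z₁ ↔ ∃ hg : g ∈ M, ∀ n ∈ M, g * n * g⁻¹ * n⁻¹ ∈ D := by
    intro g
    rw [hZ₁, Subgroup.mem_map]
    constructor
    · rintro ⟨m, hm, rfl⟩
      rw [Subgroup.mem_comap] at hm
      exact ⟨m.2, fun n hn => (hchar m).mp hm ⟨n, hn⟩⟩
    · rintro ⟨hg, hgn⟩
      refine ⟨⟨g, hg⟩, ?_, rfl⟩
      rw [Subgroup.mem_comap]
      exact (hchar ⟨g, hg⟩).mpr (fun n => hgn n n.2)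
  have hZ₁M : Z₁ ≤ M := fun g hg => ((hZ₁mem g).mp hg).1
  have hZ₁n : ∀ g ∈ Subgroup.normalizer (M : Set G), g ∈ Subgroup.normalizer (D : Set G) →
      g ∈ Subgroup.normalizer (Z₁ : Set G) := by
    intro g hgM hgD
    have key : ∀ t ∈ Subgroup.normalizer (M : Set G), t ∈ Subgroup.normalizer (D : Set G) →
        ∀ y ∈ Z₁, t * y * t⁻¹ ∈ Z₁ := by
      intro t htM htD y hy
      obtain ⟨hyM, hyn⟩ := (hZ₁mem y).mp hy
      rw [hZ₁mem]
      refine ⟨conj_mem_of_mem_normalizer htM hyM, fun n hn => ?_⟩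
      have hn' : t⁻¹ * n * t ∈ M := by
        have := conj_mem_of_mem_normalizer (inv_mem htM) hn
        simpa using this
      have h1 := conj_mem_of_mem_normalizer htD (hyn _ hn')
      have e : t * y * t⁻¹ * n * (t * y * t⁻¹)⁻¹ * n⁻¹ =
          t * (y * (t⁻¹ * n * t) * y⁻¹ * (t⁻¹ * n * t)⁻¹) * t⁻¹ := by group
      rw [e]; exact h1
    rw [Subgroup.mem_normalizer_iff]
    intro y
    refine ⟨key g hgM hgD y, fun hy => ?_⟩
    have := key g⁻¹ (inv_mem hgM) (inv_mem hgD) _ hy
    simpa [mul_assoc] using this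
  have hZ₁ne : Z₁ ≠ M := by
    intro e
    apply hM'D
    rw [Subgroup.commutator_le]
    intro a ha b hb
    have : a ∈ Z₁ := e ▸ ha
    exact ((hZ₁mem a).mp this).2 b hb
  have hZ₁Z : Z₁ ≤ ZM M :=
    h.le_ZM hZ₁M (fun a ha => hZ₁n a (h.hAM ha) (hAD ha)) (hZ₁n x h.hxM hxD) hZ₁ne
  -- the centre of the quotient
  have hcen : Subgroup.center (↥M ⧸ D.subgroupOf M) = ((ZM M).subgroupOf M).map π := by
    apply le_antisymm
    · intro e he
      obtain ⟨m, rfl⟩ := hπs e
      have h1 : (m : G) ∈ Z₁ := by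
        rw [hZ₁]
        exact Subgroup.mem_map_of_mem _ (Subgroup.mem_comap.mpr he)
      exact Subgroup.mem_map_of_mem _ (Subgroup.mem_subgroupOf.mpr (hZ₁Z h1))
    · rintro _ ⟨z, hz, rfl⟩
      rw [hchar]
      intro n
      rw [SetLike.mem_coe, Subgroup.mem_subgroupOf] at hz
      have := Subgroup.mem_centralizer_iff.mp hz.2 n n.2
      have e : (z : G) * n * (z : G)⁻¹ * (n : G)⁻¹ = 1 := by
        rw [← this]; group
      rw [e]; exact one_mem _
  -- cardinalities
  have hcZ : Nat.card (Subgroup.center (↥M ⧸ D.subgroupOf M)) = q := by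
    have h1 := Subgroup.card_mul_index (Subgroup.center (↥M ⧸ D.subgroupOf M))
    have h2 : (Subgroup.center (↥M ⧸ D.subgroupOf M)).index = ((ZM M).subgroupOf M).index := by
      rw [hcen]
      apply Subgroup.index_map_eq _ hπs
      rw [hπ, QuotientGroup.ker_mk']
      intro d hd
      rw [Subgroup.mem_subgroupOf] at hd ⊢
      exact hDZ hd
    have h3 := Subgroup.card_eq_card_quotient_mul_card_subgroup (D.subgroupOf M)
    have h4 := Subgroup.index_mul_card ((ZM M).subgroupOf M)
    have h5 : Nat.card ((ZM M).subgroupOf M) = Nat.card (ZM M) :=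
      Nat.card_congr (Subgroup.subgroupOfEquivOfLe (ZM_le M)).toEquiv
    have h6 : Nat.card (D.subgroupOf M) = Nat.card D :=
      Nat.card_congr (Subgroup.subgroupOfEquivOfLe hDM).toEquiv
    rw [h2] at h1
    rw [h5, ← hcard] at h4
    rw [h6, ← h1] at h3
    have hpos : 0 < ((ZM M).subgroupOf M).index * Nat.card D :=
      Nat.mul_pos (Nat.pos_of_ne_zero (Subgroup.index_ne_zero_of_finite)) Nat.card_pos
    have : Nat.card (Subgroup.center (↥M ⧸ D.subgroupOf M)) *
        (((ZM M).subgroupOf M).index * Nat.card D) =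
        q * (((ZM M).subgroupOf M).index * Nat.card D) := by
      calc _ = Nat.card ↥M := by rw [h3]; ring
        _ = _ := by rw [← h4]; ring
    exact Nat.eq_of_mul_eq_mul_right hpos this
  have hcomm : commutator (↥M ⧸ D.subgroupOf M) = Subgroup.center (↥M ⧸ D.subgroupOf M) := by
    have e1 : commutator (↥M ⧸ D.subgroupOf M) = (commutator ↥M).map π := by
      rw [commutator_def, commutator_def, Subgroup.map_commutator,
        Subgroup.map_top_of_surjective π hπs]
    have hle : commutator (↥M ⧸ D.subgroupOf M) ≤ Subgroup.center (↥M ⧸ D.subgroupOf M) := by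
      rw [e1, hcen]
      apply Subgroup.map_mono
      rw [Subgroup.subgroupOf, ← Subgroup.map_le_iff_le_comap, map_subtype_commutator']
      exact h.comm_le_ZM
    have hne : commutator (↥M ⧸ D.subgroupOf M) ≠ ⊥ := by
      intro e
      apply hM'D
      intro s hs
      rw [← map_subtype_commutator'] at hs
      obtain ⟨s', hs', rfl⟩ := hs
      have h1 : π s' ∈ commutator (↥M ⧸ D.subgroupOf M) := by
        rw [e1]; exact Subgroup.mem_map_of_mem _ hs'
      rw [e, Subgroup.mem_bot, hπ, QuotientGroup.mk'_apply, QuotientGroup.eq_one_iff,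
        Subgroup.mem_subgroupOf] at h1
      exact h1
    have hdvd := Subgroup.card_dvd_of_le hle
    rw [hcZ] at hdvd
    rcases (Nat.dvd_prime hq.out).mp hdvd with h1 | h1
    · exact absurd (Subgroup.card_eq_one.mp h1) hne
    · exact Subgroup.eq_of_le_of_card_ge hle (by rw [hcZ, h1])
  have hpg : IsPGroup q (↥M ⧸ D.subgroupOf M) := h.hM.to_quotient _
  obtain ⟨n, hn⟩ := card_of_commutator_eq_center hpg hcomm hcZ
  refine ⟨n, ?_⟩
  have h3 := Subgroup.card_eq_card_quotient_mul_card_subgroup (D.subgroupOf M)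
  have h6 : Nat.card (D.subgroupOf M) = Nat.card D :=
    Nat.card_congr (Subgroup.subgroupOfEquivOfLe hDM).toEquiv
  rw [h3, hn, h6, ← hcard]
  ring

end Cfg

end Cfsg.Agent.Lib.Helper4.BGZ
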