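import Mathlib
import Cfsg.Agent.Lib.Helper4.BGZF
import Cfsg.Agent.S1446
import Cfsg.Agent.S3800
import Cfsg.Agent.H1.QuadThree

/-!
Bender–Glauberman Theorem 3.6 (helper4), part G: images of subgroups in the section
`N_G(Z) / Z`, and the nonabelian final configuration is impossible (via B&G Theorem 3.7, S1446).
-/

set_option autoImplicit false

namespace Cfsg.Agent.Lib.Helper4.BGZ

open scoped commutatorElement

section bar
variable {G : Type*} [Group G] (Z : Subgroup G)

/-- the quotient map `N_G(Z) → N_G(Z)/Z` -/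
def barπ : ↥(Subgroup.normalizer (Z : Set G)) →*
    ↥(Subgroup.normalizer (Z : Set G)) ⧸ Z.subgroupOf (Subgroup.normalizer (Z : Set G)) :=
  QuotientGroup.mk' _

/-- the image of a subgroup in `N_G(Z)/Z` -/
def bar (S : Subgroup G) :
    Subgroup (↥(Subgroup.normalizer (Z : Set G)) ⧸ Z.subgroupOf (Subgroup.normalizer (Z : Set G))) :=
  (S.subgroupOf (Subgroup.normalizer (Z : Set G))).map (barπ Z)

theorem barπ_surjective : Function.Surjective (barπ Z) := QuotientGroup.mk'_surjective _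

theorem barπ_eq_one_iff (g : ↥(Subgroup.normalizer (Z : Set G))) : barπ Z g = 1 ↔ (g : G) ∈ Z := by
  rw [barπ, QuotientGroup.mk'_apply, QuotientGroup.eq_one_iff, Subgroup.mem_subgroupOf]

theorem barπ_eq_iff (g h : ↥(Subgroup.normalizer (Z : Set G))) :
    barπ Z g = barπ Z h ↔ (g : G)⁻¹ * h ∈ Z := by
  rw [barπ, QuotientGroup.mk'_apply, QuotientGroup.mk'_apply, QuotientGroup.eq,
    Subgroup.mem_subgroupOf]
  simp

theorem mem_bar {S : Subgroup G} {e} : e ∈ bar Z S ↔
    ∃ s : ↥(Subgroup.normalizer (Z : Set G)), (s : G) ∈ S ∧ barπ Z s = e := by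
  rw [bar, Subgroup.mem_map]
  constructor
  · rintro ⟨s, hs, rfl⟩; exact ⟨s, Subgroup.mem_subgroupOf.mp hs, rfl⟩
  · rintro ⟨s, hs, rfl⟩; exact ⟨s, Subgroup.mem_subgroupOf.mpr hs, rfl⟩

theorem bar_mono {S T : Subgroup G} (h : S ≤ T) : bar Z S ≤ bar Z T := by
  intro e he
  obtain ⟨s, hs, rfl⟩ := (mem_bar Z).mp he
  exact (mem_bar Z).mpr ⟨s, h hs, rfl⟩

theorem bar_le_normalizer {S T : Subgroup G} (hT : T ≤ Subgroup.normalizer (Z : Set G))
    (h : S ≤ Subgroup.normalizer (T : Set G)) :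
    bar Z S ≤ Subgroup.normalizer ((bar Z T : Subgroup _) : Set _) := by
  have h1 : S.subgroupOf (Subgroup.normalizer (Z : Set G)) ≤
      Subgroup.normalizer ((T.subgroupOf (Subgroup.normalizer (Z : Set G)) : Subgroup _) : Set _) := by
    rw [← Subgroup.subgroupOf_normalizer_eq hT]
    intro s hs
    rw [Subgroup.mem_subgroupOf] at hs ⊢
    exact h hs
  exact (Subgroup.map_mono h1).trans (Subgroup.le_normalizer_map _)

theorem card_bar_dvd [Finite G] {S : Subgroup G} (hS : S ≤ Subgroup.normalizer (Z : Set G)) :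
    Nat.card (bar Z S) ∣ Nat.card S := by
  have h1 := Subgroup.card_map_dvd (S.subgroupOf (Subgroup.normalizer (Z : Set G))) (barπ Z)
  rwa [Nat.card_congr (Subgroup.subgroupOfEquivOfLe hS).toEquiv] at h1

theorem bar_ne_bot {S : Subgroup G} {s : G} (hs : s ∈ S) (hsN : s ∈ Subgroup.normalizer (Z : Set G))
    (hsZ : s ∉ Z) : bar Z S ≠ ⊥ := by
  intro e
  have h1 : barπ Z ⟨s, hsN⟩ ∈ bar Z S := (mem_bar Z).mpr ⟨⟨s, hsN⟩, hs, rfl⟩
  rw [e, Subgroup.mem_bot, barπ_eq_one_iff] at h1
  exact hsZ h1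

/-- the order of the image of a subgroup containing `Z` -/
theorem card_bar_mul [Finite G] {S : Subgroup G} (hS : S ≤ Subgroup.normalizer (Z : Set G))
    (hZS : Z ≤ S) : Nat.card (bar Z S) * Nat.card Z = Nat.card S := by
  have hker : (barπ Z).ker ≤ S.subgroupOf (Subgroup.normalizer (Z : Set G)) := by
    rw [barπ, QuotientGroup.ker_mk']
    intro g hg
    rw [Subgroup.mem_subgroupOf] at hg ⊢
    exact hZS hg
  have h1 := Subgroup.index_map_eq (S.subgroupOf (Subgroup.normalizer (Z : Set G)))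
    (barπ_surjective Z) hker
  have h2 := Subgroup.card_mul_index (bar Z S)
  have h3 := Subgroup.card_mul_index (S.subgroupOf (Subgroup.normalizer (Z : Set G)))
  have h4 := Subgroup.card_eq_card_quotient_mul_card_subgroup
    (Z.subgroupOf (Subgroup.normalizer (Z : Set G)))
  have h5 : Nat.card (S.subgroupOf (Subgroup.normalizer (Z : Set G))) = Nat.card S :=
    Nat.card_congr (Subgroup.subgroupOfEquivOfLe hS).toEquiv
  have h6 : Nat.card (Z.subgroupOf (Subgroup.normalizer (Z : Set G))) = Nat.card Z :=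
    Nat.card_congr (Subgroup.subgroupOfEquivOfLe Subgroup.le_normalizer).toEquiv
  rw [bar] at h2 ⊢
  rw [h1] at h2
  rw [h5] at h3
  rw [h6, ← h2] at h4
  have hpos : 0 < (S.subgroupOf (Subgroup.normalizer (Z : Set G))).index :=
    Nat.pos_of_ne_zero Subgroup.index_ne_zero_of_finite
  apply Nat.eq_of_mul_eq_mul_right hpos
  rw [h3, h4]; ring

end bar

namespace Cfg
variable {G V : Type*} [Group G] [Finite G] [CommGroup V] [Finite V] [MulDistribMulAction G V]
  {p q : ℕ} [hp : Fact p.Prime] [hq : Fact q.Prime] {M A : Subgroup G} {x : G}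

theorem A_ne_bot (h : Cfg G V p q M A x) : A ≠ ⊥ := by
  intro e
  apply h.hMA
  rw [e]; exact bot_le

theorem A_inf_M (h : Cfg G V p q M A x) : A ⊓ M = ⊥ := Subgroup.inf_eq_bot_of_coprime h.copAM

theorem card_R (x : G) : Nat.card (Subgroup.zpowers x) = orderOf x := Nat.card_zpowers x

theorem R_inf_M (h : Cfg G V p q M A x) : Subgroup.zpowers x ⊓ M = ⊥ := by
  apply Subgroup.inf_eq_bot_of_coprime
  rw [Nat.card_zpowers]
  obtain ⟨b, hb⟩ := h.hM.exists_card_eq
  rw [hb]
  exact Nat.Coprime.pow_right _ ((Nat.coprime_primes h.hxr hq.out).mpr h.hxq)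

theorem x_ne_one (h : Cfg G V p q M A x) : x ≠ 1 := by
  intro e
  have := h.hxr
  rw [e, orderOf_one] at this
  exact Nat.not_prime_one this

/-- B&G Theorem 3.7 applied in `N(Z)/Z`: `|M : Z(M)| = c ^ r` with `c ∣ q` -/
theorem card_M_pow (h : Cfg G V p q M A x) [hsolvG : Group.IsSolvable G]
    (hnab : ¬ ∀ a ∈ M, ∀ b ∈ M, a * b = b * a) :
    ∃ c : ℕ, c ∣ q ∧ Nat.card M = Nat.card (ZM M) * c ^ orderOf x := by
  set Z := ZM M with hZdef
  have hMN : M ≤ Subgroup.normalizer (Z : Set G) := fun m hm =>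
    ZM_normalizer (Subgroup.le_normalizer hm)
  have hAN : A ≤ Subgroup.normalizer (Z : Set G) := fun a ha => ZM_normalizer (h.hAM ha)
  have hxN : x ∈ Subgroup.normalizer (Z : Set G) := ZM_normalizer h.hxM
  have hRN : Subgroup.zpowers x ≤ Subgroup.normalizer (Z : Set G) :=
    (Subgroup.zpowers_le).mpr hxN
  have hZM : Z ≤ M := ZM_le M
  have haZ : ∀ a ∈ A, a ∈ Z → a = 1 := by
    intro a ha haz
    have : a ∈ A ⊓ M := ⟨ha, hZM haz⟩
    rw [h.A_inf_M] at this
    exact Subgroup.mem_bot.mp this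
  have hyZ : ∀ y ∈ Subgroup.zpowers x, y ∈ Z → y = 1 := by
    intro y hy hyz
    have : y ∈ Subgroup.zpowers x ⊓ M := ⟨hy, hZM hyz⟩
    rw [h.R_inf_M] at this
    exact Subgroup.mem_bot.mp this
  -- the hypotheses of Theorem 3.7
  have hK1 : bar Z A ≠ ⊥ := by
    obtain ⟨a, ha1⟩ := (Subgroup.ne_bot_iff_exists_ne_one).mp h.A_ne_bot
    exact bar_ne_bot Z a.2 (hAN a.2) (fun hz => ha1 (Subtype.ext (haZ a a.2 hz)))
  have hR1 : bar Z (Subgroup.zpowers x) ≠ ⊥ :=
    bar_ne_bot Z (Subgroup.mem_zpowers x) hxN (fun hz => h.x_ne_one (hyZ x (Subgroup.mem_zpowers x) hz))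
  have hcK : ∃ a : ℕ, Nat.card (bar Z A) = p ^ a := by
    obtain ⟨a, ha⟩ := h.hA.exists_card_eq
    have := card_bar_dvd Z hAN
    rw [ha] at this
    obtain ⟨b, _, hb⟩ := (Nat.dvd_prime_pow hp.out).mp this
    exact ⟨b, hb⟩
  have hcR : Nat.card (bar Z (Subgroup.zpowers x)) = orderOf x := by
    have := card_bar_dvd Z hRN
    rw [Nat.card_zpowers] at this
    rcases (Nat.dvd_prime h.hxr).mp this with h1 | h1
    · exact absurd (Subgroup.card_eq_one.mp h1) hR1
    · exact h1
  have hcM : ∃ b : ℕ, Nat.card (bar Z M) = q ^ b := by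
    obtain ⟨a, ha⟩ := h.hM.exists_card_eq
    have := card_bar_dvd Z hMN
    rw [ha] at this
    obtain ⟨b, _, hb⟩ := (Nat.dvd_prime_pow hq.out).mp this
    exact ⟨b, hb⟩
  have hcopKR : (Nat.card (bar Z A)).Coprime (Nat.card (bar Z (Subgroup.zpowers x))) := by
    obtain ⟨a, ha⟩ := hcK
    rw [ha, hcR]
    exact Nat.Coprime.pow_left _ ((Nat.coprime_primes hp.out h.hxr).mpr h.hxp.symm)
  have hKR : bar Z A ⊓ bar Z (Subgroup.zpowers x) = ⊥ := Subgroup.inf_eq_bot_of_coprime hcopKR
  have hRK : bar Z (Subgroup.zpowers x) ≤ Subgroup.normalizer ((bar Z A : Subgroup _) : Set _) :=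
    bar_le_normalizer Z hAN ((Subgroup.zpowers_le).mpr h.hxA)
  have hfrob : ∀ r ∈ bar Z (Subgroup.zpowers x), r ≠ 1 →
      bar Z A ⊓ Subgroup.centralizer ({r} : Set _) = ⊥ := by
    intro r hr hr1
    obtain ⟨y, hy, rfl⟩ := (mem_bar Z).mp hr
    rw [eq_bot_iff]
    rintro k ⟨hk, hkc⟩
    obtain ⟨a, ha, rfl⟩ := (mem_bar Z).mp hk
    rw [Subgroup.mem_bot, barπ_eq_one_iff]
    have h1 : barπ Z y * barπ Z a = barπ Z a * barπ Z y :=
      Subgroup.mem_centralizer_iff.mp hkc _ rfl
    rw [← map_mul, ← map_mul, barπ_eq_iff] at h1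
    have hyA : (y : G) ∈ Subgroup.normalizer (A : Set G) := (Subgroup.zpowers_le.mpr h.hxA) hy
    have h2 : ((y : G) * a)⁻¹ * (a * y) ∈ A := by
      have h3 : (y : G)⁻¹ * a * y ∈ A := by
        have := conj_mem_of_mem_normalizer (inv_mem hyA) ha
        simpa using this
      have e : ((y : G) * a)⁻¹ * (a * y) = (a : G)⁻¹ * ((y : G)⁻¹ * a * y) := by group
      rw [e]; exact mul_mem (inv_mem ha) h3
    have h4 := haZ _ h2 (by simpa using h1)
    have hcomm : (y : G) * a = a * y := by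
      have := congrArg (fun t => (y : G) * a * t) h4
      simpa [mul_assoc] using this.symm
    -- `y` is a nontrivial power of `x`
    obtain ⟨k, hk⟩ := Subgroup.mem_zpowers_iff.mp hy
    have hy1 : (y : G) ≠ 1 := by
      intro e
      apply hr1
      rw [barπ_eq_one_iff, e]; exact one_mem _
    have hxc : x ∈ Subgroup.centralizer ({(a : G)} : Set G) := by
      have hyc : (y : G) ∈ Subgroup.centralizer ({(a : G)} : Set G) := by
        rw [Subgroup.mem_centralizer_iff]
        intro b hb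
        rw [Set.mem_singleton_iff] at hb
        rw [hb]; exact hcomm.symm
      -- `x` is a power of `y`
      have hgen : x ∈ Subgroup.zpowers (y : G) := by
        have hcard : Nat.card (Subgroup.zpowers x) = orderOf x := Nat.card_zpowers x
        haveI : Fact (orderOf x).Prime := ⟨h.hxr⟩
        have := mem_zpowers_of_prime_card (G := ↥(Subgroup.zpowers x)) hcard
          (g := ⟨y, hy⟩) (g' := ⟨x, Subgroup.mem_zpowers x⟩)
          (fun e => hy1 (congrArg Subtype.val e))
        obtain ⟨n, hn⟩ := Subgroup.mem_zpowers_iff.mp this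
        rw [Subgroup.mem_zpowers_iff]
        exact ⟨n, by simpa using congrArg Subtype.val hn⟩
      exact (Subgroup.zpowers_le.mpr hyc) hgen
    have := Subgroup.mem_centralizer_iff.mp hxc a rfl
    rw [h.fpf a ha this.symm]; exact one_mem _
  have hsolv : Group.IsSolvable ↥(bar Z A ⊔ bar Z (Subgroup.zpowers x)) := inferInstance
  have hodd : Odd (Nat.card ↥(bar Z A ⊔ bar Z (Subgroup.zpowers x))) := by
    refine Odd.of_dvd_nat h.odd ?_
    exact (Subgroup.card_subgroup_dvd_card _).trans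
      ((Subgroup.card_quotient_dvd_card _).trans (Subgroup.card_subgroup_dvd_card _))
  have hM1 : bar Z M ≠ ⊥ := by
    obtain ⟨m, hm, hmZ⟩ := SetLike.exists_of_lt (lt_of_le_of_ne hZM (h.ZM_ne hnab))
    exact bar_ne_bot Z hm (hMN hm) hmZ
  have hMp : IsPGroup q ↥(bar Z M) := (h.hM.comap_subtype).map _
  have hMn : Group.IsNilpotent ↥(bar Z M) := hMp.isNilpotent
  have hKM : bar Z A ≤ Subgroup.normalizer ((bar Z M : Subgroup _) : Set _) :=
    bar_le_normalizer Z hMN h.hAM
  have hRM : bar Z (Subgroup.zpowers x) ≤ Subgroup.normalizer ((bar Z M : Subgroup _) : Set _) :=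
    bar_le_normalizer Z hMN ((Subgroup.zpowers_le).mpr h.hxM)
  have hcop : (Nat.card ↥(bar Z A ⊔ bar Z (Subgroup.zpowers x))).Coprime (Nat.card (bar Z M)) := by
    rw [Cfsg.Agent.H1.card_sup_of_le_normalizer_coprime _ _ hRK hcopKR]
    obtain ⟨a, ha⟩ := hcK
    obtain ⟨b, hb⟩ := hcM
    rw [ha, hcR, hb]
    apply Nat.Coprime.mul_left
    · exact Nat.Coprime.pow _ _ ((Nat.coprime_primes hp.out hq.out).mpr h.hpq)
    · exact Nat.Coprime.pow_right _ ((Nat.coprime_primes h.hxr hq.out).mpr h.hxq)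
  -- `C_{M/Z}(A) = 1`
  have hCK : bar Z M ⊓ Subgroup.centralizer ((bar Z A : Subgroup _) : Set _) = ⊥ := by
    set M₂ : Subgroup G := ((Subgroup.centralizer ((bar Z A : Subgroup _) : Set _)).comap
      (barπ Z)).map (Subgroup.subtype _) ⊓ M with hM₂
    have hM₂mem : ∀ g : G, g ∈ M₂ ↔ g ∈ M ∧ ∃ n : ↥(Subgroup.normalizer (Z : Set G)),
        barπ Z n ∈ Subgroup.centralizer ((bar Z A : Subgroup _) : Set _) ∧ (n : G) = g := by
      intro g
      rw [hM₂, Subgroup.mem_inf, Subgroup.mem_map, and_comm]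
      simp only [Subgroup.mem_comap, Subgroup.subtype_apply]
    have hM₂M : M₂ ≤ M := fun g hg => ((hM₂mem g).mp hg).1
    have key : ∀ t : ↥(Subgroup.normalizer (Z : Set G)),
        (t : G) ∈ Subgroup.normalizer (M : Set G) →
        barπ Z t ∈ Subgroup.normalizer ((bar Z A : Subgroup _) : Set _) →
        ∀ g ∈ M₂, (t : G) * g * (t : G)⁻¹ ∈ M₂ := by
      intro t htM htA g hg
      obtain ⟨hgM, n, hn, rfl⟩ := (hM₂mem g).mp hg
      rw [hM₂mem]
      refine ⟨conj_mem_of_mem_normalizer htM hgM, t * n * t⁻¹, ?_, by simp⟩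
      rw [map_mul, map_mul, map_inv]
      exact conj_mem_of_mem_normalizer (mem_normalizer_centralizer htA) hn
    have hnorm : ∀ t : ↥(Subgroup.normalizer (Z : Set G)),
        (t : G) ∈ Subgroup.normalizer (M : Set G) →
        barπ Z t ∈ Subgroup.normalizer ((bar Z A : Subgroup _) : Set _) →
        (t : G) ∈ Subgroup.normalizer (M₂ : Set G) := by
      intro t htM htA
      rw [Subgroup.mem_normalizer_iff]
      intro g
      refine ⟨key t htM htA g, fun hg => ?_⟩
      have := key t⁻¹ (by simpa using inv_mem htM) (by rw [map_inv]; exact inv_mem htA) _ hg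
      simpa [mul_assoc] using this
    have hAM₂ : A ≤ Subgroup.normalizer (M₂ : Set G) := by
      intro a ha
      exact hnorm ⟨a, hAN ha⟩ (h.hAM ha)
        (Subgroup.le_normalizer ((mem_bar Z).mpr ⟨⟨a, hAN ha⟩, ha, rfl⟩))
    have hxM₂ : x ∈ Subgroup.normalizer (M₂ : Set G) :=
      hnorm ⟨x, hxN⟩ h.hxM (hRK ((mem_bar Z).mpr ⟨⟨x, hxN⟩, Subgroup.mem_zpowers x, rfl⟩))
    have hM₂ne : M₂ ≠ M := by
      intro e
      apply h.ZM_ne hnab
      apply le_antisymm hZM
      rw [← h.comm_eq, Subgroup.commutator_le]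
      intro m hm a ha
      have hm₂ : m ∈ M₂ := e ▸ hm
      obtain ⟨_, n, hn, hnm⟩ := (hM₂mem m).mp hm₂
      have h1 := Subgroup.mem_centralizer_iff.mp hn (barπ Z ⟨a, hAN ha⟩)
        ((mem_bar Z).mpr ⟨⟨a, hAN ha⟩, ha, rfl⟩)
      rw [← map_mul, ← map_mul, barπ_eq_iff] at h1
      have h2 : ((a * (n : G))⁻¹ * ((n : G) * a)) ∈ Z := by simpa using h1
      rw [hnm] at h2
      have h3 : (m * a) * ((a * m)⁻¹ * (m * a)) * (m * a)⁻¹ ∈ Z :=
        conj_mem_of_mem_normalizer (mul_mem (hMN hm) (hAN ha)) h2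
      have e2 : (m * a) * ((a * m)⁻¹ * (m * a)) * (m * a)⁻¹ = ⁅m, a⁆ := by
        rw [commutatorElement_def]; group
      rw [← e2]; exact h3
    have hM₂Z : M₂ ≤ Z := h.le_ZM hM₂M hAM₂ hxM₂ hM₂ne
    rw [eq_bot_iff]
    intro e he
    rw [Subgroup.mem_inf] at he
    obtain ⟨heM, heC⟩ := he
    obtain ⟨m, hm, rfl⟩ := (mem_bar Z).mp heM
    rw [Subgroup.mem_bot, barπ_eq_one_iff]
    apply hM₂Z
    rw [hM₂mem]
    exact ⟨hm, m, heC, rfl⟩
  have hpr : ∀ y ∈ bar Z (Subgroup.zpowers x), y ≠ 1 →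
      bar Z M ⊓ Subgroup.centralizer ({y} : Set _) =
        bar Z M ⊓ Subgroup.centralizer ((bar Z (Subgroup.zpowers x) : Subgroup _) : Set _) := by
    intro y hy hy1
    apply le_antisymm
    · intro c hc
      rw [Subgroup.mem_inf] at hc ⊢
      obtain ⟨hcM, hcy⟩ := hc
      refine ⟨hcM, ?_⟩
      rw [Subgroup.mem_centralizer_iff]
      intro w hw
      haveI : Fact (orderOf x).Prime := ⟨h.hxr⟩
      have := mem_zpowers_of_prime_card (G := ↥(bar Z (Subgroup.zpowers x))) hcR
        (g := ⟨y, hy⟩) (g' := ⟨w, hw⟩) (fun e => hy1 (congrArg Subtype.val e))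
      obtain ⟨n, hn⟩ := Subgroup.mem_zpowers_iff.mp this
      have hwn : y ^ n = w := by simpa using congrArg Subtype.val hn
      have hcomm : Commute c y := (Subgroup.mem_centralizer_iff.mp hcy y rfl).symm
      rw [← hwn]
      exact (hcomm.zpow_right n).eq.symm
    · intro c hc
      rw [Subgroup.mem_inf] at hc ⊢
      exact ⟨hc.1, Subgroup.centralizer_le (Set.singleton_subset_iff.mpr hy) hc.2⟩
  obtain ⟨_, hcardM, _⟩ := Cfsg.Agent.S1446.result (bar Z A) (bar Z (Subgroup.zpowers x)) (bar Z M)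
    hK1 hR1 hKR hRK hfrob hsolv hodd hM1 hMn hKM hRM hcop hCK hpr
  refine ⟨Nat.card ↥(bar Z M ⊓ Subgroup.centralizer
    ((bar Z (Subgroup.zpowers x) : Subgroup _) : Set _)), ?_, ?_⟩
  · -- the fixed points of `x` on `M/Z` come from the cyclic group `C_M(x)` of exponent `q`
    have hC₀N : M ⊓ Subgroup.centralizer ({x} : Set G) ≤ Subgroup.normalizer (Z : Set G) :=
      inf_le_left.trans hMN
    have hle : bar Z M ⊓ Subgroup.centralizer ((bar Z (Subgroup.zpowers x) : Subgroup _) : Set _) ≤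
        bar Z (M ⊓ Subgroup.centralizer ({x} : Set G)) := by
      intro e he
      rw [Subgroup.mem_inf] at he
      obtain ⟨heM, heC⟩ := he
      haveI : Fact (orderOf x).Prime := ⟨h.hxr⟩
      have hNcop : (Nat.card ↥(Z.subgroupOf (Subgroup.normalizer (Z : Set G)))).Coprime (orderOf x) := by
        rw [Nat.card_congr (Subgroup.subgroupOfEquivOfLe Subgroup.le_normalizer).toEquiv]
        obtain ⟨b, hb⟩ := h.hM.exists_card_eq
        have : Nat.card Z ∣ q ^ b := hb ▸ Subgroup.card_dvd_of_le hZM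
        obtain ⟨c, _, hc⟩ := (Nat.dvd_prime_pow hq.out).mp this
        rw [hc]
        exact Nat.Coprime.pow_left _ ((Nat.coprime_primes hq.out h.hxr).mpr h.hxq.symm)
      have hP : IsPGroup (orderOf x)
          ↥((Subgroup.zpowers x).subgroupOf (Subgroup.normalizer (Z : Set G))) := by
        apply IsPGroup.of_card (n := 1)
        rw [Nat.card_congr (Subgroup.subgroupOfEquivOfLe hRN).toEquiv, Nat.card_zpowers, pow_one]
      have h38 := (Cfsg.Agent.S3800.result (Z.subgroupOf (Subgroup.normalizer (Z : Set G))) hNcop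
        ((Subgroup.zpowers x).subgroupOf (Subgroup.normalizer (Z : Set G))) hP).2
      have heC' : e ∈ Subgroup.centralizer
          ((((Subgroup.zpowers x).subgroupOf (Subgroup.normalizer (Z : Set G))).map
            (QuotientGroup.mk' (Z.subgroupOf (Subgroup.normalizer (Z : Set G)))) : Subgroup _) : Set _) := heC
      rw [h38] at heC'
      obtain ⟨c, hc, rfl⟩ := heC'
      obtain ⟨m, hm, hmc⟩ := (mem_bar Z).mp heM
      have hmc' : barπ Z m = barπ Z c := hmc
      rw [barπ_eq_iff] at hmc'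
      have hcM : (c : G) ∈ M := by
        have := mul_mem hm (hZM hmc')
        simpa using this
      have hcx : (c : G) ∈ Subgroup.centralizer ({x} : Set G) := by
        rw [Subgroup.mem_centralizer_iff]
        intro b hb
        rw [Set.mem_singleton_iff] at hb
        rw [hb]
        have hxP : (⟨x, hxN⟩ : ↥(Subgroup.normalizer (Z : Set G))) ∈
            ((Subgroup.zpowers x).subgroupOf (Subgroup.normalizer (Z : Set G)) : Set _) := by
          rw [SetLike.mem_coe, Subgroup.mem_subgroupOf]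
          exact Subgroup.mem_zpowers x
        have := Subgroup.mem_centralizer_iff.mp hc _ hxP
        exact congrArg Subtype.val this
      exact (mem_bar Z).mpr ⟨c, ⟨hcM, hcx⟩, rfl⟩
    have h1 := Subgroup.card_dvd_of_le hle
    have h2 := card_bar_dvd Z hC₀N
    have h3 : Nat.card ↥(M ⊓ Subgroup.centralizer ({x} : Set G)) ∣ q := by
      haveI := h.hCM
      rw [← IsCyclic.exponent_eq_card]
      apply Monoid.exponent_dvd_of_forall_pow_eq_one
      intro g
      apply Subtype.ext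
      have := h.exp_q hnab g g.2.1
      simpa using this
    exact h1.trans (h2.trans h3)
  · rw [← card_bar_mul Z hMN hZM, hcardM, hcR, mul_comm]

/-- the nonabelian final configuration is impossible -/
theorem nonabelian_false (h : Cfg G V p q M A x) [Group.IsSolvable G]
    (hnab : ¬ ∀ a ∈ M, ∀ b ∈ M, a * b = b * a) : False := by
  obtain ⟨n, hn⟩ := h.card_M_sq hnab
  obtain ⟨c, hc, hcM⟩ := h.card_M_pow hnab
  have hZpos : 0 < Nat.card (ZM M) := Nat.card_pos
  have h1 : q ^ (2 * n) = c ^ orderOf x := by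
    apply Nat.eq_of_mul_eq_mul_left hZpos
    rw [← hn, ← hcM]
  rcases (Nat.dvd_prime hq.out).mp hc with e | e
  · rw [e, one_pow] at h1
    have : Nat.card M = Nat.card (ZM M) := by rw [hn, h1, mul_one]
    exact h.ZM_ne hnab (Subgroup.eq_of_le_of_card_ge (ZM_le M) this.le)
  · rw [e] at h1
    have h2 := Nat.pow_right_injective hq.out.two_le h1
    have hodd := h.r_odd
    rw [← h2] at hodd
    exact absurd hodd (by simp)

/-- the final configuration is impossible -/
theorem false (h : Cfg G V p q M A x) [Group.IsSolvable G] : False := by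
  by_cases hab : ∀ a ∈ M, ∀ b ∈ M, a * b = b * a
  · exact h.abelian_false hab
  · exact h.nonabelian_false hab

end Cfg

end Cfsg.Agent.Lib.Helper4.BGZ
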