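import Mathlib
import Cfsg.Agent.Lib.Helper4.BGZG
import Cfsg.Agent.Lib.Helper7.CoprimeGen5

/-!
Bender–Glauberman Theorem 3.6 (helper4), part H: the bridge from a concrete configuration inside
a group `G` (a normal elementary abelian `p`-subgroup `V`, a `q`-subgroup `M`, an abelian
`p`-subgroup `A` and an element `x`) to the abstract configuration `Cfg`.
-/

set_option autoImplicit false

namespace Cfsg.Agent.Lib.Helper4.BGZ

section bridge
variable {G : Type*} [Group G]

/-- the conjugation action of `G` on a normal subgroup -/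
@[reducible] noncomputable def conjNAct (V : Subgroup G) [V.Normal] : MulDistribMulAction G ↥V :=
  MulDistribMulAction.compHom ↥V (MulAut.conjNormal (H := V))

theorem concrete_false [Finite G] [Group.IsSolvable G] (hodd : Odd (Nat.card G))
    {p q : ℕ} [Fact p.Prime] [Fact q.Prime] (hpq : p ≠ q)
    (V M A : Subgroup G) (x : G) [V.Normal]
    (hVc : ∀ a ∈ V, ∀ b ∈ V, a * b = b * a) (hVe : ∀ v ∈ V, v ^ p = 1)
    (hM : IsPGroup q M) (hA : IsPGroup p A) (hAc : ∀ a ∈ A, ∀ b ∈ A, a * b = b * a)
    (hxr : (orderOf x).Prime) (hxp : orderOf x ≠ p) (hxq : orderOf x ≠ q)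
    (hAM : A ≤ Subgroup.normalizer (M : Set G)) (hxM : x ∈ Subgroup.normalizer (M : Set G))
    (hxA : x ∈ Subgroup.normalizer (A : Set G))
    (fpf : ∀ a ∈ A, x * a = a * x → a = 1)
    (faith : M ⊓ Subgroup.centralizer (V : Set G) = ⊥)
    (hMA : ¬ A ≤ Subgroup.centralizer (M : Set G))
    (hmin : ∀ M₂ : Subgroup G, M₂ ≤ M → A ≤ Subgroup.normalizer (M₂ : Set G) →
      x ∈ Subgroup.normalizer (M₂ : Set G) → M₂ ≠ M → A ≤ Subgroup.centralizer (M₂ : Set G))
    (hCV : Nat.card ↥(V ⊓ Subgroup.centralizer ({x} : Set G)) ≤ p)
    (hCM : IsCyclic ↥(M ⊓ Subgroup.centralizer ({x} : Set G))) : False := by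
  letI : CommGroup ↥V :=
    { (inferInstance : Group ↥V) with mul_comm := fun a b => Subtype.ext (hVc a a.2 b b.2) }
  letI : MulDistribMulAction G ↥V := conjNAct V
  have hsm : ∀ (g : G) (v : ↥V), ((g • v : ↥V) : G) = g * v * g⁻¹ := fun g v => rfl
  have hfixmem : ∀ (S : Set G) (v : ↥V), v ∈ fix ↥V S ↔ (v : G) ∈ Subgroup.centralizer S := by
    intro S v
    rw [mem_fix, Subgroup.mem_centralizer_iff]
    constructor
    · intro h s hs
      have h1 := congrArg Subtype.val (h s hs)
      rw [hsm] at h1
      calc s * (v : G) = s * v * s⁻¹ * s := by group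
        _ = v * s := by rw [h1]
    · intro h s hs
      apply Subtype.ext
      rw [hsm, h s hs]
      group
  have hfix : ∀ S : Set G, (fix ↥V S).map V.subtype = V ⊓ Subgroup.centralizer S := by
    intro S
    ext g
    rw [Subgroup.mem_map, Subgroup.mem_inf]
    constructor
    · rintro ⟨v, hv, rfl⟩
      exact ⟨v.2, (hfixmem S v).mp hv⟩
    · rintro ⟨hgV, hgC⟩
      exact ⟨⟨g, hgV⟩, (hfixmem S _).mpr hgC, rfl⟩
  have hVp : IsPGroup p V := by
    intro v
    refine ⟨1, ?_⟩
    apply Subtype.ext
    rw [pow_one, Subgroup.coe_pow, hVe _ v.2]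
    rfl
  have hC : Cfg G ↥V p q M A x :=
    { odd := hodd
      hpq := hpq
      exp := fun v => by
        apply Subtype.ext
        rw [Subgroup.coe_pow, hVe _ v.2]
        rfl
      hM := hM
      hA := hA
      hAc := hAc
      hxr := hxr
      hxp := hxp
      hxq := hxq
      hAM := hAM
      hxM := hxM
      hxA := hxA
      fpf := fpf
      faith := by
        intro m hm hmv
        have h1 : m ∈ M ⊓ Subgroup.centralizer (V : Set G) := by
          rw [Subgroup.mem_inf]
          refine ⟨hm, ?_⟩
          rw [Subgroup.mem_centralizer_iff]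
          intro v hv
          have h2 := congrArg Subtype.val (hmv ⟨v, hv⟩)
          rw [hsm] at h2
          simp only at h2
          calc v * m = (m * v * m⁻¹) * m := by rw [h2]
            _ = m * v := by group
        rw [faith] at h1
        exact Subgroup.mem_bot.mp h1
      hMA := hMA
      hmin := hmin
      hCV := by
        have h1 := hfix ({x} : Set G)
        have h2 : Nat.card ↥((fix ↥V ({x} : Set G)).map V.subtype) =
            Nat.card ↥(fix ↥V ({x} : Set G)) :=
          Subgroup.card_map_of_injective V.subtype_injective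
        rw [← h2, h1]
        exact hCV
      hCM := hCM
      hCG := by
        intro E S hEM hEc hSE hex
        by_contra hno
        push_neg at hno
        have hEab : IsMulCommutative ↥E := ⟨⟨fun a b => Subtype.ext (hEc a a.2 b b.2)⟩⟩
        have hEV : E ≤ Subgroup.normalizer (V : Set G) := by
          rw [Subgroup.normalizer_eq_top]; exact le_top
        have hcop : (Nat.card E).Coprime (Nat.card V) := by
          obtain ⟨a, ha⟩ := (hM.to_le hEM).exists_card_eq
          obtain ⟨b, hb⟩ := hVp.exists_card_eq
          rw [ha, hb]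
          exact Nat.Coprime.pow _ _
            ((Nat.coprime_primes (Fact.out : q.Prime) (Fact.out : p.Prime)).mpr (Ne.symm hpq))
        have hgen := (Cfsg.Agent.Lib.Helper7.abelian_coprime_generation E V hEab hEV hcop).1
        have hle : V ≤ Subgroup.centralizer (S : Set G) := by
          rw [← hgen]
          apply iSup₂_le
          rintro B ⟨hBE, a, ha, hBa⟩
          intro v hv
          rw [Subgroup.mem_inf] at hv
          rw [Subgroup.mem_centralizer_iff]
          intro s hs
          have h3 := hno B hBE ⟨a, ha, hBa⟩ s hs ⟨v, hv.1⟩ ((hfixmem _ _).mpr hv.2)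
          have h4 := congrArg Subtype.val h3
          rw [hsm] at h4
          simp only at h4
          calc s * v = (s * v * s⁻¹) * s := by group
            _ = v * s := by rw [h4]
        obtain ⟨s, hs, v, hv⟩ := hex
        apply hv
        apply Subtype.ext
        rw [hsm]
        have h5 := (Subgroup.mem_centralizer_iff.mp (hle v.2)) s hs
        calc s * (v : G) * s⁻¹ = (v * s) * s⁻¹ := by rw [h5]
          _ = v := by group }
  exact hC.false

end bridge

end Cfsg.Agent.Lib.Helper4.BGZ
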