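import Mathlib
import Cfsg.Agent.Lib.Helper4.BGZH
import Cfsg.Agent.Lib.Helper7.PMinimalStructure
import Cfsg.Agent.H1.QuadThree
import Cfsg.Agent.S0023

/-!
Bender–Glauberman Theorem 3.6 (helper4), part I: from a configuration `V`, `Y`, `T`, `R₀`
(`V` normal elementary abelian, `Y` a `p'`-group faithful on `V`, `T` a `p`-group faithful on `Y`,
`R₀` of prime order with cyclic Sylow subgroups in its centralizer, `C_V(R₀) ≠ 1`) to the final
configuration.
-/

set_option autoImplicit false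

namespace Cfsg.Agent.Lib.Helper4.BGZ

section prelim
variable {G : Type*} [Group G]

theorem exists_generator_of_prime_card (R₀ : Subgroup G) (h : (Nat.card R₀).Prime) :
    ∃ x, x ∈ R₀ ∧ Subgroup.zpowers x = R₀ ∧ orderOf x = Nat.card R₀ := by
  haveI : Finite ↥R₀ := Nat.finite_of_card_ne_zero h.ne_zero
  have h1 : R₀ ≠ ⊥ := by
    intro hb
    rw [hb, Subgroup.card_bot] at h
    exact Nat.not_prime_one h
  obtain ⟨x, hx1⟩ := (Subgroup.ne_bot_iff_exists_ne_one.mp h1)
  have hx1' : (x : G) ≠ 1 := fun hh => hx1 (Subtype.ext hh)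
  have hle : Subgroup.zpowers (x : G) ≤ R₀ := by
    rw [Subgroup.zpowers_le]; exact x.2
  have hd : orderOf (x : G) ∣ Nat.card R₀ := by
    rw [← Nat.card_zpowers]
    exact Subgroup.card_dvd_of_le hle
  have ho : orderOf (x : G) = Nat.card R₀ := by
    rcases (Nat.dvd_prime h).mp hd with h2 | h2
    · exact absurd (orderOf_eq_one_iff.mp h2) hx1'
    · exact h2
  refine ⟨x, x.2, ?_, ho⟩
  apply Subgroup.eq_of_le_of_card_ge hle
  rw [Nat.card_zpowers, ho]

theorem centralizer_zpowers (x : G) :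
    Subgroup.centralizer ((Subgroup.zpowers x : Subgroup G) : Set G) =
      Subgroup.centralizer ({x} : Set G) := by
  apply le_antisymm
  · apply Subgroup.centralizer_le
    intro y hy
    rw [Set.mem_singleton_iff] at hy
    rw [hy]
    exact Subgroup.mem_zpowers x
  · intro c hc
    rw [Subgroup.mem_centralizer_iff] at hc ⊢
    intro y hy
    obtain ⟨k, rfl⟩ := Subgroup.mem_zpowers_iff.mp hy
    have h1 : Commute x c := hc x rfl
    exact (h1.zpow_left k).eq

/-- in a finite cyclic group, two elements of the same prime order generate the same subgroup -/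
theorem mem_zpowers_of_orderOf_eq_prime {C : Type*} [Group C] [Finite C] [IsCyclic C] {p : ℕ}
    (hp : p.Prime) {a b : C} (ha : orderOf a = p) (hb : orderOf b = p) :
    b ∈ Subgroup.zpowers a := by
  classical
  haveI : Fintype C := Fintype.ofFinite C
  have h1 : (Finset.univ.filter (fun c : C => c ^ p = 1)).card ≤ p :=
    IsCyclic.card_pow_eq_one_le hp.pos
  let Z : Finset C := Finset.univ.filter (fun c : C => c ∈ Subgroup.zpowers a)
  have hZ : Z.card = p := by
    have : Z.card = Nat.card ↥(Subgroup.zpowers a) := by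
      rw [Nat.card_eq_fintype_card, Fintype.card_subtype]
    rw [this, Nat.card_zpowers, ha]
  have hsub : Z ⊆ Finset.univ.filter (fun c : C => c ^ p = 1) := by
    intro c hc
    rw [Finset.mem_filter] at hc ⊢
    refine ⟨Finset.mem_univ _, ?_⟩
    obtain ⟨k, rfl⟩ := Subgroup.mem_zpowers_iff.mp hc.2
    rw [← zpow_natCast, ← zpow_mul, mul_comm, zpow_mul, zpow_natCast, ← ha, pow_orderOf_eq_one,
      one_zpow]
  have heq := Finset.eq_of_subset_of_card_le hsub (by rw [hZ]; exact h1)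
  have hb' : b ∈ Finset.univ.filter (fun c : C => c ^ p = 1) := by
    rw [Finset.mem_filter]
    exact ⟨Finset.mem_univ _, by rw [← hb, pow_orderOf_eq_one]⟩
  rw [← heq] at hb'
  exact (Finset.mem_filter.mp hb').2

/-- two subgroups of a cyclic subgroup whose orders are divisible by `p` meet nontrivially -/
theorem exists_mem_inf_of_cyclic [Finite G] {p : ℕ} [Fact p.Prime] {K W U : Subgroup G}
    [IsCyclic ↥K] (hW : W ≤ K) (hU : U ≤ K) (hpW : p ∣ Nat.card W) (hpU : p ∣ Nat.card U) :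
    ∃ u ∈ W ⊓ U, u ≠ 1 := by
  obtain ⟨w, hw⟩ := exists_prime_orderOf_dvd_card' p hpW
  obtain ⟨u, hu⟩ := exists_prime_orderOf_dvd_card' p hpU
  have hw' : orderOf (⟨w, hW w.2⟩ : ↥K) = p := by
    rw [← hw]
    rw [← Subgroup.orderOf_coe w, ← Subgroup.orderOf_coe (⟨(w : G), hW w.2⟩ : ↥K)]
  have hu' : orderOf (⟨u, hU u.2⟩ : ↥K) = p := by
    rw [← hu]
    rw [← Subgroup.orderOf_coe u, ← Subgroup.orderOf_coe (⟨(u : G), hU u.2⟩ : ↥K)]
  have h1 := mem_zpowers_of_orderOf_eq_prime (Fact.out : p.Prime) hw' hu'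
  obtain ⟨k, hk⟩ := Subgroup.mem_zpowers_iff.mp h1
  have h2 : (u : G) = (w : G) ^ k := by
    have := congrArg Subtype.val hk
    rw [Subgroup.coe_zpow] at this
    exact this.symm
  refine ⟨u, ⟨?_, u.2⟩, ?_⟩
  · rw [h2]; exact zpow_mem w.2 k
  · intro h
    have : orderOf u = 1 := by
      rw [orderOf_eq_one_iff]; exact Subtype.ext h
    rw [hu] at this
    exact (Fact.out : p.Prime).one_lt.ne' this

theorem isCyclic_of_le_zgroup {L K : Subgroup G} [IsZGroup ↥L] (hKL : K ≤ L) {q : ℕ}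
    [Fact q.Prime] (hK : IsPGroup q K) : IsCyclic ↥K := by
  have h1 : IsPGroup q ↥(K.subgroupOf L) :=
    hK.of_equiv (Subgroup.subgroupOfEquivOfLe hKL).symm
  haveI := h1.isCyclic_of_isZGroup
  exact isCyclic_of_surjective _ (Subgroup.subgroupOfEquivOfLe hKL).surjective

theorem dvd_card_of_ne_bot [Finite G] {p : ℕ} [Fact p.Prime] {W : Subgroup G} (hW : IsPGroup p W)
    (h1 : W ≠ ⊥) : p ∣ Nat.card W := by
  obtain ⟨n, hn⟩ := hW.exists_card_eq
  rcases Nat.eq_zero_or_pos n with h0 | h0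
  · rw [h0, pow_zero] at hn
    exact absurd (Subgroup.card_eq_one.mp hn) h1
  · rw [hn]
    exact dvd_pow_self p h0.ne'

theorem inf_centralizer_eq_bot [Finite G] {p : ℕ} [Fact p.Prime] (H V T R₀ : Subgroup G)
    [V.Normal] (hZ : IsZGroup ↥(H ⊓ Subgroup.centralizer (R₀ : Set G)))
    (hVH : V ≤ H) (hTH : T ≤ H) (hV : IsPGroup p V) (hT : IsPGroup p T)
    (hTV : T ⊓ V = ⊥) (hVR : V ⊓ Subgroup.centralizer (R₀ : Set G) ≠ ⊥) :
    T ⊓ Subgroup.centralizer (R₀ : Set G) = ⊥ := by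
  by_contra hU
  have hUW : T ⊓ Subgroup.centralizer (R₀ : Set G) ≤
      Subgroup.normalizer ((V ⊓ Subgroup.centralizer (R₀ : Set G) : Subgroup G) : Set G) := by
    intro u hu
    apply mem_normalizer_inf
    · rw [Subgroup.normalizer_eq_top]; exact Subgroup.mem_top u
    · exact Subgroup.le_normalizer hu.2
  have hWp : IsPGroup p ↥(V ⊓ Subgroup.centralizer (R₀ : Set G)) := hV.to_le inf_le_left
  have hUp : IsPGroup p ↥(T ⊓ Subgroup.centralizer (R₀ : Set G)) := hT.to_le inf_le_left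
  have hK : IsPGroup p ↥((T ⊓ Subgroup.centralizer (R₀ : Set G)) ⊔
      (V ⊓ Subgroup.centralizer (R₀ : Set G)) : Subgroup G) :=
    IsPGroup.to_sup_of_normal_right' hUp hWp hUW
  have hKL : (T ⊓ Subgroup.centralizer (R₀ : Set G)) ⊔ (V ⊓ Subgroup.centralizer (R₀ : Set G)) ≤
      H ⊓ Subgroup.centralizer (R₀ : Set G) :=
    sup_le (inf_le_inf_right _ hTH) (inf_le_inf_right _ hVH)
  haveI := isCyclic_of_le_zgroup hKL hK
  obtain ⟨u, hu, hu1⟩ := exists_mem_inf_of_cyclic (p := p)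
    (K := (T ⊓ Subgroup.centralizer (R₀ : Set G)) ⊔ (V ⊓ Subgroup.centralizer (R₀ : Set G)))
    (W := V ⊓ Subgroup.centralizer (R₀ : Set G)) (U := T ⊓ Subgroup.centralizer (R₀ : Set G))
    le_sup_right le_sup_left (dvd_card_of_ne_bot hWp hVR) (dvd_card_of_ne_bot hUp hU)
  have : u ∈ T ⊓ V := ⟨hu.2.1, hu.1.1⟩
  rw [hTV] at this
  exact hu1 (Subgroup.mem_bot.mp this)

end prelim

section caseB
variable {G : Type*} [Group G] [Finite G]

/-- a subgroup containing a Sylow subgroup for every prime is everything -/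
theorem eq_of_forall_sylow_le {Y C : Subgroup G} (hCY : C ≤ Y)
    (h : ∀ q : ℕ, q.Prime → ∃ P : Sylow q ↥Y, (P : Subgroup ↥Y).map Y.subtype ≤ C) : C = Y := by
  apply Subgroup.eq_of_le_of_card_ge hCY
  apply Nat.le_of_dvd Nat.card_pos
  rw [Nat.dvd_iff_prime_pow_dvd_dvd]
  intro q k hq hk
  haveI := Fact.mk hq
  obtain ⟨P, hP⟩ := h q hq
  have h1 : Nat.card ↥((P : Subgroup ↥Y).map Y.subtype) = Nat.card ↥(P : Subgroup ↥Y) :=
    Subgroup.card_map_of_injective Y.subtype_injective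
  have h2 : Nat.card ↥(P : Subgroup ↥Y) = q ^ (Nat.card ↥Y).factorization q :=
    P.card_eq_multiplicity
  have h3 : k ≤ (Nat.card ↥Y).factorization q :=
    (hq.pow_dvd_iff_le_factorization Nat.card_pos.ne').mp hk
  have h4 : q ^ k ∣ Nat.card ↥((P : Subgroup ↥Y).map Y.subtype) := by
    rw [h1, h2]; exact pow_dvd_pow q h3
  exact h4.trans (Subgroup.card_dvd_of_le hP)

theorem caseB [Group.IsSolvable G] (hodd : Odd (Nat.card G))
    {p : ℕ} [Fact p.Prime] (H V Y T R₀ : Subgroup G) [V.Normal]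
    (hR₀p : (Nat.card R₀).Prime) (hcop : (Nat.card H).Coprime (Nat.card R₀))
    (hZ : IsZGroup ↥(H ⊓ Subgroup.centralizer (R₀ : Set G)))
    (hVH : V ≤ H) (hYH : Y ≤ H) (hTH : T ≤ H)
    (hVc : ∀ a ∈ V, ∀ b ∈ V, a * b = b * a) (hVe : ∀ v ∈ V, v ^ p = 1)
    (hY : (Nat.card Y).Coprime p) (hT : IsPGroup p T) (hT1 : T ≠ ⊥)
    (hTY : T ≤ Subgroup.normalizer (Y : Set G)) (hRY : R₀ ≤ Subgroup.normalizer (Y : Set G))
    (hRT : R₀ ≤ Subgroup.normalizer (T : Set G))
    (hYV : Y ⊓ Subgroup.centralizer (V : Set G) = ⊥)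
    (hTYc : T ⊓ Subgroup.centralizer (Y : Set G) = ⊥)
    (hTV : T ⊓ V = ⊥)
    (hVR : V ⊓ Subgroup.centralizer (R₀ : Set G) ≠ ⊥) : False := by
  have hp : p.Prime := Fact.out
  have hVp : IsPGroup p V := by
    intro v
    refine ⟨1, ?_⟩
    apply Subtype.ext
    rw [pow_one, Subgroup.coe_pow, hVe _ v.2]
    rfl
  obtain ⟨x, hxR, hxz, hxo⟩ := exists_generator_of_prime_card R₀ hR₀p
  have hCx : Subgroup.centralizer ({x} : Set G) = Subgroup.centralizer (R₀ : Set G) := by
    rw [← centralizer_zpowers, hxz]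
  have hU := inf_centralizer_eq_bot H V T R₀ hZ hVH hTH hVp hT hTV hVR
  -- the centre of `T`
  obtain ⟨A, hAdef⟩ : ∃ A : Subgroup G, A = T ⊓ Subgroup.centralizer (T : Set G) := ⟨_, rfl⟩
  have hAT : A ≤ T := by rw [hAdef]; exact inf_le_left
  have hAc : ∀ a ∈ A, ∀ b ∈ A, a * b = b * a := by
    intro a ha b hb
    rw [hAdef] at ha hb
    exact (Subgroup.mem_centralizer_iff.mp hb.2) a ha.1
  have hA1 : A ≠ ⊥ := by
    haveI : Nontrivial ↥T := (Subgroup.nontrivial_iff_ne_bot T).mpr hT1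
    haveI := hT.center_nontrivial
    obtain ⟨z, hz⟩ := exists_ne (1 : ↥(Subgroup.center ↥T))
    intro hb
    have hzA : ((z : ↥T) : G) ∈ A := by
      rw [hAdef]
      refine Subgroup.mem_inf.mpr ⟨(z : ↥T).2, ?_⟩
      rw [Subgroup.mem_centralizer_iff]
      intro t ht
      have := (Subgroup.mem_center_iff.mp z.2) ⟨t, ht⟩
      exact congrArg Subtype.val this
    rw [hb, Subgroup.mem_bot] at hzA
    apply hz
    apply Subtype.ext
    apply Subtype.ext
    exact hzA
  have hAp : IsPGroup p A := hT.to_le hAT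
  have hRA : R₀ ≤ Subgroup.normalizer (A : Set G) := by
    intro r hr
    rw [hAdef]
    exact mem_normalizer_inf (hRT hr) (mem_normalizer_centralizer (hRT hr))
  have hxA : x ∈ Subgroup.normalizer (A : Set G) := hRA hxR
  have hAY : A ≤ Subgroup.normalizer (Y : Set G) := hAT.trans hTY
  have hAYc : ¬ A ≤ Subgroup.centralizer (Y : Set G) := by
    intro h
    apply hA1
    rw [eq_bot_iff, ← hTYc]
    exact le_inf hAT h
  -- primes
  have hr_ne : ∀ s : ℕ, s ∣ Nat.card H → orderOf x ≠ s := by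
    intro s hsd he
    rw [hxo] at he
    have h1 : Nat.card R₀ ∣ Nat.card H := he ▸ hsd
    have h2 := Nat.Coprime.eq_one_of_dvd hcop.symm h1
    rw [h2] at hR₀p
    exact Nat.not_prime_one hR₀p
  have hV1 : V ≠ ⊥ := by
    intro hb
    apply hVR
    rw [hb]; exact bot_inf_eq _
  have hxp : orderOf x ≠ p :=
    hr_ne p ((dvd_card_of_ne_bot hVp hV1).trans (Subgroup.card_dvd_of_le hVH))
  have hcopAR : (Nat.card A).Coprime (Nat.card R₀) := by
    obtain ⟨n, hn⟩ := hAp.exists_card_eq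
    rw [hn, ← hxo]
    apply Nat.Coprime.pow_left
    rw [Nat.coprime_primes hp (hxo ▸ hR₀p)]
    exact fun h => hxp h.symm
  have hARcard : Nat.card ↥(A ⊔ R₀) = Nat.card A * Nat.card R₀ :=
    Cfsg.Agent.H1.card_sup_of_le_normalizer_coprime A R₀ hRA hcopAR
  have hcopRY : (Nat.card R₀).Coprime (Nat.card Y) :=
    (Nat.Coprime.coprime_dvd_left (Subgroup.card_dvd_of_le hYH) hcop).symm
  have hcopARY : (Nat.card ↥(A ⊔ R₀)).Coprime (Nat.card Y) := by
    rw [hARcard]
    apply Nat.Coprime.mul_left _ hcopRY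
    obtain ⟨n, hn⟩ := hAp.exists_card_eq
    rw [hn]
    exact Nat.Coprime.pow_left _ hY.symm
  have hARY : A ⊔ R₀ ≤ Subgroup.normalizer (Y : Set G) := sup_le hAY hRY
  -- an invariant Sylow subgroup on which `A` acts nontrivially
  have key : ∃ q : ℕ, q.Prime ∧ ∃ P : Sylow q ↥Y,
      A ⊔ R₀ ≤ Subgroup.normalizer (((P : Subgroup ↥Y).map Y.subtype : Subgroup G) : Set G) ∧
      ¬ A ≤ Subgroup.centralizer (((P : Subgroup ↥Y).map Y.subtype : Subgroup G) : Set G) := by
    by_contra hno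
    push_neg at hno
    apply hAYc
    rw [Subgroup.le_centralizer_iff]
    have h1 : Y ⊓ Subgroup.centralizer (A : Set G) = Y := by
      apply eq_of_forall_sylow_le inf_le_left
      intro q hq
      haveI := Fact.mk hq
      obtain ⟨P, hP⟩ := Cfsg.Agent.S0023.result (A ⊔ R₀) Y hARY hcopARY (Or.inl inferInstance) q
      refine ⟨P, le_inf (Subgroup.map_subtype_le _) ?_⟩
      rw [← Subgroup.le_centralizer_iff]
      exact hno q hq P hP
    rw [← h1]
    exact inf_le_right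
  obtain ⟨q, hq, P, hPn, hPc⟩ := key
  haveI := Fact.mk hq
  obtain ⟨Q, hQdef⟩ : ∃ Q : Subgroup G, Q = (P : Subgroup ↥Y).map Y.subtype := ⟨_, rfl⟩
  rw [← hQdef] at hPn hPc
  have hQY : Q ≤ Y := by rw [hQdef]; exact Subgroup.map_subtype_le _
  have hQq : IsPGroup q Q := by rw [hQdef]; exact P.isPGroup'.map _
  have hQ1 : Q ≠ ⊥ := by
    intro hb
    apply hPc
    rw [hb]
    intro a _
    rw [Subgroup.mem_centralizer_iff]
    intro y hy
    have : y = 1 := Subgroup.mem_bot.mp hy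
    rw [this, one_mul, mul_one]
  have hqY : q ∣ Nat.card Y := (dvd_card_of_ne_bot hQq hQ1).trans (Subgroup.card_dvd_of_le hQY)
  have hpq : p ≠ q := by
    intro h
    rw [← h] at hqY
    have := Nat.Coprime.eq_one_of_dvd hY.symm hqY
    exact hp.one_lt.ne' this
  have hxq : orderOf x ≠ q := hr_ne q (hqY.trans (Subgroup.card_dvd_of_le hYH))
  -- a minimal subgroup
  have hmin := (wellFounded_lt : WellFounded ((· < ·) : Subgroup G → Subgroup G → Prop)).has_min
    {M : Subgroup G | M ≤ Q ∧ A ≤ Subgroup.normalizer (M : Set G) ∧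
      x ∈ Subgroup.normalizer (M : Set G) ∧ ¬ A ≤ Subgroup.centralizer (M : Set G)}
    ⟨Q, le_rfl, le_sup_left.trans hPn, hPn (Subgroup.mem_sup_right hxR), hPc⟩
  obtain ⟨M, ⟨hMQ, hAM, hxM, hMA⟩, hMmin⟩ := hmin
  have hL : ∀ K : Subgroup G, K ≤ H → K ⊓ Subgroup.centralizer ({x} : Set G) ≤
      H ⊓ Subgroup.centralizer (R₀ : Set G) := by
    intro K hK
    rw [hCx]
    exact inf_le_inf_right _ hK
  refine concrete_false hodd hpq V M A x hVc hVe (hQq.to_le hMQ) hAp hAc (hxo ▸ hR₀p) hxp hxq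
    hAM hxM hxA ?_ ?_ hMA ?_ ?_ ?_
  · intro a ha hxa
    have h1 : a ∈ T ⊓ Subgroup.centralizer (R₀ : Set G) := by
      refine Subgroup.mem_inf.mpr ⟨hAT ha, ?_⟩
      rw [← hCx, Subgroup.mem_centralizer_iff]
      intro y hy
      rw [Set.mem_singleton_iff] at hy
      rw [hy, hxa]
    rw [hU] at h1
    exact Subgroup.mem_bot.mp h1
  · rw [eq_bot_iff, ← hYV]
    exact inf_le_inf_right _ (hMQ.trans hQY)
  · intro M₂ hM₂ hA₂ hx₂ hne
    by_contra hc
    exact hMmin M₂ ⟨hM₂.trans hMQ, hA₂, hx₂, hc⟩ (lt_of_le_of_ne hM₂ hne)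
  · haveI : IsCyclic ↥(V ⊓ Subgroup.centralizer ({x} : Set G)) :=
      isCyclic_of_le_zgroup (hL V hVH) (hVp.to_le inf_le_left)
    have h1 : Monoid.exponent ↥(V ⊓ Subgroup.centralizer ({x} : Set G)) ∣ p := by
      apply Monoid.exponent_dvd_of_forall_pow_eq_one
      intro g
      apply Subtype.ext
      rw [Subgroup.coe_pow, hVe _ g.2.1]
      rfl
    rw [IsCyclic.exponent_eq_card] at h1
    exact Nat.le_of_dvd hp.pos h1
  · exact isCyclic_of_le_zgroup (hL M (hMQ.trans (hQY.trans hYH)))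
      ((hQq.to_le hMQ).to_le inf_le_left)

end caseB

end Cfsg.Agent.Lib.Helper4.BGZ
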