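import Mathlib
import Cfsg.Agent.Lib.Helper4.BGZI
import Cfsg.Agent.Lib.Helper8.BGZRedC
import Cfsg.Agent.Lib.Helper7.Core
import Cfsg.Agent.Lib.Lead.PiCore
import Cfsg.Agent.Lib.Lead.PGroup
import Cfsg.Agent.Lib.Lead.Conj
import Cfsg.Agent.H1.Cores
import Cfsg.Agent.H1.PLength
import Cfsg.Agent.S0043
import Cfsg.Agent.S0044

/-!
Bender–Glauberman Theorem 3.6 (helper4), part J: the minimal situation in Case B, once a complement
`G₁` to the minimal normal subgroup `V` is given.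
-/

set_option autoImplicit false

namespace Cfsg.Agent.Lib.Helper4.BGZ

open Cfsg.Agent.Lib.Lead.Conj

section general
variable {G : Type*} [Group G]

theorem normalizer_le_normalizer_map_char (K : Subgroup G) (C : Subgroup ↥K)
    [hC : C.Characteristic] :
    Subgroup.normalizer (K : Set G) ≤
      Subgroup.normalizer ((C.map K.subtype : Subgroup G) : Set G) := by
  have key : ∀ n ∈ Subgroup.normalizer (K : Set G), ∀ x ∈ C.map K.subtype,
      n * x * n⁻¹ ∈ C.map K.subtype := by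
    intro n hn x hx
    obtain ⟨c, hc, rfl⟩ := hx
    have h1 := Subgroup.characteristic_iff_map_eq.mp hC (K.normalizerMonoidHom ⟨n, hn⟩)
    have h2 : K.normalizerMonoidHom ⟨n, hn⟩ c ∈ C := by
      rw [← h1]; exact ⟨c, hc, rfl⟩
    exact ⟨_, h2, rfl⟩
  intro n hn
  rw [Subgroup.mem_normalizer_iff]
  intro x
  refine ⟨key n hn x, fun hx => ?_⟩
  have := key n⁻¹ (inv_mem hn) _ hx
  simpa [mul_assoc] using this

theorem le_normalizer_map_of_normal (K : Subgroup G) (C : Subgroup ↥K) [hC : C.Normal] :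
    K ≤ Subgroup.normalizer ((C.map K.subtype : Subgroup G) : Set G) := by
  have key : ∀ n ∈ K, ∀ x ∈ C.map K.subtype, n * x * n⁻¹ ∈ C.map K.subtype := by
    intro n hn x hx
    obtain ⟨c, hc, rfl⟩ := hx
    exact ⟨⟨n, hn⟩ * c * ⟨n, hn⟩⁻¹, hC.conj_mem c hc ⟨n, hn⟩, rfl⟩
  intro n hn
  rw [Subgroup.mem_normalizer_iff]
  intro x
  refine ⟨key n hn x, fun hx => ?_⟩
  have := key n⁻¹ (inv_mem hn) _ hx
  simpa [mul_assoc] using this

/-- the dual of Hall–Higman's Lemma 1.2.3 for solvable groups -/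
theorem centralizer_pPrimeCore_le {X : Type*} [Group X] [Finite X] [hs : Group.IsSolvable X]
    (p : ℕ) [hp : Fact p.Prime] (hO : Cfsg.pCore p X = ⊥) :
    Subgroup.centralizer ((Cfsg.pPrimeCore p X : Subgroup X) : Set X) ≤ Cfsg.pPrimeCore p X := by
  have hF : Cfsg.fittingSubgroup X ≤ Cfsg.pPrimeCore p X := by
    rw [Cfsg.Agent.H1.fittingSubgroup_eq_iSup_pCore]
    apply iSup_le
    intro r
    by_cases hr : (r : ℕ) = p
    · rw [hr, hO]; exact bot_le
    · exact Cfsg.Agent.H1.le_pPrimeCore (Cfsg.Agent.Lib.Helper7.pCore_normal _ _)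
        (Cfsg.Agent.H1.pCore_coprime_of_ne hp.out r.2 hr)
  have h1 := @Cfsg.Agent.S0044.result X _ _ hs
  exact (Subgroup.centralizer_le hF).trans (h1.trans hF)

end general

/-- the minimal situation -/
structure Ctx {G : Type*} [Group G] (p : ℕ) (H R₀ : Subgroup G) : Prop where
  normal : H.Normal
  cop : (Nat.card H).Coprime (Nat.card R₀)
  prime : (Nat.card R₀).Prime
  zgroup : IsZGroup ↥(H ⊓ Subgroup.centralizer (R₀ : Set G))
  hQ : ∀ (N : Subgroup G) [N.Normal], N ≤ H → N ≠ ⊥ →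
        Cfsg.PLengthLE p 1 ↥(H.map (QuotientGroup.mk' N))
  hnot : ¬ Cfsg.PLengthLE p 1 ↥H

namespace Ctx
variable {G : Type*} [Group G] [Finite G] {p : ℕ} [Fact p.Prime] {H R₀ : Subgroup G}

theorem F1 (c : Ctx p H R₀) (N : Subgroup G) [N.Normal] (hNH : N ≤ H)
    (hN : (Nat.card N).Coprime p) : N = ⊥ := by
  by_contra h
  exact c.hnot (Cfsg.Agent.Lib.Helper8.BGZ.plength_of_normal_pprime hNH hN (c.hQ N hNH h))

theorem F2 (c : Ctx p H R₀) (N₁ N₂ : Subgroup G) [N₁.Normal] [N₂.Normal] (h1 : N₁ ≤ H)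
    (h2 : N₂ ≤ H) (hd : N₁ ⊓ N₂ = ⊥) : N₁ = ⊥ ∨ N₂ = ⊥ := by
  by_contra h
  push_neg at h
  exact c.hnot (Cfsg.Agent.Lib.Helper8.BGZ.plength_of_disjoint_normals h1 h2 hd
    (c.hQ N₁ h1 h.1) (c.hQ N₂ h2 h.2))

end Ctx

section general2
variable {G : Type*} [Group G]

theorem mem_normalizer_sup {g : G} {A B : Subgroup G}
    (hA : g ∈ Subgroup.normalizer (A : Set G)) (hB : g ∈ Subgroup.normalizer (B : Set G)) :
    g ∈ Subgroup.normalizer ((A ⊔ B : Subgroup G) : Set G) := by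
  rw [← cj_eq_self_iff] at hA hB ⊢
  unfold cj at *
  rw [Subgroup.map_sup, hA, hB]

end general2

/-- the minimal situation with a complement `G₁` to the minimal normal subgroup `V` -/
structure Ctx3 {G : Type*} [Group G] (p : ℕ) (H R₀ V G₁ : Subgroup G) : Prop
    extends Ctx p H R₀ where
  Vn : V.Normal
  V1 : V ≠ ⊥
  VH : V ≤ H
  Vmin : ∀ L : Subgroup G, L.Normal → L ≤ V → L = ⊥ ∨ L = V
  Vc : ∀ a ∈ V, ∀ b ∈ V, a * b = b * a
  Ve : ∀ v ∈ V, v ^ p = 1
  fac : ∀ g : G, ∃ v ∈ V, ∃ n ∈ G₁, g = v * n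
  disj : V ⊓ G₁ = ⊥
  RG : R₀ ≤ G₁

namespace Ctx3
variable {G : Type*} [Group G] [Finite G] {p : ℕ} [hp : Fact p.Prime] {H R₀ V G₁ : Subgroup G}

theorem normal_of (c : Ctx3 p H R₀ V G₁) {K : Subgroup G}
    (hV : V ≤ Subgroup.normalizer (K : Set G)) (hG : G₁ ≤ Subgroup.normalizer (K : Set G)) :
    K.Normal := by
  rw [← Subgroup.normalizer_eq_top_iff, eq_top_iff]
  intro g _
  obtain ⟨v, hv, n, hn, rfl⟩ := c.fac g
  exact mul_mem (hV hv) (hG hn)

theorem Vp (c : Ctx3 p H R₀ V G₁) : IsPGroup p V := by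
  intro v
  refine ⟨1, ?_⟩
  apply Subtype.ext
  rw [pow_one, Subgroup.coe_pow, c.Ve _ v.2]
  rfl

theorem G1_le_normalizer_H1 (c : Ctx3 p H R₀ V G₁) :
    G₁ ≤ Subgroup.normalizer ((H ⊓ G₁ : Subgroup G) : Set G) := by
  intro n hn
  haveI := c.normal
  apply mem_normalizer_inf
  · rw [Subgroup.normalizer_eq_top]; exact Subgroup.mem_top n
  · exact Subgroup.le_normalizer hn

theorem cent_eq_bot (c : Ctx3 p H R₀ V G₁) :
    H ⊓ G₁ ⊓ Subgroup.centralizer (V : Set G) = ⊥ := by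
  haveI := c.Vn
  have hKn : (H ⊓ G₁ ⊓ Subgroup.centralizer (V : Set G)).Normal := by
    apply c.normal_of
    · intro v hv
      apply mem_normalizer_of_conj_mem
      intro k hk
      have h1 : v * k = k * v := (Subgroup.mem_centralizer_iff.mp (Subgroup.mem_inf.mp hk).2) v hv
      have h2 : v * k * v⁻¹ = k := by rw [h1]; group
      rw [h2]; exact hk
    · intro n hn
      apply mem_normalizer_inf (c.G1_le_normalizer_H1 hn)
      apply mem_normalizer_centralizer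
      rw [Subgroup.normalizer_eq_top]; exact Subgroup.mem_top n
  have hd : (H ⊓ G₁ ⊓ Subgroup.centralizer (V : Set G)) ⊓ V = ⊥ := by
    rw [eq_bot_iff, ← c.disj]
    intro x hx
    obtain ⟨h1, h2⟩ := Subgroup.mem_inf.mp hx
    obtain ⟨h3, _⟩ := Subgroup.mem_inf.mp h1
    exact Subgroup.mem_inf.mpr ⟨h2, (Subgroup.mem_inf.mp h3).2⟩
  rcases c.toCtx.F2 _ V (inf_le_left.trans inf_le_left) c.VH hd with h | h
  · exact h
  · exact absurd h c.V1

theorem pCore_normal' (c : Ctx3 p H R₀ V G₁) : ((Cfsg.pCore p ↥H).map H.subtype).Normal := by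
  haveI := c.normal
  haveI := Cfsg.Agent.Lib.Helper7.pCore_characteristic p ↥H
  rw [← Subgroup.normalizer_eq_top_iff, eq_top_iff]
  have := normalizer_le_normalizer_map_char H (Cfsg.pCore p ↥H)
  rwa [Subgroup.normalizer_eq_top] at this

theorem le_pCore_of (c : Ctx3 p H R₀ V G₁) {N : Subgroup G} [N.Normal] (hNH : N ≤ H)
    (hN : IsPGroup p N) : N ≤ (Cfsg.pCore p ↥H).map H.subtype := by
  intro x hx
  refine ⟨⟨x, hNH hx⟩, ?_, rfl⟩
  have h1 : N.subgroupOf H ≤ Cfsg.pCore p ↥H :=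
    Cfsg.Agent.Lib.Helper7.le_pCore inferInstance (hN.comap_subtype)
  exact h1 (Subgroup.mem_subgroupOf.mpr hx)

theorem pCore_eq (c : Ctx3 p H R₀ V G₁) : (Cfsg.pCore p ↥H).map H.subtype = V := by
  haveI := c.Vn
  haveI := c.normal
  obtain ⟨P, hPdef⟩ : ∃ P : Subgroup G, P = (Cfsg.pCore p ↥H).map H.subtype := ⟨_, rfl⟩
  rw [← hPdef]
  haveI hPn : P.Normal := by rw [hPdef]; exact c.pCore_normal'
  have hPp : IsPGroup p P := by
    rw [hPdef]; exact (Cfsg.Agent.Lib.Helper7.pCore_isPGroup p ↥H).map _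
  have hPH : P ≤ H := by rw [hPdef]; exact Subgroup.map_subtype_le _
  have hVP : V ≤ P := by rw [hPdef]; exact c.le_pCore_of c.VH c.Vp
  -- `V` is central in `P`
  have hVZ : V ≤ Subgroup.centralizer (P : Set G) := by
    have hZn : (P ⊓ Subgroup.centralizer (P : Set G)).Normal := by
      rw [← Subgroup.normalizer_eq_top_iff, eq_top_iff]
      intro g _
      have hg : g ∈ Subgroup.normalizer (P : Set G) := by
        rw [Subgroup.normalizer_eq_top]; exact Subgroup.mem_top g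
      exact mem_normalizer_inf hg (mem_normalizer_centralizer hg)
    have hne : V ⊓ (P ⊓ Subgroup.centralizer (P : Set G)) ≠ ⊥ := by
      have h1 : V.subgroupOf P ≠ ⊥ := by
        intro h
        rw [Subgroup.subgroupOf_eq_bot] at h
        apply c.V1
        rw [eq_bot_iff, ← h.eq_bot]
        exact le_inf le_rfl hVP
      have h2 := Cfsg.Agent.Lib.Lead.PGroup.normal_inf_center_ne_bot hPp (V.subgroupOf P) h1
      obtain ⟨z, hz, hz1⟩ := (Subgroup.bot_or_exists_ne_one _).resolve_left h2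
      obtain ⟨hzV, hzZ⟩ := Subgroup.mem_inf.mp hz
      intro hb
      have hzm : (z : G) ∈ V ⊓ (P ⊓ Subgroup.centralizer (P : Set G)) := by
        refine Subgroup.mem_inf.mpr ⟨Subgroup.mem_subgroupOf.mp hzV, Subgroup.mem_inf.mpr ⟨z.2, ?_⟩⟩
        rw [Subgroup.mem_centralizer_iff]
        intro y hy
        have := (Subgroup.mem_center_iff.mp hzZ) ⟨y, hy⟩
        exact congrArg Subtype.val this
      rw [hb, Subgroup.mem_bot] at hzm
      exact hz1 (Subtype.ext hzm)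
    have h3 := (c.Vmin _ inferInstance inf_le_left).resolve_left hne
    intro v hv
    rw [← h3] at hv
    exact (Subgroup.mem_inf.mp (Subgroup.mem_inf.mp hv).2).2
  apply le_antisymm _ hVP
  intro x hx
  obtain ⟨v, hv, n, hn, rfl⟩ := c.fac x
  have hxH : v * n ∈ H := hPH hx
  have hnH : n ∈ H := by
    have := mul_mem (inv_mem (c.VH hv)) hxH
    simpa using this
  have hnC : n ∈ Subgroup.centralizer (V : Set G) := by
    rw [Subgroup.mem_centralizer_iff]
    intro w hw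
    have h1 : (v * n) * w = w * (v * n) := (Subgroup.mem_centralizer_iff.mp (hVZ hw)) _ hx
    have h2 : v * w = w * v := c.Vc v hv w hw
    calc w * n = v⁻¹ * (w * (v * n)) := by rw [← mul_assoc w v n, ← h2]; group
      _ = v⁻¹ * ((v * n) * w) := by rw [h1]
      _ = n * w := by group
  have hmem : n ∈ H ⊓ G₁ ⊓ Subgroup.centralizer (V : Set G) :=
    Subgroup.mem_inf.mpr ⟨Subgroup.mem_inf.mpr ⟨hnH, hn⟩, hnC⟩
  rw [c.cent_eq_bot, Subgroup.mem_bot] at hmem
  rw [hmem, mul_one]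
  exact hv

theorem pCore_H1 (c : Ctx3 p H R₀ V G₁) : Cfsg.pCore p ↥(H ⊓ G₁) = ⊥ := by
  haveI := c.Vn
  haveI := c.normal
  haveI := Cfsg.Agent.Lib.Helper7.pCore_characteristic p ↥(H ⊓ G₁)
  obtain ⟨S, hSdef⟩ : ∃ S : Subgroup G, S = (Cfsg.pCore p ↥(H ⊓ G₁)).map (H ⊓ G₁).subtype :=
    ⟨_, rfl⟩
  have hSp : IsPGroup p S := by
    rw [hSdef]; exact (Cfsg.Agent.Lib.Helper7.pCore_isPGroup p ↥(H ⊓ G₁)).map _
  have hSle : S ≤ H ⊓ G₁ := by rw [hSdef]; exact Subgroup.map_subtype_le _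
  have hG1S : G₁ ≤ Subgroup.normalizer (S : Set G) := by
    rw [hSdef]
    exact c.G1_le_normalizer_H1.trans (normalizer_le_normalizer_map_char _ _)
  have hVSp : IsPGroup p ↥(V ⊔ S) := IsPGroup.to_sup_of_normal_left c.Vp hSp
  haveI hVSn : (V ⊔ S).Normal := by
    apply c.normal_of (le_sup_left.trans Subgroup.le_normalizer)
    intro n hn
    apply mem_normalizer_sup _ (hG1S hn)
    rw [Subgroup.normalizer_eq_top]; exact Subgroup.mem_top n
  have hVSH : V ⊔ S ≤ H := sup_le c.VH (hSle.trans inf_le_left)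
  have h1 : V ⊔ S ≤ V := by
    have h0 := c.le_pCore_of hVSH hVSp
    rwa [c.pCore_eq] at h0
  have hS : S ≤ V ⊓ G₁ := le_inf (le_sup_right.trans h1) (hSle.trans inf_le_right)
  rw [c.disj, le_bot_iff, hSdef] at hS
  exact (Subgroup.map_eq_bot_iff_of_injective _ (H ⊓ G₁).subtype_injective).mp hS

theorem not_coprime (c : Ctx3 p H R₀ V G₁) : ¬ (Nat.card ↥(H ⊓ G₁)).Coprime p := by
  intro hcop
  haveI := c.Vn
  apply c.hnot
  have ha : Cfsg.PLengthLE p 1 ↥(V.subgroupOf H) :=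
    Cfsg.Agent.H1.plength_one_of_isPGroup c.Vp.comap_subtype
  have hb : Cfsg.PLengthLE p 0 (↥H ⧸ V.subgroupOf H) := by
    apply Cfsg.Agent.H1.plength_zero_of_coprime
    apply Cfsg.Agent.H1.card_coprime_of_forall_pow
    intro x
    refine ⟨Nat.card ↥(H ⊓ G₁), hcop, ?_⟩
    induction x using QuotientGroup.induction_on with
    | H h =>
      obtain ⟨v, hv, n, hn, hvn⟩ := c.fac (h : G)
      have hnH : n ∈ H := by
        have := mul_mem (inv_mem (c.VH hv)) h.2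
        rw [hvn] at this
        simpa using this
      have h1 : h = (⟨v, c.VH hv⟩ : ↥H) * ⟨n, hnH⟩ := Subtype.ext hvn
      have h2 : ((h : ↥H) : ↥H ⧸ V.subgroupOf H) = ((⟨n, hnH⟩ : ↥H) : ↥H ⧸ V.subgroupOf H) := by
        rw [h1, QuotientGroup.mk_mul]
        have : ((⟨v, c.VH hv⟩ : ↥H) : ↥H ⧸ V.subgroupOf H) = 1 := by
          rw [QuotientGroup.eq_one_iff]
          exact Subgroup.mem_subgroupOf.mpr hv
        rw [this, one_mul]
      rw [h2, ← QuotientGroup.mk_pow]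
      have h3 : (⟨n, hnH⟩ : ↥H) ^ Nat.card ↥(H ⊓ G₁) = 1 := by
        apply Subtype.ext
        rw [Subgroup.coe_pow]
        have := pow_card_eq_one' (G := ↥(H ⊓ G₁)) (x := ⟨n, Subgroup.mem_inf.mpr ⟨hnH, hn⟩⟩)
        exact congrArg Subtype.val this
      rw [h3]
      rfl
  have := Cfsg.Agent.H1.plength_extension (V.subgroupOf H) ha hb
  simpa using this

theorem false (c : Ctx3 p H R₀ V G₁) [Group.IsSolvable G] (hodd : Odd (Nat.card G))
    (hB : (Cfsg.pCore p ↥H).map H.subtype ⊓ Subgroup.centralizer (R₀ : Set G) ≠ ⊥) : False := by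
  haveI := c.Vn
  haveI := c.normal
  have hpp : p.Prime := hp.out
  obtain ⟨H₁, hH₁⟩ : ∃ H₁ : Subgroup G, H₁ = H ⊓ G₁ := ⟨_, rfl⟩
  have hH₁H : H₁ ≤ H := by rw [hH₁]; exact inf_le_left
  have hH₁G : H₁ ≤ G₁ := by rw [hH₁]; exact inf_le_right
  have hpc : Cfsg.pCore p ↥H₁ = ⊥ := by rw [hH₁]; exact c.pCore_H1
  have hcent : H₁ ⊓ Subgroup.centralizer (V : Set G) = ⊥ := by rw [hH₁]; exact c.cent_eq_bot
  have hncop : ¬ (Nat.card ↥H₁).Coprime p := by rw [hH₁]; exact c.not_coprime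
  have hRH1 : R₀ ≤ Subgroup.normalizer (H₁ : Set G) := by
    rw [hH₁]; exact c.RG.trans c.G1_le_normalizer_H1
  -- `Y`
  haveI := Cfsg.Agent.Lib.Lead.PiCore.pPrimeCore_characteristic (G := ↥H₁) hpp
  haveI := Cfsg.Agent.Lib.Lead.PiCore.pPrimeCore_normal (G := ↥H₁) p
  obtain ⟨Y, hYdef⟩ : ∃ Y : Subgroup G, Y = (Cfsg.pPrimeCore p ↥H₁).map H₁.subtype := ⟨_, rfl⟩
  have hYH₁ : Y ≤ H₁ := by rw [hYdef]; exact Subgroup.map_subtype_le _
  have hY : (Nat.card Y).Coprime p := by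
    rw [hYdef, Subgroup.card_map_of_injective H₁.subtype_injective]
    exact Cfsg.Agent.Lib.Lead.PiCore.pPrimeCore_coprime hpp
  have hH₁Y : H₁ ≤ Subgroup.normalizer (Y : Set G) := by
    rw [hYdef]; exact le_normalizer_map_of_normal _ _
  have hRY : R₀ ≤ Subgroup.normalizer (Y : Set G) := by
    rw [hYdef]; exact hRH1.trans (normalizer_le_normalizer_map_char _ _)
  -- `T`
  have hcop1 : (Nat.card R₀).Coprime (Nat.card H₁) :=
    (Nat.Coprime.coprime_dvd_left (Subgroup.card_dvd_of_le hH₁H) c.cop).symm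
  obtain ⟨P', hP'⟩ := Cfsg.Agent.S0023.result R₀ H₁ hRH1 hcop1 (Or.inr inferInstance) p
  obtain ⟨T, hTdef⟩ : ∃ T : Subgroup G, T = (P' : Subgroup ↥H₁).map H₁.subtype := ⟨_, rfl⟩
  rw [← hTdef] at hP'
  have hTH₁ : T ≤ H₁ := by rw [hTdef]; exact Subgroup.map_subtype_le _
  have hT : IsPGroup p T := by rw [hTdef]; exact P'.isPGroup'.map _
  have hT1 : T ≠ ⊥ := by
    intro hb
    apply hncop
    rw [hTdef, Subgroup.map_eq_bot_iff_of_injective _ H₁.subtype_injective] at hb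
    have h1 := P'.card_coprime_index
    rw [hb, Subgroup.card_bot, Subgroup.index_bot] at h1
    have h2 := P'.not_dvd_index
    rw [hb, Subgroup.index_bot] at h2
    exact (Nat.Prime.coprime_iff_not_dvd hpp).mpr h2 |>.symm
  have hTYinf : T ⊓ Y = ⊥ := by
    apply Subgroup.inf_eq_bot_of_coprime
    obtain ⟨k, hk⟩ := hT.exists_card_eq
    rw [hk]
    exact Nat.Coprime.pow_left _ hY.symm
  refine caseB hodd H V Y T R₀ c.prime c.cop c.zgroup c.VH (hYH₁.trans hH₁H) (hTH₁.trans hH₁H)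
    c.Vc c.Ve hY hT hT1 (hTH₁.trans hH₁Y) hRY hP' ?_ ?_ ?_ ?_
  · rw [eq_bot_iff, ← hcent]
    exact inf_le_inf_right _ hYH₁
  · rw [eq_bot_iff, ← hTYinf]
    intro t ht
    obtain ⟨htT, htC⟩ := Subgroup.mem_inf.mp ht
    refine Subgroup.mem_inf.mpr ⟨htT, ?_⟩
    have h1 : (⟨t, hTH₁ htT⟩ : ↥H₁) ∈
        Subgroup.centralizer ((Cfsg.pPrimeCore p ↥H₁ : Subgroup ↥H₁) : Set ↥H₁) := by
      rw [Subgroup.mem_centralizer_iff]
      intro y hy
      apply Subtype.ext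
      have hyY : (y : G) ∈ Y := by rw [hYdef]; exact ⟨y, hy, rfl⟩
      exact (Subgroup.mem_centralizer_iff.mp htC) _ hyY
    have h2 := centralizer_pPrimeCore_le (X := ↥H₁) p hpc h1
    rw [hYdef]
    exact ⟨_, h2, rfl⟩
  · rw [eq_bot_iff, ← c.disj]
    intro t ht
    obtain ⟨htT, htV⟩ := Subgroup.mem_inf.mp ht
    exact Subgroup.mem_inf.mpr ⟨htV, hH₁G (hTH₁ htT)⟩
  · rw [← c.pCore_eq]; exact hB

end Ctx3

end Cfsg.Agent.Lib.Helper4.BGZ
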