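import Mathlib
import Cfsg.Agent.Lib.Helper4.BGZJ
import Cfsg.Agent.H1.CoprimeHall

/-!
Bender–Glauberman Theorem 3.6 (helper4), part K: in the minimal situation, the minimal normal
subgroup `V`, the subgroup `A` with `A / V = O_{p'}(H / V)`, an invariant Hall `p'`-subgroup `Y₀`
of `A` and the complement `G₁ = N_G(Y₀)`; conclusion of Case B.
-/

set_option autoImplicit false

namespace Cfsg.Agent.Lib.Helper4.BGZ

open Cfsg.Agent.Lib.Lead.Conj Cfsg.Agent.H1

namespace Ctx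
variable {G : Type*} [Group G] [Finite G] {p : ℕ} [hp : Fact p.Prime] {H R₀ : Subgroup G}

theorem exists_V (c : Ctx p H R₀) [Group.IsSolvable G] : ∃ V : Subgroup G, V.Normal ∧ V ≠ ⊥ ∧
    V ≤ H ∧ (∀ L : Subgroup G, L.Normal → L ≤ V → L = ⊥ ∨ L = V) ∧
    (∀ a ∈ V, ∀ b ∈ V, a * b = b * a) ∧ ∀ v ∈ V, v ^ p = 1 := by
  haveI := c.normal
  have hH1 : H ≠ ⊥ := by
    intro hb
    apply c.hnot
    apply plength_mono (Nat.zero_le 1)
    apply plength_zero_of_coprime
    rw [hb, Subgroup.card_bot]; exact Nat.coprime_one_left p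
  obtain ⟨V, ⟨hVn, hV1, hVH⟩, hVm⟩ := (wellFounded_lt (α := Subgroup G)).has_min
    {K : Subgroup G | K.Normal ∧ K ≠ ⊥ ∧ K ≤ H} ⟨H, c.normal, hH1, le_rfl⟩
  have hVmin : ∀ L : Subgroup G, L.Normal → L ≤ V → L = ⊥ ∨ L = V := by
    intro L hL hLV
    by_cases hL0 : L = ⊥
    · exact Or.inl hL0
    · right
      by_contra hne
      exact hVm L ⟨hL, hL0, hLV.trans hVH⟩ (lt_of_le_of_ne hLV hne)
  haveI := hVn
  obtain ⟨hVc, q, hq, hVq⟩ := Cfsg.Agent.S0043.result V hV1 hVmin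
  have hqp : q = p := by
    by_contra hne
    apply hV1
    apply c.F1 V hVH
    haveI := Fact.mk hq
    have hVqg : IsPGroup q V := by
      intro v
      refine ⟨1, ?_⟩
      apply Subtype.ext
      rw [pow_one, Subgroup.coe_pow, hVq _ v.2]
      rfl
    obtain ⟨k, hk⟩ := hVqg.exists_card_eq
    rw [hk]
    exact Nat.Coprime.pow_left _ ((Nat.coprime_primes hq hp.out).mpr hne)
  subst hqp
  exact ⟨V, hVn, hV1, hVH, hVmin,
    fun a ha b hb => congrArg Subtype.val (hVc.is_comm.comm ⟨a, ha⟩ ⟨b, hb⟩), hVq⟩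

theorem stepFactor_of_le {X : Type*} [Group X] (j : ℕ) {N M : Subgroup X} (h : M ≤ N) :
    StepFactor p j N M :=
  ⟨fun _ x hx => ⟨1, Nat.coprime_one_left p, by rw [pow_one]; exact h hx⟩,
    fun _ x hx => ⟨0, by rw [pow_zero, pow_one]; exact h hx⟩⟩

/-- if `O_{p'}(H / V)` is trivial then `H` has `p`-length one -/
theorem plength_of_ups_one_eq_bot (c : Ctx p H R₀) {V : Subgroup G} [V.Normal] (hV1 : V ≠ ⊥)
    (hVH : V ≤ H) (hVe : ∀ v ∈ V, v ^ p = 1)
    (h1 : (Cfsg.upperPSeries p ↥(H.map (QuotientGroup.mk' V)) 1).1 = ⊥) :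
    Cfsg.PLengthLE p 1 ↥H := by
  have hX : (Cfsg.upperPSeries p ↥(H.map (QuotientGroup.mk' V)) 3).1 = ⊤ := c.hQ V hVH hV1
  obtain ⟨f, hf⟩ : ∃ f : ↥H →* ↥(H.map (QuotientGroup.mk' V)),
      f = (QuotientGroup.mk' V).subgroupMap H := ⟨_, rfl⟩
  have hfx : ∀ x : ↥H, ((f x : ↥(H.map (QuotientGroup.mk' V))) : G ⧸ V) =
      QuotientGroup.mk' V (x : G) := by
    intro x; rw [hf]; rfl
  obtain ⟨C2, hC2⟩ : ∃ C2 : Subgroup ↥H,
      C2 = (Cfsg.upperPSeries p ↥(H.map (QuotientGroup.mk' V)) 2).1.comap f := ⟨_, rfl⟩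
  have hC2n : C2.Normal := by rw [hC2]; exact Subgroup.Normal.comap inferInstance f
  obtain ⟨C, hC⟩ : ∃ C : ℕ → Subgroup ↥H, C = fun j => match j with
      | 0 => ⊥
      | 1 => ⊥
      | 2 => C2
      | _ => ⊤ := ⟨_, rfl⟩
  have hC0 : C 0 = ⊥ := by rw [hC]; rfl
  have hC1 : C 1 = ⊥ := by rw [hC]; rfl
  have hC2' : C 2 = C2 := by rw [hC]; rfl
  have hC3 : ∀ j, C (j + 3) = ⊤ := by intro j; rw [hC]; rfl
  have hn : ∀ j, (C (j + 1)).Normal := by
    intro j
    match j with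
    | 0 => rw [hC1]; infer_instance
    | 1 => rw [hC2']; exact hC2n
    | (k + 2) => rw [hC3]; infer_instance
  have hs : ∀ j, StepFactor p (0 + j) (C j) (C (j + 1)) := by
    intro j
    match j with
    | 0 =>
      rw [hC0, hC1]
      exact stepFactor_of_le _ le_rfl
    | 1 =>
      rw [hC1, hC2']
      refine ⟨fun h => absurd h (by decide), fun _ x hx => ?_⟩
      rw [hC2, Subgroup.mem_comap] at hx
      obtain ⟨a, ha⟩ := (ups_stepFactor (G := ↥(H.map (QuotientGroup.mk' V))) p 1).2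
        (by decide) (f x) hx
      rw [h1, Subgroup.mem_bot, ← map_pow] at ha
      have h2 : QuotientGroup.mk' V ((x ^ p ^ a : ↥H) : G) = 1 := by
        rw [← hfx, ha]; rfl
      have h3 : ((x ^ p ^ a : ↥H) : G) ∈ V := by
        rw [QuotientGroup.mk'_apply, QuotientGroup.eq_one_iff] at h2
        exact h2
      refine ⟨a + 1, ?_⟩
      rw [Subgroup.mem_bot]
      apply Subtype.ext
      rw [pow_succ, pow_mul, Subgroup.coe_pow, hVe _ h3]
      rfl
    | 2 =>
      rw [hC2', hC3 0, hC2]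
      have h4 := (ups_stepFactor (G := ↥(H.map (QuotientGroup.mk' V))) p 2).comap f
      rw [hX, Subgroup.comap_top] at h4
      exact h4
    | (k + 3) =>
      rw [hC3 k, show k + 3 + 1 = (k + 1) + 3 from rfl, hC3 (k + 1)]
      exact stepFactor_of_le _ le_rfl
  have key := chain_le_ups (G := ↥H) (p := p) 0 C (by rw [hC0]; exact bot_le) hn hs 3
  rw [hC3 0] at key
  unfold Cfsg.PLengthLE
  rw [eq_top_iff]
  exact key

/-- the preimage `A` of `O_{p'}(H / V)` -/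
theorem exists_A (c : Ctx p H R₀) {V : Subgroup G} [hVn : V.Normal] (hV1 : V ≠ ⊥) (hVH : V ≤ H)
    (hVe : ∀ v ∈ V, v ^ p = 1) :
    ∃ A : Subgroup G, A.Normal ∧ V ≤ A ∧ A ≤ H ∧ A ≠ V ∧
      ∀ x ∈ A, ∃ m : ℕ, m.Coprime p ∧ x ^ m ∈ V := by
  haveI := c.normal
  haveI hHbn : (H.map (QuotientGroup.mk' V)).Normal :=
    Subgroup.Normal.map inferInstance _ (QuotientGroup.mk'_surjective V)
  obtain ⟨U, hU⟩ : ∃ U : Subgroup (G ⧸ V),
      U = (Cfsg.upperPSeries p ↥(H.map (QuotientGroup.mk' V)) 1).1.map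
        (H.map (QuotientGroup.mk' V)).subtype := ⟨_, rfl⟩
  have hUn : U.Normal := by
    rw [← Subgroup.normalizer_eq_top_iff, eq_top_iff, hU]
    have := normalizer_le_normalizer_map_char (H.map (QuotientGroup.mk' V))
      (Cfsg.upperPSeries p ↥(H.map (QuotientGroup.mk' V)) 1).1
    rwa [Subgroup.normalizer_eq_top] at this
  have hmk1 : ∀ v ∈ V, QuotientGroup.mk' V v = 1 := by
    intro v hv
    rw [QuotientGroup.mk'_apply, QuotientGroup.eq_one_iff]; exact hv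
  refine ⟨U.comap (QuotientGroup.mk' V), Subgroup.Normal.comap hUn _, ?_, ?_, ?_, ?_⟩
  · intro v hv
    rw [Subgroup.mem_comap, hmk1 v hv]
    exact one_mem _
  · intro x hx
    rw [Subgroup.mem_comap, hU] at hx
    obtain ⟨y, _, hy⟩ := hx
    have h1 : QuotientGroup.mk' V x ∈ H.map (QuotientGroup.mk' V) := by rw [← hy]; exact y.2
    obtain ⟨h, hh, hhx⟩ := h1
    have h2 : h⁻¹ * x ∈ V := by
      rw [← QuotientGroup.eq_one_iff, QuotientGroup.mk_mul, QuotientGroup.mk_inv]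
      rw [QuotientGroup.mk'_apply, QuotientGroup.mk'_apply] at hhx
      rw [hhx, inv_mul_cancel]
    have h3 : x = h * (h⁻¹ * x) := by group
    rw [h3]; exact mul_mem hh (hVH h2)
  · intro hAV
    apply c.hnot
    apply c.plength_of_ups_one_eq_bot hV1 hVH hVe
    rw [eq_bot_iff]
    intro y hy
    obtain ⟨g, hg⟩ := QuotientGroup.mk'_surjective V (y : G ⧸ V)
    have hgA : g ∈ U.comap (QuotientGroup.mk' V) := by
      rw [Subgroup.mem_comap, hg, hU]
      exact ⟨y, hy, rfl⟩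
    rw [hAV] at hgA
    rw [hmk1 g hgA] at hg
    rw [Subgroup.mem_bot]
    exact Subtype.ext hg.symm
  · intro x hx
    rw [Subgroup.mem_comap, hU] at hx
    obtain ⟨y, hy, hyx⟩ := hx
    obtain ⟨m, hm, hym⟩ := (ups_stepFactor (G := ↥(H.map (QuotientGroup.mk' V))) p 0).1
      (by decide) y hy
    rw [ups_zero, Subgroup.mem_bot] at hym
    refine ⟨m, hm, ?_⟩
    rw [← QuotientGroup.eq_one_iff, QuotientGroup.mk_pow]
    have h1 : (x : G ⧸ V) = ((y : ↥(H.map (QuotientGroup.mk' V))) : G ⧸ V) := hyx.symm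
    rw [h1, ← Subgroup.coe_pow, hym]
    rfl

/-- the complement `G₁ = N_G(Y₀)` of `V`, for an invariant Hall `p'`-subgroup `Y₀` of `A` -/
theorem exists_G1 (c : Ctx p H R₀) [Group.IsSolvable G] {V A : Subgroup G} [hVn : V.Normal]
    [hAn : A.Normal] (hV1 : V ≠ ⊥) (hVH : V ≤ H)
    (hVmin : ∀ L : Subgroup G, L.Normal → L ≤ V → L = ⊥ ∨ L = V)
    (hVc : ∀ a ∈ V, ∀ b ∈ V, a * b = b * a) (hVe : ∀ v ∈ V, v ^ p = 1)
    (hVA : V ≤ A) (hAH : A ≤ H) (hAV : A ≠ V)
    (hApp : ∀ x ∈ A, ∃ m : ℕ, m.Coprime p ∧ x ^ m ∈ V) :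
    ∃ G₁ : Subgroup G, Ctx3 p H R₀ V G₁ := by
  have hpp : p.Prime := hp.out
  have hRA : R₀ ≤ Subgroup.normalizer (A : Set G) := by
    rw [Subgroup.normalizer_eq_top]; exact le_top
  have hcopRA : (Nat.card R₀).Coprime (Nat.card A) :=
    (Nat.Coprime.coprime_dvd_left (Subgroup.card_dvd_of_le hAH) c.cop).symm
  obtain ⟨Y₀, hY₀, hRY₀⟩ :=
    exists_invariant_isPiHallOf R₀ A hRA hcopRA inferInstance {q | q ≠ p}
  obtain ⟨hY₀A, hY₀π, hY₀i⟩ := (isPiHallOf_iff _ _ _).mp hY₀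
  have hY₀cop : (Nat.card Y₀).Coprime p := by
    rw [Nat.coprime_comm, Nat.Prime.coprime_iff_not_dvd hpp]
    intro hd
    exact hY₀π p hpp hd rfl
  have hVAcop : (V.relIndex A).Coprime p := by
    show (V.subgroupOf A).index.Coprime p
    rw [Subgroup.index_eq_card]
    apply card_coprime_of_forall_pow
    intro x
    induction x using QuotientGroup.induction_on with
    | H a =>
      obtain ⟨m, hm, ham⟩ := hApp a a.2
      refine ⟨m, hm, ?_⟩
      rw [← QuotientGroup.mk_pow, QuotientGroup.eq_one_iff, Subgroup.mem_subgroupOf,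
        Subgroup.coe_pow]
      exact ham
  have hAle : A ≤ V ⊔ Y₀ := by
    rw [← Subgroup.relIndex_eq_one]
    by_contra hd
    obtain ⟨q, hq, hqd⟩ := Nat.exists_prime_and_dvd hd
    have h1 : q ∣ Y₀.relIndex A := hqd.trans (Subgroup.relIndex_dvd_of_le_left A le_sup_right)
    have h2 : q ∣ V.relIndex A := hqd.trans (Subgroup.relIndex_dvd_of_le_left A le_sup_left)
    have hqp : q = p := by
      by_contra hne
      exact hY₀i q hq h1 hne
    rw [hqp] at h2
    exact (Nat.Prime.coprime_iff_not_dvd hpp).mp hVAcop.symm h2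
  have hfac : ∀ g : G, ∃ v ∈ V, ∃ n ∈ Subgroup.normalizer (Y₀ : Set G), g = v * n := by
    intro g
    have hg : g ∈ Subgroup.normalizer (A : Set G) := by
      rw [Subgroup.normalizer_eq_top]; exact Subgroup.mem_top g
    have h1 := isPiHallOf_map_conj _ Y₀ A hY₀ g hg
    obtain ⟨a, ha, hga⟩ := isPiHallOf_conj _ Y₀ _ A inferInstance hY₀ h1
    have hga' : cj g Y₀ = cj a Y₀ := hga
    have h2 : a⁻¹ * g ∈ Subgroup.normalizer (Y₀ : Set G) := by
      rw [← cj_eq_self_iff, cj_mul, hga', ← cj_mul, inv_mul_cancel, cj_one]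
    obtain ⟨v, hv, y, hy, hvy⟩ : ∃ v ∈ V, ∃ y ∈ Y₀, v * y = a := by
      have := hAle ha
      rw [← SetLike.mem_coe, Subgroup.normal_mul] at this
      obtain ⟨v, hv, y, hy, h⟩ := Set.mem_mul.mp this
      exact ⟨v, hv, y, hy, h⟩
    refine ⟨v, hv, y * (a⁻¹ * g), mul_mem (Subgroup.le_normalizer hy) h2, ?_⟩
    rw [← mul_assoc, hvy]; group
  have hdisj : V ⊓ Subgroup.normalizer (Y₀ : Set G) = ⊥ := by
    by_contra hne
    have hWn : (V ⊓ Subgroup.normalizer (Y₀ : Set G)).Normal := by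
      rw [← Subgroup.normalizer_eq_top_iff, eq_top_iff]
      intro g _
      obtain ⟨v, hv, n, hn, rfl⟩ := hfac g
      apply mul_mem
      · apply Cfsg.Agent.Lib.Lead.Conj.mem_normalizer_of_conj_mem
        intro w hw
        have h1 : v * w * v⁻¹ = w := by
          rw [hVc v hv w (Subgroup.mem_inf.mp hw).1]; group
        rw [h1]; exact hw
      · apply mem_normalizer_inf _ (Subgroup.le_normalizer hn)
        rw [Subgroup.normalizer_eq_top]; exact Subgroup.mem_top n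
    have hWV := (hVmin _ hWn inf_le_left).resolve_left hne
    have hVG : V ≤ Subgroup.normalizer (Y₀ : Set G) := by rw [← hWV]; exact inf_le_right
    haveI hYn : Y₀.Normal := by
      rw [← Subgroup.normalizer_eq_top_iff, eq_top_iff]
      intro g _
      obtain ⟨v, hv, n, hn, rfl⟩ := hfac g
      exact mul_mem (hVG hv) hn
    have hY₀bot : Y₀ = ⊥ := c.F1 Y₀ (hY₀A.trans hAH) hY₀cop
    apply hAV
    apply le_antisymm _ hVA
    rw [hY₀bot, sup_bot_eq] at hAle
    exact hAle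
  exact ⟨Subgroup.normalizer (Y₀ : Set G),
    { toCtx := c, Vn := hVn, V1 := hV1, VH := hVH, Vmin := hVmin, Vc := hVc, Ve := hVe,
      fac := hfac, disj := hdisj, RG := hRY₀ }⟩

/-- **Case B** of the minimal situation is impossible -/
theorem caseB_false (c : Ctx p H R₀) [Group.IsSolvable G] (hodd : Odd (Nat.card G))
    (hB : (Cfsg.pCore p ↥H).map H.subtype ⊓ Subgroup.centralizer (R₀ : Set G) ≠ ⊥) : False := by
  obtain ⟨V, hVn, hV1, hVH, hVmin, hVc, hVe⟩ := c.exists_V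
  haveI := hVn
  obtain ⟨A, hAn, hVA, hAH, hAV, hApp⟩ := c.exists_A hV1 hVH hVe
  haveI := hAn
  obtain ⟨G₁, c3⟩ := c.exists_G1 hV1 hVH hVmin hVc hVe hVA hAH hAV hApp
  exact c3.false hodd hB

end Ctx

end Cfsg.Agent.Lib.Helper4.BGZ
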