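import Mathlib
import Cfsg.Prelude.Def_KGroupFacts
import Cfsg.Agent.Lib.Helper4.QuadGroup

/-!
# The Schreier step of `L_{p'}`-balance

* `cenAut T : MulAut T →* MulAut (T ⧸ center T)`;
* `actHom K : N(K) →* MulAut (K ⧸ Z(K))`, the conjugation action;
* `ker_actHom_le_centralizer` : for perfect `K`, elements acting trivially on `K / Z(K)` centralize `K`;
* `exists_mul_inv_mem_centralizer` : a perfect subgroup `P ≤ N(K)`, with `K` perfect and `Out(K / Z(K))` solvable,
  lies in `K C(K)`.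
-/

set_option autoImplicit false
set_option linter.style.haveILetI false
set_option linter.unusedVariables false
set_option linter.unusedSectionVars false

open scoped commutatorElement Pointwise

namespace Cfsg.Agent.Lib.Helper4.LBal

open Cfsg Cfsg.Agent.Lib.Helper4.QuadGroup

universe u

theorem center_mem_iff (T : Type u) [Group T] (σ : MulAut T) (x : T) :
    σ x ∈ Subgroup.center T ↔ x ∈ Subgroup.center T := by
  have hchar : (Subgroup.center T).Characteristic := inferInstance
  have := hchar.fixed σ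
  constructor
  · intro h
    rw [← this]
    exact h
  · intro h
    rw [← this] at h
    exact h

/-- induced automorphisms of `T / Z(T)` -/
noncomputable def cenAut (T : Type u) [Group T] : MulAut T →* MulAut (T ⧸ Subgroup.center T) :=
  (quoAut (Subgroup.center T)).comp
    (MonoidHom.codRestrict (MonoidHom.id _) (stab (Subgroup.center T)) (fun σ => center_mem_iff T σ))

theorem cenAut_mk (T : Type u) [Group T] (σ : MulAut T) (x : T) :
    cenAut T σ (QuotientGroup.mk x) = QuotientGroup.mk (σ x) := rfl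

variable {H : Type u} [Group H]

/-- the conjugation action of `N(K)` on `K / Z(K)` -/
noncomputable def actHom (K : Subgroup H) :
    ↥(Subgroup.normalizer (K : Set H)) →* MulAut (↥K ⧸ Subgroup.center ↥K) :=
  (cenAut ↥K).comp K.normalizerMonoidHom

theorem actHom_mk (K : Subgroup H) (g : ↥(Subgroup.normalizer (K : Set H))) (y : ↥K) :
    actHom K g (QuotientGroup.mk y) =
      QuotientGroup.mk (⟨(g : H) * (y : H) * (g : H)⁻¹,
        (Subgroup.mem_normalizer_iff.mp g.2 y).mp y.2⟩ : ↥K) := rfl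

/-- elements of `K` act on `K / Z(K)` as inner automorphisms -/
theorem actHom_of_mem (K : Subgroup H) (k : ↥K) :
    actHom K ⟨(k : H), Subgroup.le_normalizer k.2⟩ =
      MulAut.conj (QuotientGroup.mk k : ↥K ⧸ Subgroup.center ↥K) := by
  apply MulEquiv.ext
  intro q
  induction q using QuotientGroup.induction_on with
  | H y =>
    rw [actHom_mk, MulAut.conj_apply]
    rfl

/-- for a perfect subgroup `K`, an element of `N(K)` acting trivially on `K / Z(K)` centralizes `K` -/
theorem ker_actHom_le_centralizer (K : Subgroup H) (hK : ⁅K, K⁆ = K)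
    (g : ↥(Subgroup.normalizer (K : Set H))) (hg : g ∈ (actHom K).ker) :
    (g : H) ∈ Subgroup.centralizer (K : Set H) := by
  set A := ((actHom K).ker).map (Subgroup.normalizer (K : Set H)).subtype with hA
  set Z := (Subgroup.center ↥K).map K.subtype with hZ
  have hZK : ⁅Z, K⁆ = ⊥ := by
    rw [eq_bot_iff, Subgroup.commutator_le]
    rintro _ ⟨z, hz, rfl⟩ y hy
    rw [Subgroup.mem_bot, commutatorElement_eq_one_iff_mul_comm]
    have := Subgroup.mem_center_iff.mp hz ⟨y, hy⟩
    exact (congrArg Subtype.val this).symm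
  have hAK : ⁅A, K⁆ ≤ Z := by
    rw [Subgroup.commutator_le]
    rintro _ ⟨c, hc, rfl⟩ y hy
    have hc : actHom K c = 1 := MonoidHom.mem_ker.mp hc
    have h1 : actHom K c (QuotientGroup.mk (⟨y, hy⟩ : ↥K)) = QuotientGroup.mk (⟨y, hy⟩ : ↥K) := by
      rw [hc]; rfl
    rw [actHom_mk] at h1
    have h2 : ((QuotientGroup.mk ((⟨(c : H) * y * (c : H)⁻¹,
        (Subgroup.mem_normalizer_iff.mp c.2 y).mp hy⟩ : ↥K) * (⟨y, hy⟩ : ↥K)⁻¹) :
        ↥K ⧸ Subgroup.center ↥K)) = 1 := by
      rw [QuotientGroup.mk_mul, QuotientGroup.mk_inv]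
      rw [h1, mul_inv_cancel]
    have h3 := (QuotientGroup.eq_one_iff _).mp h2
    refine ⟨_, h3, ?_⟩
    simp [commutatorElement_def]
  have h1 : ⁅⁅A, K⁆, K⁆ = ⊥ := by
    rw [eq_bot_iff, ← hZK]
    exact Subgroup.commutator_mono hAK le_rfl
  have h2 : ⁅⁅K, A⁆, K⁆ = ⊥ := by
    rw [Subgroup.commutator_comm K A]; exact h1
  have h3 : ⁅⁅K, K⁆, A⁆ = ⊥ := Subgroup.commutator_commutator_eq_bot_of_rotate h2 h1
  rw [hK] at h3
  have h4 : A ≤ Subgroup.centralizer (K : Set H) := by
    rw [Subgroup.commutator_comm] at h3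
    exact Subgroup.commutator_eq_bot_iff_le_centralizer.mp h3
  exact h4 ⟨g, hg, rfl⟩

/-- a homomorphism from a perfect group to a solvable group is trivial -/
theorem hom_eq_one_of_perfect_of_solvable {P S : Type*} [Group P] [Group S] [Group.IsPerfect P]
    [hS : Group.IsSolvable S] (γ : P →* S) (x : P) : γ x = 1 := by
  haveI : Group.IsPerfect ↥γ.range := Group.IsPerfect.range γ
  haveI : Group.IsSolvable ↥γ.range := inferInstance
  by_contra hne
  haveI : Nontrivial ↥γ.range := by
    refine ⟨⟨⟨γ x, x, rfl⟩, 1, ?_⟩⟩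
    intro h
    exact hne (congrArg Subtype.val h)
  exact Group.IsPerfect.not_isSolvable ↥γ.range inferInstance

/-- **Schreier step.** -/
theorem exists_mul_inv_mem_centralizer (K P : Subgroup H) (hK : ⁅K, K⁆ = K)
    (hPK : P ≤ Subgroup.normalizer (K : Set H)) [hP : Group.IsPerfect ↥P]
    (hOut : Group.IsSolvable (Cfsg.Out (↥K ⧸ Subgroup.center ↥K))) :
    ∀ g ∈ P, ∃ k ∈ K, g * k⁻¹ ∈ Subgroup.centralizer (K : Set H) := by
  intro g hg
  let γ : ↥P →* Cfsg.Out (↥K ⧸ Subgroup.center ↥K) :=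
    (QuotientGroup.mk' (Cfsg.Inn (↥K ⧸ Subgroup.center ↥K))).comp
      ((actHom K).comp (Subgroup.inclusion hPK))
  have h1 : γ ⟨g, hg⟩ = 1 := hom_eq_one_of_perfect_of_solvable γ _
  have h2 : actHom K ⟨g, hPK hg⟩ ∈ Cfsg.Inn (↥K ⧸ Subgroup.center ↥K) :=
    (QuotientGroup.eq_one_iff _).mp h1
  obtain ⟨q, hq⟩ := h2
  obtain ⟨k, rfl⟩ := QuotientGroup.mk_surjective q
  refine ⟨(k : H), k.2, ?_⟩
  have h3 : actHom K ⟨(k : H), Subgroup.le_normalizer k.2⟩ = actHom K ⟨g, hPK hg⟩ := by
    rw [actHom_of_mem]; exact hq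
  have h4 : (⟨g, hPK hg⟩ : ↥(Subgroup.normalizer (K : Set H))) *
      (⟨(k : H), Subgroup.le_normalizer k.2⟩ : ↥(Subgroup.normalizer (K : Set H)))⁻¹ ∈
      (actHom K).ker := by
    rw [MonoidHom.mem_ker, map_mul, map_inv, h3, mul_inv_cancel]
  exact ker_actHom_le_centralizer K hK _ h4

end Cfsg.Agent.Lib.Helper4.LBal
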