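import Mathlib
import Cfsg.Agent.Lib.Helper4.LBalA
import Cfsg.Agent.H2.Layer
import Cfsg.Agent.H2.PPrimeCore
import Cfsg.Agent.H1.Cores

/-!
# `L_{p'}`-balance: a perfect subgroup inducing inner automorphisms on every component lies in the layer

* `exists_prod_mem` : combining the inner automorphisms over pairwise commuting subgroups;
* `le_layer_of_inner` : if `O_{p'}(Y) = 1`, a perfect subgroup `P` centralizing `O_p(Y)` and inducing inner
  automorphisms on every component of `Y` lies in `E(Y)`.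
-/

set_option autoImplicit false
set_option linter.style.haveILetI false
set_option linter.unusedVariables false
set_option linter.unusedSectionVars false

open scoped commutatorElement Pointwise

namespace Cfsg.Agent.Lib.Helper4.LBal

open Cfsg

universe u

variable {H : Type u} [Group H]

theorem exists_prod_mem (𝒮 : Finset (Subgroup H))
    (hcomm : ∀ A ∈ 𝒮, ∀ B ∈ 𝒮, A ≠ B → A ≤ Subgroup.centralizer (B : Set H)) (g : H)
    (hg : ∀ A ∈ 𝒮, ∃ a ∈ A, g * a⁻¹ ∈ Subgroup.centralizer (A : Set H)) :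
    ∃ e ∈ ⨆ A ∈ 𝒮, A, ∀ A ∈ 𝒮, g * e⁻¹ ∈ Subgroup.centralizer (A : Set H) := by
  classical
  induction 𝒮 using Finset.induction_on with
  | empty => exact ⟨1, Subgroup.one_mem _, fun A hA => absurd hA (Finset.notMem_empty A)⟩
  | insert A 𝒮 hA ih =>
    obtain ⟨e, he, hec⟩ := ih
      (fun B hB C hC hne => hcomm B (Finset.mem_insert_of_mem hB) C (Finset.mem_insert_of_mem hC) hne)
      (fun B hB => hg B (Finset.mem_insert_of_mem hB))
    obtain ⟨a, ha, hac⟩ := hg A (Finset.mem_insert_self A 𝒮)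
    have hAne : ∀ B ∈ 𝒮, A ≠ B := fun B hB h => hA (h ▸ hB)
    -- `e` centralizes `A`
    have heA : e ∈ Subgroup.centralizer (A : Set H) := by
      have : (⨆ B ∈ 𝒮, B) ≤ Subgroup.centralizer (A : Set H) :=
        iSup₂_le fun B hB => hcomm B (Finset.mem_insert_of_mem hB) A (Finset.mem_insert_self A 𝒮)
          (hAne B hB).symm
      exact this he
    refine ⟨a * e, ?_, ?_⟩
    · apply Subgroup.mul_mem
      · exact (le_iSup₂ (f := fun (B : Subgroup H) (_ : B ∈ insert A 𝒮) => B) A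
          (Finset.mem_insert_self A 𝒮)) ha
      · have : (⨆ B ∈ 𝒮, B) ≤ ⨆ B ∈ insert A 𝒮, B :=
          iSup₂_le fun B hB => le_iSup₂ (f := fun (B : Subgroup H) (_ : B ∈ insert A 𝒮) => B) B
            (Finset.mem_insert_of_mem hB)
        exact this he
    · intro B hB
      rw [Finset.mem_insert] at hB
      have hae : a * e = e * a := Subgroup.mem_centralizer_iff.mp heA a ha
      rcases hB with rfl | hB
      · have e1 : g * (a * e)⁻¹ = (g * a⁻¹) * e⁻¹ := by rw [hae]; group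
        rw [e1]
        exact Subgroup.mul_mem _ hac (Subgroup.inv_mem _ heA)
      · have e1 : g * (a * e)⁻¹ = (g * e⁻¹) * a⁻¹ := by group
        rw [e1]
        refine Subgroup.mul_mem _ (hec B hB) (Subgroup.inv_mem _ ?_)
        exact hcomm A (Finset.mem_insert_self A 𝒮) B (Finset.mem_insert_of_mem hB) (hAne B hB) ha

theorem commutatorElement_mul_of_commute {c₁ c₂ e₁ e₂ : H} (h11 : c₁ * e₁ = e₁ * c₁)
    (h12 : c₁ * e₂ = e₂ * c₁) (h21 : c₂ * e₁ = e₁ * c₂) (h22 : c₂ * e₂ = e₂ * c₂)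
    (hcc : c₁ * c₂ = c₂ * c₁) : ⁅c₁ * e₁, c₂ * e₂⁆ = ⁅e₁, e₂⁆ := by
  rw [commutatorElement_def, commutatorElement_def]
  have i1 : c₁⁻¹ * e₂⁻¹ = e₂⁻¹ * c₁⁻¹ := by
    have := congrArg Inv.inv h12
    simpa [mul_inv_rev] using this.symm
  have i2 : c₂⁻¹ * e₁⁻¹ = e₁⁻¹ * c₂⁻¹ := by
    have := congrArg Inv.inv h21
    simpa [mul_inv_rev] using this.symm
  calc c₁ * e₁ * (c₂ * e₂) * (c₁ * e₁)⁻¹ * (c₂ * e₂)⁻¹
      = c₁ * e₁ * c₂ * e₂ * e₁⁻¹ * c₁⁻¹ * e₂⁻¹ * c₂⁻¹ := by group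
    _ = c₁ * (e₁ * c₂) * e₂ * e₁⁻¹ * (c₁⁻¹ * e₂⁻¹) * c₂⁻¹ := by group
    _ = c₁ * (c₂ * e₁) * e₂ * e₁⁻¹ * (e₂⁻¹ * c₁⁻¹) * c₂⁻¹ := by rw [h21, i1]
    _ = c₁ * c₂ * (e₁ * e₂ * e₁⁻¹ * e₂⁻¹) * c₁⁻¹ * c₂⁻¹ := by group
    _ = (e₁ * e₂ * e₁⁻¹ * e₂⁻¹) * (c₁ * c₂ * c₁⁻¹ * c₂⁻¹) := by
        have k1 : c₁ * (e₁ * e₂ * e₁⁻¹ * e₂⁻¹) = (e₁ * e₂ * e₁⁻¹ * e₂⁻¹) * c₁ := by
          have a1 : c₁ * e₁⁻¹ = e₁⁻¹ * c₁ := by
            have := congrArg (fun t => e₁⁻¹ * t * e₁⁻¹) h11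
            simpa [mul_assoc] using this.symm
          have a2 : c₁ * e₂⁻¹ = e₂⁻¹ * c₁ := by
            have := congrArg (fun t => e₂⁻¹ * t * e₂⁻¹) h12
            simpa [mul_assoc] using this.symm
          calc c₁ * (e₁ * e₂ * e₁⁻¹ * e₂⁻¹) = (c₁ * e₁) * e₂ * e₁⁻¹ * e₂⁻¹ := by group
            _ = e₁ * (c₁ * e₂) * e₁⁻¹ * e₂⁻¹ := by rw [h11]; group
            _ = e₁ * e₂ * (c₁ * e₁⁻¹) * e₂⁻¹ := by rw [h12]; group
            _ = e₁ * e₂ * e₁⁻¹ * (c₁ * e₂⁻¹) := by rw [a1]; group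
            _ = (e₁ * e₂ * e₁⁻¹ * e₂⁻¹) * c₁ := by rw [a2]; group
        have k2 : c₂ * (e₁ * e₂ * e₁⁻¹ * e₂⁻¹) = (e₁ * e₂ * e₁⁻¹ * e₂⁻¹) * c₂ := by
          have a1 : c₂ * e₁⁻¹ = e₁⁻¹ * c₂ := by
            have := congrArg (fun t => e₁⁻¹ * t * e₁⁻¹) h21
            simpa [mul_assoc] using this.symm
          have a2 : c₂ * e₂⁻¹ = e₂⁻¹ * c₂ := by
            have := congrArg (fun t => e₂⁻¹ * t * e₂⁻¹) h22
            simpa [mul_assoc] using this.symm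
          calc c₂ * (e₁ * e₂ * e₁⁻¹ * e₂⁻¹) = (c₂ * e₁) * e₂ * e₁⁻¹ * e₂⁻¹ := by group
            _ = e₁ * (c₂ * e₂) * e₁⁻¹ * e₂⁻¹ := by rw [h21]; group
            _ = e₁ * e₂ * (c₂ * e₁⁻¹) * e₂⁻¹ := by rw [h22]; group
            _ = e₁ * e₂ * e₁⁻¹ * (c₂ * e₂⁻¹) := by rw [a1]; group
            _ = (e₁ * e₂ * e₁⁻¹ * e₂⁻¹) * c₂ := by rw [a2]; group
        calc c₁ * c₂ * (e₁ * e₂ * e₁⁻¹ * e₂⁻¹) * c₁⁻¹ * c₂⁻¹
            = c₁ * (c₂ * (e₁ * e₂ * e₁⁻¹ * e₂⁻¹)) * c₁⁻¹ * c₂⁻¹ := by group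
          _ = (c₁ * (e₁ * e₂ * e₁⁻¹ * e₂⁻¹)) * c₂ * c₁⁻¹ * c₂⁻¹ := by rw [k2]; group
          _ = (e₁ * e₂ * e₁⁻¹ * e₂⁻¹) * (c₁ * c₂ * c₁⁻¹ * c₂⁻¹) := by rw [k1]; group
    _ = e₁ * e₂ * e₁⁻¹ * e₂⁻¹ := by
        have : c₁ * c₂ * c₁⁻¹ * c₂⁻¹ = 1 := by rw [hcc]; group
        rw [this, mul_one]

variable {Y : Type u} [Group Y] [Finite Y] {p : ℕ} [hp : Fact p.Prime]

theorem fittingSubgroup_eq_pCore (hO : Cfsg.pPrimeCore p Y = ⊥) :
    Cfsg.fittingSubgroup Y = Cfsg.pCore p Y := by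
  have hpp : p.Prime := hp.out
  rw [Cfsg.Agent.H1.fittingSubgroup_eq_iSup_pCore]
  apply le_antisymm
  · apply iSup_le
    intro q
    by_cases hq : (q : ℕ) = p
    · rw [hq]
    · have h1 : Cfsg.pCore (q : ℕ) Y ≤ Cfsg.pPrimeCore p Y :=
        Cfsg.Agent.H1.le_pPrimeCore inferInstance (Cfsg.Agent.H1.pCore_coprime_of_ne hpp q.2 hq)
      rw [hO] at h1
      exact h1.trans bot_le
  · exact le_iSup (fun q : Nat.Primes => Cfsg.pCore (q : ℕ) Y) ⟨p, hpp⟩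

theorem le_layer_of_inner (hO : Cfsg.pPrimeCore p Y = ⊥) (P : Subgroup Y) [hP : Group.IsPerfect ↥P]
    (hPU : P ≤ Subgroup.centralizer (Cfsg.pCore p Y : Set Y))
    (hinner : ∀ K : Subgroup Y, Cfsg.IsComponent K → ∀ g ∈ P, ∃ k ∈ K,
      g * k⁻¹ ∈ Subgroup.centralizer (K : Set Y)) :
    P ≤ Cfsg.layer Y := by
  classical
  set E := Cfsg.layer Y with hE
  set U := Cfsg.pCore p Y with hU
  have hF : Cfsg.fittingSubgroup Y = U := fittingSubgroup_eq_pCore hO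
  have hEU : E ≤ Subgroup.centralizer (U : Set Y) := by
    have := Cfsg.Agent.H2.layer_commutator_fittingSubgroup (G := Y)
    rw [hF] at this
    exact Subgroup.commutator_eq_bot_iff_le_centralizer.mp this
  have hfin : {K : Subgroup Y | Cfsg.IsComponent K}.Finite := Set.toFinite _
  set 𝒮 := hfin.toFinset with h𝒮
  have hmem𝒮 : ∀ K, K ∈ 𝒮 ↔ Cfsg.IsComponent K := fun K => by
    rw [h𝒮, Set.Finite.mem_toFinset]; rfl
  have hsup : (⨆ A ∈ 𝒮, A) = E := by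
    rw [hE]
    unfold Cfsg.layer
    rw [sSup_eq_iSup]
    apply le_antisymm
    · exact iSup₂_le fun A hA => le_iSup₂ (f := fun (A : Subgroup Y) (_ : A ∈ {K : Subgroup Y | Cfsg.IsComponent K}) => A) A ((hmem𝒮 A).mp hA)
    · exact iSup₂_le fun A hA => le_iSup₂ (f := fun (A : Subgroup Y) (_ : A ∈ 𝒮) => A) A ((hmem𝒮 A).mpr hA)
  -- every element of `P` is `c * e` with `e ∈ E` and `c` centralizing `F*(Y)`
  have hdecomp : ∀ g ∈ P, ∃ e ∈ E, g * e⁻¹ ∈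
      Subgroup.centralizer (Cfsg.generalizedFittingSubgroup Y : Set Y) := by
    intro g hg
    obtain ⟨e, he, hec⟩ := exists_prod_mem 𝒮
      (fun A hA B hB hne => by
        have := Cfsg.Agent.H2.components_commute ((hmem𝒮 A).mp hA) ((hmem𝒮 B).mp hB) hne
        exact Subgroup.commutator_eq_bot_iff_le_centralizer.mp this)
      g (fun A hA => hinner A ((hmem𝒮 A).mp hA) g hg)
    rw [hsup] at he
    refine ⟨e, he, ?_⟩
    have h1 : g * e⁻¹ ∈ Subgroup.centralizer (E : Set Y) := by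
      have h2 : E ≤ Subgroup.centralizer ({g * e⁻¹} : Set Y) := by
        apply Cfsg.Agent.H2.layer_le_centralizer_of_forall
        intro L hL x hx
        rw [Subgroup.mem_centralizer_iff]
        intro y hy
        rw [Set.mem_singleton_iff] at hy
        subst hy
        exact (Subgroup.mem_centralizer_iff.mp (hec L ((hmem𝒮 L).mpr hL)) x hx).symm
      rw [Subgroup.mem_centralizer_iff]
      intro x hx
      exact (Subgroup.mem_centralizer_iff.mp (h2 hx) _ rfl).symm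
    have h3 : g * e⁻¹ ∈ Subgroup.centralizer (U : Set Y) :=
      Subgroup.mul_mem _ (hPU hg) (Subgroup.inv_mem _ (hEU he))
    unfold Cfsg.generalizedFittingSubgroup
    rw [hF]
    have h4 : E ⊔ U ≤ Subgroup.centralizer ({g * e⁻¹} : Set Y) := by
      apply sup_le
      · intro x hx
        rw [Subgroup.mem_centralizer_iff]
        intro y hy
        rw [Set.mem_singleton_iff] at hy
        subst hy
        exact (Subgroup.mem_centralizer_iff.mp h1 x hx).symm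
      · intro x hx
        rw [Subgroup.mem_centralizer_iff]
        intro y hy
        rw [Set.mem_singleton_iff] at hy
        subst hy
        exact (Subgroup.mem_centralizer_iff.mp h3 x hx).symm
    rw [Subgroup.mem_centralizer_iff]
    intro x hx
    exact (Subgroup.mem_centralizer_iff.mp (h4 hx) _ rfl).symm
  have hPP : ⁅P, P⁆ = P := Subgroup.isPerfect_iff.mp hP
  rw [← hPP, Subgroup.commutator_le]
  intro x hx y hy
  obtain ⟨e₁, he₁, hc₁⟩ := hdecomp x hx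
  obtain ⟨e₂, he₂, hc₂⟩ := hdecomp y hy
  have hFs := Cfsg.Agent.H2.centralizer_generalizedFittingSubgroup_le (G := Y)
  have hEFs : E ≤ Cfsg.generalizedFittingSubgroup Y := le_sup_left
  have hx' : x = (x * e₁⁻¹) * e₁ := by group
  have hy' : y = (y * e₂⁻¹) * e₂ := by group
  rw [hx', hy']
  rw [commutatorElement_mul_of_commute]
  · rw [commutatorElement_def]
    exact E.mul_mem (E.mul_mem (E.mul_mem he₁ he₂) (E.inv_mem he₁)) (E.inv_mem he₂)
  · exact (Subgroup.mem_centralizer_iff.mp hc₁ e₁ (hEFs he₁)).symm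
  · exact (Subgroup.mem_centralizer_iff.mp hc₁ e₂ (hEFs he₂)).symm
  · exact (Subgroup.mem_centralizer_iff.mp hc₂ e₁ (hEFs he₁)).symm
  · exact (Subgroup.mem_centralizer_iff.mp hc₂ e₂ (hEFs he₂)).symm
  · exact Subgroup.mem_centralizer_iff.mp hc₂ _ (hFs hc₁)

end Cfsg.Agent.Lib.Helper4.LBal
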