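import Mathlib
import Cfsg.Agent.Lib.Lead.Carter
import Cfsg.Agent.S0544

/-!
Abstract lemmas for Bender–Glauberman Lemma 12.1 (helper4): subgroups with cyclic Sylow
subgroups relative to the derived subgroup.
-/

set_option autoImplicit false

namespace Cfsg.Agent.Lib.Helper4.BGTw

variable {X : Type*} [Group X] [Finite X]

/-- a nilpotent subgroup all of whose subgroups of prime power order are cyclic is cyclic -/
theorem isCyclic_of_nilpotent_of_cyclic_pgroups (Y : Subgroup X) (hnil : Group.IsNilpotent ↥Y)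
    (hcyc : ∀ p : ℕ, p.Prime → ∀ Q : Subgroup X, Q ≤ Y → IsPGroup p ↥Q → IsCyclic ↥Q) :
    IsCyclic ↥Y := by
  haveI : IsZGroup ↥Y := by
    refine ⟨fun p hp P => ?_⟩
    haveI : Fact p.Prime := ⟨hp⟩
    haveI : IsCyclic ↥((P : Subgroup ↥Y).map Y.subtype) :=
      hcyc p hp _ (Subgroup.map_subtype_le _) (P.isPGroup'.map _)
    exact isCyclic_of_injective
      ((P : Subgroup ↥Y).equivMapOfInjective Y.subtype Y.subtype_injective).toMonoidHom
      ((P : Subgroup ↥Y).equivMapOfInjective Y.subtype Y.subtype_injective).injective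
  haveI := hnil
  infer_instance

/-- extend the cyclicity hypothesis to the primes not dividing the order -/
theorem cyclic_pgroups_of_dvd (Y : Subgroup X)
    (hcyc : ∀ p : ℕ, p.Prime → p ∣ Nat.card ↥Y → ∀ Q : Subgroup X, Q ≤ Y → IsPGroup p ↥Q →
      IsCyclic ↥Q) :
    ∀ p : ℕ, p.Prime → ∀ Q : Subgroup X, Q ≤ Y → IsPGroup p ↥Q → IsCyclic ↥Q := by
  intro p hp Q hQY hQp
  by_cases hdvd : p ∣ Nat.card ↥Y
  · exact hcyc p hp hdvd Q hQY hQp
  · haveI : Fact p.Prime := ⟨hp⟩
    obtain ⟨k, hk⟩ := hQp.exists_card_eq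
    have hk0 : k = 0 := by
      by_contra hne
      apply hdvd
      have h1 : p ∣ Nat.card ↥Q := by rw [hk]; exact dvd_pow_self p hne
      exact h1.trans (Subgroup.card_dvd_of_le hQY)
    rw [hk0, pow_zero, Subgroup.card_eq_one] at hk
    rw [hk]
    infer_instance

/-- a subgroup of order prime to `|X'|` with cyclic subgroups of prime power order is cyclic -/
theorem isCyclic_of_coprime_commutator (Y : Subgroup X)
    (hcop : (Nat.card ↥Y).Coprime (Nat.card ↥(commutator X)))
    (hcyc : ∀ p : ℕ, p.Prime → p ∣ Nat.card ↥Y → ∀ Q : Subgroup X, Q ≤ Y → IsPGroup p ↥Q →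
      IsCyclic ↥Q) : IsCyclic ↥Y := by
  apply isCyclic_of_nilpotent_of_cyclic_pgroups Y _ (cyclic_pgroups_of_dvd Y hcyc)
  have hinf : Y ⊓ commutator X = ⊥ := Subgroup.inf_eq_bot_of_coprime hcop
  set f : ↥Y →* Abelianization X := (Abelianization.of).comp Y.subtype with hf
  have hker : f.ker = ⊥ := by
    rw [eq_bot_iff]
    intro y hy
    rw [MonoidHom.mem_ker, hf, MonoidHom.comp_apply] at hy
    have h1 : (y : X) ∈ commutator X := by
      rw [← Abelianization.ker_of]
      exact hy
    have h2 : (y : X) ∈ Y ⊓ commutator X := ⟨y.2, h1⟩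
    rw [hinf, Subgroup.mem_bot] at h2
    exact Subgroup.mem_bot.2 (Subtype.ext h2)
  exact isNilpotent_of_ker_le_center f (by rw [hker]; exact bot_le)

/-- Hall subgroups for primes dividing `|X'|`, with cyclic Sylow subgroups, when `X'` is
nilpotent -/
theorem hall_le_commutator (hnil : Group.IsNilpotent ↥(commutator X)) (Y : Subgroup X)
    (hHall : (Nat.card ↥Y).Coprime Y.index)
    (hdvd : ∀ p : ℕ, p.Prime → p ∣ Nat.card ↥Y → p ∣ Nat.card ↥(commutator X))
    (hcyc : ∀ p : ℕ, p.Prime → p ∣ Nat.card ↥Y → ∀ Q : Subgroup X, IsPGroup p ↥Q →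
      IsCyclic ↥Q) :
    Y ≤ commutator X ∧ Y.Normal ∧ IsCyclic ↥Y := by
  have hidx : (Nat.card ↥Y).Coprime (commutator X).index := by
    apply Nat.coprime_of_dvd
    intro p hp hpY
    haveI : Fact p.Prime := ⟨hp⟩
    obtain ⟨P⟩ : Nonempty (Sylow p X) := inferInstance
    haveI : IsCyclic ↥(P : Subgroup X) := hcyc p hp hpY _ P.isPGroup'
    rcases Sylow.not_dvd_card_commutator_or_not_dvd_index_commutator P with h | h
    · exact absurd (hdvd p hp hpY) h
    · exact h
  have hYC : Y ≤ commutator X := by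
    intro y hy
    apply Cfsg.Agent.S0544.mem_of_coprime_index (commutator X)
    · rw [Subgroup.normalizer_eq_top]; exact Subgroup.mem_top y
    · exact Nat.Coprime.coprime_dvd_left (Subgroup.orderOf_dvd_natCard Y hy) hidx
  have hQcard : Nat.card ↥(Y.subgroupOf (commutator X)) = Nat.card ↥Y :=
    Nat.card_congr (Subgroup.subgroupOfEquivOfLe hYC).toEquiv
  have hQidx : (Y.subgroupOf (commutator X)).index ∣ Y.index := by
    have := Subgroup.relIndex_mul_index hYC
    exact Dvd.intro _ this
  have hQhall : (Nat.card ↥(Y.subgroupOf (commutator X))).Coprime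
      (Y.subgroupOf (commutator X)).index := by
    rw [hQcard]
    exact Nat.Coprime.coprime_dvd_right hQidx hHall
  haveI := hnil
  have hQn : (Y.subgroupOf (commutator X)).Normal :=
    Cfsg.Agent.Lib.Lead.Carter.hall_normal_of_nilpotent _ hQhall
  refine ⟨hYC, ?_, ?_⟩
  · refine ⟨fun z hz g => ?_⟩
    have hw : g * z * g⁻¹ ∈ commutator X :=
      (inferInstance : (commutator X).Normal).conj_mem z (hYC hz) g
    have h1 : (⟨g * z * g⁻¹, hw⟩ : ↥(commutator X)) ∈ Y.subgroupOf (commutator X) := by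
      apply Cfsg.Agent.S0544.mem_of_coprime_index
      · rw [Subgroup.normalizer_eq_top_iff.2 hQn]; exact Subgroup.mem_top _
      · have h2 : orderOf (⟨g * z * g⁻¹, hw⟩ : ↥(commutator X)) = orderOf z := by
          rw [← Subgroup.orderOf_coe]
          exact orderOf_injective (MulAut.conj g).toMonoidHom (MulAut.conj g).injective z
        rw [h2]
        apply Nat.Coprime.coprime_dvd_left (Subgroup.orderOf_dvd_natCard Y hz)
        rw [← hQcard]
        exact hQhall
    exact Subgroup.mem_subgroupOf.1 h1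
  · apply isCyclic_of_nilpotent_of_cyclic_pgroups Y _
      (cyclic_pgroups_of_dvd Y (fun p hp hpY Q _ hQp => hcyc p hp hpY Q hQp))
    have hinj : Function.Injective (Subgroup.inclusion hYC) := Subgroup.inclusion_injective hYC
    apply isNilpotent_of_ker_le_center (Subgroup.inclusion hYC)
    rw [(MonoidHom.ker_eq_bot_iff _).2 hinj]
    exact bot_le

end Cfsg.Agent.Lib.Helper4.BGTw
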