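import Mathlib
import Cfsg.Agent.Lib.Helper4.BGTwA
import Cfsg.Agent.Lib.Helper4.BGUniqF
import Cfsg.Agent.Lib.Helper8.BGTenG

/-!
Bender–Glauberman Lemma 12.1 (S1415), conditional on the Uniqueness Theorem (helper4).
-/

set_option autoImplicit false

open scoped commutatorElement

namespace Cfsg.Agent.Lib.Helper4.BGTw

open Cfsg.Agent.Lib.Helper4.BGUniq

variable {G : Type*} [Group G]

/-- `p`-subgroups of a subgroup of `p`-rank at most one are cyclic (odd order) -/
theorem isCyclic_of_pRankLE_one [Finite G] (hG : Cfsg.IsMinSimpleOddOrder G) {M : Subgroup G}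
    {p : ℕ} [hp : Fact p.Prime] (hr : Cfsg.PRankLE p 1 ↥M) {Q : Subgroup G} (hQM : Q ≤ M)
    (hQp : IsPGroup p ↥Q) : IsCyclic ↥Q := by
  by_contra hnc
  have hQcard : 1 < Nat.card ↥Q := by
    by_contra hle
    push Not at hle
    have : Nat.card ↥Q = 1 := by
      have := Nat.card_pos (α := ↥Q); omega
    apply hnc
    rw [Subgroup.card_eq_one.1 this]
    infer_instance
  have hp2 : p ≠ 2 := prime_ne_two hG hQp hQcard
  obtain ⟨W, -, hWel, hWcard⟩ := Cfsg.Agent.S0126.result hp2 hQp hnc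
  apply not_pRankLE_of_le (isElementaryAbelian_map Q.subtype hWel)
    ((Subgroup.map_subtype_le W).trans hQM) _ hr
  rw [Subgroup.card_map_of_injective Q.subtype_injective, hWcard, pow_one]
  exact lt_sq hp.out

theorem isCyclic_sub_of_pRankLE_one [Finite G] (hG : Cfsg.IsMinSimpleOddOrder G)
    {M E : Subgroup G} (hEM : E ≤ M) {p : ℕ} [hp : Fact p.Prime] (hr : Cfsg.PRankLE p 1 ↥M)
    (Q : Subgroup ↥E) (hQp : IsPGroup p ↥Q) : IsCyclic ↥Q := by
  haveI : IsCyclic ↥(Q.map E.subtype) :=
    isCyclic_of_pRankLE_one hG hr ((Subgroup.map_subtype_le Q).trans hEM) (hQp.map _)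
  exact isCyclic_of_injective (Q.equivMapOfInjective E.subtype E.subtype_injective).toMonoidHom
    (Q.equivMapOfInjective E.subtype E.subtype_injective).injective

/-- the projection of a complement `E` of `M_σ` onto `M / M_σ` -/
noncomputable def proj {M E : Subgroup G} (hEM : E ≤ M) :
    ↥E →* ↥M ⧸ Cfsg.piCore (Cfsg.sigma M) ↥M :=
  (QuotientGroup.mk' (Cfsg.piCore (Cfsg.sigma M) ↥M)).comp (Subgroup.inclusion hEM)

theorem proj_injective {M E : Subgroup G} (hE : Cfsg.IsComplIn E (Cfsg.sigmaCore M) M) :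
    Function.Injective (proj hE.1) := by
  rw [← MonoidHom.ker_eq_bot_iff, eq_bot_iff]
  intro e he
  rw [MonoidHom.mem_ker, proj, MonoidHom.comp_apply, QuotientGroup.mk'_apply,
    QuotientGroup.eq_one_iff] at he
  have h1 : (e : G) ∈ E ⊓ Cfsg.sigmaCore M := ⟨e.2, ⟨_, he, rfl⟩⟩
  rw [hE.2.2.1, Subgroup.mem_bot] at h1
  exact Subgroup.mem_bot.2 (Subtype.ext h1)

theorem proj_surjective {M E : Subgroup G} (hE : Cfsg.IsComplIn E (Cfsg.sigmaCore M) M) :
    Function.Surjective (proj hE.1) := by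
  intro y
  obtain ⟨m, rfl⟩ := QuotientGroup.mk'_surjective _ y
  obtain ⟨a, ha, b, hb, hab⟩ := hE.2.2.2 (m : G) m.2
  refine ⟨⟨a, ha⟩, ?_⟩
  rw [proj, MonoidHom.comp_apply, QuotientGroup.mk'_apply, QuotientGroup.mk'_apply,
    QuotientGroup.eq]
  obtain ⟨b', hb', hbb'⟩ := hb
  have : (Subgroup.inclusion hE.1 ⟨a, ha⟩)⁻¹ * m = b' := by
    apply Subtype.ext
    show a⁻¹ * (m : G) = (b' : G)
    have hb'' : (b' : G) = b := hbb'
    rw [hab, hb'']; group
  rw [this]
  exact hb'

/-- the image of the derived subgroup of `E` -/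
theorem map_proj_commutator {M E : Subgroup G} (hE : Cfsg.IsComplIn E (Cfsg.sigmaCore M) M) :
    (commutator ↥E).map (proj hE.1) =
      (commutator ↥M).map (QuotientGroup.mk' (Cfsg.piCore (Cfsg.sigma M) ↥M)) := by
  rw [commutator_def, commutator_def, Subgroup.map_commutator, Subgroup.map_commutator,
    Subgroup.map_top_of_surjective _ (proj_surjective hE),
    Subgroup.map_top_of_surjective _ (QuotientGroup.mk'_surjective _)]

/-- **Lemma 12.1** (S1415) -/
theorem lemma121 [Finite G] (hG : Cfsg.IsMinSimpleOddOrder G)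
    (hU : Cfsg.Agent.Lib.Helper8.BGTen.UniqThm G)
    (M : Subgroup G) (hM : IsCoatom M) (E : Subgroup G)
    (hE : Cfsg.IsComplIn E (Cfsg.sigmaCore M) M) :
    Group.IsNilpotent ↥⁅E, E⁆ ∧
      (∀ E₁ : Subgroup G, Cfsg.IsPiHallOf (Cfsg.tau1 M) E₁ E → IsCyclic ↥E₁) ∧
      ∀ E₃ : Subgroup G, Cfsg.IsPiHallOf (Cfsg.tau3 M) E₃ E →
        IsCyclic ↥E₃ ∧ E₃ ≤ ⁅E, E⁆ ∧ E ≤ Subgroup.normalizer (E₃ : Set G) := by
  obtain ⟨h1, -, -, h4⟩ := Cfsg.Agent.Lib.Helper8.BGTen.hall_of_between hG hU hM (Cfsg.sigma M)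
    (fun q h => Cfsg.Agent.Lib.Helper8.BGTen.alpha_subset_sigma hG hU hM h) (fun q h => h)
  have hEM : E ≤ M := hE.1
  -- `E'` is nilpotent
  have hnilE : Group.IsNilpotent ↥(commutator ↥E) := by
    have h5 : Group.IsNilpotent ↥((commutator ↥E).map (proj hE.1)) := by
      rw [map_proj_commutator hE]; exact h4
    exact Group.nilpotent_of_mulEquiv
      ((commutator ↥E).equivMapOfInjective (proj hE.1) (proj_injective hE)).symm
  have hcardE' : Nat.card ↥(commutator ↥E) = Nat.card ↥⁅E, E⁆ := by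
    rw [← Subgroup.map_subtype_commutator, Subgroup.card_map_of_injective E.subtype_injective]
  have hE'M' : Nat.card ↥⁅E, E⁆ ∣ Nat.card ↥⁅M, M⁆ :=
    Subgroup.card_dvd_of_le (Subgroup.commutator_mono hEM hEM)
  refine ⟨?_, ?_, ?_⟩
  · rw [← Subgroup.map_subtype_commutator]
    exact Group.nilpotent_of_mulEquiv
      ((commutator ↥E).equivMapOfInjective E.subtype E.subtype_injective)
  · rintro E₁ ⟨hE₁E, hE₁π, -⟩
    have hYcard : Nat.card ↥(E₁.subgroupOf E) = Nat.card ↥E₁ :=
      Nat.card_congr (Subgroup.subgroupOfEquivOfLe hE₁E).toEquiv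
    haveI : IsCyclic ↥(E₁.subgroupOf E) := by
      apply isCyclic_of_coprime_commutator
      · rw [hYcard, hcardE']
        apply Nat.coprime_of_dvd
        intro p hp hp1 hp2
        exact (hE₁π p hp hp1).2.2.2.1 (hp2.trans hE'M')
      · intro p hp hp1 Q _ hQp
        rw [hYcard] at hp1
        haveI : Fact p.Prime := ⟨hp⟩
        exact isCyclic_sub_of_pRankLE_one hG hEM (hE₁π p hp hp1).2.2.2.2 Q hQp
    exact isCyclic_of_surjective (Subgroup.subgroupOfEquivOfLe hE₁E).toMonoidHom
      (Subgroup.subgroupOfEquivOfLe hE₁E).surjective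
  · rintro E₃ ⟨hE₃E, hE₃π, hE₃idx⟩
    have hYcard : Nat.card ↥(E₃.subgroupOf E) = Nat.card ↥E₃ :=
      Nat.card_congr (Subgroup.subgroupOfEquivOfLe hE₃E).toEquiv
    obtain ⟨hle, hnorm, hcyc⟩ := hall_le_commutator hnilE (E₃.subgroupOf E)
      (by
        rw [hYcard]
        apply Nat.coprime_of_dvd
        intro p hp hp1 hp2
        exact hE₃idx p hp (hE₃π p hp hp1) hp2)
      (by
        intro p hp hp1
        rw [hYcard] at hp1
        have hτ := hE₃π p hp hp1
        -- an element of order `p` in `M'`, outside `M_σ`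
        haveI : Fact p.Prime := ⟨hp⟩
        have hdvd : p ∣ Nat.card ↥(commutator ↥M) := by
          have h6 : Nat.card ↥(commutator ↥M) = Nat.card ↥⁅M, M⁆ := by
            rw [← Subgroup.map_subtype_commutator,
              Subgroup.card_map_of_injective M.subtype_injective]
          rw [h6]; exact hτ.2.2.1
        obtain ⟨x, hx⟩ := exists_prime_orderOf_dvd_card' p hdvd
        have hxK : (x : ↥M) ∉ Cfsg.piCore (Cfsg.sigma M) ↥M := by
          intro hxK
          apply hτ.2.1
          apply h1.2.1 p hp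
          rw [Subgroup.card_map_of_injective M.subtype_injective]
          have h7 : orderOf (x : ↥M) = p := by rw [Subgroup.orderOf_coe]; exact hx
          rw [← h7]
          exact Subgroup.orderOf_dvd_natCard _ hxK
        set y := QuotientGroup.mk' (Cfsg.piCore (Cfsg.sigma M) ↥M) (x : ↥M) with hy
        have hy1 : y ≠ 1 := by
          intro h
          rw [hy, QuotientGroup.mk'_apply, QuotientGroup.eq_one_iff] at h
          exact hxK h
        have hyp : y ^ p = 1 := by
          rw [hy, ← map_pow]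
          have : (x : ↥M) ^ p = 1 := by
            have h7 : orderOf (x : ↥M) = p := by rw [Subgroup.orderOf_coe]; exact hx
            rw [← h7]; exact pow_orderOf_eq_one _
          rw [this, map_one]
        have hyo : orderOf y = p := orderOf_eq_prime hyp hy1
        have hymem : y ∈ (commutator ↥M).map
            (QuotientGroup.mk' (Cfsg.piCore (Cfsg.sigma M) ↥M)) := ⟨x, x.2, rfl⟩
        rw [← map_proj_commutator hE] at hymem
        have h8 : p ∣ Nat.card ↥((commutator ↥E).map (proj hE.1)) := by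
          rw [← hyo]
          exact Subgroup.orderOf_dvd_natCard _ hymem
        rwa [Subgroup.card_map_of_injective (proj_injective hE)] at h8)
      (by
        intro p hp hp1 Q hQp
        rw [hYcard] at hp1
        haveI : Fact p.Prime := ⟨hp⟩
        exact isCyclic_sub_of_pRankLE_one hG hEM (hE₃π p hp hp1).2.2.2 Q hQp)
    refine ⟨?_, ?_, ?_⟩
    · haveI := hcyc
      exact isCyclic_of_surjective (Subgroup.subgroupOfEquivOfLe hE₃E).toMonoidHom
        (Subgroup.subgroupOfEquivOfLe hE₃E).surjective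
    · intro x hx
      have h9 := hle (show (⟨x, hE₃E hx⟩ : ↥E) ∈ E₃.subgroupOf E from hx)
      rw [← Subgroup.map_subtype_commutator]
      exact ⟨⟨x, hE₃E hx⟩, h9, rfl⟩
    · exact (Subgroup.normal_subgroupOf_iff_le_normalizer hE₃E).1 hnorm

end Cfsg.Agent.Lib.Helper4.BGTw
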