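import Mathlib
import Cfsg.Agent.H2.BG11.B
import Cfsg.Agent.S0026

/-!
Bender–Glauberman Section 11/12 (helper4): part (e) of Theorem 12.5 for an exceptional triple,
from (β), (c) and Proposition 12.4 (= the statement of S1416) taken as hypotheses.

`HypB`, `HypC`, `HypBeta`, `Hyp1416` are the shapes of the facts proved elsewhere
((b): Sylow `p`-subgroups of `M` are abelian with `Ω₁ = A`; (c): `M_σA ⊴ M`; (β); S1416).
-/

set_option autoImplicit false

open scoped commutatorElement Pointwise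

namespace Cfsg.Agent.Lib.Helper4.BG11E

open Cfsg Cfsg.Agent.Lib.Helper8.BGTen Cfsg.Agent.H2.BG11

universe u

/-- (b) for exceptional triples -/
def HypB (G : Type u) [Group G] : Prop :=
  ∀ (M A A0 : Subgroup G) (p : ℕ) [Fact p.Prime], ExcTriple M p A A0 →
    ∀ P : Sylow p ↥M, A ≤ (P : Subgroup ↥M).map M.subtype →
      IsMulCommutative ↥(P : Subgroup ↥M) ∧
        ∀ x ∈ (P : Subgroup ↥M).map M.subtype, x ^ p = 1 ↔ x ∈ A

/-- (c) for exceptional triples -/
def HypC (G : Type u) [Group G] : Prop :=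
  ∀ (M A A0 : Subgroup G) (p : ℕ) [Fact p.Prime], ExcTriple M p A A0 →
    M ≤ Subgroup.normalizer ((Cfsg.sigmaCore M ⊔ A : Subgroup G) : Set G)

/-- (β) for exceptional triples -/
def HypBeta (G : Type u) [Group G] : Prop :=
  ∀ (M A A0 : Subgroup G) (p : ℕ) [Fact p.Prime], ExcTriple M p A A0 →
    ∀ H : Subgroup G, IsCoatom H → A ≤ H → H ≠ M → ∀ q : ℕ, q.Prime →
      q ∣ Nat.card ↥(H ⊓ Cfsg.sigmaCore M) → q ∉ Cfsg.sigma H

/-- the statement of S1416 (B&G Proposition 12.4) for the group `G` -/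
def Hyp1416 (G : Type u) [Group G] : Prop :=
  ∀ (M : Subgroup G), IsCoatom M → ∀ (p : ℕ) [Fact p.Prime] (A : Subgroup G),
    (A ≤ M ∧ Cfsg.IsElementaryAbelian p A ∧ Nat.card A = p ^ 2) →
    Subgroup.centralizer (A : Set G) ≤ M ∧
      ((∀ A₀ : Subgroup G, A₀ ≤ A → Nat.card A₀ = p →
          ¬ (Subgroup.normalizer (A₀ : Set G) ≤ M ∧
            ∀ L : Subgroup G, IsCoatom L → Subgroup.normalizer (A₀ : Set G) ≤ L → L = M)) →
        p ∈ Cfsg.sigma M ∧ Cfsg.alphaCore M = ⊥ ∧ Group.IsNilpotent (Cfsg.sigmaCore M))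

variable {G : Type u} [Group G]

/-- an element of `N A` (`A` normalizing `N`) of order prime to `|A|` lies in `N` -/
theorem mem_of_mem_sup_of_coprime [Finite G] {N A : Subgroup G}
    (hAN : A ≤ Subgroup.normalizer (N : Set G)) {x : G} (hx : x ∈ N ⊔ A)
    (hcop : (orderOf x).Coprime (Nat.card ↥A)) : x ∈ N := by
  have hcoe := Subgroup.coe_mul_of_right_le_normalizer_left N A hAN
  have hx' : x ∈ ((N ⊔ A : Subgroup G) : Set G) := hx
  rw [hcoe] at hx'
  obtain ⟨n, hn, a, ha, rfl⟩ := Set.mem_mul.mp hx'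
  have key : ∀ k : ℕ, ∃ n' ∈ N, (n * a) ^ k = n' * a ^ k := by
    intro k
    induction k with
    | zero => exact ⟨1, N.one_mem, by simp⟩
    | succ k ih =>
      obtain ⟨n', hn', e⟩ := ih
      refine ⟨n' * (a ^ k * n * (a ^ k)⁻¹), N.mul_mem hn' ?_, ?_⟩
      · exact (Subgroup.mem_normalizer_iff.mp (hAN (A.pow_mem ha k)) n).mp hn
      · rw [pow_succ, e, pow_succ]; group
  obtain ⟨n', hn', e⟩ := key (Nat.card ↥A)
  have ha1 : a ^ Nat.card ↥A = 1 := by
    have h1 : (⟨a, ha⟩ : ↥A) ^ Nat.card ↥A = 1 := pow_card_eq_one'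
    exact congrArg Subtype.val h1
  rw [ha1, mul_one] at e
  obtain ⟨m, hm⟩ := exists_pow_eq_self_of_coprime hcop.symm
  rw [← hm, e]
  exact N.pow_mem hn' m

/-- `[D, A] ≤ W` when `D` normalizes `W ⊇ A` -/
theorem commutator_le_of_le_normalizer {D A W : Subgroup G}
    (hDW : D ≤ Subgroup.normalizer (W : Set G)) (hAW : A ≤ W) : ⁅D, A⁆ ≤ W := by
  rw [Subgroup.commutator_le]
  intro d hd a ha
  have h1 : d * a * d⁻¹ ∈ W := (Subgroup.mem_normalizer_iff.mp (hDW hd) a).mp (hAW ha)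
  have h2 : ⁅d, a⁆ = d * a * d⁻¹ * a⁻¹ := rfl
  rw [h2]
  exact W.mul_mem h1 (W.inv_mem (hAW ha))

variable [Finite G]

namespace ExcAux

variable {M A A0 : Subgroup G} {p : ℕ} [hp : Fact p.Prime]

/-- `D = H ∩ M_σ` is normalized by `A` -/
theorem le_normalizer_inf_sigmaCore (h : ExcTriple M p A A0) {H : Subgroup G} (hAH : A ≤ H) :
    A ≤ Subgroup.normalizer ((H ⊓ Cfsg.sigmaCore M : Subgroup G) : Set G) := by
  intro a ha
  have h1 : a ∈ Subgroup.normalizer ((Cfsg.sigmaCore M : Subgroup G) : Set G) :=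
    le_normalizer_sigmaCore M (h.le ha)
  rw [Subgroup.mem_normalizer_iff] at h1 ⊢
  intro x
  rw [Subgroup.mem_inf, Subgroup.mem_inf, ← h1 x]
  constructor
  · rintro ⟨hx, hx'⟩
    exact ⟨H.mul_mem (H.mul_mem (hAH ha) hx) (H.inv_mem (hAH ha)), hx'⟩
  · rintro ⟨hx, hx'⟩
    refine ⟨?_, hx'⟩
    have : x = a⁻¹ * (a * x * a⁻¹) * a := by group
    rw [this]
    exact H.mul_mem (H.mul_mem (H.inv_mem (hAH ha)) hx) (hAH ha)

/-- **(e)** for an exceptional triple, from (β), (c) and S1416 -/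
theorem sigmaCore_inf_eq_bot (hG : Cfsg.IsMinSimpleOddOrder G) (hC : HypC G) (hBeta : HypBeta G)
    (h16 : Hyp1416 G) (h : ExcTriple M p A A0) {H : Subgroup G} (hH : IsCoatom H) (hne : H ≠ M)
    (hAH : A ≤ H) : Cfsg.sigmaCore M ⊓ H = ⊥ := by
  by_contra hD0
  set D : Subgroup G := H ⊓ Cfsg.sigmaCore M with hDdef
  have hD : D ≠ ⊥ := by rwa [hDdef, inf_comm]
  have hDH : D ≤ H := inf_le_left
  have hDσ : D ≤ Cfsg.sigmaCore M := inf_le_right
  have hAD : A ≤ Subgroup.normalizer (D : Set G) := le_normalizer_inf_sigmaCore h hAH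
  -- coprime
  have hcop : (Nat.card ↥A).Coprime (Nat.card ↥D) :=
    Nat.Coprime.coprime_dvd_right (Subgroup.card_dvd_of_le hDσ) (h.coprime_sigmaCore hG)
  have hAcomm : IsMulCommutative ↥A := h.elem.1
  have hsolvA : Group.IsSolvable ↥A := by
    haveI : IsMulCommutative ↥A := hAcomm
    letI : CommGroup ↥A := { (inferInstance : Group ↥A) with mul_comm := fun a b => mul_comm' a b }
    infer_instance
  have h26 := Cfsg.Agent.S0026.result A D hAD hcop (Or.inl hsolvA)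
  have hfix : D ⊓ Subgroup.centralizer (A : Set G) = ⊥ := by
    apply le_bot_iff.mp
    rw [← h.sigmaCore_inf_centralizer hG]
    exact inf_le_inf_right _ hDσ
  rw [hfix, sup_bot_eq] at h26
  -- a prime divisor of |D|
  have hcard : Nat.card ↥D ≠ 1 := fun h1 => hD (Subgroup.card_eq_one.mp h1)
  obtain ⟨q, hq, hqD⟩ := Nat.exists_prime_and_dvd hcard
  have hqH : q ∉ Cfsg.sigma H := hBeta M A A0 p h H hH hAH hne q hq hqD
  have hApg : IsPGroup p ↥A := h.isPGroup
  -- p ∉ σ(H)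
  have hpH : p ∉ Cfsg.sigma H := by
    intro hpσ
    have hAσ : A ≤ Cfsg.sigmaCore H := le_sigmaCore_of_pgroup hG hH hpσ hAH hApg
    have h1 : ⁅D, A⁆ ≤ Cfsg.sigmaCore H :=
      commutator_le_of_le_normalizer (hDH.trans (le_normalizer_sigmaCore H)) hAσ
    rw [h26] at h1
    exact hqH (mem_sigma_of_dvd_sigmaCore hG hH hq (hqD.trans (Subgroup.card_dvd_of_le h1)))
  -- S1416 for (H, p, A)
  obtain ⟨-, h16b⟩ := h16 H hH p A ⟨hAH, h.elem, h.card⟩
  have hex : ∃ A₀ : Subgroup G, A₀ ≤ A ∧ Nat.card A₀ = p ∧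
      Subgroup.normalizer (A₀ : Set G) ≤ H := by
    by_contra hno
    apply hpH
    refine (h16b ?_).1
    intro A₀ hA₀ hc hN
    exact hno ⟨A₀, hA₀, hc, hN.1⟩
  obtain ⟨A1, hA1, hA1c, hA1N⟩ := hex
  have h' : ExcTriple H p A A1 :=
    { coatom := hH, not_sigma := hpH, le := hAH, elem := h.elem, card := h.card, le0 := hA1,
      card0 := hA1c, norm0 := hA1N }
  have hcH := hC H A A1 p h'
  have h2 : ⁅D, A⁆ ≤ Cfsg.sigmaCore H ⊔ A :=
    commutator_le_of_le_normalizer (hDH.trans hcH) le_sup_right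
  rw [h26] at h2
  have hAnH : A ≤ Subgroup.normalizer ((Cfsg.sigmaCore H : Subgroup G) : Set G) :=
    hAH.trans (le_normalizer_sigmaCore H)
  have h3 : D ≤ Cfsg.sigmaCore H := by
    intro x hx
    apply mem_of_mem_sup_of_coprime hAnH (h2 hx)
    have ho : orderOf x ∣ Nat.card ↥D := by
      have := orderOf_dvd_natCard (⟨x, hx⟩ : ↥D)
      rwa [Subgroup.orderOf_mk] at this
    exact Nat.Coprime.coprime_dvd_left ho hcop.symm
  exact hqH (mem_sigma_of_dvd_sigmaCore hG hH hq (hqD.trans (Subgroup.card_dvd_of_le h3)))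

end ExcAux

end Cfsg.Agent.Lib.Helper4.BG11E
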