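import Mathlib
import Cfsg.Agent.Lib.Helper4.BG11E

/-!
Bender–Glauberman Theorem 12.5 (= the statement of S1417), assembled from the facts about
exceptional triples ((b), (c), (β) as hypotheses `HypB`, `HypC`, `HypBeta`) and
Proposition 12.4 (`Hyp1416`).
-/

set_option autoImplicit false

open scoped commutatorElement Pointwise

namespace Cfsg.Agent.Lib.Helper4.BG11E

open Cfsg Cfsg.Agent.Lib.Helper8.BGTen Cfsg.Agent.H2.BG11
open Cfsg.Agent.Lib.Helper7 (IsSylowIn)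

universe u

variable {G : Type u} [Group G] [Finite G]

/-- the statement of S1417 for the group `G` -/
def Hyp1417 (G : Type u) [Group G] : Prop :=
  ∀ (M : Subgroup G), IsCoatom M → ∀ (p : ℕ) [Fact p.Prime], p ∈ Cfsg.tau2 M →
    ∀ (A : Subgroup G), (A ≤ M ∧ Cfsg.IsElementaryAbelian p A ∧ Nat.card A = p ^ 2) →
    Group.IsNilpotent (Cfsg.sigmaCore M) ∧
      (∀ P : Sylow p M, IsMulCommutative (P : Subgroup M) ∧
        (A ≤ (P : Subgroup M).map M.subtype →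
          (∀ x ∈ (P : Subgroup M).map M.subtype, x ^ p = 1 ↔ x ∈ A) ∧
          ¬ Subgroup.normalizer ((((P : Subgroup M).map M.subtype : Subgroup G)) : Set G) ≤ M)) ∧
      M ≤ Subgroup.normalizer ((Cfsg.sigmaCore M ⊔ A : Subgroup G) : Set G) ∧
      Cfsg.sigmaCore M ⊓ Subgroup.centralizer (A : Set G) = ⊥ ∧
      (∀ Mstar : Subgroup G, IsCoatom Mstar → Mstar ≠ M → A ≤ Mstar →
        Cfsg.sigmaCore M ⊓ Mstar = ⊥) ∧
      ∃ A₁ : Subgroup G, A₁ ≤ A ∧ Nat.card A₁ = p ∧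
        Cfsg.sigmaCore M ⊓ Subgroup.centralizer (A₁ : Set G) = ⊥

/-- every Sylow `p`-subgroup of `M` contains an `M`-conjugate of a given `p`-subgroup -/
theorem exists_cj_le_sylow {M A : Subgroup G} {p : ℕ} [Fact p.Prime] (hAM : A ≤ M)
    (hA : IsPGroup p ↥A) (P : Sylow p ↥M) :
    ∃ m ∈ M, cj m A ≤ (P : Subgroup ↥M).map M.subtype := by
  have hA' : IsPGroup p ↥(A.subgroupOf M) := hA.comap_subtype
  obtain ⟨Q, hQ⟩ := hA'.exists_le_sylow
  obtain ⟨m, hm⟩ := MulAction.exists_smul_eq ↥M Q P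
  refine ⟨(m : G), m.2, ?_⟩
  intro x hx
  rw [mem_cj] at hx
  have h1 : (⟨(m : G)⁻¹ * x * m, hAM hx⟩ : ↥M) ∈ (Q : Subgroup ↥M) :=
    hQ (Subgroup.mem_subgroupOf.mpr hx)
  have hP : (P : Subgroup ↥M) = MulAut.conj m • (Q : Subgroup ↥M) := by
    rw [← hm, Sylow.coe_subgroup_smul]
  have h2 : MulAut.conj m • (⟨(m : G)⁻¹ * x * m, hAM hx⟩ : ↥M) ∈ (P : Subgroup ↥M) := by
    rw [hP]
    exact Subgroup.smul_mem_pointwise_smul _ _ _ h1
  refine ⟨_, h2, ?_⟩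
  rw [MulAut.smul_def, MulAut.conj_apply]
  simp only [Subgroup.subtype_apply, Subgroup.coe_mul, Subgroup.coe_inv]
  group


/-- from `p ∈ τ₂(M)` and S1416: an exceptional triple -/
theorem exists_excTriple (h16 : Hyp1416 G) {M : Subgroup G} (hM : IsCoatom M) {p : ℕ}
    [Fact p.Prime] (hp : p ∈ Cfsg.tau2 M) {A : Subgroup G}
    (hA : A ≤ M ∧ Cfsg.IsElementaryAbelian p A ∧ Nat.card A = p ^ 2) :
    ∃ A0 : Subgroup G, ExcTriple M p A A0 := by
  have hpσ : p ∉ Cfsg.sigma M := hp.2.1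
  obtain ⟨-, h16b⟩ := h16 M hM p A hA
  have hex : ∃ A₀ : Subgroup G, A₀ ≤ A ∧ Nat.card A₀ = p ∧
      Subgroup.normalizer (A₀ : Set G) ≤ M := by
    by_contra hno
    apply hpσ
    refine (h16b ?_).1
    intro A₀ hA₀ hc hN
    exact hno ⟨A₀, hA₀, hc, hN.1⟩
  obtain ⟨A0, hA0, hA0c, hA0N⟩ := hex
  exact ⟨A0, ⟨hM, hpσ, hA.1, hA.2.1, hA.2.2, hA0, hA0c, hA0N⟩⟩

namespace ExcAux

variable {M A A0 : Subgroup G} {p : ℕ} [hp : Fact p.Prime]

/-- (f): a subgroup of order `p` of `A` acting fixed-point-freely on `M_σ` -/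
theorem exists_fpf_sub (hG : Cfsg.IsMinSimpleOddOrder G) (hB : HypB G) (h : ExcTriple M p A A0) :
    ∃ A₁ : Subgroup G, A₁ ≤ A ∧ Nat.card A₁ = p ∧
      Cfsg.sigmaCore M ⊓ Subgroup.centralizer (A₁ : Set G) = ⊥ := by
  obtain ⟨P, n, hP, hAP, hnP, hnM⟩ := h.exists_conj
  obtain ⟨R, hR⟩ := hP.exists_sylow
  have hRP : (R : Subgroup ↥M).map M.subtype = P := by
    rw [hR]
    exact Subgroup.map_subgroupOf_eq_of_le hP.1
  have hΩ := (hB M A A0 p h R (hRP ▸ hAP)).2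
  rw [hRP] at hΩ
  -- n normalizes A
  have hnA : cj n A ≤ A := by
    intro x hx
    rw [mem_cj] at hx
    have hxP : x ∈ P := by
      have h1 : n * (n⁻¹ * x * n) * n⁻¹ ∈ P :=
        (Subgroup.mem_normalizer_iff.mp hnP _).mp (hAP hx)
      have e : n * (n⁻¹ * x * n) * n⁻¹ = x := by group
      rwa [e] at h1
    refine (hΩ x hxP).mp ?_
    have h2 : (n⁻¹ * x * n) ^ p = 1 := h.elem.2 _ hx
    have e : x ^ p = n * (n⁻¹ * x * n) ^ p * n⁻¹ := by
      rw [← Cfsg.Agent.Lib.Helper4.BGZ.pow_conj' n (n⁻¹ * x * n) p]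
      congr 1
      group
    rw [e, h2]
    group
  have hnA' : cj n A = A :=
    Subgroup.eq_of_le_of_card_ge hnA (by rw [card_cj])
  refine ⟨cj n A0, ?_, ?_, ?_⟩
  · rw [← hnA']
    exact cj_mono n h.le0
  · rw [card_cj]
    exact h.card0
  · have hAn : A ≤ cj n M := by
      rw [← hnA']
      exact cj_mono n h.le
    have hi := h.sigmaCore_inf_cj hG hnM hAn
    apply le_bot_iff.mp
    rw [← hi]
    refine inf_le_inf_left _ ?_
    refine (Subgroup.centralizer_le_normalizer _).trans ?_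
    rw [← cj_normalizer]
    exact cj_mono n h.norm0

end ExcAux

/-- **Theorem 12.5** (the statement of S1417), from (b), (c), (β) and S1416 -/
theorem s1417_of (hG : Cfsg.IsMinSimpleOddOrder G) (hB : HypB G) (hC : HypC G)
    (hBeta : HypBeta G) (h16 : Hyp1416 G) : Hyp1417 G := by
  intro M hM p _ hp A hA
  obtain ⟨A0, h⟩ := exists_excTriple h16 hM hp hA
  have hpσ : p ∉ Cfsg.sigma M := hp.2.1
  refine ⟨h.nilpotent hG, ?_, hC M A A0 p h, h.sigmaCore_inf_centralizer hG, ?_,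
    ExcAux.exists_fpf_sub hG hB h⟩
  · intro P
    refine ⟨?_, fun hAP => ⟨(hB M A A0 p h P hAP).2, fun hN => hpσ ⟨hp.1, h.dvd_card, P, hN⟩⟩⟩
    obtain ⟨m, hm, hmA⟩ := exists_cj_le_sylow hA.1 h.isPGroup P
    exact (hB M (cj m A) (cj m A0) p (h.conj_mem hm) P hmA).1
  · intro Mstar hMs hne hAMs
    exact ExcAux.sigmaCore_inf_eq_bot hG hC hBeta h16 h hMs hne hAMs

end Cfsg.Agent.Lib.Helper4.BG11E
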