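import Mathlib
import Cfsg.Agent.Lib.Helper4.BGTransA

/-!
Control of strong fusion in a Sylow `p`-subgroup `P` by `N_G(P)` when the normalizers of the
nontrivial subgroups of `P` factorize as `N(Q) = N_{N(Q)}(T) C(Q)` (`T` a Sylow subgroup of
`N(Q)`), e.g. when they have `p`-length one (helper4; for Bender–Glauberman Corollary 10.7).
-/

set_option autoImplicit false

namespace Cfsg.Agent.Lib.Helper4.BGSyl

open Cfsg.Agent.Lib.Lead.Conj Cfsg.Agent.Lib.Helper4.BGTrans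

variable {G : Type*} [Group G]

/-- `N_G(P)` controls the strong fusion of `Q` in `P` -/
def SF (P Q : Subgroup G) : Prop :=
  ∀ x : G, Q.map (MulAut.conj x).toMonoidHom ≤ P →
    ∃ n ∈ Subgroup.normalizer (P : Set G), ∃ c ∈ Subgroup.centralizer (Q : Set G), x = n * c

/-- the local factorization hypothesis -/
def LocHyp (p : ℕ) (P : Subgroup G) : Prop :=
  ∀ Q : Subgroup G, Q ≤ P → Q ≠ ⊥ →
    ∀ S : Sylow p ↥(Subgroup.normalizer (Q : Set G)), ∀ h ∈ Subgroup.normalizer (Q : Set G),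
      ∃ g ∈ Subgroup.normalizer
        (((S : Subgroup ↥(Subgroup.normalizer (Q : Set G))).map
          (Subgroup.normalizer (Q : Set G)).subtype : Subgroup G) : Set G),
      ∃ c ∈ Subgroup.centralizer (Q : Set G), h = g * c

theorem sf_self [Finite G] (P : Subgroup G) : SF P P := by
  intro x hx
  refine ⟨x, ?_, 1, Subgroup.one_mem _, (mul_one x).symm⟩
  apply mem_normalizer_of_conj_mem
  intro r hr
  exact hx ⟨r, hr, rfl⟩

theorem sf_bot (P : Subgroup G) : SF P ⊥ := by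
  intro x _
  refine ⟨1, Subgroup.one_mem _, x, ?_, (one_mul x).symm⟩
  rw [Subgroup.mem_centralizer_iff]
  intro h hh
  have : h = 1 := Subgroup.mem_bot.1 hh
  rw [this, one_mul, mul_one]

theorem exists_conj_le [Finite G] {p : ℕ} [Fact p.Prime] (P : Sylow p G) {S : Subgroup G}
    (hS : IsPGroup p ↥S) : ∃ g : G, S.map (MulAut.conj g).toMonoidHom ≤ (P : Subgroup G) := by
  obtain ⟨Q, hQ⟩ := hS.exists_le_sylow
  obtain ⟨g, hg⟩ := MulAction.exists_smul_eq G Q P
  refine ⟨g, ?_⟩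
  rintro _ ⟨s, hs, rfl⟩
  rw [← hg, Sylow.coe_subgroup_smul]
  exact ⟨s, hQ hs, rfl⟩

theorem conj_mem_of_mem_normalizer {P : Subgroup G} {n x : G}
    (hn : n ∈ Subgroup.normalizer (P : Set G)) (hx : x ∈ P) : n * x * n⁻¹ ∈ P :=
  (Subgroup.mem_normalizer_iff.1 hn x).1 hx

theorem conj_mem_of_mem_normalizer' {P : Subgroup G} {n x : G}
    (hn : n ∈ Subgroup.normalizer (P : Set G)) (hx : x ∈ P) : n⁻¹ * x * n ∈ P := by
  have := conj_mem_of_mem_normalizer (Subgroup.inv_mem _ hn) hx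
  rwa [inv_inv] at this

theorem le_inf_normalizer {P Q : Subgroup G} (hQP : Q ≤ P) :
    Q ≤ P ⊓ Subgroup.normalizer (Q : Set G) :=
  le_inf hQP Subgroup.le_normalizer

/-- `P ∩ H` is a Sylow subgroup of `H ≥ C_G(Q)` as soon as its fusion is controlled -/
theorem fn_of_sf [Finite G] {p : ℕ} [Fact p.Prime] (P : Sylow p G) {Q H : Subgroup G}
    (hQP : Q ≤ (P : Subgroup G)) (hQH : Q ≤ H)
    (hCH : Subgroup.centralizer (Q : Set G) ≤ H)
    (hsf : SF (P : Subgroup G) ((P : Subgroup G) ⊓ H))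
    (S : Sylow p ↥H)
    (hRS : ((P : Subgroup G) ⊓ H).subgroupOf H ≤ (S : Subgroup ↥H)) :
    (S : Subgroup ↥H).map H.subtype = (P : Subgroup G) ⊓ H := by
  set R := (P : Subgroup G) ⊓ H with hR
  set SG := (S : Subgroup ↥H).map H.subtype with hSG
  have hRSG : R ≤ SG := by
    intro r hr
    exact ⟨⟨r, hr.2⟩, hRS (Subgroup.mem_subgroupOf.2 hr), rfl⟩
  have hSGH : SG ≤ H := Subgroup.map_subtype_le _
  have hSGp : IsPGroup p ↥SG := S.isPGroup'.map _
  obtain ⟨g, hg⟩ := exists_conj_le P hSGp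
  have hgR : R.map (MulAut.conj g).toMonoidHom ≤ (P : Subgroup G) :=
    (Subgroup.map_mono hRSG).trans hg
  obtain ⟨n, hn, c, hc, rfl⟩ := hsf g hgR
  have hcQ : c ∈ Subgroup.centralizer (Q : Set G) :=
    Subgroup.centralizer_le (show (Q : Set G) ⊆ R from le_inf hQP hQH) hc
  have hcH : c ∈ H := hCH hcQ
  have hle : SG.map (MulAut.conj c).toMonoidHom ≤ R := by
    rintro _ ⟨s, hs, rfl⟩
    refine ⟨?_, ?_⟩
    · have h1 : n * c * s * (n * c)⁻¹ ∈ (P : Subgroup G) := hg ⟨s, hs, rfl⟩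
      have h2 := conj_mem_of_mem_normalizer' hn h1
      have e : n⁻¹ * (n * c * s * (n * c)⁻¹) * n = c * s * c⁻¹ := by group
      rw [e] at h2
      exact h2
    · exact H.mul_mem (H.mul_mem hcH (hSGH hs)) (H.inv_mem hcH)
  have hcard : Nat.card ↥SG ≤ Nat.card ↥R := by
    rw [← card_map_conj SG c]
    exact Subgroup.card_le_of_le hle
  exact (Subgroup.eq_of_le_of_card_ge hRSG hcard).symm

theorem exists_sylow_map_eq [Finite G] {p : ℕ} [Fact p.Prime] (P : Sylow p G) {Q H : Subgroup G}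
    (hQP : Q ≤ (P : Subgroup G)) (hQH : Q ≤ H)
    (hCH : Subgroup.centralizer (Q : Set G) ≤ H)
    (hsf : SF (P : Subgroup G) ((P : Subgroup G) ⊓ H)) :
    ∃ S : Sylow p ↥H, (S : Subgroup ↥H).map H.subtype = (P : Subgroup G) ⊓ H := by
  have h1 : IsPGroup p ↥(((P : Subgroup G) ⊓ H).subgroupOf H) :=
    (P.isPGroup'.to_le inf_le_left).of_equiv
      (Subgroup.subgroupOfEquivOfLe (inf_le_right : (P : Subgroup G) ⊓ H ≤ H)).symm
  obtain ⟨S, hS⟩ := h1.exists_le_sylow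
  exact ⟨S, fn_of_sf P hQP hQH hCH hsf S hS⟩

end Cfsg.Agent.Lib.Helper4.BGSyl
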