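import Mathlib
import Cfsg.Agent.Lib.Helper4.BGSylA

/-!
Control of strong fusion, the induction (helper4).
-/

set_option autoImplicit false

namespace Cfsg.Agent.Lib.Helper4.BGSyl

open Cfsg.Agent.Lib.Lead.Conj Cfsg.Agent.Lib.Helper4.BGTrans

variable {G : Type*} [Group G]

theorem sf_step [Finite G] {p : ℕ} [Fact p.Prime] (P : Sylow p G)
    (hloc : LocHyp p (P : Subgroup G)) (Q : Subgroup G) (hQP : Q ≤ (P : Subgroup G))
    (IH : ∀ R : Subgroup G, R ≤ (P : Subgroup G) → Nat.card ↥Q < Nat.card ↥R →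
      SF (P : Subgroup G) R) : SF (P : Subgroup G) Q := by
  by_cases hQbot : Q = ⊥
  · rw [hQbot]; exact sf_bot _
  by_cases hQeq : Q = (P : Subgroup G)
  · rw [hQeq]; exact sf_self _
  have hPnil : Group.IsNilpotent ↥(P : Subgroup G) := P.isPGroup'.isNilpotent
  have hgrow : ∀ Q₁ : Subgroup G, Q₁ ≤ (P : Subgroup G) → Nat.card ↥Q₁ = Nat.card ↥Q →
      Nat.card ↥Q < Nat.card ↥((P : Subgroup G) ⊓ Subgroup.normalizer (Q₁ : Set G) :
        Subgroup G) := by
    intro Q₁ hQ₁P hcard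
    have hne : Q₁ ≠ (P : Subgroup G) := by
      intro h
      apply hQeq
      exact Subgroup.eq_of_le_of_card_ge hQP (by rw [← hcard, h])
    obtain ⟨t, htP, htN, htQ⟩ :=
      Cfsg.Agent.Lib.Helper4.CNMax.exists_mem_normalizer_not_mem Q₁ (P : Subgroup G) hPnil
        hQ₁P hne
    rw [← hcard]
    exact card_lt_of_le_of_mem (le_inf_normalizer hQ₁P) (t := t) ⟨htP, htN⟩ htQ
  intro x hx
  have hQ'card : Nat.card ↥(Q.map (MulAut.conj x).toMonoidHom) = Nat.card ↥Q := card_map_conj Q x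
  have hQ'bot : Q.map (MulAut.conj x).toMonoidHom ≠ ⊥ := by
    intro h
    apply hQbot
    rw [h, Subgroup.card_bot] at hQ'card
    exact Subgroup.card_eq_one.1 hQ'card.symm
  have hsfR := IH _ inf_le_left (hgrow Q hQP rfl)
  have hsfR' := IH _ inf_le_left (hgrow _ hx hQ'card)
  obtain ⟨S', hS'⟩ := exists_sylow_map_eq P hx Subgroup.le_normalizer
    (Subgroup.centralizer_le_normalizer _) hsfR'
  have hTN : ((P : Subgroup G) ⊓ Subgroup.normalizer (Q : Set G)).map
      (MulAut.conj x).toMonoidHom ≤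
      Subgroup.normalizer ((Q.map (MulAut.conj x).toMonoidHom : Subgroup G) : Set G) :=
    (Subgroup.map_mono inf_le_right).trans (Subgroup.le_normalizer_map _)
  have hTp : IsPGroup p ↥(((P : Subgroup G) ⊓ Subgroup.normalizer (Q : Set G)).map
      (MulAut.conj x).toMonoidHom) := (P.isPGroup'.to_le inf_le_left).map _
  have hTp' := hTp.of_equiv (Subgroup.subgroupOfEquivOfLe hTN).symm
  obtain ⟨S'', hS''⟩ := hTp'.exists_le_sylow
  obtain ⟨h, hh⟩ := MulAction.exists_smul_eq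
    ↥(Subgroup.normalizer ((Q.map (MulAut.conj x).toMonoidHom : Subgroup G) : Set G)) S'' S'
  have hhT : (((P : Subgroup G) ⊓ Subgroup.normalizer (Q : Set G)).map
      (MulAut.conj x).toMonoidHom).map (MulAut.conj (h : G)).toMonoidHom ≤
      (P : Subgroup G) ⊓
        Subgroup.normalizer ((Q.map (MulAut.conj x).toMonoidHom : Subgroup G) : Set G) := by
    rw [← hS']
    rintro _ ⟨t, ht, rfl⟩
    refine ⟨h * ⟨t, hTN ht⟩ * h⁻¹, ?_, rfl⟩
    rw [← hh, Sylow.coe_subgroup_smul]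
    exact ⟨⟨t, hTN ht⟩, hS'' (Subgroup.mem_subgroupOf.2 ht), rfl⟩
  have hhx : ((P : Subgroup G) ⊓ Subgroup.normalizer (Q : Set G)).map
      (MulAut.conj ((h : G) * x)).toMonoidHom ≤ (P : Subgroup G) := by
    rw [← map_conj_mul]
    exact hhT.trans inf_le_left
  obtain ⟨n, hn, c, hc, hnc⟩ := hsfR ((h : G) * x) hhx
  have hcQ : c ∈ Subgroup.centralizer (Q : Set G) :=
    Subgroup.centralizer_le
      (show (Q : Set G) ⊆ ((P : Subgroup G) ⊓ Subgroup.normalizer (Q : Set G) : Subgroup G) from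
        le_inf_normalizer hQP) hc
  obtain ⟨g, hg, c', hc', hgc⟩ := hloc _ hx hQ'bot S' (h : G)⁻¹ (Subgroup.inv_mem _ h.2)
  rw [hS'] at hg
  have hgR' : ((P : Subgroup G) ⊓
      Subgroup.normalizer ((Q.map (MulAut.conj x).toMonoidHom : Subgroup G) : Set G)).map
      (MulAut.conj g).toMonoidHom ≤ (P : Subgroup G) := by
    rintro _ ⟨r, hr, rfl⟩
    exact (conj_mem_of_mem_normalizer hg hr).1
  obtain ⟨n', hn', c'', hc'', rfl⟩ := hsfR' g hgR'
  have hc''Q' : c'' ∈ Subgroup.centralizer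
      ((Q.map (MulAut.conj x).toMonoidHom : Subgroup G) : Set G) :=
    Subgroup.centralizer_le
      (show ((Q.map (MulAut.conj x).toMonoidHom : Subgroup G) : Set G) ⊆
        ((P : Subgroup G) ⊓ Subgroup.normalizer
          ((Q.map (MulAut.conj x).toMonoidHom : Subgroup G) : Set G) : Subgroup G) from
        le_inf_normalizer hx) hc''
  have hx_eq : x = n' * c'' * c' * (n * c) := by
    rw [← hnc, ← hgc]; group
  have hnQ : ∀ q ∈ Q, n * q * n⁻¹ ∈ Q.map (MulAut.conj x).toMonoidHom := by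
    intro q hq
    have h1 : x * q * x⁻¹ ∈ Q.map (MulAut.conj x).toMonoidHom := ⟨q, hq, rfl⟩
    have h2 := conj_mem_of_mem_normalizer h.2 h1
    have e : (h : G) * (x * q * x⁻¹) * (h : G)⁻¹ = ((h : G) * x) * q * ((h : G) * x)⁻¹ := by
      group
    rw [e, hnc] at h2
    have hcq : c * q = q * c := (Subgroup.mem_centralizer_iff.1 hcQ q hq).symm
    have e2 : n * c * q * (n * c)⁻¹ = n * q * n⁻¹ := by
      rw [mul_assoc n c q, hcq]; group
    rwa [e2] at h2
  have hd : n⁻¹ * (c'' * c') * n ∈ Subgroup.centralizer (Q : Set G) := by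
    rw [Subgroup.mem_centralizer_iff]
    intro q hq
    have h1 := Subgroup.mem_centralizer_iff.1 (Subgroup.mul_mem _ hc''Q' hc') (n * q * n⁻¹)
      (hnQ q hq)
    calc q * (n⁻¹ * (c'' * c') * n) = n⁻¹ * ((n * q * n⁻¹) * (c'' * c')) * n := by group
      _ = n⁻¹ * ((c'' * c') * (n * q * n⁻¹)) * n := by rw [h1]
      _ = n⁻¹ * (c'' * c') * n * q := by group
  refine ⟨n' * n, Subgroup.mul_mem _ hn' hn, (n⁻¹ * (c'' * c') * n) * c,
    Subgroup.mul_mem _ hd hcQ, ?_⟩
  rw [hx_eq]; group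

/-- **Control of strong fusion** -/
theorem sf_all [Finite G] {p : ℕ} [Fact p.Prime] (P : Sylow p G)
    (hloc : LocHyp p (P : Subgroup G)) : ∀ Q : Subgroup G, Q ≤ (P : Subgroup G) →
    SF (P : Subgroup G) Q := by
  have key : ∀ d : ℕ, ∀ Q : Subgroup G, Q ≤ (P : Subgroup G) →
      Nat.card ↥(P : Subgroup G) - Nat.card ↥Q = d → SF (P : Subgroup G) Q := by
    intro d
    induction d using Nat.strong_induction_on with
    | _ d ih =>
      intro Q hQP hd
      apply sf_step P hloc Q hQP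
      intro R hRP hlt
      have hRle : Nat.card ↥R ≤ Nat.card ↥(P : Subgroup G) := Subgroup.card_le_of_le hRP
      exact ih (Nat.card ↥(P : Subgroup G) - Nat.card ↥R) (by omega) R hRP rfl
  intro Q hQP
  exact key _ Q hQP rfl

end Cfsg.Agent.Lib.Helper4.BGSyl
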