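import Mathlib
import Cfsg.Agent.Lib.Helper4.BGSylB
import Cfsg.Agent.Lib.Helper4.BGUniqE
import Cfsg.Agent.S1461

/-!
Bender–Glauberman Corollary 10.7 (c), (d), (e) (S1413), conditionally on Theorem 10.6
(proper subgroups have `p`-length one), helper4.
-/

set_option autoImplicit false

namespace Cfsg.Agent.Lib.Helper4.BGSyl

open Cfsg.Agent.Lib.Lead.Conj Cfsg.Agent.Lib.Helper4.BGTrans Cfsg.Agent.Lib.Helper4.BGUniq

variable {G : Type*} [Group G]

/-- the statement of Theorem 10.6 for the prime `p` -/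
def PLenOne (p : ℕ) (G : Type*) [Group G] : Prop :=
  ∀ H : Subgroup G, H ≠ ⊤ → Cfsg.PLengthLE p 1 ↥H

theorem sylow_ne_top [Finite G] (hG : Cfsg.IsMinSimpleOddOrder G) {p : ℕ} [Fact p.Prime]
    {Q : Subgroup G} (hQ : IsPGroup p ↥Q) : Q ≠ ⊤ := by
  rintro rfl
  have hG' : IsPGroup p G := hQ.of_equiv Subgroup.topEquiv
  haveI : Nontrivial G := hG.2.1.toNontrivial
  have := hG'.bot_lt_center
  rw [center_eq_bot hG] at this
  exact lt_irrefl _ this

/-- the local hypothesis holds in a minimal simple group whose proper subgroups have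
`p`-length one -/
theorem locHyp [Finite G] (hG : Cfsg.IsMinSimpleOddOrder G) {p : ℕ} [Fact p.Prime]
    (h1 : PLenOne p G) (P : Sylow p G) : LocHyp p (P : Subgroup G) := by
  intro Q hQP hQbot S h hh
  have hNtop : Subgroup.normalizer (Q : Set G) ≠ ⊤ :=
    normalizer_ne_top hG hQbot (sylow_ne_top hG (P.isPGroup'.to_le hQP))
  haveI : Group.IsSolvable ↥(Subgroup.normalizer (Q : Set G)) := hG.2.2.2 _ hNtop
  have hQS : Q.subgroupOf (Subgroup.normalizer (Q : Set G)) ≤
      (S : Subgroup ↥(Subgroup.normalizer (Q : Set G))) := by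
    apply IsPGroup.le_sylow_of_normal _ S
    exact (P.isPGroup'.to_le hQP).of_equiv
      (Subgroup.subgroupOfEquivOfLe (Subgroup.le_normalizer (H := Q))).symm
  obtain ⟨g, hg, c, hc, hgc⟩ := (Cfsg.Agent.S1461.result p (h1 _ hNtop) S).2.1
    ((Q.subgroupOf (Subgroup.normalizer (Q : Set G)) : Subgroup _) : Set _) ⟨h, hh⟩
    (fun y hy => hQS hy)
    (by
      rintro _ ⟨y, hy, rfl⟩
      apply hQS
      exact (Subgroup.normal_in_normalizer (H := Q)).conj_mem y hy _)
  refine ⟨(g : G), ?_, (c : G), ?_, ?_⟩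
  · apply Subgroup.le_normalizer_map (Subgroup.normalizer (Q : Set G)).subtype
    exact ⟨g, hg, rfl⟩
  · rw [Subgroup.mem_centralizer_iff]
    intro q hq
    have := Subgroup.mem_centralizer_iff.1 hc ⟨q, Subgroup.le_normalizer hq⟩
      (Subgroup.mem_subgroupOf.2 hq)
    exact congrArg Subtype.val this
  · have := congrArg Subtype.val hgc
    exact this.symm

theorem map_conj_eq_of_mem_centralizer {Q : Subgroup G} {c : G}
    (hc : c ∈ Subgroup.centralizer (Q : Set G)) : Q.map (MulAut.conj c).toMonoidHom = Q := by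
  ext y
  rw [mem_map_conj]
  constructor
  · intro h
    have h1 : c⁻¹ * y * c * c = c * (c⁻¹ * y * c) := Subgroup.mem_centralizer_iff.1 hc _ h
    have e : y = c * (c⁻¹ * y * c) * c⁻¹ := by group
    rw [e, ← h1]
    have e2 : c⁻¹ * y * c * c * c⁻¹ = c⁻¹ * y * c := by group
    rw [e2]; exact h
  · intro h
    have h1 : y * c = c * y := Subgroup.mem_centralizer_iff.1 hc _ h
    have e : c⁻¹ * y * c = c⁻¹ * (y * c) := by group
    rw [e, h1]
    have e2 : c⁻¹ * (c * y) = y := by group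
    rw [e2]; exact h

/-- (S1413) -/
theorem sylow_fusion [Finite G] (hG : Cfsg.IsMinSimpleOddOrder G) {p : ℕ} [Fact p.Prime]
    (h1 : PLenOne p G) (P : Sylow p G) :
    (∀ (Q : Subgroup G) (x : G), Q ≤ (P : Subgroup G) →
        Q.map (MulAut.conj x).toMonoidHom ≤ (P : Subgroup G) →
        ∃ y ∈ Subgroup.normalizer ((P : Subgroup G) : Set G),
          Q.map (MulAut.conj x).toMonoidHom = Q.map (MulAut.conj y).toMonoidHom) ∧
      (∀ Q : Subgroup G, Q ≤ (P : Subgroup G) →
        ¬ p ∣ ((P : Subgroup G) ⊓ Subgroup.normalizer (Q : Set G)).relIndex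
          (Subgroup.normalizer (Q : Set G))) ∧
      (∀ (R Q : Subgroup G), IsPGroup p ↥R → Q ≤ (P : Subgroup G) ⊓ R →
        Subgroup.normalizer ((P : Subgroup G) : Set G) ≤ Subgroup.normalizer (Q : Set G) →
        Subgroup.normalizer (R : Set G) ≤ Subgroup.normalizer (Q : Set G)) := by
  have hsf := sf_all P (locHyp hG h1 P)
  -- conjugates of `Q` inside `P` by `c n` with `c ∈ C(Q)`
  have hconj : ∀ (Q : Subgroup G) (x : G), Q ≤ (P : Subgroup G) →
      Q.map (MulAut.conj x).toMonoidHom ≤ (P : Subgroup G) →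
      ∃ y ∈ Subgroup.normalizer ((P : Subgroup G) : Set G),
        Q.map (MulAut.conj x).toMonoidHom = Q.map (MulAut.conj y).toMonoidHom := by
    intro Q x hQP hx
    obtain ⟨n, hn, c, hc, rfl⟩ := hsf Q hQP x hx
    refine ⟨n, hn, ?_⟩
    rw [← map_conj_mul, map_conj_eq_of_mem_centralizer hc]
  refine ⟨hconj, ?_, ?_⟩
  · intro Q hQP
    obtain ⟨S, hS⟩ := exists_sylow_map_eq P hQP Subgroup.le_normalizer
      (Subgroup.centralizer_le_normalizer _) (hsf _ inf_le_left)
    have h2 : ((P : Subgroup G) ⊓ Subgroup.normalizer (Q : Set G)).subgroupOf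
        (Subgroup.normalizer (Q : Set G)) = (S : Subgroup ↥(Subgroup.normalizer (Q : Set G))) := by
      rw [← hS]
      ext y
      rw [Subgroup.mem_subgroupOf]
      constructor
      · rintro ⟨z, hz, hzy⟩
        have : z = y := Subtype.ext hzy
        rw [← this]; exact hz
      · intro hy
        exact ⟨y, hy, rfl⟩
    show ¬ p ∣ (((P : Subgroup G) ⊓ Subgroup.normalizer (Q : Set G)).subgroupOf
        (Subgroup.normalizer (Q : Set G))).index
    rw [h2]
    exact S.not_dvd_index
  · intro R Q hRp hQ hNP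
    obtain ⟨t, ht⟩ := exists_conj_le P hRp
    have hQP : Q ≤ (P : Subgroup G) := hQ.trans inf_le_left
    have hQR : Q ≤ R := hQ.trans inf_le_right
    -- `Q^t = Q`
    have hfix : ∀ z : G, Q.map (MulAut.conj z).toMonoidHom ≤ (P : Subgroup G) →
        Q.map (MulAut.conj z).toMonoidHom = Q := by
      intro z hz
      obtain ⟨n, hn, c, hc, rfl⟩ := hsf Q hQP z hz
      rw [← map_conj_mul, map_conj_eq_of_mem_centralizer hc]
      have := Subgroup.mem_normalizer_iff_map_conj_eq.1 (hNP hn)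
      exact this
    have hQt : Q.map (MulAut.conj t).toMonoidHom = Q :=
      hfix t ((Subgroup.map_mono hQR).trans ht)
    intro y hy
    -- `z = t y t⁻¹` normalizes `R^t`
    have hz : Q.map (MulAut.conj (t * y * t⁻¹)).toMonoidHom ≤ (P : Subgroup G) := by
      rintro _ ⟨q, hq, rfl⟩
      apply ht
      refine ⟨y * (t⁻¹ * q * t) * y⁻¹, ?_, ?_⟩
      · apply conj_mem_of_mem_normalizer hy
        apply hQR
        have h3 : t⁻¹ * q * t ∈ Q.map (MulAut.conj t⁻¹).toMonoidHom := by
          refine ⟨q, hq, ?_⟩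
          show t⁻¹ * q * t⁻¹⁻¹ = t⁻¹ * q * t
          rw [inv_inv]
        have h4 : Q.map (MulAut.conj t⁻¹).toMonoidHom = Q := by
          conv_lhs => rw [← hQt]
          rw [map_conj_mul, inv_mul_cancel, map_conj_one]
        rw [h4] at h3
        exact h3
      · show t * (y * (t⁻¹ * q * t) * y⁻¹) * t⁻¹ = t * y * t⁻¹ * q * (t * y * t⁻¹)⁻¹
        group
    have h5 := hfix _ hz
    -- deduce `Q^y = Q`
    rw [Subgroup.mem_normalizer_iff_map_conj_eq]
    have h6 : Q.map (MulAut.conj (t * y * t⁻¹)).toMonoidHom =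
        ((Q.map (MulAut.conj t⁻¹).toMonoidHom).map (MulAut.conj y).toMonoidHom).map
          (MulAut.conj t).toMonoidHom := by
      rw [map_conj_mul, map_conj_mul]
    have h4 : Q.map (MulAut.conj t⁻¹).toMonoidHom = Q := by
      conv_lhs => rw [← hQt]
      rw [map_conj_mul, inv_mul_cancel, map_conj_one]
    rw [h6, h4] at h5
    -- `t (Q^y) t⁻¹ = Q = t Q t⁻¹`
    have h7 : (Q.map (MulAut.conj y).toMonoidHom).map (MulAut.conj t).toMonoidHom =
        Q.map (MulAut.conj t).toMonoidHom := by rw [h5, hQt]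
    exact Subgroup.map_injective (MulAut.conj t).injective h7

end Cfsg.Agent.Lib.Helper4.BGSyl
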