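import Mathlib
import Cfsg.Prelude.Def_OddOrderLocal
import Cfsg.Agent.H2.MetacyclicOdd
import Cfsg.Agent.H1.Class2
import Cfsg.Agent.Lib.Helper4.QuadGroup

/-!
# Coprime automorphisms of metacyclic `p`-groups, `p` odd (B&G Lemma 4.? / S1447)

Type-level part: if `A` acts coprimely on a metacyclic `p`-group `D` (`p` odd) with `[D, A] = D`
then `D` is abelian.
-/

set_option autoImplicit false

namespace Cfsg.Agent.Lib.Helper4.MetaAct

open Cfsg Cfsg.Agent.Lib.Helper4.QuadGroup
open scoped commutatorElement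

section basic

universe u v

variable {D : Type u} [Group D] {A : Type v} [Group A]

/-- `[D, A]` for an action by automorphisms -/
def acomm (φ : A →* MulAut D) : Subgroup D :=
  Subgroup.closure {y | ∃ (a : A) (x : D), y = φ a x * x⁻¹}

theorem mem_acomm (φ : A →* MulAut D) (a : A) (x : D) : φ a x * x⁻¹ ∈ acomm φ :=
  Subgroup.subset_closure ⟨a, x, rfl⟩

theorem isMetacyclic_of_surjective {E : Type*} [Group E] (f : D →* E)
    (hf : Function.Surjective f) (h : IsMetacyclic D) : IsMetacyclic E := by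
  obtain ⟨N, hN, hNc, hQc⟩ := h
  haveI := hN
  haveI := hNc
  haveI := hQc
  haveI hN' : (N.map f).Normal := Subgroup.Normal.map hN f hf
  refine ⟨N.map f, hN', ?_, ?_⟩
  · exact isCyclic_of_surjective (f.subgroupMap N) (f.subgroupMap_surjective N)
  · have hle : N ≤ (N.map f).comap f := Subgroup.le_comap_map f N
    let g : D ⧸ N →* E ⧸ N.map f := QuotientGroup.map N (N.map f) f hle
    have hg : Function.Surjective g := by
      intro q
      obtain ⟨e, rfl⟩ := QuotientGroup.mk_surjective q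
      obtain ⟨d, rfl⟩ := hf e
      exact ⟨QuotientGroup.mk d, rfl⟩
    exact isCyclic_of_surjective g hg

theorem mem_of_pow_mem_of_coprime {H : Subgroup D} {x : D} {m n : ℕ} (hm : x ^ m ∈ H)
    (hn : x ^ n ∈ H) (h : m.Coprime n) : x ∈ H := by
  have h1 : (x ^ (m : ℤ)) ^ (Nat.gcdA m n) * (x ^ (n : ℤ)) ^ (Nat.gcdB m n) = x := by
    rw [← zpow_mul, ← zpow_mul, ← zpow_add, ← Nat.gcd_eq_gcd_ab, h]
    simp
  rw [← h1]
  apply H.mul_mem
  · apply H.zpow_mem
    rw [zpow_natCast]; exact hm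
  · apply H.zpow_mem
    rw [zpow_natCast]; exact hn

/-- class two: commutators are bimultiplicative -/
theorem comm_mul_left (hc : ∀ x y : D, ⁅x, y⁆ ∈ Subgroup.center D) (x y z : D) :
    ⁅x * y, z⁆ = ⁅x, z⁆ * ⁅y, z⁆ := by
  have h1 : ⁅x * y, z⁆ = x * ⁅y, z⁆ * x⁻¹ * ⁅x, z⁆ := by
    simp only [commutatorElement_def]; group
  rw [h1, Subgroup.mem_center_iff.1 (hc y z) x, mul_inv_cancel_right,
    ← Subgroup.mem_center_iff.1 (hc y z) ⁅x, z⁆]

theorem comm_mul_right (hc : ∀ x y : D, ⁅x, y⁆ ∈ Subgroup.center D) (x y z : D) :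
    ⁅x, y * z⁆ = ⁅x, y⁆ * ⁅x, z⁆ := by
  have h1 : ⁅x, y * z⁆ = ⁅x, y⁆ * (y * ⁅x, z⁆ * y⁻¹) := by
    simp only [commutatorElement_def]; group
  rw [h1, Subgroup.mem_center_iff.1 (hc x z) y, mul_inv_cancel_right]

theorem comm_pow_right (hc : ∀ x y : D, ⁅x, y⁆ ∈ Subgroup.center D) (x y : D) (n : ℕ) :
    ⁅x, y ^ n⁆ = ⁅x, y⁆ ^ n := by
  induction n with
  | zero => simp
  | succ n ih => rw [pow_succ, comm_mul_right hc, ih, pow_succ]

theorem comm_inv_left (hc : ∀ x y : D, ⁅x, y⁆ ∈ Subgroup.center D) (x y : D) :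
    ⁅x⁻¹, y⁆ = ⁅x, y⁆⁻¹ := by
  have h := comm_mul_left hc x⁻¹ x y
  rw [inv_mul_cancel, commutatorElement_one_left] at h
  exact eq_inv_of_mul_eq_one_left h.symm

theorem comm_central_right {x y f : D} (hf : f ∈ Subgroup.center D) : ⁅x, f * y⁆ = ⁅x, y⁆ := by
  have h := Subgroup.mem_center_iff.1 hf
  have h' : ∀ g : D, g * f⁻¹ = f⁻¹ * g := fun g =>
    Subgroup.mem_center_iff.1 ((Subgroup.center D).inv_mem hf) g
  rw [commutatorElement_def, commutatorElement_def, mul_inv_rev]
  calc x * (f * y) * x⁻¹ * (y⁻¹ * f⁻¹) = (x * f) * y * x⁻¹ * y⁻¹ * f⁻¹ := by group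
    _ = f * x * y * x⁻¹ * y⁻¹ * f⁻¹ := by rw [h x]
    _ = f * (x * y * x⁻¹ * y⁻¹ * f⁻¹) := by group
    _ = f * (f⁻¹ * (x * y * x⁻¹ * y⁻¹)) := by rw [h' (x * y * x⁻¹ * y⁻¹)]
    _ = x * y * x⁻¹ * y⁻¹ := by group

end basic

section norm

universe u v

variable {D : Type u} [Group D] [Finite D] {A : Type v} [Group A] [Finite A]

omit [Finite D] in
theorem center_mem_stab (σ : MulAut D) : σ ∈ stab (Subgroup.center D) := by
  intro x
  have h := (Subgroup.centerCharacteristic (G := D)).fixed σ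
  constructor
  · intro hx
    rw [← h]
    exact hx
  · intro hx
    rw [← h] at hx
    exact hx

/-- an element fixed modulo the centre by a coprime group of automorphisms with `[D, A] = D` is
central (class two) -/
theorem mem_center_of_fixed_mod (hc : ∀ x y : D, ⁅x, y⁆ ∈ Subgroup.center D) (φ : A →* MulAut D)
    (hm : ∀ x : D, x ^ (Nat.card A) ∈ Subgroup.center D → x ∈ Subgroup.center D)
    (htop : acomm φ = ⊤) (u : D) (hu : ∀ a : A, φ a u * u⁻¹ ∈ Subgroup.center D) :
    u ∈ Subgroup.center D := by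
  classical
  haveI := Fintype.ofFinite A
  have hcomm : ∀ q₁ q₂ : D ⧸ Subgroup.center D, q₁ * q₂ = q₂ * q₁ := by
    intro q₁ q₂
    induction q₁ using QuotientGroup.induction_on with
    | H x =>
      induction q₂ using QuotientGroup.induction_on with
      | H y =>
        rw [← QuotientGroup.mk_mul, ← QuotientGroup.mk_mul, QuotientGroup.eq]
        have : (x * y)⁻¹ * (y * x) = ⁅y⁻¹, x⁻¹⁆ := by rw [commutatorElement_def]; group
        rw [this]; exact hc _ _
  letI instQ : CommGroup (D ⧸ Subgroup.center D) :=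
    { (inferInstance : Group (D ⧸ Subgroup.center D)) with mul_comm := hcomm }
  let ψ : A →* MulAut (D ⧸ Subgroup.center D) :=
    (quoAut (Subgroup.center D)).comp
      (φ.codRestrict (stab (Subgroup.center D)) (fun a => center_mem_stab (φ a)))
  have hψ : ∀ (a : A) (x : D), ψ a (QuotientGroup.mk x) = QuotientGroup.mk (φ a x) :=
    fun a x => rfl
  let ν : D ⧸ Subgroup.center D →* D ⧸ Subgroup.center D :=
    { toFun := fun q => ∏ a : A, ψ a q
      map_one' := by simp
      map_mul' := fun q₁ q₂ => by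
        simp only [map_mul]
        exact Finset.prod_mul_distrib }
  have hν : ∀ q, ν q = ∏ a : A, ψ a q := fun q => rfl
  have hν1 : ∀ (b : A) q, ν (ψ b q) = ν q := by
    intro b q
    rw [hν, hν]
    have : ∀ a : A, ψ a (ψ b q) = ψ (a * b) q := by
      intro a
      rw [map_mul, MulAut.mul_apply]
    simp_rw [this]
    exact Fintype.prod_equiv (Equiv.mulRight b) _ _ (fun a => rfl)
  have hker : ∀ x : D, ν (QuotientGroup.mk x) = 1 := by
    have hle : acomm φ ≤ (ν.comp (QuotientGroup.mk' (Subgroup.center D))).ker := by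
      unfold acomm
      rw [Subgroup.closure_le]
      rintro y ⟨a, x, rfl⟩
      rw [SetLike.mem_coe, MonoidHom.mem_ker, MonoidHom.comp_apply, QuotientGroup.mk'_apply,
        QuotientGroup.mk_mul, QuotientGroup.mk_inv, map_mul, map_inv, ← hψ, hν1, mul_inv_cancel]
    intro x
    have hx : x ∈ acomm φ := by rw [htop]; exact Subgroup.mem_top x
    exact hle hx
  have hfix : ∀ a : A, ψ a (QuotientGroup.mk u) = QuotientGroup.mk u := by
    intro a
    rw [hψ]
    have h1 : (QuotientGroup.mk (φ a u * u⁻¹) : D ⧸ Subgroup.center D) = 1 :=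
      (QuotientGroup.eq_one_iff _).mpr (hu a)
    rw [QuotientGroup.mk_mul, QuotientGroup.mk_inv, mul_inv_eq_one] at h1
    exact h1
  have h2 : ν (QuotientGroup.mk u) = (QuotientGroup.mk u) ^ (Nat.card A) := by
    rw [hν]
    simp_rw [hfix]
    rw [Finset.prod_const, Finset.card_univ, Nat.card_eq_fintype_card]
  rw [hker, ← QuotientGroup.mk_pow] at h2
  exact hm u ((QuotientGroup.eq_one_iff _).mp h2.symm)

end norm

section key

universe u v

variable {D : Type u} [Group D] [Finite D] {A : Type v} [Group A] [Finite A] {p : ℕ}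
  [hp' : Fact p.Prime]

theorem exists_max_pow (P : ℕ → Prop) (h1 : P 1) {N : ℕ} (hN : ¬ P N) (hN1 : 1 ≤ N) :
    ∃ j, 1 ≤ j ∧ P j ∧ ¬ P (j + 1) := by
  by_contra hcon
  push Not at hcon
  have : ∀ k, 1 ≤ k → P k := by
    intro k hk
    induction k, hk using Nat.le_induction with
    | base => exact h1
    | succ k hk ih => exact hcon k hk ih
  exact hN (this N hN1)

omit [Finite D] in
theorem map_mem_commutator (σ : MulAut D) {y : D} (hy : y ∈ commutator D) : σ y ∈ commutator D := by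
  have h1 : (commutator D).map σ.toMonoidHom = commutator D := by
    rw [commutator_def, Subgroup.map_commutator,
      Subgroup.map_top_of_surjective σ.toMonoidHom σ.surjective]
  rw [← h1]
  exact Subgroup.mem_map_of_mem _ hy

/-- the case `|D'| = p` -/
theorem key (hp : p ≠ 2) (hD : IsPGroup p D) (hm : IsMetacyclic D)
    (hcard : Nat.card (commutator D) = p) (φ : A →* MulAut D) (hcop : (Nat.card A).Coprime p)
    (htop : acomm φ = ⊤) : False := by
  have hpp := hp'.out
  obtain ⟨a₀, b₀, hctx⟩ := Cfsg.Agent.H2.MetaOdd.exists_ctx hp hD hm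
  have hcyc : IsCyclic (commutator D) := Cfsg.Agent.H2.MetaOdd.cyclic_commutator hm
  have hidx : (Subgroup.center D).index = p ^ 2 := by rw [hctx.index_center, hcard]
  have hpw : Cfsg.Agent.H2.MetaOdd.pw p 1 D = Subgroup.center D :=
    hctx.pw_eq_center (by rw [hcard, pow_one])
  have hcpmem : ∀ y ∈ commutator D, y ^ p = 1 := by
    intro y hy
    have := pow_card_eq_one' (G := ↥(commutator D)) (x := ⟨y, hy⟩)
    rw [hcard] at this
    have h9 := congrArg Subtype.val this
    simpa using h9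
  have hcmem : ∀ x y : D, ⁅x, y⁆ ∈ commutator D :=
    fun x y => Cfsg.Agent.H2.CDD.commutatorElement_mem_commutator x y
  have hcp : ∀ x y : D, ⁅x, y⁆ ^ p = 1 := fun x y => hcpmem _ (hcmem x y)
  have hcen : ∀ x y : D, ⁅x, y⁆ ∈ Subgroup.center D := fun x y =>
    Cfsg.Agent.H2.CDD.mem_center_of_pow_p hD hcyc _ (hcmem x y) (hcp x y)
  have hmulp : ∀ x y : D, (x * y) ^ p = x ^ p * y ^ p := fun x y =>
    Cfsg.Agent.H1.class2_mul_pow_prime hcen hpp hp x y (hcp y x)
  have hmulpj : ∀ (j : ℕ) (x y : D), (x * y) ^ p ^ j = x ^ p ^ j * y ^ p ^ j := by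
    intro j
    induction j with
    | zero => intro x y; simp
    | succ j ih =>
      intro x y
      rw [pow_succ, pow_mul, ih, hmulp, ← pow_mul, ← pow_mul]
  let Θ : ℕ → (D →* D) := fun j =>
    { toFun := fun x => x ^ p ^ j, map_one' := one_pow _, map_mul' := hmulpj j }
  have hΘ : ∀ j x, Θ j x = x ^ p ^ j := fun j x => rfl
  have hcenpow : ∀ f ∈ Subgroup.center D, ∃ g : D, g ^ p = f := by
    intro f hf
    rw [← hpw] at hf
    have hle : Cfsg.Agent.H2.MetaOdd.pw p 1 D ≤ (Θ 1).range := by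
      unfold Cfsg.Agent.H2.MetaOdd.pw
      rw [Subgroup.closure_le]
      rintro x ⟨y, rfl⟩
      exact ⟨y, rfl⟩
    obtain ⟨g, hg⟩ := hle hf
    refine ⟨g, ?_⟩
    rw [hΘ, pow_one] at hg
    exact hg
  -- the generator of the commutator subgroup
  obtain ⟨⟨z, hzD⟩, hgen⟩ := hcyc.exists_generator
  have hz1 : z ≠ 1 := by
    intro h
    have hbot : ∀ y : ↥(commutator D), y = 1 := by
      intro y
      obtain ⟨k, hk⟩ := Subgroup.mem_zpowers_iff.mp (hgen y)
      rw [← hk]
      apply Subtype.ext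
      simp [h]
    have h1 : Nat.card ↥(commutator D) = 1 := by
      rw [Nat.card_eq_one_iff_unique]
      exact ⟨⟨fun x y => by rw [hbot x, hbot y]⟩, ⟨1⟩⟩
    rw [hcard] at h1
    exact hpp.one_lt.ne' h1
  have hzgen : ∀ y ∈ commutator D, ∃ k : ℕ, z ^ k = y := by
    intro y hy
    have h1 := hgen ⟨y, hy⟩
    rw [← mem_powers_iff_mem_zpowers] at h1
    obtain ⟨k, hk⟩ := h1
    refine ⟨k, ?_⟩
    have h9 := congrArg Subtype.val hk
    simpa using h9
  have hzp : z ^ p = 1 := hcpmem z hzD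
  have hzc : z ∈ Subgroup.center D := Cfsg.Agent.H2.CDD.mem_center_of_pow_p hD hcyc z hzD hzp
  have hone : ∀ t ∈ commutator D, ∀ d : ℕ, ¬ p ∣ d → t ^ d = 1 → t = 1 := by
    intro t ht d hd htd
    have h1 : t ^ p ∈ (⊥ : Subgroup D) := by rw [Subgroup.mem_bot]; exact hcpmem t ht
    have h2 : t ^ d ∈ (⊥ : Subgroup D) := by rw [Subgroup.mem_bot]; exact htd
    have h3 := mem_of_pow_mem_of_coprime h1 h2 ((Nat.Prime.coprime_iff_not_dvd hpp).mpr hd)
    rwa [Subgroup.mem_bot] at h3
  -- the maximal `j`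
  obtain ⟨k, hk⟩ := hD.exists_card_eq
  have hP1 : ∃ w : D, w ^ p ^ 1 = z := by
    obtain ⟨g, hg⟩ := hcenpow z hzc
    exact ⟨g, by rw [pow_one]; exact hg⟩
  have hPN : ¬ ∃ w : D, w ^ p ^ (Nat.card D) = z := by
    rintro ⟨w, hw⟩
    apply hz1
    rw [← hw]
    have h1 : Nat.card D ∣ p ^ Nat.card D := by
      conv_lhs => rw [hk]
      apply Nat.pow_dvd_pow
      rw [hk]
      exact (Nat.lt_pow_self hpp.one_lt).le
    exact orderOf_dvd_iff_pow_eq_one.mp ((orderOf_dvd_natCard w).trans h1)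
  obtain ⟨j, hj1, ⟨w, hw⟩, hnj⟩ :=
    exists_max_pow (fun j => ∃ w : D, w ^ p ^ j = z) hP1 hPN Nat.card_pos
  have hwf : ∀ κ f : D, κ ^ p ^ j = 1 → f ∈ Subgroup.center D → w ≠ κ * f := by
    intro κ f hκ hf hwe
    obtain ⟨g, hg⟩ := hcenpow f hf
    apply hnj
    refine ⟨g, ?_⟩
    rw [pow_succ', pow_mul, hg, ← hw, hwe, hmulpj, hκ, one_mul]
  -- the action on the commutator subgroup
  have hact : ∀ a : A, ∃ d : ℕ, ¬ p ∣ d ∧ ∀ y ∈ commutator D, φ a y = y ^ d := by
    intro a
    obtain ⟨d, hd⟩ := hzgen _ (map_mem_commutator (φ a) hzD)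
    refine ⟨d, ?_, ?_⟩
    · intro hdvd
      obtain ⟨e, rfl⟩ := hdvd
      rw [pow_mul, hzp, one_pow] at hd
      apply hz1
      have : φ a z = φ a 1 := by rw [← hd, map_one]
      exact (φ a).injective this
    · intro y hy
      obtain ⟨e, rfl⟩ := hzgen y hy
      rw [map_pow, ← hd, ← pow_mul, ← pow_mul, mul_comm]
  have hκ : ∀ (a : A) (d : ℕ), (∀ y ∈ commutator D, φ a y = y ^ d) →
      (φ a w * (w ^ d)⁻¹) ^ p ^ j = 1 := by
    intro a d hd
    rw [hmulpj, inv_pow, ← pow_mul, mul_comm d, pow_mul, hw, ← map_pow, hw, hd z hzD,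
      mul_inv_cancel]
  have hstep : ∀ (a : A) (x κ : D) (d : ℕ), ¬ p ∣ d → (∀ y ∈ commutator D, φ a y = y ^ d) →
      φ a w = κ * w ^ d → ⁅φ a x, κ⁆ = 1 → ⁅φ a x * x⁻¹, w⁆ = 1 := by
    intro a x κ d hdp hd hκw hcomm
    have h1 : ⁅φ a x, φ a w⁆ = ⁅x, w⁆ ^ d := by
      rw [← map_commutatorElement, hd _ (hcmem x w)]
    have h2 : ⁅φ a x, φ a w⁆ = ⁅φ a x, w⁆ ^ d := by
      rw [hκw, comm_mul_right hcen, hcomm, one_mul, comm_pow_right hcen]
    have h3 : ⁅φ a x * x⁻¹, w⁆ = ⁅φ a x, w⁆ * ⁅x, w⁆⁻¹ := by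
      rw [comm_mul_left hcen, comm_inv_left hcen]
    apply hone _ (hcmem _ _) d hdp
    rw [h3]
    have hc1 : Commute ⁅φ a x, w⁆ ⁅x, w⁆⁻¹ :=
      ((Subgroup.mem_center_iff.mp (hcen (φ a x) w)) _).symm
    rw [hc1.mul_pow, inv_pow, ← h2, h1, mul_inv_cancel]
  have hmA : ∀ x : D, x ^ (Nat.card A) ∈ Subgroup.center D → x ∈ Subgroup.center D := by
    intro x hx
    have h2 : x ^ (Nat.card D) ∈ Subgroup.center D := by
      rw [pow_card_eq_one']
      exact Subgroup.one_mem _
    refine mem_of_pow_mem_of_coprime hx h2 ?_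
    rw [hk]
    exact Nat.Coprime.pow_right k hcop
  by_cases hcase : ∀ κ : D, κ ^ p ^ j = 1 → κ ∈ Subgroup.center D
  · -- case 1
    have hle : acomm φ ≤ Subgroup.centralizer ({w} : Set D) := by
      unfold acomm
      rw [Subgroup.closure_le]
      rintro y ⟨a, x, rfl⟩
      obtain ⟨d, hdp, hd⟩ := hact a
      have hκc := hcase _ (hκ a d hd)
      have h1 : φ a w = (φ a w * (w ^ d)⁻¹) * w ^ d := by group
      have h2 : ⁅φ a x, φ a w * (w ^ d)⁻¹⁆ = 1 := by
        rw [commutatorElement_eq_one_iff_commute]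
        exact ((Subgroup.mem_center_iff.mp hκc) _)
      have h3 := hstep a x _ d hdp hd h1 h2
      rw [SetLike.mem_coe, Subgroup.mem_centralizer_singleton_iff]
      rw [commutatorElement_eq_one_iff_commute] at h3
      exact h3.eq
    rw [htop] at hle
    have hwc : w ∈ Subgroup.center D := by
      rw [Subgroup.mem_center_iff]
      intro g
      have := hle (Subgroup.mem_top g)
      rw [Subgroup.mem_centralizer_singleton_iff] at this
      exact this
    exact hwf 1 w (one_pow _) hwc (one_mul w).symm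
  · -- case 2
    push Not at hcase
    obtain ⟨u, hu, huZ⟩ := hcase
    set M : Subgroup D := (Θ j).ker ⊔ Subgroup.center D with hM
    have hwM : w ∉ M := by
      intro hwM
      have h1 : w ∈ ((Θ j).ker ⊔ Subgroup.center D : Subgroup D) := hwM
      rw [← SetLike.mem_coe, Subgroup.mul_normal, Set.mem_mul] at h1
      obtain ⟨κ, hκ', f, hf, hκf⟩ := h1
      have h2 : κ ^ p ^ j = 1 := by
        have := MonoidHom.mem_ker.mp hκ'
        rwa [hΘ] at this
      exact hwf κ f h2 hf hκf.symm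
    have huM : u ∈ M := Subgroup.mem_sup_left (MonoidHom.mem_ker.mpr (by rw [hΘ]; exact hu))
    have hMtop : M < ⊤ := lt_top_iff_ne_top.mpr (fun h => hwM (h ▸ Subgroup.mem_top w))
    have hMab : IsMulCommutative ↥M := by
      rw [(Cfsg.Agent.H2.MetaOdd.abelian_iff hp hD hm M).1]
      have h1 := Cfsg.Agent.H2.CDD.p_mul_card_le_of_lt hD hMtop
      rw [Subgroup.card_top] at h1
      have h2 := (commutator D).card_mul_index
      rw [hcard] at h2
      rw [← h2] at h1
      exact Nat.le_of_mul_le_mul_left h1 hpp.pos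
    have hcommM : ∀ x ∈ M, ∀ y ∈ M, x * y = y * x := by
      intro x hx y hy
      have := hMab.is_comm.comm ⟨x, hx⟩ ⟨y, hy⟩
      exact congrArg Subtype.val this
    have hM' : M ⊔ Subgroup.zpowers w = ⊤ := by
      apply Subgroup.eq_top_of_le_card
      have hZM : Subgroup.center D < M := by
        refine lt_of_le_of_ne le_sup_right ?_
        intro h
        exact huZ (h ▸ huM)
      have hMM' : M < M ⊔ Subgroup.zpowers w := by
        refine lt_of_le_of_ne le_sup_left ?_
        intro h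
        apply hwM
        rw [h]
        exact Subgroup.mem_sup_right (Subgroup.mem_zpowers w)
      have h1 := Cfsg.Agent.H2.CDD.p_mul_card_le_of_lt hD hZM
      have h2 := Cfsg.Agent.H2.CDD.p_mul_card_le_of_lt hD hMM'
      have h3 := (Subgroup.center D).card_mul_index
      rw [hidx] at h3
      calc Nat.card D = Nat.card (Subgroup.center D) * p ^ 2 := h3.symm
        _ = p * (p * Nat.card (Subgroup.center D)) := by ring
        _ ≤ p * Nat.card M := Nat.mul_le_mul_left p h1
        _ ≤ _ := h2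
    have hcenM : ∀ v ∈ M, ⁅v, w⁆ = 1 → v ∈ Subgroup.center D := by
      intro v hv hvw
      have hle : M ⊔ Subgroup.zpowers w ≤ Subgroup.centralizer ({v} : Set D) := by
        rw [sup_le_iff]
        constructor
        · intro y hy
          rw [Subgroup.mem_centralizer_singleton_iff]
          exact hcommM y hy v hv
        · rw [Subgroup.zpowers_le, Subgroup.mem_centralizer_singleton_iff]
          rw [commutatorElement_eq_one_iff_commute] at hvw
          exact hvw.eq.symm
      rw [hM'] at hle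
      rw [Subgroup.mem_center_iff]
      intro g
      have := hle (Subgroup.mem_top g)
      rw [Subgroup.mem_centralizer_singleton_iff] at this
      exact this
    have hfix : ∀ a : A, φ a u * u⁻¹ ∈ Subgroup.center D := by
      intro a
      obtain ⟨d, hdp, hd⟩ := hact a
      have hκK : φ a w * (w ^ d)⁻¹ ∈ M :=
        Subgroup.mem_sup_left (MonoidHom.mem_ker.mpr (by rw [hΘ]; exact hκ a d hd))
      have huK : φ a u ∈ (Θ j).ker := by
        rw [MonoidHom.mem_ker, hΘ, ← map_pow, hu, map_one]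
      have huM' : φ a u ∈ M := Subgroup.mem_sup_left huK
      have h1 : φ a w = (φ a w * (w ^ d)⁻¹) * w ^ d := by group
      have h2 : ⁅φ a u, φ a w * (w ^ d)⁻¹⁆ = 1 := by
        rw [commutatorElement_eq_one_iff_commute]
        exact hcommM _ huM' _ hκK
      have h3 := hstep a u _ d hdp hd h1 h2
      exact hcenM _ (M.mul_mem huM' (M.inv_mem huM)) h3
    exact huZ (mem_center_of_fixed_mod hcen φ hmA htop u hfix)

end key

section main

universe u v

variable {D : Type u} [Group D] [Finite D] {A : Type v} [Group A] [Finite A] {p : ℕ}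
  [hp' : Fact p.Prime]

/-- **coprime action on a metacyclic `p`-group, `p` odd**: if `[D, A] = D` then `D` is abelian -/
theorem comm_of_acomm_top (hp : p ≠ 2) (hD : IsPGroup p D) (hm : IsMetacyclic D)
    (φ : A →* MulAut D) (hcop : (Nat.card A).Coprime p) (htop : acomm φ = ⊤) :
    ∀ x y : D, x * y = y * x := by
  have hpp := hp'.out
  by_contra hna
  push Not at hna
  obtain ⟨x₀, y₀, hxy⟩ := hna
  have hcyc : IsCyclic (commutator D) := Cfsg.Agent.H2.MetaOdd.cyclic_commutator hm
  obtain ⟨⟨c, hcD⟩, hgen⟩ := hcyc.exists_generator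
  have hcgen : ∀ y ∈ commutator D, ∃ k : ℕ, c ^ k = y := by
    intro y hy
    have h1 := hgen ⟨y, hy⟩
    rw [← mem_powers_iff_mem_zpowers] at h1
    obtain ⟨k, hk⟩ := h1
    refine ⟨k, ?_⟩
    have h9 := congrArg Subtype.val hk
    simpa using h9
  have hc1 : c ≠ 1 := by
    intro h
    apply hxy
    have h1 : ⁅x₀, y₀⁆ ∈ commutator D := Cfsg.Agent.H2.CDD.commutatorElement_mem_commutator x₀ y₀
    obtain ⟨k, hk⟩ := hcgen _ h1
    rw [h, one_pow] at hk
    exact (commutatorElement_eq_one_iff_mul_comm.mp hk.symm)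
  set N : Subgroup D := Subgroup.zpowers (c ^ p) with hN
  have hstab : ∀ σ : MulAut D, σ ∈ stab N := by
    intro σ
    apply mem_stab_of_finite
    intro v hv
    obtain ⟨i, rfl⟩ := Subgroup.mem_zpowers_iff.mp hv
    obtain ⟨k, hk⟩ := hcgen _ (map_mem_commutator σ hcD)
    rw [map_zpow, map_pow, ← hk, ← pow_mul, mul_comm, pow_mul]
    exact Subgroup.zpow_mem _ (Subgroup.pow_mem _ (Subgroup.mem_zpowers _) k) i
  haveI hNn : N.Normal := by
    refine ⟨fun n hn g => ?_⟩
    have := (hstab (MulAut.conj g) n).mpr hn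
    simpa [MulAut.conj_apply] using this
  -- the quotient
  have hQp : IsPGroup p (D ⧸ N) := hD.to_quotient N
  have hQm : IsMetacyclic (D ⧸ N) :=
    isMetacyclic_of_surjective (QuotientGroup.mk' N) (QuotientGroup.mk'_surjective N) hm
  have hcN : c ∉ N := by
    intro hcN
    obtain ⟨i, hi⟩ := Subgroup.mem_zpowers_iff.mp hcN
    have h1 : c ^ ((p : ℤ) * i - 1) = 1 := by
      rw [zpow_sub, zpow_one, zpow_mul, zpow_natCast, hi, mul_inv_cancel]
    have h2 : (orderOf c : ℤ) ∣ (p : ℤ) * i - 1 := orderOf_dvd_iff_zpow_eq_one.mpr h1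
    obtain ⟨e, he⟩ := (hD c)
    have h3 : orderOf c ∣ p ^ e := orderOf_dvd_of_pow_eq_one he
    obtain ⟨e', -, he'⟩ := (Nat.dvd_prime_pow hpp).mp h3
    have h4 : p ∣ orderOf c := by
      rw [he']
      rcases Nat.eq_zero_or_pos e' with h0 | h0
      · exfalso
        rw [h0, pow_zero, orderOf_eq_one_iff] at he'
        exact hc1 he'
      · exact dvd_pow_self p h0.ne'
    have h5 : (p : ℤ) ∣ (p : ℤ) * i - 1 := (Int.natCast_dvd_natCast.mpr h4).trans h2
    have h6 : (p : ℤ) ∣ 1 := by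
      have h7 : (p : ℤ) ∣ (p : ℤ) * i := dvd_mul_right _ _
      have := Int.dvd_sub h7 h5
      simpa using this
    have h8 : p ∣ 1 := by exact_mod_cast h6
    exact hpp.one_lt.ne' (Nat.dvd_one.mp h8)
  have hQc : Nat.card (commutator (D ⧸ N)) = p := by
    have h1 : commutator (D ⧸ N) = Subgroup.zpowers (QuotientGroup.mk c : D ⧸ N) := by
      have h2 : (commutator D).map (QuotientGroup.mk' N) = commutator (D ⧸ N) := by
        rw [commutator_def, Subgroup.map_commutator,
          Subgroup.map_top_of_surjective _ (QuotientGroup.mk'_surjective N), ← commutator_def]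
      have h3 : commutator D = Subgroup.zpowers c := by
        apply le_antisymm
        · intro y hy
          obtain ⟨k, hk⟩ := hcgen y hy
          rw [← hk]
          exact Subgroup.pow_mem _ (Subgroup.mem_zpowers c) k
        · rw [Subgroup.zpowers_le]
          exact hcD
      rw [← h2, h3, MonoidHom.map_zpowers]
      rfl
    rw [h1, Nat.card_zpowers]
    apply orderOf_eq_prime
    · rw [← QuotientGroup.mk_pow, QuotientGroup.eq_one_iff]
      exact Subgroup.mem_zpowers _
    · rw [Ne, QuotientGroup.eq_one_iff]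
      exact hcN
  let ψ : A →* MulAut (D ⧸ N) :=
    (quoAut N).comp (φ.codRestrict (stab N) (fun a => hstab (φ a)))
  have hψ : ∀ (a : A) (x : D), ψ a (QuotientGroup.mk x) = QuotientGroup.mk (φ a x) :=
    fun a x => rfl
  have hψtop : acomm ψ = ⊤ := by
    rw [eq_top_iff]
    have hle : acomm φ ≤ (acomm ψ).comap (QuotientGroup.mk' N) := by
      unfold acomm
      rw [Subgroup.closure_le]
      rintro y ⟨a, x, rfl⟩
      rw [SetLike.mem_coe, Subgroup.mem_comap, QuotientGroup.mk'_apply, QuotientGroup.mk_mul,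
        QuotientGroup.mk_inv, ← hψ]
      exact Subgroup.subset_closure ⟨a, QuotientGroup.mk x, rfl⟩
    rw [htop] at hle
    intro q _
    obtain ⟨x, rfl⟩ := QuotientGroup.mk_surjective q
    exact hle (Subgroup.mem_top x)
  exact key hp hQp hQm hQc ψ hcop hψtop

end main

end Cfsg.Agent.Lib.Helper4.MetaAct
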