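import Mathlib
import Cfsg.Prelude.Def_OddOrderLocal
import Cfsg.Agent.Lib.Helper4.MetaAct
import Cfsg.Agent.Lib.Helper4.Rank2Aut
import Cfsg.Agent.H1.CoprimeAction
import Cfsg.Agent.H1.NormMap
import Cfsg.Agent.S0026
import Cfsg.Agent.S0027
import Cfsg.Agent.S0638

/-!
# Coprime action on metacyclic `p`-groups, ambient form (= S1447)
-/

set_option autoImplicit false

namespace Cfsg.Agent.Lib.Helper4.MetaActAmb

open Cfsg Cfsg.Agent.Lib.Helper4.MetaAct Cfsg.Agent.Lib.Helper4.Rank2Aut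
open scoped commutatorElement

variable {G : Type*} [Group G] [Finite G] {p : ℕ} [hp' : Fact p.Prime]

omit [Finite G] hp' in
theorem isMetacyclic_of_le {R H : Subgroup G} (hR : IsMetacyclic ↥R) (hHR : H ≤ R) :
    IsMetacyclic ↥H := by
  have h1 := Cfsg.Agent.H2.MetaOdd.isMetacyclic_subgroup hR (H.subgroupOf R)
  exact isMetacyclic_of_surjective (Subgroup.subgroupOfEquivOfLe hHR).toMonoidHom
    (Subgroup.subgroupOfEquivOfLe hHR).surjective h1

/-- `[R, A]` is abelian -/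
theorem commutator_comm (hp : p ≠ 2) (R A : Subgroup G) (hR : IsPGroup p R)
    (hRm : IsMetacyclic R) (hA : A ≤ Subgroup.normalizer (R : Set G))
    (hcop : (Nat.card A).Coprime p) : IsMulCommutative ↥⁅R, A⁆ := by
  have hpp := hp'.out
  set D : Subgroup G := ⁅R, A⁆ with hD
  have hDR : D ≤ R := Subgroup.le_normalizer_iff_commutator_le_left.mp hA
  have hAD : A ≤ Subgroup.normalizer (D : Set G) := Subgroup.normalizer_commutator_ge_right R A
  have hcopR : (Nat.card A).Coprime (Nat.card R) := by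
    obtain ⟨k, hk⟩ := hR.exists_card_eq
    rw [hk]
    exact Nat.Coprime.pow_right k hcop
  haveI : Group.IsNilpotent ↥R := hR.isNilpotent
  have hsolv : Group.IsSolvable ↥A ∨ Group.IsSolvable ↥R := Or.inr inferInstance
  have h27 : ⁅D, A⁆ = D := Cfsg.Agent.S0027.result A R hA hcopR hsolv
  have hDp : IsPGroup p ↥D := hR.to_le hDR
  have hDm : IsMetacyclic ↥D := isMetacyclic_of_le hRm hDR
  set φ : ↥A →* MulAut ↥D := Cfsg.Agent.Lib.Helper4.Rank2Aut.conjHom D A hAD with hφ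
  have htop : acomm φ = ⊤ := by
    rw [eq_top_iff]
    have hle : ⁅D, A⁆ ≤ (acomm φ).map D.subtype := by
      rw [Subgroup.commutator_le]
      intro d hd a ha
      have h1 : ⁅d, a⁆ = ((φ ⟨a, ha⟩ ⟨d, hd⟩ * (⟨d, hd⟩ : ↥D)⁻¹ : ↥D) : G)⁻¹ := by
        rw [Subgroup.coe_mul, Subgroup.coe_inv, hφ, Cfsg.Agent.Lib.Helper4.Rank2Aut.conjHom_apply, commutatorElement_def]
        group
      rw [h1]
      apply Subgroup.inv_mem
      exact Subgroup.mem_map_of_mem _ (mem_acomm φ _ _)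
    rw [h27] at hle
    intro x _
    obtain ⟨y, hy, hyx⟩ := hle x.2
    have : y = x := Subtype.ext hyx
    rw [← this]
    exact hy
  have hc := comm_of_acomm_top hp hDp hDm φ hcop htop
  exact ⟨⟨fun x y => hc x y⟩⟩

/-- the set of elements of order dividing `p` of a subgroup -/
def omSet (p : ℕ) (H : Subgroup G) : Set G := {x | x ∈ H ∧ x ^ p = 1}

theorem ncard_omSet (hp : p ≠ 2) (H : Subgroup G) (hH : IsPGroup p H) (hm : IsMetacyclic ↥H)
    (hnc : ¬ IsCyclic ↥H) : (omSet p H).ncard = p ^ 2 := by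
  obtain ⟨hE, hcard⟩ := Cfsg.Agent.S0638.result hp hH hm hnc
  set W : Subgroup ↥H := omegaOne p (⊤ : Subgroup ↥H) with hW
  have h1 : omSet p H = Subtype.val '' (W : Set ↥H) := by
    ext x
    constructor
    · rintro ⟨hxH, hxp⟩
      refine ⟨⟨x, hxH⟩, ?_, rfl⟩
      apply Subgroup.subset_closure
      refine ⟨Subgroup.mem_top _, ?_⟩
      apply Subtype.ext
      rw [Subgroup.coe_pow, Subgroup.coe_one]
      exact hxp
    · rintro ⟨y, hy, rfl⟩
      refine ⟨y.2, ?_⟩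
      have := hE.2 y hy
      have h9 := congrArg Subtype.val this
      rw [Subgroup.coe_pow, Subgroup.coe_one] at h9
      exact h9
  rw [h1, Set.ncard_image_of_injective _ Subtype.val_injective, ← hcard]
  exact (Nat.card_coe_set_eq (W : Set ↥H)).symm

omit [Finite G] hp' in
theorem isCyclic_of_le {H K : Subgroup G} (hHK : H ≤ K) (hK : IsCyclic ↥K) : IsCyclic ↥H := by
  haveI := hK
  haveI : IsCyclic ↥(H.subgroupOf K) := inferInstance
  exact isCyclic_of_surjective (Subgroup.subgroupOfEquivOfLe hHK).toMonoidHom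
    (Subgroup.subgroupOfEquivOfLe hHK).surjective

theorem omSet_eq (hp : p ≠ 2) {H K : Subgroup G} (hHK : H ≤ K) (hK : IsPGroup p K)
    (hKm : IsMetacyclic ↥K) (hHnc : ¬ IsCyclic ↥H) : omSet p H = omSet p K := by
  have hKnc : ¬ IsCyclic ↥K := fun h => hHnc (isCyclic_of_le hHK h)
  have h1 := ncard_omSet hp H (hK.to_le hHK) (isMetacyclic_of_le hKm hHK) hHnc
  have h2 := ncard_omSet hp K hK hKm hKnc
  apply Set.eq_of_subset_of_ncard_le
  · rintro x ⟨hx, hxp⟩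
    exact ⟨hHK hx, hxp⟩
  · rw [h1, h2]
  · exact Set.toFinite _

theorem exists_order_p {H : Subgroup G} (hH : IsPGroup p H) (hne : H ≠ ⊥) :
    ∃ x ∈ H, x ≠ 1 ∧ x ^ p = 1 := by
  have hpp := hp'.out
  obtain ⟨k, hk⟩ := hH.exists_card_eq
  have hk0 : k ≠ 0 := by
    intro h
    rw [h, pow_zero] at hk
    exact hne (Subgroup.card_eq_one.mp hk)
  have hdvd : p ∣ Nat.card ↥H := by rw [hk]; exact dvd_pow_self p hk0
  obtain ⟨x, hx⟩ := exists_prime_orderOf_dvd_card' p hdvd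
  refine ⟨x.1, x.2, ?_, ?_⟩
  · intro h
    have : x = 1 := Subtype.ext h
    rw [this, orderOf_one] at hx
    exact hpp.one_lt.ne hx
  · have := pow_orderOf_eq_one x
    rw [hx] at this
    have h9 := congrArg Subtype.val this
    rw [Subgroup.coe_pow, Subgroup.coe_one] at h9
    exact h9

/-- **S1447** -/
theorem meta_coprime (hp : p ≠ 2) (R A : Subgroup G) (hR : IsPGroup p R)
    (hRm : IsMetacyclic R) (hA : A ≤ Subgroup.normalizer (R : Set G))
    (hcop : (Nat.card A).Coprime p) :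
    IsMulCommutative ↥⁅R, A⁆ ∧ ⁅R, A⁆ ⊔ (R ⊓ Subgroup.centralizer (A : Set G)) = R ∧
      ⁅R, A⁆ ⊓ (R ⊓ Subgroup.centralizer (A : Set G)) = ⊥ ∧
      (¬ IsMulCommutative R → ¬ A ≤ Subgroup.centralizer (R : Set G) →
        ⁅R, A⁆ ≠ ⊥ ∧ IsCyclic ↥⁅R, A⁆ ∧ (R ⊓ Subgroup.centralizer (A : Set G)) ≠ ⊥ ∧
          IsCyclic ↥(R ⊓ Subgroup.centralizer (A : Set G)) ∧ ⁅R, R⁆ ≤ ⁅R, A⁆) := by
  have hpp := hp'.out
  have h1 := commutator_comm hp R A hR hRm hA hcop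
  set D : Subgroup G := ⁅R, A⁆ with hD
  set C : Subgroup G := R ⊓ Subgroup.centralizer (A : Set G) with hC
  have hDR : D ≤ R := Subgroup.le_normalizer_iff_commutator_le_left.mp hA
  have hCR : C ≤ R := inf_le_left
  have hAD : A ≤ Subgroup.normalizer (D : Set G) := Subgroup.normalizer_commutator_ge_right R A
  have hRD : R ≤ Subgroup.normalizer (D : Set G) := Subgroup.normalizer_commutator_ge_left R A
  have hcopR : (Nat.card A).Coprime (Nat.card R) := by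
    obtain ⟨k, hk⟩ := hR.exists_card_eq
    rw [hk]
    exact Nat.Coprime.pow_right k hcop
  have hcopD : (Nat.card A).Coprime (Nat.card D) := by
    obtain ⟨k, hk⟩ := (hR.to_le hDR).exists_card_eq
    rw [hk]
    exact Nat.Coprime.pow_right k hcop
  haveI : Group.IsNilpotent ↥R := hR.isNilpotent
  have hsolv : Group.IsSolvable ↥A ∨ Group.IsSolvable ↥R := Or.inr inferInstance
  have h27 : ⁅D, A⁆ = D := Cfsg.Agent.S0027.result A R hA hcopR hsolv
  have h2 : D ⊔ C = R := Cfsg.Agent.S0026.result A R hA hcopR hsolv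
  have h3 : D ⊓ C = ⊥ := by
    have h := Cfsg.Agent.H1.commutator_inf_centralizer_eq_bot_of_abelian D A h1 hAD hcopD
    rw [h27] at h
    rw [eq_bot_iff, ← h]
    exact inf_le_inf_left D inf_le_right
  refine ⟨h1, h2, h3, ?_⟩
  intro hna hncent
  have hDne : D ≠ ⊥ := by
    intro h
    apply hncent
    rw [hD, Subgroup.commutator_eq_bot_iff_le_centralizer] at h
    exact Subgroup.le_centralizer_iff.mp h
  have hCne : C ≠ ⊥ := by
    intro h
    apply hna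
    rw [h, sup_bot_eq] at h2
    rw [← h2]
    exact h1
  have hDp : IsPGroup p ↥D := hR.to_le hDR
  have hCp : IsPGroup p ↥C := hR.to_le hCR
  have hDcyc : IsCyclic ↥D := by
    by_contra hDnc
    have he := omSet_eq hp hDR hR hRm hDnc
    obtain ⟨x, hxC, hx1, hxp⟩ := exists_order_p hCp hCne
    have hx : x ∈ omSet p D := by
      rw [he]
      exact ⟨hCR hxC, hxp⟩
    have : x ∈ D ⊓ C := ⟨hx.1, hxC⟩
    rw [h3, Subgroup.mem_bot] at this
    exact hx1 this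
  have hCcyc : IsCyclic ↥C := by
    by_contra hCnc
    have he := omSet_eq hp hCR hR hRm hCnc
    obtain ⟨x, hxD, hx1, hxp⟩ := exists_order_p hDp hDne
    have hx : x ∈ omSet p C := by
      rw [he]
      exact ⟨hDR hxD, hxp⟩
    have : x ∈ D ⊓ C := ⟨hxD, hx.1⟩
    rw [h3, Subgroup.mem_bot] at this
    exact hx1 this
  refine ⟨hDne, hDcyc, hCne, hCcyc, ?_⟩
  have hCD : C ≤ Subgroup.normalizer (D : Set G) := hCR.trans hRD
  haveI := hCcyc
  have hCcomm : ∀ c₁ ∈ C, ∀ c₂ ∈ C, c₁ * c₂ = c₂ * c₁ := by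
    intro c₁ h₁ c₂ h₂
    have := (IsCyclic.isMulCommutative (α := ↥C)).is_comm.comm ⟨c₁, h₁⟩ ⟨c₂, h₂⟩
    exact congrArg Subtype.val this
  have hconj : ∀ r ∈ R, ∀ d ∈ D, r * d * r⁻¹ ∈ D := by
    intro r hr d hd
    exact (Subgroup.mem_normalizer_iff.mp (hRD hr) d).mp hd
  rw [Subgroup.commutator_le]
  intro x hx y hy
  rw [← h2] at hx hy
  obtain ⟨d₁, hd₁, c₁, hc₁, rfl⟩ := (Cfsg.Agent.H1.mem_sup_of_le_normalizer D C hCD).mp hx
  obtain ⟨d₂, hd₂, c₂, hc₂, rfl⟩ := (Cfsg.Agent.H1.mem_sup_of_le_normalizer D C hCD).mp hy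
  have e : c₂ * c₁⁻¹ = c₁⁻¹ * c₂ := by
    have := hCcomm c₁ hc₁ c₂ hc₂
    calc c₂ * c₁⁻¹ = c₁⁻¹ * (c₁ * c₂) * c₁⁻¹ := by group
      _ = c₁⁻¹ * (c₂ * c₁) * c₁⁻¹ := by rw [this]
      _ = c₁⁻¹ * c₂ := by group
  have key : ⁅d₁ * c₁, d₂ * c₂⁆ =
      d₁ * (c₁ * d₂ * c₁⁻¹) * (c₂ * d₁⁻¹ * c₂⁻¹) * d₂⁻¹ := by
    rw [commutatorElement_def]
    calc d₁ * c₁ * (d₂ * c₂) * (d₁ * c₁)⁻¹ * (d₂ * c₂)⁻¹
        = d₁ * c₁ * d₂ * (c₂ * c₁⁻¹) * d₁⁻¹ * c₂⁻¹ * d₂⁻¹ := by group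
      _ = d₁ * c₁ * d₂ * (c₁⁻¹ * c₂) * d₁⁻¹ * c₂⁻¹ * d₂⁻¹ := by rw [e]
      _ = d₁ * (c₁ * d₂ * c₁⁻¹) * (c₂ * d₁⁻¹ * c₂⁻¹) * d₂⁻¹ := by group
  rw [key]
  exact D.mul_mem (D.mul_mem (D.mul_mem hd₁ (hconj c₁ (hCR hc₁) d₂ hd₂))
    (hconj c₂ (hCR hc₂) d₁⁻¹ (D.inv_mem hd₁))) (D.inv_mem hd₂)

end Cfsg.Agent.Lib.Helper4.MetaActAmb
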