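import Mathlib
import Cfsg.Agent.Lib.Helper4.BGSylC
import Cfsg.Agent.S1459
import Cfsg.Agent.S1448

/-!
Bender–Glauberman Corollary 10.7 (a), (b) (S1411, S1412), conditionally on Theorem 10.6, helper4.
-/

set_option autoImplicit false

open scoped commutatorElement

namespace Cfsg.Agent.Lib.Helper4.BGSyl

open Cfsg.Agent.Lib.Lead.Conj Cfsg.Agent.Lib.Helper4.BGTrans Cfsg.Agent.Lib.Helper4.BGUniq

variable {G : Type*} [Group G]

theorem commutator_eq_top (hG : Cfsg.IsMinSimpleOddOrder G) : commutator G = ⊤ := by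
  haveI := hG.2.1
  rcases (inferInstance : (commutator G).Normal).eq_bot_or_eq_top with h | h
  · exfalso
    exact hG.2.2.1 ((commutator_eq_bot_iff G).1 h)
  · exact h

/-- `P ≤ N_G(P)'` -/
theorem sylow_le_commutator_normalizer [Finite G] (hG : Cfsg.IsMinSimpleOddOrder G) {p : ℕ}
    [Fact p.Prime] (h1 : PLenOne p G) (P : Sylow p G) :
    (P : Subgroup G) ≤ ⁅Subgroup.normalizer ((P : Subgroup G) : Set G),
      Subgroup.normalizer ((P : Subgroup G) : Set G)⁆ := by
  have hsf := sf_all P (locHyp hG h1 P)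
  have hfoc := Subgroup.commutator_inf_eq_focalSubgroup P
  rw [commutator_eq_top hG, top_inf_eq] at hfoc
  intro y hy
  have hy' : y ∈ (P : Subgroup G).focalSubgroup := by rw [← hfoc]; exact hy
  rw [Subgroup.focalSubgroup_def] at hy'
  refine (Subgroup.closure_le _).2 ?_ hy'
  rintro g ⟨hgP, x, hxP, u, rfl⟩
  -- `u x u⁻¹ ∈ P`
  have hux : u * x * u⁻¹ ∈ (P : Subgroup G) := by
    have h2 : x⁻¹ * ⁅x, u⁆ ∈ (P : Subgroup G) :=
      Subgroup.mul_mem _ (Subgroup.inv_mem _ hxP) hgP
    have e : x⁻¹ * ⁅x, u⁆ = (u * x * u⁻¹)⁻¹ := by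
      rw [commutatorElement_def]; group
    rw [e] at h2
    exact (Subgroup.inv_mem_iff _).1 h2
  have hle : (Subgroup.zpowers x).map (MulAut.conj u).toMonoidHom ≤ (P : Subgroup G) := by
    rintro _ ⟨_, ⟨m, rfl⟩, rfl⟩
    have e : (MulAut.conj u).toMonoidHom (x ^ m) = (u * x * u⁻¹) ^ m := by
      rw [map_zpow]; rfl
    rw [e]
    exact Subgroup.zpow_mem _ hux m
  obtain ⟨n, hn, c, hc, rfl⟩ := hsf _ ((Subgroup.zpowers_le).2 hxP) u hle
  have hcx : x * c = c * x := Subgroup.mem_centralizer_iff.1 hc x (Subgroup.mem_zpowers x)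
  have e : ⁅x, n * c⁆ = ⁅x, n⁆ := by
    rw [commutatorElement_def, commutatorElement_def]
    have e1 : x * (n * c) * x⁻¹ * (n * c)⁻¹ = x * n * (c * x⁻¹ * c⁻¹) * n⁻¹ := by group
    have e2 : c * x⁻¹ * c⁻¹ = x⁻¹ := by
      have : c * x⁻¹ = x⁻¹ * c := by
        have h3 : x⁻¹ * (x * c) * x⁻¹ = x⁻¹ * (c * x) * x⁻¹ := by rw [hcx]
        have h4 : x⁻¹ * (x * c) * x⁻¹ = c * x⁻¹ := by group
        have h5 : x⁻¹ * (c * x) * x⁻¹ = x⁻¹ * c := by group
        rw [← h4, h3, h5]
      rw [this]; group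
    rw [e1, e2]
  rw [SetLike.mem_coe, e]
  exact Subgroup.commutator_mem_commutator (Subgroup.le_normalizer hxP) hn

/-- (S1411) -/
theorem sylow_eq_commutator [Finite G] (hG : Cfsg.IsMinSimpleOddOrder G) {p : ℕ}
    [hp : Fact p.Prime] (h1 : PLenOne p G) (P : Sylow p G) (V : Subgroup G)
    (hV : Cfsg.IsComplIn (P : Subgroup G) V (Subgroup.normalizer ((P : Subgroup G) : Set G))) :
    (P : Subgroup G) = ⁅(P : Subgroup G), V⁆ ∧
      (P : Subgroup G) ≤ ⁅Subgroup.normalizer ((P : Subgroup G) : Set G),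
        Subgroup.normalizer ((P : Subgroup G) : Set G)⁆ := by
  refine ⟨?_, sylow_le_commutator_normalizer hG h1 P⟩
  by_cases hPbot : (P : Subgroup G) = ⊥
  · rw [hPbot, Subgroup.commutator_bot_left]
  have hNtop : Subgroup.normalizer ((P : Subgroup G) : Set G) ≠ ⊤ :=
    normalizer_ne_top hG hPbot (sylow_ne_top hG P.isPGroup')
  haveI : Group.IsSolvable ↥(Subgroup.normalizer ((P : Subgroup G) : Set G)) :=
    hG.2.2.2 _ hNtop
  obtain ⟨hPN, hVN, hPV, hprod⟩ := hV
  have hcop : (Nat.card ↥((P : Subgroup G).subgroupOf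
      (Subgroup.normalizer ((P : Subgroup G) : Set G)))).Coprime
      ((P : Subgroup G).subgroupOf (Subgroup.normalizer ((P : Subgroup G) : Set G))).index := by
    rw [Nat.card_congr (Subgroup.subgroupOfEquivOfLe hPN).toEquiv]
    obtain ⟨k, hk⟩ := P.isPGroup'.exists_card_eq
    rw [hk]
    apply Nat.Coprime.pow_left
    rw [Nat.Prime.coprime_iff_not_dvd hp.out]
    intro hdvd
    apply P.not_dvd_index
    have h2 := Subgroup.relIndex_mul_index hPN
    rw [← h2]
    exact Dvd.dvd.mul_right hdvd _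
  have hcompl : Subgroup.IsComplement'
      ((P : Subgroup G).subgroupOf (Subgroup.normalizer ((P : Subgroup G) : Set G)))
      (V.subgroupOf (Subgroup.normalizer ((P : Subgroup G) : Set G))) := by
    apply Subgroup.isComplement'_of_disjoint_and_mul_eq_univ
    · rw [disjoint_iff, eq_bot_iff]
      rintro y ⟨hy1, hy2⟩
      have : (y : G) ∈ (P : Subgroup G) ⊓ V :=
        ⟨Subgroup.mem_subgroupOf.1 hy1, Subgroup.mem_subgroupOf.1 hy2⟩
      rw [hPV, Subgroup.mem_bot] at this
      exact Subgroup.mem_bot.2 (Subtype.ext this)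
    · rw [Set.eq_univ_iff_forall]
      intro m
      obtain ⟨a, ha, b, hb, hab⟩ := hprod m m.2
      exact ⟨⟨a, hPN ha⟩, Subgroup.mem_subgroupOf.2 ha, ⟨b, hVN hb⟩, Subgroup.mem_subgroupOf.2 hb,
        Subtype.ext hab.symm⟩
  have hle : (P : Subgroup G).subgroupOf (Subgroup.normalizer ((P : Subgroup G) : Set G)) ≤
      commutator ↥(Subgroup.normalizer ((P : Subgroup G) : Set G)) := by
    intro y hy
    have h2 := sylow_le_commutator_normalizer hG h1 P (Subgroup.mem_subgroupOf.1 hy)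
    rw [← Subgroup.map_subtype_commutator] at h2
    obtain ⟨z, hz, hzy⟩ := h2
    have : z = y := Subtype.ext hzy
    rw [← this]; exact hz
  have h3 := ((Cfsg.Agent.S1459.result
    (G := ↥(Subgroup.normalizer ((P : Subgroup G) : Set G)))).1 _ _
    Subgroup.normal_in_normalizer hcop hcompl hle).1
  have h4 := congrArg (Subgroup.map (Subgroup.normalizer ((P : Subgroup G) : Set G)).subtype) h3
  rw [Subgroup.map_commutator, Subgroup.map_subgroupOf_eq_of_le hPN,
    Subgroup.map_subgroupOf_eq_of_le hVN] at h4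
  exact h4

/-- in a nonabelian group of order `p^3` the derived subgroup is the centre -/
theorem commutator_eq_center_of_card_cube {T : Type*} [Group T] {p : ℕ} [hp : Fact p.Prime]
    (hT : Nat.card T = p ^ 3) (hnc : ¬ IsMulCommutative T) :
    commutator T = Subgroup.center T := by
  haveI : Finite T := Nat.finite_of_card_ne_zero (by rw [hT]; exact pow_ne_zero _ hp.out.ne_zero)
  have hpT : IsPGroup p T := IsPGroup.of_card hT
  haveI : Nontrivial T := by
    rw [← Finite.one_lt_card_iff_nontrivial, hT]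
    exact Nat.one_lt_pow (by norm_num) hp.out.one_lt
  have hZdvd : Nat.card ↥(Subgroup.center T) ∣ p ^ 3 := by
    rw [← hT]; exact Subgroup.card_subgroup_dvd_card _
  obtain ⟨k, hk3, hk⟩ := (Nat.dvd_prime_pow hp.out).1 hZdvd
  have hidx : Nat.card (T ⧸ Subgroup.center T) * p ^ k = p ^ 3 := by
    rw [← hk, ← hT]
    exact (Subgroup.card_eq_card_quotient_mul_card_subgroup (Subgroup.center T)).symm
  have hk0 : k ≠ 0 := by
    rintro rfl
    rw [pow_zero, Subgroup.card_eq_one] at hk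
    have := hpT.bot_lt_center
    rw [hk] at this
    exact lt_irrefl _ this
  have hk3' : k ≠ 3 := by
    rintro rfl
    apply hnc
    have htop : Subgroup.center T = ⊤ := Subgroup.eq_top_of_card_eq _ (by rw [hk, hT])
    rw [← commutator_eq_bot_iff T, commutator_eq_bot_iff_center_eq_top]
    exact htop
  have hk2 : k ≠ 2 := by
    rintro rfl
    apply hnc
    have hq : Nat.card (T ⧸ Subgroup.center T) = p := by
      have : Nat.card (T ⧸ Subgroup.center T) * p ^ 2 = p * p ^ 2 := by rw [hidx]; ring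
      exact Nat.eq_of_mul_eq_mul_right (pow_pos hp.out.pos 2) this
    haveI : IsCyclic (T ⧸ Subgroup.center T) := isCyclic_of_prime_card hq
    exact isMulCommutative_of_isCyclic_quotient_center_self T
  have hk1 : k = 1 := by omega
  subst hk1
  have hq : Nat.card (T ⧸ Subgroup.center T) = p ^ 2 := by
    have : Nat.card (T ⧸ Subgroup.center T) * p ^ 1 = p ^ 2 * p ^ 1 := by rw [hidx]; ring
    exact Nat.eq_of_mul_eq_mul_right (pow_pos hp.out.pos 1) this
  have hle : commutator T ≤ Subgroup.center T :=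
    Subgroup.Normal.quotient_commutative_iff_commutator_le.1
      (IsPGroup.isMulCommutative_of_card_eq_prime_sq hq)
  have hne : commutator T ≠ ⊥ := fun h => hnc ((commutator_eq_bot_iff T).1 h)
  have hdvd : Nat.card ↥(commutator T) ∣ p := by
    rw [← pow_one p, ← hk]; exact Subgroup.card_dvd_of_le hle
  rcases (Nat.dvd_prime hp.out).1 hdvd with h | h
  · exact absurd (Subgroup.card_eq_one.1 h) hne
  · exact Subgroup.eq_of_le_of_card_ge hle (by rw [h, hk, pow_one])

theorem commutator_eq_inf_centralizer_of_card_cube {p : ℕ} [hp : Fact p.Prime]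
    (R : Subgroup G) (hR : Nat.card ↥R = p ^ 3) (hnc : ¬ IsMulCommutative ↥R) :
    ⁅R, R⁆ = R ⊓ Subgroup.centralizer (R : Set G) := by
  rw [← Subgroup.map_subtype_commutator, commutator_eq_center_of_card_cube hR hnc]
  ext x
  constructor
  · rintro ⟨z, hz, rfl⟩
    refine ⟨z.2, Subgroup.mem_centralizer_iff.2 ?_⟩
    intro y hy
    have := Subgroup.mem_center_iff.1 hz ⟨y, hy⟩
    exact congrArg Subtype.val this
  · rintro ⟨hxR, hxC⟩
    refine ⟨⟨x, hxR⟩, ?_, rfl⟩
    rw [SetLike.mem_coe, Subgroup.mem_center_iff]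
    intro y
    apply Subtype.ext
    exact Subgroup.mem_centralizer_iff.1 hxC y y.2

/-- (S1412) -/
theorem sylow_rank_two_structure [Finite G] (hG : Cfsg.IsMinSimpleOddOrder G) {p : ℕ}
    [hp : Fact p.Prime] (h1 : PLenOne p G) (P : Sylow p G)
    (hr : Cfsg.PRankLE p 2 ↥(P : Subgroup G)) :
    IsMulCommutative ↥(P : Subgroup G) ∨ ∃ P₁ P₂ : Subgroup G, P₁ ⊔ P₂ = (P : Subgroup G) ∧
      (∀ a ∈ P₁, ∀ b ∈ P₂, a * b = b * a) ∧ ¬ IsMulCommutative ↥P₁ ∧ Nat.card ↥P₁ = p ^ 3 ∧
      Monoid.exponent ↥P₁ = p ∧ IsCyclic ↥P₂ ∧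
      Subgroup.closure {x : G | x ∈ P₂ ∧ x ^ p = 1} = P₁ ⊓ Subgroup.centralizer (P₁ : Set G) := by
  by_cases hPbot : (P : Subgroup G) = ⊥
  · left
    refine ⟨⟨fun a b => ?_⟩⟩
    have ha : (a : G) = 1 := by
      have h : (a : G) ∈ (⊥ : Subgroup G) := by rw [← hPbot]; exact a.2
      exact Subgroup.mem_bot.1 h
    have hb : (b : G) = 1 := by
      have h : (b : G) ∈ (⊥ : Subgroup G) := by rw [← hPbot]; exact b.2
      exact Subgroup.mem_bot.1 h
    apply Subtype.ext
    show (a : G) * (b : G) = (b : G) * (a : G)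
    rw [ha, hb]
  have hPcard : 1 < Nat.card ↥(P : Subgroup G) := by
    by_contra hle
    push Not at hle
    have : Nat.card ↥(P : Subgroup G) = 1 := by
      have := Nat.card_pos (α := ↥(P : Subgroup G)); omega
    exact hPbot (Subgroup.card_eq_one.1 this)
  have hp2 : p ≠ 2 := prime_ne_two hG P.isPGroup' hPcard
  have hPN := Subgroup.le_normalizer (H := (P : Subgroup G))
  -- a complement `V` of `P` in `N_G(P)`
  have hcop : (Nat.card ↥((P : Subgroup G).subgroupOf
      (Subgroup.normalizer ((P : Subgroup G) : Set G)))).Coprime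
      ((P : Subgroup G).subgroupOf (Subgroup.normalizer ((P : Subgroup G) : Set G))).index := by
    rw [Nat.card_congr (Subgroup.subgroupOfEquivOfLe hPN).toEquiv]
    obtain ⟨k, hk⟩ := P.isPGroup'.exists_card_eq
    rw [hk]
    apply Nat.Coprime.pow_left
    rw [Nat.Prime.coprime_iff_not_dvd hp.out]
    intro hdvd
    apply P.not_dvd_index
    have h2 := Subgroup.relIndex_mul_index hPN
    rw [← h2]
    exact Dvd.dvd.mul_right hdvd _
  obtain ⟨K, hK⟩ := Subgroup.exists_right_complement'_of_coprime hcop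
  set V : Subgroup G := K.map (Subgroup.normalizer ((P : Subgroup G) : Set G)).subtype with hVdef
  have hVN : V ≤ Subgroup.normalizer ((P : Subgroup G) : Set G) := Subgroup.map_subtype_le _
  have hVcompl : Cfsg.IsComplIn (P : Subgroup G) V
      (Subgroup.normalizer ((P : Subgroup G) : Set G)) := by
    refine ⟨hPN, hVN, ?_, ?_⟩
    · rw [eq_bot_iff]
      rintro x ⟨hxP, ⟨k, hk, rfl⟩⟩
      have : k ∈ (P : Subgroup G).subgroupOf (Subgroup.normalizer ((P : Subgroup G) : Set G)) ⊓ K :=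
        ⟨Subgroup.mem_subgroupOf.2 hxP, hk⟩
      rw [hK.disjoint.eq_bot, Subgroup.mem_bot] at this
      rw [this]; exact Subgroup.one_mem _
    · intro m hm
      obtain ⟨⟨a, b⟩, hab⟩ := hK.2 ⟨m, hm⟩
      refine ⟨(a : ↥(Subgroup.normalizer ((P : Subgroup G) : Set G))),
        Subgroup.mem_subgroupOf.1 a.2, (b : ↥(Subgroup.normalizer ((P : Subgroup G) : Set G))),
        ⟨b, b.2, rfl⟩, ?_⟩
      have := congrArg Subtype.val hab
      exact this.symm
  have hPV := (sylow_eq_commutator hG h1 P V hVcompl).1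
  have hVcard : Nat.card ↥V =
      ((P : Subgroup G).subgroupOf (Subgroup.normalizer ((P : Subgroup G) : Set G))).index := by
    rw [hVdef, Subgroup.card_map_of_injective (Subgroup.subtype_injective _)]
    have h2 := hK.card_mul_card
    have h3 := ((P : Subgroup G).subgroupOf
      (Subgroup.normalizer ((P : Subgroup G) : Set G))).card_mul_index
    rw [← h3] at h2
    exact Nat.eq_of_mul_eq_mul_left Nat.card_pos h2
  have hVcop : (Nat.card ↥V).Coprime p := by
    rw [hVcard]
    obtain ⟨k, hk⟩ := P.isPGroup'.exists_card_eq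
    rw [Nat.card_congr (Subgroup.subgroupOfEquivOfLe hPN).toEquiv, hk] at hcop
    have hk0 : k ≠ 0 := by
      rintro rfl
      rw [hk, pow_zero] at hPcard
      exact lt_irrefl _ hPcard
    exact (Nat.Coprime.symm ((Nat.coprime_pow_left_iff (Nat.pos_of_ne_zero hk0) _ _).1 hcop))
  have hVodd : Odd (Nat.card ↥V) := by
    have h2 : Nat.card ↥V ∣ Nat.card G := Subgroup.card_subgroup_dvd_card V
    exact hG.1.of_dvd_nat h2
  obtain ⟨-, h5⟩ := Cfsg.Agent.S1448.result p hp2 (P : Subgroup G) V P.isPGroup' hPbot hr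
    (hVN) hVcop hVodd hPV.symm
  rcases h5 with h5 | ⟨R₁, R₂, h51, h52, h53, h54, h55, h56, h57⟩
  · exact Or.inl h5
  · right
    refine ⟨R₁, R₂, h51, h52, h53, h54, h55, h56, ?_⟩
    rw [h57]
    exact commutator_eq_inf_centralizer_of_card_cube R₁ h54 h53

end Cfsg.Agent.Lib.Helper4.BGSyl
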