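import Mathlib
import Cfsg.Agent.Lib.Helper4.BG11F
import Cfsg.Agent.Lib.Helper4.BGUniqA

/-!
Bender–Glauberman Corollary 12.6 (= the statement of S1418) from Proposition 12.4 (`Hyp1416`)
and Theorem 12.5 (`Hyp1417`).
-/

set_option autoImplicit false

open scoped commutatorElement Pointwise

namespace Cfsg.Agent.Lib.Helper4.BG11E

open Cfsg Cfsg.Agent.Lib.Helper8.BGTen Cfsg.Agent.H2.BG11

universe u

variable {G : Type u} [Group G] [Finite G]

/-- the statement of S1418 for the group `G` -/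
def Hyp1418 (G : Type u) [Group G] : Prop :=
  ∀ (M : Subgroup G), IsCoatom M → ∀ (E : Subgroup G), Cfsg.IsComplIn E (Cfsg.sigmaCore M) M →
    ∀ (p : ℕ) [Fact p.Prime], p ∈ Cfsg.tau2 M → ∀ (A : Subgroup G),
    (A ≤ E ∧ Cfsg.IsElementaryAbelian p A ∧ Nat.card A = p ^ 2) →
    (E ≤ Subgroup.normalizer (A : Set G) ∧ ∀ X : Subgroup G, X ≤ E → Nat.card X = p → X ≤ A) ∧
      (Subgroup.centralizer (A : Set G) ≤ M ⊓ Subgroup.normalizer (A : Set G) ∧
        M ⊓ Subgroup.normalizer (A : Set G) = E ∧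
        ¬ Subgroup.normalizer (A : Set G) ≤ M) ∧
      ∀ X : Subgroup G, X ≤ A → Nat.card X = p →
        Cfsg.sigmaCore M ⊓ Subgroup.centralizer (X : Set G) ≠ ⊥ →
        (Subgroup.centralizer (X : Set G) ≤ M ∧
          ∀ L : Subgroup G, IsCoatom L → Subgroup.centralizer (X : Set G) ≤ L → L = M)

/-- `N_G(P) ≤ N_G(A)` when `A` is the set of elements of order dividing `p` of `P` -/
theorem normalizer_le_of_omega {P A : Subgroup G} {p : ℕ} (hAP : A ≤ P)
    (hΩ : ∀ x ∈ P, x ^ p = 1 ↔ x ∈ A) :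
    Subgroup.normalizer (P : Set G) ≤ Subgroup.normalizer (A : Set G) := by
  intro n hnP
  apply mem_normalizer_of_cj_eq
  apply Subgroup.eq_of_le_of_card_ge _ (by rw [card_cj])
  intro x hx
  rw [mem_cj] at hx
  have hxP : x ∈ P := by
    have h1 : n * (n⁻¹ * x * n) * n⁻¹ ∈ P :=
      (Subgroup.mem_normalizer_iff.mp hnP _).mp (hAP hx)
    have e : n * (n⁻¹ * x * n) * n⁻¹ = x := by group
    rwa [e] at h1
  refine (hΩ x hxP).mp ?_
  have h2 : (n⁻¹ * x * n) ^ p = 1 := (hΩ _ (hAP hx)).mpr hx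
  have e : x ^ p = n * (n⁻¹ * x * n) ^ p * n⁻¹ := by
    rw [← Cfsg.Agent.Lib.Helper4.BGZ.pow_conj' n (n⁻¹ * x * n) p]
    congr 1
    group
  rw [e, h2]
  group

/-- **Corollary 12.6** (the statement of S1418), from S1416 and S1417 -/
theorem s1418_of (hG : Cfsg.IsMinSimpleOddOrder G) (h16 : Hyp1416 G) (h17 : Hyp1417 G) :
    Hyp1418 G := by
  intro M hM E hE p _ hp A hA
  obtain ⟨hEM, hσM, hEσ, hprod⟩ := hE
  have hAE : A ≤ E := hA.1
  have hAM : A ≤ M := hAE.trans hEM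
  have hA' : A ≤ M ∧ Cfsg.IsElementaryAbelian p A ∧ Nat.card A = p ^ 2 := ⟨hAM, hA.2.1, hA.2.2⟩
  obtain ⟨-, hb, hc, hd, he, -⟩ := h17 M hM p hp A hA'
  have hCA : Subgroup.centralizer (A : Set G) ≤ M := (h16 M hM p A hA').1
  have hApg : IsPGroup p ↥A := Cfsg.Agent.Lib.Helper4.BGTrans.isPGroup_of_elementary hA.2.1
  have hAnσ : A ≤ Subgroup.normalizer ((Cfsg.sigmaCore M : Subgroup G) : Set G) :=
    hAM.trans (le_normalizer_sigmaCore M)
  -- (M_σ A) ∩ E ≤ A
  have key : ∀ x, x ∈ Cfsg.sigmaCore M ⊔ A → x ∈ E → x ∈ A := by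
    intro x hx hxE
    have hcoe := Subgroup.coe_mul_of_right_le_normalizer_left (Cfsg.sigmaCore M) A hAnσ
    have hx' : x ∈ ((Cfsg.sigmaCore M ⊔ A : Subgroup G) : Set G) := hx
    rw [hcoe] at hx'
    obtain ⟨s, hs, a, ha, rfl⟩ := Set.mem_mul.mp hx'
    have hsE : s ∈ E := by
      have : s = s * a * a⁻¹ := by group
      rw [this]
      exact E.mul_mem hxE (E.inv_mem (hAE ha))
    have hs1 : s ∈ E ⊓ Cfsg.sigmaCore M := ⟨hsE, hs⟩
    rw [hEσ, Subgroup.mem_bot] at hs1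
    rw [hs1, one_mul]
    exact ha
  -- E normalizes A
  have hconj : ∀ e ∈ E, ∀ a ∈ A, e * a * e⁻¹ ∈ A := by
    intro e he a ha
    apply key
    · exact (Subgroup.mem_normalizer_iff.mp (hc (hEM he)) a).mp (Subgroup.mem_sup_right ha)
    · exact E.mul_mem (E.mul_mem he (hAE ha)) (E.inv_mem he)
  have hEN : E ≤ Subgroup.normalizer (A : Set G) := by
    intro e he
    rw [Subgroup.mem_normalizer_iff]
    intro a
    refine ⟨hconj e he a, fun h => ?_⟩
    have := hconj e⁻¹ (E.inv_mem he) _ h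
    have e' : e⁻¹ * (e * a * e⁻¹) * e⁻¹⁻¹ = a := by group
    rwa [e'] at this
  -- a Sylow p-subgroup containing a given p-subgroup of M containing A
  have hsyl : ∀ Y : Subgroup G, Y ≤ M → IsPGroup p ↥Y → A ≤ Y →
      ∃ P : Subgroup G, Y ≤ P ∧ (∀ x ∈ P, x ^ p = 1 ↔ x ∈ A) ∧
        ¬ Subgroup.normalizer (P : Set G) ≤ M := by
    intro Y hYM hY hAY
    have hY' : IsPGroup p ↥(Y.subgroupOf M) := hY.comap_subtype
    obtain ⟨Q, hQ⟩ := hY'.exists_le_sylow
    have hYQ : Y ≤ (Q : Subgroup ↥M).map M.subtype := by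
      intro y hy
      exact ⟨⟨y, hYM hy⟩, hQ (Subgroup.mem_subgroupOf.mpr hy), rfl⟩
    obtain ⟨h1, h2⟩ := (hb Q).2 (hAY.trans hYQ)
    exact ⟨_, hYQ, h1, h2⟩
  refine ⟨⟨hEN, ?_⟩, ⟨le_inf hCA (Subgroup.centralizer_le_normalizer _), ?_, ?_⟩, ?_⟩
  · -- subgroups of order p of E lie in A
    intro X hXE hXc
    have hXpg : IsPGroup p ↥X := IsPGroup.of_card (n := 1) (by rw [hXc, pow_one])
    have hY : IsPGroup p ↥(A ⊔ X) := IsPGroup.to_sup_of_normal_left' hApg hXpg (hXE.trans hEN)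
    obtain ⟨P, hYP, hΩ, -⟩ := hsyl (A ⊔ X) (sup_le hAM (hXE.trans hEM)) hY le_sup_left
    intro x hx
    refine (hΩ x (hYP (Subgroup.mem_sup_right hx))).mp ?_
    have h1 : (⟨x, hx⟩ : ↥X) ^ Nat.card ↥X = 1 := pow_card_eq_one'
    rw [hXc] at h1
    exact congrArg Subtype.val h1
  · -- M ∩ N(A) = E
    apply le_antisymm
    · rintro m ⟨hmM, hmN⟩
      obtain ⟨e, he, s, hs, rfl⟩ := hprod m hmM
      have hsN : s ∈ Subgroup.normalizer (A : Set G) := by
        have : s = e⁻¹ * (e * s) := by group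
        rw [this]
        exact Subgroup.mul_mem _ (Subgroup.inv_mem _ (hEN he)) hmN
      have hsC : s ∈ Subgroup.centralizer (A : Set G) := by
        rw [Subgroup.mem_centralizer_iff]
        intro a ha
        have h1 : s * a * s⁻¹ ∈ A := (Subgroup.mem_normalizer_iff.mp hsN a).mp ha
        have h2 : a * s⁻¹ * a⁻¹ ∈ Cfsg.sigmaCore M :=
          (Subgroup.mem_normalizer_iff.mp (hAnσ ha) _).mp (Subgroup.inv_mem _ hs)
        have h3 : s * a * s⁻¹ * a⁻¹ ∈ E ⊓ Cfsg.sigmaCore M := by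
          refine ⟨hAE (A.mul_mem h1 (A.inv_mem ha)), ?_⟩
          have e' : s * a * s⁻¹ * a⁻¹ = s * (a * s⁻¹ * a⁻¹) := by group
          rw [e']
          exact Subgroup.mul_mem _ hs h2
        rw [hEσ, Subgroup.mem_bot] at h3
        have e'' : a * s = (s * a * s⁻¹ * a⁻¹)⁻¹ * (s * a) := by group
        rw [e'', h3, inv_one, one_mul]
      have hs1 : s ∈ Cfsg.sigmaCore M ⊓ Subgroup.centralizer (A : Set G) := ⟨hs, hsC⟩
      rw [hd, Subgroup.mem_bot] at hs1
      rw [hs1, mul_one]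
      exact he
    · exact le_inf hEM hEN
  · -- N(A) ⊄ M
    intro hNM
    obtain ⟨P, hAP, hΩ, hN⟩ := hsyl A hAM hApg le_rfl
    exact hN ((normalizer_le_of_omega hAP hΩ).trans hNM)
  · -- uniqueness over C_G(X)
    intro X hXA hXc hne
    have hAC : A ≤ Subgroup.centralizer (X : Set G) := by
      intro a ha
      rw [Subgroup.mem_centralizer_iff]
      intro x hx
      haveI : IsMulCommutative ↥A := hA.2.1.1
      have := mul_comm' (⟨x, hXA hx⟩ : ↥A) ⟨a, ha⟩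
      exact congrArg Subtype.val this
    have huniq : ∀ L : Subgroup G, IsCoatom L → Subgroup.centralizer (X : Set G) ≤ L → L = M := by
      intro L hL hCL
      by_contra hLM
      have h1 := he L hL hLM (hAC.trans hCL)
      apply hne
      apply le_bot_iff.mp
      rw [← h1]
      exact inf_le_inf_left _ hCL
    have hXne : X ≠ ⊥ := by
      intro h0
      rw [h0, Subgroup.card_bot] at hXc
      exact (Fact.out : p.Prime).one_lt.ne hXc
    obtain ⟨L, hL, hCL⟩ := Cfsg.Agent.Lib.Helper4.BGUniq.exists_coatom_ge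
      (Cfsg.Agent.Lib.Helper4.BGUniq.centralizer_ne_top hG hXne)
    exact ⟨(huniq L hL hCL) ▸ hCL, huniq⟩

end Cfsg.Agent.Lib.Helper4.BG11E
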