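import Mathlib
import Cfsg.Agent.Lib.Helper4.BG11E
import Cfsg.Agent.Lib.Helper8.BGTenC
import Cfsg.Agent.Lib.Helper8.BGTenK
import Cfsg.Agent.Lib.Helper8.BGTw4B

/-!
Bender–Glauberman Section 11 (helper4): fact (β) for exceptional triples, unconditionally:
if `H ≠ M` is a maximal subgroup containing `A`, no prime divisor of `|H ∩ M_σ|` lies in `σ(H)`.

Proof: let `q ∈ σ(H)` divide `|H ∩ M_σ|`. Then `q ∈ σ(M)`, `Q = O_q(M_σ)` is a Sylow
`q`-subgroup of `G` with `N_G(Q) = M`; a Sylow `q`-subgroup `T` of `H` is Sylow in `G` with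
`N_G(T) ≤ H`. So `T = gQg⁻¹`, `gMg⁻¹ = N_G(T) ≤ H`, `H = gMg⁻¹ ⊇ A`; by (i), `g ∈ M`, i.e. `H = M`.
-/

set_option autoImplicit false

namespace Cfsg.Agent.Lib.Helper4.BG11E

open Cfsg Cfsg.Agent.Lib.Helper8.BGTen Cfsg.Agent.H2.BG11
open Cfsg.Agent.Lib.Helper7 (IsSylowIn exists_isSylowIn_ge)

universe u

variable {G : Type u} [Group G] [Finite G]

/-- **(β)** for exceptional triples -/
theorem hypBeta (hG : Cfsg.IsMinSimpleOddOrder G) : HypBeta G := by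
  intro M A A0 p _ h H hH hAH hne q hq hqD hqH
  haveI : Fact q.Prime := ⟨hq⟩
  have hqM : q ∈ Cfsg.sigma M := mem_sigma_of_dvd_sigmaCore hG h.coatom hq
    (hqD.trans (Subgroup.card_dvd_of_le inf_le_right))
  have hQtop := h.sylIn_top_Oq hG hqM
  have hQN := h.normalizer_Oq hG hqM
  obtain ⟨T, hT, -⟩ := exists_isSylowIn_ge (p := q) (Q := ⊥) (H := H) IsPGroup.of_bot bot_le
  have hTtop := sigma_sylow_top hqH hT
  have hTN := sigma_normalizer_le hqH hT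
  obtain ⟨g, -, hg⟩ := hQtop.conj hTtop
  have hg' : T = cj g (Cfsg.Agent.H2.BGU.Oq q (Cfsg.sigmaCore M)) := hg
  have h1 : cj g M ≤ H := by
    rw [← hQN, cj_normalizer, ← hg']
    exact hTN
  have h2 : cj g M = H := ((isCoatom_cj h.coatom g).le_iff_eq hH.1 |>.mp h1).symm
  by_cases hgM : g ∈ M
  · apply hne
    rw [← h2]
    exact cj_eq_of_mem hgM
  · have h3 := h.sigmaCore_inf_cj hG hgM (h2 ▸ hAH)
    rw [h2, inf_comm] at h3
    rw [h3, Subgroup.card_bot] at hqD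
    exact hq.one_lt.ne' (Nat.dvd_one.mp hqD)

/-- **(β)** in helper8's unbundled shape -/
theorem hypBeta8 (hG : Cfsg.IsMinSimpleOddOrder G) : Cfsg.Agent.Lib.Helper8.BGTen.HypBeta G := by
  intro M A A0 p _ hM hp hAM hel hc hA0 hc0 hN
  exact hypBeta hG M A A0 p ⟨hM, hp, hAM, hel, hc, hA0, hc0, hN⟩

end Cfsg.Agent.Lib.Helper4.BG11E
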