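import Mathlib
import Cfsg.Agent.Lib.Helper4.BG11F
import Cfsg.Agent.Lib.Helper4.BG11H
import Cfsg.Agent.Lib.Helper5.BG11b

/-!
Bender–Glauberman Section 11 (helper4): (b) in the shape `HypB` (from helper5's `sylow_abelian'`),
so that S1417 only depends on (c) and S1416.
-/

set_option autoImplicit false

namespace Cfsg.Agent.Lib.Helper4.BG11E

open Cfsg Cfsg.Agent.H2.BG11

universe u

variable {G : Type u} [Group G] [Finite G]

/-- **(b)** for exceptional triples (helper5) -/
theorem hypB (hG : Cfsg.IsMinSimpleOddOrder G) : HypB G := by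
  intro M A A0 p _ h P hAP
  exact Cfsg.Agent.Lib.Helper5.BG11b.sylow_abelian' hG h P hAP

/-- S1417 from (c) and S1416 -/
theorem s1417_of' (hG : Cfsg.IsMinSimpleOddOrder G) (hC : HypC G) (h16 : Hyp1416 G) :
    Hyp1417 G :=
  s1417_of hG (hypB hG) hC (hypBeta hG) h16

end Cfsg.Agent.Lib.Helper4.BG11E
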