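import Mathlib
import Cfsg.Agent.Lib.Helper4.BG11F
import Cfsg.Agent.Lib.Helper4.BGTwB
import Cfsg.Agent.H2.BGU.T81b1
import Cfsg.Agent.Lib.Helper8.BGTenE
import Cfsg.Agent.S1403

/-!
Bender–Glauberman (helper4): the statement of S1358 (Sylow subgroups of `U` in the standard
factorisation `M = K U M_σ` are abelian of rank at most 2) from Theorem 12.5 (`Hyp1417`).
-/

set_option autoImplicit false

open scoped commutatorElement Pointwise

namespace Cfsg.Agent.Lib.Helper4.BG12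

open Cfsg Cfsg.Agent.Lib.Helper8.BGTen Cfsg.Agent.H2.BG11 Cfsg.Agent.Lib.Helper4.BG11E

universe u

variable {G : Type u} [Group G] [Finite G]

/-- an elementary abelian subgroup of order `p ^ 2` when the `p`-rank is at least 2 -/
theorem exists_elementary_sq {M : Subgroup G} {p : ℕ} [hp : Fact p.Prime]
    (h : ¬ Cfsg.PRankLE p 1 ↥M) :
    ∃ A : Subgroup G, A ≤ M ∧ Cfsg.IsElementaryAbelian p A ∧ Nat.card A = p ^ 2 := by
  obtain ⟨E, hEM, hEe, hEc⟩ := Cfsg.Agent.H2.BGU.exists_elementary_of_not_pRankLE h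
  have hEp : IsPGroup p ↥E := Cfsg.Agent.Lib.Helper4.BGTrans.isPGroup_of_elementary hEe
  obtain ⟨m, hm⟩ := hEp.exists_card_eq
  have h2m : 2 ≤ m := by
    rw [hm] at hEc
    exact (Nat.pow_le_pow_iff_right hp.out.one_lt).mp hEc
  have hdvd : p ^ 2 ∣ Nat.card ↥E := by
    rw [hm]
    exact pow_dvd_pow p h2m
  obtain ⟨K, hK⟩ := Sylow.exists_subgroup_card_pow_prime p hdvd
  refine ⟨K.map E.subtype, (Subgroup.map_subtype_le K).trans hEM, ⟨?_, ?_⟩, ?_⟩
  · haveI : IsMulCommutative ↥E := hEe.1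
    haveI : IsMulCommutative ↥K := ⟨⟨fun a b => Subtype.ext (mul_comm' (a : ↥E) b)⟩⟩
    exact Subgroup.map_isMulCommutative K E.subtype
  · rintro _ ⟨x, -, rfl⟩
    exact hEe.2 _ x.2
  · rw [Subgroup.card_map_of_injective E.subtype_injective, hK]

/-- the statement of S1358 for `G` -/
def Hyp1358 (G : Type u) [Group G] : Prop :=
  ∀ (M : Subgroup G), IsCoatom M → ∀ (K U : Subgroup G), Cfsg.IsSigmaDecomposition M K U →
    ∀ (p : ℕ), p.Prime → ∀ P : Sylow p U,
      IsMulCommutative (P : Subgroup U) ∧ Cfsg.PRankLE p 2 (P : Subgroup U)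

/-- **S1358** from Theorem 12.5 -/
theorem s1358_of (hG : Cfsg.IsMinSimpleOddOrder G) (h17 : Hyp1417 G) : Hyp1358 G := by
  intro M hM K U hKU p hp P
  haveI : Fact p.Prime := ⟨hp⟩
  obtain ⟨hUM, hKσM, hUK, -⟩ := hKU.compl
  have hU : UniqThm G := uniq hG
  set P' : Subgroup G := (P : Subgroup U).map U.subtype with hP'
  have hP'U : P' ≤ U := Subgroup.map_subtype_le _
  have hP'M : P' ≤ M := hP'U.trans hUM
  have hP'p : IsPGroup p ↥P' := P.2.map _
  by_cases hpσ : p ∈ Cfsg.sigma M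
  · -- then P = 1
    have h1 : P' ≤ Cfsg.sigmaCore M := le_sigmaCore_of_pgroup hG hM hpσ hP'M hP'p
    have h2 : P' ≤ U ⊓ (K ⊔ Cfsg.sigmaCore M) := le_inf hP'U (h1.trans le_sup_right)
    rw [hUK, le_bot_iff] at h2
    have h3 : (P : Subgroup U) = ⊥ := by
      rw [hP'] at h2
      exact (Subgroup.map_eq_bot_iff_of_injective _ U.subtype_injective).mp h2
    rw [h3]
    refine ⟨inferInstance, ?_⟩
    intro A _ _
    have : Nat.card ↥A = 1 := by
      haveI : Subsingleton ↥(⊥ : Subgroup ↥U) := inferInstance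
      haveI : Subsingleton (Subgroup ↥(⊥ : Subgroup ↥U)) := inferInstance
      rw [Subsingleton.elim A ⊥, Subgroup.card_bot]
    rw [this]
    exact Nat.one_le_pow _ _ hp.pos
  · have hr2 : Cfsg.PRankLE p 2 ↥M := by
      by_contra hr
      exact hpσ (alpha_subset_sigma hG hU hM ⟨hp, hr⟩)
    have hincl : ∀ x : ↥(P : Subgroup U), ((x : ↥U) : G) ∈ M := fun x => hUM (x : ↥U).2
    let f : ↥(P : Subgroup U) →* ↥M :=
      (Subgroup.inclusion hUM).comp (P : Subgroup U).subtype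
    have hf : Function.Injective f := by
      intro a b hab
      have := congrArg (fun z : ↥M => (z : G)) hab
      exact Subtype.ext (Subtype.ext this)
    refine ⟨?_, Cfsg.Agent.Lib.Helper4.Rank2Fit.pRankLE_of_injective f hf hr2⟩
    by_cases hr1 : Cfsg.PRankLE p 1 ↥M
    · haveI : IsCyclic ↥(P : Subgroup U) :=
        Cfsg.Agent.Lib.Helper4.BGTw.isCyclic_sub_of_pRankLE_one hG hUM hr1 (P : Subgroup U) P.2
      exact IsCyclic.commutative
    · obtain ⟨A, hAM, hAe, hAc⟩ := exists_elementary_sq hr1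
      have hτ : p ∈ Cfsg.tau2 M := ⟨hp, hpσ, hr2, hr1⟩
      obtain ⟨-, hb, -⟩ := h17 M hM p hτ A ⟨hAM, hAe, hAc⟩
      -- P' lies in a Sylow p-subgroup of M
      have hP'' : IsPGroup p ↥(P'.subgroupOf M) := hP'p.comap_subtype
      obtain ⟨Q, hQ⟩ := hP''.exists_le_sylow
      haveI : IsMulCommutative ↥(Q : Subgroup ↥M) := (hb Q).1
      refine ⟨⟨fun a b => ?_⟩⟩
      have ha : f a ∈ (Q : Subgroup ↥M) :=
        hQ (Subgroup.mem_subgroupOf.mpr ⟨a, a.2, rfl⟩)
      have hb' : f b ∈ (Q : Subgroup ↥M) :=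
        hQ (Subgroup.mem_subgroupOf.mpr ⟨b, b.2, rfl⟩)
      have hc := mul_comm' (⟨f a, ha⟩ : ↥(Q : Subgroup ↥M)) ⟨f b, hb'⟩
      have hc' : f a * f b = f b * f a := congrArg Subtype.val hc
      rw [← map_mul, ← map_mul] at hc'
      exact hf hc'

end Cfsg.Agent.Lib.Helper4.BG12
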