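import Mathlib
import Cfsg.Agent.Lib.Helper4.BG11I
import Cfsg.Agent.Lib.Helper4.BG11G
import Cfsg.Agent.Lib.Helper4.BG12A
import Cfsg.Agent.Lib.Helper8.BGTw4D
import Cfsg.Agent.H1.BG11cB

/-!
Bender–Glauberman Section 11/12 (helper4): the statements of S1416, S1417, S1418, S1358
UNCONDITIONALLY (only `IsMinSimpleOddOrder G`), assembled from
(b) helper5, (c) helper1, (β) helper4, (★) helper3, Lemma 12.3/Prop 12.4 helper8,
(i)–(iii),(α) helper2.
-/

set_option autoImplicit false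

namespace Cfsg.Agent.Lib.Helper4.BG11E

open Cfsg

universe u

variable {G : Type u} [Group G] [Finite G]

/-- **(c)** for exceptional triples (helper1) -/
theorem hypC (hG : Cfsg.IsMinSimpleOddOrder G) : HypC G :=
  Cfsg.Agent.H1.BG11c.hypC_of_hypB hG (hypB hG)

/-- the statement of S1416 (B&G Proposition 12.4) -/
theorem hyp1416 (hG : Cfsg.IsMinSimpleOddOrder G) : Hyp1416 G :=
  Cfsg.Agent.Lib.Helper8.BGTen.hyp1416_of hG (hypC hG) (hypBeta hG)

/-- the statement of S1417 (B&G Theorem 12.5) -/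
theorem hyp1417 (hG : Cfsg.IsMinSimpleOddOrder G) : Hyp1417 G :=
  s1417_of' hG (hypC hG) (hyp1416 hG)

/-- the statement of S1418 (B&G Corollary 12.6) -/
theorem hyp1418 (hG : Cfsg.IsMinSimpleOddOrder G) : Hyp1418 G :=
  s1418_of hG (hyp1416 hG) (hyp1417 hG)

/-- the statement of S1358 -/
theorem hyp1358 (hG : Cfsg.IsMinSimpleOddOrder G) : Cfsg.Agent.Lib.Helper4.BG12.Hyp1358 G :=
  Cfsg.Agent.Lib.Helper4.BG12.s1358_of hG (hyp1417 hG)

end Cfsg.Agent.Lib.Helper4.BG11E
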