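import Mathlib
import Cfsg.Agent.Lib.helper3.BG12F
import Cfsg.Agent.Lib.Helper4.BG11J
import Cfsg.Agent.Lib.Helper4.BGTwB

/-!
Bender–Glauberman Lemma 12.18 / 13.3 (S1428), helper4: the cases of Part 10 of the lead blueprint
that are proved on paper.

Setting: `M` maximal, `E` a complement of `M_σ`, `p ∈ τ₁(M)`, `P ≤ E` of order `p`, `R ≤ C_E(P)` of
prime order `r`, `D = C_{M_σ}(P)`; claim `[D, R] = 1`.  `L` is a maximal subgroup containing
`N_G(P)`.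

* `eq_bot_of_commutator_eq` (KEY): `R ≤ L'`, `D₁ ≤ L ∩ M_σ`, `(|R|, |D₁|) = 1`, `[D₁, R] = D₁`,
  `L` not conjugate to `M` ⇒ `D₁ = 1`;
* `le_commutator_of_tau3`: subgroups of order `r ∈ τ₃(L)` of `L` lie in `L'`.
-/

set_option autoImplicit false
set_option linter.unusedSectionVars false
set_option linter.unusedVariables false
set_option linter.style.haveILetI false
set_option maxHeartbeats 1000000
open Cfsg
open scoped commutatorElement Pointwise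

namespace Cfsg.Agent.Lib.Helper4.BG1218

open Cfsg.Agent.Lib.Helper7 (IsSylowIn exists_isSylowIn_ge card_subgroupOf_of_le)
open Cfsg.Agent.Lib.Helper8.BGTen Cfsg.Agent.Lib.Helper4.BGTrans
open Cfsg.Agent.Lib.helper3.BG11 Cfsg.Agent.Lib.helper3.BG12
open Cfsg.Agent.H2.BG12 (St1416 St1417 St1418)

universe u

variable {G : Type u} [Group G] [Finite G]

/-- **KEY**: `L` not conjugate to `M`, `R ≤ L'`, `D₁ ≤ L ∩ M_σ` with `(|R|, |D₁|) = 1` and
`[D₁, R] = D₁`; then `D₁ = 1`. -/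
theorem eq_bot_of_commutator_eq (hG : Cfsg.IsMinSimpleOddOrder G) {M L : Subgroup G}
    (hM : IsCoatom M) (hL : IsCoatom L) (hnc : ∀ g : G, cj g L ≠ M) {R D₁ : Subgroup G}
    (hRL' : R ≤ ⁅L, L⁆) (hD₁L : D₁ ≤ L) (hD₁M : D₁ ≤ Cfsg.sigmaCore M)
    (hcop : (Nat.card ↥R).Coprime (Nat.card ↥D₁)) (hcomm : ⁅D₁, R⁆ = D₁) : D₁ = ⊥ := by
  by_contra hne
  have hcard : Nat.card ↥D₁ ≠ 1 := fun h => hne (Subgroup.card_eq_one.mp h)
  obtain ⟨q, hq, hqd⟩ := Nat.exists_prime_and_dvd hcard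
  haveI : Fact q.Prime := ⟨hq⟩
  have hqM : q ∈ Cfsg.sigma M :=
    mem_sigma_of_dvd_sigmaCore hG hM hq (hqd.trans (Subgroup.card_dvd_of_le hD₁M))
  have hqα : q ∉ Cfsg.alpha L := by
    intro h
    obtain ⟨g, hg⟩ := exists_cj_eq_of_alpha_sigma hG hM hL h hqM
    exact hnc g hg
  have hqβ : q ∉ Cfsg.beta L := fun h => hqα h.1
  have hqL : q ∣ Nat.card ↥L := hqd.trans (Subgroup.card_dvd_of_le hD₁L)
  obtain ⟨⟨P, N, hNn, hNP⟩, -, -⟩ := (Cfsg.Agent.S1414.result hG L hL).2.2.2.2 q hq hqL hqβ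
  have hK : ⁅L, L⁆ ≤ L := Subgroup.commutator_le_self L
  have hD₁K : D₁ ≤ ⁅L, L⁆ := by
    rw [← hcomm]
    exact Subgroup.commutator_mono hD₁L (hRL'.trans hK)
  haveI := hNn
  have hidx : N.index = Nat.card ↥(P : Subgroup ↥⁅L, L⁆) := by
    have h1 := hNP.card_mul_card
    have h2 := N.card_mul_index
    exact Nat.eq_of_mul_eq_mul_left Nat.card_pos (h2.trans h1.symm)
  obtain ⟨n, hn⟩ := P.isPGroup'.exists_card_eq
  have hqR : ¬ q ∣ Nat.card ↥R := by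
    intro h
    have := Nat.dvd_gcd h hqd
    rw [hcop] at this
    exact hq.one_lt.ne' (Nat.dvd_one.mp this)
  have hRN : R.subgroupOf ⁅L, L⁆ ≤ N := by
    apply le_of_coprime_index
    rw [card_subgroupOf_of_le hRL', hidx, hn]
    exact Nat.Coprime.pow_right n ((Nat.Prime.coprime_iff_not_dvd hq).mpr hqR).symm
  have hD₁N : D₁.subgroupOf ⁅L, L⁆ ≤ N := by
    have h1 : D₁.subgroupOf ⁅L, L⁆
        = ⁅D₁.subgroupOf ⁅L, L⁆, R.subgroupOf ⁅L, L⁆⁆ := by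
      rw [← commutator_subgroupOf hD₁K hRL', hcomm]
    rw [h1]
    exact (Subgroup.commutator_mono le_top hRN).trans (Subgroup.commutator_le_right ⊤ N)
  have hqN : q ∣ Nat.card ↥N := by
    have := Subgroup.card_dvd_of_le hD₁N
    rw [card_subgroupOf_of_le hD₁K] at this
    exact hqd.trans this
  obtain ⟨v, hv⟩ : ∃ v, v = (Nat.card ↥⁅L, L⁆).factorization q := ⟨_, rfl⟩
  have h3 := hNP.card_mul_card
  rw [P.card_eq_multiplicity, ← hv] at h3
  have h4 : q ^ (v + 1) ∣ Nat.card ↥⁅L, L⁆ := by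
    rw [← h3]
    calc q ^ (v + 1) = q * q ^ v := by ring
      _ ∣ Nat.card ↥N * q ^ v := Nat.mul_dvd_mul hqN (dvd_refl _)
  rw [hv] at h4
  exact Nat.pow_succ_factorization_not_dvd Nat.card_pos.ne' hq h4

/-- subgroups of order `r ∈ τ₃(L)` of `L` lie in `L'` -/
theorem le_commutator_of_tau3 (hG : Cfsg.IsMinSimpleOddOrder G) {L : Subgroup G} {r : ℕ}
    [hr : Fact r.Prime] (hτ : r ∈ Cfsg.tau3 L) {R : Subgroup G} (hRL : R ≤ L)
    (hR : Nat.card ↥R = r) : R ≤ ⁅L, L⁆ := by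
  obtain ⟨-, -, hdvd, hrk⟩ := hτ
  obtain ⟨⟨x, hxK⟩, hx⟩ := exists_prime_orderOf_dvd_card' (G := ↥⁅L, L⁆) r hdvd
  have hxo : orderOf x = r := by rw [← hx, Subgroup.orderOf_mk]
  have hK : ⁅L, L⁆ ≤ L := Subgroup.commutator_le_self L
  set R' : Subgroup G := Subgroup.zpowers x with hR'
  have hR'c : Nat.card ↥R' = r := by rw [hR', Nat.card_zpowers, hxo]
  have hR'K : R' ≤ ⁅L, L⁆ := Subgroup.zpowers_le.mpr hxK
  have hR'p : IsPGroup r ↥R' := IsPGroup.of_card (n := 1) (by rw [hR'c, pow_one])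
  have hRp : IsPGroup r ↥R := IsPGroup.of_card (n := 1) (by rw [hR, pow_one])
  obtain ⟨S, hS, hR'S⟩ := exists_isSylowIn_ge hR'p (hR'K.trans hK)
  obtain ⟨T, hT, hRT⟩ := exists_isSylowIn_ge hRp hRL
  obtain ⟨m, hm, hTm⟩ := hS.conj hT
  have hTm' : T = cj m S := hTm
  have hTc : IsCyclic ↥T :=
    Cfsg.Agent.Lib.Helper4.BGTw.isCyclic_of_pRankLE_one hG hrk hT.1 hT.isPGroup
  have h1 : cj m R' ≤ T := by rw [hTm']; exact cj_mono m hR'S
  have h2 : R = cj m R' :=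
    Cfsg.Agent.Lib.Helper4.BGUniq.eq_of_card_eq_of_le_cyclic hT.isPGroup hTc hRT h1
      (by rw [card_cj, hR, hR'c])
  rw [h2]
  have h3 : cj m ⁅L, L⁆ = ⁅L, L⁆ := by
    show Subgroup.map (MulAut.conj m).toMonoidHom ⁅L, L⁆ = ⁅L, L⁆
    rw [Subgroup.map_commutator]
    have : Subgroup.map (MulAut.conj m).toMonoidHom L = L := cj_eq_of_mem hm
    rw [this]
  rw [← h3]
  exact cj_mono m hR'K

end Cfsg.Agent.Lib.Helper4.BG1218
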