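import Mathlib
import Cfsg.Agent.Lib.Helper4.BG1218A

/-!
Bender–Glauberman Lemma 12.18 / 13.3 (S1428), helper4: the cases `r ∈ τ₂(L)` (2c) and
`p ∈ τ₂(L)` (1) of Part 10 of the lead blueprint.
-/

set_option autoImplicit false
set_option linter.unusedSectionVars false
set_option linter.unusedVariables false
set_option linter.style.haveILetI false
set_option maxHeartbeats 1000000
open Cfsg
open scoped commutatorElement Pointwise

namespace Cfsg.Agent.Lib.Helper4.BG1218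

open Cfsg.Agent.Lib.Helper7 (IsSylowIn exists_isSylowIn_ge card_subgroupOf_of_le)
open Cfsg.Agent.Lib.Helper8.BGTen Cfsg.Agent.Lib.Helper4.BGTrans
open Cfsg.Agent.Lib.helper3.BG11 Cfsg.Agent.Lib.helper3.BG12
open Cfsg.Agent.Lib.Helper4.BG11E (hyp1416 hyp1417 hyp1418)

universe u

variable {G : Type u} [Group G] [Finite G]

/-- a `σ(L)'`-subgroup `K` of `L` lies in a complement `E_L` of `L_σ`; for `q ∈ τ₂(L)`, `E_L`
normalizes an elementary abelian subgroup `A ≤ E_L` of order `q²` containing all subgroups of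
order `q` of `E_L` -/
theorem exists_compl_ge_and_sq (hG : Cfsg.IsMinSimpleOddOrder G) {L : Subgroup G}
    (hL : IsCoatom L) {q : ℕ} [hq : Fact q.Prime] (hτ : q ∈ Cfsg.tau2 L) {K : Subgroup G}
    (hKL : K ≤ L) (hKcop : (Nat.card ↥K).Coprime (Nat.card ↥(Cfsg.sigmaCore L))) :
    ∃ EL A : Subgroup G, Cfsg.IsComplIn EL (Cfsg.sigmaCore L) L ∧ K ≤ EL ∧ A ≤ EL ∧
      Cfsg.IsElementaryAbelian q A ∧ Nat.card ↥A = q ^ 2 ∧
      EL ≤ Subgroup.normalizer (A : Set G) ∧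
      ∀ X : Subgroup G, X ≤ EL → Nat.card ↥X = q → X ≤ A := by
  obtain ⟨A0, hA0L, hA0e, hA0c⟩ := Cfsg.Agent.H2.BG12.exists_elem_sq hτ.2.2.2
  obtain ⟨E0, hE0⟩ := exists_compl hG hL
  obtain ⟨m, hm, hKm⟩ := Cfsg.Agent.H2.BG12.exists_cj_compl_ge hG hL hE0 hKL hKcop
  have hE1 := Cfsg.Agent.H2.BG12.compl_cj hE0 hm
  have hA0cop : (Nat.card ↥A0).Coprime (Nat.card ↥(Cfsg.sigmaCore L)) :=
    coprime_sigmaCore_of_isPGroup hG hL hτ.2.1 (isPGroup_of_elementary hA0e)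
  obtain ⟨m', hm', hA0m'⟩ := Cfsg.Agent.H2.BG12.exists_cj_compl_ge hG hL hE1 hA0L hA0cop
  have hAE1 : cj m'⁻¹ A0 ≤ cj m E0 := by rw [cj_le_iff, inv_inv]; exact hA0m'
  have hAe : Cfsg.IsElementaryAbelian q (cj m'⁻¹ A0) :=
    Cfsg.Agent.H2.BG12.isElementaryAbelian_cj hA0e m'⁻¹
  have hAc : Nat.card ↥(cj m'⁻¹ A0) = q ^ 2 := by rw [card_cj]; exact hA0c
  obtain ⟨⟨hE1N, hE1X⟩, -, -⟩ :=
    hyp1418 hG L hL (cj m E0) hE1 q hτ (cj m'⁻¹ A0) ⟨hAE1, hAe, hAc⟩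
  exact ⟨cj m E0, cj m'⁻¹ A0, hE1, hKm, hAE1, hAe, hAc, hE1N, hE1X⟩

/-- a join `R ⊔ D` with `R ≤ N(D)` is a `σ(L)'`-group when `R` and `D` are -/
theorem coprime_sup_sigmaCore (hG : Cfsg.IsMinSimpleOddOrder G) {L : Subgroup G}
    (hL : IsCoatom L) {R D : Subgroup G} (hRD : R ≤ Subgroup.normalizer (D : Set G))
    (hR : ∀ q : ℕ, q.Prime → q ∣ Nat.card ↥R → q ∉ Cfsg.sigma L)
    (hD : ∀ q : ℕ, q.Prime → q ∣ Nat.card ↥D → q ∉ Cfsg.sigma L) :
    (Nat.card ↥(R ⊔ D)).Coprime (Nat.card ↥(Cfsg.sigmaCore L)) := by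
  apply coprime_sigmaCore hG hL
  intro q hq hqK hqL
  have h1 := Cfsg.Agent.H1.card_sup_mul_card_inf R D hRD
  have h2 : q ∣ Nat.card ↥R * Nat.card ↥D := by
    rw [← h1]; exact Dvd.dvd.mul_right hqK _
  rcases (Nat.Prime.dvd_mul hq).mp h2 with h3 | h3
  · exact hR q hq h3 hqL
  · exact hD q hq h3 hqL

/-- **(2c)**: `r ∈ τ₂(L)`, `L` not conjugate to `M`, `R ≤ L` of order `r ∉ σ(M)` normalizing
`D ≤ L ∩ M_σ`; then `[D, R] = 1` -/
theorem case_r_tau2 (hG : Cfsg.IsMinSimpleOddOrder G) {M L : Subgroup G} (hM : IsCoatom M)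
    (hL : IsCoatom L) (hnc : ∀ g : G, L ≠ cj g M) {r : ℕ} [hr : Fact r.Prime]
    (hτ : r ∈ Cfsg.tau2 L) (hrM : r ∉ Cfsg.sigma M) {R D : Subgroup G} (hRL : R ≤ L)
    (hR : Nat.card ↥R = r) (hDM : D ≤ Cfsg.sigmaCore M) (hDL : D ≤ L)
    (hRD : R ≤ Subgroup.normalizer (D : Set G)) : ⁅D, R⁆ = ⊥ := by
  obtain ⟨A0, hA0L, hA0e, hA0c⟩ := Cfsg.Agent.H2.BG12.exists_elem_sq hτ.2.2.2
  obtain ⟨hnil, -⟩ := hyp1417 hG L hL r hτ A0 ⟨hA0L, hA0e, hA0c⟩
  have hdis : ∀ q : ℕ, q ∈ Cfsg.sigma M → q ∉ Cfsg.sigma L := by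
    intro q hqM hqL
    haveI : Fact q.Prime := ⟨hqM.1⟩
    obtain ⟨g, hg⟩ := aux2c hG hM hL hnil hqL hqM
    exact hnc g hg
  have hDσ : ∀ q : ℕ, q.Prime → q ∣ Nat.card ↥D → q ∈ Cfsg.sigma M := fun q hq hqD =>
    mem_sigma_of_dvd_sigmaCore hG hM hq (hqD.trans (Subgroup.card_dvd_of_le hDM))
  have hKcop : (Nat.card ↥(R ⊔ D)).Coprime (Nat.card ↥(Cfsg.sigmaCore L)) := by
    apply coprime_sup_sigmaCore hG hL hRD
    · intro q hq hqR hqL
      rw [hR] at hqR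
      have : q = r := (Nat.prime_dvd_prime_iff_eq hq hr.out).mp hqR
      exact hτ.2.1 (this ▸ hqL)
    · intro q hq hqD hqL
      exact hdis q (hDσ q hq hqD) hqL
  obtain ⟨EL, A, hEL, hKE, hAE, hAe, hAc, hEN, hEX⟩ :=
    exists_compl_ge_and_sq hG hL hτ (sup_le hRL hDL) hKcop
  have hRA : R ≤ A := hEX R (le_sup_left.trans hKE) hR
  have hDN : D ≤ Subgroup.normalizer (A : Set G) := (le_sup_right.trans hKE).trans hEN
  have h1 : ⁅D, R⁆ ≤ A := Cfsg.Agent.Lib.Helper4.BG11E.commutator_le_of_le_normalizer hDN hRA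
  have h2 : ⁅D, R⁆ ≤ D := commutator_le_left_of_le_normalizer hRD
  have h3 : A ⊓ D = ⊥ := by
    apply Subgroup.inf_eq_bot_of_coprime
    rw [hAc]
    apply Nat.Coprime.pow_left
    rw [Nat.Prime.coprime_iff_not_dvd hr.out]
    intro hrD
    exact hrM (hDσ r hr.out hrD)
  rw [eq_bot_iff, ← h3]
  exact le_inf h1 h2

/-- **(1)**: `p ∉ σ(L)` (so `p ∈ τ₂(L)`), `r_p(M) = 1`, `X ≤ M` a nontrivial `p`-group with
`N_G(X) ≤ L`; `R ≤ L` of prime order `r ≠ p` normalizing `D ≤ L ∩ M_σ ∩ C(X)`; then `[D, R] = 1` -/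
theorem case_p_tau2 (hG : Cfsg.IsMinSimpleOddOrder G) {M L : Subgroup G} (hM : IsCoatom M)
    (hL : IsCoatom L) {p : ℕ} [hp : Fact p.Prime] (hpM : p ∉ Cfsg.sigma M)
    (hr1 : Cfsg.PRankLE p 1 ↥M) (hpL : p ∉ Cfsg.sigma L) {X : Subgroup G} (hXp : IsPGroup p ↥X)
    (hX1 : X ≠ ⊥) (hXM : X ≤ M) (hNX : Subgroup.normalizer (X : Set G) ≤ L) {r : ℕ}
    [hr : Fact r.Prime] (hrp : r ≠ p) {R D : Subgroup G} (hRL : R ≤ L) (hR : Nat.card ↥R = r)
    (hDM : D ≤ Cfsg.sigmaCore M) (hDL : D ≤ L) (hRD : R ≤ Subgroup.normalizer (D : Set G))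
    (hDX : D ≤ Subgroup.centralizer (X : Set G)) : ⁅D, R⁆ = ⊥ := by
  have h16 := hyp1416 hG
  have h17 := hyp1417 hG
  have h18 := hyp1418 hG
  have hτ : p ∈ Cfsg.tau2 L := aux1 hG hL hXp hX1 hNX hpL
  obtain ⟨A0, hA0L, hA0e, hA0c⟩ := Cfsg.Agent.H2.BG12.exists_elem_sq hτ.2.2.2
  obtain ⟨hnil, -⟩ := h17 L hL p hτ A0 ⟨hA0L, hA0e, hA0c⟩
  -- no conjugate of `M` contains an elementary abelian subgroup of order `p²`
  have hrank : ∀ (B : Subgroup G) (g : G), Cfsg.IsElementaryAbelian p B → Nat.card ↥B = p ^ 2 →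
      B ≤ cj g M → False := by
    intro B g hBe hBc hBg
    have h1 : cj g⁻¹ B ≤ M := by rw [cj_le_iff, inv_inv]; exact hBg
    exact not_pRankLE_one_of_elem_sq hp.out h1
      (Cfsg.Agent.H2.BG12.isElementaryAbelian_cj hBe g⁻¹) (by rw [card_cj]; exact hBc) hr1
  have hnc : ∀ g : G, L ≠ cj g M := by
    intro g hg
    exact hrank A0 g hA0e hA0c (hg ▸ hA0L)
  have hdis : ∀ q : ℕ, q ∈ Cfsg.sigma M → q ∉ Cfsg.sigma L := by
    intro q hqM hqL
    haveI : Fact q.Prime := ⟨hqM.1⟩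
    obtain ⟨g, hg⟩ := aux2c hG hM hL hnil hqL hqM
    exact hnc g hg
  have hnid : ¬ Cfsg.IsIdealPrime p G :=
    (Cfsg.Agent.S1408.result hG L hL p hpL hτ.2.2.1 hτ.2.2.2).1
  have hDσ : ∀ q : ℕ, q.Prime → q ∣ Nat.card ↥D → q ∈ Cfsg.sigma M := fun q hq hqD =>
    mem_sigma_of_dvd_sigmaCore hG hM hq (hqD.trans (Subgroup.card_dvd_of_le hDM))
  have hcommD : ⁅D, R⁆ ≤ D := commutator_le_left_of_le_normalizer hRD
  have hRpg : IsPGroup r ↥R := IsPGroup.of_card (n := 1) (by rw [hR, pow_one])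
  by_cases hrL : r ∈ Cfsg.sigma L
  · -- `R ≤ L_σ`, `D ∩ L_σ = 1`
    have hRσ : R ≤ Cfsg.sigmaCore L :=
      Cfsg.Agent.H2.BG11.le_sigmaCore_of_pgroup hG hL hrL hRL hRpg
    have h1 : ⁅D, R⁆ ≤ Cfsg.sigmaCore L :=
      Cfsg.Agent.Lib.Helper4.BG11E.commutator_le_of_le_normalizer
        (hDL.trans (le_normalizer_sigmaCore L)) hRσ
    have h3 : D ⊓ Cfsg.sigmaCore L = ⊥ := by
      apply Subgroup.inf_eq_bot_of_coprime
      apply coprime_sigmaCore hG hL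
      intro q hq hqD hqL
      exact hdis q (hDσ q hq hqD) hqL
    rw [eq_bot_iff, ← h3]
    exact le_inf hcommD h1
  -- `R ⊔ D` is a `σ(L)'`-group
  have hKcop : (Nat.card ↥(R ⊔ D)).Coprime (Nat.card ↥(Cfsg.sigmaCore L)) := by
    apply coprime_sup_sigmaCore hG hL hRD
    · intro q hq hqR hqL
      rw [hR] at hqR
      have : q = r := (Nat.prime_dvd_prime_iff_eq hq hr.out).mp hqR
      exact hrL (this ▸ hqL)
    · intro q hq hqD hqL
      exact hdis q (hDσ q hq hqD) hqL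
  obtain ⟨EL, A, hEL, hKE, hAE, hAe, hAc, hEN, -⟩ :=
    exists_compl_ge_and_sq hG hL hτ (sup_le hRL hDL) hKcop
  have hAL : A ≤ L := hAE.trans hEL.1
  have hAq : IsPGroup p ↥A := isPGroup_of_elementary hAe
  have hKN : R ⊔ D ≤ Subgroup.normalizer (A : Set G) := hKE.trans hEN
  -- `p ∤ |R ⊔ D|`
  have hpK : ¬ p ∣ Nat.card ↥(R ⊔ D) := by
    intro hpK
    have h1 := Cfsg.Agent.H1.card_sup_mul_card_inf R D hRD
    have h2 : p ∣ Nat.card ↥R * Nat.card ↥D := by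
      rw [← h1]; exact Dvd.dvd.mul_right hpK _
    rcases (Nat.Prime.dvd_mul hp.out).mp h2 with h3 | h3
    · rw [hR] at h3
      exact hrp ((Nat.prime_dvd_prime_iff_eq hp.out hr.out).mp h3).symm
    · exact hpM (hDσ p hp.out h3)
  have hp2 : p ≠ 2 :=
    Cfsg.Agent.Lib.Helper4.BGUniq.prime_ne_two hG hAq
      (by rw [hAc]; exact Nat.one_lt_pow (by norm_num) hp.out.one_lt)
  have hodd : Odd (Nat.card ↥(R ⊔ D)) :=
    Odd.of_dvd_nat hG.1 (Subgroup.card_subgroup_dvd_card _)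
  have hcommCA : ⁅D, R⁆ ≤ Subgroup.centralizer (A : Set G) := by
    have h1 := Cfsg.Agent.H2.BG12.commutator_le_centralizer_of_pelements hp2 hAq
      (Cfsg.Agent.H2.BG12.pRankLE_two_of_card hAc) hKN hodd ?_
    · exact (Subgroup.commutator_mono le_sup_right le_sup_left).trans h1
    · intro Pp hPpK hPp
      obtain ⟨k, hk⟩ := hPp.exists_card_eq
      have h2 : Nat.card ↥Pp ∣ Nat.card ↥(R ⊔ D) := Subgroup.card_dvd_of_le hPpK
      rcases k with _ | k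
      · rw [pow_zero] at hk
        rw [Subgroup.card_eq_one.mp hk]
        exact bot_le
      · exfalso
        apply hpK
        rw [hk] at h2
        exact (dvd_pow_self p (Nat.succ_ne_zero k)).trans h2
  -- the Claim: `C_D(A) = 1`
  have hclaim : D ⊓ Subgroup.centralizer (A : Set G) = ⊥ := by
    by_contra hD0
    have hcard : Nat.card ↥(D ⊓ Subgroup.centralizer (A : Set G)) ≠ 1 :=
      fun h => hD0 (Subgroup.card_eq_one.mp h)
    obtain ⟨q, hq, hqd⟩ := Nat.exists_prime_and_dvd hcard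
    haveI : Fact q.Prime := ⟨hq⟩
    obtain ⟨Q0, hQ0, -⟩ := exists_isSylowIn_ge (p := q) (Q := ⊥)
      (H := D ⊓ Subgroup.centralizer (A : Set G)) IsPGroup.of_bot bot_le
    have hQ01 : Q0 ≠ ⊥ := Cfsg.Agent.H2.BG11.sylIn_ne_bot hQ0 hqd
    have hQ0q : IsPGroup q ↥Q0 := hQ0.isPGroup
    have hQ0D : Q0 ≤ D := hQ0.1.trans inf_le_left
    have hQ0M : Q0 ≤ M := (hQ0D.trans hDM).trans (sigmaCore_le M)
    have hqM : q ∈ Cfsg.sigma M :=
      mem_sigma_of_dvd_sigmaCore hG hM hq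
        (hqd.trans (Subgroup.card_dvd_of_le (inf_le_left.trans hDM)))
    have hACQ : A ≤ Subgroup.centralizer (Q0 : Set G) :=
      Subgroup.le_centralizer_iff.mp (hQ0.1.trans inf_le_right)
    have hXCQ : X ≤ Subgroup.centralizer (Q0 : Set G) :=
      Subgroup.le_centralizer_iff.mp (hQ0D.trans hDX)
    have hQ0t : Q0 ≠ ⊤ := ne_top_of_le_coatom hM hQ0M
    have hNt := normalizer_ne_top' hG hQ01 hQ0t
    obtain ⟨H, hH, hNH⟩ := exists_coatom_ge hNt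
    have hAH : A ≤ H := (hACQ.trans (Subgroup.centralizer_le_normalizer _)).trans hNH
    have hXH : X ≤ H := (hXCQ.trans (Subgroup.centralizer_le_normalizer _)).trans hNH
    have hne : H ≠ M := by
      intro h
      apply hrank A 1 hAe hAc
      rw [cj_one, ← h]; exact hAH
    have hYβ : ∀ s : ℕ, s.Prime → s ∣ Nat.card ↥A → s ∉ Cfsg.beta H := by
      intro s hs hsA hsβ
      rw [hAc] at hsA
      have : s = p := (Nat.prime_dvd_prime_iff_eq hs hp.out).mp (hs.dvd_of_dvd_pow hsA)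
      rw [this] at hsβ
      exact hnid hsβ.2
    rcases conj_into_or hG h16 h17 h18 hM hH hne hqM hQ0q hQ01 hQ0M hNH hAH hYβ with
      ⟨k, -, hAk⟩ | ⟨hHM, hncop⟩
    · exact hrank A k hAe hAc hAk
    · have hpd : p ∣ Nat.card ↥(Cfsg.sigmaCore H) := by
        by_contra hnd
        apply hncop
        rw [hAc]
        exact Nat.Coprime.pow_left 2 ((Nat.Prime.coprime_iff_not_dvd hp.out).mpr hnd)
      have hpH : p ∈ Cfsg.sigma H := mem_sigma_of_dvd_sigmaCore hG hH hp.out hpd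
      have hXσ : X ≤ Cfsg.sigmaCore H :=
        Cfsg.Agent.H2.BG11.le_sigmaCore_of_pgroup hG hH hpH hXH hXp
      have : X ≤ Cfsg.sigmaCore H ⊓ M := le_inf hXσ hXM
      rw [hHM] at this
      exact hX1 (le_bot_iff.mp this)
  rw [eq_bot_iff, ← hclaim]
  exact le_inf hcommD hcommCA

end Cfsg.Agent.Lib.Helper4.BG1218
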