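import Mathlib
import Cfsg.Agent.Lib.Helper4.BG1218C

/-!
Bender–Glauberman Lemma 12.18 / 13.3 (S1428), helper4: item (O1) of the lead blueprint, Part 10:
`M_σ ∩ L = C_{M_σ}(P)` for a `p`-subgroup `P ≤ M ∩ L` with `C_G(P) ≤ L`, `p ∈ σ(L)`, `p ∉ σ(M)`.
-/

set_option autoImplicit false
set_option linter.unusedSectionVars false
set_option linter.unusedVariables false
set_option linter.style.haveILetI false
set_option maxHeartbeats 1000000
open Cfsg
open scoped commutatorElement Pointwise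

namespace Cfsg.Agent.Lib.Helper4.BG1218

open Cfsg.Agent.Lib.Helper7 (IsSylowIn exists_isSylowIn_ge card_subgroupOf_of_le)
open Cfsg.Agent.Lib.Helper8.BGTen Cfsg.Agent.Lib.Helper4.BGTrans
open Cfsg.Agent.Lib.helper3.BG11 Cfsg.Agent.Lib.helper3.BG12

universe u

variable {G : Type u} [Group G] [Finite G]

/-- `p ∈ σ(L)`, `p ∉ σ(M)`: no conjugate of `L` is `M`. -/
theorem cj_ne_of_sigma (hG : Cfsg.IsMinSimpleOddOrder G) {M L : Subgroup G} {p : ℕ}
    (hpL : p ∈ Cfsg.sigma L) (hpM : p ∉ Cfsg.sigma M) (g : G) : cj g L ≠ M := by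
  intro hg
  apply hpM
  rw [← hg, Cfsg.Agent.H2.BG11.sigma_cj]
  exact hpL

/-- **(O1)**: `P ≤ M ∩ L` a `p`-group, `p ∈ σ(L)`, `p ∉ σ(M)`: `M_σ ∩ L ≤ C_G(P)`. -/
theorem sigmaCore_inf_le_centralizer (hG : Cfsg.IsMinSimpleOddOrder G) {M L : Subgroup G}
    (hM : IsCoatom M) (hL : IsCoatom L) {p : ℕ} [hp : Fact p.Prime]
    (hpL : p ∈ Cfsg.sigma L) (hpM : p ∉ Cfsg.sigma M) {P : Subgroup G} (hPp : IsPGroup p ↥P)
    (hPM : P ≤ M) (hPL : P ≤ L) :
    Cfsg.sigmaCore M ⊓ L ≤ Subgroup.centralizer (P : Set G) := by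
  have hnc := cj_ne_of_sigma hG hpL hpM
  set D : Subgroup G := Cfsg.sigmaCore M ⊓ L with hD
  have hPD : P ≤ Subgroup.normalizer (D : Set G) :=
    Cfsg.Agent.Lib.Helper8.BGTen.le_normalizer_inf (hPM.trans (le_normalizer_sigmaCore M))
      (hPL.trans Subgroup.le_normalizer)
  have hcop : (Nat.card ↥P).Coprime (Nat.card ↥D) :=
    (coprime_sigmaCore_of_isPGroup hG hM hpM hPp).coprime_dvd_right
      (Subgroup.card_dvd_of_le inf_le_left)
  have hsolvP : Group.IsSolvable ↥P := by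
    haveI : Group.IsNilpotent ↥P := hPp.isNilpotent
    infer_instance
  have hcc : ⁅⁅D, P⁆, P⁆ = ⁅D, P⁆ := Cfsg.Agent.S0027.result P D hPD hcop (Or.inl hsolvP)
  have hD₁D : ⁅D, P⁆ ≤ D := commutator_le_left_of_le_normalizer hPD
  have h1 : ⁅D, P⁆ = ⊥ :=
    case1 hG hM hL hnc hpL hpM hPp hPL (hD₁D.trans inf_le_right) (hD₁D.trans inf_le_left) hcc
  rw [Subgroup.commutator_eq_bot_iff_le_centralizer] at h1
  exact h1

/-- **(O1)**: if moreover `C_G(P) ≤ L` then `M_σ ∩ L = C_{M_σ}(P)`. -/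
theorem sigmaCore_inf_eq_centralizer (hG : Cfsg.IsMinSimpleOddOrder G) {M L : Subgroup G}
    (hM : IsCoatom M) (hL : IsCoatom L) {p : ℕ} [hp : Fact p.Prime]
    (hpL : p ∈ Cfsg.sigma L) (hpM : p ∉ Cfsg.sigma M) {P : Subgroup G} (hPp : IsPGroup p ↥P)
    (hPM : P ≤ M) (hPL : P ≤ L) (hCL : Subgroup.centralizer (P : Set G) ≤ L) :
    Cfsg.sigmaCore M ⊓ L = Cfsg.sigmaCore M ⊓ Subgroup.centralizer (P : Set G) :=
  le_antisymm (le_inf inf_le_left (sigmaCore_inf_le_centralizer hG hM hL hpL hpM hPp hPM hPL))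
    (le_inf inf_le_left (inf_le_right.trans hCL))

end Cfsg.Agent.Lib.Helper4.BG1218
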