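import Mathlib
import Cfsg.Agent.Lib.Helper4.BG1218D
import Cfsg.Agent.S1406
import Cfsg.Agent.S1409
import Cfsg.Agent.S1420

/-!
Bender–Glauberman Lemma 12.18 (S1428), helper4: the skeleton of case (2d-ii) (`p ∈ α(L)`) of the
lead blueprint, Part 10 — generic lemmas.

* `le_of_inUniqueMaximal_inf_centralizer`: `L` the unique maximal subgroup over `C_L(X)`, `X ≠ 1`
  ⇒ `C_G(X) ≤ L` and `N_G(X) ≤ L`;
* `rankLE_one_alphaCore_inf_centralizer` (12.5): `R ≤ L` of prime order `r ∉ σ(L)`, `r_r(L) ≤ 1`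
  ⇒ `r(C_{L_α}(R)) ≤ 1`;
* `uniq_of_centralizes_sq`: `1 ≠ X ≤ M_σ ∩ L` (`L` not conjugate to `M`) centralizing an `E_{p²}`
  of `L_α` ⇒ `L` is the unique maximal subgroup over `C_L(X)`, `C_G(X) ≤ L`, `N_G(X) ≤ L`.
-/

set_option autoImplicit false
set_option linter.unusedSectionVars false
set_option linter.unusedVariables false
set_option linter.style.haveILetI false
set_option maxHeartbeats 1000000
open Cfsg
open scoped commutatorElement Pointwise

namespace Cfsg.Agent.Lib.Helper4.BG1218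

open Cfsg.Agent.Lib.Helper7 (IsSylowIn exists_isSylowIn_ge card_subgroupOf_of_le)
open Cfsg.Agent.Lib.Helper8.BGTen Cfsg.Agent.Lib.Helper4.BGTrans
open Cfsg.Agent.Lib.helper3.BG11 Cfsg.Agent.Lib.helper3.BG12

universe u

variable {G : Type u} [Group G] [Finite G]

/-- `L` the unique maximal subgroup over `C_L(X)`, `X ≠ 1`: `C_G(X) ≤ L` and `N_G(X) ≤ L`. -/
theorem le_of_inUniqueMaximal_inf_centralizer (hG : Cfsg.IsMinSimpleOddOrder G) {L X : Subgroup G}
    (hL : IsCoatom L) (hX1 : X ≠ ⊥) (hXL : X ≤ L)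
    (hu : Cfsg.InUniqueMaximal (L ⊓ Subgroup.centralizer (X : Set G))) :
    Subgroup.centralizer (X : Set G) ≤ L ∧ Subgroup.normalizer (X : Set G) ≤ L := by
  have hCt := Cfsg.Agent.Lib.Helper4.BGUniq.centralizer_ne_top hG hX1
  have hC : Subgroup.centralizer (X : Set G) ≤ L :=
    Cfsg.Agent.Lib.Helper4.BGUniq.le_of_inUniqueMaximal_of_le hu hL inf_le_left inf_le_right hCt
  refine ⟨hC, ?_⟩
  intro g hg
  have hcjX : cj g X = X := cj_eq_of_mem_normalizer hg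
  have hcjC : cj g (Subgroup.centralizer (X : Set G)) = Subgroup.centralizer (X : Set G) := by
    rw [cj_centralizer, hcjX]
  have h1 : L ⊓ Subgroup.centralizer (X : Set G) ≤ cj g L := by
    refine inf_le_right.trans ?_
    rw [← hcjC]
    exact cj_mono g hC
  have h2 : L = cj g L :=
    Cfsg.Agent.Lib.Helper4.BGUniq.le_of_inUniqueMaximal hu hL inf_le_left (isCoatom_cj hL g) h1
  have hL1 : L ≠ ⊥ := by
    intro h0
    apply hX1
    rw [eq_bot_iff, ← h0]
    exact hXL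
  have hg' : g ∈ Subgroup.normalizer (L : Set G) := mem_normalizer_of_cj_eq h2.symm
  rw [normalizer_coatom hG hL hL1] at hg'
  exact hg'

/-- **(12.5)**: `R ≤ L` of prime order `r ∉ σ(L)` with `r_r(L) ≤ 1`: `r(C_{L_α}(R)) ≤ 1`. -/
theorem rankLE_one_alphaCore_inf_centralizer (hG : Cfsg.IsMinSimpleOddOrder G) {L R : Subgroup G}
    (hL : IsCoatom L) {r : ℕ} [hr : Fact r.Prime] (hrσ : r ∉ Cfsg.sigma L)
    (hrk : Cfsg.PRankLE r 1 ↥L) (hRL : R ≤ L) (hRc : Nat.card ↥R = r) :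
    Cfsg.RankLE 1 ↥(Cfsg.alphaCore L ⊓ Subgroup.centralizer (R : Set G)) := by
  by_contra hcon
  have hR1 : R ≠ ⊥ := by
    intro h0
    rw [h0, Subgroup.card_bot] at hRc
    exact hr.out.one_lt.ne hRc
  have hRα : ∀ q : ℕ, q.Prime → q ∣ Nat.card ↥R → q ∉ Cfsg.alpha L := by
    intro q hq hqd hqα
    rw [hRc] at hqd
    have : q = r := (Nat.prime_dvd_prime_iff_eq hq hr.out).mp hqd
    exact hrσ (this ▸ alpha_subset_sigma hG (uT hG) hL hqα)
  have hu := Cfsg.Agent.S1406.result hG L hL R hRL hRα hcon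
  have hN := (le_of_inUniqueMaximal_inf_centralizer hG hL hR1 hRL hu).2
  exact (Cfsg.Agent.S1409.result hG L hL r hrσ R hRc hN).1.2 hrk

/-- `1 ≠ X ≤ M_σ ∩ L` (`L` not conjugate to `M`) centralizing an `E_{p²}` of `L_α`: `L` is the
unique maximal subgroup over `C_L(X)`, and `C_G(X) ≤ L`, `N_G(X) ≤ L`. -/
theorem uniq_of_centralizes_sq (hG : Cfsg.IsMinSimpleOddOrder G) {M L : Subgroup G}
    (hM : IsCoatom M) (hL : IsCoatom L) (hnc : ∀ g : G, cj g L ≠ M) {X : Subgroup G}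
    (hX1 : X ≠ ⊥) (hXM : X ≤ Cfsg.sigmaCore M) (hXL : X ≤ L) {p : ℕ} (hp : p.Prime)
    {A : Subgroup G} (hAα : A ≤ Cfsg.alphaCore L) (hAe : Cfsg.IsElementaryAbelian p A)
    (hAc : Nat.card ↥A = p ^ 2) (hXA : X ≤ Subgroup.centralizer (A : Set G)) :
    Cfsg.InUniqueMaximal (L ⊓ Subgroup.centralizer (X : Set G)) ∧
      Subgroup.centralizer (X : Set G) ≤ L ∧ Subgroup.normalizer (X : Set G) ≤ L := by
  have hXα : ∀ q : ℕ, q.Prime → q ∣ Nat.card ↥X → q ∉ Cfsg.alpha L := by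
    intro q hq hqd hqα
    have hqM : q ∈ Cfsg.sigma M :=
      mem_sigma_of_dvd_sigmaCore hG hM hq (hqd.trans (Subgroup.card_dvd_of_le hXM))
    haveI : Fact q.Prime := ⟨hq⟩
    obtain ⟨g, hg⟩ := exists_cj_eq_of_alpha_sigma hG hM hL hqα hqM
    exact hnc g hg
  have hAX : A ≤ Subgroup.centralizer (X : Set G) := by
    intro a ha
    rw [Subgroup.mem_centralizer_iff]
    intro x hx
    exact ((Subgroup.mem_centralizer_iff.mp (hXA hx)) a ha).symm
  have hr : ¬ Cfsg.RankLE 1 ↥(Cfsg.alphaCore L ⊓ Subgroup.centralizer (X : Set G)) := by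
    apply Cfsg.Agent.Lib.Helper4.BGUniq.not_rankLE_one_of_le hp hAe (le_inf hAα hAX)
    rw [hAc]
    nlinarith [hp.one_lt]
  have hu := Cfsg.Agent.S1406.result hG L hL X hXL hXα hr
  exact ⟨hu, le_of_inUniqueMaximal_inf_centralizer hG hL hX1 hXL hu⟩

end Cfsg.Agent.Lib.Helper4.BG1218
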