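import Mathlib
import Cfsg.Agent.Lib.Helper4.BG1218E
import Cfsg.Agent.S0026
import Cfsg.Agent.Lib.Helper7.KNormalizer

/-!
Bender–Glauberman Lemma 12.18 (S1428), helper4: the skeleton of case (2d-ii) (`p ∈ α(L)`) of the
lead blueprint, Part 10: from the output of the HH step (`Y₀ = [D, R]` centralizes an `E_{p²}` of
`L_α`) to the residual configuration `Resid0`.
-/

set_option autoImplicit false
set_option linter.unusedSectionVars false
set_option linter.unusedVariables false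
set_option linter.style.haveILetI false
set_option maxHeartbeats 1000000
open Cfsg
open scoped commutatorElement Pointwise

namespace Cfsg.Agent.Lib.Helper4.BG1218

open Cfsg.Agent.Lib.Helper7 (IsSylowIn exists_isSylowIn_ge card_subgroupOf_of_le)
open Cfsg.Agent.Lib.Helper8.BGTen Cfsg.Agent.Lib.Helper4.BGTrans
open Cfsg.Agent.Lib.helper3.BG11 Cfsg.Agent.Lib.helper3.BG12

universe u

variable {G : Type u} [Group G] [Finite G]

/-- the residual configuration of case (2d-ii) of S1428 (blueprint Part 10/13): a Sylow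
`t`-subgroup `T` of `G` with `T ≤ D = C_{M_σ}(P)`, `t ∈ σ(M) ∩ σ(L)`, `T₁ = [T, R] ≠ 1` cyclic and
`C_G(T₁) ≤ L`, `N_G(T₁) ≤ L`, `N_G(T) ≤ M ∩ L`. -/
def Resid0 (M L P R : Subgroup G) : Prop :=
  ∃ (t : ℕ) (_ : Fact t.Prime) (T : Sylow t G),
    t ∈ Cfsg.sigma M ∧ t ∈ Cfsg.sigma L ∧ t ∉ Cfsg.alpha M ∧ t ∉ Cfsg.alpha L ∧
    (T : Subgroup G) ≤ Cfsg.sigmaCore M ⊓ Subgroup.centralizer (P : Set G) ∧
    R ≤ Subgroup.normalizer ((T : Subgroup G) : Set G) ∧
    ⁅(T : Subgroup G), R⁆ ≠ ⊥ ∧ IsCyclic ↥⁅(T : Subgroup G), R⁆ ∧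
    Subgroup.centralizer ((⁅(T : Subgroup G), R⁆ : Subgroup G) : Set G) ≤ L ∧
    Subgroup.normalizer ((⁅(T : Subgroup G), R⁆ : Subgroup G) : Set G) ≤ L ∧
    Subgroup.normalizer ((T : Subgroup G) : Set G) ≤ M ⊓ L

/-- coprime action: some `R`-invariant Sylow subgroup of `D` is not centralized by `R` -/
theorem exists_sylow_commutator_ne_bot (hG : Cfsg.IsMinSimpleOddOrder G) {D R : Subgroup G}
    (hDt : D ≠ ⊤) (hRD : R ≤ Subgroup.normalizer (D : Set G))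
    (hcop : (Nat.card ↥R).Coprime (Nat.card ↥D)) (hne : ⁅D, R⁆ ≠ ⊥) :
    ∃ (t : ℕ) (_ : Fact t.Prime) (T₀ : Subgroup G), IsSylowIn t T₀ D ∧
      R ≤ Subgroup.normalizer (T₀ : Set G) ∧ ⁅T₀, R⁆ ≠ ⊥ := by
  by_contra hcon
  push Not at hcon
  apply hne
  haveI hsolv : Group.IsSolvable ↥D := hG.2.2.2 D hDt
  set C : Subgroup G := D ⊓ Subgroup.centralizer (R : Set G) with hC
  have hdvd : Nat.card ↥D ∣ Nat.card ↥C := by
    rw [← Nat.factorization_prime_le_iff_dvd Nat.card_pos.ne' Nat.card_pos.ne']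
    intro t ht
    haveI : Fact t.Prime := ⟨ht⟩
    obtain ⟨T₀, hT₀, hRT₀⟩ := Cfsg.Agent.H2.BG11.exists_inv_sylow' (q := t) hRD hcop hsolv
    have h0 := hcon t ⟨ht⟩ T₀ hT₀ hRT₀
    rw [Subgroup.commutator_eq_bot_iff_le_centralizer] at h0
    have hT₀C : T₀ ≤ C := le_inf hT₀.1 h0
    have h1 : t ^ (Nat.card ↥D).factorization t ∣ Nat.card ↥C := by
      rw [← hT₀.2]
      exact Subgroup.card_dvd_of_le hT₀C
    exact (ht.pow_dvd_iff_le_factorization Nat.card_pos.ne').mp h1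
  have hCD : C = D :=
    Subgroup.eq_of_le_of_card_ge inf_le_left (Nat.le_of_dvd Nat.card_pos hdvd)
  rw [Subgroup.commutator_eq_bot_iff_le_centralizer, ← hCD]
  exact inf_le_right

/-- `P` acts coprimely on the `t`-group `T`, centralizing `T₀ ≤ T`; if `C_T(P) ≤ T₀` and
`C_T(T₀) ≤ T₀` then `T₀ = T`.  (First bullet of (12.6).) -/
theorem eq_of_centralizer_le {P T T₀ : Subgroup G} {t : ℕ} [ht : Fact t.Prime]
    (hT : IsPGroup t ↥T) (hT₀T : T₀ ≤ T) (hPT : P ≤ Subgroup.normalizer (T : Set G))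
    (hPT₀ : P ≤ Subgroup.centralizer (T₀ : Set G))
    (hcop : (Nat.card ↥P).Coprime (Nat.card ↥T))
    (h1 : T ⊓ Subgroup.centralizer (P : Set G) ≤ T₀)
    (h2 : T ⊓ Subgroup.centralizer (T₀ : Set G) ≤ T₀) : T₀ = T := by
  by_contra hne
  obtain ⟨n, hnT, hnN, hnT₀⟩ := exists_mem_normalizer_not_mem hT hT₀T hne
  set N₁ : Subgroup G := T ⊓ Subgroup.normalizer (T₀ : Set G) with hN₁
  have hPN₀ : P ≤ Subgroup.normalizer (T₀ : Set G) :=
    hPT₀.trans (Subgroup.centralizer_le_normalizer _)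
  have hPN₁ : P ≤ Subgroup.normalizer (N₁ : Set G) :=
    Cfsg.Agent.Lib.Helper8.BGTen.le_normalizer_inf hPT (hPN₀.trans Subgroup.le_normalizer)
  have hN₁p : IsPGroup t ↥N₁ := hT.to_le inf_le_left
  have hcop₁ : (Nat.card ↥P).Coprime (Nat.card ↥N₁) :=
    hcop.coprime_dvd_right (Subgroup.card_dvd_of_le inf_le_left)
  have hsolv : Group.IsSolvable ↥N₁ := by
    haveI : Group.IsNilpotent ↥N₁ := hN₁p.isNilpotent
    infer_instance
  have hdec := Cfsg.Agent.S0026.result P N₁ hPN₁ hcop₁ (Or.inr hsolv)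
  have hcomm : ⁅N₁, P⁆ ≤ T₀ := by
    refine le_trans (le_inf ((commutator_le_left_of_le_normalizer hPN₁).trans inf_le_left) ?_) h2
    rw [Subgroup.commutator_le]
    intro m hm x hx
    have hmN : m ∈ Subgroup.normalizer (T₀ : Set G) := hm.2
    rw [Subgroup.mem_centralizer_iff]
    intro y hy
    have hy' : y ∈ T₀ := hy
    have hxy : ∀ z ∈ T₀, z * x = x * z := fun z hz =>
      Subgroup.mem_centralizer_iff.mp (hPT₀ hx) z hz
    have h3 : m⁻¹ * y * m ∈ T₀ := by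
      have := (Subgroup.mem_normalizer_iff.mp (Subgroup.inv_mem _ hmN) y).mp hy'
      simpa using this
    have h4 := hxy _ h3
    have h5 := hxy y hy'
    have hx1 : x⁻¹ * y * x = y := by rw [mul_assoc, h5, ← mul_assoc, inv_mul_cancel, one_mul]
    have hx2 : x * (m⁻¹ * y * m) * x⁻¹ = m⁻¹ * y * m := by
      rw [← h4, mul_assoc, mul_inv_cancel, mul_one]
    rw [commutatorElement_def]
    calc y * (m * x * m⁻¹ * x⁻¹) = m * (m⁻¹ * y * m) * x * m⁻¹ * x⁻¹ := by group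
      _ = m * (x * (m⁻¹ * y * m) * x⁻¹) * x * m⁻¹ * x⁻¹ := by rw [hx2]
      _ = m * x * m⁻¹ * (y * m * m⁻¹) * x⁻¹ := by group
      _ = m * x * m⁻¹ * (x⁻¹ * y * x) * x⁻¹ := by rw [hx1]; group
      _ = m * x * m⁻¹ * x⁻¹ * y := by group
  have hfix : N₁ ⊓ Subgroup.centralizer (P : Set G) ≤ T₀ :=
    (inf_le_inf_right _ inf_le_left).trans h1
  have hN₁T₀ : N₁ ≤ T₀ := by
    rw [← hdec]
    exact sup_le hcomm hfix
  exact hnT₀ (hN₁T₀ ⟨hnT, hnN⟩)

/-- **Case (2d-ii), skeleton**: from the output of the HH step (`Y₀ = [D, R]` centralizes an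
elementary abelian subgroup of order `q²` of `L_α`) and `Y₀ ≠ 1` to the residual configuration. -/
theorem resid0_of_alpha (hG : Cfsg.IsMinSimpleOddOrder G) {M L E P R : Subgroup G}
    (hM : IsCoatom M) (hL : IsCoatom L) (hE : Cfsg.IsComplIn E (Cfsg.sigmaCore M) M)
    {p : ℕ} [hp : Fact p.Prime] (hpM : p ∉ Cfsg.sigma M) (hpL : p ∈ Cfsg.sigma L)
    (hPE : P ≤ E) (hPc : Nat.card ↥P = p) (hCL : Subgroup.centralizer (P : Set G) ≤ L)
    (hRE : R ≤ E) (hRP : R ≤ Subgroup.centralizer (P : Set G)) (hRc : (Nat.card ↥R).Prime)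
    {q : ℕ} (hq : q.Prime) {A : Subgroup G} (hAα : A ≤ Cfsg.alphaCore L)
    (hAe : Cfsg.IsElementaryAbelian q A) (hAc : Nat.card ↥A = q ^ 2)
    (hYA : ⁅Cfsg.sigmaCore M ⊓ Subgroup.centralizer (P : Set G), R⁆ ≤
      Subgroup.centralizer (A : Set G))
    (hY0 : ⁅Cfsg.sigmaCore M ⊓ Subgroup.centralizer (P : Set G), R⁆ ≠ ⊥) :
    Resid0 M L P R := by
  obtain ⟨r, hrdef⟩ : ∃ r : ℕ, r = Nat.card ↥R := ⟨_, rfl⟩
  have hRc' : Nat.card ↥R = r := hrdef.symm
  haveI hrf : Fact r.Prime := ⟨hrdef ▸ hRc⟩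
  have hEM : E ≤ M := hE.1
  have hPM : P ≤ M := hPE.trans hEM
  have hRM : R ≤ M := hRE.trans hEM
  have hPel := Cfsg.Agent.Lib.Helper4.BGUniq.isElementaryAbelian_of_card_prime hPc
  have hPP : P ≤ Subgroup.centralizer (P : Set G) := by
    intro a ha
    rw [Subgroup.mem_centralizer_iff]
    intro b hb
    have := hPel.1.is_comm.comm (⟨b, hb⟩ : ↥P) ⟨a, ha⟩
    exact congrArg Subtype.val this
  have hPL : P ≤ L := hPP.trans hCL
  have hRL : R ≤ L := hRP.trans hCL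
  have hPp : IsPGroup p ↥P := IsPGroup.of_card (n := 1) (by rw [hPc, pow_one])
  have hRp : IsPGroup r ↥R := IsPGroup.of_card (n := 1) (by rw [hRc', pow_one])
  have hnc := cj_ne_of_sigma hG hpL hpM
  have hLM : L ≠ M := fun h => hnc 1 (by rw [cj_one, h])
  set D : Subgroup G := Cfsg.sigmaCore M ⊓ Subgroup.centralizer (P : Set G) with hD
  have hDeq : Cfsg.sigmaCore M ⊓ L = D :=
    sigmaCore_inf_eq_centralizer hG hM hL hpL hpM hPp hPM hPL hCL
  have hDM : D ≤ Cfsg.sigmaCore M := inf_le_left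
  have hDP : D ≤ Subgroup.centralizer (P : Set G) := inf_le_right
  have hDL : D ≤ L := hDP.trans hCL
  have hDt : D ≠ ⊤ := ne_top_of_le_coatom hL hDL
  have hRD : R ≤ Subgroup.normalizer (D : Set G) :=
    Cfsg.Agent.Lib.Helper8.BGTen.le_normalizer_inf (hRM.trans (le_normalizer_sigmaCore M))
      (hRP.trans Subgroup.le_normalizer)
  have hrσ : r ∉ Cfsg.sigma M := by
    apply Cfsg.Agent.H2.BG12.not_mem_sigma_of_dvd_compl hG hM hE hrf.out
    rw [← hRc']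
    exact Subgroup.card_dvd_of_le hRE
  have hcopRD : (Nat.card ↥R).Coprime (Nat.card ↥D) :=
    (coprime_sigmaCore_of_isPGroup hG hM hrσ hRp).coprime_dvd_right (Subgroup.card_dvd_of_le hDM)
  have hY0D : ⁅D, R⁆ ≤ D := commutator_le_left_of_le_normalizer hRD
  -- uniqueness for nontrivial subgroups of `Y₀`
  have huniq : ∀ X : Subgroup G, X ≠ ⊥ → X ≤ ⁅D, R⁆ →
      Cfsg.InUniqueMaximal (L ⊓ Subgroup.centralizer (X : Set G)) ∧
        Subgroup.centralizer (X : Set G) ≤ L ∧ Subgroup.normalizer (X : Set G) ≤ L := by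
    intro X hX1 hXY
    exact uniq_of_centralizes_sq hG hM hL hnc hX1 ((hXY.trans hY0D).trans hDM)
      ((hXY.trans hY0D).trans hDL) hq hAα hAe hAc (hXY.trans hYA)
  -- Step B
  obtain ⟨t, htf, T₀, hT₀, hRT₀, hT₁⟩ := exists_sylow_commutator_ne_bot hG hDt hRD hcopRD hY0
  haveI := htf
  have hT₀D : T₀ ≤ D := hT₀.1
  have hT₀p : IsPGroup t ↥T₀ := hT₀.isPGroup
  have htD : t ∣ Nat.card ↥D := by
    by_contra hnd
    have h0 := hT₀.2
    rw [Nat.factorization_eq_zero_of_not_dvd hnd, pow_zero] at h0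
    apply hT₁
    rw [Subgroup.card_eq_one.mp h0]
    exact Subgroup.commutator_bot_left R
  have htM : t ∈ Cfsg.sigma M :=
    mem_sigma_of_dvd_sigmaCore hG hM htf.out (htD.trans (Subgroup.card_dvd_of_le hDM))
  have htp : t ≠ p := fun h => hpM (h ▸ htM)
  set T₁ : Subgroup G := ⁅T₀, R⁆ with hT₁def
  have hT₁T₀ : T₁ ≤ T₀ := commutator_le_left_of_le_normalizer hRT₀
  have hT₁Y : T₁ ≤ ⁅D, R⁆ := Subgroup.commutator_mono hT₀D le_rfl
  obtain ⟨hu₁, hC₁L, hN₁L⟩ := huniq T₁ hT₁ hT₁Y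
  -- Step C
  have hPRE : P ⊔ R ≤ E := sup_le hPE hRE
  have hPRN : P ⊔ R ≤ Subgroup.normalizer (Cfsg.sigmaCore M : Set G) :=
    (hPRE.trans hEM).trans (le_normalizer_sigmaCore M)
  have hcopPR : (Nat.card ↥(P ⊔ R : Subgroup G)).Coprime (Nat.card ↥(Cfsg.sigmaCore M)) := by
    apply coprime_sigmaCore hG hM
    intro k hk hkd
    exact Cfsg.Agent.H2.BG12.not_mem_sigma_of_dvd_compl hG hM hE hk
      (hkd.trans (Subgroup.card_dvd_of_le hPRE))
  have hMσt : Cfsg.sigmaCore M ≠ ⊤ := ne_top_of_le_coatom hM (sigmaCore_le M)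
  have hsolvσ : Group.IsSolvable ↥(Cfsg.sigmaCore M) := hG.2.2.2 _ hMσt
  have hPT₀ : P ≤ Subgroup.centralizer (T₀ : Set G) := by
    intro a ha
    rw [Subgroup.mem_centralizer_iff]
    intro y hy
    exact ((Subgroup.mem_centralizer_iff.mp (hDP (hT₀D hy))) a ha).symm
  have hPRT₀ : P ⊔ R ≤ Subgroup.normalizer (T₀ : Set G) :=
    sup_le (hPT₀.trans (Subgroup.centralizer_le_normalizer _)) hRT₀
  obtain ⟨T, hT, hPRT, hT₀T⟩ := Cfsg.Agent.H2.BG11.exists_inv_sylow (q := t) hPRN hcopPR hsolvσ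
    (hT₀D.trans hDM) hPRT₀ hT₀p
  have hTp : IsPGroup t ↥T := hT.isPGroup
  have hTtop : IsSylowIn t T ⊤ :=
    Cfsg.Agent.H2.BG11.sylIn_top_of_not_dvd_index hT ((Cfsg.Agent.H2.BG11.sigmaCore_hall hG hM).2 t htf.out htM)
  have hTM : T ≤ M := hT.1.trans (sigmaCore_le M)
  -- Step D
  have hTL : T ⊓ L = T₀ := by
    apply Cfsg.Agent.Lib.Helper7.IsSylowIn.eq_of_le hT₀ (le_inf hT₀T (hT₀D.trans hDL))
    · rw [← hDeq]
      exact inf_le_inf_right _ hT.1
    · exact hTp.to_le inf_le_left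
  -- Step E
  have hcopPT : (Nat.card ↥P).Coprime (Nat.card ↥T) := by
    obtain ⟨k, hk⟩ := hTp.exists_card_eq
    rw [hPc, hk]
    exact Nat.Coprime.pow_right _ ((Nat.coprime_primes hp.out htf.out).mpr (Ne.symm htp))
  have hTT₀ : T₀ = T := by
    apply eq_of_centralizer_le hTp hT₀T (le_sup_left.trans hPRT) hPT₀ hcopPT
    · exact (inf_le_inf_left _ hCL).trans hTL.le
    · refine (inf_le_inf_left _ (le_trans ?_ hC₁L)).trans hTL.le
      exact Subgroup.centralizer_le (by exact_mod_cast hT₁T₀)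
  -- Step F
  have hTD : T ≤ D := hTT₀ ▸ hT₀D
  have hTLle : T ≤ L := hTD.trans hDL
  have hRT : R ≤ Subgroup.normalizer (T : Set G) := le_sup_right.trans hPRT
  have hT₁eq : T₁ = ⁅T, R⁆ := by rw [hT₁def, hTT₀]
  have hNTM : Subgroup.normalizer (T : Set G) ≤ M :=
    sigma_normalizer_le htM (Cfsg.Agent.H2.BG11.sylIn_of_sylIn_top hTtop hTM)
  have hTsL : IsSylowIn t T L := Cfsg.Agent.H2.BG11.sylIn_of_sylIn_top hTtop hTLle
  have hP1 : P ≠ ⊥ := by
    intro h0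
    rw [h0, Subgroup.card_bot] at hPc
    exact hp.out.one_lt.ne hPc
  have htL : t ∈ Cfsg.sigma L := by
    by_contra htL
    by_cases hrk : Cfsg.PRankLE t 1 ↥L
    · -- rank one: `N_G(X) ≤ L` for `X ≤ T₁` of order `t` contradicts S1409
      have hcard : t ∣ Nat.card ↥T₁ := by
        obtain ⟨k, hk⟩ := (hT₀p.to_le hT₁T₀).exists_card_eq
        rw [hk]
        refine dvd_pow_self t ?_
        intro h0
        rw [h0, pow_zero] at hk
        exact hT₁ (Subgroup.card_eq_one.mp hk)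
      obtain ⟨⟨x, hxT⟩, hx⟩ := exists_prime_orderOf_dvd_card' (G := ↥T₁) t hcard
      have hxo : orderOf x = t := by rw [← hx, Subgroup.orderOf_mk]
      set X : Subgroup G := Subgroup.zpowers x with hXdef
      have hXc : Nat.card ↥X = t := by rw [hXdef, Nat.card_zpowers, hxo]
      have hXT₁ : X ≤ T₁ := Subgroup.zpowers_le.mpr hxT
      have hX1 : X ≠ ⊥ := by
        intro h0
        rw [h0, Subgroup.card_bot] at hXc
        exact htf.out.one_lt.ne hXc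
      obtain ⟨-, -, hNX⟩ := huniq X hX1 (hXT₁.trans hT₁Y)
      exact (Cfsg.Agent.S1409.result hG L hL t htL X hXc hNX).1.2 hrk
    · -- rank two: `t ∈ τ₂(L)`, S1417(e)
      have hτ2 : t ∈ Cfsg.tau2 L := by
        refine ⟨htf.out, htL, ?_, hrk⟩
        by_contra h2
        exact htL (alpha_subset_sigma hG (uT hG) hL ⟨htf.out, h2⟩)
      obtain ⟨A', hA'L, hA'e, hA'c⟩ := Cfsg.Agent.H2.BG12.exists_elem_sq hrk
      have hA'p : IsPGroup t ↥A' := IsPGroup.of_card hA'c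
      obtain ⟨a, haL, hconj⟩ := Cfsg.Agent.Lib.Helper7.IsSylowIn.exists_conj_le hTsL hA'p hA'L
      have hcjT : cj a A' ≤ T := by
        rintro _ ⟨b, hb, rfl⟩
        exact hconj b hb
      have hcjL : cj a A' ≤ L := hcjT.trans hTLle
      have h17 := Cfsg.Agent.Lib.Helper4.BG11E.hyp1417 hG L hL t hτ2 (cj a A')
        ⟨hcjL, Cfsg.Agent.H2.BG12.isElementaryAbelian_cj hA'e a, by rw [card_cj]; exact hA'c⟩
      have h0 := h17.2.2.2.2.1 M hM (Ne.symm hLM) (hcjT.trans hTM)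
      have hPσ : P ≤ Cfsg.sigmaCore L :=
        Cfsg.Agent.H2.BG11.le_sigmaCore_of_pgroup hG hL hpL hPL hPp
      apply hP1
      rw [eq_bot_iff, ← h0]
      exact le_inf hPσ hPM
  -- `T₁` is cyclic
  have hcyc : IsCyclic ↥T₁ := by
    by_contra hncyc
    have hN := (Cfsg.Agent.S1420.result hG M hM E hE).2.2.1 t T₁ htM (hT₀p.to_le hT₁T₀)
      ((hT₁T₀.trans hT₀T).trans hTM) hncyc
    have hle : L ⊓ Subgroup.centralizer (T₁ : Set G) ≤ M :=
      inf_le_right.trans ((Subgroup.centralizer_le_normalizer _).trans hN)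
    exact hLM (Cfsg.Agent.Lib.Helper4.BGUniq.le_of_inUniqueMaximal hu₁ hL inf_le_left hM hle)
  have hTt : T ≠ ⊤ := ne_top_of_le_coatom hM hTM
  have htαM : t ∉ Cfsg.alpha M := by
    intro hα
    have h3 : ¬ Cfsg.PRankLE t 2 ↥T :=
      not_pRankLE_sylowIn (Cfsg.Agent.H2.BG11.sylIn_of_sylIn_top hTtop hTM) hα.2
    have hu := inUniqueMaximal_of_rank_three (uT hG) htf.out hTt h3
    exact hLM (Cfsg.Agent.Lib.Helper4.BGUniq.le_of_inUniqueMaximal hu hL hTLle hM hTM)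
  have htαL : t ∉ Cfsg.alpha L := by
    intro hα
    have h3 : ¬ Cfsg.PRankLE t 2 ↥T := not_pRankLE_sylowIn hTsL hα.2
    have hu := inUniqueMaximal_of_rank_three (uT hG) htf.out hTt h3
    exact hLM (Cfsg.Agent.Lib.Helper4.BGUniq.le_of_inUniqueMaximal hu hL hTLle hM hTM)
  have hNTL : Subgroup.normalizer (T : Set G) ≤ L := sigma_normalizer_le htL hTsL
  have hTcard : Nat.card ↥T = t ^ (Nat.card G).factorization t := by
    rw [hTtop.2, Subgroup.card_top]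
  refine ⟨t, htf, Sylow.ofCard T hTcard, htM, htL, htαM, htαL, ?_, ?_, ?_, ?_, ?_, ?_, ?_⟩
  · exact hTD
  · exact hRT
  · show ⁅T, R⁆ ≠ ⊥
    rw [← hT₁eq]; exact hT₁
  · show IsCyclic ↥⁅T, R⁆
    rw [← hT₁eq]; exact hcyc
  · show Subgroup.centralizer ((⁅T, R⁆ : Subgroup G) : Set G) ≤ L
    rw [← hT₁eq]; exact hC₁L
  · show Subgroup.normalizer ((⁅T, R⁆ : Subgroup G) : Set G) ≤ L
    rw [← hT₁eq]; exact hN₁L
  · exact le_inf hNTM hNTL

end Cfsg.Agent.Lib.Helper4.BG1218
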