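import Mathlib
import Cfsg.Agent.Lib.Helper4.BG1218F
import Cfsg.Agent.S1405

/-!
Bender–Glauberman Lemma 12.18 (S1428), helper4: case (2d-ii) (`p ∈ α(L)`), the input of the HH step:
a `DR`-invariant Sylow `p`-subgroup `S₁` of `L_α` containing `P`, of rank `≥ 3`, with `C_{S₁}(R)`
cyclic.
-/

set_option autoImplicit false
set_option linter.unusedSectionVars false
set_option linter.unusedVariables false
set_option linter.style.haveILetI false
set_option maxHeartbeats 1000000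
open Cfsg
open scoped commutatorElement Pointwise

namespace Cfsg.Agent.Lib.Helper4.BG1218

open Cfsg.Agent.Lib.Helper7 (IsSylowIn exists_isSylowIn_ge card_subgroupOf_of_le)
open Cfsg.Agent.Lib.Helper8.BGTen Cfsg.Agent.Lib.Helper4.BGTrans
open Cfsg.Agent.Lib.helper3.BG11 Cfsg.Agent.Lib.helper3.BG12

universe u

variable {G : Type u} [Group G] [Finite G]

theorem alphaCore_le (L : Subgroup G) : Cfsg.alphaCore L ≤ L := Subgroup.map_subtype_le _

theorem le_normalizer_alphaCore (L : Subgroup G) :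
    L ≤ Subgroup.normalizer (Cfsg.alphaCore L : Set G) :=
  Cfsg.Agent.Lib.Helper4.BGTrans.le_normalizer_piCoreOf (Cfsg.alpha L) L

/-- a `p`-subgroup of `L`, `p ∈ α(L)`, lies in `L_α` -/
theorem le_alphaCore_of_pgroup (hG : Cfsg.IsMinSimpleOddOrder G) {L : Subgroup G}
    (hL : IsCoatom L) {p : ℕ} (hp : p ∈ Cfsg.alpha L) {P : Subgroup G} (hPL : P ≤ L)
    (hP : IsPGroup p ↥P) : P ≤ Cfsg.alphaCore L :=
  Cfsg.Agent.H2.BG11.pgroup_le_of_relIndex hp.1 hPL (alphaCore_le L) (le_normalizer_alphaCore L) hP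
    ((Cfsg.Agent.S1405.result hG L hL).1.2.2 p hp.1 hp)

/-- **input of the HH step**: `p ∈ α(L)`, `L` not conjugate to `M`, `D ≤ M_σ ∩ L`, `R ≤ L` of prime
order `r ∉ σ(L)` normalizing `D`, `r_r(L) ≤ 1`, `P ≤ L` a `p`-group centralized by `D` and `R`.
Then there is a Sylow `p`-subgroup `S₁` of `G` with `P ≤ S₁ ≤ L_α`, normalized by `D` and `R`, of
rank at least `3`, with `C_{S₁}(R)` cyclic. -/
theorem exists_sylow_alphaCore (hG : Cfsg.IsMinSimpleOddOrder G) {M L D R P : Subgroup G}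
    (hM : IsCoatom M) (hL : IsCoatom L) (hnc : ∀ g : G, cj g L ≠ M)
    {p : ℕ} [hp : Fact p.Prime] (hpα : p ∈ Cfsg.alpha L)
    (hDM : D ≤ Cfsg.sigmaCore M) (hDL : D ≤ L) (hRL : R ≤ L)
    (hRD : R ≤ Subgroup.normalizer (D : Set G))
    {r : ℕ} [hr : Fact r.Prime] (hRc : Nat.card ↥R = r) (hrσ : r ∉ Cfsg.sigma L)
    (hrk : Cfsg.PRankLE r 1 ↥L)
    (hPp : IsPGroup p ↥P) (hPL : P ≤ L) (hDP : D ≤ Subgroup.centralizer (P : Set G))
    (hRP : R ≤ Subgroup.centralizer (P : Set G)) :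
    ∃ S₁ : Subgroup G, IsSylowIn p S₁ ⊤ ∧ S₁ ≤ Cfsg.alphaCore L ∧ P ≤ S₁ ∧
      D ≤ Subgroup.normalizer (S₁ : Set G) ∧ R ≤ Subgroup.normalizer (S₁ : Set G) ∧
      ¬ Cfsg.PRankLE p 2 ↥S₁ ∧ IsCyclic ↥(S₁ ⊓ Subgroup.centralizer (R : Set G)) := by
  have h1405 := Cfsg.Agent.S1405.result hG L hL
  have hPα : P ≤ Cfsg.alphaCore L := le_alphaCore_of_pgroup hG hL hpα hPL hPp
  have hDRL : D ⊔ R ≤ L := sup_le hDL hRL
  have hAX : D ⊔ R ≤ Subgroup.normalizer (Cfsg.alphaCore L : Set G) :=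
    hDRL.trans (le_normalizer_alphaCore L)
  have hcop : (Nat.card ↥(D ⊔ R : Subgroup G)).Coprime (Nat.card ↥(Cfsg.alphaCore L)) := by
    apply Nat.coprime_of_dvd
    intro k hk hkA hkα
    haveI : Fact k.Prime := ⟨hk⟩
    have hkαL : k ∈ Cfsg.alpha L := h1405.1.2.1 k hk hkα
    have h2 : k ∣ Nat.card ↥R * Nat.card ↥D :=
      hkA.trans (by rw [sup_comm]; exact Cfsg.Agent.Lib.BG127H7.card_sup_dvd_of_le_normalizer hRD)
    rcases (Nat.Prime.dvd_mul hk).mp h2 with h | h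
    · rw [hRc] at h
      have : k = r := (Nat.prime_dvd_prime_iff_eq hk hr.out).mp h
      exact hrσ (this ▸ alpha_subset_sigma hG (uT hG) hL hkαL)
    · have hkM : k ∈ Cfsg.sigma M :=
        mem_sigma_of_dvd_sigmaCore hG hM hk (h.trans (Subgroup.card_dvd_of_le hDM))
      obtain ⟨g, hg⟩ := exists_cj_eq_of_alpha_sigma hG hM hL hkαL hkM
      exact hnc g hg
  have hαt : Cfsg.alphaCore L ≠ ⊤ := ne_top_of_le_coatom hL (alphaCore_le L)
  have hsolv : Group.IsSolvable ↥(Cfsg.alphaCore L) := hG.2.2.2 _ hαt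
  have hAU : D ⊔ R ≤ Subgroup.normalizer (P : Set G) :=
    sup_le (hDP.trans (Subgroup.centralizer_le_normalizer _))
      (hRP.trans (Subgroup.centralizer_le_normalizer _))
  obtain ⟨S₁, hS₁, hN, hPS₁⟩ :=
    Cfsg.Agent.H2.BG11.exists_inv_sylow (q := p) hAX hcop hsolv hPα hAU hPp
  have hS₁top : IsSylowIn p S₁ ⊤ :=
    Cfsg.Agent.H2.BG11.sylIn_top_of_not_dvd_index hS₁ (h1405.2.1.2 p hp.out hpα)
  have hS₁L : IsSylowIn p S₁ L :=
    Cfsg.Agent.H2.BG11.sylIn_of_sylIn_top hS₁top (hS₁.1.trans (alphaCore_le L))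
  refine ⟨S₁, hS₁top, hS₁.1, hPS₁, le_sup_left.trans hN, le_sup_right.trans hN,
    not_pRankLE_sylowIn hS₁L hpα.2, ?_⟩
  have h125 := rankLE_one_alphaCore_inf_centralizer hG hL hrσ hrk hRL hRc
  exact Cfsg.Agent.Lib.Helper4.BGTw.isCyclic_of_pRankLE_one hG (h125 p hp.out)
    (inf_le_inf_right _ hS₁.1) (hS₁.isPGroup.to_le inf_le_left)

end Cfsg.Agent.Lib.Helper4.BG1218
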