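import Mathlib
import Cfsg.Agent.Lib.Helper4.BG1218G
import Cfsg.Agent.Lib.helper3.BG12H

/-!
Bender–Glauberman Lemma 12.18 (S1428), helper4: from the residual configuration `Resid0` to the
package `Resid` of Part 13 of the lead blueprint (via B&G 12.14(c), helper3's `pair_c`), and
Step Y (two `Resid`'s with `P`, `R` swapped contradict each other).
-/

set_option autoImplicit false
set_option linter.unusedSectionVars false
set_option linter.unusedVariables false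
set_option linter.style.haveILetI false
set_option maxHeartbeats 1000000
open Cfsg
open scoped commutatorElement Pointwise

namespace Cfsg.Agent.Lib.Helper4.BG1218

open Cfsg.Agent.Lib.Helper7 (IsSylowIn exists_isSylowIn_ge card_subgroupOf_of_le)
open Cfsg.Agent.Lib.Helper8.BGTen Cfsg.Agent.Lib.Helper4.BGTrans
open Cfsg.Agent.Lib.helper3.BG11 Cfsg.Agent.Lib.helper3.BG12

universe u

variable {G : Type u} [Group G] [Finite G]

/-- the package of Part 13 of the blueprint: `r = |R| ∈ τ₁(M)`, `M_α ≠ 1`, `[M_σ, P] ≤ M_α`, and a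
`t`-subgroup `T ≤ M_σ` (`t ∉ α(M)`) normalized by `R` with `[T, R] ≠ 1`, `C_G([T, R]) ≤ L ≠ M`,
centralizing `C_{M_α}(P)`. -/
def Resid (M P R : Subgroup G) : Prop :=
  Nat.card ↥R ∈ Cfsg.tau1 M ∧ Cfsg.alphaCore M ≠ ⊥ ∧ ⁅Cfsg.sigmaCore M, P⁆ ≤ Cfsg.alphaCore M ∧
  ∃ (L : Subgroup G) (t : ℕ) (_ : Fact t.Prime) (T : Subgroup G),
    IsCoatom L ∧ L ≠ M ∧ t ∉ Cfsg.alpha M ∧ IsPGroup t ↥T ∧ T ≤ Cfsg.sigmaCore M ∧
    R ≤ Subgroup.normalizer (T : Set G) ∧ ⁅T, R⁆ ≠ ⊥ ∧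
    Subgroup.centralizer ((⁅T, R⁆ : Subgroup G) : Set G) ≤ L ∧
    T ≤ Subgroup.centralizer
      ((Cfsg.alphaCore M ⊓ Subgroup.centralizer (P : Set G) : Subgroup G) : Set G)

theorem exists_mul_of_mem_sup_le_normalizer {H N : Subgroup G}
    (hHN : H ≤ Subgroup.normalizer (N : Set G)) {x : G} (hx : x ∈ N ⊔ H) :
    ∃ n ∈ N, ∃ h ∈ H, x = n * h := by
  rw [Subgroup.sup_eq_closure_mul] at hx
  induction hx using Subgroup.closure_induction with
  | mem y hy =>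
    obtain ⟨c, hc, r, hr, rfl⟩ := hy
    exact ⟨c, hc, r, hr, rfl⟩
  | one => exact ⟨1, N.one_mem, 1, H.one_mem, (mul_one 1).symm⟩
  | mul a b _ _ iha ihb =>
    obtain ⟨c₁, hc₁, r₁, hr₁, rfl⟩ := iha
    obtain ⟨c₂, hc₂, r₂, hr₂, rfl⟩ := ihb
    refine ⟨c₁ * (r₁ * c₂ * r₁⁻¹),
      N.mul_mem hc₁ ((Subgroup.mem_normalizer_iff.mp (hHN hr₁) c₂).mp hc₂),
      r₁ * r₂, H.mul_mem hr₁ hr₂, by group⟩
  | inv a _ iha =>
    obtain ⟨c, hc, r, hr, rfl⟩ := iha
    refine ⟨r⁻¹ * c⁻¹ * r⁻¹⁻¹, ?_, r⁻¹, H.inv_mem hr, by group⟩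
    exact (Subgroup.mem_normalizer_iff.mp (hHN (H.inv_mem hr)) c⁻¹).mp (N.inv_mem hc)

/-- `α(M) ∩ σ(L) = ∅` for non-conjugate `M`, `L`: `M_α ∩ L_σ = 1`. -/
theorem alphaCore_inf_sigmaCore_eq_bot (hG : Cfsg.IsMinSimpleOddOrder G) {M L : Subgroup G}
    (hM : IsCoatom M) (hL : IsCoatom L) (hnc : ∀ g : G, cj g L ≠ M) :
    Cfsg.alphaCore M ⊓ Cfsg.sigmaCore L = ⊥ := by
  apply Subgroup.inf_eq_bot_of_coprime
  apply Nat.coprime_of_dvd
  intro k hk hkα hkσ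
  haveI : Fact k.Prime := ⟨hk⟩
  have hkαM : k ∈ Cfsg.alpha M := (Cfsg.Agent.S1405.result hG M hM).1.2.1 k hk hkα
  have hkL : k ∈ Cfsg.sigma L := mem_sigma_of_dvd_sigmaCore hG hL hk hkσ
  obtain ⟨g, hg⟩ := exists_cj_eq_of_alpha_sigma hG hL hM hkαM hkL
  apply hnc g⁻¹
  rw [← hg, cj_inv_cj]

/-- **Resid0 ⇒ Resid** (blueprint Part 13, (R1), (R2)). -/
theorem resid_of_resid0 (hG : Cfsg.IsMinSimpleOddOrder G) {M L E P R : Subgroup G}
    (hM : IsCoatom M) (hL : IsCoatom L) (hE : Cfsg.IsComplIn E (Cfsg.sigmaCore M) M)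
    {p : ℕ} [hp : Fact p.Prime] (hpM : p ∉ Cfsg.sigma M) (hpL : p ∈ Cfsg.sigma L)
    (hPE : P ≤ E) (hPc : Nat.card ↥P = p) (hCL : Subgroup.centralizer (P : Set G) ≤ L)
    (hRE : R ≤ E) (hRP : R ≤ Subgroup.centralizer (P : Set G)) (hRc : (Nat.card ↥R).Prime)
    (hrL : Nat.card ↥R ∈ Cfsg.tau1 L) (hres : Resid0 M L P R) : Resid M P R := by
  obtain ⟨t, htf, T, htM, htL, htαM, htαL, hTD, hRT, hT₁, hcyc, hC₁L, hN₁L, hNT⟩ := hres
  haveI := htf
  have hEM : E ≤ M := hE.1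
  have hPM : P ≤ M := hPE.trans hEM
  have hRM : R ≤ M := hRE.trans hEM
  have hPel := Cfsg.Agent.Lib.Helper4.BGUniq.isElementaryAbelian_of_card_prime hPc
  have hPP : P ≤ Subgroup.centralizer (P : Set G) := by
    intro a ha
    rw [Subgroup.mem_centralizer_iff]
    intro b hb
    have := hPel.1.is_comm.comm (⟨b, hb⟩ : ↥P) ⟨a, ha⟩
    exact congrArg Subtype.val this
  have hPL : P ≤ L := hPP.trans hCL
  have hPp : IsPGroup p ↥P := IsPGroup.of_card (n := 1) (by rw [hPc, pow_one])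
  have hnc := cj_ne_of_sigma hG hpL hpM
  have hLM : L ≠ M := fun h => hnc 1 (by rw [cj_one, h])
  have hDeq : Cfsg.sigmaCore M ⊓ L = Cfsg.sigmaCore M ⊓ Subgroup.centralizer (P : Set G) :=
    sigmaCore_inf_eq_centralizer hG hM hL hpL hpM hPp hPM hPL hCL
  have hT1 : (T : Subgroup G) ≠ ⊥ := by
    intro h0
    apply hT₁
    rw [h0]
    exact Subgroup.commutator_bot_left R
  obtain ⟨hML, hLM'⟩ := pair_c hG hM hL hnc (Cfsg.Agent.Lib.Helper7.IsSylowIn.of_sylow_top T) hT1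
    (hNT.trans inf_le_left) (hNT.trans inf_le_right)
  obtain ⟨-, hc1, -, hαβ, hα1, hc2⟩ := hML
  have hrσ : Nat.card ↥R ∉ Cfsg.sigma M := by
    apply Cfsg.Agent.H2.BG12.not_mem_sigma_of_dvd_compl hG hM hE hRc
    exact Subgroup.card_dvd_of_le hRE
  have hrα : Nat.card ↥R ∉ Cfsg.alpha M := fun h => hrσ (alpha_subset_sigma hG (uT hG) hM h)
  have hαM : Cfsg.alphaCore M ≤ M := alphaCore_le M
  have hασ : Cfsg.alphaCore M ≤ Cfsg.sigmaCore M := (Cfsg.Agent.S1405.result hG M hM).2.2.1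
  have hTM : (T : Subgroup G) ≤ M := (hTD.trans inf_le_left).trans (sigmaCore_le M)
  have hTL : (T : Subgroup G) ≤ L := (hTD.trans inf_le_right).trans hCL
  refine ⟨hc2 _ hrL hrα, hα1, ?_, L, t, htf, (T : Subgroup G), hL, hLM, htαM, T.isPGroup',
    hTD.trans inf_le_left, hRT, hT₁, hC₁L, ?_⟩
  · -- (R1): `[M_σ, P] ≤ M_α`
    rw [Subgroup.commutator_le]
    intro x hx y hy
    have hxM : x ∈ Cfsg.alphaCore M ⊔ (M ⊓ L) := by
      rw [hαβ]
      exact hc1 (sigmaCore_le M hx)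
    obtain ⟨a, ha, j, hj, rfl⟩ := exists_mul_of_mem_sup_le_normalizer
      (inf_le_left.trans (le_normalizer_alphaCore M)) hxM
    have hjσ : j ∈ Cfsg.sigmaCore M := by
      have : j = a⁻¹ * (a * j) := by group
      rw [this]
      exact Subgroup.mul_mem _ (Subgroup.inv_mem _ (hασ ha)) hx
    have hjD : j ∈ Cfsg.sigmaCore M ⊓ Subgroup.centralizer (P : Set G) := by
      rw [← hDeq]
      exact ⟨hjσ, hj.2⟩
    have hjy : y * j = j * y := Subgroup.mem_centralizer_iff.mp hjD.2 y hy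
    have hyN : y ∈ Subgroup.normalizer (Cfsg.alphaCore M : Set G) :=
      le_normalizer_alphaCore M (hPM hy)
    have h1 : y * a⁻¹ * y⁻¹ ∈ Cfsg.alphaCore M :=
      (Subgroup.mem_normalizer_iff.mp hyN a⁻¹).mp (Subgroup.inv_mem _ ha)
    have h2 : ⁅a * j, y⁆ = a * (y * a⁻¹ * y⁻¹) := by
      rw [commutatorElement_def]
      have : a * j * y * (a * j)⁻¹ * y⁻¹ = a * (j * y) * j⁻¹ * a⁻¹ * y⁻¹ := by group
      rw [this, ← hjy]
      group
    rw [h2]
    exact Subgroup.mul_mem _ ha h1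
  · -- (R2): `T` centralizes `C_{M_α}(P)`
    set Z : Subgroup G := Cfsg.alphaCore M ⊓ Subgroup.centralizer (P : Set G) with hZ
    have hTσL : (T : Subgroup G) ≤ Cfsg.sigmaCore L :=
      Cfsg.Agent.H2.BG11.le_sigmaCore_of_pgroup hG hL htL hTL T.isPGroup'
    have h1 : ⁅Z, (T : Subgroup G)⁆ ≤ Cfsg.alphaCore M :=
      (Subgroup.commutator_mono inf_le_left le_rfl).trans
        (commutator_le_left_of_le_normalizer (hTM.trans (le_normalizer_alphaCore M)))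
    have hZL : Z ≤ L := inf_le_right.trans hCL
    have h2 : ⁅Z, (T : Subgroup G)⁆ ≤ Cfsg.sigmaCore L := by
      refine (Subgroup.commutator_mono le_rfl hTσL).trans ?_
      rw [Subgroup.commutator_comm]
      exact commutator_le_left_of_le_normalizer (hZL.trans (le_normalizer_sigmaCore L))
    have h3 : ⁅Z, (T : Subgroup G)⁆ = ⊥ := by
      rw [eq_bot_iff, ← alphaCore_inf_sigmaCore_eq_bot hG hM hL hnc]
      exact le_inf h1 h2
    rw [Subgroup.commutator_comm, Subgroup.commutator_eq_bot_iff_le_centralizer] at h3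
    exact h3

/-- **Step Y** (swap): `Resid M P R` and `Resid M R P` contradict each other. -/
theorem resid_swap_false (hG : Cfsg.IsMinSimpleOddOrder G) {M P R : Subgroup G}
    (hM : IsCoatom M) (h1 : Resid M P R) (h2 : Resid M R P) : False := by
  obtain ⟨-, -, -, L, t, htf, T, hL, hLM, htα, hTp, hTσ, hRT, hT₁, -, -⟩ := h1
  obtain ⟨-, -, hRα, -⟩ := h2
  haveI := htf
  apply hT₁
  have h3 : ⁅T, R⁆ ≤ Cfsg.alphaCore M := (Subgroup.commutator_mono hTσ le_rfl).trans hRα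
  have h4 : ⁅T, R⁆ ≤ T := commutator_le_left_of_le_normalizer hRT
  have h5 : Cfsg.alphaCore M ⊓ T = ⊥ := by
    apply Subgroup.inf_eq_bot_of_coprime
    obtain ⟨k, hk⟩ := hTp.exists_card_eq
    rw [hk]
    apply Nat.Coprime.pow_right
    rw [Nat.coprime_comm, Nat.Prime.coprime_iff_not_dvd htf.out]
    intro hd
    exact htα ((Cfsg.Agent.S1405.result hG M hM).1.2.1 t htf.out hd)
  rw [eq_bot_iff, ← h5]
  exact le_inf h3 h4

end Cfsg.Agent.Lib.Helper4.BG1218
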