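import Mathlib
import Cfsg.Agent.Lib.Helper4.BGUniqF
import Cfsg.Agent.H2.RankTwoGraph
import Cfsg.Agent.H2.BG12.D

/-!
Bender–Glauberman Lemma 12.13 (S1423), helper4: the `p`-group lemmas.

* `exists_elementary_sq_ge`: a subgroup of order `p` of a `p`-group of rank at least 2 lies in an
  elementary abelian subgroup of order `p ^ 2`;
* `exists_elementary_sq_rank_three`: a `p`-group `Q` of rank at least 3 has an elementary abelian
  subgroup `V` of order `p ^ 2` centralizing `[Q, Q]` whose centralizer has rank at least 3;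
* `inf_commutator_le`: if `S` has a normal `p`-complement and `P` is a Sylow `p`-subgroup then
  `P ∩ S' ≤ P'`;
* `commutator_central_of_central_product`: `[P, P] ≤ Z(P)` for the groups of S1412.
-/

set_option autoImplicit false

open scoped commutatorElement

namespace Cfsg.Agent.Lib.Helper4.BG12

open Cfsg Cfsg.Agent.Lib.Helper4.BGUniq

universe u

section general

variable {G : Type u} [Group G] [Finite G]

/-- a subgroup of order `p` of a `p`-group `Q` of rank at least 2 lies in an elementary abelian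
subgroup of order `p ^ 2` of `Q` -/
theorem exists_elementary_sq_ge {p : ℕ} [hp : Fact p.Prime] {Q X : Subgroup G}
    (hQ : IsPGroup p ↥Q) (hr : ¬ Cfsg.PRankLE p 1 ↥Q) (hXQ : X ≤ Q) (hX : Nat.card ↥X = p) :
    ∃ A : Subgroup G, Cfsg.IsElementaryAbelian p A ∧ Nat.card ↥A = p ^ 2 ∧ X ≤ A ∧ A ≤ Q := by
  have hXel := isElementaryAbelian_of_card_prime hX
  -- it suffices to find an elementary abelian `E ≤ Q` commuting with `X`, with `X ⊔ E` of order `> p`
  have key : ∀ E : Subgroup G, Cfsg.IsElementaryAbelian p E → E ≤ Q →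
      (∀ a ∈ X, ∀ b ∈ E, a * b = b * a) → ¬ E ≤ X →
      ∃ A : Subgroup G, Cfsg.IsElementaryAbelian p A ∧ Nat.card ↥A = p ^ 2 ∧ X ≤ A ∧ A ≤ Q := by
    intro E hEel hEQ hc hEX
    have hWel : Cfsg.IsElementaryAbelian p (X ⊔ E) :=
      Cfsg.Agent.H2.RankTwoGraph.isElementaryAbelian_sup hXel hEel hc
    have hWcard : p ^ 1 < Nat.card ↥(X ⊔ E : Subgroup G) := by
      by_contra hle
      push Not at hle
      have h1 : X = X ⊔ E :=
        Subgroup.eq_of_le_of_card_ge le_sup_left (by rw [hX]; simpa using hle)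
      apply hEX
      rw [h1]
      exact le_sup_right
    have hW2 := pow_succ_le_card (isPGroup_of_isElementaryAbelian hWel) hWcard
    obtain ⟨A, hAel, hAcard, hXA, hAW⟩ := exists_card_pow hWel (le_sup_left : X ≤ _) (n := 1)
      (m := 2) (by rw [hX, pow_one]) (by norm_num) hW2
    exact ⟨A, hAel, hAcard, hXA, hAW.trans (sup_le hXQ hEQ)⟩
  -- a central element of order `p`
  haveI : Nontrivial ↥Q := by
    rw [← Finite.one_lt_card_iff_nontrivial]
    calc 1 < p := hp.out.one_lt
      _ = Nat.card ↥X := hX.symm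
      _ ≤ Nat.card ↥Q := Subgroup.card_le_of_le hXQ
  haveI := hQ.center_nontrivial
  have hZp : IsPGroup p ↥(Subgroup.center ↥Q) := hQ.to_subgroup _
  obtain ⟨k, hk⟩ := hZp.exists_card_eq
  have hk0 : k ≠ 0 := by
    rintro rfl
    have h1 : 1 < Nat.card ↥(Subgroup.center ↥Q) := Finite.one_lt_card
    rw [hk, pow_zero] at h1
    exact lt_irrefl _ h1
  have hdvd : p ∣ Nat.card ↥(Subgroup.center ↥Q) := by
    rw [hk]; exact dvd_pow_self p hk0
  obtain ⟨⟨z', hz'c⟩, hz'⟩ := exists_prime_orderOf_dvd_card' (G := ↥(Subgroup.center ↥Q)) p hdvd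
  have hzo : orderOf (z' : G) = p := by
    rw [← hz', Subgroup.orderOf_mk, Subgroup.orderOf_coe]
  have hzp : (z' : G) ^ p = 1 := by rw [← hzo]; exact pow_orderOf_eq_one _
  have hz1 : (z' : G) ≠ 1 := by
    intro h
    rw [h, orderOf_one] at hzo
    exact hp.out.one_lt.ne hzo
  have hzcomm : ∀ x ∈ Q, x * (z' : G) = (z' : G) * x := by
    intro x hx
    have := Subgroup.mem_center_iff.1 hz'c ⟨x, hx⟩
    exact congrArg Subtype.val this
  by_cases hzX : (z' : G) ∈ X
  · -- `X = ⟨z⟩` is central in `Q`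
    have hXz : X = Subgroup.zpowers (z' : G) := by
      symm
      apply Subgroup.eq_of_le_of_card_ge (Subgroup.zpowers_le.2 hzX)
      rw [Nat.card_zpowers, hzo, hX]
    obtain ⟨E, hEQ, hEel, hEcard⟩ := Cfsg.Agent.H2.BGU.exists_elementary_of_not_pRankLE hr
    apply key E hEel hEQ
    · intro a ha b hb
      rw [hXz] at ha
      obtain ⟨m, rfl⟩ := ha
      have h1 : Commute b (z' : G) := hzcomm b (hEQ hb)
      exact (h1.zpow_right m).symm
    · intro hEX
      have h1 := Subgroup.card_le_of_le hEX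
      rw [hX] at h1
      have h2 : p ^ (1 + 1) ≤ p := hEcard.trans h1
      have h3 : p < p ^ (1 + 1) := by
        calc p = p ^ 1 := (pow_one p).symm
          _ < p ^ (1 + 1) := Nat.pow_lt_pow_right hp.out.one_lt (by norm_num)
      omega
  · apply key (Subgroup.zpowers (z' : G)) (isElementaryAbelian_zpowers hzp)
      (Subgroup.zpowers_le.2 z'.2)
    · rintro a ha _ ⟨m, rfl⟩
      have h1 : Commute a (z' : G) := hzcomm a (hXQ ha)
      exact h1.zpow_right m
    · intro h
      exact hzX (h (Subgroup.mem_zpowers _))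

/-- the commutator subgroup of a `p`-group lies in every normal subgroup of index at most `p` -/
theorem commutator_le_of_index_le {R : Type*} [Group R] [Finite R] {p : ℕ} [hp : Fact p.Prime]
    (hR : IsPGroup p R) (C : Subgroup R) [C.Normal] (hidx : C.index ≤ p) :
    _root_.commutator R ≤ C := by
  have hcyc : IsCyclic (R ⧸ C) := by
    obtain ⟨j, hj⟩ := (hR.to_quotient C).exists_card_eq
    have hcard : Nat.card (R ⧸ C) = C.index := rfl
    rcases j with _ | j
    · rw [pow_zero] at hj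
      haveI : Subsingleton (R ⧸ C) := (Nat.card_eq_one_iff_unique.mp hj).1
      exact isCyclic_of_subsingleton
    · have h1 : p ^ (j + 1) ≤ p ^ 1 := by rw [pow_one, ← hj, hcard]; exact hidx
      have h2 : j + 1 ≤ 1 := (Nat.pow_le_pow_iff_right hp.out.one_lt).1 h1
      have h3 : j = 0 := by omega
      rw [h3, zero_add, pow_one] at hj
      exact isCyclic_of_prime_card hj
  letI : CommGroup (R ⧸ C) := IsCyclic.commGroup
  have h := Abelianization.commutator_subset_ker (QuotientGroup.mk' C)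
  rwa [QuotientGroup.ker_mk'] at h

/-- a `p`-group `Q` of rank at least 3 has an elementary abelian subgroup `V` of order `p ^ 2`
centralizing `[Q, Q]`, with `C_G(V)` of `p`-rank at least 3 -/
theorem exists_elementary_sq_rank_three {p : ℕ} [hp : Fact p.Prime] {Q : Subgroup G}
    (hQ : IsPGroup p ↥Q) (hr : ¬ Cfsg.PRankLE p 2 ↥Q) :
    ∃ V : Subgroup G, V ≤ Q ∧ Cfsg.IsElementaryAbelian p V ∧ Nat.card ↥V = p ^ 2 ∧
      (∀ x ∈ ⁅Q, Q⁆, ∀ v ∈ V, x * v = v * x) ∧
      ¬ Cfsg.PRankLE p 2 ↥(Subgroup.centralizer (V : Set G)) := by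
  obtain ⟨U, hUn, hUel, hUcard, hiff⟩ := Cfsg.Agent.H2.RankTwoGraph.main p hQ hr
  have hbase : ¬ Cfsg.PRankLE p 2 ↥(Subgroup.centralizer (U : Set ↥Q)) :=
    (hiff U hUel hUcard.ge).1 Relation.ReflTransGen.refl
  have hidx : (Subgroup.centralizer (U : Set ↥Q)).index ≤ p := by
    have := Cfsg.Agent.H1.index_centralizer_le_of_normal hQ 2 U hUn hUcard
    simpa [Finset.sum_range_succ] using this
  haveI := hUn
  have hcomm := commutator_le_of_index_le hQ (Subgroup.centralizer (U : Set ↥Q)) hidx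
  refine ⟨U.map Q.subtype, Subgroup.map_subtype_le _, isElementaryAbelian_map _ hUel, ?_, ?_, ?_⟩
  · rw [Subgroup.card_map_of_injective Q.subtype_injective, hUcard]
  · intro x hx v hv
    obtain ⟨v', hv', rfl⟩ := hv
    have h1 : ⁅Q, Q⁆ = (_root_.commutator ↥Q).map Q.subtype := by
      rw [_root_.commutator_def, Subgroup.map_commutator, ← MonoidHom.range_eq_map,
        Subgroup.range_subtype]
    rw [h1] at hx
    obtain ⟨x', hx', rfl⟩ := hx
    have h2 := Subgroup.mem_centralizer_iff.1 (hcomm hx') v' hv'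
    exact (congrArg Subtype.val h2).symm
  · obtain ⟨W, hWel, hWC, hWcard⟩ := Cfsg.Agent.H2.RankTwoGraph.exists_of_not_pRankLE hbase
    apply not_pRankLE_of_le (isElementaryAbelian_map Q.subtype hWel) (k := 2)
    · rintro _ ⟨w, hw, rfl⟩
      rw [Subgroup.mem_centralizer_iff]
      rintro _ ⟨v, hv, rfl⟩
      have h2 := Subgroup.mem_centralizer_iff.1 (hWC hw) v hv
      exact congrArg Subtype.val h2
    · rw [Subgroup.card_map_of_injective Q.subtype_injective]
      exact hWcard

/-- `[xy, g] = x[y, g]x⁻¹ [x, g]` -/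
theorem commutatorElement_mul_left' (x y g : G) : ⁅x * y, g⁆ = x * ⁅y, g⁆ * x⁻¹ * ⁅x, g⁆ := by
  simp only [commutatorElement_def]; group

/-- `[g, xy] = [g, x] x[g, y]x⁻¹` -/
theorem commutatorElement_mul_right' (g x y : G) : ⁅g, x * y⁆ = ⁅g, x⁆ * (x * ⁅g, y⁆ * x⁻¹) := by
  simp only [commutatorElement_def]; group

/-- for the groups `P = P₁ ∘ P₂` of S1412, `[P, P]` is central in `P` -/
theorem commutator_central_of_central_product {p : ℕ} [hp : Fact p.Prime] {P P₁ P₂ : Subgroup G}
    (hsup : P₁ ⊔ P₂ = P) (hc : ∀ a ∈ P₁, ∀ b ∈ P₂, a * b = b * a)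
    (hna : ¬ IsMulCommutative ↥P₁) (hcard : Nat.card ↥P₁ = p ^ 3)
    (hexp : Monoid.exponent ↥P₁ = p) (hcyc : IsCyclic ↥P₂) :
    ∀ x ∈ ⁅P, P⁆, ∀ y ∈ P, x * y = y * x := by
  have hE := Cfsg.Agent.H2.BG12.extra_of_card_cube hcard hna hexp
  set Z : Subgroup G := P₁ ⊓ Subgroup.centralizer (P₁ : Set G) with hZ
  -- `P₂` is central in `P`
  have hP₂ab : ∀ a ∈ P₂, ∀ b ∈ P₂, a * b = b * a := by
    intro a ha b hb
    haveI := hcyc
    have := IsCyclic.commGroup.mul_comm (⟨a, ha⟩ : ↥P₂) ⟨b, hb⟩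
    exact congrArg Subtype.val this
  have hP₂c : ∀ b ∈ P₂, ∀ y ∈ P, b * y = y * b := by
    intro b hb y hy
    rw [← hsup] at hy
    obtain ⟨a, ha, b', hb', rfl⟩ := Cfsg.Agent.H2.BG12.mem_sup_of_comm hc hy
    calc b * (a * b') = (b * a) * b' := by group
      _ = (a * b) * b' := by rw [hc a ha b hb]
      _ = a * (b * b') := by group
      _ = a * (b' * b) := by rw [hP₂ab b hb b' hb']
      _ = a * b' * b := by group
  -- commutators lie in `Z`
  have hle : ⁅P, P⁆ ≤ Z := by
    rw [Subgroup.commutator_le]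
    intro g₁ hg₁ g₂ hg₂
    have hg₁' := hg₁
    have hg₂' := hg₂
    rw [← hsup] at hg₁' hg₂'
    obtain ⟨a₁, ha₁, b₁, hb₁, rfl⟩ := Cfsg.Agent.H2.BG12.mem_sup_of_comm hc hg₁'
    obtain ⟨a₂, ha₂, b₂, hb₂, rfl⟩ := Cfsg.Agent.H2.BG12.mem_sup_of_comm hc hg₂'
    have e1 : ⁅a₁ * b₁, b₂⁆ = 1 := by
      rw [commutatorElement_eq_one_iff_mul_comm]
      exact (hP₂c b₂ hb₂ _ hg₁).symm
    have e2 : ⁅b₁, a₂⁆ = 1 := by
      rw [commutatorElement_eq_one_iff_mul_comm]
      exact (hc a₂ ha₂ b₁ hb₁).symm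
    have e3 : ⁅a₁ * b₁, a₂ * b₂⁆ = ⁅a₁, a₂⁆ := by
      rw [commutatorElement_mul_right', e1, commutatorElement_mul_left', e2]
      group
    rw [e3]
    have := hE.comm a₁ ha₁ a₂ ha₂
    rwa [← commutatorElement_def] at this
  intro x hx y hy
  have hxZ := hle hx
  rw [← hsup] at hy
  obtain ⟨a, ha, b, hb, rfl⟩ := Cfsg.Agent.H2.BG12.mem_sup_of_comm hc hy
  have h1 : x * a = a * x := hE.central x hxZ a ha
  have h2 : x * b = b * x := hc x hxZ.1 b hb
  calc x * (a * b) = (x * a) * b := by group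
    _ = (a * x) * b := by rw [h1]
    _ = a * (x * b) := by group
    _ = a * (b * x) := by rw [h2]
    _ = a * b * x := by group

end general

section npc

/-- if `S` has a normal `p`-complement and `P` is a Sylow `p`-subgroup of `S` then
`P ∩ S' ≤ P'` -/
theorem inf_commutator_le {S : Type*} [Group S] [Finite S] {p : ℕ} [hp : Fact p.Prime]
    (h : Cfsg.HasNormalPComplement p S) (P : Sylow p S) :
    (P : Subgroup S) ⊓ _root_.commutator S ≤ ⁅(P : Subgroup S), (P : Subgroup S)⁆ := by
  obtain ⟨P₀, N, hN, hcompl⟩ := h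
  haveI := hN
  -- `|N|` is prime to `p`
  have hcardN : Nat.card ↥N * Nat.card ↥(P₀ : Subgroup S) = Nat.card S := hcompl.card_mul
  have hcopN : (Nat.card ↥N).Coprime p := by
    rw [Nat.coprime_comm, Nat.Prime.coprime_iff_not_dvd hp.out]
    intro hd
    have h1 := P₀.not_dvd_index
    apply h1
    have h2 := (P₀ : Subgroup S).card_mul_index
    have h3 : Nat.card ↥N = (P₀ : Subgroup S).index := by
      have h4 : Nat.card ↥(P₀ : Subgroup S) * Nat.card ↥N
          = Nat.card ↥(P₀ : Subgroup S) * (P₀ : Subgroup S).index := by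
        rw [h2, mul_comm, hcardN]
      exact Nat.eq_of_mul_eq_mul_left Nat.card_pos h4
    rwa [← h3]
  -- `N ∩ P = 1`
  have hdisj : ∀ x ∈ N, x ∈ (P : Subgroup S) → x = 1 := by
    intro x hxN hxP
    have h1 : (N ⊓ (P : Subgroup S) : Subgroup S) = ⊥ := by
      apply Subgroup.inf_eq_bot_of_coprime
      obtain ⟨k, hk⟩ := P.2.exists_card_eq
      rw [hk]
      exact Nat.Coprime.pow_right k hcopN
    have : x ∈ (N ⊓ (P : Subgroup S) : Subgroup S) := ⟨hxN, hxP⟩
    rw [h1] at this
    exact Subgroup.mem_bot.1 this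
  -- `P` maps onto `S ⧸ N`
  have hcardP : Nat.card ↥(P : Subgroup S) = Nat.card ↥(P₀ : Subgroup S) := by
    rw [P.card_eq_multiplicity, P₀.card_eq_multiplicity]
  have hsurj : (P : Subgroup S).map (QuotientGroup.mk' N) = ⊤ := by
    apply Subgroup.eq_top_of_card_eq
    have hinj : Function.Injective ((QuotientGroup.mk' N).comp (P : Subgroup S).subtype) := by
      rw [injective_iff_map_eq_one]
      intro x hx
      have h1 : (x : S) ∈ N := by
        have : (QuotientGroup.mk' N) (x : S) = 1 := hx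
        rwa [QuotientGroup.mk'_apply, QuotientGroup.eq_one_iff] at this
      exact Subtype.ext (hdisj _ h1 x.2)
    have h1 : Nat.card ↥((P : Subgroup S).map (QuotientGroup.mk' N)) = Nat.card ↥(P : Subgroup S) := by
      have h2 : (P : Subgroup S).map (QuotientGroup.mk' N)
          = ((QuotientGroup.mk' N).comp (P : Subgroup S).subtype).range := by
        rw [MonoidHom.range_comp, Subgroup.range_subtype]
      rw [h2]
      exact (Nat.card_congr (MonoidHom.ofInjective hinj).toEquiv).symm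
    rw [h1, hcardP]
    have h3 : Nat.card (S ⧸ N) * Nat.card ↥N = Nat.card S :=
      (Subgroup.card_eq_card_quotient_mul_card_subgroup N).symm
    have h4 : Nat.card (S ⧸ N) * Nat.card ↥N = Nat.card ↥(P₀ : Subgroup S) * Nat.card ↥N := by
      rw [h3, ← hcardN, mul_comm]
    exact (Nat.eq_of_mul_eq_mul_right Nat.card_pos h4).symm
  intro x hx
  obtain ⟨hxP, hxc⟩ := hx
  -- the image of `x` lies in `(S/N)' = image of P'`
  have h1 : (QuotientGroup.mk' N) x ∈ ⁅(P : Subgroup S), (P : Subgroup S)⁆.map (QuotientGroup.mk' N) := by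
    rw [Subgroup.map_commutator, hsurj]
    have h2 : (QuotientGroup.mk' N) x ∈ (_root_.commutator S).map (QuotientGroup.mk' N) :=
      ⟨x, hxc, rfl⟩
    rw [_root_.commutator_def, Subgroup.map_commutator] at h2
    exact Subgroup.commutator_mono le_top le_top h2
  obtain ⟨y, hy, hyx⟩ := h1
  have hyP : y ∈ (P : Subgroup S) := by
    have hle : ⁅(P : Subgroup S), (P : Subgroup S)⁆ ≤ (P : Subgroup S) := by
      rw [Subgroup.commutator_le]
      intro a ha b hb
      rw [commutatorElement_def]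
      exact (P : Subgroup S).mul_mem ((P : Subgroup S).mul_mem ((P : Subgroup S).mul_mem ha hb)
        ((P : Subgroup S).inv_mem ha)) ((P : Subgroup S).inv_mem hb)
    exact hle hy
  have h3 : y⁻¹ * x ∈ N := by
    rw [← QuotientGroup.eq_one_iff, QuotientGroup.mk_mul, QuotientGroup.mk_inv]
    have : ((y : S) : S ⧸ N) = ((x : S) : S ⧸ N) := hyx
    rw [this, inv_mul_cancel]
  have h4 := hdisj _ h3 ((P : Subgroup S).mul_mem ((P : Subgroup S).inv_mem hyP) hxP)
  have h5 : x = y := by
    have : y * (y⁻¹ * x) = y * 1 := by rw [h4]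
    simpa using this
  rw [h5]
  exact hy

end npc

end Cfsg.Agent.Lib.Helper4.BG12
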