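import Mathlib
import Cfsg.Agent.Lib.Helper4.BG12C
import Cfsg.Agent.H2.BG11.B
import Cfsg.Agent.S1403
import Cfsg.Agent.S1412
import Cfsg.Agent.S1414
import Cfsg.Agent.Lib.Helper7.KNormalizer

/-!
Bender–Glauberman Lemma 12.13 (S1423), helper4: the assembly, conditional on the statement of
S1422 (nonabelian `p`-subgroups are uniqueness subgroups).
-/

set_option autoImplicit false

open scoped commutatorElement

namespace Cfsg.Agent.Lib.Helper4.BG12

open Cfsg Cfsg.Agent.Lib.Helper4.BGUniq Cfsg.Agent.Lib.Helper8.BGTen Cfsg.Agent.H2.BG11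
open Cfsg.Agent.Lib.Helper7 (IsSylowIn exists_isSylowIn_ge)

universe u

/-- the statement of S1422 for `G` -/
def Hyp1422 (G : Type u) [Group G] : Prop :=
  ∀ (p : ℕ) [Fact p.Prime] (P : Subgroup G), IsPGroup p ↥P → ¬ IsMulCommutative ↥P →
    Cfsg.InUniqueMaximal P

variable {G : Type u} [Group G] [Finite G]

/-- a uniqueness subgroup inside `M ∩ C_G(X)` makes `M` the unique maximal subgroup over `C_G(X)` -/
theorem unique_of_le_centralizer (hG : Cfsg.IsMinSimpleOddOrder G) {M U X : Subgroup G}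
    (hM : IsCoatom M) (hUM : U ≤ M) (hU : Cfsg.InUniqueMaximal U)
    (hUC : U ≤ Subgroup.centralizer (X : Set G)) (hX1 : X ≠ ⊥) :
    Subgroup.centralizer (X : Set G) ≤ M ∧
      ∀ L : Subgroup G, IsCoatom L → Subgroup.centralizer (X : Set G) ≤ L → L = M := by
  have hne := centralizer_ne_top hG hX1
  refine ⟨le_of_inUniqueMaximal_of_le hU hM hUM hUC hne, ?_⟩
  intro L hL hCL
  exact le_of_inUniqueMaximal hU hL (hUC.trans hCL) hM hUM

/-- transport of `inf_commutator_le` to subgroups of `G` -/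
theorem le_commutator_sylow {N : Subgroup G} {p : ℕ} [Fact p.Prime]
    (hnpc : Cfsg.HasNormalPComplement p ↥N) (P : Sylow p ↥N) {X : Subgroup G}
    (hXP : X ≤ (P : Subgroup ↥N).map N.subtype) (hXc : X ≤ ⁅N, N⁆) :
    X ≤ ⁅(P : Subgroup ↥N).map N.subtype, (P : Subgroup ↥N).map N.subtype⁆ := by
  intro x hx
  obtain ⟨x', hx'P, rfl⟩ := hXP hx
  have h1 : ⁅N, N⁆ = (_root_.commutator ↥N).map N.subtype := by
    rw [_root_.commutator_def, Subgroup.map_commutator, ← MonoidHom.range_eq_map,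
      Subgroup.range_subtype]
  have h2 : N.subtype x' ∈ ⁅N, N⁆ := hXc hx
  rw [h1] at h2
  obtain ⟨x'', hx'', e⟩ := h2
  have e' : x'' = x' := N.subtype_injective e
  rw [e'] at hx''
  have h3 := inf_commutator_le hnpc P ⟨hx'P, hx''⟩
  rw [← Subgroup.map_commutator]
  exact ⟨x', h3, rfl⟩

/-- the core of S1423: the case `X ≤ P` -/
theorem s1423_key (hG : Cfsg.IsMinSimpleOddOrder G) (h22 : Hyp1422 G) {M : Subgroup G}
    (hM : IsCoatom M) {p : ℕ} [hpf : Fact p.Prime] (hp : p ∈ Cfsg.sigma M) {X : Subgroup G}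
    (hX : Nat.card ↥X = p) (P : Sylow p ↥(Cfsg.sigmaCore M))
    (hXP : X ≤ (P : Subgroup ↥(Cfsg.sigmaCore M)).map (Cfsg.sigmaCore M).subtype)
    (h : p ∈ Cfsg.beta M ∨ X ≤ ⁅Cfsg.sigmaCore M, Cfsg.sigmaCore M⁆) :
    (∃ U : Subgroup G, U ≤ M ∧ Cfsg.InUniqueMaximal U ∧
        U ≤ Subgroup.centralizer (X : Set G)) ∧
      Cfsg.InUniqueMaximal ((P : Subgroup ↥(Cfsg.sigmaCore M)).map (Cfsg.sigmaCore M).subtype) := by
  set PG : Subgroup G := (P : Subgroup ↥(Cfsg.sigmaCore M)).map (Cfsg.sigmaCore M).subtype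
    with hPGdef
  have hPGs : IsSylowIn p PG (Cfsg.sigmaCore M) := IsSylowIn.of_sylow P
  have hPGtop : IsSylowIn p PG ⊤ :=
    sylIn_top_of_not_dvd_index hPGs ((sigmaCore_hall hG hM).2 p hp.1 hp)
  have hPGM : PG ≤ M := hPGs.1.trans (sigmaCore_le M)
  have hPGp : IsPGroup p ↥PG := hPGs.isPGroup
  have hPGne : PG ≠ ⊤ := Cfsg.Agent.Lib.Helper4.BGUniq.ne_top_of_le_coatom hM hPGM
  have hPGinM : IsSylowIn p PG M := sylIn_of_sylIn_top hPGtop hPGM
  have hU := Cfsg.Agent.H2.BG11.uniq hG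
  have h1p : 1 < p := hpf.out.one_lt
  have hpp : p < p ^ 2 := lt_sq hpf.out
  have hX1 : X ≠ ⊥ := by
    intro h0
    rw [h0, Subgroup.card_bot] at hX
    omega
  let S : Sylow p G := Sylow.ofCard PG (by rw [hPGtop.2, Subgroup.card_top])
  have hS : (S : Subgroup G) = PG := rfl
  by_cases hβ : p ∈ Cfsg.beta M
  · -- `p ∈ β(M)`
    obtain ⟨hα, hideal⟩ := hβ
    have hr : ¬ Cfsg.PRankLE p 2 ↥PG := not_pRankLE_sylowIn hPGinM hα.2
    have hPGU : Cfsg.InUniqueMaximal PG := inUniqueMaximal_of_rank_three hU hp.1 hPGne hr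
    have hr1 : ¬ Cfsg.PRankLE p 1 ↥PG := fun h' => hr (pRankLE_succ hp.1 h')
    obtain ⟨A, hAel, hAcard, hXA, hAPG⟩ := exists_elementary_sq_ge hPGp hr1 hXP hX
    obtain ⟨B, hBS, hBel, hAB⟩ := hideal.2.2 S A hAPG hAel hAcard
    have hBcard : p ^ 2 < Nat.card ↥B := by
      rw [← hAcard]
      by_contra hle
      push Not at hle
      exact hAB.ne (Subgroup.eq_of_le_of_card_ge hAB.le hle)
    have hBr : ¬ Cfsg.PRankLE p 2 ↥B := not_pRankLE_of_le hBel le_rfl hBcard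
    have hBM : B ≤ M := hBS.trans hPGM
    have hBU : Cfsg.InUniqueMaximal B :=
      inUniqueMaximal_of_rank_three hU hp.1 (Cfsg.Agent.Lib.Helper4.BGUniq.ne_top_of_le_coatom hM hBM) hBr
    refine ⟨⟨B, hBM, hBU, ?_⟩, hPGU⟩
    intro b hb
    rw [Subgroup.mem_centralizer_iff]
    intro x hx
    exact Cfsg.Agent.H2.RankTwoGraph.comm_of_isElementaryAbelian hBel (hAB.le (hXA hx)) hb
  · -- `p ∉ β(M)`, `X ≤ (M_σ)'`
    have hXc : X ≤ ⁅Cfsg.sigmaCore M, Cfsg.sigmaCore M⁆ := h.resolve_left hβ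
    have hnpc : Cfsg.HasNormalPComplement p ↥(Cfsg.sigmaCore M) :=
      ((Cfsg.Agent.S1414.result hG M hM).2.2.2.2 p hp.1 hp.2.1 hβ).2.1
    have hXPG' : X ≤ ⁅PG, PG⁆ := le_commutator_sylow hnpc P hXP hXc
    by_cases hr : Cfsg.PRankLE p 2 ↥PG
    · -- rank at most 2
      have hna : ¬ IsMulCommutative ↥PG := by
        intro hab
        have h0 : ⁅PG, PG⁆ = ⊥ := by
          rw [Subgroup.commutator_eq_bot_iff_le_centralizer]
          intro a ha
          rw [Subgroup.mem_centralizer_iff]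
          intro b hb
          exact congrArg Subtype.val (hab.is_comm.comm (⟨b, hb⟩ : ↥PG) ⟨a, ha⟩)
        rw [h0, le_bot_iff] at hXPG'
        exact hX1 hXPG'
      have hPGU : Cfsg.InUniqueMaximal PG := h22 p PG hPGp hna
      refine ⟨⟨PG, hPGM, hPGU, ?_⟩, hPGU⟩
      rcases Cfsg.Agent.S1412.result hG p S hr with hab | ⟨P₁, P₂, hsup, hc, hna1, hcard, hexp, hcyc, -⟩
      · exact absurd hab hna
      · have hcen := commutator_central_of_central_product (P := PG) hsup hc hna1 hcard hexp hcyc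
        intro y hy
        rw [Subgroup.mem_centralizer_iff]
        intro x hx
        exact hcen x (hXPG' hx) y hy
    · -- rank at least 3
      have hPGU : Cfsg.InUniqueMaximal PG := inUniqueMaximal_of_rank_three hU hp.1 hPGne hr
      obtain ⟨V, hVQ, hVel, hVcard, hVc, hVr⟩ := exists_elementary_sq_rank_three hPGp hr
      have hVM : V ≤ M := hVQ.trans hPGM
      have hVU : Cfsg.InUniqueMaximal V := by
        apply Cfsg.Agent.S1403.result hG V (Cfsg.Agent.Lib.Helper4.BGUniq.ne_top_of_le_coatom hM hVM)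
        · exact not_rankLE_one_of_le hp.1 hVel le_rfl (by rw [hVcard]; exact hpp)
        · right
          intro h'
          exact hVr (h' p hp.1)
      refine ⟨⟨V, hVM, hVU, ?_⟩, hPGU⟩
      intro v hv
      rw [Subgroup.mem_centralizer_iff]
      intro x hx
      exact hVc x (hXPG' hx) v hv

/-- **B&G Lemma 12.13** (the statement of S1423), from the statement of S1422 -/
theorem s1423_of (hG : Cfsg.IsMinSimpleOddOrder G) (h22 : Hyp1422 G)
    (M : Subgroup G) (hM : IsCoatom M) (p : ℕ) [hpf : Fact p.Prime] (hp : p ∈ Cfsg.sigma M)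
    (X : Subgroup G) (hXM : X ≤ M) (hX : Nat.card X = p)
    (P : Sylow p ↥(Cfsg.sigmaCore M))
    (h : p ∈ Cfsg.beta M ∨ X ≤ ⁅Cfsg.sigmaCore M, Cfsg.sigmaCore M⁆) :
    (Subgroup.centralizer (X : Set G) ≤ M ∧ ∀ L : Subgroup G, IsCoatom L →
        Subgroup.centralizer (X : Set G) ≤ L → L = M) ∧
      Cfsg.InUniqueMaximal ((P : Subgroup ↥(Cfsg.sigmaCore M)).map (Cfsg.sigmaCore M).subtype) ∧
      (P : Subgroup ↥(Cfsg.sigmaCore M)).map (Cfsg.sigmaCore M).subtype ≤ M := by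
  have hXp : IsPGroup p ↥X := IsPGroup.of_card (n := 1) (by rw [hX, pow_one])
  have hXσ : X ≤ Cfsg.sigmaCore M := le_sigmaCore_of_pgroup hG hM hp hXM hXp
  have hPGs : IsSylowIn p ((P : Subgroup ↥(Cfsg.sigmaCore M)).map (Cfsg.sigmaCore M).subtype)
      (Cfsg.sigmaCore M) := IsSylowIn.of_sylow P
  have hX1 : X ≠ ⊥ := by
    intro h0
    rw [h0, Subgroup.card_bot] at hX
    exact hpf.out.one_lt.ne hX
  obtain ⟨a, haσ, hconj⟩ := Cfsg.Agent.Lib.Helper7.IsSylowIn.exists_conj_le hPGs hXp hXσ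
  have haM : a ∈ M := sigmaCore_le M haσ
  have hX'P : cj a X ≤ (P : Subgroup ↥(Cfsg.sigmaCore M)).map (Cfsg.sigmaCore M).subtype := by
    rintro _ ⟨x, hx, rfl⟩
    exact hconj x hx
  have h' : p ∈ Cfsg.beta M ∨ cj a X ≤ ⁅Cfsg.sigmaCore M, Cfsg.sigmaCore M⁆ := by
    rcases h with h | h
    · exact Or.inl h
    · right
      rintro _ ⟨x, hx, rfl⟩
      have hxc := h hx
      have hle : ⁅Cfsg.sigmaCore M, Cfsg.sigmaCore M⁆ ≤ Cfsg.sigmaCore M := by
        rw [Subgroup.commutator_le]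
        intro u hu v hv
        rw [commutatorElement_def]
        exact Subgroup.mul_mem _ (Subgroup.mul_mem _ (Subgroup.mul_mem _ hu hv)
          (Subgroup.inv_mem _ hu)) (Subgroup.inv_mem _ hv)
      have h1 : ⁅a, x⁆ ∈ ⁅Cfsg.sigmaCore M, Cfsg.sigmaCore M⁆ :=
        Subgroup.commutator_mem_commutator haσ (hle hxc)
      have e : (MulAut.conj a).toMonoidHom x = ⁅a, x⁆ * x := by
        rw [commutatorElement_def]
        simp [MulAut.conj_apply]
      rw [e]
      exact Subgroup.mul_mem _ h1 hxc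
  obtain ⟨⟨U, hUM, hUU, hUC⟩, hPU⟩ := s1423_key hG h22 hM hp (by rw [card_cj]; exact hX) P hX'P h'
  refine ⟨?_, hPU, hPGs.1.trans (sigmaCore_le M)⟩
  -- conjugate back
  have hU' : Cfsg.InUniqueMaximal (cj a⁻¹ U) := inUniqueMaximal_map (MulAut.conj a⁻¹) hUU
  have hU'M : cj a⁻¹ U ≤ M := by
    have := cj_mono a⁻¹ hUM
    rwa [cj_eq_of_mem (M.inv_mem haM)] at this
  have hU'C : cj a⁻¹ U ≤ Subgroup.centralizer (X : Set G) := by
    have := cj_mono a⁻¹ hUC
    rwa [cj_centralizer, cj_inv_cj] at this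
  exact unique_of_le_centralizer hG hM hU'M hU' hU'C hX1

end Cfsg.Agent.Lib.Helper4.BG12
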