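import Mathlib
import Cfsg.Agent.Lib.Helper4.BG1218H
import Cfsg.Agent.Lib.Helper5.BGBetaC
import Cfsg.Agent.Lib.helper3.BG11C
import Cfsg.Agent.Lib.Helper4.NarrowSolv

/-!
Bender–Glauberman §13, helper4 (notes/BG13_helper4.md): **Lemma A0**.

`q ∈ σ(M) − β(M)`, `S` a Sylow `q`-subgroup of `M_σ`, `E ≤ N_M(S)` a `q'`-subgroup (e.g. a
complement of `M_σ`).  Then `E'` centralizes `S`.
-/

set_option autoImplicit false
set_option linter.unusedSectionVars false
set_option linter.unusedVariables false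
set_option linter.style.haveILetI false
set_option maxHeartbeats 1000000
open Cfsg
open scoped commutatorElement Pointwise

namespace Cfsg.Agent.Lib.Helper4.BG13

open Cfsg.Agent.Lib.Helper7 (IsSylowIn exists_isSylowIn_ge card_subgroupOf_of_le)
open Cfsg.Agent.Lib.Helper8.BGTen Cfsg.Agent.Lib.Helper4.BGTrans
open Cfsg.Agent.Lib.helper3.BG11 Cfsg.Agent.Lib.helper3.BG12

universe u

variable {G : Type u} [Group G] [Finite G]

/-- a narrow `q`-group (`q` odd) has the property `AutNar` -/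
theorem autNar_of_isNarrow {q : ℕ} [hq : Fact q.Prime] (hq2 : q ≠ 2) {Q : Type*} [Group Q]
    [Finite Q] (hQ : IsPGroup q Q) (hn : Cfsg.IsNarrow q Q) : AutNar q Q := by
  by_cases hr : Cfsg.PRankLE q 2 Q
  · exact autNar_of_rank hq2 hQ hr
  rcases hn with h | ⟨R₀, R₁, h0, h1, -, hcomm, hC⟩
  · exact absurd h hr
  have hE₀ : Cfsg.IsElementaryAbelian q R₀ := by
    haveI : IsCyclic ↥R₀ := isCyclic_of_prime_card h0
    refine ⟨IsCyclic.isMulCommutative, fun a ha => ?_⟩
    have := pow_card_eq_one' (G := ↥R₀) (x := ⟨a, ha⟩)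
    rw [h0] at this
    have h9 := congrArg Subtype.val this
    simpa using h9
  have hc : Cfsg.PRankLE q 2 ↥(Subgroup.centralizer (R₀ : Set Q)) := by
    rw [← hC]
    exact Cfsg.Agent.Lib.Helper4.NarrowSolv.pRankLE_of_mul R₀ R₁ h0 h1 hcomm
  exact autNar_of_narrow hq2 hQ hr R₀ hE₀ hc

/-- a Sylow `q`-subgroup of `M` (as a subgroup of `G`), `q ∉ β(M)`, has the property `AutNar` -/
theorem autNar_of_not_beta (hG : Cfsg.IsMinSimpleOddOrder G) {M : Subgroup G} (hM : IsCoatom M)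
    {q : ℕ} [hq : Fact q.Prime] (hqβ : q ∉ Cfsg.beta M) {S : Subgroup G}
    (hS : IsSylowIn q S M) (hS1 : S ≠ ⊥) : AutNar q ↥S := by
  have hSp : IsPGroup q ↥S := hS.isPGroup
  have hqS : q ∣ Nat.card ↥S := by
    obtain ⟨k, hk⟩ := hSp.exists_card_eq
    rw [hk]
    refine dvd_pow_self q ?_
    rintro rfl
    rw [pow_zero] at hk
    exact hS1 (Subgroup.card_eq_one.mp hk)
  have hqM : q ∣ Nat.card ↥M := hqS.trans (Subgroup.card_dvd_of_le hS.1)
  have hq2 : q ≠ 2 := ne_two_of_dvd_card hG (hqM.trans (Subgroup.card_subgroup_dvd_card M))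
  obtain ⟨R, hR⟩ := hS.exists_sylow
  have hnarR := Cfsg.Agent.Lib.Helper5.BGBeta.sylow_narrow hG (uT hG) hM hqM hqβ R
  rw [hR] at hnarR
  have hnarS : Cfsg.IsNarrow q ↥S :=
    Cfsg.Agent.Lib.Helper5.BGBeta.isNarrow_of_mulEquiv (Subgroup.subgroupOfEquivOfLe hS.1) hnarR
  exact autNar_of_isNarrow hq2 hSp hnarS

/-- **Lemma A0 (1)**: a `q'`-subgroup `E` of `G` normalizing the `q`-group `S` with `AutNar q S`
has `E' ≤ C_G(S)`. -/
theorem commutator_le_centralizer_of_autNar (hG : Cfsg.IsMinSimpleOddOrder G) {q : ℕ}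
    [hq : Fact q.Prime] {S E : Subgroup G} (hnar : AutNar q ↥S)
    (hES : E ≤ Subgroup.normalizer (S : Set G)) (hqE : ¬ q ∣ Nat.card ↥E) :
    ⁅E, E⁆ ≤ Subgroup.centralizer (S : Set G) := by
  set c := Cfsg.Agent.Lib.Helper4.Rank2Aut.conjHom S E hES with hc
  have hdvd : Nat.card ↥c.range ∣ Nat.card ↥E := Subgroup.card_range_dvd c
  have hoddr : Odd (Nat.card ↥c.range) :=
    Odd.of_dvd_nat hG.1 (hdvd.trans (Subgroup.card_subgroup_dvd_card E))
  have hcore := hnar c.range hoddr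
  have hcard : Nat.card ↥(commutator ↥c.range) = 1 := by
    obtain ⟨k, hk⟩ := hcore.exists_card_eq
    rw [hk]
    rcases Nat.eq_zero_or_pos k with h0 | hpos
    · rw [h0, pow_zero]
    · exfalso
      apply hqE
      have h1 : q ∣ Nat.card ↥(commutator ↥c.range) := by
        rw [hk]; exact dvd_pow_self q hpos.ne'
      exact (h1.trans (Subgroup.card_subgroup_dvd_card _)).trans hdvd
  have hbot : commutator ↥c.range = ⊥ := Subgroup.card_eq_one.mp hcard
  intro x hx
  rw [← Subgroup.map_subtype_commutator] at hx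
  obtain ⟨y, hy, rfl⟩ := hx
  have hmem : c.rangeRestrict y ∈ commutator ↥c.range :=
    Cfsg.Agent.Lib.Helper4.Rank2Aut.map_commutator_le c.rangeRestrict
      (Subgroup.mem_map_of_mem _ hy)
  rw [hbot, Subgroup.mem_bot] at hmem
  have h4 : c y = 1 := by
    have := congrArg Subtype.val hmem
    simpa using this
  rw [Subgroup.mem_centralizer_iff]
  intro r hr
  have h5 := congrArg (fun σ : MulAut ↥S => ((σ ⟨r, hr⟩ : ↥S) : G)) h4
  simp only [MulAut.one_apply] at h5
  have h6 : (E.subtype y) * r * (E.subtype y)⁻¹ = r := h5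
  rw [mul_inv_eq_iff_eq_mul] at h6
  exact h6.symm

end Cfsg.Agent.Lib.Helper4.BG13
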