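import Mathlib
import Cfsg.Agent.Lib.Helper4.GT

/-!
# The Glauberman–Thompson induction, second form

The same induction as in `GT.lean`, with three changes: the functor `W` is only assumed natural on `p`-subgroups; the
groups range over a class `𝒞` closed under subgroups and quotients; and the last step is a hypothesis on the final
configuration (`FinalConfig`), a group `X` in the class with `C_X(O_p(X)) ≤ O_p(X)`, `X / O_p(X)` `p`-nilpotent with an
abelian normal `p`-complement, and all proper subgroups containing the Sylow subgroup `P` being `p`-nilpotent.  A flag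
`full` records that the strongly closed subgroup is the Sylow subgroup itself.
-/

set_option autoImplicit false
set_option linter.style.haveILetI false
set_option linter.unusedVariables false
set_option linter.unusedSectionVars false

open scoped commutatorElement

namespace Cfsg.Agent.Lib.Helper4.GT2

open Cfsg Cfsg.Agent.Lib.Helper4.PNil Cfsg.Agent.Lib.Lead.Conj Cfsg.Agent.Lib.Helper4.GT

universe u

/-- the properties of the functor `W` that the induction uses -/
structure PFunctor2 (p : ℕ) (W : ∀ (X : Type u) [Group X], Subgroup X → Subgroup X) : Prop where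
  le : ∀ (X : Type u) [Group X] [Finite X] (D : Subgroup X), IsPGroup p D → W X D ≤ D
  ne_bot : ∀ (X : Type u) [Group X] [Finite X] (D : Subgroup X), IsPGroup p D → D ≠ ⊥ → W X D ≠ ⊥
  map : ∀ (X Y : Type u) [Group X] [Group Y] [Finite X] [Finite Y] (f : X →* Y) (D : Subgroup X),
    IsPGroup p D → (∀ x ∈ D, f x = 1 → x = 1) → W Y (D.map f) = (W X D).map f

/-- the statement of the theorem for the group `X` -/
def GTHolds2 (p : ℕ) (W : ∀ (X : Type u) [Group X], Subgroup X → Subgroup X) (full : Prop)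
    (X : Type u) [Group X] : Prop :=
  ∀ (P : Sylow p X) (D : Subgroup X), (full → D = (P : Subgroup X)) →
    Cfsg.IsStronglyClosed D (P : Subgroup X) →
    PNil p (Subgroup.normalizer (W X D : Set X)) → PNil p (⊤ : Subgroup X)

section basic

variable {p : ℕ} {W : ∀ (X : Type u) [Group X], Subgroup X → Subgroup X} {full : Prop}
variable {G : Type u} [Group G] [Finite G]

theorem W_map_conj2 (hW : PFunctor2 p W) (D : Subgroup G) (hDp : IsPGroup p ↥D) (g : G) :
    W G (D.map (MulAut.conj g).toMonoidHom) = (W G D).map (MulAut.conj g).toMonoidHom :=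
  hW.map G G (MulAut.conj g).toMonoidHom D hDp (fun x _ hx => by
    have h1 : (MulAut.conj g) x = 1 := hx
    exact (map_eq_one_iff (MulAut.conj g) (MulAut.conj g).injective).mp h1)

theorem normalizer_le_normalizer_W2 (hW : PFunctor2 p W) (D : Subgroup G) (hDp : IsPGroup p ↥D) :
    Subgroup.normalizer (D : Set G) ≤ Subgroup.normalizer (W G D : Set G) := by
  intro g hg
  apply mem_normalizer_of_conj_mem
  intro x hx
  have h1 := W_map_conj2 hW D hDp g
  rw [map_conj_eq hg] at h1
  rw [h1, mem_map_conj]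
  have e : g⁻¹ * (g * x * g⁻¹) * g = x := by group
  rw [e]; exact hx

/-- the theorem for a subgroup `L`, in ambient form -/
theorem gt_sub2 [Fact p.Prime] (hW : PFunctor2 p W) {L : Subgroup G} (ih : GTHolds2 p W full ↥L)
    (R D' : Subgroup G) (hRL : R ≤ L) (hRp : IsPGroup p R) (hRi : ¬ p ∣ R.relIndex L) (hD'R : D' ≤ R)
    (hfull : full → D' = R)
    (hcl : ∀ x ∈ D', ∀ g ∈ L, g * x * g⁻¹ ∈ R → g * x * g⁻¹ ∈ D')
    (hN : PNil p (Subgroup.normalizer (W G D' : Set G))) : PNil p L := by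
  have hRp' : IsPGroup p ↥(R.subgroupOf L) := by
    have h1 : R.subgroupOf L = R.comap L.subtype := rfl
    rw [h1]
    exact hRp.comap_of_injective L.subtype L.subtype_injective
  obtain ⟨PL, hPL⟩ : ∃ PL : Sylow p ↥L, (PL : Subgroup ↥L) = R.subgroupOf L :=
    ⟨hRp'.toSylow hRi, IsPGroup.toSylow_coe _ _⟩
  have hD'L : D' ≤ L := hD'R.trans hRL
  have hD'p : IsPGroup p ↥D' := hRp.to_le hD'R
  have hD'p' : IsPGroup p ↥(D'.subgroupOf L) := by
    have h1 : D'.subgroupOf L = D'.comap L.subtype := rfl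
    rw [h1]
    exact hD'p.comap_of_injective L.subtype L.subtype_injective
  have hfull' : full → D'.subgroupOf L = (PL : Subgroup ↥L) := by
    intro hf
    rw [hPL, hfull hf]
  have hcl' : Cfsg.IsStronglyClosed (D'.subgroupOf L) (PL : Subgroup ↥L) := by
    rw [hPL]
    refine ⟨fun x hx => Subgroup.mem_subgroupOf.mpr (hD'R (Subgroup.mem_subgroupOf.mp hx)), ?_⟩
    intro x hx g hg
    rw [Subgroup.mem_subgroupOf] at hx hg ⊢
    exact hcl _ hx _ g.2 hg
  have hmap : (D'.subgroupOf L).map L.subtype = D' := Subgroup.map_subgroupOf_eq_of_le hD'L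
  have hWmap := hW.map ↥L G L.subtype (D'.subgroupOf L) hD'p' (fun x _ hx => by
    have h1 : L.subtype x = L.subtype 1 := by rw [hx, map_one]
    exact L.subtype_injective h1)
  rw [hmap] at hWmap
  have hWL : W ↥L (D'.subgroupOf L) = (W G D').subgroupOf L := by
    rw [hWmap]
    exact (Subgroup.comap_map_eq_self_of_injective L.subtype_injective _).symm
  have hWle : W G D' ≤ L := (hW.le G D' hD'p).trans hD'L
  have hNL : PNil p (Subgroup.normalizer (W ↥L (D'.subgroupOf L) : Set ↥L)) := by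
    rw [hWL, ← Subgroup.subgroupOf_normalizer_eq hWle, ← Subgroup.inf_subgroupOf_right,
      pnil_subgroupOf_iff inf_le_right]
    exact pnil_mono inf_le_left hN
  exact (pnil_top_subtype_iff L).mp (ih PL _ hfull' hcl' hNL)

end basic

section quot

variable {p : ℕ} {W : ∀ (X : Type u) [Group X], Subgroup X → Subgroup X} {full : Prop}
variable {G : Type u} [Group G] [Finite G]

/-- reduction modulo a normal `p'`-subgroup -/
theorem gt_quot_p'2 [Fact p.Prime] (hW : PFunctor2 p W) (M : Subgroup G) [hMn : M.Normal]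
    (hM : (Nat.card M).Coprime p) (ih : GTHolds2 p W full (G ⧸ M)) (P : Sylow p G) (D : Subgroup G)
    (hfull : full → D = (P : Subgroup G)) (hD : Cfsg.IsStronglyClosed D (P : Subgroup G))
    (hN : PNil p (Subgroup.normalizer (W G D : Set G))) : PNil p (⊤ : Subgroup G) := by
  have hs := QuotientGroup.mk'_surjective M
  have hPp : IsPGroup p ↥(P : Subgroup G) := P.isPGroup'
  have hinf : M ⊓ (P : Subgroup G) = ⊥ := Cfsg.Agent.H1.inf_eq_bot_of_pgroup_coprime M P hPp hM
  have hinj : ∀ x ∈ D, QuotientGroup.mk' M x = 1 → x = 1 := by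
    intro x hx h1
    rw [QuotientGroup.mk'_apply, QuotientGroup.eq_one_iff] at h1
    have h2 : x ∈ M ⊓ (P : Subgroup G) := ⟨h1, hD.1 hx⟩
    rw [hinf] at h2
    exact Subgroup.mem_bot.mp h2
  have hcl : Cfsg.IsStronglyClosed (D.map (QuotientGroup.mk' M))
      ((P.mapSurjective hs : Sylow p (G ⧸ M)) : Subgroup (G ⧸ M)) := by
    rw [Sylow.coe_mapSurjective]
    refine ⟨Subgroup.map_mono hD.1, ?_⟩
    rintro _ ⟨x, hx, rfl⟩ gbar hg
    obtain ⟨g, rfl⟩ := hs gbar
    obtain ⟨y, hy, hyg⟩ := hg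
    -- `g x g⁻¹ ∈ M P`
    have hgx : g * x * g⁻¹ ∈ M ⊔ (P : Subgroup G) := by
      have h1 : (QuotientGroup.mk' M) (y⁻¹ * (g * x * g⁻¹)) = 1 := by
        rw [map_mul, map_inv, hyg]
        simp only [map_mul, map_inv]
        group
      rw [QuotientGroup.mk'_apply, QuotientGroup.eq_one_iff] at h1
      have e : g * x * g⁻¹ = y * (y⁻¹ * (g * x * g⁻¹)) := by group
      rw [e]
      exact Subgroup.mul_mem _ (Subgroup.mem_sup_right hy) (Subgroup.mem_sup_left h1)
    have hzp : IsPGroup p ↥(Subgroup.zpowers (g * x * g⁻¹)) := by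
      have h1 : Subgroup.zpowers (g * x * g⁻¹) =
          (Subgroup.zpowers x).map (MulAut.conj g).toMonoidHom := by
        rw [MonoidHom.map_zpowers]; rfl
      rw [h1]
      exact (hPp.to_le (Subgroup.zpowers_le.mpr (hD.1 hx))).map _
    obtain ⟨n, hn, hnz⟩ := Cfsg.Agent.Lib.Helper7.exists_conj_le_sylow_of_le_sup P M
      (Subgroup.zpowers (g * x * g⁻¹)) hzp (Subgroup.zpowers_le.mpr hgx)
    have h2 := hnz _ (Subgroup.mem_zpowers _)
    have e2 : n⁻¹ * (g * x * g⁻¹) * n = (n⁻¹ * g) * x * (n⁻¹ * g)⁻¹ := by group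
    rw [e2] at h2
    have h3 := hD.2 x hx (n⁻¹ * g) h2
    refine ⟨(n⁻¹ * g) * x * (n⁻¹ * g)⁻¹, h3, ?_⟩
    have hn1 : (QuotientGroup.mk' M) n = 1 := by
      rw [QuotientGroup.mk'_apply, QuotientGroup.eq_one_iff]; exact hn
    simp only [map_mul, map_inv, hn1, inv_one, one_mul]
  have hDp : IsPGroup p ↥D := hPp.to_le hD.1
  have hWmap := hW.map G (G ⧸ M) (QuotientGroup.mk' M) D hDp hinj
  have hWp : IsPGroup p ↥(W G D) := hPp.to_le ((hW.le G D hDp).trans hD.1)
  have hNle : Subgroup.normalizer (W (G ⧸ M) (D.map (QuotientGroup.mk' M)) : Set (G ⧸ M)) ≤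
      (Subgroup.normalizer (W G D : Set G)).map (QuotientGroup.mk' M) := by
    intro gbar hg
    obtain ⟨g, rfl⟩ := hs gbar
    rw [hWmap] at hg
    obtain ⟨n, hn, hng⟩ := exists_mem_normalizer_lift M (W G D) hWp hM hg
    exact ⟨n, hn, hng⟩
  have hNbar : PNil p (Subgroup.normalizer
      (W (G ⧸ M) (D.map (QuotientGroup.mk' M)) : Set (G ⧸ M))) :=
    pnil_mono hNle (pnil_map (QuotientGroup.mk' M) hN)
  have hfull' : full → D.map (QuotientGroup.mk' M) =
      ((P.mapSurjective hs : Sylow p (G ⧸ M)) : Subgroup (G ⧸ M)) := by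
    intro hf
    rw [Sylow.coe_mapSurjective, hfull hf]
  exact pnil_top_of_quotient M hM (ih (P.mapSurjective hs) _ hfull' hcl hNbar)

/-- reduction modulo a normal `p`-subgroup `H`: if the normalizers of the `P`-invariant subgroups of `P` strictly
containing `H` have normal `p`-complements then so does `G ⧸ H` -/
theorem gt_quot_p2 [Fact p.Prime] (hW : PFunctor2 p W) (H : Subgroup G) [hHn : H.Normal]
    (ih : GTHolds2 p W full (G ⧸ H)) (P : Sylow p G) (hHP : H ≤ (P : Subgroup G)) (D : Subgroup G)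
    (hfull : full → D = (P : Subgroup G)) (hD : Cfsg.IsStronglyClosed D (P : Subgroup G)) (hDH : ¬ D ≤ H)
    (hK : ∀ K' : Subgroup G, H ≤ K' → K' ≤ (P : Subgroup G) → K' ≠ H →
      (P : Subgroup G) ≤ Subgroup.normalizer (K' : Set G) →
      PNil p (Subgroup.normalizer (K' : Set G))) :
    PNil p (⊤ : Subgroup (G ⧸ H)) := by
  have hs := QuotientGroup.mk'_surjective H
  have hPp : IsPGroup p ↥(P : Subgroup G) := P.isPGroup'
  have hker : ∀ x : G, QuotientGroup.mk' H x = 1 ↔ x ∈ H := by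
    intro x
    rw [QuotientGroup.mk'_apply, QuotientGroup.eq_one_iff]
  -- preimages of elements of the image of `P` lie in `P`
  have hpre : ∀ x : G, QuotientGroup.mk' H x ∈ (P : Subgroup G).map (QuotientGroup.mk' H) →
      x ∈ (P : Subgroup G) := by
    rintro x ⟨y, hy, hyx⟩
    have h1 : (QuotientGroup.mk' H) (y⁻¹ * x) = 1 := by
      rw [map_mul, map_inv, hyx, inv_mul_cancel]
    rw [hker] at h1
    have e : x = y * (y⁻¹ * x) := by group
    rw [e]
    exact Subgroup.mul_mem _ hy (hHP h1)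
  have hcl : Cfsg.IsStronglyClosed (D.map (QuotientGroup.mk' H))
      ((P.mapSurjective hs : Sylow p (G ⧸ H)) : Subgroup (G ⧸ H)) := by
    rw [Sylow.coe_mapSurjective]
    refine ⟨Subgroup.map_mono hD.1, ?_⟩
    rintro _ ⟨x, hx, rfl⟩ gbar hg
    obtain ⟨g, rfl⟩ := hs gbar
    have h1 : (QuotientGroup.mk' H) g * (QuotientGroup.mk' H) x * ((QuotientGroup.mk' H) g)⁻¹ =
        (QuotientGroup.mk' H) (g * x * g⁻¹) := by
      rw [map_mul, map_mul, map_inv]
    rw [h1] at hg ⊢
    exact ⟨_, hD.2 x hx g (hpre _ hg), rfl⟩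
  obtain ⟨Wb, hWb⟩ : ∃ Wb : Subgroup (G ⧸ H), Wb = W (G ⧸ H) (D.map (QuotientGroup.mk' H)) :=
    ⟨_, rfl⟩
  have hDb : D.map (QuotientGroup.mk' H) ≠ ⊥ := by
    intro h
    apply hDH
    intro x hx
    have h1 : (QuotientGroup.mk' H) x ∈ D.map (QuotientGroup.mk' H) := Subgroup.mem_map_of_mem _ hx
    rw [h, Subgroup.mem_bot, hker] at h1
    exact h1
  have hDbp : IsPGroup p ↥(D.map (QuotientGroup.mk' H)) := (hPp.to_le hD.1).map _
  have hWbne : Wb ≠ ⊥ := by rw [hWb]; exact hW.ne_bot _ _ hDbp hDb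
  have hWble : Wb ≤ D.map (QuotientGroup.mk' H) := by rw [hWb]; exact hW.le _ _ hDbp
  obtain ⟨K', hK'⟩ : ∃ K' : Subgroup G, K' = Wb.comap (QuotientGroup.mk' H) := ⟨_, rfl⟩
  have hHK' : H ≤ K' := by
    intro x hx
    rw [hK', Subgroup.mem_comap, (hker x).mpr hx]
    exact Wb.one_mem
  have hK'P : K' ≤ (P : Subgroup G) := by
    intro x hx
    rw [hK', Subgroup.mem_comap] at hx
    exact hpre x (Subgroup.map_mono hD.1 (hWble hx))
  have hK'map : K'.map (QuotientGroup.mk' H) = Wb := by
    rw [hK']; exact Subgroup.map_comap_eq_self_of_surjective hs Wb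
  have hK'ne : K' ≠ H := by
    intro h
    apply hWbne
    rw [← hK'map, h, eq_bot_iff]
    rintro _ ⟨x, hx, rfl⟩
    rw [Subgroup.mem_bot, hker]; exact hx
  have hNK' : Subgroup.normalizer (K' : Set G) =
      (Subgroup.normalizer (Wb : Set (G ⧸ H))).comap (QuotientGroup.mk' H) := by
    rw [hK']; exact (Subgroup.comap_normalizer_eq_of_surjective Wb hs).symm
  have hPN : (P : Subgroup G) ≤ Subgroup.normalizer (K' : Set G) := by
    intro x hx
    rw [hNK', Subgroup.mem_comap, hWb]
    apply normalizer_le_normalizer_W2 hW _ hDbp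
    have h1 := Cfsg.Agent.Lib.Helper4.ZJ2.sylow_le_normalizer_of_stronglyClosed _ _ hcl
    apply h1
    rw [Sylow.coe_mapSurjective]
    exact Subgroup.mem_map_of_mem _ hx
  have h1 := hK K' hHK' hK'P hK'ne hPN
  have h2 : Subgroup.normalizer (Wb : Set (G ⧸ H)) =
      (Subgroup.normalizer (K' : Set G)).map (QuotientGroup.mk' H) := by
    rw [hNK']; exact (Subgroup.map_comap_eq_self_of_surjective hs _).symm
  have h3 : PNil p (Subgroup.normalizer (Wb : Set (G ⧸ H))) := by
    rw [h2]; exact pnil_map _ h1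
  rw [hWb] at h3
  have hfull' : full → D.map (QuotientGroup.mk' H) =
      ((P.mapSurjective hs : Sylow p (G ⧸ H)) : Subgroup (G ⧸ H)) := by
    intro hf
    rw [Sylow.coe_mapSurjective, hfull hf]
  exact ih (P.mapSurjective hs) _ hfull' hcl h3

end quot

section stepA

variable {p : ℕ} {W : ∀ (X : Type u) [Group X], Subgroup X → Subgroup X} {full : Prop}
variable {G : Type u} [Group G] [Finite G]

/-- a group with a non-`p`-nilpotent `p`-local subgroup in which the theorem holds for the proper subgroups has a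
nontrivial normal `p`-subgroup -/
theorem stepA2 [Fact p.Prime] (hW : PFunctor2 p W)
    (ihsub : ∀ L : Subgroup G, L ≠ ⊤ → GTHolds2 p W full ↥L) (P : Sylow p G) (D : Subgroup G)
    (hfull : full → D = (P : Subgroup G)) (hD : Cfsg.IsStronglyClosed D (P : Subgroup G)) (hDne : D ≠ ⊥)
    (hN : PNil p (Subgroup.normalizer (W G D : Set G))) (hnot : ¬ PNil p (⊤ : Subgroup G)) :
    ∃ H : Subgroup G, H ≤ (P : Subgroup G) ∧ H ≠ ⊥ ∧ H.Normal := by
  have hp : p.Prime := Fact.out
  have hPp : IsPGroup p ↥(P : Subgroup G) := P.isPGroup'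
  obtain ⟨H₀, hH₀P, hH₀ne, hH₀bad⟩ := exists_bad P hnot
  haveI : Nonempty {H : Subgroup G // H ≤ (P : Subgroup G) ∧ H ≠ ⊥ ∧
      ¬ PNil p (Subgroup.normalizer (H : Set G))} := ⟨⟨H₀, hH₀P, hH₀ne, hH₀bad⟩⟩
  obtain ⟨⟨H, hHP, hHne, hHbad⟩, hmax⟩ := Finite.exists_max
    (fun H : {H : Subgroup G // H ≤ (P : Subgroup G) ∧ H ≠ ⊥ ∧
      ¬ PNil p (Subgroup.normalizer (H : Set G))} =>
      Nat.card ↥((P : Subgroup G) ⊓ Subgroup.normalizer (H.1 : Set G)))
  have hmax' : ∀ H' : Subgroup G, H' ≤ (P : Subgroup G) → H' ≠ ⊥ →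
      ¬ PNil p (Subgroup.normalizer (H' : Set G)) →
      Nat.card ↥((P : Subgroup G) ⊓ Subgroup.normalizer (H' : Set G)) ≤
        Nat.card ↥((P : Subgroup G) ⊓ Subgroup.normalizer (H : Set G)) :=
    fun H' h1 h2 h3 => hmax ⟨H', h1, h2, h3⟩
  obtain ⟨N, hNdef⟩ : ∃ N : Subgroup G, N = Subgroup.normalizer (H : Set G) := ⟨_, rfl⟩
  obtain ⟨R, hRdef⟩ : ∃ R : Subgroup G, R = (P : Subgroup G) ⊓ N := ⟨_, rfl⟩
  rw [← hNdef] at hHbad
  rw [← hNdef, ← hRdef] at hmax'
  have hRP : R ≤ (P : Subgroup G) := by rw [hRdef]; exact inf_le_left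
  have hRN : R ≤ N := by rw [hRdef]; exact inf_le_right
  have hHN : H ≤ N := by rw [hNdef]; exact Subgroup.le_normalizer
  have hHR : H ≤ R := by rw [hRdef]; exact le_inf hHP hHN
  have hRp : IsPGroup p ↥R := hPp.to_le hRP
  have hPD : (P : Subgroup G) ≤ Subgroup.normalizer (D : Set G) :=
    Cfsg.Agent.Lib.Helper4.ZJ2.sylow_le_normalizer_of_stronglyClosed _ _ hD
  -- C2: `R` is a Sylow subgroup of `N`
  have hRi : ¬ p ∣ R.relIndex N := by
    have hRp' : IsPGroup p ↥(R.subgroupOf N) := by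
      have h1 : R.subgroupOf N = R.comap N.subtype := rfl
      rw [h1]
      exact hRp.comap_of_injective N.subtype N.subtype_injective
    obtain ⟨S, hS⟩ := hRp'.exists_le_sylow
    obtain ⟨S', hS'⟩ : ∃ S' : Subgroup G, S' = (S : Subgroup ↥N).map N.subtype := ⟨_, rfl⟩
    have hS'N : S' ≤ N := by rw [hS']; exact Subgroup.map_subtype_le _
    have hS'p : IsPGroup p ↥S' := by rw [hS']; exact S.isPGroup'.map _
    have hRS' : R ≤ S' := by
      intro x hx
      rw [hS']
      exact ⟨⟨x, hRN hx⟩, hS (Subgroup.mem_subgroupOf.mpr hx), rfl⟩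
    obtain ⟨g, -, hg⟩ := Cfsg.Agent.H2.exists_conj_le_sylow_of_le P ⊤ le_top S' hS'p le_top
    have hH'P : H.map (MulAut.conj g).toMonoidHom ≤ (P : Subgroup G) :=
      (Subgroup.map_mono (hHR.trans hRS')).trans hg
    have hH'ne : H.map (MulAut.conj g).toMonoidHom ≠ ⊥ := by
      intro h
      apply hHne
      exact (Subgroup.map_eq_bot_iff_of_injective H (MulAut.conj g).injective).mp h
    have hNH' : Subgroup.normalizer ((H.map (MulAut.conj g).toMonoidHom : Subgroup G) : Set G) =
        N.map (MulAut.conj g).toMonoidHom := by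
      rw [hNdef]; exact (Subgroup.map_equiv_normalizer_eq H (MulAut.conj g)).symm
    have hH'bad : ¬ PNil p (Subgroup.normalizer
        ((H.map (MulAut.conj g).toMonoidHom : Subgroup G) : Set G)) := by
      rw [hNH', pnil_map_equiv_iff]; exact hHbad
    have h1 := hmax' _ hH'P hH'ne hH'bad
    have h2 : S'.map (MulAut.conj g).toMonoidHom ≤ (P : Subgroup G) ⊓ Subgroup.normalizer
        ((H.map (MulAut.conj g).toMonoidHom : Subgroup G) : Set G) := by
      rw [hNH']; exact le_inf hg (Subgroup.map_mono hS'N)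
    have h3 : Nat.card ↥S' ≤ Nat.card ↥R := by
      rw [← card_map_conj S' g]
      exact (Subgroup.card_le_of_le h2).trans h1
    have h4 : R = S' := Subgroup.eq_of_le_of_card_ge hRS' h3
    have h5 : R.subgroupOf N = (S : Subgroup ↥N) := by
      rw [h4, hS']
      exact Subgroup.comap_map_eq_self_of_injective N.subtype_injective _
    show ¬ p ∣ (R.subgroupOf N).index
    rw [h5]
    exact S.not_dvd_index
  -- C3: `R = P`
  have hRP' : R = (P : Subgroup G) := by
    by_contra hne
    have hNtop : N ≠ ⊤ := by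
      intro h
      apply hne
      rw [hRdef, h, inf_top_eq]
    -- `D ⊓ R` is nontrivial
    have hDR : D ⊓ R ≠ ⊥ := by
      haveI : (D.subgroupOf (P : Subgroup G)).Normal :=
        (Subgroup.normal_subgroupOf_iff_le_normalizer hD.1).mpr hPD
      have hne' : D.subgroupOf (P : Subgroup G) ≠ ⊥ := by
        intro h
        apply hDne
        rw [Subgroup.subgroupOf_eq_bot, disjoint_iff, inf_eq_left.mpr hD.1] at h
        exact h
      obtain ⟨z, hzD, hzZ, hz1⟩ :=
        Cfsg.Agent.Lib.Lead.PGroup.exists_mem_center_of_normal hPp _ hne'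
      intro hbot
      apply hz1
      have hzN : (z : G) ∈ N := by
        rw [hNdef]
        apply mem_normalizer_of_conj_mem
        intro h hh
        have h1 := Subgroup.mem_center_iff.mp hzZ ⟨h, hHP hh⟩
        have h2 : h * (z : G) = (z : G) * h := congrArg Subtype.val h1
        rw [← h2, mul_inv_cancel_right]
        exact hh
      have h3 : (z : G) ∈ D ⊓ R := by
        rw [hRdef]
        exact ⟨Subgroup.mem_subgroupOf.mp hzD, z.2, hzN⟩
      rw [hbot, Subgroup.mem_bot] at h3
      exact Subtype.ext h3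
    -- the normalizer of `W(D ⊓ R)` is `p`-nilpotent
    have hNW : PNil p (Subgroup.normalizer (W G (D ⊓ R) : Set G)) := by
      by_contra hbad
      have hWP : W G (D ⊓ R) ≤ (P : Subgroup G) :=
        (hW.le G _ (hRp.to_le inf_le_right)).trans (inf_le_right.trans hRP)
      have hWne : W G (D ⊓ R) ≠ ⊥ := hW.ne_bot G _ (hRp.to_le inf_le_right) hDR
      have h1 := hmax' _ hWP hWne hbad
      -- `N_P(R)` normalizes `W(D ⊓ R)`
      have h2 : (P : Subgroup G) ⊓ Subgroup.normalizer (R : Set G) ≤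
          (P : Subgroup G) ⊓ Subgroup.normalizer (W G (D ⊓ R) : Set G) := by
        refine le_inf inf_le_left ?_
        intro x hx
        apply normalizer_le_normalizer_W2 hW _ (hRp.to_le inf_le_right)
        apply mem_normalizer_of_conj_mem
        intro y hy
        exact ⟨(Subgroup.mem_normalizer_iff.mp (hPD hx.1) y).mp hy.1,
          (Subgroup.mem_normalizer_iff.mp hx.2 y).mp hy.2⟩
      -- normalizers grow in `P`
      have h3 : Nat.card ↥R < Nat.card ↥((P : Subgroup G) ⊓ Subgroup.normalizer (R : Set G)) := by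
        haveI : Group.IsNilpotent ↥(P : Subgroup G) := hPp.isNilpotent
        have hnc := Group.normalizerCondition_of_isNilpotent (G := ↥(P : Subgroup G))
        have hlt : R.subgroupOf (P : Subgroup G) < ⊤ := by
          rw [lt_top_iff_ne_top]
          intro h
          apply hne
          exact le_antisymm hRP (Subgroup.subgroupOf_eq_top.mp h)
        have h4 := hnc _ hlt
        rw [← Subgroup.subgroupOf_normalizer_eq hRP] at h4
        have h5 := Cfsg.Agent.S0651.card_lt_of_lt h4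
        rw [Cfsg.Agent.Lib.Helper7.card_subgroupOf_of_le hRP, ← Subgroup.inf_subgroupOf_right,
          Cfsg.Agent.Lib.Helper7.card_subgroupOf_of_le inf_le_right, inf_comm] at h5
        exact h5
      exact absurd ((Subgroup.card_le_of_le h2).trans h1) (not_le.mpr h3)
    apply hHbad
    apply gt_sub2 hW (ihsub N hNtop) R (D ⊓ R) hRN hRp hRi inf_le_right ?_ ?_ hNW
    · intro hf
      rw [hfull hf]
      exact inf_eq_right.mpr hRP
    intro x hx g hg hgx
    exact ⟨hD.2 x hx.1 g (hRP hgx), hgx⟩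
  -- C4: `N = ⊤`
  have hNtop : N = ⊤ := by
    by_contra hne
    apply hHbad
    rw [hRP'] at hRi hRN
    apply gt_sub2 hW (ihsub N hne) (P : Subgroup G) D hRN hPp hRi hD.1 hfull ?_ hN
    intro x hx g hg hgx
    exact hD.2 x hx g hgx
  refine ⟨H, hHP, hHne, ?_⟩
  rw [hNdef] at hNtop
  exact Subgroup.normalizer_eq_top_iff.mp hNtop

end stepA

section main

variable {p : ℕ} {W : ∀ (X : Type u) [Group X], Subgroup X → Subgroup X} {full : Prop}

/-- the final configuration of the induction -/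
structure FinalConfig (p : ℕ) (X : Type u) [Group X] (P : Sylow p X) : Prop where
  ne_bot : Cfsg.pCore p X ≠ ⊥
  cent : Subgroup.centralizer (Cfsg.pCore p X : Set X) ≤ Cfsg.pCore p X
  quot : ∃ Mb : Subgroup (X ⧸ Cfsg.pCore p X), Mb.Normal ∧ (Nat.card ↥Mb).Coprime p ∧
    (∃ k : ℕ, Mb.index = p ^ k) ∧ ⁅Mb, Mb⁆ = ⊥
  max : ∀ L : Subgroup X, (P : Subgroup X) ≤ L → L ≠ ⊤ → PNil p L
  series : ∃ K₁ : Subgroup X, K₁.Normal ∧ Cfsg.pCore p X ≤ K₁ ∧
    ((Cfsg.pCore p X).relIndex K₁).Coprime p ∧ ⁅K₁, K₁⁆ ≤ Cfsg.pCore p X ∧ ∃ k : ℕ, K₁.index = p ^ k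

/-- the induction: if the theorem holds in the final configurations of a class `𝒞` closed under subgroups and
quotients then it holds in the class -/
theorem gt_all2 [Fact p.Prime] (hW : PFunctor2 p W)
    (𝒞 : ∀ (X : Type u) [Group X], Prop)
    (hsub : ∀ (X : Type u) [Group X] [Finite X] (L : Subgroup X), 𝒞 X → 𝒞 ↥L)
    (hquot : ∀ (X : Type u) [Group X] [Finite X] (M : Subgroup X) [M.Normal], 𝒞 X → 𝒞 (X ⧸ M))
    (hfinal : ∀ (X : Type u) [Group X] [Finite X], 𝒞 X → ∀ (P : Sylow p X) (D : Subgroup X),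
      (full → D = (P : Subgroup X)) → Cfsg.IsStronglyClosed D (P : Subgroup X) → FinalConfig p X P →
      PNil p (Subgroup.normalizer (W X D : Set X)) → PNil p (⊤ : Subgroup X)) :
    ∀ n : ℕ, ∀ (G : Type u) [Group G] [Finite G], Nat.card G = n → 𝒞 G → GTHolds2 p W full G := by
  intro n
  induction n using Nat.strong_induction_on with
  | _ n ih =>
  intro G _ _ hn hCG P D hfull hD hN
  by_contra hnot
  have hPp : IsPGroup p ↥(P : Subgroup G) := P.isPGroup'
  have hDp : IsPGroup p ↥D := hPp.to_le hD.1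
  have ihsub : ∀ L : Subgroup G, L ≠ ⊤ → GTHolds2 p W full ↥L := by
    intro L hL
    exact ih (Nat.card ↥L) (by rw [← hn]; exact card_subgroup_lt L hL) ↥L rfl (hsub G L hCG)
  have ihquot : ∀ (M : Subgroup G) [M.Normal], M ≠ ⊥ → GTHolds2 p W full (G ⧸ M) := by
    intro M _ hM
    exact ih (Nat.card (G ⧸ M)) (by rw [← hn]; exact card_quotient_lt M hM) (G ⧸ M) rfl
      (hquot G M hCG)
  have hDne : D ≠ ⊥ := by
    intro h
    apply hnot
    have h1 : W G D = ⊥ := by
      have h2 := hW.le G D hDp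
      rw [h] at h2 ⊢
      exact eq_bot_iff.mpr h2
    rw [h1] at hN
    have h3 : Subgroup.normalizer ((⊥ : Subgroup G) : Set G) = ⊤ :=
      Subgroup.normalizer_eq_top_iff.mpr inferInstance
    rw [h3] at hN
    exact hN
  obtain ⟨H₀, hH₀P, hH₀ne, hH₀n⟩ := stepA2 hW ihsub P D hfull hD hDne hN hnot
  obtain ⟨H, hHdef⟩ : ∃ H : Subgroup G, H = Cfsg.pCore p G := ⟨_, rfl⟩
  haveI hHn : H.Normal := by rw [hHdef]; exact Cfsg.Agent.H9.pCore_normal p G
  have hHp : IsPGroup p ↥H := by rw [hHdef]; exact Cfsg.Agent.H9.pCore_isPGroup p G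
  have hHP : H ≤ (P : Subgroup G) := hHp.le_sylow_of_normal P
  have hle_H : ∀ (V : Subgroup G) [V.Normal], IsPGroup p ↥V → V ≤ H := by
    intro V _ hV
    rw [hHdef]; exact Cfsg.Agent.H9.le_pCore V hV
  have hHne : H ≠ ⊥ := by
    intro h
    apply hH₀ne
    haveI := hH₀n
    have := hle_H H₀ (hPp.to_le hH₀P)
    rw [h] at this
    exact eq_bot_iff.mpr this
  have ihP : ∀ L : Subgroup G, (P : Subgroup G) ≤ L → L ≠ ⊤ → PNil p L := by
    intro L hPL hL
    apply gt_sub2 hW (ihsub L hL) (P : Subgroup G) D hPL hPp ?_ hD.1 hfull ?_ hN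
    · intro hdvd
      exact P.not_dvd_index (dvd_trans hdvd (Subgroup.relIndex_dvd_index_of_le hPL))
    · intro x hx g _ hgx
      exact hD.2 x hx g hgx
  have hO : Cfsg.pPrimeCore p G = ⊥ := by
    by_contra hne
    apply hnot
    exact gt_quot_p'2 hW (Cfsg.pPrimeCore p G) (Cfsg.Agent.H1.pPrimeCore_coprime p)
      (ihquot _ hne) P D hfull hD hN
  have hK : ∀ K' : Subgroup G, H ≤ K' → K' ≤ (P : Subgroup G) → K' ≠ H →
      (P : Subgroup G) ≤ Subgroup.normalizer (K' : Set G) →
      PNil p (Subgroup.normalizer (K' : Set G)) := by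
    intro K' hHK' hK'P hne hPK'
    apply ihP _ hPK'
    intro htop
    apply hne
    haveI : K'.Normal := Subgroup.normalizer_eq_top_iff.mp htop
    exact le_antisymm (hle_H K' (hPp.to_le hK'P)) hHK'
  have hDH : ¬ D ≤ H := by
    intro hle
    apply hnot
    have hDn : Subgroup.normalizer (D : Set G) = ⊤ := by
      rw [eq_top_iff]
      intro g _
      apply mem_normalizer_of_conj_mem
      intro x hx
      exact hD.2 x hx g (hHP (hHn.conj_mem x (hle hx) g))
    have h1 := normalizer_le_normalizer_W2 hW D hDp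
    rw [hDn] at h1
    rw [top_le_iff.mp h1] at hN
    exact hN
  have hQ : PNil p (⊤ : Subgroup (G ⧸ H)) :=
    gt_quot_p2 hW H (ihquot H hHne) P hHP D hfull hD hDH hK
  obtain ⟨Mb, -, hMbn, hMbc, k, hMbk⟩ := hQ
  haveI hMn : Mb.Normal := Subgroup.normalizer_eq_top_iff.mp (top_le_iff.mp hMbn)
  have hs := QuotientGroup.mk'_surjective H
  have hker : ∀ x : G, QuotientGroup.mk' H x = 1 ↔ x ∈ H := by
    intro x
    rw [QuotientGroup.mk'_apply, QuotientGroup.eq_one_iff]
  obtain ⟨K₁, hK₁⟩ : ∃ K₁ : Subgroup G, K₁ = Mb.comap (QuotientGroup.mk' H) := ⟨_, rfl⟩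
  haveI hK₁n : K₁.Normal := by rw [hK₁]; exact hMn.comap _
  have hHK : H ≤ K₁ := by
    intro x hx
    rw [hK₁, Subgroup.mem_comap, (hker x).mpr hx]
    exact Mb.one_mem
  have hHcomap : Subgroup.comap (QuotientGroup.mk' H) ⊥ = H := by
    ext x
    rw [Subgroup.mem_comap, Subgroup.mem_bot, hker]
  have hK₁map : K₁.map (QuotientGroup.mk' H) = Mb := by
    rw [hK₁]; exact Subgroup.map_comap_eq_self_of_surjective hs Mb
  have hrel : H.relIndex K₁ = Nat.card ↥Mb := by
    have h1 : (Subgroup.comap (QuotientGroup.mk' H) ⊥).relIndex K₁ = Nat.card ↥Mb := by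
      rw [Subgroup.relIndex_comap, hK₁map, Subgroup.relIndex_bot_left]
    rw [hHcomap] at h1
    exact h1
  have hcop : (H.relIndex K₁).Coprime p := by rw [hrel]; exact hMbc
  have hidx : K₁.index = p ^ k := by
    rw [hK₁, Subgroup.index_comap_of_surjective Mb hs, ← Subgroup.relIndex_top_right]
    exact hMbk
  have hsol : Cfsg.IsPSolvable p G := by
    refine ⟨3, ![⊥, H, K₁, ⊤], rfl, rfl, ?_, ?_, ?_⟩
    · rw [Fin.monotone_iff_le_succ]
      intro i
      fin_cases i
      · exact bot_le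
      · exact hHK
      · exact le_top
    · intro i
      fin_cases i
      · show (⊥ : Subgroup G).Normal; infer_instance
      · exact hHn
      · exact hK₁n
      · show (⊤ : Subgroup G).Normal; infer_instance
    · intro i
      fin_cases i
      · left
        obtain ⟨m, hm⟩ := hHp.exists_card_eq
        refine ⟨m, ?_⟩
        show (⊥ : Subgroup G).relIndex H = p ^ m
        rw [Subgroup.relIndex_bot_left]; exact hm
      · right
        exact hcop
      · left
        refine ⟨k, ?_⟩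
        show K₁.relIndex ⊤ = p ^ k
        rw [Subgroup.relIndex_top_right]; exact hidx
  have hC : Subgroup.centralizer (H : Set G) ≤ H := by
    rw [hHdef]
    exact Cfsg.Agent.Lib.Lead.PSolvable.centralizer_pCore_le hsol hO
  have hab := endgame P H hHp hC ihP Mb hMbc
  have hab' : ⁅K₁, K₁⁆ ≤ H := by
    rw [Subgroup.commutator_le]
    intro a ha b hb
    rw [← hker, map_commutatorElement]
    have h1 : ⁅(QuotientGroup.mk' H) a, (QuotientGroup.mk' H) b⁆ ∈ ⁅Mb, Mb⁆ := by
      apply Subgroup.commutator_mem_commutator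
      · rw [hK₁] at ha; exact ha
      · rw [hK₁] at hb; exact hb
    rw [hab, Subgroup.mem_bot] at h1
    exact h1
  apply hnot
  subst hHdef
  refine hfinal G hCG P D hfull hD ⟨hHne, hC, ⟨Mb, hMn, hMbc, ⟨k, ?_⟩, hab⟩, ihP,
    ⟨K₁, hK₁n, hHK, hcop, hab', k, hidx⟩⟩ hN
  rw [← Subgroup.relIndex_top_right]; exact hMbk

end main

end Cfsg.Agent.Lib.Helper4.GT2
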