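import Mathlib
import Cfsg.Prelude.Def_ConjugacyFunctors
import Cfsg.Agent.Lib.Helper4.GT2
import Cfsg.Agent.Lib.Helper7.Core

/-!
# Isomorphism-invariant `p`-group functors and the class of sections of a group

* `pFunctor2_induced`: an isomorphism-invariant `p`-group functor `W` induces a functor `D ↦ W(D)` on subgroups that
  satisfies the hypotheses `PFunctor2` of the Glauberman–Thompson induction.
* `IsSec G X`: `X` is a homomorphic image of a subgroup of `G`; this class is closed under subgroups and quotients, and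
  each member is isomorphic to a section `K ⧸ R.subgroupOf K` of `G`.
-/

set_option autoImplicit false
set_option linter.style.haveILetI false
set_option linter.unusedVariables false
set_option linter.unusedSectionVars false

open scoped commutatorElement

namespace Cfsg.Agent.Lib.Helper4.GTSec

open Cfsg Cfsg.Agent.Lib.Helper4.PNil Cfsg.Agent.Lib.Lead.Conj Cfsg.Agent.Lib.Helper4.GT
  Cfsg.Agent.Lib.Helper4.GT2

universe u

section induced

variable {p : ℕ} (W : ∀ (Q : Type u) [Group Q], Subgroup Q)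

/-- the functor on subgroups induced by `W` -/
def WAmb (X : Type u) [Group X] (D : Subgroup X) : Subgroup X := Cfsg.inducedFunctor W D

theorem wAmb_def (X : Type u) [Group X] (D : Subgroup X) :
    WAmb W X D = (W ↥D).map D.subtype := rfl

/-- the isomorphism `D ≃ f(D)` for a homomorphism injective on `D` -/
noncomputable def equivMapOfInjOn {X Y : Type u} [Group X] [Group Y] (f : X →* Y) (D : Subgroup X)
    (hinj : ∀ x ∈ D, f x = 1 → x = 1) : ↥D ≃* ↥(D.map f) :=
  MulEquiv.ofBijective (f.subgroupMap D) ⟨by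
    intro a b hab
    have h1 : f (a : X) = f (b : X) := congrArg Subtype.val hab
    have h2 : f ((a : X) * (b : X)⁻¹) = 1 := by rw [map_mul, map_inv, h1, mul_inv_cancel]
    have h3 := hinj _ (D.mul_mem a.2 (D.inv_mem b.2)) h2
    exact Subtype.ext (mul_inv_eq_one.mp h3), f.subgroupMap_surjective D⟩

theorem equivMapOfInjOn_apply {X Y : Type u} [Group X] [Group Y] (f : X →* Y) (D : Subgroup X)
    (hinj : ∀ x ∈ D, f x = 1 → x = 1) (a : ↥D) :
    ((equivMapOfInjOn f D hinj a : ↥(D.map f)) : Y) = f (a : X) := rfl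

theorem pFunctor2_induced [Fact p.Prime] (hW : Cfsg.IsCharPFunctor.{u} p W) :
    PFunctor2 p (WAmb W) where
  le := fun X _ _ D _ => by
    rw [wAmb_def]; exact Subgroup.map_subtype_le _
  ne_bot := fun X _ _ D hD hne => by
    rw [wAmb_def]
    haveI : Nontrivial ↥D := (Subgroup.nontrivial_iff_ne_bot D).2 hne
    have h1 := hW.1 ↥D hD inferInstance
    intro h
    exact h1 ((Subgroup.map_eq_bot_iff_of_injective _ D.subtype_injective).mp h)
  map := fun X Y _ _ _ _ f D hD hinj => by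
    rw [wAmb_def, wAmb_def]
    have h1 := hW.2 ↥D ↥(D.map f) hD (equivMapOfInjOn f D hinj)
    rw [← h1, Subgroup.map_map, Subgroup.map_map]
    congr 1

end induced

section sections

variable (G : Type u) [Group G]

/-- `X` is a homomorphic image of a subgroup of `G` -/
def IsSec (X : Type u) [Group X] : Prop :=
  ∃ (K : Subgroup G) (f : ↥K →* X), Function.Surjective f

theorem isSec_self : IsSec G G :=
  ⟨⊤, (⊤ : Subgroup G).subtype, fun x => ⟨⟨x, Subgroup.mem_top x⟩, rfl⟩⟩

theorem isSec_quot (X : Type u) [Group X] (M : Subgroup X) [M.Normal] (h : IsSec G X) :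
    IsSec G (X ⧸ M) := by
  obtain ⟨K, f, hf⟩ := h
  exact ⟨K, (QuotientGroup.mk' M).comp f, (QuotientGroup.mk'_surjective M).comp hf⟩

theorem isSec_sub (X : Type u) [Group X] (L : Subgroup X) (h : IsSec G X) : IsSec G ↥L := by
  obtain ⟨K, f, hf⟩ := h
  have hK'K : (L.comap f).map K.subtype ≤ K := Subgroup.map_subtype_le _
  have hmem : ∀ x : ↥((L.comap f).map K.subtype),
      (f.comp (Subgroup.inclusion hK'K)) x ∈ L := by
    rintro ⟨x, k, hk, rfl⟩
    have h1 : Subgroup.inclusion hK'K ⟨K.subtype k, ⟨k, hk, rfl⟩⟩ = k := Subtype.ext rfl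
    show f (Subgroup.inclusion hK'K ⟨K.subtype k, ⟨k, hk, rfl⟩⟩) ∈ L
    rw [h1]
    exact hk
  refine ⟨(L.comap f).map K.subtype, (f.comp (Subgroup.inclusion hK'K)).codRestrict L hmem, ?_⟩
  rintro ⟨l, hl⟩
  obtain ⟨k, rfl⟩ := hf l
  refine ⟨⟨K.subtype k, ⟨k, hl, rfl⟩⟩, ?_⟩
  apply Subtype.ext
  show f (Subgroup.inclusion hK'K ⟨K.subtype k, ⟨k, hl, rfl⟩⟩) = f k
  congr 1

/-- a member of the class is isomorphic to a section of `G` -/
theorem isSec_equiv (X : Type u) [Group X] (h : IsSec G X) :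
    ∃ (K R : Subgroup G) (hR : (R.subgroupOf K).Normal),
      Nonempty (X ≃* ↥K ⧸ R.subgroupOf K) := by
  obtain ⟨K, f, hf⟩ := h
  have h1 : (f.ker.map K.subtype).subgroupOf K = f.ker :=
    Subgroup.comap_map_eq_self_of_injective K.subtype_injective _
  have hR : ((f.ker.map K.subtype).subgroupOf K).Normal := by rw [h1]; infer_instance
  refine ⟨K, f.ker.map K.subtype, hR, ⟨?_⟩⟩
  exact (QuotientGroup.quotientKerEquivOfSurjective f hf).symm.trans
    (QuotientGroup.quotientMulEquivOfEq h1.symm)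

end sections

section final

variable {p : ℕ} {X : Type u} [Group X] [Finite X]

/-- a `p`-nilpotent subgroup containing a normal `p`-subgroup `H` with `C(H) ≤ H` is a `p`-group -/
theorem card_eq_pow_of_pnil [Fact p.Prime] (H : Subgroup X) [hHn : H.Normal] (hHp : IsPGroup p ↥H)
    (hC : Subgroup.centralizer (H : Set X) ≤ H) (L : Subgroup X) (hHL : H ≤ L) (hL : PNil p L) :
    ∃ j : ℕ, Nat.card ↥L = p ^ j := by
  obtain ⟨M₁, hM₁L, hLn, hM₁c, j, hj⟩ := hL
  have hinf : M₁ ⊓ H = ⊥ := Cfsg.Agent.H1.inf_eq_bot_of_pgroup_coprime M₁ H hHp hM₁c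
  have hM₁C : M₁ ≤ Subgroup.centralizer (H : Set X) := by
    intro m hm
    rw [Subgroup.mem_centralizer_iff]
    intro h hh
    have h1 : m * h * m⁻¹ * h⁻¹ ∈ H := H.mul_mem (hHn.conj_mem h hh m) (H.inv_mem hh)
    have h2 : m * h * m⁻¹ * h⁻¹ ∈ M₁ := by
      have hhn : h ∈ Subgroup.normalizer (M₁ : Set X) := hLn (hHL hh)
      have h3 : h * m⁻¹ * h⁻¹ ∈ M₁ := (Subgroup.mem_normalizer_iff.mp hhn m⁻¹).mp (M₁.inv_mem hm)
      have e : m * h * m⁻¹ * h⁻¹ = m * (h * m⁻¹ * h⁻¹) := by group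
      rw [e]; exact M₁.mul_mem hm h3
    have h4 : m * h * m⁻¹ * h⁻¹ ∈ M₁ ⊓ H := ⟨h2, h1⟩
    rw [hinf, Subgroup.mem_bot] at h4
    calc h * m = (m * h * m⁻¹ * h⁻¹)⁻¹ * (m * h) := by group
      _ = m * h := by rw [h4, inv_one, one_mul]
  have hM₁bot : M₁ = ⊥ := by
    rw [eq_bot_iff, ← hinf]
    exact le_inf le_rfl (hM₁C.trans hC)
  rw [hM₁bot, Subgroup.relIndex_bot_left] at hj
  exact ⟨j, hj⟩

/-- in the final configuration the Sylow subgroup is a maximal subgroup (or the whole group) -/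
theorem sylow_isCoatom [Fact p.Prime] (P : Sylow p X) (hfc : FinalConfig p X P)
    (hne : (P : Subgroup X) ≠ ⊤) : IsCoatom (P : Subgroup X) := by
  refine ⟨hne, fun L hPL => ?_⟩
  by_contra hL
  haveI : (Cfsg.pCore p X).Normal := Cfsg.Agent.H9.pCore_normal p X
  have hHp : IsPGroup p ↥(Cfsg.pCore p X) := Cfsg.Agent.H9.pCore_isPGroup p X
  have hHP : Cfsg.pCore p X ≤ (P : Subgroup X) := hHp.le_sylow_of_normal P
  obtain ⟨j, hj⟩ := card_eq_pow_of_pnil (Cfsg.pCore p X) hHp hfc.cent L (hHP.trans hPL.le)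
    (hfc.max L hPL.le hL)
  have hLp : IsPGroup p ↥L := IsPGroup.of_card hj
  exact hPL.ne' (P.is_maximal' hLp hPL.le)

/-- a `p`-group has a normal `p`-complement -/
theorem pnil_top_of_sylow_eq_top [Fact p.Prime] (P : Sylow p X) (h : (P : Subgroup X) = ⊤) :
    PNil p (⊤ : Subgroup X) := by
  obtain ⟨n, hn⟩ := P.isPGroup'.exists_card_eq
  refine ⟨⊥, bot_le, ?_, ?_, n, ?_⟩
  · rw [Subgroup.normalizer_eq_top_iff.mpr inferInstance]
  · rw [Subgroup.card_bot]; exact Nat.coprime_one_left p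
  · rw [Subgroup.relIndex_bot_left, ← h]; exact hn

end final

end Cfsg.Agent.Lib.Helper4.GTSec
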