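import Mathlib
import Cfsg.Prelude.Def_LocalEven
import Cfsg.Agent.Lib.Helper4.PStab
import Cfsg.Agent.H9.Cores

/-!
# Groups with a series `p`-group / abelian `p'`-group / `p`-group

`HasSeries p Z`: there are normal subgroups `H ≤ K` of `Z` with `H` a `p`-group, `K / H` an abelian `p'`-group and
`Z / K` a `p`-group (stated elementwise).  The class is closed under subgroups and homomorphic images, and for odd `p`
its finite members are `p`-stable in the normalizer form.
-/

set_option autoImplicit false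
set_option linter.style.haveILetI false
set_option linter.unusedVariables false
set_option linter.unusedSectionVars false

open scoped commutatorElement

namespace Cfsg.Agent.Lib.Helper4.Series

open Cfsg

/-- the series `H ≤ K` of `Z` -/
structure SeriesData (p : ℕ) {Z : Type*} [Group Z] (H K : Subgroup Z) : Prop where
  hHn : H.Normal
  hKn : K.Normal
  hHK : H ≤ K
  hHp : IsPGroup p ↥H
  hKH : ∀ x ∈ K, ∃ n : ℕ, n.Coprime p ∧ x ^ n ∈ H
  hab : ⁅K, K⁆ ≤ H
  hZK : ∀ z : Z, ∃ k : ℕ, z ^ p ^ k ∈ K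

/-- `Z` has a series `p`-group / abelian `p'`-group / `p`-group -/
def HasSeries (p : ℕ) (Z : Type*) [Group Z] : Prop := ∃ H K : Subgroup Z, SeriesData p H K

variable {p : ℕ}

theorem HasSeries.of_surjective {Z Z' : Type*} [Group Z] [Group Z'] (f : Z →* Z')
    (hf : Function.Surjective f) (h : HasSeries p Z) : HasSeries p Z' := by
  obtain ⟨H, K, sd⟩ := h
  refine ⟨H.map f, K.map f, ?_⟩
  haveI := sd.hHn
  haveI := sd.hKn
  refine ⟨Subgroup.Normal.map sd.hHn f hf, Subgroup.Normal.map sd.hKn f hf, Subgroup.map_mono sd.hHK,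
    sd.hHp.map f, ?_, ?_, ?_⟩
  · rintro _ ⟨x, hx, rfl⟩
    obtain ⟨n, hn, hxn⟩ := sd.hKH x hx
    exact ⟨n, hn, by rw [← map_pow]; exact Subgroup.mem_map_of_mem f hxn⟩
  · rw [← Subgroup.map_commutator]
    exact Subgroup.map_mono sd.hab
  · intro z'
    obtain ⟨z, rfl⟩ := hf z'
    obtain ⟨k, hk⟩ := sd.hZK z
    exact ⟨k, by rw [← map_pow]; exact Subgroup.mem_map_of_mem f hk⟩

theorem HasSeries.subgroup {Z : Type*} [Group Z] (L : Subgroup Z) (h : HasSeries p Z) :
    HasSeries p ↥L := by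
  obtain ⟨H, K, sd⟩ := h
  haveI := sd.hHn
  haveI := sd.hKn
  refine ⟨H.subgroupOf L, K.subgroupOf L, ?_⟩
  refine ⟨Subgroup.normal_subgroupOf, Subgroup.normal_subgroupOf, ?_, ?_, ?_, ?_, ?_⟩
  · intro x hx
    exact Subgroup.mem_subgroupOf.mpr (sd.hHK (Subgroup.mem_subgroupOf.mp hx))
  · have h1 : H.subgroupOf L = H.comap L.subtype := rfl
    rw [h1]
    exact sd.hHp.comap_of_injective L.subtype L.subtype_injective
  · intro x hx
    obtain ⟨n, hn, hxn⟩ := sd.hKH (x : Z) (Subgroup.mem_subgroupOf.mp hx)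
    refine ⟨n, hn, ?_⟩
    rw [Subgroup.mem_subgroupOf, Subgroup.coe_pow]
    exact hxn
  · rw [Subgroup.commutator_le]
    intro a ha b hb
    rw [Subgroup.mem_subgroupOf] at ha hb ⊢
    have h1 : ((⁅a, b⁆ : ↥L) : Z) = ⁅(a : Z), (b : Z)⁆ := rfl
    rw [h1]
    exact sd.hab (Subgroup.commutator_mem_commutator ha hb)
  · intro z
    obtain ⟨k, hk⟩ := sd.hZK (z : Z)
    refine ⟨k, ?_⟩
    rw [Subgroup.mem_subgroupOf, Subgroup.coe_pow]
    exact hk

/-- enlarging the bottom term of the series -/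
theorem SeriesData.enlarge {Z : Type*} [Group Z] {H K : Subgroup Z} (sd : SeriesData p H K)
    (H' : Subgroup Z) [hH'n : H'.Normal] (hH'p : IsPGroup p ↥H') (hHH' : H ≤ H') :
    SeriesData p H' (H' ⊔ K) := by
  haveI := sd.hHn
  haveI := sd.hKn
  have hker : ∀ x : Z, QuotientGroup.mk' H' x = 1 ↔ x ∈ H' := by
    intro x
    rw [QuotientGroup.mk'_apply, QuotientGroup.eq_one_iff]
  have hmap : (H' ⊔ K).map (QuotientGroup.mk' H') = K.map (QuotientGroup.mk' H') := by
    rw [Subgroup.map_sup]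
    have h1 : H'.map (QuotientGroup.mk' H') = ⊥ := by
      rw [eq_bot_iff]
      rintro _ ⟨x, hx, rfl⟩
      rw [Subgroup.mem_bot, hker]; exact hx
    rw [h1, bot_sup_eq]
  refine ⟨hH'n, inferInstance, le_sup_left, hH'p, ?_, ?_, ?_⟩
  · intro x hx
    have h1 : QuotientGroup.mk' H' x ∈ K.map (QuotientGroup.mk' H') := by
      rw [← hmap]; exact Subgroup.mem_map_of_mem _ hx
    obtain ⟨k, hk, hkx⟩ := h1
    obtain ⟨n, hn, hkn⟩ := sd.hKH k hk
    refine ⟨n, hn, ?_⟩
    rw [← hker, map_pow, ← hkx, ← map_pow, hker]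
    exact hHH' hkn
  · rw [Subgroup.commutator_le]
    intro a ha b hb
    have h1 : QuotientGroup.mk' H' a ∈ K.map (QuotientGroup.mk' H') := by
      rw [← hmap]; exact Subgroup.mem_map_of_mem _ ha
    have h2 : QuotientGroup.mk' H' b ∈ K.map (QuotientGroup.mk' H') := by
      rw [← hmap]; exact Subgroup.mem_map_of_mem _ hb
    obtain ⟨a', ha', haa⟩ := h1
    obtain ⟨b', hb', hbb⟩ := h2
    rw [← hker, map_commutatorElement, ← haa, ← hbb, ← map_commutatorElement, hker]
    exact hHH' (sd.hab (Subgroup.commutator_mem_commutator ha' hb'))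
  · intro z
    obtain ⟨k, hk⟩ := sd.hZK z
    exact ⟨k, Subgroup.mem_sup_right hk⟩

theorem SeriesData.coprime {Z : Type*} [Group Z] [Finite Z] [Fact p.Prime] {H K : Subgroup Z}
    (sd : SeriesData p H K) : (H.relIndex K).Coprime p := by
  have hp : p.Prime := Fact.out
  haveI := sd.hHn
  haveI : (H.subgroupOf K).Normal := Subgroup.normal_subgroupOf
  rw [Nat.coprime_comm, Nat.Prime.coprime_iff_not_dvd hp]
  intro hdvd
  have h1 : p ∣ Nat.card (↥K ⧸ H.subgroupOf K) := hdvd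
  obtain ⟨xb, hxb⟩ := exists_prime_orderOf_dvd_card' p h1
  obtain ⟨x, rfl⟩ := QuotientGroup.mk_surjective xb
  obtain ⟨n, hn, hxn⟩ := sd.hKH (x : Z) x.2
  have h2 : (QuotientGroup.mk x : ↥K ⧸ H.subgroupOf K) ^ n = 1 := by
    rw [← QuotientGroup.mk_pow, QuotientGroup.eq_one_iff, Subgroup.mem_subgroupOf, Subgroup.coe_pow]
    exact hxn
  have h3 : p ∣ n := by
    rw [← hxb]; exact orderOf_dvd_of_pow_eq_one h2
  have h4 : p ∣ Nat.gcd n p := Nat.dvd_gcd h3 dvd_rfl
  rw [hn] at h4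
  exact hp.one_lt.ne' (Nat.dvd_one.mp h4)

theorem SeriesData.index {Z : Type*} [Group Z] [Finite Z] [Fact p.Prime] {H K : Subgroup Z}
    (sd : SeriesData p H K) : ∃ k : ℕ, K.index = p ^ k := by
  haveI := sd.hKn
  have h1 : IsPGroup p (Z ⧸ K) := by
    intro zb
    obtain ⟨z, rfl⟩ := QuotientGroup.mk_surjective zb
    obtain ⟨k, hk⟩ := sd.hZK z
    refine ⟨k, ?_⟩
    rw [← QuotientGroup.mk_pow, QuotientGroup.eq_one_iff]
    exact hk
  obtain ⟨k, hk⟩ := IsPGroup.iff_card.mp h1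
  exact ⟨k, hk⟩

/-- the series from index data -/
theorem seriesData_of_index {Z : Type*} [Group Z] [Finite Z] (H K : Subgroup Z) [hHn : H.Normal]
    [hKn : K.Normal] (hHK : H ≤ K) (hHp : IsPGroup p ↥H) (hcop : (H.relIndex K).Coprime p)
    (hab : ⁅K, K⁆ ≤ H) (hidx : ∃ k : ℕ, K.index = p ^ k) : SeriesData p H K := by
  refine ⟨hHn, hKn, hHK, hHp, ?_, hab, ?_⟩
  · intro x hx
    haveI : (H.subgroupOf K).Normal := Subgroup.normal_subgroupOf
    refine ⟨H.relIndex K, hcop, ?_⟩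
    have h1 := Subgroup.pow_index_mem (H.subgroupOf K) (⟨x, hx⟩ : ↥K)
    rw [Subgroup.mem_subgroupOf, Subgroup.coe_pow] at h1
    exact h1
  · intro z
    obtain ⟨k, hk⟩ := hidx
    refine ⟨k, ?_⟩
    rw [← hk]
    exact Subgroup.pow_index_mem K z

theorem pCore_quot_transport {A : Type*} [Group A] (C₁ C₂ : Subgroup A) [h1 : C₁.Normal]
    [h2 : C₂.Normal] (h : C₁ = C₂) (a : A)
    (ha : (QuotientGroup.mk a : A ⧸ C₁) ∈ Cfsg.pCore p (A ⧸ C₁)) :
    (QuotientGroup.mk a : A ⧸ C₂) ∈ Cfsg.pCore p (A ⧸ C₂) := by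
  subst h
  exact ha

/-- for odd `p`, a finite group with a series `p`-group / abelian `p'`-group / `p`-group is `p`-stable in the
normalizer form -/
theorem isNormalizerPStable_of_hasSeries {Z : Type*} [Group Z] [Finite Z] [Fact p.Prime] (hp2 : p ≠ 2)
    (h : HasSeries p Z) : Cfsg.IsNormalizerPStable p Z := by
  intro U hU g hg hq
  obtain ⟨N, hNdef⟩ : ∃ N : Subgroup Z, N = Subgroup.normalizer (U : Set Z) := ⟨_, rfl⟩
  subst hNdef
  obtain ⟨H, K, sd⟩ := h.subgroup (Subgroup.normalizer (U : Set Z))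
  haveI hHn := sd.hHn
  haveI hKn := sd.hKn
  haveI hPn : (Cfsg.pCore p ↥(Subgroup.normalizer (U : Set Z))).Normal :=
    Cfsg.Agent.H9.pCore_normal p _
  have hPp := Cfsg.Agent.H9.pCore_isPGroup p ↥(Subgroup.normalizer (U : Set Z))
  have hHle : H ≤ Cfsg.pCore p ↥(Subgroup.normalizer (U : Set Z)) :=
    Cfsg.Agent.H9.le_pCore H sd.hHp
  have sd' := sd.enlarge (Cfsg.pCore p ↥(Subgroup.normalizer (U : Set Z))) hPp hHle
  haveI hK'n := sd'.hKn
  haveI hU'n : (U.subgroupOf (Subgroup.normalizer (U : Set Z))).Normal :=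
    (Subgroup.normal_subgroupOf_iff_le_normalizer Subgroup.le_normalizer).mpr le_rfl
  have hU'p : IsPGroup p ↥(U.subgroupOf (Subgroup.normalizer (U : Set Z))) := by
    have h1 : U.subgroupOf (Subgroup.normalizer (U : Set Z)) =
        U.comap (Subgroup.normalizer (U : Set Z)).subtype := rfl
    rw [h1]
    exact hU.comap_of_injective _ (Subgroup.subtype_injective _)
  have hU'le : U.subgroupOf (Subgroup.normalizer (U : Set Z)) ≤
      Cfsg.pCore p ↥(Subgroup.normalizer (U : Set Z)) := Cfsg.Agent.H9.le_pCore _ hU'p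
  have hst := Cfsg.Agent.Lib.Helper4.PStab.isPStableOn_of_series hp2
    (Cfsg.pCore p ↥(Subgroup.normalizer (U : Set Z)))
    (Cfsg.pCore p ↥(Subgroup.normalizer (U : Set Z)) ⊔ K) sd'.hHK hPp sd'.coprime sd'.hab sd'.index
    (U.subgroupOf (Subgroup.normalizer (U : Set Z))) hU'le
  have hq' : ⁅⁅U.subgroupOf (Subgroup.normalizer (U : Set Z)),
      Subgroup.zpowers (⟨g, hg⟩ : ↥(Subgroup.normalizer (U : Set Z)))⁆,
      Subgroup.zpowers (⟨g, hg⟩ : ↥(Subgroup.normalizer (U : Set Z)))⁆ = ⊥ := by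
    apply (Subgroup.map_eq_bot_iff_of_injective _
      (Subgroup.subtype_injective (Subgroup.normalizer (U : Set Z)))).mp
    rw [Subgroup.map_commutator, Subgroup.map_commutator,
      Subgroup.map_subgroupOf_eq_of_le Subgroup.le_normalizer, MonoidHom.map_zpowers]
    exact hq
  have h1 := hst ⟨g, hg⟩ hq'
  have hCeq : Subgroup.centralizer
      ((U.subgroupOf (Subgroup.normalizer (U : Set Z)) :
        Subgroup ↥(Subgroup.normalizer (U : Set Z))) : Set ↥(Subgroup.normalizer (U : Set Z))) =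
      (Subgroup.centralizer (U : Set Z)).subgroupOf (Subgroup.normalizer (U : Set Z)) := by
    ext x
    rw [Subgroup.mem_subgroupOf, Subgroup.mem_centralizer_iff, Subgroup.mem_centralizer_iff]
    constructor
    · intro h u hu
      have h2 := h ⟨u, Subgroup.le_normalizer hu⟩ (Subgroup.mem_subgroupOf.mpr hu)
      exact congrArg Subtype.val h2
    · intro h u hu
      exact Subtype.ext (h (u : Z) (Subgroup.mem_subgroupOf.mp hu))
  exact pCore_quot_transport _ _ hCeq _ h1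

end Cfsg.Agent.Lib.Helper4.Series
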