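import Mathlib
import Cfsg.Prelude.Def_LocalEven
import Cfsg.Prelude.Def_EvenType
import Cfsg.Agent.Lib.Helper4.GTSec
import Cfsg.Agent.Lib.Helper4.Series

/-!
# Control of strong fusion by a `p`-nilpotent normalizer forces a normal `p`-complement
-/

set_option autoImplicit false
set_option linter.style.haveILetI false
set_option linter.unusedVariables false
set_option linter.unusedSectionVars false

open scoped commutatorElement

namespace Cfsg.Agent.Lib.Helper4.GTCtl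

open Cfsg Cfsg.Agent.Lib.Helper4.PNil Cfsg.Agent.Lib.Lead.Conj Cfsg.Agent.Lib.Helper4.GT
  Cfsg.Agent.Lib.Helper4.GT2 Cfsg.Agent.Lib.Helper4.GTSec Cfsg.Agent.Lib.Helper4.Series

universe u

section control

variable {p : ℕ} {Y : Type u} [Group Y] [Finite Y]

theorem conj_pow_eq {Q : Subgroup Y} {g x : Y} (hgQ : ∀ a ∈ Q, g * a * g⁻¹ ∈ Q)
    (h : ∀ a ∈ Q, g * a * g⁻¹ = x * a * x⁻¹) (i : ℕ) :
    ∀ a ∈ Q, g ^ i * a * (g ^ i)⁻¹ = x ^ i * a * (x ^ i)⁻¹ := by
  induction i with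
  | zero => intro a _; simp
  | succ i ih =>
    intro a ha
    have h1 := ih a ha
    have h2 : g ^ i * a * (g ^ i)⁻¹ ∈ Q := by
      clear h1 ih
      induction i with
      | zero => simpa using ha
      | succ j ihj =>
        have e : g ^ (j + 1) * a * (g ^ (j + 1))⁻¹ = g * (g ^ j * a * (g ^ j)⁻¹) * g⁻¹ := by
          rw [pow_succ']; group
        rw [e]; exact hgQ _ ihj
    have e1 : g ^ (i + 1) * a * (g ^ (i + 1))⁻¹ = g * (g ^ i * a * (g ^ i)⁻¹) * g⁻¹ := by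
      rw [pow_succ']; group
    have e2 : x ^ (i + 1) * a * (x ^ (i + 1))⁻¹ = x * (x ^ i * a * (x ^ i)⁻¹) * x⁻¹ := by
      rw [pow_succ']; group
    rw [e1, e2, h _ h2, h1]

/-- Frobenius' criterion with control of strong fusion: if a `p`-nilpotent subgroup `N` containing the Sylow subgroup
`T` controls strong fusion in `T` then the group is `p`-nilpotent -/
theorem pnil_of_control [Fact p.Prime] (T : Sylow p Y) (N : Subgroup Y) (hTN : (T : Subgroup Y) ≤ N)
    (hNp : PNil p N)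
    (hctl : ∀ A : Set Y, A ⊆ (T : Subgroup Y) → Cfsg.ControlsStrongFusionOf N (T : Subgroup Y) A) :
    PNil p (⊤ : Subgroup Y) := by
  have hp : p.Prime := Fact.out
  rw [pnil_top_iff]
  apply Cfsg.Agent.Lib.Lead.NormalPComplement.hasNormalPComplement_of_p'_centralize T
  intro Q hQT g hg hgp
  have hgQ : ∀ a ∈ Q, g * a * g⁻¹ ∈ Q := fun a ha => (Subgroup.mem_normalizer_iff.mp hg a).mp ha
  have hAT : (Q : Set Y) ⊆ (T : Subgroup Y) := hQT
  have himg : (fun a => g * a * g⁻¹) '' (Q : Set Y) ⊆ (T : Subgroup Y) := by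
    rintro _ ⟨a, ha, rfl⟩
    exact hQT (hgQ a ha)
  obtain ⟨x, hxN, hx⟩ := (hctl (Q : Set Y) hAT).2 g himg
  have hx' : ∀ a ∈ Q, g * a * g⁻¹ = x * a * x⁻¹ := fun a ha => hx a ha
  have hxQ : x ∈ Subgroup.normalizer (Q : Set Y) := by
    apply mem_normalizer_of_conj_mem
    intro a ha
    rw [← hx' a ha]; exact hgQ a ha
  -- `x ^ m` centralizes `Q`, `m` the order of `g`
  have h1 : ∀ a ∈ Q, x ^ orderOf g * a * (x ^ orderOf g)⁻¹ = a := by
    intro a ha
    rw [← conj_pow_eq hgQ hx' (orderOf g) a ha, pow_orderOf_eq_one, one_mul, inv_one, mul_one]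
  -- `x ^ p ^ k` centralizes `Q`
  obtain ⟨M, hMN, hNn, hMc, k, hk⟩ := hNp
  have hxM : x ^ p ^ k ∈ M := by
    haveI : (M.subgroupOf N).Normal := (Subgroup.normal_subgroupOf_iff_le_normalizer hMN).mpr hNn
    have h2 := Subgroup.pow_index_mem (M.subgroupOf N) (⟨x, hxN⟩ : ↥N)
    rw [Subgroup.mem_subgroupOf, Subgroup.coe_pow] at h2
    have h3 : (M.subgroupOf N).index = p ^ k := hk
    rw [h3] at h2
    exact h2
  have hxcop : (orderOf (x ^ p ^ k)).Coprime p := by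
    have h2 : orderOf (x ^ p ^ k) ∣ Nat.card ↥M := by
      have h3 := orderOf_dvd_natCard (⟨x ^ p ^ k, hxM⟩ : ↥M)
      rwa [← Subgroup.orderOf_coe] at h3
    exact Nat.Coprime.coprime_dvd_left h2 hMc
  have h2 : x ^ p ^ k ∈ Subgroup.centralizer (Q : Set Y) :=
    centralizes ⟨M, hMN, hNn, hMc, k, hk⟩ (hQT.trans hTN) (T.isPGroup'.to_le hQT)
      (N.pow_mem hxN _) (Subgroup.pow_mem _ hxQ _) hxcop
  -- Bezout
  have hcop : Nat.Coprime (p ^ k) (orderOf g) := (Nat.Coprime.pow_right k hgp).symm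
  obtain ⟨α, β, hαβ⟩ := (Nat.isCoprime_iff_coprime.2 hcop)
  have h3 : x ^ orderOf g ∈ Subgroup.centralizer (Q : Set Y) := by
    rw [Subgroup.mem_centralizer_iff]
    intro a ha
    have h4 := h1 a ha
    calc a * x ^ orderOf g = (x ^ orderOf g * a * (x ^ orderOf g)⁻¹) * x ^ orderOf g := by rw [h4]
      _ = x ^ orderOf g * a := by group
  have h5 : x = (x ^ p ^ k) ^ α * (x ^ orderOf g) ^ β := by
    have h6 : x = x ^ (α * ((p ^ k : ℕ) : ℤ) + β * ((orderOf g : ℕ) : ℤ)) := by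
      rw [hαβ, zpow_one]
    conv_lhs => rw [h6]
    rw [zpow_add, mul_comm α, mul_comm β, zpow_mul, zpow_mul, zpow_natCast, zpow_natCast]
  have hxC : x ∈ Subgroup.centralizer (Q : Set Y) := by
    rw [h5]
    exact Subgroup.mul_mem _ (Subgroup.zpow_mem _ h2 α) (Subgroup.zpow_mem _ h3 β)
  rw [Subgroup.mem_centralizer_iff] at hxC ⊢
  intro a ha
  have h7 := hx' a ha
  have h8 : x * a * x⁻¹ = a := by rw [← hxC a ha, mul_inv_cancel_right]
  rw [h8] at h7
  calc a * g = (g * a * g⁻¹) * g := by rw [h7]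
    _ = g * a := by group

/-- control of strong fusion by `N(W(T₀))` in some Sylow subgroup `T₁ ⊇ W(T₀)` is control in `T₁` by `N(W(T₁))` -/
theorem control_own [Fact p.Prime] {Wf : ∀ (X : Type u) [Group X], Subgroup X → Subgroup X}
    (hW : PFunctor2 p Wf) (T₀ : Sylow p Y)
    (h : Cfsg.ControlsStrongFusion p (Wf Y (T₀ : Subgroup Y))) :
    ∃ T₁ : Sylow p Y, (T₁ : Subgroup Y) ≤ Subgroup.normalizer (Wf Y (T₀ : Subgroup Y) : Set Y) ∧
      ∀ A : Set Y, A ⊆ (T₁ : Subgroup Y) →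
        Cfsg.ControlsStrongFusionOf (Subgroup.normalizer (Wf Y (T₀ : Subgroup Y) : Set Y))
          (T₁ : Subgroup Y) A := by
  obtain ⟨T₁, hWT, hc⟩ := h
  refine ⟨T₁, ?_, hc⟩
  obtain ⟨g, -, hg⟩ := Cfsg.Agent.H2.exists_conj_le_sylow_of_le T₁ ⊤ le_top (T₀ : Subgroup Y)
    T₀.isPGroup' le_top
  have hcard : Nat.card ↥(T₁ : Subgroup Y) ≤
      Nat.card ↥((T₀ : Subgroup Y).map (MulAut.conj g).toMonoidHom) := by
    rw [card_map_conj, Sylow.card_eq_multiplicity, Sylow.card_eq_multiplicity]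
  have heq : (T₀ : Subgroup Y).map (MulAut.conj g).toMonoidHom = (T₁ : Subgroup Y) :=
    Subgroup.eq_of_le_of_card_ge hg hcard
  have hWeq : Wf Y (T₁ : Subgroup Y) = (Wf Y (T₀ : Subgroup Y)).map (MulAut.conj g).toMonoidHom := by
    rw [← heq]; exact W_map_conj2 hW _ T₀.isPGroup' g
  have hWT1 : Wf Y (T₁ : Subgroup Y) ≤ (T₁ : Subgroup Y) := hW.le Y _ T₁.isPGroup'
  have himg : (fun a => g * a * g⁻¹) '' ((Wf Y (T₀ : Subgroup Y) : Subgroup Y) : Set Y) ⊆
      (T₁ : Subgroup Y) := by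
    rintro _ ⟨a, ha, rfl⟩
    apply hWT1
    rw [hWeq]
    exact ⟨a, ha, rfl⟩
  obtain ⟨x, hxN, hx⟩ := (hc _ hWT).2 g himg
  have hsame : Wf Y (T₁ : Subgroup Y) = Wf Y (T₀ : Subgroup Y) := by
    rw [hWeq]
    ext y
    constructor
    · rintro ⟨a, ha, rfl⟩
      have h1 : (MulAut.conj g).toMonoidHom a = g * a * g⁻¹ := rfl
      rw [h1, hx a ha]
      exact (Subgroup.mem_normalizer_iff.mp hxN a).mp ha
    · intro hy
      have h2 : x⁻¹ * y * x ∈ Wf Y (T₀ : Subgroup Y) := by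
        have h3 := (Subgroup.mem_normalizer_iff.mp (Subgroup.inv_mem _ hxN) y).mp hy
        rwa [inv_inv] at h3
      refine ⟨x⁻¹ * y * x, h2, ?_⟩
      have h1 : (MulAut.conj g).toMonoidHom (x⁻¹ * y * x) = g * (x⁻¹ * y * x) * g⁻¹ := rfl
      rw [h1, hx _ h2]
      group
  rw [← hsame]
  exact (Subgroup.le_normalizer).trans (normalizer_le_normalizer_W2 hW _ T₁.isPGroup')

end control

end Cfsg.Agent.Lib.Helper4.GTCtl
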