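import Mathlib
import Cfsg.Prelude.Def_ConjugacyFunctors
import Cfsg.Agent.Lib.Helper4.GTSec
import Cfsg.Agent.S1959

/-!
# Control of strong fusion by a family of functors: chains, transport

* `Ch.ofFin`, `Ch.symm` : more API for the chains `Ch` of `Cfsg.Agent.S1959`;
* `ch_of_family` : from `FamilyControlsStrongFusionIn` in a subgroup to chains for any Sylow subgroup;
* `Ind 𝓦 X` : the family of conjugacy functors on `X` induced by a set of isomorphism-invariant functors;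
* `family_map` : transport of control along an injective homomorphism.
-/

set_option autoImplicit false
set_option linter.style.haveILetI false
set_option linter.unusedVariables false
set_option linter.unusedSectionVars false

namespace Cfsg.Agent.Lib.Helper4.GTFus

open Cfsg Cfsg.Agent.Lib.Helper7 Cfsg.Agent.Lib.Lead.Conj Cfsg.Agent.Lib.Lead.ConjFamily Cfsg.Agent.S1963
  Cfsg.Agent.S1965 Cfsg.Agent.S1961 Cfsg.Agent.S1959 Cfsg.Agent.Lib.Helper4.GT2
  Cfsg.Agent.Lib.Helper4.GTSec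

universe u

section chains

variable {G : Type*} [Group G] {𝓦 : Set (Subgroup G → Subgroup G)} {S : Subgroup G}

theorem Ch.ofFin {A : Set G} {h : G} {H : Subgroup G} (n : ℕ) (c : Fin (n + 1) → G) (hc0 : c 0 = 1)
    (hstep : ∀ i : Fin n, ∃ W ∈ 𝓦,
      c i.succ * (c i.castSucc)⁻¹ ∈ H ⊓ Subgroup.normalizer ((W S : Subgroup G) : Set G))
    (hsub : ∀ i : Fin (n + 1), lc (c i) A ⊆ (S : Set G))
    (hlast : ∀ a ∈ A, c (Fin.last n) * a * (c (Fin.last n))⁻¹ = h * a * h⁻¹) : Ch 𝓦 S A h := by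
  have hA : A ⊆ (S : Set G) := by
    have := hsub 0
    rw [hc0, lc_one] at this
    exact this
  have hall : ∀ i : Fin (n + 1), Ch 𝓦 S A (c i) := by
    intro i
    induction i using Fin.induction with
    | zero => rw [hc0]; exact Ch.refl A hA
    | succ i ih =>
      obtain ⟨W, hW, hi⟩ := hstep i
      have e : c i.succ * (c i.castSucc)⁻¹ * c i.castSucc = c i.succ := by group
      have := Ch.step (c i.succ * (c i.castSucc)⁻¹) W hW hi.2 (by rw [e]; exact hsub i.succ) ih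
      rwa [e] at this
  exact Ch.congr (hall (Fin.last n)) (fun a ha => (hlast a ha).symm)

theorem Ch.symm {A : Set G} {h : G} (hc : Ch 𝓦 S A h) : Ch 𝓦 S (lc h A) h⁻¹ := by
  induction hc with
  | refl hA => rw [lc_one, inv_one]; exact Ch.refl _ hA
  | @step h s W hW hs hsA hch ih =>
    have e : s⁻¹ * (s * h) = h := by group
    have h1 : Ch 𝓦 S (lc (s * h) A) s⁻¹ := by
      have := Ch.step (h := 1) s⁻¹ W hW (Subgroup.inv_mem _ hs) (by
        rw [mul_one, ← lc_mul, e]; exact hch.lc_sub) (Ch.refl _ hsA)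
      rwa [mul_one] at this
    have h2 : Ch 𝓦 S (lc s⁻¹ (lc (s * h) A)) h⁻¹ := by
      rw [← lc_mul, e]; exact ih
    have := Ch.comp h1 h2
    rw [mul_inv_rev]; exact this
  | @congr h h' hch hh ih =>
    rw [lc_congr hh]
    refine Ch.congr ih ?_
    rintro _ ⟨a, ha, rfl⟩
    have := hh a ha
    calc h'⁻¹ * (h * a * h⁻¹) * h'⁻¹⁻¹ = h'⁻¹ * (h' * a * h'⁻¹) * h'⁻¹⁻¹ := by rw [this]
      _ = a := by group
      _ = h⁻¹ * (h * a * h⁻¹) * h⁻¹⁻¹ := by group

/-- a single step -/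
theorem Ch.single {A : Set G} {s : G} (W : Subgroup G → Subgroup G) (hW : W ∈ 𝓦)
    (hs : s ∈ Subgroup.normalizer ((W S : Subgroup G) : Set G)) (hA : A ⊆ (S : Set G))
    (hsA : lc s A ⊆ (S : Set G)) : Ch 𝓦 S A s := by
  have := Ch.step (h := 1) s W hW hs (by rw [mul_one]; exact hsA) (Ch.refl A hA)
  rwa [mul_one] at this

theorem ch_of_family [Finite G] {p : ℕ} [Fact p.Prime] (h𝓦 : ∀ W ∈ 𝓦, IsConjugacyFunctor p W)
    {Y N : Subgroup G} (hc : FamilyControlsStrongFusionIn p 𝓦 Y) (hN : IsSylowIn p N Y)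
    {A : Set G} {y : G} (hy : y ∈ Y) (hA : A ⊆ (N : Set G)) (hyA : lc y A ⊆ (N : Set G)) :
    Ch 𝓦 N A y := by
  obtain ⟨n, c, hc0, hstep, hsub, hlast⟩ := family_control_any_sylow h𝓦 hc hN A y hy hA hyA
  exact Ch.ofFin n c hc0 hstep hsub hlast

theorem family_of_ch [Finite G] {p : ℕ} [Fact p.Prime] (S : Sylow p G)
    (h : ∀ (A : Set G) (g : G), A ⊆ ((S : Subgroup G) : Set G) → lc g A ⊆ ((S : Subgroup G) : Set G) →
      Ch 𝓦 (S : Subgroup G) A g) : FamilyControlsStrongFusionIn p 𝓦 ⊤ := by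
  refine ⟨(S : Subgroup G), le_top, S.isPGroup', ?_, ?_⟩
  · rw [Subgroup.relIndex_top_right]; exact S.not_dvd_index
  · intro A g _ hA hgA
    exact (h A g hA hgA).toFin

end chains

section induced

variable {p : ℕ}

/-- the conjugacy functors induced on `X` by a set of isomorphism-invariant functors -/
def Ind (𝓦 : Set (∀ (Q : Type u) [Group Q], Subgroup Q)) (X : Type u) [Group X] :
    Set (Subgroup X → Subgroup X) :=
  (fun W => Cfsg.inducedFunctor (G := X) W) '' 𝓦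

theorem isConjugacyFunctor_ind [Fact p.Prime] {𝓦 : Set (∀ (Q : Type u) [Group Q], Subgroup Q)}
    (h𝓦 : ∀ W ∈ 𝓦, Cfsg.IsCharPFunctor.{u} p W) (X : Type u) [Group X] [Finite X] :
    ∀ W ∈ Ind 𝓦 X, IsConjugacyFunctor p W := by
  rintro _ ⟨W, hW, rfl⟩
  have hW2 := pFunctor2_induced W (h𝓦 W hW)
  intro P hP
  exact ⟨hW2.le X P hP, hW2.ne_bot X P hP, fun g => W_map_conj2 hW2 P hP g⟩

theorem family_map [Fact p.Prime] {𝓦 : Set (∀ (Q : Type u) [Group Q], Subgroup Q)}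
    (h𝓦 : ∀ W ∈ 𝓦, Cfsg.IsCharPFunctor.{u} p W) {X Y : Type u} [Group X] [Group Y] [Finite X] [Finite Y]
    (f : X →* Y) (hf : Function.Injective f)
    (h : FamilyControlsStrongFusionIn p (Ind 𝓦 X) ⊤) :
    FamilyControlsStrongFusionIn p (Ind 𝓦 Y) f.range := by
  obtain ⟨T, -, hTp, hTidx, hctl⟩ := h
  refine ⟨T.map f, Subgroup.map_le_range f T, hTp.map f, ?_, ?_⟩
  · rw [MonoidHom.range_eq_map, Subgroup.relIndex_map_map_of_injective _ _ hf]
    exact hTidx
  · intro A h hh hA hhA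
    obtain ⟨x, rfl⟩ := hh
    set A₀ : Set X := {t | t ∈ T ∧ f t ∈ A} with hA₀
    have hA₀T : A₀ ⊆ (T : Set X) := fun t ht => ht.1
    have hAA₀ : ∀ a ∈ A, ∃ t ∈ A₀, f t = a := by
      intro a ha
      obtain ⟨t, ht, rfl⟩ := hA ha
      exact ⟨t, ⟨ht, ha⟩, rfl⟩
    have hxA₀ : (fun a => x * a * x⁻¹) '' A₀ ⊆ (T : Set X) := by
      rintro _ ⟨t, ht, rfl⟩
      have h1 : f x * f t * (f x)⁻¹ ∈ T.map f := hhA ⟨f t, ht.2, rfl⟩
      obtain ⟨t', ht', h2⟩ := h1
      have h3 : t' = x * t * x⁻¹ := by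
        apply hf
        rw [h2, map_mul, map_mul, map_inv]
      show x * t * x⁻¹ ∈ T
      rw [← h3]; exact ht'
    obtain ⟨n, c, hc0, hstep, hsub, hlast⟩ := hctl A₀ x (Subgroup.mem_top x) hA₀T hxA₀
    refine ⟨n, fun i => f (c i), by simp only [hc0, map_one], ?_, ?_, ?_⟩
    · intro i
      obtain ⟨_, ⟨W, hW, rfl⟩, hi⟩ := hstep i
      refine ⟨Cfsg.inducedFunctor (G := Y) W, ⟨W, hW, rfl⟩, ?_⟩
      have hmap := (pFunctor2_induced W (h𝓦 W hW)).map X Y f T hTp
        (fun x _ hx => hf (by rw [hx, map_one]))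
      have e : f (c i.succ) * (f (c i.castSucc))⁻¹ = f (c i.succ * (c i.castSucc)⁻¹) := by
        rw [map_mul, map_inv]
      rw [e]
      refine ⟨⟨_, rfl⟩, ?_⟩
      have h1 : Cfsg.inducedFunctor (G := Y) W (T.map f) = (Cfsg.inducedFunctor (G := X) W T).map f := hmap
      rw [h1]
      exact Subgroup.le_normalizer_map f ⟨_, hi.2, rfl⟩
    · intro i
      rintro _ ⟨a, ha, rfl⟩
      obtain ⟨t, ht, rfl⟩ := hAA₀ a ha
      have h1 : c i * t * (c i)⁻¹ ∈ T := hsub i ⟨t, ht, rfl⟩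
      refine ⟨c i * t * (c i)⁻¹, h1, ?_⟩
      rw [map_mul, map_mul, map_inv]
    · intro a ha
      obtain ⟨t, ht, rfl⟩ := hAA₀ a ha
      have h1 := hlast t ht
      have h2 := congrArg f h1
      rw [map_mul, map_mul, map_inv, map_mul, map_mul, map_inv] at h2
      exact h2

/-- control in a subgroup `Y` containing the Sylow subgroup `S`, from control in the group `↥Y` -/
theorem ch_of_subgroup [Fact p.Prime] {𝓦 : Set (∀ (Q : Type u) [Group Q], Subgroup Q)}
    (h𝓦 : ∀ W ∈ 𝓦, Cfsg.IsCharPFunctor.{u} p W) {X : Type u} [Group X] [Finite X] (S : Sylow p X)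
    (Y : Subgroup X) (hSY : (S : Subgroup X) ≤ Y)
    (hY : FamilyControlsStrongFusionIn p (Ind 𝓦 ↥Y) ⊤) {A : Set X} {y : X} (hy : y ∈ Y)
    (hA : A ⊆ ((S : Subgroup X) : Set X)) (hyA : lc y A ⊆ ((S : Subgroup X) : Set X)) :
    Ch (Ind 𝓦 X) (S : Subgroup X) A y := by
  have h1 := family_map h𝓦 Y.subtype Y.subtype_injective hY
  rw [Subgroup.range_subtype] at h1
  exact ch_of_family (isConjugacyFunctor_ind h𝓦 X) h1 (IsSylowIn.of_sylow_le S hSY) hy hA hyA

/-- control in the whole group, for a given Sylow subgroup -/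
theorem ch_of_top [Fact p.Prime] {𝓦 : Set (∀ (Q : Type u) [Group Q], Subgroup Q)}
    (h𝓦 : ∀ W ∈ 𝓦, Cfsg.IsCharPFunctor.{u} p W) {X : Type u} [Group X] [Finite X] (S : Sylow p X)
    (hX : FamilyControlsStrongFusionIn p (Ind 𝓦 X) ⊤) {A : Set X} {y : X}
    (hA : A ⊆ ((S : Subgroup X) : Set X)) (hyA : lc y A ⊆ ((S : Subgroup X) : Set X)) :
    Ch (Ind 𝓦 X) (S : Subgroup X) A y :=
  ch_of_family (isConjugacyFunctor_ind h𝓦 X) hX (IsSylowIn.of_sylow_top S) (Subgroup.mem_top y) hA hyA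

/-- transport along an isomorphism -/
theorem family_equiv [Fact p.Prime] {𝓦 : Set (∀ (Q : Type u) [Group Q], Subgroup Q)}
    (h𝓦 : ∀ W ∈ 𝓦, Cfsg.IsCharPFunctor.{u} p W) {X Y : Type u} [Group X] [Group Y] [Finite X] [Finite Y]
    (e : X ≃* Y) (h : FamilyControlsStrongFusionIn p (Ind 𝓦 X) ⊤) :
    FamilyControlsStrongFusionIn p (Ind 𝓦 Y) ⊤ := by
  have h1 := family_map h𝓦 e.toMonoidHom e.injective h
  have h2 : e.toMonoidHom.range = ⊤ := MonoidHom.range_eq_top.mpr e.surjective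
  rwa [h2] at h1

end induced

end Cfsg.Agent.Lib.Helper4.GTFus
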