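import Mathlib
import Cfsg.Agent.Lib.Helper4.GTFus1

/-!
# Control of strong fusion: group-theoretic reductions

* `frattini_mul`, `exists_conj_le`, `exists_mul_of_pquotient`, `commute_of_coprime_stab` : Sylow-type helpers;
* `ch_of_generation` : for `H ⊴ G`, fusion in `G` is generated by fusion in `H S` and in `N_G(S ∩ H)`;
* `lift_step`, `ch_of_quotient_p'` : control of strong fusion lifts from `G ⧸ M`, `M` a normal `p'`-subgroup.
-/

set_option autoImplicit false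
set_option linter.style.haveILetI false
set_option linter.unusedVariables false
set_option linter.unusedSectionVars false

namespace Cfsg.Agent.Lib.Helper4.GTFus

open Cfsg Cfsg.Agent.Lib.Helper7 Cfsg.Agent.Lib.Lead.Conj Cfsg.Agent.Lib.Lead.ConjFamily Cfsg.Agent.S1963
  Cfsg.Agent.S1965 Cfsg.Agent.S1961 Cfsg.Agent.S1959 Cfsg.Agent.Lib.Helper4.GT2
  Cfsg.Agent.Lib.Helper4.GTSec

open scoped Pointwise

universe u

section helpers

variable {G : Type*} [Group G] [Finite G] {p : ℕ} [Fact p.Prime]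

theorem exists_conj_le (S : Sylow p G) {I T : Subgroup G} (hSI : (S : Subgroup G) ≤ I)
    (hT : IsPGroup p ↥T) (hTI : T ≤ I) : ∃ i ∈ I, cj i T ≤ (S : Subgroup G) := by
  obtain ⟨T', hT', hTT'⟩ := exists_isSylowIn_ge hT hTI
  obtain ⟨h, hh, hhT'⟩ := (IsSylowIn.of_sylow_le S hSI).conj hT'
  refine ⟨h⁻¹, I.inv_mem hh, ?_⟩
  have h1 : cj h⁻¹ T ≤ cj h⁻¹ (cj h (S : Subgroup G)) := cj_mono _ (le_of_le_of_eq hTT' hhT')
  rwa [cj_cj, inv_mul_cancel, cj_one] at h1

theorem mem_normalizer_of_cj_le {g : G} {U : Subgroup G} (h : cj g U ≤ U) :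
    g ∈ Subgroup.normalizer (U : Set G) := by
  apply mem_normalizer_of_conj_mem
  intro x hx
  exact h (conj_mem_map_conj U g hx)

omit [Finite G] [Fact p.Prime] in
theorem cj_le_of_mem {g : G} {U V : Subgroup G} (hUV : U ≤ V) (hg : g ∈ V) : cj g U ≤ V := by
  rintro _ ⟨u, hu, rfl⟩
  exact V.mul_mem (V.mul_mem hg (hUV hu)) (V.inv_mem hg)

omit [Finite G] [Fact p.Prime] in
theorem cj_normal (g : G) (H : Subgroup G) [hH : H.Normal] : cj g H = H :=
  cj_eq_of_mem_normalizer (by rw [Subgroup.normalizer_eq_top_iff.mpr hH]; exact Subgroup.mem_top g)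

/-- Frattini argument in ambient form -/
theorem frattini_mul (H : Subgroup G) [hH : H.Normal] {D : Subgroup G} (hD : IsSylowIn p D H) (g : G) :
    ∃ l ∈ Subgroup.normalizer (D : Set G), ∃ h ∈ H, g = l * h := by
  have hD' : IsSylowIn p (cj g⁻¹ D) H := by
    have := isSylowIn_cj g⁻¹ hD
    rwa [cj_normal g⁻¹ H] at this
  obtain ⟨h, hh, hhD⟩ := hD.conj hD'
  have h1 : cj (g * h) D ≤ D := by
    have h2 : cj (g * h) D = cj g (cj g⁻¹ D) := by rw [hhD, cj_cj]
    rw [h2, cj_cj, mul_inv_cancel, cj_one]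
  exact ⟨g * h, mem_normalizer_of_cj_le h1, h⁻¹, H.inv_mem hh, by group⟩

theorem exists_mul_of_pquotient {K K₀ T₀ : Subgroup G} (hK₀K : K₀ ≤ K)
    (hn : K ≤ Subgroup.normalizer (K₀ : Set G)) (hidx : ∃ j : ℕ, K₀.relIndex K = p ^ j)
    (hT₀ : IsSylowIn p T₀ K) {z : G} (hz : z ∈ K) : ∃ t ∈ T₀, ∃ c ∈ K₀, z = t * c := by
  have hp : p.Prime := Fact.out
  haveI : (K₀.subgroupOf K).Normal := (Subgroup.normal_subgroupOf_iff_le_normalizer hK₀K).mpr hn
  obtain ⟨j, hj⟩ := hidx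
  have h1 : (T₀.subgroupOf K ⊔ K₀.subgroupOf K).index = 1 := by
    have hd1 : (T₀.subgroupOf K ⊔ K₀.subgroupOf K).index ∣ (T₀.subgroupOf K).index :=
      Subgroup.index_dvd_of_le le_sup_left
    have hd2 : (T₀.subgroupOf K ⊔ K₀.subgroupOf K).index ∣ p ^ j := by
      rw [← hj]; exact Subgroup.index_dvd_of_le le_sup_right
    have hc : ¬ p ∣ (T₀.subgroupOf K).index := not_dvd_relIndex_of_isSylowIn hT₀
    obtain ⟨i, hi, hi'⟩ := (Nat.dvd_prime_pow hp).mp hd2
    rcases Nat.eq_zero_or_pos i with rfl | hpos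
    · rw [hi', pow_zero]
    · exfalso
      apply hc
      have h3 : p ∣ p ^ i := dvd_pow_self p hpos.ne'
      rw [← hi'] at h3
      exact h3.trans hd1
  have h2 : T₀.subgroupOf K ⊔ K₀.subgroupOf K = ⊤ := Subgroup.index_eq_one.mp h1
  have h3 : (⟨z, hz⟩ : ↥K) ∈ T₀.subgroupOf K ⊔ K₀.subgroupOf K := by rw [h2]; exact Subgroup.mem_top _
  rw [← SetLike.mem_coe, Subgroup.mul_normal] at h3
  obtain ⟨t, ht, c, hc, htc⟩ := h3
  refine ⟨t, Subgroup.mem_subgroupOf.mp ht, c, Subgroup.mem_subgroupOf.mp hc, ?_⟩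
  have := congrArg Subtype.val htc
  simpa using this.symm

omit [Finite G] in
/-- a `p'`-element centralizing `P` and acting trivially modulo `P` on `b` commutes with `b` -/
theorem commute_of_coprime_stab {P : Subgroup G} (hPp : IsPGroup p ↥P) {w : G}
    (hwP : w ∈ Subgroup.centralizer (P : Set G)) (hw : (orderOf w).Coprime p) {b : G}
    (hb : w * b * w⁻¹ * b⁻¹ ∈ P) : w * b = b * w := by
  have hp : p.Prime := Fact.out
  set u := w * b * w⁻¹ * b⁻¹ with hu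
  have hwu : w * u = u * w := ((Subgroup.mem_centralizer_iff.mp hwP) u hb).symm
  have hwun : ∀ n : ℕ, w * u ^ n = u ^ n * w := fun n =>
    (Commute.pow_right (show Commute w u from hwu) n).eq
  have hpow : ∀ n : ℕ, w ^ n * b * (w ^ n)⁻¹ = u ^ n * b := by
    intro n
    induction n with
    | zero => simp
    | succ n ih =>
      have e : w ^ (n + 1) * b * (w ^ (n + 1))⁻¹ = w * (w ^ n * b * (w ^ n)⁻¹) * w⁻¹ := by
        rw [pow_succ']; group
      rw [e, ih]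
      have e2 : w * (u ^ n * b) * w⁻¹ = (w * u ^ n) * (b * w⁻¹) := by group
      rw [e2, hwun n]
      have e3 : u ^ n * w * (b * w⁻¹) = u ^ n * (w * b * w⁻¹ * b⁻¹) * b := by group
      rw [e3, ← hu, pow_succ]
  have h1 := hpow (orderOf w)
  rw [pow_orderOf_eq_one, one_mul, inv_one, mul_one] at h1
  have h2 : u ^ orderOf w = 1 := by
    have : u ^ orderOf w * b = 1 * b := by rw [one_mul]; exact h1.symm
    exact mul_right_cancel this
  obtain ⟨k, hk⟩ := hPp ⟨u, hb⟩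
  have hk' : u ^ p ^ k = 1 := by
    have := congrArg Subtype.val hk
    simpa using this
  have h3 : orderOf u ∣ Nat.gcd (orderOf w) (p ^ k) :=
    Nat.dvd_gcd (orderOf_dvd_of_pow_eq_one h2) (orderOf_dvd_of_pow_eq_one hk')
  have h4 : Nat.gcd (orderOf w) (p ^ k) = 1 := Nat.Coprime.pow_right k hw
  rw [h4, Nat.dvd_one, orderOf_eq_one_iff] at h3
  have h5 : w * b * w⁻¹ * b⁻¹ = 1 := h3
  calc w * b = (w * b * w⁻¹ * b⁻¹) * (b * w) := by group
    _ = b * w := by rw [h5, one_mul]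

end helpers

section generation

variable {G : Type*} [Group G] [Finite G] {p : ℕ} [Fact p.Prime] {𝓦 : Set (Subgroup G → Subgroup G)}

/-- for `H ⊴ G`, fusion in `G` is generated by fusion in `H S` and in `N_G(S ∩ H)` -/
theorem ch_of_generation (S : Sylow p G) (H : Subgroup G) [hH : H.Normal]
    (h1 : ∀ (A : Set G) (y : G), y ∈ H ⊔ (S : Subgroup G) → A ⊆ ((S : Subgroup G) : Set G) →
      lc y A ⊆ ((S : Subgroup G) : Set G) → Ch 𝓦 (S : Subgroup G) A y)
    (h2 : ∀ (A : Set G) (y : G), y ∈ Subgroup.normalizer (((S : Subgroup G) ⊓ H : Subgroup G) : Set G) →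
      A ⊆ ((S : Subgroup G) : Set G) → lc y A ⊆ ((S : Subgroup G) : Set G) → Ch 𝓦 (S : Subgroup G) A y)
    (A : Set G) (g : G) (hA : A ⊆ ((S : Subgroup G) : Set G)) (hgA : lc g A ⊆ ((S : Subgroup G) : Set G)) :
    Ch 𝓦 (S : Subgroup G) A g := by
  set D : Subgroup G := (S : Subgroup G) ⊓ H with hD
  have hDsyl : IsSylowIn p D H :=
    (IsSylowIn.of_sylow_top S).inf_normal H le_top
      (by rw [Subgroup.normalizer_eq_top_iff.mpr hH])
  obtain ⟨l, hl, h, hh, rfl⟩ := frattini_mul H hDsyl g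
  -- the conjugate `l⁻¹ S l` contains `D` and `h A h⁻¹`
  have hlinv : l⁻¹ ∈ Subgroup.normalizer (D : Set G) := Subgroup.inv_mem _ hl
  have hDl : D ≤ cj l⁻¹ (S : Subgroup G) := by
    have : cj l⁻¹ D = D := cj_eq_of_mem_normalizer hlinv
    rw [← this]; exact cj_mono _ inf_le_left
  have hhA : lc h A ⊆ ((cj l⁻¹ (S : Subgroup G) : Subgroup G) : Set G) := by
    rintro _ ⟨a, ha, rfl⟩
    rw [SetLike.mem_coe, mem_cj, inv_inv]
    have : l * h * a * (l * h)⁻¹ ∈ (S : Subgroup G) := hgA ⟨a, ha, rfl⟩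
    convert this using 1
    group
  set T : Subgroup G := D ⊔ Subgroup.closure (lc h A) with hT
  have hTl : T ≤ cj l⁻¹ (S : Subgroup G) := sup_le hDl ((Subgroup.closure_le _).mpr hhA)
  have hTp : IsPGroup p ↥T := (S.isPGroup'.map (MulAut.conj l⁻¹).toMonoidHom).to_le hTl
  have hTHS : T ≤ H ⊔ (S : Subgroup G) := by
    refine sup_le (inf_le_right.trans le_sup_left) ((Subgroup.closure_le _).mpr ?_)
    rintro _ ⟨a, ha, rfl⟩
    have e : h * a * h⁻¹ = h * (a * h⁻¹ * a⁻¹) * a := by group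
    show h * a * h⁻¹ ∈ H ⊔ (S : Subgroup G)
    rw [e]
    exact Subgroup.mul_mem _ (Subgroup.mem_sup_left (H.mul_mem hh (hH.conj_mem _ (H.inv_mem hh) a)))
      (Subgroup.mem_sup_right (hA ha))
  obtain ⟨y, hy, hyT⟩ := exists_conj_le S (le_sup_right : (S : Subgroup G) ≤ H ⊔ (S : Subgroup G)) hTp hTHS
  -- write `y = s₁ h₁`
  have hy' : y ∈ (S : Subgroup G) ⊔ H := by rw [sup_comm]; exact hy
  rw [← SetLike.mem_coe, Subgroup.mul_normal] at hy'
  obtain ⟨s₁, hs₁, h₁, hh₁, rfl⟩ := hy'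
  have hh₁T : cj h₁ T ≤ (S : Subgroup G) := by
    have h3 : cj s₁⁻¹ (cj (s₁ * h₁) T) ≤ cj s₁⁻¹ (S : Subgroup G) := cj_mono _ hyT
    rw [cj_cj, ← mul_assoc, inv_mul_cancel, one_mul] at h3
    exact h3.trans (cj_le_of_mem le_rfl ((S : Subgroup G).inv_mem hs₁))
  have hh₁D : h₁ ∈ Subgroup.normalizer (D : Set G) := by
    apply mem_normalizer_of_cj_le
    refine le_inf ((cj_mono h₁ (le_sup_left : D ≤ T)).trans hh₁T) ?_
    exact cj_le_of_mem inf_le_right hh₁
  -- the two pieces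
  have hy₁A : lc (h₁ * h) A ⊆ ((S : Subgroup G) : Set G) := by
    rw [lc_mul]
    intro x hx
    apply hh₁T
    rw [← SetLike.mem_coe, ← lc_coe]
    exact lc_mono h₁ (fun b hb => (le_sup_right : Subgroup.closure (lc h A) ≤ T)
      (Subgroup.subset_closure hb)) hx
  have c1 : Ch 𝓦 (S : Subgroup G) A (h₁ * h) :=
    h1 A (h₁ * h) (Subgroup.mem_sup_left (H.mul_mem hh₁ hh)) hA hy₁A
  have e : l * h₁⁻¹ * (h₁ * h) = l * h := by group
  have c2 : Ch 𝓦 (S : Subgroup G) (lc (h₁ * h) A) (l * h₁⁻¹) := by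
    apply h2 _ _ (Subgroup.mul_mem _ hl (Subgroup.inv_mem _ hh₁D)) hy₁A
    rw [← lc_mul, e]
    exact hgA
  have := Ch.comp c1 c2
  rwa [e] at this

end generation

section lift

variable {p : ℕ} [Fact p.Prime] {X : Type u} [Group X] [Finite X]

/-- the adjustment of a lifted step -/
theorem lift_step (S : Sylow p X) (M : Subgroup X) [hM : M.Normal] (hMc : (Nat.card ↥M).Coprime p)
    {V B₁ : Subgroup X} (hVS : V ≤ (S : Subgroup X))
    (hSV : (S : Subgroup X) ≤ Subgroup.normalizer (V : Set X)) (hB₁ : B₁ ≤ (S : Subgroup X)) {x : X}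
    (hxV : cj x V ≤ V ⊔ M) (hxB : cj x B₁ ≤ (S : Subgroup X) ⊔ M) :
    ∃ m ∈ M, m * x ∈ Subgroup.normalizer (V : Set X) ∧ cj (m * x) B₁ ≤ (S : Subgroup X) := by
  have hSM : (S : Subgroup X) ⊓ M = ⊥ :=
    (Cfsg.Agent.H1.inf_eq_bot_of_pgroup_coprime M (S : Subgroup X) S.isPGroup' hMc) ▸ inf_comm _ _
  -- step (i)
  have hxVp : IsPGroup p ↥(cj x V) := (S.isPGroup'.to_le hVS).map _
  obtain ⟨u, hu, huV⟩ := exists_conj_le S (le_sup_left : (S : Subgroup X) ≤ (S : Subgroup X) ⊔ M) hxVp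
    (hxV.trans (sup_le_sup_right hVS M))
  rw [← SetLike.mem_coe, Subgroup.mul_normal] at hu
  obtain ⟨s, hs, m, hm, rfl⟩ := hu
  have hmV : cj (m * x) V ≤ (S : Subgroup X) := by
    have h3 : cj s⁻¹ (cj (s * m) (cj x V)) ≤ cj s⁻¹ (S : Subgroup X) := cj_mono _ huV
    rw [cj_cj, ← mul_assoc, inv_mul_cancel, one_mul, cj_cj] at h3
    exact h3.trans (cj_le_of_mem le_rfl ((S : Subgroup X).inv_mem hs))
  have hmV2 : cj (m * x) V ≤ V ⊔ M := by
    rw [← cj_cj]
    exact (cj_mono m hxV).trans (cj_le_of_mem le_rfl (Subgroup.mem_sup_right hm))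
  have hy₁ : m * x ∈ Subgroup.normalizer (V : Set X) := by
    apply mem_normalizer_of_cj_le
    intro v₁ hv₁
    have h4 := hmV2 hv₁
    rw [← SetLike.mem_coe, Subgroup.mul_normal] at h4
    obtain ⟨v, hv, m', hm', hvm⟩ := h4
    have hvm' : v * m' = v₁ := hvm
    have h5 : m' ∈ (S : Subgroup X) ⊓ M := by
      refine ⟨?_, hm'⟩
      have e : m' = v⁻¹ * (v * m') := by group
      rw [e, hvm']
      exact Subgroup.mul_mem _ (Subgroup.inv_mem _ (hVS hv)) (hmV hv₁)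
    rw [hSM, Subgroup.mem_bot] at h5
    rw [← hvm', h5, mul_one]; exact hv
  -- step (ii)
  set I : Subgroup X := Subgroup.normalizer (V : Set X) ⊓ ((S : Subgroup X) ⊔ M) with hI
  have hSI : (S : Subgroup X) ≤ I := le_inf hSV le_sup_left
  have hB₂p : IsPGroup p ↥(cj (m * x) B₁) := (S.isPGroup'.to_le hB₁).map _
  have hB₂I : cj (m * x) B₁ ≤ I := by
    refine le_inf ?_ ?_
    · have h6 : cj (m * x) B₁ ≤ cj (m * x) (Subgroup.normalizer (V : Set X)) := cj_mono _ (hB₁.trans hSV)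
      rw [cj_normalizer, cj_eq_of_mem_normalizer hy₁] at h6
      exact h6
    · rw [← cj_cj]
      exact (cj_mono m hxB).trans (cj_le_of_mem le_rfl (Subgroup.mem_sup_right hm))
  obtain ⟨i, hi, hiB⟩ := exists_conj_le S hSI hB₂p hB₂I
  have hi2 : i ∈ (S : Subgroup X) ⊔ M := hi.2
  rw [← SetLike.mem_coe, Subgroup.mul_normal] at hi2
  obtain ⟨s', hs', m₂, hm₂, rfl⟩ := hi2
  have hm₂V : m₂ ∈ Subgroup.normalizer (V : Set X) := by
    have e : m₂ = s'⁻¹ * (s' * m₂) := by group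
    rw [e]
    exact Subgroup.mul_mem _ (Subgroup.inv_mem _ (hSV hs')) hi.1
  refine ⟨m₂ * m, M.mul_mem hm₂ hm, ?_, ?_⟩
  · rw [mul_assoc]; exact Subgroup.mul_mem _ hm₂V hy₁
  · have h3 : cj s'⁻¹ (cj (s' * m₂) (cj (m * x) B₁)) ≤ cj s'⁻¹ (S : Subgroup X) := cj_mono _ hiB
    rw [cj_cj, ← mul_assoc, inv_mul_cancel, one_mul, cj_cj, ← mul_assoc] at h3
    exact h3.trans (cj_le_of_mem le_rfl ((S : Subgroup X).inv_mem hs'))

end lift

end Cfsg.Agent.Lib.Helper4.GTFus
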