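import Mathlib
import Cfsg.Agent.Lib.Helper4.GTFus2

/-!
# Control of strong fusion: passing to quotients

* `ch_of_quotient_p'` : control of strong fusion lifts from `X ⧸ M`, `M` a normal `p'`-subgroup;
* `ch_of_quotient_p` : if all `p'`-elements centralize `P = O_p(X) < S`, control in `X ⧸ P` and in the proper subgroups
  containing `S` gives control in `X`.
-/

set_option autoImplicit false
set_option linter.style.haveILetI false
set_option linter.unusedVariables false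
set_option linter.unusedSectionVars false

namespace Cfsg.Agent.Lib.Helper4.GTFus

open Cfsg Cfsg.Agent.Lib.Helper7 Cfsg.Agent.Lib.Lead.Conj Cfsg.Agent.Lib.Lead.ConjFamily Cfsg.Agent.S1963
  Cfsg.Agent.S1965 Cfsg.Agent.S1961 Cfsg.Agent.S1959 Cfsg.Agent.Lib.Helper4.GT2
  Cfsg.Agent.Lib.Helper4.GTSec

open scoped Pointwise

universe u

section quot

variable {p : ℕ} [Fact p.Prime] {𝓦 : Set (∀ (Q : Type u) [Group Q], Subgroup Q)}
variable {X : Type u} [Group X] [Finite X]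

omit [Fact p.Prime] [Finite X] in
theorem mem_sup_of_mk_mem_map {U M : Subgroup X} [M.Normal] {y : X}
    (h : QuotientGroup.mk' M y ∈ U.map (QuotientGroup.mk' M)) : y ∈ U ⊔ M := by
  have h1 : y ∈ (U.map (QuotientGroup.mk' M)).comap (QuotientGroup.mk' M) := h
  rwa [Subgroup.comap_map_eq, QuotientGroup.ker_mk'] at h1

omit [Fact p.Prime] [Finite X] in
theorem mk_conj (M : Subgroup X) [M.Normal] (c a : X) :
    QuotientGroup.mk' M (c * a * c⁻¹) =
      QuotientGroup.mk' M c * QuotientGroup.mk' M a * (QuotientGroup.mk' M c)⁻¹ := by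
  rw [map_mul, map_mul, map_inv]

omit [Finite X] in
theorem cj_closure_le (S : Subgroup X) {A : Set X} {g : X} (hgA : lc g A ⊆ (S : Set X)) :
    cj g (Subgroup.closure A) ≤ S := by
  unfold cj
  rw [MonoidHom.map_closure, Subgroup.closure_le]
  exact hgA

/-- lifting chains from the quotient by a normal `p'`-subgroup -/
theorem lift_p' (h𝓦 : ∀ W ∈ 𝓦, Cfsg.IsCharPFunctor.{u} p W) (S : Sylow p X) (M : Subgroup X)
    [hM : M.Normal] (hMc : (Nat.card ↥M).Coprime p) (Ab : Set (X ⧸ M)) (gb : X ⧸ M)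
    (hc : Ch (Ind 𝓦 (X ⧸ M)) ((S : Subgroup X).map (QuotientGroup.mk' M)) Ab gb) :
    ∀ B : Subgroup X, B ≤ (S : Subgroup X) → (QuotientGroup.mk' M) '' (B : Set X) ⊆ Ab →
      ∃ c : X, Ch (Ind 𝓦 X) (S : Subgroup X) (B : Set X) c ∧
        ∀ b ∈ B, QuotientGroup.mk' M (c * b * c⁻¹) = gb * QuotientGroup.mk' M b * gb⁻¹ := by
  have hSM : (S : Subgroup X) ⊓ M = ⊥ :=
    (Cfsg.Agent.H1.inf_eq_bot_of_pgroup_coprime M (S : Subgroup X) S.isPGroup' hMc) ▸ inf_comm _ _
  induction hc with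
  | refl hA =>
    intro B hB hBA
    exact ⟨1, Ch.refl _ hB, fun b hb => by simp⟩
  | @step hb s Wt hWt hs hsA hch ih =>
    intro B hB hBA
    obtain ⟨c, hc, hcb⟩ := ih B hB hBA
    obtain ⟨W, hW, rfl⟩ := hWt
    have hW2 := pFunctor2_induced W (h𝓦 W hW)
    set V : Subgroup X := Cfsg.inducedFunctor (G := X) W (S : Subgroup X) with hV
    have hVS : V ≤ (S : Subgroup X) := hW2.le X _ S.isPGroup'
    have hSV : (S : Subgroup X) ≤ Subgroup.normalizer (V : Set X) :=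
      Subgroup.le_normalizer.trans (normalizer_le_normalizer_W2 hW2 _ S.isPGroup')
    have hmapV : Cfsg.inducedFunctor (G := X ⧸ M) W ((S : Subgroup X).map (QuotientGroup.mk' M)) =
        V.map (QuotientGroup.mk' M) :=
      hW2.map X (X ⧸ M) (QuotientGroup.mk' M) (S : Subgroup X) S.isPGroup' (fun x hx hx1 => by
        have h1 : x ∈ M := (QuotientGroup.eq_one_iff x).mp hx1
        have h2 : x ∈ (S : Subgroup X) ⊓ M := ⟨hx, h1⟩
        rwa [hSM, Subgroup.mem_bot] at h2)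
    obtain ⟨x, rfl⟩ := QuotientGroup.mk'_surjective M s
    have hs' : QuotientGroup.mk' M x ∈ Subgroup.normalizer
        ((V.map (QuotientGroup.mk' M) : Subgroup (X ⧸ M)) : Set (X ⧸ M)) := by
      rw [← hmapV]; exact hs
    have hB₁ : cj c B ≤ (S : Subgroup X) := by
      intro y hy
      have := hc.lc_sub
      rw [lc_coe] at this
      exact this hy
    have hxV : cj x V ≤ V ⊔ M := by
      rintro _ ⟨v, hv, rfl⟩
      apply mem_sup_of_mk_mem_map
      have h1 : QuotientGroup.mk' M v ∈ V.map (QuotientGroup.mk' M) := ⟨v, hv, rfl⟩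
      have h2 := (Subgroup.mem_normalizer_iff.mp hs' (QuotientGroup.mk' M v)).mp h1
      show QuotientGroup.mk' M (x * v * x⁻¹) ∈ _
      rw [mk_conj]; exact h2
    have hxB : cj x (cj c B) ≤ (S : Subgroup X) ⊔ M := by
      rintro _ ⟨_, ⟨b, hb', rfl⟩, rfl⟩
      apply mem_sup_of_mk_mem_map
      show QuotientGroup.mk' M (x * (c * b * c⁻¹) * x⁻¹) ∈ _
      rw [mk_conj, hcb b hb']
      have h1 : QuotientGroup.mk' M x * hb * QuotientGroup.mk' M b * (QuotientGroup.mk' M x * hb)⁻¹ ∈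
          (S : Subgroup X).map (QuotientGroup.mk' M) := hsA ⟨_, hBA ⟨b, hb', rfl⟩, rfl⟩
      convert h1 using 1
      group
    obtain ⟨m, hm, hy, hyB⟩ := lift_step S M hMc hVS hSV hB₁ hxV hxB
    have hmk : QuotientGroup.mk' M (m * x) = QuotientGroup.mk' M x := by
      rw [map_mul, QuotientGroup.mk'_apply, QuotientGroup.mk'_apply, (QuotientGroup.eq_one_iff m).mpr hm,
        one_mul]
    refine ⟨m * x * c, Ch.step (m * x) _ ⟨W, hW, rfl⟩ hy ?_ hc, ?_⟩
    · rw [lc_mul, lc_coe, lc_coe]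
      exact hyB
    · intro b hb'
      have e : m * x * c * b * (m * x * c)⁻¹ = (m * x) * (c * b * c⁻¹) * (m * x)⁻¹ := by group
      rw [e, mk_conj, hmk, hcb b hb']
      group
  | @congr hb hb' hch hh ih =>
    intro B hB hBA
    obtain ⟨c, hc, hcb⟩ := ih B hB hBA
    refine ⟨c, hc, fun b hb'' => ?_⟩
    rw [hcb b hb'']
    exact (hh _ (hBA ⟨b, hb'', rfl⟩)).symm

/-- control of strong fusion lifts from the quotient by a normal `p'`-subgroup -/
theorem ch_of_quotient_p' (h𝓦 : ∀ W ∈ 𝓦, Cfsg.IsCharPFunctor.{u} p W) (S : Sylow p X) (M : Subgroup X)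
    [hM : M.Normal] (hMc : (Nat.card ↥M).Coprime p)
    (hq : FamilyControlsStrongFusionIn p (Ind 𝓦 (X ⧸ M)) ⊤) (A : Set X) (g : X)
    (hA : A ⊆ ((S : Subgroup X) : Set X)) (hgA : lc g A ⊆ ((S : Subgroup X) : Set X)) :
    Ch (Ind 𝓦 X) (S : Subgroup X) A g := by
  have hSM : (S : Subgroup X) ⊓ M = ⊥ :=
    (Cfsg.Agent.H1.inf_eq_bot_of_pgroup_coprime M (S : Subgroup X) S.isPGroup' hMc) ▸ inf_comm _ _
  set B : Subgroup X := Subgroup.closure A with hBdef
  have hB : B ≤ (S : Subgroup X) := (Subgroup.closure_le _).mpr hA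
  have hgB : cj g B ≤ (S : Subgroup X) := cj_closure_le _ hgA
  have hs := QuotientGroup.mk'_surjective M
  have hSb : ((S.mapSurjective hs : Sylow p (X ⧸ M)) : Subgroup (X ⧸ M)) =
      (S : Subgroup X).map (QuotientGroup.mk' M) := Sylow.coe_mapSurjective hs S
  have hAb : (QuotientGroup.mk' M) '' (B : Set X) ⊆
      (((S.mapSurjective hs : Sylow p (X ⧸ M)) : Subgroup (X ⧸ M)) : Set (X ⧸ M)) := by
    rintro _ ⟨b, hb, rfl⟩
    rw [hSb]; exact ⟨b, hB hb, rfl⟩
  have hgAb : lc (QuotientGroup.mk' M g) ((QuotientGroup.mk' M) '' (B : Set X)) ⊆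
      (((S.mapSurjective hs : Sylow p (X ⧸ M)) : Subgroup (X ⧸ M)) : Set (X ⧸ M)) := by
    rintro _ ⟨_, ⟨b, hb, rfl⟩, rfl⟩
    rw [hSb]
    refine ⟨g * b * g⁻¹, hgB (conj_mem_map_conj B g hb), ?_⟩
    rw [mk_conj]
  have hch := ch_of_top h𝓦 (S.mapSurjective hs) hq hAb hgAb
  rw [hSb] at hch
  obtain ⟨c, hc, hcb⟩ := lift_p' h𝓦 S M hMc _ _ hch B hB le_rfl
  have hcB : ∀ b ∈ B, c * b * c⁻¹ ∈ (S : Subgroup X) := fun b hb => hc.lc_sub ⟨b, hb, rfl⟩
  have heq : ∀ b ∈ B, g * b * g⁻¹ = c * b * c⁻¹ := by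
    intro b hb
    have h1 := hcb b hb
    rw [← mk_conj] at h1
    have h2 : (c * b * c⁻¹)⁻¹ * (g * b * g⁻¹) ∈ M := by
      rw [← QuotientGroup.eq_one_iff, ← QuotientGroup.mk'_apply, map_mul, map_inv, h1, inv_mul_cancel]
    have h3 : (c * b * c⁻¹)⁻¹ * (g * b * g⁻¹) ∈ (S : Subgroup X) ⊓ M :=
      ⟨Subgroup.mul_mem _ (Subgroup.inv_mem _ (hcB b hb)) (hgB (conj_mem_map_conj B g hb)), h2⟩
    rw [hSM, Subgroup.mem_bot] at h3
    exact (inv_mul_eq_one.mp h3).symm
  exact Ch.mono Subgroup.subset_closure (Ch.congr hc heq)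

end quot

end Cfsg.Agent.Lib.Helper4.GTFus
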