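import Mathlib
import Cfsg.Agent.Lib.Helper4.GTFus3

/-!
# Control of strong fusion: the quotient by `O_p(X)` when all `p'`-elements centralize it
-/

set_option autoImplicit false
set_option linter.style.haveILetI false
set_option linter.unusedVariables false
set_option linter.unusedSectionVars false

namespace Cfsg.Agent.Lib.Helper4.GTFus

open Cfsg Cfsg.Agent.Lib.Helper7 Cfsg.Agent.Lib.Lead.Conj Cfsg.Agent.Lib.Lead.ConjFamily Cfsg.Agent.S1963
  Cfsg.Agent.S1965 Cfsg.Agent.S1961 Cfsg.Agent.S1959 Cfsg.Agent.Lib.Helper4.GT2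
  Cfsg.Agent.Lib.Helper4.GTSec

open scoped Pointwise

universe u

section stab

variable {p : ℕ} [Fact p.Prime] {X : Type u} [Group X] [Finite X]

theorem normalizer_le_normalizer_centralizer' (B : Subgroup X) :
    Subgroup.normalizer (B : Set X) ≤ Subgroup.normalizer ((Subgroup.centralizer (B : Set X) : Subgroup X) : Set X) := by
  intro g hg
  apply mem_normalizer_of_conj_mem
  intro c hc
  rw [Subgroup.mem_centralizer_iff] at hc ⊢
  intro b hb
  have hb' : g⁻¹ * b * g ∈ B := by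
    have := (Subgroup.mem_normalizer_iff.mp (Subgroup.inv_mem _ hg) b).mp hb
    rwa [inv_inv] at this
  have h1 := hc _ hb'
  calc b * (g * c * g⁻¹) = g * ((g⁻¹ * b * g) * c) * g⁻¹ := by group
    _ = g * (c * (g⁻¹ * b * g)) * g⁻¹ := by rw [h1]
    _ = g * c * g⁻¹ * b := by group

/-- an element of `N(B)` acting trivially on `B / P` acts on `B` like an element of `N_S(B)`, when `N_S(B)` is a
Sylow subgroup of `N(B)` and the `p'`-elements centralize `P` -/
theorem exists_sylow_elt_same_action (S : Sylow p X) (P : Subgroup X) [hPn : P.Normal] (hPp : IsPGroup p ↥P)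
    (hp' : ∀ x : X, (orderOf x).Coprime p → x ∈ Subgroup.centralizer (P : Set X))
    {B : Subgroup X} (hBsyl : IsSylowIn p (NS S B) (Subgroup.normalizer (B : Set X))) {z : X}
    (hz : z ∈ Subgroup.normalizer (B : Set X)) (hzB : ∀ b ∈ B, z * b * z⁻¹ * b⁻¹ ∈ P) :
    ∃ r ∈ NS S B, ∀ b ∈ B, z * b * z⁻¹ = r * b * r⁻¹ := by
  have hp : p.Prime := Fact.out
  set f := QuotientGroup.mk' P with hf
  set K : Subgroup X := Subgroup.normalizer (B : Set X) ⊓
    (Subgroup.centralizer ((B.map f : Subgroup (X ⧸ P)) : Set (X ⧸ P))).comap f with hK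
  have hKmem : ∀ w : X, w ∈ K ↔ w ∈ Subgroup.normalizer (B : Set X) ∧ ∀ b ∈ B, w * b * w⁻¹ * b⁻¹ ∈ P := by
    intro w
    rw [hK, Subgroup.mem_inf, Subgroup.mem_comap, Subgroup.mem_centralizer_iff]
    refine and_congr_right (fun _ => ?_)
    constructor
    · intro h b hb
      have h1 := h (f b) ⟨b, hb, rfl⟩
      have h2 : f (w * b * w⁻¹ * b⁻¹) = 1 := by
        rw [map_mul, map_mul, map_mul, map_inv, map_inv, ← h1]; group
      exact (QuotientGroup.eq_one_iff _).mp h2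
    · rintro h _ ⟨b, hb, rfl⟩
      have h2 : f (w * b * w⁻¹ * b⁻¹) = 1 := (QuotientGroup.eq_one_iff _).mpr (h b hb)
      rw [map_mul, map_mul, map_mul, map_inv, map_inv] at h2
      calc f b * f w = (f w * f b * (f w)⁻¹ * (f b)⁻¹)⁻¹ * (f w * f b) := by group
        _ = f w * f b := by rw [h2, inv_one, one_mul]
  have hKN : K ≤ Subgroup.normalizer (B : Set X) := inf_le_left
  have hNK : Subgroup.normalizer (B : Set X) ≤ Subgroup.normalizer (K : Set X) := by
    intro n hn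
    apply mem_normalizer_of_conj_mem
    intro k hk
    rw [hKmem] at hk ⊢
    refine ⟨Subgroup.mul_mem _ (Subgroup.mul_mem _ hn hk.1) (Subgroup.inv_mem _ hn), ?_⟩
    intro b hb
    have hb' : n⁻¹ * b * n ∈ B := by
      have := (Subgroup.mem_normalizer_iff.mp (Subgroup.inv_mem _ hn) b).mp hb
      rwa [inv_inv] at this
    have h1 := hk.2 _ hb'
    have e : n * k * n⁻¹ * b * (n * k * n⁻¹)⁻¹ * b⁻¹ =
        n * (k * (n⁻¹ * b * n) * k⁻¹ * (n⁻¹ * b * n)⁻¹) * n⁻¹ := by group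
    rw [e]
    exact hPn.conj_mem _ h1 n
  set C₀ : Subgroup X := Subgroup.centralizer (B : Set X) with hC₀
  have hC₀K : C₀ ≤ K := by
    intro c hc
    rw [hKmem]
    refine ⟨(Subgroup.centralizer_le_normalizer _) hc, fun b hb => ?_⟩
    have h1 := (Subgroup.mem_centralizer_iff.mp hc) b hb
    have e : c * b * c⁻¹ * b⁻¹ = 1 := by
      rw [← h1]; group
    rw [e]; exact P.one_mem
  have hKC₀ : K ≤ Subgroup.normalizer (C₀ : Set X) := hKN.trans (normalizer_le_normalizer_centralizer' B)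
  -- `p'`-elements of `K` centralize `B`
  have hcop : ∀ w ∈ K, (orderOf w).Coprime p → w ∈ C₀ := by
    intro w hw hwc
    rw [hKmem] at hw
    rw [hC₀, Subgroup.mem_centralizer_iff]
    intro b hb
    exact (commute_of_coprime_stab hPp (hp' w hwc) hwc (hw.2 b hb)).symm
  -- the quotient `K / C₀` is a `p`-group
  haveI : (C₀.subgroupOf K).Normal := (Subgroup.normal_subgroupOf_iff_le_normalizer hC₀K).mpr hKC₀
  have hquot : IsPGroup p (↥K ⧸ C₀.subgroupOf K) := by
    intro q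
    induction q using QuotientGroup.induction_on with
    | H w =>
      obtain ⟨e, m, hm, hem⟩ := Nat.exists_eq_pow_mul_and_not_dvd (orderOf_pos (w : X)).ne' p hp.ne_one
      refine ⟨e, ?_⟩
      rw [← QuotientGroup.mk_pow, QuotientGroup.eq_one_iff, Subgroup.mem_subgroupOf, Subgroup.coe_pow]
      apply hcop _ (K.pow_mem w.2 _)
      have h1 : orderOf ((w : X) ^ p ^ e) = m := by
        rw [orderOf_pow_of_dvd (pow_ne_zero e hp.ne_zero) (hem ▸ dvd_mul_right _ _), hem,
          Nat.mul_div_cancel_left _ (pow_pos hp.pos e)]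
      rw [h1]
      exact ((Nat.Prime.coprime_iff_not_dvd hp).mpr hm).symm
  have hidx : ∃ j : ℕ, C₀.relIndex K = p ^ j := by
    obtain ⟨j, hj⟩ := IsPGroup.iff_card.mp hquot
    refine ⟨j, ?_⟩
    rw [← hj]
    exact Subgroup.index_eq_card _
  have hT₀ : IsSylowIn p (NS S B ⊓ K) K := hBsyl.inf_normal K hKN hNK
  have hzK : z ∈ K := (hKmem z).mpr ⟨hz, hzB⟩
  obtain ⟨t, ht, c, hc, rfl⟩ := exists_mul_of_pquotient hC₀K hKC₀ hidx hT₀ hzK
  refine ⟨t, ht.1, fun b hb => ?_⟩
  have h1 := (Subgroup.mem_centralizer_iff.mp hc) b hb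
  calc t * c * b * (t * c)⁻¹ = t * (c * b) * c⁻¹ * t⁻¹ := by group
    _ = t * (b * c) * c⁻¹ * t⁻¹ := by rw [h1]
    _ = t * b * t⁻¹ := by group

end stab

section zclaim

variable {p : ℕ} [Fact p.Prime] {X : Type u} [Group X] [Finite X] {𝓦' : Set (Subgroup X → Subgroup X)}

theorem zclaim (S : Sylow p X) (P : Subgroup X) [hPn : P.Normal] (hPp : IsPGroup p ↥P)
    (hp' : ∀ x : X, (orderOf x).Coprime p → x ∈ Subgroup.centralizer (P : Set X))
    (hS : ∀ (A : Set X) (s : X), s ∈ (S : Subgroup X) → A ⊆ ((S : Subgroup X) : Set X) →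
      Ch 𝓦' (S : Subgroup X) A s)
    {B : Subgroup X} (hPB : P ≤ B) (hBS : B ≤ (S : Subgroup X))
    (hbig : ∀ B' : Subgroup X, P ≤ B' → B' ≤ (S : Subgroup X) → Nat.card ↥B < Nat.card ↥B' →
      ∀ g : X, cj g B' ≤ (S : Subgroup X) → Ch 𝓦' (S : Subgroup X) (B' : Set X) g)
    {z : X} (hz : z ∈ Subgroup.normalizer (B : Set X)) (hzB : ∀ b ∈ B, z * b * z⁻¹ * b⁻¹ ∈ P) :
    Ch 𝓦' (S : Subgroup X) (B : Set X) z := by
  by_cases hBS' : B = (S : Subgroup X)
  · have hNS : NS S B = (S : Subgroup X) := by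
      rw [hBS']; exact inf_eq_left.mpr Subgroup.le_normalizer
    have hsyl : IsSylowIn p (NS S B) (Subgroup.normalizer (B : Set X)) := by
      rw [hNS]
      exact IsSylowIn.of_sylow_le S (by rw [hBS']; exact Subgroup.le_normalizer)
    obtain ⟨r, hr, hrz⟩ := exists_sylow_elt_same_action S P hPp hp' hsyl hz hzB
    exact Ch.congr (hS (B : Set X) r hr.1 hBS) hrz
  · have hlt : B < NS S B := exists_mem_normalizer_not_mem S hBS hBS'
    have hcardlt : Nat.card ↥B < Nat.card ↥(NS S B) := by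
      rw [card_eq_ncard, card_eq_ncard]
      exact Set.ncard_lt_ncard (SetLike.coe_ssubset_coe.mpr hlt) (Set.toFinite _)
    obtain ⟨k, hk1, hk2, hk3⟩ := extremal S B hBS
    have c1 : Ch 𝓦' (S : Subgroup X) ((NS S B : Subgroup X) : Set X) k :=
      hbig (NS S B) (hPB.trans hlt.le) inf_le_left hcardlt k (hk3.trans inf_le_left)
    have c1' : Ch 𝓦' (S : Subgroup X) (B : Set X) k := Ch.mono (fun b hb => hlt.le hb) c1
    -- the conjugate
    have hz' : k * z * k⁻¹ ∈ Subgroup.normalizer ((cj k B : Subgroup X) : Set X) := conj_mem_normalizer_cj hz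
    have hz'B : ∀ b ∈ cj k B, (k * z * k⁻¹) * b * (k * z * k⁻¹)⁻¹ * b⁻¹ ∈ P := by
      intro b hb
      have hb' : k⁻¹ * b * k ∈ B := mem_cj.mp hb
      have h1 := hzB _ hb'
      have e : (k * z * k⁻¹) * b * (k * z * k⁻¹)⁻¹ * b⁻¹ =
          k * (z * (k⁻¹ * b * k) * z⁻¹ * (k⁻¹ * b * k)⁻¹) * k⁻¹ := by group
      rw [e]
      exact hPn.conj_mem _ h1 k
    obtain ⟨r, hr, hrz⟩ := exists_sylow_elt_same_action S P hPp hp' hk2 hz' hz'B
    have c2 : Ch 𝓦' (S : Subgroup X) ((cj k B : Subgroup X) : Set X) (k * z * k⁻¹) :=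
      Ch.congr (hS _ r hr.1 hk1) hrz
    have c2' : Ch 𝓦' (S : Subgroup X) (lc k (B : Set X)) (k * z * k⁻¹) := by rw [lc_coe]; exact c2
    have c12 := Ch.comp c1' c2'
    have c3 : Ch 𝓦' (S : Subgroup X) (lc k (B : Set X)) k⁻¹ := Ch.symm c1'
    have hlc : lc (k * z * k⁻¹ * k) (B : Set X) = lc k (B : Set X) := by
      rw [lc_mul, lc_coe, lc_coe, cj_eq_of_mem_normalizer hz']
    have c123 := Ch.comp c12 (by rw [hlc]; exact c3)
    have e : k⁻¹ * (k * z * k⁻¹ * k) = z := by group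
    rwa [e] at c123

end zclaim

section quotp

variable {p : ℕ} [Fact p.Prime] {𝓦 : Set (∀ (Q : Type u) [Group Q], Subgroup Q)}
variable {X : Type u} [Group X] [Finite X]

/-- lifting chains from the quotient by `P = O_p(X)` -/
theorem lift_p (h𝓦 : ∀ W ∈ 𝓦, Cfsg.IsCharPFunctor.{u} p W) (S : Sylow p X) (P : Subgroup X)
    [hPn : P.Normal] (hPS : P ≤ (S : Subgroup X))
    (hPcore : ∀ Q : Subgroup X, Q.Normal → IsPGroup p ↥Q → Q ≤ P) (hne : P ≠ (S : Subgroup X))
    (hsub : ∀ Y : Subgroup X, Y ≠ ⊤ → (S : Subgroup X) ≤ Y → ∀ (A : Set X) (y : X), y ∈ Y →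
      A ⊆ ((S : Subgroup X) : Set X) → lc y A ⊆ ((S : Subgroup X) : Set X) →
      Ch (Ind 𝓦 X) (S : Subgroup X) A y)
    (Ab : Set (X ⧸ P)) (gb : X ⧸ P)
    (hc : Ch (Ind 𝓦 (X ⧸ P)) ((S : Subgroup X).map (QuotientGroup.mk' P)) Ab gb) :
    ∀ A : Set X, A ⊆ ((S : Subgroup X) : Set X) → (QuotientGroup.mk' P) '' A ⊆ Ab →
      ∃ c : X, Ch (Ind 𝓦 X) (S : Subgroup X) A c ∧
        ∀ a ∈ A, QuotientGroup.mk' P (c * a * c⁻¹) = gb * QuotientGroup.mk' P a * gb⁻¹ := by
  have hSP : (S : Subgroup X) ⊔ P = (S : Subgroup X) := sup_eq_left.mpr hPS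
  induction hc with
  | refl hA =>
    intro A hA' hAA
    exact ⟨1, Ch.refl _ hA', fun b hb => by simp⟩
  | @step hb s Wt hWt hs hsA hch ih =>
    intro A hA' hAA
    obtain ⟨c, hc, hcb⟩ := ih A hA' hAA
    obtain ⟨W, hW, rfl⟩ := hWt
    have hW2 := pFunctor2_induced W (h𝓦 W hW)
    set Sb : Subgroup (X ⧸ P) := (S : Subgroup X).map (QuotientGroup.mk' P) with hSb
    have hSbp : IsPGroup p ↥Sb := S.isPGroup'.map _
    set Vb : Subgroup (X ⧸ P) := Cfsg.inducedFunctor (G := X ⧸ P) W Sb with hVb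
    have hs' : s ∈ Subgroup.normalizer (Vb : Set (X ⧸ P)) := hs
    set Y : Subgroup X := (Subgroup.normalizer (Vb : Set (X ⧸ P))).comap (QuotientGroup.mk' P) with hY
    have hSY : (S : Subgroup X) ≤ Y := by
      intro t ht
      rw [hY, Subgroup.mem_comap]
      have h1 : QuotientGroup.mk' P t ∈ Sb := ⟨t, ht, rfl⟩
      exact normalizer_le_normalizer_W2 hW2 Sb hSbp (Subgroup.le_normalizer h1)
    have hYne : Y ≠ ⊤ := by
      intro hYtop
      have hVbn : Vb.Normal := by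
        rw [← Subgroup.normalizer_eq_top_iff, eq_top_iff]
        intro y _
        obtain ⟨x, rfl⟩ := QuotientGroup.mk'_surjective P y
        have : x ∈ Y := by rw [hYtop]; exact Subgroup.mem_top x
        exact this
      have hVbS : Vb ≤ Sb := hW2.le (X ⧸ P) Sb hSbp
      set Q : Subgroup X := Vb.comap (QuotientGroup.mk' P) with hQ
      have hQn : Q.Normal := hVbn.comap _
      have hQS : Q ≤ (S : Subgroup X) := by
        intro x hx
        have h1 : QuotientGroup.mk' P x ∈ Sb := hVbS hx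
        have := mem_sup_of_mk_mem_map h1
        rwa [hSP] at this
      have hQP : Q ≤ P := hPcore Q hQn (S.isPGroup'.to_le hQS)
      have hVbot : Vb = ⊥ := by
        rw [eq_bot_iff]
        intro y hy
        obtain ⟨x, rfl⟩ := QuotientGroup.mk'_surjective P y
        have hx : x ∈ Q := hy
        rw [Subgroup.mem_bot]
        exact (QuotientGroup.eq_one_iff x).mpr (hQP hx)
      have hSbne : Sb ≠ ⊥ := by
        intro h
        apply hne
        apply le_antisymm hPS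
        intro t ht
        have h1 : QuotientGroup.mk' P t ∈ Sb := ⟨t, ht, rfl⟩
        rw [h, Subgroup.mem_bot] at h1
        exact (QuotientGroup.eq_one_iff t).mp h1
      exact hW2.ne_bot (X ⧸ P) Sb hSbp hSbne hVbot
    obtain ⟨x, rfl⟩ := QuotientGroup.mk'_surjective P s
    have hxY : x ∈ Y := hs'
    have hA₁ : lc c A ⊆ ((S : Subgroup X) : Set X) := hc.lc_sub
    have hxA₁ : lc x (lc c A) ⊆ ((S : Subgroup X) : Set X) := by
      rintro _ ⟨_, ⟨a, ha, rfl⟩, rfl⟩
      have h1 : QuotientGroup.mk' P x * hb * QuotientGroup.mk' P a * (QuotientGroup.mk' P x * hb)⁻¹ ∈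
          Sb := hsA ⟨_, hAA ⟨a, ha, rfl⟩, rfl⟩
      have h2 : QuotientGroup.mk' P (x * (c * a * c⁻¹) * x⁻¹) ∈ Sb := by
        rw [mk_conj, hcb a ha]
        convert h1 using 1
        group
      have := mem_sup_of_mk_mem_map h2
      rw [hSP] at this
      exact this
    have c2 := hsub Y hYne hSY (lc c A) x hxY hA₁ hxA₁
    refine ⟨x * c, Ch.comp hc c2, ?_⟩
    intro a ha
    have e : x * c * a * (x * c)⁻¹ = x * (c * a * c⁻¹) * x⁻¹ := by group
    rw [e, mk_conj, hcb a ha]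
    group
  | @congr hb hb' hch hh ih =>
    intro A hA' hAA
    obtain ⟨c, hc, hcb⟩ := ih A hA' hAA
    refine ⟨c, hc, fun b hb'' => ?_⟩
    rw [hcb b hb'']
    exact (hh _ (hAA ⟨b, hb'', rfl⟩)).symm

theorem ch_of_quotient_p (h𝓦 : ∀ W ∈ 𝓦, Cfsg.IsCharPFunctor.{u} p W) (S : Sylow p X) (P : Subgroup X)
    [hPn : P.Normal] (hPS : P ≤ (S : Subgroup X))
    (hPcore : ∀ Q : Subgroup X, Q.Normal → IsPGroup p ↥Q → Q ≤ P) (hne : P ≠ (S : Subgroup X))
    (hp' : ∀ x : X, (orderOf x).Coprime p → x ∈ Subgroup.centralizer (P : Set X))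
    (hq : FamilyControlsStrongFusionIn p (Ind 𝓦 (X ⧸ P)) ⊤)
    (hsub : ∀ Y : Subgroup X, Y ≠ ⊤ → (S : Subgroup X) ≤ Y → ∀ (A : Set X) (y : X), y ∈ Y →
      A ⊆ ((S : Subgroup X) : Set X) → lc y A ⊆ ((S : Subgroup X) : Set X) →
      Ch (Ind 𝓦 X) (S : Subgroup X) A y)
    (A : Set X) (g : X) (hA : A ⊆ ((S : Subgroup X) : Set X)) (hgA : lc g A ⊆ ((S : Subgroup X) : Set X)) :
    Ch (Ind 𝓦 X) (S : Subgroup X) A g := by
  have hPp : IsPGroup p ↥P := S.isPGroup'.to_le hPS
  have hSP : (S : Subgroup X) ⊔ P = (S : Subgroup X) := sup_eq_left.mpr hPS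
  -- conjugation by elements of `S`
  have hStop : (S : Subgroup X) ≠ ⊤ := by
    intro h
    apply hne
    apply le_antisymm hPS
    rw [h]
    apply hPcore ⊤ inferInstance
    rw [← h]; exact S.isPGroup'
  have hS : ∀ (A : Set X) (s : X), s ∈ (S : Subgroup X) → A ⊆ ((S : Subgroup X) : Set X) →
      Ch (Ind 𝓦 X) (S : Subgroup X) A s := by
    intro A s hs hA
    apply hsub (S : Subgroup X) hStop le_rfl A s hs hA
    rintro _ ⟨a, ha, rfl⟩
    exact Subgroup.mul_mem _ (Subgroup.mul_mem _ hs (hA ha)) (Subgroup.inv_mem _ hs)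
  have hs := QuotientGroup.mk'_surjective P
  have hSb : ((S.mapSurjective hs : Sylow p (X ⧸ P)) : Subgroup (X ⧸ P)) =
      (S : Subgroup X).map (QuotientGroup.mk' P) := Sylow.coe_mapSurjective hs S
  -- the main induction
  have key : ∀ (n : ℕ) (B : Subgroup X), P ≤ B → B ≤ (S : Subgroup X) →
      Nat.card ↥(S : Subgroup X) - Nat.card ↥B = n → ∀ g : X, cj g B ≤ (S : Subgroup X) →
      Ch (Ind 𝓦 X) (S : Subgroup X) (B : Set X) g := by
    intro n
    induction n using Nat.strong_induction_on with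
    | _ n ih =>
    intro B hPB hBS hn g hgB
    have hcardle : ∀ T : Subgroup X, T ≤ (S : Subgroup X) → Nat.card ↥T ≤ Nat.card ↥(S : Subgroup X) :=
      fun T hT => Nat.le_of_dvd Nat.card_pos (Subgroup.card_dvd_of_le hT)
    have hbig : ∀ B' : Subgroup X, P ≤ B' → B' ≤ (S : Subgroup X) → Nat.card ↥B < Nat.card ↥B' →
        ∀ g : X, cj g B' ≤ (S : Subgroup X) → Ch (Ind 𝓦 X) (S : Subgroup X) (B' : Set X) g := by
      intro B' hPB' hB'S hlt g' hg'
      have h1 := hcardle B' hB'S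
      exact ih (Nat.card ↥(S : Subgroup X) - Nat.card ↥B') (by omega) B' hPB' hB'S rfl g' hg'
    -- the chain in the quotient
    have hAb : (QuotientGroup.mk' P) '' (B : Set X) ⊆
        (((S.mapSurjective hs : Sylow p (X ⧸ P)) : Subgroup (X ⧸ P)) : Set (X ⧸ P)) := by
      rintro _ ⟨b, hb, rfl⟩
      rw [hSb]; exact ⟨b, hBS hb, rfl⟩
    have hgAb : lc (QuotientGroup.mk' P g) ((QuotientGroup.mk' P) '' (B : Set X)) ⊆
        (((S.mapSurjective hs : Sylow p (X ⧸ P)) : Subgroup (X ⧸ P)) : Set (X ⧸ P)) := by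
      rintro _ ⟨_, ⟨b, hb, rfl⟩, rfl⟩
      rw [hSb]
      refine ⟨g * b * g⁻¹, hgB (conj_mem_map_conj B g hb), ?_⟩
      rw [mk_conj]
    have hch := ch_of_top h𝓦 (S.mapSurjective hs) hq hAb hgAb
    rw [hSb] at hch
    obtain ⟨c, hc, hcb⟩ := lift_p h𝓦 S P hPS hPcore hne hsub _ _ hch (B : Set X) hBS le_rfl
    have hcB : cj c B ≤ (S : Subgroup X) := by
      intro y hy
      have := hc.lc_sub
      rw [lc_coe] at this
      exact this hy
    have hPcB : P ≤ cj c B := by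
      have h1 : cj c P ≤ cj c B := cj_mono c hPB
      rwa [cj_normal c P] at h1
    -- the element `z`
    have hmod : ∀ b ∈ B, (g * b * g⁻¹) * (c * b * c⁻¹)⁻¹ ∈ P := by
      intro b hb
      have h1 := hcb b hb
      rw [← mk_conj] at h1
      rw [← QuotientGroup.eq_one_iff, ← QuotientGroup.mk'_apply, map_mul, map_inv, h1, mul_inv_cancel]
    have hzact : ∀ b' ∈ cj c B, (g * c⁻¹) * b' * (g * c⁻¹)⁻¹ * b'⁻¹ ∈ P := by
      intro b' hb'
      have hb : c⁻¹ * b' * c ∈ B := mem_cj.mp hb'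
      have h1 := hmod _ hb
      convert h1 using 1
      group
    have hz : g * c⁻¹ ∈ Subgroup.normalizer ((cj c B : Subgroup X) : Set X) := by
      apply mem_normalizer_of_cj_le
      rintro _ ⟨b', hb', rfl⟩
      have h1 := hzact b' hb'
      have e : (MulAut.conj (g * c⁻¹)).toMonoidHom b' =
          ((g * c⁻¹) * b' * (g * c⁻¹)⁻¹ * b'⁻¹) * b' := by
        show (g * c⁻¹) * b' * (g * c⁻¹)⁻¹ = _
        group
      rw [e]
      exact Subgroup.mul_mem _ (hPcB h1) hb'
    have hbig' : ∀ B' : Subgroup X, P ≤ B' → B' ≤ (S : Subgroup X) →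
        Nat.card ↥(cj c B) < Nat.card ↥B' →
        ∀ g : X, cj g B' ≤ (S : Subgroup X) → Ch (Ind 𝓦 X) (S : Subgroup X) (B' : Set X) g := by
      intro B' h1 h2 h3
      rw [card_cj] at h3
      exact hbig B' h1 h2 h3
    have cz := zclaim S P hPp hp' hS hPcB hcB hbig' hz hzact
    have cz' : Ch (Ind 𝓦 X) (S : Subgroup X) (lc c (B : Set X)) (g * c⁻¹) := by rw [lc_coe]; exact cz
    have := Ch.comp hc cz'
    have e : g * c⁻¹ * c = g := by group
    rwa [e] at this
  -- conclusion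
  set B : Subgroup X := Subgroup.closure A ⊔ P with hBdef
  have hB : B ≤ (S : Subgroup X) := sup_le ((Subgroup.closure_le _).mpr hA) hPS
  have hgB : cj g B ≤ (S : Subgroup X) := by
    unfold cj
    rw [hBdef, Subgroup.map_sup]
    refine sup_le (cj_closure_le _ hgA) ?_
    have : cj g P = P := cj_normal g P
    unfold cj at this
    rw [this]; exact hPS
  have := key _ B le_sup_right hB rfl g hgB
  exact Ch.mono (fun a ha => (le_sup_left : Subgroup.closure A ≤ B) (Subgroup.subset_closure ha)) this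

end quotp

end Cfsg.Agent.Lib.Helper4.GTFus
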