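import Mathlib
import Cfsg.Agent.Lib.Helper4.GTFus4
import Cfsg.Agent.Lib.Helper4.GTCtl

/-!
# Control of strong fusion by a set of section functors, from the constrained sections (Glauberman)

`main` : if the functors induced by a set `𝓦` of isomorphism-invariant `p`-group functors control strong fusion in every
section `X` of `G` with `C_X(O_p(X)) ≤ O_p(X)`, then they control strong fusion in every section of `G`.
-/

set_option autoImplicit false
set_option linter.style.haveILetI false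
set_option linter.unusedVariables false
set_option linter.unusedSectionVars false

namespace Cfsg.Agent.Lib.Helper4.GTFus

open Cfsg Cfsg.Agent.Lib.Helper7 Cfsg.Agent.Lib.Lead.Conj Cfsg.Agent.Lib.Lead.ConjFamily Cfsg.Agent.S1963
  Cfsg.Agent.S1965 Cfsg.Agent.S1961 Cfsg.Agent.S1959 Cfsg.Agent.Lib.Helper4.GT2
  Cfsg.Agent.Lib.Helper4.GTSec Cfsg.Agent.Lib.Helper4.PNil

open scoped Pointwise

universe u

section main

variable {p : ℕ} [Fact p.Prime] {𝓦 : Set (∀ (Q : Type u) [Group Q], Subgroup Q)}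

/-- if `C_S(P) ≤ P` for `P = O_p(X)` and `O_{p'}(X) = 1` then `C_X(P) ≤ P` -/
theorem centralizer_pCore_le {X : Type u} [Group X] [Finite X] (S : Sylow p X)
    (hM : Cfsg.pPrimeCore p X = ⊥)
    (h : (S : Subgroup X) ⊓ Subgroup.centralizer ((Cfsg.pCore p X : Subgroup X) : Set X) ≤ Cfsg.pCore p X) :
    Subgroup.centralizer ((Cfsg.pCore p X : Subgroup X) : Set X) ≤ Cfsg.pCore p X := by
  haveI hPn : (Cfsg.pCore p X).Normal := Cfsg.Agent.H1.pCore_normal p
  set P := Cfsg.pCore p X with hP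
  set C : Subgroup X := Subgroup.centralizer (P : Set X) with hC
  haveI hCn : C.Normal := Subgroup.normal_centralizer
  have hSC : IsSylowIn p ((S : Subgroup X) ⊓ C) C :=
    (IsSylowIn.of_sylow_top S).inf_normal C le_top (by rw [Subgroup.normalizer_eq_top_iff.mpr hCn])
  -- `C` has a normal `p`-complement
  have hpn : PNil p C := by
    rw [pnil_iff_hasNormalPComplement]
    obtain ⟨P₀⟩ : Nonempty (Sylow p ↥C) := inferInstance
    apply Cfsg.Agent.Lib.Lead.NormalPComplement.hasNormalPComplement_of_p'_centralize P₀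
    intro Q hQ g hg hgp
    have hP₀ : (P₀ : Subgroup ↥C).map C.subtype ≤ P := by
      obtain ⟨c, hc, hcP⟩ := hSC.conj (IsSylowIn.of_sylow P₀)
      rw [hcP]
      have h1 : cj c ((S : Subgroup X) ⊓ C) ≤ cj c P := cj_mono c h
      rwa [cj_normal c P] at h1
    rw [Subgroup.mem_centralizer_iff]
    intro q hq
    have hqP : (q : X) ∈ P := hP₀ ⟨q, hQ hq, rfl⟩
    have h1 := (Subgroup.mem_centralizer_iff.mp g.2) (q : X) hqP
    exact Subtype.ext h1
  obtain ⟨M₁, hM₁C, hn, hc, k, hk⟩ := hpn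
  have hM₁n : M₁.Normal := by
    constructor
    intro m hm x
    apply mem_of_coprime hM₁C hn hk (hCn.conj_mem m (hM₁C hm) x)
    rw [orderOf_conj]
    have h1 : orderOf m ∣ Nat.card ↥M₁ := by
      have := orderOf_dvd_natCard (⟨m, hm⟩ : ↥M₁)
      rwa [← Subgroup.orderOf_coe] at this
    exact Nat.Coprime.coprime_dvd_left h1 hc
  have hM₁bot : M₁ = ⊥ := by
    rw [eq_bot_iff, ← hM]
    exact Cfsg.Agent.H1.le_pPrimeCore hM₁n hc
  rw [hM₁bot, Subgroup.relIndex_bot_left] at hk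
  exact Cfsg.Agent.H1.le_pCore hCn (IsPGroup.of_card hk)

/-- the condition `C(O_p) ≤ O_p` is invariant under isomorphisms -/
theorem constrained_equiv {X Y : Type u} [Group X] [Group Y] (e : X ≃* Y)
    (h : Subgroup.centralizer ((Cfsg.pCore p X : Subgroup X) : Set X) ≤ Cfsg.pCore p X) :
    Subgroup.centralizer ((Cfsg.pCore p Y : Subgroup Y) : Set Y) ≤ Cfsg.pCore p Y := by
  have hpc : (Cfsg.pCore p X).map e.toMonoidHom = Cfsg.pCore p Y :=
    Cfsg.Agent.Lib.Helper7.pCore_map_equiv e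
  intro y hy
  have hx : e.symm y ∈ Subgroup.centralizer (Cfsg.pCore p X : Set X) := by
    rw [Subgroup.mem_centralizer_iff]
    intro h' hh
    have h1 : e h' ∈ Cfsg.pCore p Y := by
      rw [← hpc]; exact ⟨h', hh, rfl⟩
    have h2 := Subgroup.mem_centralizer_iff.mp hy (e h') h1
    have h3 := congrArg e.symm h2
    rw [map_mul, map_mul, e.symm_apply_apply] at h3
    exact h3
  have h4 := h hx
  rw [← hpc]
  exact ⟨e.symm y, h4, e.apply_symm_apply y⟩

theorem main (h𝓦 : ∀ W ∈ 𝓦, Cfsg.IsCharPFunctor.{u} p W) (G : Type u) [Group G]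
    (hloc : ∀ (X : Type u) [Group X] [Finite X], IsSec G X →
      Subgroup.centralizer ((Cfsg.pCore p X : Subgroup X) : Set X) ≤ Cfsg.pCore p X →
      FamilyControlsStrongFusionIn p (Ind 𝓦 X) ⊤) :
    ∀ (n : ℕ) (X : Type u) [Group X] [Finite X], Nat.card X = n → IsSec G X →
      FamilyControlsStrongFusionIn p (Ind 𝓦 X) ⊤ := by
  intro n
  induction n using Nat.strong_induction_on with
  | _ n ih =>
  intro X _ _ hn hX
  have hp : p.Prime := Fact.out
  obtain ⟨S⟩ : Nonempty (Sylow p X) := inferInstance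
  haveI hPn : (Cfsg.pCore p X).Normal := Cfsg.Agent.H1.pCore_normal p
  set P := Cfsg.pCore p X with hP
  have hPp : IsPGroup p ↥P := Cfsg.Agent.H1.pCore_isPGroup p
  have hPS : P ≤ (S : Subgroup X) := hPp.le_sylow_of_normal S
  have hPcore : ∀ Q : Subgroup X, Q.Normal → IsPGroup p ↥Q → Q ≤ P :=
    fun Q hQn hQp => Cfsg.Agent.H1.le_pCore hQn hQp
  -- the induction hypothesis
  have ih_sub : ∀ Y : Subgroup X, Y ≠ ⊤ → FamilyControlsStrongFusionIn p (Ind 𝓦 ↥Y) ⊤ := by
    intro Y hY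
    have h1 : Nat.card ↥Y < n := by
      rw [← hn]
      refine lt_of_le_of_ne (Nat.le_of_dvd Nat.card_pos (Subgroup.card_subgroup_dvd_card Y)) ?_
      intro h
      exact hY ((Subgroup.card_eq_iff_eq_top Y).mp h)
    exact ih _ h1 ↥Y rfl (isSec_sub G X Y hX)
  have ih_quot : ∀ (M : Subgroup X) [M.Normal], M ≠ ⊥ →
      FamilyControlsStrongFusionIn p (Ind 𝓦 (X ⧸ M)) ⊤ := by
    intro M _ hM
    have h1 : Nat.card (X ⧸ M) < n := by
      rw [← hn, Subgroup.card_eq_card_quotient_mul_card_subgroup M]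
      have h2 : 1 < Nat.card ↥M := (Subgroup.one_lt_card_iff_ne_bot M).mpr hM
      have h3 : 0 < Nat.card (X ⧸ M) := Nat.card_pos
      nlinarith
    exact ih _ h1 (X ⧸ M) rfl (isSec_quot G X M hX)
  have hsub : ∀ Y : Subgroup X, Y ≠ ⊤ → (S : Subgroup X) ≤ Y → ∀ (A : Set X) (y : X), y ∈ Y →
      A ⊆ ((S : Subgroup X) : Set X) → lc y A ⊆ ((S : Subgroup X) : Set X) →
      Ch (Ind 𝓦 X) (S : Subgroup X) A y :=
    fun Y hY hSY A y hy hA hyA => ch_of_subgroup h𝓦 S Y hSY (ih_sub Y hY) hy hA hyA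
  -- case 1: `O_{p'}(X) ≠ 1`
  by_cases hM : Cfsg.pPrimeCore p X = ⊥
  swap
  · haveI : (Cfsg.pPrimeCore p X).Normal := Cfsg.Agent.H1.pPrimeCore_normal p
    exact family_of_ch S (fun A g hA hgA => ch_of_quotient_p' h𝓦 S (Cfsg.pPrimeCore p X)
      (Cfsg.Agent.H1.pPrimeCore_coprime p) (ih_quot _ hM) A g hA hgA)
  -- case 2a: `O_p(X) = 1`
  by_cases hPbot : P = ⊥
  · apply Cfsg.Agent.S1959.result S (Ind 𝓦 X) (isConjugacyFunctor_ind h𝓦 X)
    intro T hTS hTne hidx
    have hNT : Subgroup.normalizer (T : Set X) ≠ ⊤ := by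
      intro h
      apply hTne
      rw [eq_bot_iff, ← hPbot]
      exact hPcore T (Subgroup.normalizer_eq_top_iff.mp h) (S.isPGroup'.to_le hTS)
    have h1 := family_map h𝓦 (Subgroup.normalizer (T : Set X)).subtype
      (Subgroup.subtype_injective _) (ih_sub _ hNT)
    rwa [Subgroup.range_subtype] at h1
  -- case 2b
  set C : Subgroup X := Subgroup.centralizer (P : Set X) with hC
  haveI hCn : C.Normal := Subgroup.normal_centralizer
  by_cases hSC : (S : Subgroup X) ⊓ C ≤ P
  · exact hloc X hX (centralizer_pCore_le S hM hSC)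
  -- case (b2)
  have hne : P ≠ (S : Subgroup X) := by
    intro h
    apply hSC
    rw [← h]; exact inf_le_left
  refine family_of_ch S (fun A g hA hgA => ?_)
  set H : Subgroup X := P ⊔ C with hH
  haveI hHn : H.Normal := by rw [hH]; infer_instance
  have hSD : (S : Subgroup X) ≤ Subgroup.normalizer (((S : Subgroup X) ⊓ H : Subgroup X) : Set X) := by
    intro s hs
    apply mem_normalizer_of_cj_le
    unfold cj
    rw [Subgroup.map_inf_eq _ _ _ (MulAut.conj s).injective]
    refine inf_le_inf (cj_le_of_mem le_rfl hs) (le_of_eq (cj_normal s H))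
  have hND : Subgroup.normalizer (((S : Subgroup X) ⊓ H : Subgroup X) : Set X) ≠ ⊤ := by
    intro h
    apply hSC
    have h1 : (S : Subgroup X) ⊓ H ≤ P :=
      hPcore _ (Subgroup.normalizer_eq_top_iff.mp h) (S.isPGroup'.to_le inf_le_left)
    exact (inf_le_inf_left _ (le_sup_right : C ≤ H)).trans h1
  by_cases hHS : H ⊔ (S : Subgroup X) = ⊤
  · -- all `p'`-elements centralize `P`
    have hCS : C ⊔ (S : Subgroup X) = ⊤ := by
      rw [eq_top_iff, ← hHS, hH]
      exact sup_le (sup_le (hPS.trans le_sup_right) le_sup_left) le_sup_right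
    have hidx : ∃ k : ℕ, C.relIndex ⊤ = p ^ k := by
      rw [← hCS, Subgroup.relIndex_sup_left]
      have h1 : C.relIndex (S : Subgroup X) ∣ Nat.card ↥(S : Subgroup X) := Subgroup.relIndex_dvd_card _ _
      obtain ⟨j, hj⟩ := IsPGroup.iff_card.mp S.isPGroup'
      rw [hj] at h1
      obtain ⟨i, -, hi⟩ := (Nat.dvd_prime_pow hp).mp h1
      exact ⟨i, hi⟩
    obtain ⟨k, hk⟩ := hidx
    have hp' : ∀ x : X, (orderOf x).Coprime p → x ∈ Subgroup.centralizer (P : Set X) := by
      intro x hx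
      exact mem_of_coprime (le_top : C ≤ ⊤)
        (by rw [Subgroup.normalizer_eq_top_iff.mpr hCn]) hk (Subgroup.mem_top x) hx
    have hPne : P ≠ ⊥ := hPbot
    exact ch_of_quotient_p h𝓦 S P hPS hPcore hne hp' (ih_quot P hPne) hsub A g hA hgA
  · exact ch_of_generation S H (fun A y hy hA hyA => hsub _ hHS le_sup_right A y hy hA hyA)
      (fun A y hy hA hyA => hsub _ hND hSD A y hy hA hyA) A g hA hgA

/-- the statement form: sections `K ⧸ R` -/
theorem main_sections (h𝓦 : ∀ W ∈ 𝓦, Cfsg.IsCharPFunctor.{u} p W) (G : Type u) [Group G] [Finite G]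
    (hloc : ∀ (K R : Subgroup G) [hR : (R.subgroupOf K).Normal],
      Subgroup.centralizer ((Cfsg.pCore p (↥K ⧸ R.subgroupOf K) : Subgroup (↥K ⧸ R.subgroupOf K)) :
        Set (↥K ⧸ R.subgroupOf K)) ≤ Cfsg.pCore p (↥K ⧸ R.subgroupOf K) →
      FamilyControlsStrongFusionIn p (Ind 𝓦 (↥K ⧸ R.subgroupOf K)) ⊤)
    (X : Type u) [Group X] [Finite X] (hX : IsSec G X) :
    FamilyControlsStrongFusionIn p (Ind 𝓦 X) ⊤ := by
  refine main h𝓦 G ?_ (Nat.card X) X rfl hX
  intro Y _ _ hY hcY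
  obtain ⟨K, R, hR, ⟨e⟩⟩ := isSec_equiv G Y hY
  haveI := hR
  exact family_equiv h𝓦 e.symm (hloc K R (constrained_equiv e hcY))

end main

end Cfsg.Agent.Lib.Helper4.GTFus
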