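import Mathlib
import Cfsg.Agent.Lib.Helper4.GTFus5

/-!
# Consequences: a single functor normal in the constrained sections; two functors with a factorization
-/

set_option autoImplicit false
set_option linter.style.haveILetI false
set_option linter.unusedVariables false
set_option linter.unusedSectionVars false

namespace Cfsg.Agent.Lib.Helper4.GTFus

open Cfsg Cfsg.Agent.Lib.Helper7 Cfsg.Agent.Lib.Lead.Conj Cfsg.Agent.Lib.Lead.ConjFamily Cfsg.Agent.S1963
  Cfsg.Agent.S1965 Cfsg.Agent.S1961 Cfsg.Agent.S1959 Cfsg.Agent.Lib.Helper4.GT2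
  Cfsg.Agent.Lib.Helper4.GTSec Cfsg.Agent.Lib.Helper4.PNil

universe u

section single

variable {G : Type*} [Group G] {𝓦 : Set (Subgroup G → Subgroup G)} {S : Subgroup G}

/-- a chain for a single functor is a single conjugation in the normalizer -/
theorem ch_single_functor {W₀ : Subgroup G → Subgroup G} (h𝓦 : ∀ W ∈ 𝓦, W = W₀) {A : Set G} {h : G}
    (hc : Ch 𝓦 S A h) :
    ∃ x ∈ Subgroup.normalizer ((W₀ S : Subgroup G) : Set G), ∀ a ∈ A, x * a * x⁻¹ = h * a * h⁻¹ := by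
  induction hc with
  | refl hA => exact ⟨1, Subgroup.one_mem _, fun a _ => rfl⟩
  | @step h s W hW hs hsA hch ih =>
    obtain ⟨x, hx, hxa⟩ := ih
    rw [h𝓦 W hW] at hs
    refine ⟨s * x, Subgroup.mul_mem _ hs hx, fun a ha => ?_⟩
    calc s * x * a * (s * x)⁻¹ = s * (x * a * x⁻¹) * s⁻¹ := by group
      _ = s * (h * a * h⁻¹) * s⁻¹ := by rw [hxa a ha]
      _ = s * h * a * (s * h)⁻¹ := by group
  | @congr h h' hch hh ih =>
    obtain ⟨x, hx, hxa⟩ := ih
    exact ⟨x, hx, fun a ha => (hxa a ha).trans (hh a ha).symm⟩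

end single

section two

variable {p : ℕ} [Fact p.Prime] {X : Type u} [Group X] [Finite X] {𝓦' : Set (Subgroup X → Subgroup X)}

/-- a factorization `X = N(W₁ T) N(W₂ T)` gives control of strong fusion by the pair -/
theorem ch_of_factorization (T : Sylow p X) (W₁ W₂ : Subgroup X → Subgroup X) (h₁ : W₁ ∈ 𝓦') (h₂ : W₂ ∈ 𝓦')
    (hT₁ : (T : Subgroup X) ≤ Subgroup.normalizer ((W₁ (T : Subgroup X) : Subgroup X) : Set X))
    (hT₂ : (T : Subgroup X) ≤ Subgroup.normalizer ((W₂ (T : Subgroup X) : Subgroup X) : Set X))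
    (hfac : ∀ x : X, ∃ a ∈ Subgroup.normalizer ((W₁ (T : Subgroup X) : Subgroup X) : Set X),
      ∃ b ∈ Subgroup.normalizer ((W₂ (T : Subgroup X) : Subgroup X) : Set X), x = a * b)
    (A : Set X) (x : X) (hA : A ⊆ ((T : Subgroup X) : Set X)) (hxA : lc x A ⊆ ((T : Subgroup X) : Set X)) :
    Ch 𝓦' (T : Subgroup X) A x := by
  obtain ⟨a, ha, b, hb, rfl⟩ := hfac x
  set N₁ := Subgroup.normalizer ((W₁ (T : Subgroup X) : Subgroup X) : Set X) with hN₁
  set N₂ := Subgroup.normalizer ((W₂ (T : Subgroup X) : Subgroup X) : Set X) with hN₂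
  set A₁ : Subgroup X := Subgroup.closure A with hA₁
  have hA₁T : A₁ ≤ (T : Subgroup X) := (Subgroup.closure_le _).mpr hA
  have hxA₁ : cj (a * b) A₁ ≤ (T : Subgroup X) := cj_closure_le _ hxA
  have hbA₁ : cj b A₁ ≤ N₁ ⊓ N₂ := by
    refine le_inf ?_ ?_
    · have h1 : cj a⁻¹ (cj (a * b) A₁) ≤ cj a⁻¹ (T : Subgroup X) := cj_mono _ hxA₁
      rw [cj_cj, ← mul_assoc, inv_mul_cancel, one_mul] at h1
      exact h1.trans (cj_le_of_mem hT₁ (Subgroup.inv_mem _ ha))
    · exact (cj_mono b hA₁T).trans (cj_le_of_mem hT₂ hb)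
  have hbp : IsPGroup p ↥(cj b A₁) := (T.isPGroup'.to_le hA₁T).map _
  obtain ⟨i, hi, hiA⟩ := exists_conj_le T (le_inf hT₁ hT₂) hbp hbA₁
  rw [cj_cj] at hiA
  have hb' : i * b ∈ N₂ := Subgroup.mul_mem _ hi.2 hb
  have ha' : a * i⁻¹ ∈ N₁ := Subgroup.mul_mem _ ha (Subgroup.inv_mem _ hi.1)
  have hib : lc (i * b) A ⊆ ((T : Subgroup X) : Set X) := by
    intro y hy
    apply hiA
    rw [← SetLike.mem_coe, ← lc_coe]
    exact lc_mono _ Subgroup.subset_closure hy
  have c1 : Ch 𝓦' (T : Subgroup X) A (i * b) := Ch.single W₂ h₂ hb' hA hib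
  have e : a * i⁻¹ * (i * b) = a * b := by group
  have c2 : Ch 𝓦' (T : Subgroup X) (lc (i * b) A) (a * i⁻¹) := by
    refine Ch.single W₁ h₁ ha' hib ?_
    rw [← lc_mul, e]; exact hxA
  have := Ch.comp c1 c2
  rwa [e] at this

end two

end Cfsg.Agent.Lib.Helper4.GTFus
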