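import Mathlib
import Cfsg.Prelude.Def_PLocal
import Cfsg.Agent.Lib.Helper4.GTFus6

/-!
# Factorizations `X = C_X(Ω₁Z(S)) N_X(W(S))` from the constrained sections
-/

set_option autoImplicit false
set_option linter.style.haveILetI false
set_option linter.unusedVariables false
set_option linter.unusedSectionVars false

namespace Cfsg.Agent.Lib.Helper4.GTFus

open Cfsg Cfsg.Agent.Lib.Helper7 Cfsg.Agent.Lib.Lead.Conj Cfsg.Agent.Lib.Lead.ConjFamily Cfsg.Agent.S1963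
  Cfsg.Agent.S1965 Cfsg.Agent.S1961 Cfsg.Agent.S1959 Cfsg.Agent.Lib.Helper4.GT2
  Cfsg.Agent.Lib.Helper4.GTSec Cfsg.Agent.Lib.Helper4.PNil

open scoped Pointwise

universe u

section omega

variable {p : ℕ}

/-- `Ω₁Z` commutes with homomorphisms injective on the subgroup -/
theorem omegaOneCenter_map {X Y : Type*} [Group X] [Group Y] (f : X →* Y) (D : Subgroup X)
    (hinj : ∀ x ∈ D, f x = 1 → x = 1) :
    Cfsg.omegaOne p (D.map f ⊓ Subgroup.centralizer ((D.map f : Subgroup Y) : Set Y)) =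
      (Cfsg.omegaOne p (D ⊓ Subgroup.centralizer (D : Set X))).map f := by
  unfold Cfsg.omegaOne
  rw [MonoidHom.map_closure]
  congr 1
  ext y
  constructor
  · rintro ⟨⟨hyD, hyC⟩, hyp⟩
    obtain ⟨d, hd, rfl⟩ := hyD
    have hyC' : f d ∈ Subgroup.centralizer ((D.map f : Subgroup Y) : Set Y) := hyC
    refine ⟨d, ⟨⟨hd, ?_⟩, ?_⟩, rfl⟩
    · show d ∈ Subgroup.centralizer (D : Set X)
      rw [Subgroup.mem_centralizer_iff]
      intro d' hd'
      have h1 := (Subgroup.mem_centralizer_iff.mp hyC') (f d') ⟨d', hd', rfl⟩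
      have h2 : f (d' * d * (d * d')⁻¹) = 1 := by
        rw [map_mul, map_inv, map_mul, map_mul, h1, mul_inv_cancel]
      have h3 := hinj _ (D.mul_mem (D.mul_mem hd' hd) (D.inv_mem (D.mul_mem hd hd'))) h2
      exact mul_inv_eq_one.mp h3
    · have h1 : f (d ^ p) = 1 := by rw [map_pow]; exact hyp
      exact hinj _ (D.pow_mem hd p) h1
  · rintro ⟨d, ⟨⟨hd, hdC⟩, hdp⟩, rfl⟩
    have hdC' : d ∈ Subgroup.centralizer (D : Set X) := hdC
    refine ⟨⟨⟨d, hd, rfl⟩, ?_⟩, ?_⟩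
    · show f d ∈ Subgroup.centralizer ((D.map f : Subgroup Y) : Set Y)
      rw [Subgroup.mem_centralizer_iff]
      rintro _ ⟨d', hd', rfl⟩
      rw [← map_mul, ← map_mul, (Subgroup.mem_centralizer_iff.mp hdC') d' hd']
    · show f d ^ p = 1
      rw [← map_pow, hdp, map_one]

theorem omegaOneCenter_le {X : Type*} [Group X] (D : Subgroup X) :
    Cfsg.omegaOne p (D ⊓ Subgroup.centralizer (D : Set X)) ≤ D ⊓ Subgroup.centralizer (D : Set X) := by
  unfold Cfsg.omegaOne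
  rw [Subgroup.closure_le]
  intro x hx
  exact hx.1

end omega

section L1

variable {p : ℕ} [Fact p.Prime] {X : Type u} [Group X] [Finite X]

/-- lifting the factorization `C(Ω₁Z(T)) N(W(T))` from the quotient by a normal `p'`-subgroup centralizing `Ω₁Z(S)` -/
theorem cz_lift (W : ∀ (Q : Type u) [Group Q], Subgroup Q) (hW : Cfsg.IsCharPFunctor.{u} p W) (S : Sylow p X)
    (M : Subgroup X) [hM : M.Normal] (hMc : (Nat.card ↥M).Coprime p)
    (hMZ : M ≤ Subgroup.centralizer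
      ((Cfsg.omegaOne p ((S : Subgroup X) ⊓ Subgroup.centralizer ((S : Subgroup X) : Set X)) : Subgroup X) : Set X))
    (hf : ∀ y : X ⧸ M, ∃ a ∈ Subgroup.centralizer
        ((Cfsg.omegaOne p ((S : Subgroup X).map (QuotientGroup.mk' M) ⊓
          Subgroup.centralizer (((S : Subgroup X).map (QuotientGroup.mk' M) : Subgroup (X ⧸ M)) : Set (X ⧸ M))) :
          Subgroup (X ⧸ M)) : Set (X ⧸ M)),
      ∃ b ∈ Subgroup.normalizer ((Cfsg.inducedFunctor (G := X ⧸ M) W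
          ((S : Subgroup X).map (QuotientGroup.mk' M)) : Subgroup (X ⧸ M)) : Set (X ⧸ M)), y = a * b)
    (x : X) :
    ∃ a ∈ Subgroup.centralizer
      ((Cfsg.omegaOne p ((S : Subgroup X) ⊓ Subgroup.centralizer ((S : Subgroup X) : Set X)) : Subgroup X) : Set X),
      ∃ b ∈ Subgroup.normalizer ((Cfsg.inducedFunctor (G := X) W (S : Subgroup X) : Subgroup X) : Set X),
        x = a * b := by
  have hSM : (S : Subgroup X) ⊓ M = ⊥ :=
    (Cfsg.Agent.H1.inf_eq_bot_of_pgroup_coprime M (S : Subgroup X) S.isPGroup' hMc) ▸ inf_comm _ _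
  have hinj : ∀ x ∈ (S : Subgroup X), QuotientGroup.mk' M x = 1 → x = 1 := by
    intro x hx hx1
    have h1 : x ∈ M := (QuotientGroup.eq_one_iff x).mp hx1
    have h2 : x ∈ (S : Subgroup X) ⊓ M := ⟨hx, h1⟩
    rwa [hSM, Subgroup.mem_bot] at h2
  have hW2 := pFunctor2_induced W hW
  set Z : Subgroup X := Cfsg.omegaOne p ((S : Subgroup X) ⊓ Subgroup.centralizer ((S : Subgroup X) : Set X))
    with hZ
  set V : Subgroup X := Cfsg.inducedFunctor (G := X) W (S : Subgroup X) with hV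
  have hZS : Z ≤ (S : Subgroup X) := (omegaOneCenter_le _).trans inf_le_left
  have hSZ : (S : Subgroup X) ≤ Subgroup.normalizer (Z : Set X) := by
    intro s hs
    apply (Subgroup.centralizer_le_normalizer _)
    rw [Subgroup.mem_centralizer_iff]
    intro z hz
    exact ((Subgroup.mem_centralizer_iff.mp ((omegaOneCenter_le _ hz).2)) s hs).symm
  have hVS : V ≤ (S : Subgroup X) := hW2.le X _ S.isPGroup'
  have hSV : (S : Subgroup X) ≤ Subgroup.normalizer (V : Set X) :=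
    Subgroup.le_normalizer.trans (normalizer_le_normalizer_W2 hW2 _ S.isPGroup')
  have hZT : Cfsg.omegaOne p ((S : Subgroup X).map (QuotientGroup.mk' M) ⊓
      Subgroup.centralizer (((S : Subgroup X).map (QuotientGroup.mk' M) : Subgroup (X ⧸ M)) : Set (X ⧸ M))) =
      Z.map (QuotientGroup.mk' M) := omegaOneCenter_map _ _ hinj
  have hVT : Cfsg.inducedFunctor (G := X ⧸ M) W ((S : Subgroup X).map (QuotientGroup.mk' M)) =
      V.map (QuotientGroup.mk' M) := hW2.map X (X ⧸ M) (QuotientGroup.mk' M) (S : Subgroup X) S.isPGroup' hinj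
  obtain ⟨ab, hab, bb, hbb, hy⟩ := hf (QuotientGroup.mk' M x)
  rw [hZT] at hab
  rw [hVT] at hbb
  obtain ⟨a₀, rfl⟩ := QuotientGroup.mk'_surjective M ab
  obtain ⟨b₀, rfl⟩ := QuotientGroup.mk'_surjective M bb
  -- adjust `a₀`
  have haZ : cj a₀ Z ≤ Z ⊔ M := by
    rintro _ ⟨z, hz, rfl⟩
    apply mem_sup_of_mk_mem_map
    show QuotientGroup.mk' M (a₀ * z * a₀⁻¹) ∈ _
    rw [mk_conj]
    have h1 : QuotientGroup.mk' M z ∈ Z.map (QuotientGroup.mk' M) := ⟨z, hz, rfl⟩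
    have h2 := (Subgroup.mem_centralizer_iff.mp hab) _ h1
    rw [← h2, mul_inv_cancel_right]
    exact h1
  obtain ⟨m', hm', ha₁, -⟩ := lift_step S M hMc hZS hSZ (bot_le : (⊥ : Subgroup X) ≤ _) haZ
    (by unfold cj; rw [Subgroup.map_bot]; exact bot_le)
  have ha₁C : m' * a₀ ∈ Subgroup.centralizer (Z : Set X) := by
    rw [Subgroup.mem_centralizer_iff]
    intro z hz
    have h1 : (m' * a₀) * z * (m' * a₀)⁻¹ * z⁻¹ ∈ Z :=
      Z.mul_mem ((Subgroup.mem_normalizer_iff.mp ha₁ z).mp hz) (Z.inv_mem hz)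
    have h2 : (m' * a₀) * z * (m' * a₀)⁻¹ * z⁻¹ ∈ M := by
      rw [← QuotientGroup.eq_one_iff, ← QuotientGroup.mk'_apply, map_mul, mk_conj, map_mul, map_inv]
      have hm1 : QuotientGroup.mk' M m' = 1 := by
        rw [QuotientGroup.mk'_apply]; exact (QuotientGroup.eq_one_iff m').mpr hm'
      rw [hm1, one_mul]
      have h3 : QuotientGroup.mk' M z ∈ Z.map (QuotientGroup.mk' M) := ⟨z, hz, rfl⟩
      have h4 := (Subgroup.mem_centralizer_iff.mp hab) _ h3
      rw [← h4, mul_inv_cancel_right, mul_inv_cancel]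
    have h5 : (m' * a₀) * z * (m' * a₀)⁻¹ * z⁻¹ ∈ (S : Subgroup X) ⊓ M := ⟨hZS h1, h2⟩
    rw [hSM, Subgroup.mem_bot] at h5
    calc z * (m' * a₀) = ((m' * a₀) * z * (m' * a₀)⁻¹ * z⁻¹)⁻¹ * ((m' * a₀) * z) := by group
      _ = m' * a₀ * z := by rw [h5, inv_one, one_mul]
  -- adjust `b₀`
  have hbV : cj b₀ V ≤ V ⊔ M := by
    rintro _ ⟨v, hv, rfl⟩
    apply mem_sup_of_mk_mem_map
    show QuotientGroup.mk' M (b₀ * v * b₀⁻¹) ∈ _
    rw [mk_conj]
    have h1 : QuotientGroup.mk' M v ∈ V.map (QuotientGroup.mk' M) := ⟨v, hv, rfl⟩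
    exact (Subgroup.mem_normalizer_iff.mp hbb _).mp h1
  obtain ⟨m, hm, hb₁, -⟩ := lift_step S M hMc hVS hSV (bot_le : (⊥ : Subgroup X) ≤ _) hbV
    (by unfold cj; rw [Subgroup.map_bot]; exact bot_le)
  -- assemble
  have hm₃ : x * (a₀ * b₀)⁻¹ ∈ M := by
    rw [← QuotientGroup.eq_one_iff, ← QuotientGroup.mk'_apply, map_mul, map_inv, hy, map_mul, mul_inv_cancel]
  refine ⟨x * (a₀ * b₀)⁻¹ * m'⁻¹ * (m' * a₀) * m⁻¹, ?_, m * b₀, hb₁, by group⟩
  exact Subgroup.mul_mem _ (Subgroup.mul_mem _ (Subgroup.mul_mem _ (hMZ hm₃)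
    (Subgroup.inv_mem _ (hMZ hm'))) ha₁C) (Subgroup.inv_mem _ (hMZ hm))

end L1

end Cfsg.Agent.Lib.Helper4.GTFus
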