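import Mathlib
import Cfsg.Agent.Lib.Helper4.GTFus7

/-!
# The factorization `X = C_X(Ω₁Z(S)) N_X(W(S))` for subgroups `X ⊇ S` with `Ω₁Z(S) ≤ O_p(X)`
-/

set_option autoImplicit false
set_option linter.style.haveILetI false
set_option linter.unusedVariables false
set_option linter.unusedSectionVars false

namespace Cfsg.Agent.Lib.Helper4.GTFus

open Cfsg Cfsg.Agent.Lib.Helper7 Cfsg.Agent.Lib.Lead.Conj Cfsg.Agent.Lib.Lead.ConjFamily Cfsg.Agent.S1963
  Cfsg.Agent.S1965 Cfsg.Agent.S1961 Cfsg.Agent.S1959 Cfsg.Agent.Lib.Helper4.GT2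
  Cfsg.Agent.Lib.Helper4.GTSec Cfsg.Agent.Lib.Helper4.PNil

open scoped Pointwise

universe u

section L2

variable {p : ℕ} [Fact p.Prime] {G : Type u} [Group G] [Finite G]

theorem pnil_of_central_sylow {C T₀ : Subgroup G} (hT₀ : IsSylowIn p T₀ C)
    (hcent : C ≤ Subgroup.centralizer (T₀ : Set G)) : PNil p C := by
  rw [pnil_iff_hasNormalPComplement]
  obtain ⟨P₀⟩ : Nonempty (Sylow p ↥C) := inferInstance
  apply Cfsg.Agent.Lib.Lead.NormalPComplement.hasNormalPComplement_of_p'_centralize P₀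
  intro Q hQ g hg hgp
  have hP₀ : (P₀ : Subgroup ↥C).map C.subtype ≤ T₀ := by
    obtain ⟨c, hc, hcP⟩ := hT₀.conj (IsSylowIn.of_sylow P₀)
    rw [hcP]
    rintro _ ⟨t, ht, rfl⟩
    have h1 := (Subgroup.mem_centralizer_iff.mp (hcent hc)) t ht
    show c * t * c⁻¹ ∈ T₀
    rw [← h1, mul_inv_cancel_right]; exact ht
  rw [Subgroup.mem_centralizer_iff]
  intro q hq
  have hqT : (q : G) ∈ T₀ := hP₀ ⟨q, hQ hq, rfl⟩
  have h1 := (Subgroup.mem_centralizer_iff.mp (hcent g.2)) (q : G) hqT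
  exact Subtype.ext h1

theorem frattini_mul_amb {X C D : Subgroup G} (hCX : C ≤ X) (hXC : X ≤ Subgroup.normalizer (C : Set G))
    (hD : IsSylowIn p D C) {g : G} (hg : g ∈ X) :
    ∃ l ∈ X ⊓ Subgroup.normalizer (D : Set G), ∃ c ∈ C, g = l * c := by
  have hD' : IsSylowIn p (cj g⁻¹ D) C := by
    have := isSylowIn_cj g⁻¹ hD
    rwa [cj_eq_of_mem_normalizer (hXC (X.inv_mem hg))] at this
  obtain ⟨h, hh, hhD⟩ := hD.conj hD'
  have h1 : cj (g * h) D ≤ D := by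
    have h2 : cj (g * h) D = cj g (cj g⁻¹ D) := by rw [hhD, cj_cj]
    rw [h2, cj_cj, mul_inv_cancel, cj_one]
  exact ⟨g * h, ⟨X.mul_mem hg (hCX hh), mem_normalizer_of_cj_le h1⟩, h⁻¹, C.inv_mem hh, by group⟩

theorem exists_core_constrained (S : Sylow p G) {X Q : Subgroup G} (hSX : (S : Subgroup G) ≤ X)
    (hQS : Q ≤ (S : Subgroup G)) (hXQ : X ≤ Subgroup.normalizer (Q : Set G))
    (hcQ : (S : Subgroup G) ⊓ Subgroup.centralizer (Q : Set G) ≤ Q) :
    ∃ M : Subgroup G, M ≤ X ⊓ Subgroup.centralizer (Q : Set G) ∧ X ≤ Subgroup.normalizer (M : Set G) ∧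
      (Nat.card ↥M).Coprime p ∧ ∀ [hR : (M.subgroupOf X).Normal],
        Subgroup.centralizer ((Cfsg.pCore p (↥X ⧸ M.subgroupOf X) : Subgroup (↥X ⧸ M.subgroupOf X)) :
          Set (↥X ⧸ M.subgroupOf X)) ≤ Cfsg.pCore p (↥X ⧸ M.subgroupOf X) := by
  set C : Subgroup G := X ⊓ Subgroup.centralizer (Q : Set G) with hC
  have hQX : Q ≤ X := hQS.trans hSX
  have hCX : C ≤ X := inf_le_left
  have hXC : X ≤ Subgroup.normalizer (C : Set G) := by
    intro x hx
    apply mem_normalizer_of_cj_le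
    rintro _ ⟨c, hc, rfl⟩
    refine ⟨X.mul_mem (X.mul_mem hx hc.1) (X.inv_mem hx), ?_⟩
    exact (Subgroup.mem_normalizer_iff.mp (normalizer_le_normalizer_centralizer' Q (hXQ hx)) c).mp hc.2
  have hT₀ : IsSylowIn p ((S : Subgroup G) ⊓ C) C := (IsSylowIn.of_sylow_le S hSX).inf_normal C hCX hXC
  have hSCQ : (S : Subgroup G) ⊓ C ≤ Q := (inf_le_inf_left _ inf_le_right).trans hcQ
  have hcent : C ≤ Subgroup.centralizer (((S : Subgroup G) ⊓ C : Subgroup G) : Set G) :=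
    inf_le_right.trans (Subgroup.centralizer_le hSCQ)
  obtain ⟨M, hMC, hn, hc, k, hk⟩ := pnil_of_central_sylow hT₀ hcent
  have hXM : X ≤ Subgroup.normalizer (M : Set G) := by
    intro x hx
    apply mem_normalizer_of_cj_le
    rintro _ ⟨m, hm, rfl⟩
    apply mem_of_coprime hMC hn hk
    · exact (Subgroup.mem_normalizer_iff.mp (hXC hx) m).mp (hMC hm)
    · show (orderOf (x * m * x⁻¹)).Coprime p
      rw [orderOf_conj]
      have h1 : orderOf m ∣ Nat.card ↥M := by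
        have := orderOf_dvd_natCard (⟨m, hm⟩ : ↥M)
        rwa [← Subgroup.orderOf_coe] at this
      exact Nat.Coprime.coprime_dvd_left h1 hc
  refine ⟨M, hMC, hXM, hc, ?_⟩
  intro hR
  set π := QuotientGroup.mk' (M.subgroupOf X) with hπ
  have hπs : Function.Surjective π := QuotientGroup.mk'_surjective _
  have hQ'n : (Q.subgroupOf X).Normal := (Subgroup.normal_subgroupOf_iff_le_normalizer hQX).mpr hXQ
  have hQbn : ((Q.subgroupOf X).map π).Normal := hQ'n.map π hπs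
  have hQbp : IsPGroup p ↥((Q.subgroupOf X).map π) :=
    ((S.isPGroup'.to_le hQS).comap_subtype).map π
  have hQb : (Q.subgroupOf X).map π ≤ Cfsg.pCore p (↥X ⧸ M.subgroupOf X) :=
    Cfsg.Agent.H1.le_pCore hQbn hQbp
  have hMQ : M ⊓ Q = ⊥ :=
    Cfsg.Agent.H1.inf_eq_bot_of_pgroup_coprime M Q (S.isPGroup'.to_le hQS) hc
  intro yb hyb
  obtain ⟨y, rfl⟩ := hπs yb
  have hyC : (y : G) ∈ C := by
    refine ⟨y.2, ?_⟩
    show (y : G) ∈ Subgroup.centralizer (Q : Set G)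
    rw [Subgroup.mem_centralizer_iff]
    intro q hq
    have hq' : (⟨q, hQX hq⟩ : ↥X) ∈ Q.subgroupOf X := Subgroup.mem_subgroupOf.mpr hq
    have h1 := (Subgroup.mem_centralizer_iff.mp hyb) (π ⟨q, hQX hq⟩) (hQb ⟨_, hq', rfl⟩)
    have h2 : π (y * ⟨q, hQX hq⟩ * y⁻¹ * (⟨q, hQX hq⟩ : ↥X)⁻¹) = 1 := by
      rw [map_mul, map_mul, map_mul, map_inv, map_inv, ← h1]; group
    have h3 : (y : G) * q * (y : G)⁻¹ * q⁻¹ ∈ M := by
      have := (QuotientGroup.eq_one_iff _).mp h2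
      exact Subgroup.mem_subgroupOf.mp this
    have h4 : (y : G) * q * (y : G)⁻¹ * q⁻¹ ∈ Q :=
      Q.mul_mem ((Subgroup.mem_normalizer_iff.mp (hXQ y.2) q).mp hq) (Q.inv_mem hq)
    have h5 : (y : G) * q * (y : G)⁻¹ * q⁻¹ ∈ M ⊓ Q := ⟨h3, h4⟩
    rw [hMQ, Subgroup.mem_bot] at h5
    calc q * (y : G) = ((y : G) * q * (y : G)⁻¹ * q⁻¹)⁻¹ * ((y : G) * q) := by group
      _ = (y : G) * q := by rw [h5, inv_one, one_mul]
  obtain ⟨t, ht, m, hm, hym⟩ := exists_mul_of_pquotient hMC hn ⟨k, hk⟩ hT₀ hyC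
  have htQ : t ∈ Q := hSCQ ht
  have hmX : m ∈ X := hCX (hMC hm)
  have hy' : y = (⟨t, hQX htQ⟩ : ↥X) * ⟨m, hmX⟩ := Subtype.ext hym
  have hm1 : π ⟨m, hmX⟩ = 1 := by
    rw [hπ, QuotientGroup.mk'_apply, QuotientGroup.eq_one_iff]
    exact Subgroup.mem_subgroupOf.mpr hm
  rw [hy', map_mul, hm1, mul_one]
  exact hQb ⟨_, Subgroup.mem_subgroupOf.mpr htQ, rfl⟩

end L2

section claim

variable {p : ℕ} [Fact p.Prime] {G : Type u} [Group G] [Finite G]

theorem cz_factorization (W : ∀ (Q : Type u) [Group Q], Subgroup Q) (hW : Cfsg.IsCharPFunctor.{u} p W)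
    (S : Sylow p G)
    (hfacW : ∀ (K R : Subgroup G) [hR : (R.subgroupOf K).Normal],
      Subgroup.centralizer ((Cfsg.pCore p (↥K ⧸ R.subgroupOf K) : Subgroup (↥K ⧸ R.subgroupOf K)) :
        Set (↥K ⧸ R.subgroupOf K)) ≤ Cfsg.pCore p (↥K ⧸ R.subgroupOf K) →
      ∀ T : Sylow p (↥K ⧸ R.subgroupOf K), ∀ x : (↥K ⧸ R.subgroupOf K),
        ∃ a ∈ Subgroup.centralizer ((Cfsg.omegaOne p ((T : Subgroup (↥K ⧸ R.subgroupOf K)) ⊓
          Subgroup.centralizer (((T : Subgroup (↥K ⧸ R.subgroupOf K)) : Subgroup (↥K ⧸ R.subgroupOf K)) :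
            Set (↥K ⧸ R.subgroupOf K))) : Subgroup (↥K ⧸ R.subgroupOf K)) : Set (↥K ⧸ R.subgroupOf K)),
        ∃ b ∈ Subgroup.normalizer ((Cfsg.inducedFunctor (G := (↥K ⧸ R.subgroupOf K)) W
          (T : Subgroup (↥K ⧸ R.subgroupOf K)) : Subgroup (↥K ⧸ R.subgroupOf K)) :
            Set (↥K ⧸ R.subgroupOf K)), x = a * b) :
    ∀ (n : ℕ) (X Q : Subgroup G), (S : Subgroup G) ≤ X → Q ≤ (S : Subgroup G) →
      Cfsg.omegaOne p ((S : Subgroup G) ⊓ Subgroup.centralizer ((S : Subgroup G) : Set G)) ≤ Q →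
      X ≤ Subgroup.normalizer (Q : Set G) → Nat.card ↥(S : Subgroup G) - Nat.card ↥Q = n →
      ∀ x ∈ X, ∃ a ∈ X ⊓ Subgroup.centralizer
          ((Cfsg.omegaOne p ((S : Subgroup G) ⊓ Subgroup.centralizer ((S : Subgroup G) : Set G)) :
            Subgroup G) : Set G),
        ∃ b ∈ X ⊓ Subgroup.normalizer ((Cfsg.inducedFunctor (G := G) W (S : Subgroup G) : Subgroup G) : Set G),
          x = a * b := by
  have hW2 := pFunctor2_induced W hW
  set Z : Subgroup G := Cfsg.omegaOne p ((S : Subgroup G) ⊓ Subgroup.centralizer ((S : Subgroup G) : Set G))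
    with hZ
  set V : Subgroup G := Cfsg.inducedFunctor (G := G) W (S : Subgroup G) with hV
  intro n
  induction n using Nat.strong_induction_on with
  | _ n ih =>
  intro X Q hSX hQS hZQ hXQ hn x hx
  have hQX : Q ≤ X := hQS.trans hSX
  by_cases hcQ : (S : Subgroup G) ⊓ Subgroup.centralizer (Q : Set G) ≤ Q
  · -- the constrained case
    obtain ⟨M, hMC, hXM, hMc, hcon⟩ := exists_core_constrained S hSX hQS hXQ hcQ
    have hMX : M ≤ X := hMC.trans inf_le_left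
    haveI hR : (M.subgroupOf X).Normal := (Subgroup.normal_subgroupOf_iff_le_normalizer hMX).mpr hXM
    set S₀ : Sylow p ↥X := S.subtype hSX with hS₀
    have hS₀coe : (S₀ : Subgroup ↥X) = (S : Subgroup G).subgroupOf X := Sylow.coe_subtype S hSX
    have hS₀map : (S₀ : Subgroup ↥X).map X.subtype = (S : Subgroup G) := by
      rw [hS₀coe]; exact Subgroup.map_subgroupOf_eq_of_le hSX
    have hπs := QuotientGroup.mk'_surjective (M.subgroupOf X)
    have hTcoe : ((S₀.mapSurjective hπs : Sylow p (↥X ⧸ M.subgroupOf X)) : Subgroup (↥X ⧸ M.subgroupOf X)) =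
        (S₀ : Subgroup ↥X).map (QuotientGroup.mk' (M.subgroupOf X)) := Sylow.coe_mapSurjective hπs S₀
    have hf := hfacW X M hcon (S₀.mapSurjective hπs)
    rw [hTcoe] at hf
    have hMc' : (Nat.card ↥(M.subgroupOf X)).Coprime p := by
      rw [card_subgroupOf_of_le hMX]; exact hMc
    have hinjι : ∀ x ∈ (S₀ : Subgroup ↥X), X.subtype x = 1 → x = 1 := fun x _ hx1 =>
      X.subtype_injective (by rw [hx1, map_one])
    have hZ₀ : (Cfsg.omegaOne p ((S₀ : Subgroup ↥X) ⊓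
        Subgroup.centralizer ((S₀ : Subgroup ↥X) : Set ↥X))).map X.subtype = Z := by
      rw [← omegaOneCenter_map X.subtype _ hinjι, hS₀map]
    have hV₀ : (Cfsg.inducedFunctor (G := ↥X) W (S₀ : Subgroup ↥X)).map X.subtype = V := by
      have h1 := hW2.map ↥X G X.subtype (S₀ : Subgroup ↥X) S₀.isPGroup' hinjι
      rw [hS₀map] at h1
      exact h1.symm
    have hMZ' : M.subgroupOf X ≤ Subgroup.centralizer ((Cfsg.omegaOne p ((S₀ : Subgroup ↥X) ⊓
        Subgroup.centralizer ((S₀ : Subgroup ↥X) : Set ↥X)) : Subgroup ↥X) : Set ↥X) := by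
      intro m hm
      rw [Subgroup.mem_centralizer_iff]
      intro z hz
      have hzZ : (z : G) ∈ Z := by rw [← hZ₀]; exact ⟨z, hz, rfl⟩
      have hmC : (m : G) ∈ Subgroup.centralizer (Q : Set G) := (hMC (Subgroup.mem_subgroupOf.mp hm)).2
      exact Subtype.ext ((Subgroup.mem_centralizer_iff.mp hmC) (z : G) (hZQ hzZ))
    obtain ⟨a, ha, b, hb, hab⟩ := cz_lift W hW S₀ (M.subgroupOf X) hMc' hMZ' hf ⟨x, hx⟩
    refine ⟨(a : G), ⟨a.2, ?_⟩, (b : G), ⟨b.2, ?_⟩, ?_⟩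
    · show (a : G) ∈ Subgroup.centralizer (Z : Set G)
      rw [Subgroup.mem_centralizer_iff]
      intro z hz
      rw [← hZ₀] at hz
      obtain ⟨z₀, hz₀, rfl⟩ := hz
      have h1 := (Subgroup.mem_centralizer_iff.mp ha) z₀ hz₀
      exact congrArg Subtype.val h1
    · have h1 : X.subtype b ∈ Subgroup.normalizer
          (((Cfsg.inducedFunctor (G := ↥X) W (S₀ : Subgroup ↥X)).map X.subtype : Subgroup G) : Set G) :=
        Subgroup.le_normalizer_map X.subtype ⟨b, hb, rfl⟩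
      rw [hV₀] at h1
      exact h1
    · exact congrArg Subtype.val hab
  · -- enlarge `Q`
    set C : Subgroup G := X ⊓ Subgroup.centralizer (Q : Set G) with hC
    have hCX : C ≤ X := inf_le_left
    have hXC : X ≤ Subgroup.normalizer (C : Set G) := by
      intro y hy
      apply mem_normalizer_of_cj_le
      rintro _ ⟨c, hc, rfl⟩
      refine ⟨X.mul_mem (X.mul_mem hy hc.1) (X.inv_mem hy), ?_⟩
      exact (Subgroup.mem_normalizer_iff.mp (normalizer_le_normalizer_centralizer' Q (hXQ hy)) c).mp hc.2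
    have hD : IsSylowIn p ((S : Subgroup G) ⊓ C) C := (IsSylowIn.of_sylow_le S hSX).inf_normal C hCX hXC
    have hSC : (S : Subgroup G) ⊓ C = (S : Subgroup G) ⊓ Subgroup.centralizer (Q : Set G) := by
      rw [hC, ← inf_assoc, inf_eq_left.mpr hSX]
    set Q₁ : Subgroup G := Q ⊔ ((S : Subgroup G) ⊓ C) with hQ₁
    have hQ₁S : Q₁ ≤ (S : Subgroup G) := sup_le hQS inf_le_left
    have hQlt : Q < Q₁ := by
      refine lt_of_le_of_ne le_sup_left ?_
      intro h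
      apply hcQ
      rw [← hSC, h]
      exact le_sup_right
    have hcard : Nat.card ↥Q < Nat.card ↥Q₁ := by
      rw [card_eq_ncard, card_eq_ncard]
      exact Set.ncard_lt_ncard (SetLike.coe_ssubset_coe.mpr hQlt) (Set.toFinite _)
    have hcardle : Nat.card ↥Q₁ ≤ Nat.card ↥(S : Subgroup G) :=
      Nat.le_of_dvd Nat.card_pos (Subgroup.card_dvd_of_le hQ₁S)
    set X₁ : Subgroup G := X ⊓ Subgroup.normalizer (Q₁ : Set G) with hX₁
    have hSX₁ : (S : Subgroup G) ≤ X₁ := by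
      refine le_inf hSX ?_
      intro s hs
      apply mem_normalizer_of_cj_le
      unfold cj
      rw [hQ₁, Subgroup.map_sup]
      refine sup_le_sup ?_ ?_
      · exact le_of_eq (cj_eq_of_mem_normalizer (hXQ (hSX hs)))
      · rw [Subgroup.map_inf_eq _ _ _ (MulAut.conj s).injective]
        exact inf_le_inf (cj_le_of_mem le_rfl hs)
          (le_of_eq (cj_eq_of_mem_normalizer (hXC (hSX hs))))
    have ih₁ := ih (Nat.card ↥(S : Subgroup G) - Nat.card ↥Q₁) (by omega) X₁ Q₁ hSX₁ hQ₁S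
      (hZQ.trans le_sup_left) inf_le_right rfl
    obtain ⟨l, hl, c, hc, rfl⟩ := frattini_mul_amb hCX hXC hD hx
    have hlX₁ : l ∈ X₁ := by
      refine ⟨hl.1, ?_⟩
      apply mem_normalizer_of_cj_le
      unfold cj
      rw [hQ₁, Subgroup.map_sup]
      exact sup_le_sup (le_of_eq (cj_eq_of_mem_normalizer (hXQ hl.1)))
        (le_of_eq (cj_eq_of_mem_normalizer hl.2))
    obtain ⟨a₁, ha₁, b₁, hb₁, rfl⟩ := ih₁ l hlX₁
    have hc' : b₁ * c * b₁⁻¹ ∈ C := (Subgroup.mem_normalizer_iff.mp (hXC hb₁.1.1) c).mp hc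
    refine ⟨a₁ * (b₁ * c * b₁⁻¹), ⟨X.mul_mem ha₁.1.1 hc'.1, ?_⟩, b₁, ⟨hb₁.1.1, hb₁.2⟩, by group⟩
    exact Subgroup.mul_mem _ ha₁.2 (Subgroup.centralizer_le hZQ hc'.2)

end claim

end Cfsg.Agent.Lib.Helper4.GTFus
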