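import Mathlib
import Cfsg.Agent.Lib.Helper4.BG13A
import Cfsg.Agent.Lib.Helper4.BG12D
import Cfsg.Agent.Lib.Helper4.GTFus8
import Cfsg.Agent.Lib.Helper7.ItoP5
import Cfsg.Agent.Lib.Helper4.ZJ
import Cfsg.Agent.S0024
import Cfsg.Agent.S0026
import Cfsg.Agent.S1417
import Cfsg.Agent.S1418
import Cfsg.Agent.S1423
import Cfsg.Agent.S1426
import Cfsg.Agent.S1427

/-!
Bender–Glauberman §13, helper4 (notes/BG13_helper4.md): **Lemma A0 (3)**, **Lemma A1** and
**Theorem (α)** (= B&G Lemma 13.6), conditional on the statement of S1428.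
-/

set_option autoImplicit false
set_option linter.unusedSectionVars false
set_option linter.unusedVariables false
set_option linter.style.haveILetI false
set_option maxHeartbeats 1000000
open Cfsg
open scoped commutatorElement Pointwise

namespace Cfsg.Agent.Lib.Helper4.BG13

open Cfsg.Agent.Lib.Helper7 (IsSylowIn exists_isSylowIn_ge card_subgroupOf_of_le)
open Cfsg.Agent.Lib.Helper8.BGTen Cfsg.Agent.Lib.Helper4.BGTrans
open Cfsg.Agent.Lib.helper3.BG11 Cfsg.Agent.Lib.helper3.BG12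

universe u

/-- the statement of S1428 for `G` -/
def Hyp1428 (G : Type u) [Group G] : Prop :=
  ∀ (M : Subgroup G), IsCoatom M → ∀ (E : Subgroup G), Cfsg.IsComplIn E (Cfsg.sigmaCore M) M →
    ∀ (p : ℕ), p ∈ Cfsg.tau1 M → ∀ (P : Subgroup G), P ≤ E → Nat.card P = p →
    ∀ (R : Subgroup G), R ≤ E ⊓ Subgroup.centralizer (P : Set G) → (Nat.card R).Prime →
    Cfsg.sigmaCore M ⊓ Subgroup.centralizer (P : Set G) ≤
      Cfsg.sigmaCore M ⊓ Subgroup.centralizer (R : Set G)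

variable {G : Type u} [Group G] [Finite G]

/-- **Lemma A0 (3)**: `q ∈ σ(M) − β(M)`, `S` a Sylow `q`-subgroup of `M_σ`, `E` a complement:
`C_S(E) ≤ S'`. -/
theorem sylow_inf_centralizer_compl_le (hG : Cfsg.IsMinSimpleOddOrder G) {M E : Subgroup G}
    (hM : IsCoatom M) (hE : Cfsg.IsComplIn E (Cfsg.sigmaCore M) M) {q : ℕ} [hq : Fact q.Prime]
    (hqσ : q ∈ Cfsg.sigma M) (hqβ : q ∉ Cfsg.beta M) {S : Subgroup G}
    (hS : IsSylowIn q S (Cfsg.sigmaCore M)) :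
    S ⊓ Subgroup.centralizer (E : Set G) ≤ ⁅S, S⁆ := by
  obtain ⟨R, hR⟩ := hS.exists_sylow
  have hnpc : Cfsg.HasNormalPComplement q ↥(Cfsg.sigmaCore M) :=
    ((Cfsg.Agent.S1414.result hG M hM).2.2.2.2 q hq.out hqσ.2.1 hqβ).2.1
  have h26 := (Cfsg.Agent.S1426.result hG M hM E hE).1
  have h1 : S ⊓ Subgroup.centralizer (E : Set G) ≤
      ⁅(R : Subgroup ↥(Cfsg.sigmaCore M)).map (Cfsg.sigmaCore M).subtype,
        (R : Subgroup ↥(Cfsg.sigmaCore M)).map (Cfsg.sigmaCore M).subtype⁆ := by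
    apply Cfsg.Agent.Lib.Helper4.BG12.le_commutator_sylow hnpc R
    · rw [hR, Subgroup.map_subgroupOf_eq_of_le hS.1]; exact inf_le_left
    · exact (inf_le_inf_right _ hS.1).trans h26
  rwa [hR, Subgroup.map_subgroupOf_eq_of_le hS.1] at h1

/-- a `t`-subgroup `T` of `C_E(P)`, where `E` has cyclic Sylow `t`-subgroups, centralizes
`C_{M_σ}(P)` (S1428 + S1427) -/
theorem le_centralizer_of_pRankLE_one (hG : Cfsg.IsMinSimpleOddOrder G) (h28 : Hyp1428 G)
    {M E : Subgroup G} (hM : IsCoatom M) (hE : Cfsg.IsComplIn E (Cfsg.sigmaCore M) M) {p : ℕ}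
    (hp : p ∈ Cfsg.tau1 M) {P : Subgroup G} (hPE : P ≤ E) (hPc : Nat.card ↥P = p) {t : ℕ}
    [ht : Fact t.Prime] (hrk : Cfsg.PRankLE t 1 ↥E) {T : Subgroup G} (hTE : T ≤ E)
    (hTP : T ≤ Subgroup.centralizer (P : Set G)) (hT : IsPGroup t ↥T) :
    T ≤ Subgroup.centralizer ((Cfsg.sigmaCore M ⊓ Subgroup.centralizer (P : Set G) : Subgroup G) :
      Set G) := by
  by_cases hT1 : T = ⊥
  · rw [hT1]; exact bot_le
  obtain ⟨Q, hQ⟩ := (hT.comap_subtype (K := E)).exists_le_sylow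
  have hTQ : T ≤ (Q : Subgroup ↥E).map E.subtype := by
    intro x hx
    exact ⟨⟨x, hTE hx⟩, hQ (Subgroup.mem_subgroupOf.mpr hx), rfl⟩
  have htT : t ∣ Nat.card ↥T := by
    obtain ⟨k, hk⟩ := hT.exists_card_eq
    rw [hk]
    refine dvd_pow_self t ?_
    rintro rfl
    rw [pow_zero] at hk
    exact hT1 (Subgroup.card_eq_one.mp hk)
  have ht2 : t ≠ 2 := ne_two_of_dvd_card hG (htT.trans (Subgroup.card_subgroup_dvd_card T))
  have hQ1 : (Q : Subgroup ↥E) ≠ ⊥ := by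
    intro h0
    apply hT1
    rw [eq_bot_iff]
    intro x hx
    obtain ⟨y, hy, rfl⟩ := hTQ hx
    rw [h0] at hy
    have hy' : y = 1 := Subgroup.mem_bot.mp hy
    rw [hy']; exact Subgroup.one_mem _
  have hQc : IsCyclic ↥(Q : Subgroup ↥E) := by
    apply Cfsg.Agent.Lib.Helper5.BGTwelve.isCyclic_of_pRankLE_one ht2 Q.2
    exact Cfsg.Agent.Lib.Helper4.Rank2Fit.pRankLE_of_injective (Q : Subgroup ↥E).subtype
      (Subgroup.subtype_injective _) hrk
  obtain ⟨x, hx⟩ := exists_prime_orderOf_dvd_card' (G := ↥T) t htT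
  have hx1 : (x : G) ≠ 1 := by
    intro h
    have : x = 1 := Subtype.ext h
    rw [this, orderOf_one] at hx
    exact ht.out.one_lt.ne hx
  have hxo : orderOf (x : G) = t := by
    rw [← hx]; exact Subgroup.orderOf_coe x
  have hRc : Nat.card ↥(Subgroup.zpowers (x : G)) = t := by
    rw [Nat.card_zpowers, hxo]
  have hRE : Subgroup.zpowers (x : G) ≤ E ⊓ Subgroup.centralizer (P : Set G) := by
    rw [Subgroup.zpowers_le]
    exact ⟨hTE x.2, hTP x.2⟩
  have h1 := h28 M hM E hE p hp P hPE hPc (Subgroup.zpowers (x : G)) hRE (by rw [hRc]; exact ht.out)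
  have h2 := Cfsg.Agent.S1427.result hG M hM E hE t Q hQ1 hQc (x : G) (hTQ x.2) hx1
  intro g hg
  rw [Subgroup.mem_centralizer_iff]
  intro d hd
  have hd1 : d ∈ Cfsg.sigmaCore M ⊓ Subgroup.centralizer ({(x : G)} : Set G) := by
    refine ⟨hd.1, ?_⟩
    have h3 := (h1 hd).2
    refine Subgroup.centralizer_le ?_ h3
    intro y hy
    rw [Set.mem_singleton_iff] at hy
    rw [hy]
    exact Subgroup.mem_zpowers _
  rw [h2] at hd1
  exact ((Subgroup.mem_centralizer_iff.mp hd1.2) g (hTQ hg)).symm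

/-- if all Sylow subgroups of `E` are cyclic then `C_E(P)` centralizes `C_{M_σ}(P)` -/
theorem inf_centralizer_le_centralizer (hG : Cfsg.IsMinSimpleOddOrder G) (h28 : Hyp1428 G)
    {M E : Subgroup G} (hM : IsCoatom M) (hE : Cfsg.IsComplIn E (Cfsg.sigmaCore M) M) {p : ℕ}
    (hp : p ∈ Cfsg.tau1 M) {P : Subgroup G} (hPE : P ≤ E) (hPc : Nat.card ↥P = p)
    (hcyc : ∀ t : ℕ, t.Prime → Cfsg.PRankLE t 1 ↥E) :
    E ⊓ Subgroup.centralizer (P : Set G) ≤
      Subgroup.centralizer ((Cfsg.sigmaCore M ⊓ Subgroup.centralizer (P : Set G) : Subgroup G) :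
        Set G) := by
  set Z : Subgroup G := E ⊓ Subgroup.centralizer (P : Set G) with hZ
  set D : Subgroup G := Cfsg.sigmaCore M ⊓ Subgroup.centralizer (P : Set G) with hD
  have h1 : Z ⊓ Subgroup.centralizer (D : Set G) = Z := by
    apply Cfsg.Agent.Lib.Helper7.ItoP.le_of_forall_sylow_le inf_le_left
    intro t ht
    haveI : Fact t.Prime := ⟨ht⟩
    obtain ⟨Q0⟩ : Nonempty (Sylow t ↥Z) := inferInstance
    have hT : IsSylowIn t ((Q0 : Subgroup ↥Z).map Z.subtype) Z := IsSylowIn.of_sylow Q0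
    refine ⟨_, hT, le_inf hT.1 ?_⟩
    exact le_centralizer_of_pRankLE_one hG h28 hM hE hp hPE hPc (hcyc t ht)
      (hT.1.trans inf_le_left) (hT.1.trans inf_le_right) hT.isPGroup
  rw [← h1]
  exact inf_le_right

/-- if `E` has a non-cyclic Sylow subgroup (`τ₂(M) ≠ ∅`) then every subgroup of `C_{M_σ}(P)`
centralized by `E'` is trivial -/
theorem eq_bot_of_not_pRankLE_one (hG : Cfsg.IsMinSimpleOddOrder G) (h28 : Hyp1428 G)
    {M E : Subgroup G} (hM : IsCoatom M) (hE : Cfsg.IsComplIn E (Cfsg.sigmaCore M) M) {p : ℕ}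
    (hp : p ∈ Cfsg.tau1 M) {P : Subgroup G} (hPE : P ≤ E) (hPc : Nat.card ↥P = p) {t : ℕ}
    [ht : Fact t.Prime] (hnr : ¬ Cfsg.PRankLE t 1 ↥E) {W : Subgroup G}
    (hWD : W ≤ Cfsg.sigmaCore M ⊓ Subgroup.centralizer (P : Set G))
    (hEW : ⁅E, E⁆ ≤ Subgroup.centralizer (W : Set G)) : W = ⊥ := by
  haveI hpf : Fact p.Prime := ⟨hp.1⟩
  have hEM : E ≤ M := hE.1
  obtain ⟨A, hAE, hAel, hAc⟩ := Cfsg.Agent.H2.BG12.exists_elem_sq hnr
  have hAM : A ≤ M := hAE.trans hEM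
  have htE : t ∣ Nat.card ↥E := by
    have h1 : t ∣ Nat.card ↥A := by rw [hAc]; exact dvd_pow_self t (by norm_num)
    exact h1.trans (Subgroup.card_dvd_of_le hAE)
  have htσ : t ∉ Cfsg.sigma M := Cfsg.Agent.H2.BG12.not_mem_sigma_of_dvd_compl hG hM hE ht.out htE
  have hnr1 : ¬ Cfsg.PRankLE t 1 ↥M :=
    Cfsg.Agent.Lib.Helper4.BGUniq.not_pRankLE_of_le hAel hAM
      (by rw [hAc]; exact Nat.pow_lt_pow_right ht.out.one_lt (by norm_num))
  have hτ2 : t ∈ Cfsg.tau2 M := by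
    refine ⟨ht.out, htσ, ?_, hnr1⟩
    by_contra h2
    exact htσ (alpha_subset_sigma hG (uT hG) hM ⟨ht.out, h2⟩)
  have hEA : E ≤ Subgroup.normalizer (A : Set G) :=
    (Cfsg.Agent.S1418.result hG M hM E hE t hτ2 A ⟨hAE, hAel, hAc⟩).1.1
  have hCA : Cfsg.sigmaCore M ⊓ Subgroup.centralizer (A : Set G) = ⊥ :=
    (Cfsg.Agent.S1417.result hG M hM t hτ2 A ⟨hAM, hAel, hAc⟩).2.2.2.1
  have htp : t ≠ p := by
    rintro rfl
    exact hnr1 hp.2.2.2.2
  have hcop : (Nat.card ↥P).Coprime (Nat.card ↥A) := by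
    rw [hPc, hAc]
    exact Nat.Coprime.pow_right 2 ((Nat.coprime_primes hpf.out ht.out).mpr (Ne.symm htp))
  have hsolvP : Group.IsSolvable ↥P := by
    haveI : IsCyclic ↥P := isCyclic_of_prime_card hPc
    haveI : CommGroup ↥P := IsCyclic.commGroup
    infer_instance
  have h26 := Cfsg.Agent.S0026.result P A (hPE.trans hEA) hcop (Or.inl hsolvP)
  have hAW : A ≤ Subgroup.centralizer (W : Set G) := by
    rw [← h26]
    refine sup_le ((Subgroup.commutator_mono hAE hPE).trans hEW) ?_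
    intro x hx
    by_cases hx1 : x = 1
    · rw [hx1]; exact Subgroup.one_mem _
    have hxo : orderOf x = t := orderOf_eq_prime (hAel.2 x hx.1) hx1
    have hRc : Nat.card ↥(Subgroup.zpowers x) = t := by rw [Nat.card_zpowers, hxo]
    have hRE : Subgroup.zpowers x ≤ E ⊓ Subgroup.centralizer (P : Set G) := by
      rw [Subgroup.zpowers_le]
      exact ⟨hAE hx.1, hx.2⟩
    have h1 := h28 M hM E hE p hp P hPE hPc (Subgroup.zpowers x) hRE (by rw [hRc]; exact ht.out)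
    rw [Subgroup.mem_centralizer_iff]
    intro w hw
    have h3 := (h1 (hWD hw)).2
    exact ((Subgroup.mem_centralizer_iff.mp h3) x (Subgroup.mem_zpowers x)).symm
  rw [eq_bot_iff, ← hCA]
  refine le_inf (hWD.trans inf_le_left) ?_
  intro w hw
  rw [Subgroup.mem_centralizer_iff]
  intro a ha
  exact ((Subgroup.mem_centralizer_iff.mp (hAW ha)) w hw).symm

/-- Frattini: `E = C_E(P) · (P E')` for `P ≤ E` of order `p ∈ τ₁(M)` -/
theorem exists_mul_of_tau1 {M E : Subgroup G} (hEM : E ≤ M) {p : ℕ}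
    (hp : p ∈ Cfsg.tau1 M) {P : Subgroup G} (hPE : P ≤ E) (hPc : Nat.card ↥P = p) {g : G}
    (hg : g ∈ E) :
    ∃ l ∈ E ⊓ Subgroup.centralizer (P : Set G), ∃ c ∈ P ⊔ ⁅E, E⁆, g = l * c := by
  haveI hpf : Fact p.Prime := ⟨hp.1⟩
  have hpE' : ¬ p ∣ Nat.card ↥⁅E, E⁆ := fun h =>
    hp.2.2.2.1 (h.trans (Subgroup.card_dvd_of_le (Subgroup.commutator_mono hEM hEM)))
  have hE'E : ⁅E, E⁆ ≤ E := Subgroup.commutator_le_self E
  have hCE : P ⊔ ⁅E, E⁆ ≤ E := sup_le hPE hE'E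
  have hEC : E ≤ Subgroup.normalizer ((P ⊔ ⁅E, E⁆ : Subgroup G) : Set G) := by
    intro x hx
    apply Cfsg.Agent.Lib.Helper4.GTFus.mem_normalizer_of_cj_le
    rintro _ ⟨c, hc, rfl⟩
    have h1 : x * c * x⁻¹ = ⁅x, c⁆ * c := by
      rw [commutatorElement_def]; group
    show x * c * x⁻¹ ∈ P ⊔ ⁅E, E⁆
    rw [h1]
    exact Subgroup.mul_mem _
      (Subgroup.mem_sup_right (Subgroup.commutator_mem_commutator hx (hCE hc))) hc
  have hPp : IsPGroup p ↥P := IsPGroup.of_card (n := 1) (by rw [hPc, pow_one])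
  have hPE'n : P ≤ Subgroup.normalizer ((⁅E, E⁆ : Subgroup G) : Set G) := by
    intro x hx
    apply Cfsg.Agent.Lib.Helper4.GTFus.mem_normalizer_of_cj_le
    rintro _ ⟨c, hc, rfl⟩
    have h1 : x * c * x⁻¹ = ⁅x, c⁆ * c := by
      rw [commutatorElement_def]; group
    show x * c * x⁻¹ ∈ ⁅E, E⁆
    rw [h1]
    exact Subgroup.mul_mem _ (Subgroup.commutator_mem_commutator (hPE hx) (hE'E hc)) hc
  have hSyl : IsSylowIn p P (P ⊔ ⁅E, E⁆) := by
    apply sylIn_of_not_dvd le_sup_left hPp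
    intro hd
    apply hpE'
    have h1 : Nat.card ↥(P ⊔ ⁅E, E⁆ : Subgroup G) = P.relIndex (P ⊔ ⁅E, E⁆) * Nat.card ↥P :=
      Cfsg.Agent.H1.card_eq_relIndex_mul_card le_sup_left
    have h2 := Cfsg.Agent.Lib.BG127H7.card_sup_dvd_of_le_normalizer hPE'n
    rw [h1, mul_comm] at h2
    exact hd.trans (Nat.dvd_of_mul_dvd_mul_left Nat.card_pos h2)
  obtain ⟨l, hl, c, hc, hglc⟩ :=
    Cfsg.Agent.Lib.Helper4.GTFus.frattini_mul_amb (p := p) hCE hEC hSyl hg
  refine ⟨l, ⟨hl.1, ?_⟩, c, hc, hglc⟩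
  have hbot : P ⊓ ⁅E, E⁆ = ⊥ := by
    apply Subgroup.inf_eq_bot_of_coprime
    rw [hPc, Nat.Prime.coprime_iff_not_dvd hpf.out]
    exact hpE'
  show l ∈ Subgroup.centralizer (P : Set G)
  rw [Subgroup.mem_centralizer_iff]
  intro x hx
  have h1 : l * x * l⁻¹ ∈ P := (Subgroup.mem_normalizer_iff.mp hl.2 x).mp hx
  have h2 : ⁅l, x⁆ ∈ P ⊓ ⁅E, E⁆ := by
    refine ⟨?_, Subgroup.commutator_mem_commutator hl.1 (hPE hx)⟩
    rw [commutatorElement_def]
    exact P.mul_mem h1 (P.inv_mem hx)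
  rw [hbot, Subgroup.mem_bot, commutatorElement_eq_one_iff_mul_comm] at h2
  exact h2.symm

/-- **Lemma A1**, first form: `p ∈ τ₁(M)`, `P ≤ E` of order `p`, `q ∈ σ(M) − β(M)`, `S` an
`E`-invariant Sylow `q`-subgroup of `M_σ`: `C_S(P) ≤ S'`. -/
theorem sylow_inf_centralizer_le_of_compl (hG : Cfsg.IsMinSimpleOddOrder G) (h28 : Hyp1428 G)
    {M E : Subgroup G} (hM : IsCoatom M) (hE : Cfsg.IsComplIn E (Cfsg.sigmaCore M) M) {p : ℕ}
    (hp : p ∈ Cfsg.tau1 M) {P : Subgroup G} (hPE : P ≤ E) (hPc : Nat.card ↥P = p) {q : ℕ}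
    [hq : Fact q.Prime] (hqσ : q ∈ Cfsg.sigma M) (hqβ : q ∉ Cfsg.beta M) {S : Subgroup G}
    (hS : IsSylowIn q S (Cfsg.sigmaCore M))
    (hES : E ≤ Subgroup.normalizer (S : Set G)) :
    S ⊓ Subgroup.centralizer (P : Set G) ≤ ⁅S, S⁆ := by
  by_cases hS1 : S = ⊥
  · rw [hS1]; simp
  have hSM : IsSylowIn q S M :=
    Cfsg.Agent.H2.BG11.sylIn_of_sylIn_top
      (Cfsg.Agent.H2.BG11.sylIn_top_of_not_dvd_index hS
        ((Cfsg.Agent.H2.BG11.sigmaCore_hall hG hM).2 q hq.out hqσ))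
      (hS.1.trans (sigmaCore_le M))
  have hnar : AutNar q ↥S := autNar_of_not_beta hG hM hqβ hSM hS1
  have hqE : ¬ q ∣ Nat.card ↥E := fun h =>
    Cfsg.Agent.H2.BG12.not_mem_sigma_of_dvd_compl hG hM hE hq.out h hqσ
  have hE'S : ⁅E, E⁆ ≤ Subgroup.centralizer (S : Set G) :=
    commutator_le_centralizer_of_autNar hG hnar hES hqE
  set W : Subgroup G := S ⊓ Subgroup.centralizer (P : Set G) with hW
  have hWD : W ≤ Cfsg.sigmaCore M ⊓ Subgroup.centralizer (P : Set G) :=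
    inf_le_inf_right _ hS.1
  have hE'W : ⁅E, E⁆ ≤ Subgroup.centralizer (W : Set G) :=
    hE'S.trans (Subgroup.centralizer_le inf_le_left)
  by_cases hcyc : ∀ t : ℕ, t.Prime → Cfsg.PRankLE t 1 ↥E
  · -- all Sylow subgroups of `E` cyclic: `E` centralizes `W`
    have hCD := inf_centralizer_le_centralizer hG h28 hM hE hp hPE hPc hcyc
    have hEW : E ≤ Subgroup.centralizer (W : Set G) := by
      intro g hg
      obtain ⟨l, hl, c, hc, rfl⟩ := exists_mul_of_tau1 hE.1 hp hPE hPc hg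
      refine Subgroup.mul_mem _ (Subgroup.centralizer_le hWD (hCD hl)) ?_
      have h1 : P ⊔ ⁅E, E⁆ ≤ Subgroup.centralizer (W : Set G) := by
        refine sup_le ?_ hE'W
        intro x hx
        rw [Subgroup.mem_centralizer_iff]
        intro w hw
        exact ((Subgroup.mem_centralizer_iff.mp hw.2) x hx).symm
      exact h1 hc
    have h2 : W ≤ S ⊓ Subgroup.centralizer (E : Set G) := by
      refine le_inf inf_le_left ?_
      intro w hw
      rw [Subgroup.mem_centralizer_iff]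
      intro e he
      exact ((Subgroup.mem_centralizer_iff.mp (hEW he)) w hw).symm
    exact h2.trans (sylow_inf_centralizer_compl_le hG hM hE hqσ hqβ hS)
  · push Not at hcyc
    obtain ⟨t, ht, hnr⟩ := hcyc
    haveI : Fact t.Prime := ⟨ht⟩
    have := eq_bot_of_not_pRankLE_one hG h28 hM hE hp hPE hPc hnr hWD hE'W
    rw [this]; exact bot_le

end Cfsg.Agent.Lib.Helper4.BG13
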