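import Mathlib
import Cfsg.Agent.Lib.Helper4.BG13B
import Cfsg.Agent.H1.CoprimeAction

/-!
Bender–Glauberman §13, helper4 (notes/BG13_helper4.md): **Lemma A1** (general form) and
**Theorem (α)** (= B&G Lemma 13.6), conditional on the statement of S1428.
-/

set_option autoImplicit false
set_option linter.unusedSectionVars false
set_option linter.unusedVariables false
set_option linter.style.haveILetI false
set_option maxHeartbeats 1000000
open Cfsg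
open scoped commutatorElement Pointwise

namespace Cfsg.Agent.Lib.Helper4.BG13

open Cfsg.Agent.Lib.Helper7 (IsSylowIn exists_isSylowIn_ge card_subgroupOf_of_le)
open Cfsg.Agent.Lib.Helper8.BGTen Cfsg.Agent.Lib.Helper4.BGTrans
open Cfsg.Agent.Lib.helper3.BG11 Cfsg.Agent.Lib.helper3.BG12

universe u

variable {G : Type u} [Group G] [Finite G]

/-- **Lemma A1**: `p ∈ τ₁(M)`, `P ≤ E` of order `p`, `q ∈ σ(M) − β(M)`, `S` a `P`-invariant
Sylow `q`-subgroup of `M_σ`: `C_S(P) ≤ S'`. -/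
theorem sylow_inf_centralizer_le (hG : Cfsg.IsMinSimpleOddOrder G) (h28 : Hyp1428 G)
    {M E : Subgroup G} (hM : IsCoatom M) (hE : Cfsg.IsComplIn E (Cfsg.sigmaCore M) M) {p : ℕ}
    (hp : p ∈ Cfsg.tau1 M) {P : Subgroup G} (hPE : P ≤ E) (hPc : Nat.card ↥P = p) {q : ℕ}
    [hq : Fact q.Prime] (hqσ : q ∈ Cfsg.sigma M) (hqβ : q ∉ Cfsg.beta M) {S : Subgroup G}
    (hS : IsSylowIn q S (Cfsg.sigmaCore M))
    (hPS : P ≤ Subgroup.normalizer (S : Set G)) :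
    S ⊓ Subgroup.centralizer (P : Set G) ≤ ⁅S, S⁆ := by
  have hEM : E ≤ M := hE.1
  have hEN : E ≤ Subgroup.normalizer (Cfsg.sigmaCore M : Set G) :=
    hEM.trans (Cfsg.Agent.H2.BG11.le_normalizer_sigmaCore M)
  have hcopE := Cfsg.Agent.H2.BG12.coprime_compl hG hM hE
  have hMσt : Cfsg.sigmaCore M ≠ ⊤ :=
    ne_top_of_le_coatom hM (Cfsg.Agent.H2.BG11.sigmaCore_le M)
  have hsolvσ : Group.IsSolvable ↥(Cfsg.sigmaCore M) := hG.2.2.2 _ hMσt
  obtain ⟨S₀, hS₀, hES₀⟩ := Cfsg.Agent.H2.BG11.exists_inv_sylow' (q := q) hEN hcopE hsolvσ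
  have h0 := sylow_inf_centralizer_le_of_compl hG h28 hM hE hp hPE hPc hqσ hqβ hS₀ hES₀
  obtain ⟨R₀, hR₀⟩ := hS₀.exists_sylow
  obtain ⟨R, hR⟩ := hS.exists_sylow
  have hmapR₀ : (R₀ : Subgroup ↥(Cfsg.sigmaCore M)).map (Cfsg.sigmaCore M).subtype = S₀ := by
    rw [hR₀, Subgroup.map_subgroupOf_eq_of_le hS₀.1]
  have hmapR : (R : Subgroup ↥(Cfsg.sigmaCore M)).map (Cfsg.sigmaCore M).subtype = S := by
    rw [hR, Subgroup.map_subgroupOf_eq_of_le hS.1]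
  have hPN : P ≤ Subgroup.normalizer (Cfsg.sigmaCore M : Set G) := hPE.trans hEN
  have hcopP : (Nat.card ↥P).Coprime (Nat.card ↥(Cfsg.sigmaCore M)) :=
    Nat.Coprime.coprime_dvd_left (Subgroup.card_dvd_of_le hPE) hcopE
  obtain ⟨c, hcP, hc⟩ := Cfsg.Agent.S0024.result P (Cfsg.sigmaCore M) hPN hcopP (Or.inr hsolvσ) q
    R₀ R (by rw [hmapR₀]; exact hPE.trans hES₀) (by rw [hmapR]; exact hPS)
  have hconj : S = cj (c : G) S₀ := by
    rw [← hmapR, ← hmapR₀, ← hc, ← Sylow.smul_def, Cfsg.Agent.H1.sylow_smul_map_subtype]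
  rintro x ⟨hxS, hxP⟩
  have hy : (c : G)⁻¹ * x * (c : G) ∈ S₀ := by
    have hxS' : x ∈ cj (c : G) S₀ := hconj ▸ hxS
    exact mem_cj.mp hxS'
  have hyP : (c : G)⁻¹ * x * (c : G) ∈ Subgroup.centralizer (P : Set G) :=
    Subgroup.mul_mem _ (Subgroup.mul_mem _ (Subgroup.inv_mem _ hcP) hxP) hcP
  have h1 := h0 ⟨hy, hyP⟩
  have h2 : x ∈ (⁅S₀, S₀⁆).map (MulAut.conj (c : G)).toMonoidHom := by
    refine ⟨(c : G)⁻¹ * x * (c : G), h1, ?_⟩
    show (c : G) * ((c : G)⁻¹ * x * (c : G)) * (c : G)⁻¹ = x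
    group
  rw [Subgroup.map_commutator] at h2
  rw [hconj]
  exact h2

/-- **Theorem (α)** (B&G Lemma 13.6): `p ∈ τ₁(M)`, `P ≤ E` of order `p`, `X ≤ C_{M_σ}(P)` of
prime order `q`.  Then `M` is the unique maximal subgroup containing `C_G(X)`, and every Sylow
`q`-subgroup `S` of `M_σ` lies in the unique maximal subgroup `M` and is not contained in
`C_{M_σ}(P)`. -/
theorem cent_cent_sigmaCore_tau1_uniq (hG : Cfsg.IsMinSimpleOddOrder G) (h28 : Hyp1428 G)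
    {M E : Subgroup G} (hM : IsCoatom M) (hE : Cfsg.IsComplIn E (Cfsg.sigmaCore M) M) {p : ℕ}
    (hp : p ∈ Cfsg.tau1 M) {P : Subgroup G} (hPE : P ≤ E) (hPc : Nat.card ↥P = p) {q : ℕ}
    [hq : Fact q.Prime] {X : Subgroup G}
    (hXD : X ≤ Cfsg.sigmaCore M ⊓ Subgroup.centralizer (P : Set G)) (hXc : Nat.card ↥X = q) :
    q ∈ Cfsg.sigma M ∧
    (Subgroup.centralizer (X : Set G) ≤ M ∧
      ∀ L : Subgroup G, IsCoatom L → Subgroup.centralizer (X : Set G) ≤ L → L = M) ∧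
    ∀ S : Sylow q ↥(Cfsg.sigmaCore M),
      Cfsg.InUniqueMaximal ((S : Subgroup ↥(Cfsg.sigmaCore M)).map (Cfsg.sigmaCore M).subtype) ∧
      (S : Subgroup ↥(Cfsg.sigmaCore M)).map (Cfsg.sigmaCore M).subtype ≤ M ∧
      ¬ (S : Subgroup ↥(Cfsg.sigmaCore M)).map (Cfsg.sigmaCore M).subtype ≤
        Cfsg.sigmaCore M ⊓ Subgroup.centralizer (P : Set G) := by
  haveI hpf : Fact p.Prime := ⟨hp.1⟩
  have hEM : E ≤ M := hE.1
  have hPM : P ≤ M := hPE.trans hEM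
  have hEN : E ≤ Subgroup.normalizer (Cfsg.sigmaCore M : Set G) :=
    hEM.trans (Cfsg.Agent.H2.BG11.le_normalizer_sigmaCore M)
  have hcopE := Cfsg.Agent.H2.BG12.coprime_compl hG hM hE
  have hMσt : Cfsg.sigmaCore M ≠ ⊤ :=
    ne_top_of_le_coatom hM (Cfsg.Agent.H2.BG11.sigmaCore_le M)
  have hsolvσ : Group.IsSolvable ↥(Cfsg.sigmaCore M) := hG.2.2.2 _ hMσt
  have hPN : P ≤ Subgroup.normalizer (Cfsg.sigmaCore M : Set G) := hPE.trans hEN
  have hcopP : (Nat.card ↥P).Coprime (Nat.card ↥(Cfsg.sigmaCore M)) :=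
    Nat.Coprime.coprime_dvd_left (Subgroup.card_dvd_of_le hPE) hcopE
  have hXσ : X ≤ Cfsg.sigmaCore M := hXD.trans inf_le_left
  have hXP : X ≤ Subgroup.centralizer (P : Set G) := hXD.trans inf_le_right
  have hXM : X ≤ M := hXσ.trans (Cfsg.Agent.H2.BG11.sigmaCore_le M)
  have hqdσ : q ∣ Nat.card ↥(Cfsg.sigmaCore M) := by
    rw [← hXc]; exact Subgroup.card_dvd_of_le hXσ
  have hqσ : q ∈ Cfsg.sigma M := Cfsg.Agent.H2.BG11.mem_sigma_of_dvd_sigmaCore hG hM hq.out hqdσ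
  have hXp : IsPGroup q ↥X := IsPGroup.of_card (n := 1) (by rw [hXc, pow_one])
  have hPX : P ≤ Subgroup.normalizer (X : Set G) := by
    refine le_trans ?_ (Subgroup.centralizer_le_normalizer _)
    intro a ha
    rw [Subgroup.mem_centralizer_iff]
    intro x hx
    exact ((Subgroup.mem_centralizer_iff.mp (hXP hx)) a ha).symm
  have h : q ∈ Cfsg.beta M ∨ X ≤ ⁅Cfsg.sigmaCore M, Cfsg.sigmaCore M⁆ := by
    by_cases hqβ : q ∈ Cfsg.beta M
    · exact Or.inl hqβ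
    right
    obtain ⟨S₁, hS₁, hPS₁, hXS₁⟩ := Cfsg.Agent.H2.BG11.exists_inv_sylow (q := q) hPN hcopP hsolvσ
      hXσ hPX hXp
    have h1 := sylow_inf_centralizer_le hG h28 hM hE hp hPE hPc hqσ hqβ hS₁ hPS₁
    exact ((le_inf hXS₁ hXP).trans h1).trans (Subgroup.commutator_mono hS₁.1 hS₁.1)
  obtain ⟨S₀⟩ : Nonempty (Sylow q ↥(Cfsg.sigmaCore M)) := inferInstance
  refine ⟨hqσ, (Cfsg.Agent.S1423.result hG M hM q hqσ X hXM hXc S₀ h).1, ?_⟩
  intro S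
  obtain ⟨-, hu, hSM⟩ := Cfsg.Agent.S1423.result hG M hM q hqσ X hXM hXc S h
  refine ⟨hu, hSM, ?_⟩
  intro hSD
  set S' : Subgroup G := (S : Subgroup ↥(Cfsg.sigmaCore M)).map (Cfsg.sigmaCore M).subtype
    with hS'
  have hSyl : IsSylowIn q S' (Cfsg.sigmaCore M) := IsSylowIn.of_sylow S
  have hS'1 : S' ≠ ⊥ := Cfsg.Agent.H2.BG11.sylIn_ne_bot hSyl hqdσ
  have hS'p : IsPGroup q ↥S' := hSyl.isPGroup
  have hS'P : S' ≤ Subgroup.centralizer (P : Set G) := hSD.trans inf_le_right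
  by_cases hqβ : q ∈ Cfsg.beta M
  · have hqα : q ∈ Cfsg.alpha M := hqβ.1
    have hSylM : IsSylowIn q S' M :=
      Cfsg.Agent.H2.BG11.sylIn_of_sylIn_top
        (Cfsg.Agent.H2.BG11.sylIn_top_of_not_dvd_index hSyl
          ((Cfsg.Agent.H2.BG11.sigmaCore_hall hG hM).2 q hq.out hqσ)) hSM
    have hnr : ¬ Cfsg.PRankLE q 2 ↥S' := not_pRankLE_sylowIn hSylM hqα.2
    have hS'α : S' ≤ Cfsg.alphaCore M :=
      Cfsg.Agent.Lib.Helper4.BG1218.le_alphaCore_of_pgroup hG hM hqα hSM hS'p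
    have h125 := Cfsg.Agent.Lib.Helper4.BG1218.rankLE_one_alphaCore_inf_centralizer hG hM
      hp.2.1 hp.2.2.2.2 hPM hPc
    have hle : S' ≤ Cfsg.alphaCore M ⊓ Subgroup.centralizer (P : Set G) := le_inf hS'α hS'P
    apply hnr
    apply pRankLE_succ hq.out
    exact Cfsg.Agent.Lib.Helper4.Rank2Fit.pRankLE_of_injective (Subgroup.inclusion hle)
      (Subgroup.inclusion_injective hle) (h125 q hq.out)
  · have hPS' : P ≤ Subgroup.normalizer (S' : Set G) := by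
      refine le_trans ?_ (Subgroup.centralizer_le_normalizer _)
      intro a ha
      rw [Subgroup.mem_centralizer_iff]
      intro x hx
      exact ((Subgroup.mem_centralizer_iff.mp (hS'P hx)) a ha).symm
    have h1 := sylow_inf_centralizer_le hG h28 hM hE hp hPE hPc hqσ hqβ hSyl hPS'
    have h2 : S' ≤ ⁅S', S'⁆ := (le_inf le_rfl hS'P).trans h1
    exact absurd h2 (not_le_of_gt (Cfsg.Agent.Lib.Helper4.ZJ.commutator_lt_of_pgroup S' hS'p hS'1))

end Cfsg.Agent.Lib.Helper4.BG13
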