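import Mathlib
import Cfsg.Agent.Lib.Helper4.BG13C
import Cfsg.Agent.S1404
import Cfsg.Agent.S1425
import Cfsg.Agent.S1428

/-!
Bender–Glauberman Theorem 14.2 (d1), (e), (f) (= S1431 parts 1, 3, 4), helper4: the case where the
Hall `κ(M)`-subgroup `K` contains a subgroup `P` of order `p ∈ τ₁(M)`; from Theorem (α) (B&G 13.6).
-/

set_option autoImplicit false
set_option linter.unusedSectionVars false
set_option linter.unusedVariables false
set_option linter.style.haveILetI false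
set_option maxHeartbeats 1000000
open Cfsg
open scoped commutatorElement Pointwise

namespace Cfsg.Agent.Lib.Helper4.BG13

open Cfsg.Agent.Lib.Helper7 (IsSylowIn exists_isSylowIn_ge card_subgroupOf_of_le)
open Cfsg.Agent.Lib.Helper8.BGTen Cfsg.Agent.Lib.Helper4.BGTrans
open Cfsg.Agent.Lib.helper3.BG11 Cfsg.Agent.Lib.helper3.BG12

universe u

variable {G : Type u} [Group G] [Finite G]

/-- S1428 is proved -/
theorem hyp1428 (hG : Cfsg.IsMinSimpleOddOrder G) : Hyp1428 G :=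
  fun M hM E hE p hp P hPE hP R hRE hR =>
    Cfsg.Agent.S1428.result hG M hM E hE p hp P hPE hP R hRE hR

/-- a nontrivial subgroup contains a subgroup of prime order -/
theorem exists_prime_card_le {H : Subgroup G} (hH : H ≠ ⊥) :
    ∃ (q : ℕ) (_ : Fact q.Prime) (X : Subgroup G), X ≤ H ∧ Nat.card ↥X = q := by
  have h1 : Nat.card ↥H ≠ 1 := fun h => hH (Subgroup.card_eq_one.mp h)
  obtain ⟨q, hq, hqd⟩ := Nat.exists_prime_and_dvd h1
  haveI : Fact q.Prime := ⟨hq⟩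
  obtain ⟨x, hx⟩ := exists_prime_orderOf_dvd_card' (G := ↥H) q hqd
  refine ⟨q, ⟨hq⟩, Subgroup.zpowers (x : G), ?_, ?_⟩
  · rw [Subgroup.zpowers_le]; exact x.2
  · rw [Nat.card_zpowers, Subgroup.orderOf_coe, hx]

/-- **Theorem (α)**, unconditional, for a subgroup `P ≤ M` of order `p ∈ τ₁(M)` (not necessarily in
a given complement). -/
theorem alpha_uniq (hG : Cfsg.IsMinSimpleOddOrder G) {M : Subgroup G} (hM : IsCoatom M) {p : ℕ}
    (hp : p ∈ Cfsg.tau1 M) {P : Subgroup G} (hPM : P ≤ M) (hPc : Nat.card ↥P = p) {q : ℕ}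
    [hq : Fact q.Prime] {X : Subgroup G}
    (hXD : X ≤ Cfsg.sigmaCore M ⊓ Subgroup.centralizer (P : Set G)) (hXc : Nat.card ↥X = q) :
    q ∈ Cfsg.sigma M ∧
    (Subgroup.centralizer (X : Set G) ≤ M ∧
      ∀ L : Subgroup G, IsCoatom L → Subgroup.centralizer (X : Set G) ≤ L → L = M) ∧
    ∀ S : Sylow q ↥(Cfsg.sigmaCore M),
      Cfsg.InUniqueMaximal ((S : Subgroup ↥(Cfsg.sigmaCore M)).map (Cfsg.sigmaCore M).subtype) ∧
      (S : Subgroup ↥(Cfsg.sigmaCore M)).map (Cfsg.sigmaCore M).subtype ≤ M ∧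
      ¬ (S : Subgroup ↥(Cfsg.sigmaCore M)).map (Cfsg.sigmaCore M).subtype ≤
        Cfsg.sigmaCore M ⊓ Subgroup.centralizer (P : Set G) := by
  haveI hpf : Fact p.Prime := ⟨hp.1⟩
  obtain ⟨E₀, hE₀⟩ := exists_compl hG hM
  have hcop : (Nat.card ↥P).Coprime (Nat.card ↥(Cfsg.sigmaCore M)) := by
    rw [hPc, Nat.Prime.coprime_iff_not_dvd hp.1]
    intro hd
    exact hp.2.1 (Cfsg.Agent.H2.BG11.mem_sigma_of_dvd_sigmaCore hG hM hp.1 hd)
  obtain ⟨m, hm, hPE⟩ := Cfsg.Agent.H2.BG12.exists_cj_compl_ge hG hM hE₀ hPM hcop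
  exact cent_cent_sigmaCore_tau1_uniq hG (hyp1428 hG) hM (Cfsg.Agent.H2.BG12.compl_cj hE₀ hm) hp
    hPE hPc hXD hXc

/-- B&G 14.2 (d1), (e), (f) when `K ⊇ P` with `|P| = p ∈ τ₁(M)`; `Ks` is any subgroup of
`C_{M_σ}(P)` (e.g. `K* = C_{M_σ}(K)`). -/
theorem kstar_of_tau1 (hG : Cfsg.IsMinSimpleOddOrder G) {M : Subgroup G} (hM : IsCoatom M) {p : ℕ}
    (hp : p ∈ Cfsg.tau1 M) {P : Subgroup G} (hPM : P ≤ M) (hPc : Nat.card ↥P = p)
    {Ks : Subgroup G} (hKs : Ks ≤ Cfsg.sigmaCore M ⊓ Subgroup.centralizer (P : Set G)) :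
    (∀ g : G, g ∉ M → Ks ⊓ M.map (MulAut.conj g).toMonoidHom = ⊥) ∧
    (∀ (q : ℕ), q.Prime → q ∣ Nat.card ↥Ks → ∀ S : Sylow q ↥(Cfsg.sigmaCore M),
        Cfsg.InUniqueMaximal ((S : Subgroup ↥(Cfsg.sigmaCore M)).map (Cfsg.sigmaCore M).subtype) ∧
        (S : Subgroup ↥(Cfsg.sigmaCore M)).map (Cfsg.sigmaCore M).subtype ≤ M ∧
        ¬ (S : Subgroup ↥(Cfsg.sigmaCore M)).map (Cfsg.sigmaCore M).subtype ≤ Ks) ∧
    ∀ Y : Subgroup G, (∀ q : ℕ, q.Prime → q ∣ Nat.card ↥Y → q ∈ Cfsg.sigma M) →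
      Y ⊓ Ks ≠ ⊥ → Y ≤ Cfsg.sigmaCore M := by
  refine ⟨?_, ?_, ?_⟩
  · -- (d1)
    intro g hg
    by_contra hne
    obtain ⟨q, hqf, X, hXle, hXc⟩ := exists_prime_card_le hne
    obtain ⟨hqσ, ⟨hCM, -⟩, -⟩ := alpha_uniq hG hM hp hPM hPc (hXle.trans (inf_le_left.trans hKs)) hXc
    have hXM : X ≤ M := (hXle.trans (inf_le_left.trans hKs)).trans
      (inf_le_left.trans (Cfsg.Agent.H2.BG11.sigmaCore_le M))
    have hXp : IsPGroup q ↥X := IsPGroup.of_card (n := 1) (by rw [hXc, pow_one])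
    have hX1 : X ≠ ⊥ := by
      intro h0
      rw [h0, Subgroup.card_bot] at hXc
      exact hqf.out.one_lt.ne hXc
    have h04 := (Cfsg.Agent.S1404.result hG M hM q hqσ X hXp hX1 hXM).1 g⁻¹ ?_
    · obtain ⟨m, hm, c, hc, hgmc⟩ := h04
      apply hg
      have : g⁻¹ ∈ M := hgmc ▸ M.mul_mem hm (hCM hc)
      simpa using M.inv_mem this
    · -- `X^{g⁻¹} ≤ M`
      have h1 : X ≤ cj g M := hXle.trans inf_le_right
      have h2 := cj_mono g⁻¹ h1
      rwa [cj_inv_cj] at h2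
  · -- (e)
    intro q hq hqd S
    haveI : Fact q.Prime := ⟨hq⟩
    obtain ⟨x, hx⟩ := exists_prime_orderOf_dvd_card' (G := ↥Ks) q hqd
    have hXle : Subgroup.zpowers (x : G) ≤ Ks := by
      rw [Subgroup.zpowers_le]; exact x.2
    have hXc : Nat.card ↥(Subgroup.zpowers (x : G)) = q := by
      rw [Nat.card_zpowers, Subgroup.orderOf_coe, hx]
    obtain ⟨-, -, h3⟩ := alpha_uniq hG hM hp hPM hPc (hXle.trans hKs) hXc
    obtain ⟨h4, h5, h6⟩ := h3 S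
    exact ⟨h4, h5, fun h => h6 (h.trans hKs)⟩
  · -- (f)
    intro Y hY hne
    obtain ⟨q, hqf, X, hXle, hXc⟩ := exists_prime_card_le hne
    obtain ⟨hqσ, ⟨hCM, -⟩, -⟩ := alpha_uniq hG hM hp hPM hPc (hXle.trans (inf_le_right.trans hKs)) hXc
    have hXM : X ≤ M := (hXle.trans (inf_le_right.trans hKs)).trans
      (inf_le_left.trans (Cfsg.Agent.H2.BG11.sigmaCore_le M))
    have hXp : IsPGroup q ↥X := IsPGroup.of_card (n := 1) (by rw [hXc, pow_one])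
    have hX1 : X ≠ ⊥ := by
      intro h0
      rw [h0, Subgroup.card_bot] at hXc
      exact hqf.out.one_lt.ne hXc
    have hY1 : Y ≠ ⊥ := by
      rintro rfl
      apply hne
      simp
    obtain ⟨g, hg⟩ := Cfsg.Agent.S1425.result hG M hM Y hY1 hY
    have hgX : cj g X ≤ M :=
      ((cj_mono g (hXle.trans inf_le_left)).trans hg).trans (Cfsg.Agent.H2.BG11.sigmaCore_le M)
    obtain ⟨m, hm, c, hc, hgmc⟩ := (Cfsg.Agent.S1404.result hG M hM q hqσ X hXp hX1 hXM).1 g hgX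
    have hgM : g ∈ M := hgmc ▸ M.mul_mem hm (hCM hc)
    have h1 := cj_mono g⁻¹ hg
    rw [cj_inv_cj] at h1
    refine h1.trans (le_of_eq ?_)
    exact cj_eq_of_mem_normalizer (Cfsg.Agent.H2.BG11.le_normalizer_sigmaCore M (M.inv_mem hgM))

end Cfsg.Agent.Lib.Helper4.BG13
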