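import Mathlib
import Cfsg.Agent.Lib.Helper4.BG13D
import Cfsg.Agent.H2.BG13.B
import Cfsg.Agent.S1408
import Cfsg.Agent.S1409
import Cfsg.Agent.S1420
import Cfsg.Agent.S1422

/-!
Bender–Glauberman §13/§14, helper4: **Lemma V** and its two corollaries
(B&G 14.2(c): `X ≤ M*_σ`; B&G 13.12: `K` acts regularly on `E₂`).

Conditional on `HypPart G` (the second clause of S1378, the σ-partition) and `HypT3 G`
(a consequence of helper7's Theorem T).
-/

set_option autoImplicit false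
set_option linter.unusedSectionVars false
set_option linter.unusedVariables false
set_option linter.style.haveILetI false
set_option maxHeartbeats 1000000
open Cfsg
open scoped commutatorElement Pointwise

namespace Cfsg.Agent.Lib.Helper4.BG14

open Cfsg.Agent.Lib.Helper7 (IsSylowIn exists_isSylowIn_ge card_subgroupOf_of_le)
open Cfsg.Agent.Lib.Helper8.BGTen Cfsg.Agent.Lib.Helper4.BGTrans
open Cfsg.Agent.Lib.helper3.BG11 Cfsg.Agent.Lib.helper3.BG12 Cfsg.Agent.Lib.Helper4.BG13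

universe u

/-- the σ-partition (second clause of S1378) -/
def HypPart (G : Type u) [Group G] : Prop :=
  ∀ M N : Subgroup G, IsCoatom M → IsCoatom N → (Cfsg.sigma M ∩ Cfsg.sigma N).Nonempty →
    ∃ g : G, N = M.map (MulAut.conj g).toMonoidHom

/-- consequence of Theorem T (helper7): a `τ₃(M)`-subgroup `R` of prime order of a complement `E`
with `C_{M_σ}(R) ≠ 1` has its fixed points centralized by a `τ₁(M)`-subgroup of prime order of `E` -/
def HypT3 (G : Type u) [Group G] : Prop :=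
  ∀ (M : Subgroup G), IsCoatom M → ∀ (E : Subgroup G), Cfsg.IsComplIn E (Cfsg.sigmaCore M) M →
    ∀ (r : ℕ), r ∈ Cfsg.tau3 M → ∀ (R : Subgroup G), R ≤ E → Nat.card R = r →
    Cfsg.sigmaCore M ⊓ Subgroup.centralizer (R : Set G) ≠ ⊥ →
    ∃ p ∈ Cfsg.tau1 M, ∃ P : Subgroup G, P ≤ E ∧ Nat.card P = p ∧
      Cfsg.sigmaCore M ⊓ Subgroup.centralizer (R : Set G) ≤
        Cfsg.sigmaCore M ⊓ Subgroup.centralizer (P : Set G)

variable {G : Type u} [Group G] [Finite G]

/-- **B&G 12.11(a)** for the prime itself: `t ∈ τ₂(H)`, `A ≤ H` elementary abelian of order `t²`,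
`N_G(A) ≤ M*` ⇒ `t ∈ σ(M*)`. -/
theorem mem_sigma_of_normalizer_sq_le (hG : Cfsg.IsMinSimpleOddOrder G) {H Ms : Subgroup G}
    (hH : IsCoatom H) (hMs : IsCoatom Ms) {t : ℕ} [ht : Fact t.Prime] (hτ : t ∈ Cfsg.tau2 H)
    {A : Subgroup G} (hAH : A ≤ H) (hAel : Cfsg.IsElementaryAbelian t A)
    (hAc : Nat.card ↥A = t ^ 2) (hNA : Subgroup.normalizer (A : Set G) ≤ Ms) :
    t ∈ Cfsg.sigma Ms := by
  have hAMs : A ≤ Ms := Subgroup.le_normalizer.trans hNA
  have hAp : IsPGroup t ↥A := IsPGroup.of_card hAc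
  obtain ⟨S, hS, hAS⟩ := exists_isSylowIn_ge hAp hAMs
  have hA1 : A ≠ ⊥ := by
    intro h0
    rw [h0, Subgroup.card_bot] at hAc
    have := Nat.one_lt_pow (n := 2) (by norm_num) ht.out.one_lt
    omega
  have hS1 : S ≠ ⊥ := by
    rintro rfl
    exact hA1 (le_bot_iff.mp hAS)
  have hmax := (Cfsg.Agent.S1408.result hG H hH t hτ.2.1 hτ.2.2.1 hτ.2.2.2).2 A hAH hAel hAc
  have hN : Subgroup.normalizer (S : Set G) ≤ Ms := by
    by_cases hab : IsMulCommutative ↥S
    · refine le_trans ?_ hNA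
      intro g hg
      apply Cfsg.Agent.Lib.Helper4.GTFus.mem_normalizer_of_cj_le
      have hgA : cj g A ≤ S := by
        have := cj_mono g hAS
        rwa [cj_eq_of_mem_normalizer hg] at this
      have hel := Cfsg.Agent.H2.RankTwoGraph.isElementaryAbelian_sup hAel
        (Cfsg.Agent.H2.BG12.isElementaryAbelian_cj hAel g) (by
          intro a ha b hb
          exact congrArg Subtype.val (hab.is_comm.comm (⟨a, hAS ha⟩ : ↥S) ⟨b, hgA hb⟩))
      have h9 := hmax _ hel le_sup_left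
      exact le_sup_right.trans (le_of_eq h9)
    · have hu := Cfsg.Agent.S1422.result hG t S hS.isPGroup hab
      have hSt : S ≠ ⊤ := ne_top_of_le_coatom hMs hS.1
      exact Cfsg.Agent.Lib.Helper4.BGUniq.le_of_inUniqueMaximal_of_le hu hMs hS.1
        Subgroup.le_normalizer (normalizer_ne_top' hG hS1 hSt)
  exact mem_sigma_of_sylIn hS hS1 hN

/-- **Lemma V.** -/
theorem lemmaV (hG : Cfsg.IsMinSimpleOddOrder G) (hpart : HypPart G) (hT3 : HypT3 G)
    {H : Subgroup G} (hH : IsCoatom H) {t : ℕ} [ht : Fact t.Prime] (hτ : t ∈ Cfsg.tau2 H)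
    {A : Subgroup G} (hAH : A ≤ H) (hAel : Cfsg.IsElementaryAbelian t A)
    (hAc : Nat.card ↥A = t ^ 2) {T : Subgroup G} (hTA : T ≤ A) (hTc : Nat.card ↥T = t)
    (hCT : Subgroup.centralizer (T : Set G) ≤ H) {q : ℕ} [hq : Fact q.Prime] {Y : Subgroup G}
    (hYc : Nat.card ↥Y = q) (hqt : q ≠ t) (hYA : Y ≤ Subgroup.normalizer (A : Set G))
    (hYT : Y ≤ Subgroup.centralizer (T : Set G)) {M₁ : Subgroup G} (hM₁ : IsCoatom M₁)
    (hNY : Subgroup.normalizer (Y : Set G) ≤ M₁) (hqσ : q ∈ Cfsg.sigma M₁) (hAM₁ : ¬ A ≤ M₁) :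
    False := by
  have hAp : IsPGroup t ↥A := IsPGroup.of_card hAc
  have hA1 : A ≠ ⊥ := by
    intro h0
    rw [h0, Subgroup.card_bot] at hAc
    have := Nat.one_lt_pow (n := 2) (by norm_num) ht.out.one_lt
    omega
  have hT1 : T ≠ ⊥ := by
    intro h0
    rw [h0, Subgroup.card_bot] at hTc
    exact ht.out.one_lt.ne hTc
  have hY1 : Y ≠ ⊥ := by
    intro h0
    rw [h0, Subgroup.card_bot] at hYc
    exact hq.out.one_lt.ne hYc
  have hYp : IsPGroup q ↥Y := IsPGroup.of_card (n := 1) (by rw [hYc, pow_one])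
  have hAt : A ≠ ⊤ := ne_top_of_le_coatom hH hAH
  obtain ⟨Ms, hMs, hNA⟩ := exists_coatom_ge (normalizer_ne_top' hG hA1 hAt)
  -- `M* ≠ H`
  have hMsH : Ms ≠ H := by
    rintro rfl
    obtain ⟨E₀, hE₀⟩ := exists_compl hG hH
    have hcop : (Nat.card ↥A).Coprime (Nat.card ↥(Cfsg.sigmaCore Ms)) := by
      rw [hAc]
      apply Nat.Coprime.pow_left
      rw [Nat.Prime.coprime_iff_not_dvd ht.out]
      intro hd
      exact hτ.2.1 (Cfsg.Agent.H2.BG11.mem_sigma_of_dvd_sigmaCore hG hH ht.out hd)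
    obtain ⟨m, hm, hAE⟩ := Cfsg.Agent.H2.BG12.exists_cj_compl_ge hG hH hE₀ hAH hcop
    exact (Cfsg.Agent.S1418.result hG Ms hH _ (Cfsg.Agent.H2.BG12.compl_cj hE₀ hm) t hτ A
      ⟨hAE, hAel, hAc⟩).2.1.2.2 hNA
  have htσ : t ∈ Cfsg.sigma Ms := mem_sigma_of_normalizer_sq_le hG hH hMs hτ hAH hAel hAc hNA
  have hAMs : A ≤ Ms := Subgroup.le_normalizer.trans hNA
  have hAσ : A ≤ Cfsg.sigmaCore Ms := Cfsg.Agent.H2.BG11.le_sigmaCore_of_pgroup hG hMs htσ hAMs hAp
  have hYMs : Y ≤ Ms := hYA.trans hNA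
  have hTY : T ≤ Cfsg.sigmaCore Ms ⊓ Subgroup.centralizer (Y : Set G) := by
    refine le_inf (hTA.trans hAσ) ?_
    intro x hx
    rw [Subgroup.mem_centralizer_iff]
    intro y hy
    exact ((Subgroup.mem_centralizer_iff.mp (hYT hy)) x hx).symm
  have hCYM₁ : Subgroup.centralizer (Y : Set G) ≤ M₁ :=
    (Subgroup.centralizer_le_normalizer _).trans hNY
  have hqMs : q ∣ Nat.card ↥Ms := by
    rw [← hYc]; exact Subgroup.card_dvd_of_le hYMs
  by_cases hqσs : q ∈ Cfsg.sigma Ms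
  · -- `q ∈ σ(M*) ∩ σ(M₁)`
    obtain ⟨g, hg⟩ := hpart Ms M₁ hMs hM₁ ⟨q, hqσs, hqσ⟩
    have hYM₁ : Y ≤ M₁ := Subgroup.le_normalizer.trans hNY
    have h1 : cj g⁻¹ Y ≤ Ms := by
      have h2 : Y ≤ cj g Ms := by
        show Y ≤ Ms.map (MulAut.conj g).toMonoidHom
        rw [← hg]; exact hYM₁
      have := cj_mono g⁻¹ h2
      rwa [cj_inv_cj] at this
    obtain ⟨m, hm, c, hc, hgmc⟩ :=
      (Cfsg.Agent.S1404.result hG Ms hMs q hqσs Y hYp hY1 hYMs).1 g⁻¹ h1
    have hg' : g = c⁻¹ * m⁻¹ := by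
      have : g = (g⁻¹)⁻¹ := by group
      rw [this, hgmc]; group
    have h3 : M₁ = cj c⁻¹ Ms := by
      have h4 : M₁ = cj g Ms := hg
      rw [h4, hg', cj_mul, cj_eq_of_mem (Ms.inv_mem hm)]
    have h5 : cj c M₁ = M₁ := cj_eq_of_mem (hCYM₁ hc)
    have h6 : Ms = M₁ := by
      have : cj c M₁ = Ms := by rw [h3, cj_cj_inv]
      rw [← this, h5]
    exact hAM₁ (h6 ▸ hAMs)
  · -- `q ∉ σ(M*)`
    have huniqT : (∃ p ∈ Cfsg.tau1 Ms, ∃ P : Subgroup G, P ≤ Ms ∧ Nat.card ↥P = p ∧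
        T ≤ Cfsg.sigmaCore Ms ⊓ Subgroup.centralizer (P : Set G)) → False := by
      rintro ⟨p, hp, P, hPMs, hPc, hTP⟩
      obtain ⟨-, ⟨-, hu⟩, -⟩ := alpha_uniq hG hMs hp hPMs hPc hTP hTc
      exact hMsH (hu H hH hCT).symm
    rcases Cfsg.Agent.H2.BG13.tau_cases hG hMs hq.out hqMs hqσs with h1 | h2 | h3
    · exact huniqT ⟨q, h1, Y, hYMs, hYc, hTY⟩
    · -- `q ∈ τ₂(M*)`
      obtain ⟨E₀, hE₀⟩ := exists_compl hG hMs
      obtain ⟨y, hy⟩ := exists_prime_orderOf_dvd_card' (G := ↥Y) q (by rw [hYc])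
      have hy1 : (y : G) ≠ 1 := by
        intro h
        have : y = 1 := Subtype.ext h
        rw [this, orderOf_one] at hy
        exact hq.out.one_lt.ne hy
      have hyo : orderOf (y : G) = q := by rw [← hy]; exact Subgroup.orderOf_coe y
      have hzp : Subgroup.zpowers (y : G) = Y := by
        apply Subgroup.eq_of_le_of_card_ge
        · rw [Subgroup.zpowers_le]; exact y.2
        · rw [Nat.card_zpowers, hyo, hYc]
      obtain ⟨x, hxT, hx1⟩ : ∃ x ∈ T, x ≠ 1 := by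
        by_contra hcon
        push Not at hcon
        apply hT1
        rw [eq_bot_iff]
        intro x hx
        rw [Subgroup.mem_bot]
        exact hcon x hx
      have hσh : (y : G) ∈ Cfsg.sigmaHat Ms := by
        refine ⟨hYMs y.2, x, (hTY hxT).1, hx1, ?_⟩
        exact (Subgroup.mem_centralizer_iff.mp (hTY hxT).2) (y : G) y.2
      have h20 := (Cfsg.Agent.S1420.result hG Ms hMs E₀ hE₀).2.2.2 (y : G) (hYMs y.2) hy1 (by
        intro p hp hpd
        rw [hyo] at hpd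
        have : p = q := (Nat.prime_dvd_prime_iff_eq hp hq.out).mp hpd
        rw [this]; exact h2) hσh
      have hCle : Subgroup.centralizer ({(y : G)} : Set G) ≤ M₁ := by
        refine le_trans ?_ hCYM₁
        intro z hz
        rw [Subgroup.mem_centralizer_iff]
        intro w hw
        have hw' : w ∈ Subgroup.zpowers (y : G) := by rw [hzp]; exact hw
        obtain ⟨k, rfl⟩ := Subgroup.mem_zpowers_iff.mp hw'
        have hzy : (y : G) * z = z * (y : G) :=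
          (Subgroup.mem_centralizer_iff.mp hz) (y : G) (Set.mem_singleton _)
        exact (Commute.zpow_left (show Commute (y : G) z from hzy) k).eq
      have h6 : M₁ = Ms := h20.2 M₁ hM₁ hCle
      exact hAM₁ (h6 ▸ hAMs)
    · -- `q ∈ τ₃(M*)`
      obtain ⟨E₀, hE₀⟩ := exists_compl hG hMs
      have hcop : (Nat.card ↥Y).Coprime (Nat.card ↥(Cfsg.sigmaCore Ms)) := by
        rw [hYc, Nat.Prime.coprime_iff_not_dvd hq.out]
        intro hd
        exact hqσs (Cfsg.Agent.H2.BG11.mem_sigma_of_dvd_sigmaCore hG hMs hq.out hd)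
      obtain ⟨m, hm, hYE⟩ := Cfsg.Agent.H2.BG12.exists_cj_compl_ge hG hMs hE₀ hYMs hcop
      have hne : Cfsg.sigmaCore Ms ⊓ Subgroup.centralizer (Y : Set G) ≠ ⊥ := by
        intro h0
        apply hT1
        rw [eq_bot_iff, ← h0]
        exact hTY
      obtain ⟨p, hp, P, hPE, hPc, hle⟩ := hT3 Ms hMs _ (Cfsg.Agent.H2.BG12.compl_cj hE₀ hm) q h3 Y
        hYE hYc hne
      exact huniqT ⟨p, hp, P, hPE.trans (Cfsg.Agent.H2.BG12.compl_cj hE₀ hm).1, hPc, hTY.trans hle⟩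

end Cfsg.Agent.Lib.Helper4.BG14
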