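import Mathlib
import Cfsg.Agent.Lib.Helper4.BG14A
import Cfsg.Agent.Lib.Helper5.BG1218F3

/-!
Bender–Glauberman §13/§14, helper4: the two corollaries of Lemma V.

* `mem_sigma_of_kappa` (B&G 14.2(c)): `P ≤ M` of order `p ∈ τ₁(M) ∪ τ₃(M)` with `C_{M_σ}(P) ≠ 1`,
  `H` maximal containing `N_G(P)` ⇒ `p ∈ σ(H)`.
* `not_le_centralizer_tau2` (B&G 13.12): `p ∈ τ₁(M)`, `P ≤ E` of order `p` with `C_{M_σ}(P) ≠ 1`,
  `T ≤ E` of order `t ∈ τ₂(M)` ⇒ `[P, T] ≠ 1`.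
-/

set_option autoImplicit false
set_option linter.unusedSectionVars false
set_option linter.unusedVariables false
set_option linter.style.haveILetI false
set_option maxHeartbeats 1000000
open Cfsg
open scoped commutatorElement Pointwise

namespace Cfsg.Agent.Lib.Helper4.BG14

open Cfsg.Agent.Lib.Helper7 (IsSylowIn exists_isSylowIn_ge card_subgroupOf_of_le)
open Cfsg.Agent.Lib.Helper8.BGTen Cfsg.Agent.Lib.Helper4.BGTrans
open Cfsg.Agent.Lib.helper3.BG11 Cfsg.Agent.Lib.helper3.BG12 Cfsg.Agent.Lib.Helper4.BG13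

universe u

variable {G : Type u} [Group G] [Finite G]

/-- an elementary abelian subgroup of order `t²` inside a given complement, for `t ∈ τ₂(M)` -/
theorem exists_elem_sq_compl (hG : Cfsg.IsMinSimpleOddOrder G) {M E : Subgroup G}
    (hM : IsCoatom M) (hE : Cfsg.IsComplIn E (Cfsg.sigmaCore M) M) {t : ℕ} [ht : Fact t.Prime]
    (hτ : t ∈ Cfsg.tau2 M) :
    ∃ A : Subgroup G, A ≤ E ∧ Cfsg.IsElementaryAbelian t A ∧ Nat.card ↥A = t ^ 2 := by
  obtain ⟨A₀, hA₀M, hA₀el, hA₀c⟩ := Cfsg.Agent.H2.BG12.exists_elem_sq hτ.2.2.2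
  have hcop : (Nat.card ↥A₀).Coprime (Nat.card ↥(Cfsg.sigmaCore M)) := by
    rw [hA₀c]
    apply Nat.Coprime.pow_left
    rw [Nat.Prime.coprime_iff_not_dvd ht.out]
    intro hd
    exact hτ.2.1 (Cfsg.Agent.H2.BG11.mem_sigma_of_dvd_sigmaCore hG hM ht.out hd)
  obtain ⟨m, hm, hle⟩ := Cfsg.Agent.H2.BG12.exists_cj_compl_ge hG hM hE hA₀M hcop
  refine ⟨cj m⁻¹ A₀, ?_, Cfsg.Agent.H2.BG12.isElementaryAbelian_cj hA₀el _, ?_⟩
  · have := cj_mono m⁻¹ hle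
    rwa [cj_inv_cj] at this
  · rw [card_cj, hA₀c]

/-- `N_G(Y) ≤ M` when `M` is the unique maximal subgroup containing `C_G(Y)` -/
theorem normalizer_le_of_centralizer_uniq (hG : Cfsg.IsMinSimpleOddOrder G) {M Y : Subgroup G}
    (hM : IsCoatom M) (hY1 : Y ≠ ⊥) (hYM : Y ≤ M)
    (hu : ∀ L : Subgroup G, IsCoatom L → Subgroup.centralizer (Y : Set G) ≤ L → L = M) :
    Subgroup.normalizer (Y : Set G) ≤ M := by
  have hYt : Y ≠ ⊤ := ne_top_of_le_coatom hM hYM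
  obtain ⟨L, hL, hNL⟩ := exists_coatom_ge (normalizer_ne_top' hG hY1 hYt)
  have := hu L hL ((Subgroup.centralizer_le_normalizer _).trans hNL)
  rwa [this] at hNL

/-- **B&G 14.2(c)** -/
theorem mem_sigma_of_kappa (hG : Cfsg.IsMinSimpleOddOrder G) (hpart : HypPart G) (hT3 : HypT3 G)
    {M : Subgroup G} (hM : IsCoatom M) {p : ℕ} [hp : Fact p.Prime]
    (hpτ : p ∈ Cfsg.tau1 M ∨ p ∈ Cfsg.tau3 M) {P : Subgroup G} (hPM : P ≤ M)
    (hPc : Nat.card ↥P = p)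
    (hD : Cfsg.sigmaCore M ⊓ Subgroup.centralizer (P : Set G) ≠ ⊥) {H : Subgroup G}
    (hH : IsCoatom H) (hNH : Subgroup.normalizer (P : Set G) ≤ H) : p ∈ Cfsg.sigma H := by
  by_contra hpH
  have hpσM : p ∉ Cfsg.sigma M := by
    rcases hpτ with h | h
    · exact h.2.1
    · exact h.2.1
  have hrkM : Cfsg.PRankLE p 1 ↥M := by
    rcases hpτ with h | h
    · exact h.2.2.2.2
    · exact h.2.2.2
  obtain ⟨⟨hr2, hnr1⟩, -, -⟩ := Cfsg.Agent.S1409.result hG H hH p hpH P hPc hNH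
  have hτ2 : p ∈ Cfsg.tau2 H := ⟨hp.out, hpH, hr2, hnr1⟩
  -- a `τ₁(M)`-subgroup `P'` with `C_{M_σ}(P) ≤ C_{M_σ}(P')`
  obtain ⟨p', hp', P', hP'M, hP'c, hle⟩ : ∃ p' ∈ Cfsg.tau1 M, ∃ P' : Subgroup G, P' ≤ M ∧
      Nat.card ↥P' = p' ∧ Cfsg.sigmaCore M ⊓ Subgroup.centralizer (P : Set G) ≤
        Cfsg.sigmaCore M ⊓ Subgroup.centralizer (P' : Set G) := by
    rcases hpτ with h | h
    · exact ⟨p, h, P, hPM, hPc, le_rfl⟩
    · obtain ⟨E₀, hE₀⟩ := exists_compl hG hM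
      have hcop : (Nat.card ↥P).Coprime (Nat.card ↥(Cfsg.sigmaCore M)) := by
        rw [hPc, Nat.Prime.coprime_iff_not_dvd hp.out]
        intro hd
        exact hpσM (Cfsg.Agent.H2.BG11.mem_sigma_of_dvd_sigmaCore hG hM hp.out hd)
      obtain ⟨m, hm, hPE⟩ := Cfsg.Agent.H2.BG12.exists_cj_compl_ge hG hM hE₀ hPM hcop
      obtain ⟨p', hp', P', hP'E, hP'c, hle⟩ :=
        hT3 M hM _ (Cfsg.Agent.H2.BG12.compl_cj hE₀ hm) p h P hPE hPc hD
      exact ⟨p', hp', P', hP'E.trans (Cfsg.Agent.H2.BG12.compl_cj hE₀ hm).1, hP'c, hle⟩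
  obtain ⟨q, hqf, Y, hYD, hYc⟩ := exists_prime_card_le hD
  obtain ⟨hqM, ⟨hCYM, huY⟩, -⟩ := alpha_uniq hG hM hp' hP'M hP'c (hYD.trans hle) hYc
  have hY1 : Y ≠ ⊥ := by
    intro h0
    rw [h0, Subgroup.card_bot] at hYc
    exact hqf.out.one_lt.ne hYc
  have hYM : Y ≤ M := (hYD.trans inf_le_left).trans (Cfsg.Agent.H2.BG11.sigmaCore_le M)
  have hNYM : Subgroup.normalizer (Y : Set G) ≤ M :=
    normalizer_le_of_centralizer_uniq hG hM hY1 hYM huY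
  have hYP : Y ≤ Subgroup.centralizer (P : Set G) := hYD.trans inf_le_right
  have hCPH : Subgroup.centralizer (P : Set G) ≤ H :=
    (Subgroup.centralizer_le_normalizer _).trans hNH
  have hYH : Y ≤ H := hYP.trans hCPH
  have hPH : P ≤ H := Subgroup.le_normalizer.trans hNH
  have hqp : q ≠ p := by
    rintro rfl
    exact hpσM hqM
  -- `q ∉ σ(H)`
  have hqH : q ∉ Cfsg.sigma H := by
    intro hqH
    obtain ⟨g, hg⟩ := hpart M H hM hH ⟨q, hqM, hqH⟩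
    have h1 : p ∈ Cfsg.tau2 (cj g M) := by
      have : cj g M = H := hg.symm
      rw [this]; exact hτ2
    exact (Cfsg.Agent.Lib.Helper5.BG1218F.tau2_of_cj h1).2.2.2 hrkM
  -- a complement of `H_σ` containing `Y P`
  obtain ⟨E₀, hE₀⟩ := exists_compl hG hH
  have hYPn : Y ≤ Subgroup.normalizer (P : Set G) := hYP.trans (Subgroup.centralizer_le_normalizer _)
  have hcopYP : (Nat.card ↥(Y ⊔ P : Subgroup G)).Coprime (Nat.card ↥(Cfsg.sigmaCore H)) := by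
    refine Nat.Coprime.coprime_dvd_left
      (Cfsg.Agent.Lib.BG127H7.card_sup_dvd_of_le_normalizer hYPn) ?_
    rw [hYc, hPc]
    apply Nat.Coprime.mul_left
    · rw [Nat.Prime.coprime_iff_not_dvd hqf.out]
      intro hd
      exact hqH (Cfsg.Agent.H2.BG11.mem_sigma_of_dvd_sigmaCore hG hH hqf.out hd)
    · rw [Nat.Prime.coprime_iff_not_dvd hp.out]
      intro hd
      exact hpH (Cfsg.Agent.H2.BG11.mem_sigma_of_dvd_sigmaCore hG hH hp.out hd)
  obtain ⟨m, hm, hYPE⟩ := Cfsg.Agent.H2.BG12.exists_cj_compl_ge hG hH hE₀ (sup_le hYH hPH) hcopYP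
  have hE := Cfsg.Agent.H2.BG12.compl_cj hE₀ hm
  obtain ⟨A, hAE, hAel, hAc⟩ := exists_elem_sq_compl hG hH hE hτ2
  have h18 := Cfsg.Agent.S1418.result hG H hH _ hE p hτ2 A ⟨hAE, hAel, hAc⟩
  have hPA : P ≤ A := h18.1.2 P (le_sup_right.trans hYPE) hPc
  have hYA : Y ≤ Subgroup.normalizer (A : Set G) := (le_sup_left.trans hYPE).trans h18.1.1
  have hAM : ¬ A ≤ M := by
    intro hAM
    exact Cfsg.Agent.Lib.Helper4.BGUniq.not_pRankLE_of_le hAel hAM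
      (by rw [hAc]; exact Nat.pow_lt_pow_right hp.out.one_lt (by norm_num)) hrkM
  exact lemmaV hG hpart hT3 hH hτ2 (hAE.trans hE.1) hAel hAc hPA hPc hCPH hYc hqp hYA hYP hM
    hNYM hqM hAM

/-- **B&G 13.12**: a `τ₁(M) ∩ κ(M)`-subgroup of prime order of `E` centralizes no subgroup of `E` of
order `t ∈ τ₂(M)` -/
theorem not_le_centralizer_tau2 (hG : Cfsg.IsMinSimpleOddOrder G) (hpart : HypPart G)
    (hT3 : HypT3 G) {M E : Subgroup G} (hM : IsCoatom M)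
    (hE : Cfsg.IsComplIn E (Cfsg.sigmaCore M) M) {p : ℕ} (hp : p ∈ Cfsg.tau1 M) {P : Subgroup G}
    (hPE : P ≤ E) (hPc : Nat.card ↥P = p)
    (hD : Cfsg.sigmaCore M ⊓ Subgroup.centralizer (P : Set G) ≠ ⊥) {t : ℕ} [ht : Fact t.Prime]
    (hτ : t ∈ Cfsg.tau2 M) {T : Subgroup G} (hTE : T ≤ E) (hTc : Nat.card ↥T = t) :
    ¬ T ≤ Subgroup.centralizer (P : Set G) := by
  intro hTP
  haveI hpf : Fact p.Prime := ⟨hp.1⟩
  have hEM : E ≤ M := hE.1
  have hPM : P ≤ M := hPE.trans hEM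
  obtain ⟨A, hAE, hAel, hAc⟩ := exists_elem_sq_compl hG hM hE hτ
  have h18 := Cfsg.Agent.S1418.result hG M hM E hE t hτ A ⟨hAE, hAel, hAc⟩
  have hTA : T ≤ A := h18.1.2 T hTE hTc
  have h28 := Cfsg.Agent.S1428.result hG M hM E hE p hp P hPE hPc T (le_inf hTE hTP)
    (by rw [hTc]; exact ht.out)
  have hDT : Cfsg.sigmaCore M ⊓ Subgroup.centralizer (T : Set G) ≠ ⊥ := by
    intro h0
    apply hD
    rw [eq_bot_iff, ← h0]
    exact h28
  have hCT := (h18.2.2 T hTA hTc hDT).1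
  have hP1 : P ≠ ⊥ := by
    intro h0
    rw [h0, Subgroup.card_bot] at hPc
    exact hpf.out.one_lt.ne hPc
  obtain ⟨L, hL, hNL⟩ := exists_coatom_ge (normalizer_ne_top' hG hP1 (ne_top_of_le_coatom hM hPM))
  have hLM : L ≠ M := by
    rintro rfl
    exact (Cfsg.Agent.Lib.Helper4.BGUniq.tau2_of_normalizer_le hG (uT hG) L hM p hp.2.1 P hPc
      hNL).1.2 hp.2.2.2.2
  have hpL : p ∈ Cfsg.sigma L := mem_sigma_of_kappa hG hpart hT3 hM (Or.inl hp) hPM hPc hD hL hNL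
  have hCL : Subgroup.centralizer (P : Set G) ≤ L := (Subgroup.centralizer_le_normalizer _).trans hNL
  have hAL : ¬ A ≤ L := by
    intro hAL
    have h17 := (Cfsg.Agent.S1417.result hG M hM t hτ A ⟨hAE.trans hEM, hAel, hAc⟩).2.2.2.2.1 L hL
      hLM hAL
    apply hD
    rw [eq_bot_iff, ← h17]
    exact inf_le_inf_left _ hCL
  have hpt : p ≠ t := by
    rintro rfl
    exact hτ.2.2.2 hp.2.2.2.2
  have hPT : P ≤ Subgroup.centralizer (T : Set G) := by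
    intro x hx
    rw [Subgroup.mem_centralizer_iff]
    intro y hy
    exact ((Subgroup.mem_centralizer_iff.mp (hTP hy)) x hx).symm
  exact lemmaV hG hpart hT3 hM hτ (hAE.trans hEM) hAel hAc hTA hTc hCT hPc hpt
    (hPE.trans h18.1.1) hPT hL hNL hpL hAL

end Cfsg.Agent.Lib.Helper4.BG14
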