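import Mathlib
import Cfsg.Agent.Lib.Helper4.BG14B

/-!
Bender–Glauberman §13/§14, helper4: Lemma V and its two corollaries restated with the weaker
hypothesis `HypC3` (lead, msg 1134) in place of `HypT3`.

`HypC3 G`: for `r ∈ τ₃(M)`, `E` a complement, `R ≤ E` of order `r`, and `Y ≤ C_{M_σ}(R)` of prime
order, `M` is the only maximal subgroup containing `N_G(Y)`.
-/

set_option autoImplicit false
set_option linter.unusedSectionVars false
set_option linter.unusedVariables false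
set_option linter.style.haveILetI false
set_option maxHeartbeats 1000000
open Cfsg
open scoped commutatorElement Pointwise

namespace Cfsg.Agent.Lib.Helper4.BG14

open Cfsg.Agent.Lib.Helper7 (IsSylowIn exists_isSylowIn_ge card_subgroupOf_of_le)
open Cfsg.Agent.Lib.Helper8.BGTen Cfsg.Agent.Lib.Helper4.BGTrans
open Cfsg.Agent.Lib.helper3.BG11 Cfsg.Agent.Lib.helper3.BG12 Cfsg.Agent.Lib.Helper4.BG13

universe u

/-- the weak `τ₃` hypothesis -/
def HypC3 (G : Type u) [Group G] : Prop :=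
  ∀ (M : Subgroup G), IsCoatom M → ∀ (E : Subgroup G), Cfsg.IsComplIn E (Cfsg.sigmaCore M) M →
    ∀ (r : ℕ), r ∈ Cfsg.tau3 M → ∀ (R : Subgroup G), R ≤ E → Nat.card R = r →
    ∀ (Y : Subgroup G), Y ≤ Cfsg.sigmaCore M ⊓ Subgroup.centralizer (R : Set G) →
      (Nat.card Y).Prime →
    ∀ L : Subgroup G, IsCoatom L → Subgroup.normalizer (Y : Set G) ≤ L → L = M

variable {G : Type u} [Group G] [Finite G]

/-- `HypT3` implies `HypC3` (through (α)). -/
theorem hypC3_of_hypT3 (hG : Cfsg.IsMinSimpleOddOrder G) (hT3 : HypT3 G) : HypC3 G := by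
  intro M hM E hE r hr R hRE hRc Y hYD hYp L hL hNL
  have hne : Cfsg.sigmaCore M ⊓ Subgroup.centralizer (R : Set G) ≠ ⊥ := by
    intro h0
    rw [h0, le_bot_iff] at hYD
    rw [hYD, Subgroup.card_bot] at hYp
    exact Nat.not_prime_one hYp
  obtain ⟨p, hp, P, hPE, hPc, hle⟩ := hT3 M hM E hE r hr R hRE hRc hne
  haveI : Fact (Nat.card ↥Y).Prime := ⟨hYp⟩
  obtain ⟨-, ⟨-, hu⟩, -⟩ := alpha_uniq hG hM hp (hPE.trans hE.1) hPc (hYD.trans hle) rfl
  exact hu L hL ((Subgroup.centralizer_le_normalizer _).trans hNL)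

/-- **Lemma V.** -/
theorem lemmaV' (hG : Cfsg.IsMinSimpleOddOrder G) (hpart : HypPart G) (hC3 : HypC3 G)
    {H : Subgroup G} (hH : IsCoatom H) {t : ℕ} [ht : Fact t.Prime] (hτ : t ∈ Cfsg.tau2 H)
    {A : Subgroup G} (hAH : A ≤ H) (hAel : Cfsg.IsElementaryAbelian t A)
    (hAc : Nat.card ↥A = t ^ 2) {T : Subgroup G} (hTA : T ≤ A) (hTc : Nat.card ↥T = t)
    (hNT : Subgroup.normalizer (T : Set G) ≤ H) {q : ℕ} [hq : Fact q.Prime] {Y : Subgroup G}
    (hYc : Nat.card ↥Y = q) (hqt : q ≠ t) (hYA : Y ≤ Subgroup.normalizer (A : Set G))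
    (hYT : Y ≤ Subgroup.centralizer (T : Set G)) {M₁ : Subgroup G} (hM₁ : IsCoatom M₁)
    (hNY : Subgroup.normalizer (Y : Set G) ≤ M₁) (hqσ : q ∈ Cfsg.sigma M₁) (hAM₁ : ¬ A ≤ M₁) :
    False := by
  have hAp : IsPGroup t ↥A := IsPGroup.of_card hAc
  have hA1 : A ≠ ⊥ := by
    intro h0
    rw [h0, Subgroup.card_bot] at hAc
    have := Nat.one_lt_pow (n := 2) (by norm_num) ht.out.one_lt
    omega
  have hT1 : T ≠ ⊥ := by
    intro h0
    rw [h0, Subgroup.card_bot] at hTc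
    exact ht.out.one_lt.ne hTc
  have hY1 : Y ≠ ⊥ := by
    intro h0
    rw [h0, Subgroup.card_bot] at hYc
    exact hq.out.one_lt.ne hYc
  have hYp : IsPGroup q ↥Y := IsPGroup.of_card (n := 1) (by rw [hYc, pow_one])
  have hAt : A ≠ ⊤ := ne_top_of_le_coatom hH hAH
  obtain ⟨Ms, hMs, hNA⟩ := exists_coatom_ge (normalizer_ne_top' hG hA1 hAt)
  -- `M* ≠ H`
  have hMsH : Ms ≠ H := by
    rintro rfl
    obtain ⟨E₀, hE₀⟩ := exists_compl hG hH
    have hcop : (Nat.card ↥A).Coprime (Nat.card ↥(Cfsg.sigmaCore Ms)) := by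
      rw [hAc]
      apply Nat.Coprime.pow_left
      rw [Nat.Prime.coprime_iff_not_dvd ht.out]
      intro hd
      exact hτ.2.1 (Cfsg.Agent.H2.BG11.mem_sigma_of_dvd_sigmaCore hG hH ht.out hd)
    obtain ⟨m, hm, hAE⟩ := Cfsg.Agent.H2.BG12.exists_cj_compl_ge hG hH hE₀ hAH hcop
    exact (Cfsg.Agent.S1418.result hG Ms hH _ (Cfsg.Agent.H2.BG12.compl_cj hE₀ hm) t hτ A
      ⟨hAE, hAel, hAc⟩).2.1.2.2 hNA
  have htσ : t ∈ Cfsg.sigma Ms := mem_sigma_of_normalizer_sq_le hG hH hMs hτ hAH hAel hAc hNA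
  have hAMs : A ≤ Ms := Subgroup.le_normalizer.trans hNA
  have hAσ : A ≤ Cfsg.sigmaCore Ms := Cfsg.Agent.H2.BG11.le_sigmaCore_of_pgroup hG hMs htσ hAMs hAp
  have hYMs : Y ≤ Ms := hYA.trans hNA
  have hTY : T ≤ Cfsg.sigmaCore Ms ⊓ Subgroup.centralizer (Y : Set G) := by
    refine le_inf (hTA.trans hAσ) ?_
    intro x hx
    rw [Subgroup.mem_centralizer_iff]
    intro y hy
    exact ((Subgroup.mem_centralizer_iff.mp (hYT hy)) x hx).symm
  have hCYM₁ : Subgroup.centralizer (Y : Set G) ≤ M₁ :=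
    (Subgroup.centralizer_le_normalizer _).trans hNY
  have hqMs : q ∣ Nat.card ↥Ms := by
    rw [← hYc]; exact Subgroup.card_dvd_of_le hYMs
  by_cases hqσs : q ∈ Cfsg.sigma Ms
  · -- `q ∈ σ(M*) ∩ σ(M₁)`
    obtain ⟨g, hg⟩ := hpart Ms M₁ hMs hM₁ ⟨q, hqσs, hqσ⟩
    have hYM₁ : Y ≤ M₁ := Subgroup.le_normalizer.trans hNY
    have h1 : cj g⁻¹ Y ≤ Ms := by
      have h2 : Y ≤ cj g Ms := by
        show Y ≤ Ms.map (MulAut.conj g).toMonoidHom
        rw [← hg]; exact hYM₁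
      have := cj_mono g⁻¹ h2
      rwa [cj_inv_cj] at this
    obtain ⟨m, hm, c, hc, hgmc⟩ :=
      (Cfsg.Agent.S1404.result hG Ms hMs q hqσs Y hYp hY1 hYMs).1 g⁻¹ h1
    have hg' : g = c⁻¹ * m⁻¹ := by
      have : g = (g⁻¹)⁻¹ := by group
      rw [this, hgmc]; group
    have h3 : M₁ = cj c⁻¹ Ms := by
      have h4 : M₁ = cj g Ms := hg
      rw [h4, hg', cj_mul, cj_eq_of_mem (Ms.inv_mem hm)]
    have h5 : cj c M₁ = M₁ := cj_eq_of_mem (hCYM₁ hc)
    have h6 : Ms = M₁ := by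
      have : cj c M₁ = Ms := by rw [h3, cj_cj_inv]
      rw [← this, h5]
    exact hAM₁ (h6 ▸ hAMs)
  · -- `q ∉ σ(M*)`
    have hCT : Subgroup.centralizer (T : Set G) ≤ H :=
      (Subgroup.centralizer_le_normalizer _).trans hNT
    have huniqT : (∃ p ∈ Cfsg.tau1 Ms, ∃ P : Subgroup G, P ≤ Ms ∧ Nat.card ↥P = p ∧
        T ≤ Cfsg.sigmaCore Ms ⊓ Subgroup.centralizer (P : Set G)) → False := by
      rintro ⟨p, hp, P, hPMs, hPc, hTP⟩
      obtain ⟨-, ⟨-, hu⟩, -⟩ := alpha_uniq hG hMs hp hPMs hPc hTP hTc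
      exact hMsH (hu H hH hCT).symm
    rcases Cfsg.Agent.H2.BG13.tau_cases hG hMs hq.out hqMs hqσs with h1 | h2 | h3
    · exact huniqT ⟨q, h1, Y, hYMs, hYc, hTY⟩
    · -- `q ∈ τ₂(M*)`
      obtain ⟨E₀, hE₀⟩ := exists_compl hG hMs
      obtain ⟨y, hy⟩ := exists_prime_orderOf_dvd_card' (G := ↥Y) q (by rw [hYc])
      have hy1 : (y : G) ≠ 1 := by
        intro h
        have : y = 1 := Subtype.ext h
        rw [this, orderOf_one] at hy
        exact hq.out.one_lt.ne hy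
      have hyo : orderOf (y : G) = q := by rw [← hy]; exact Subgroup.orderOf_coe y
      have hzp : Subgroup.zpowers (y : G) = Y := by
        apply Subgroup.eq_of_le_of_card_ge
        · rw [Subgroup.zpowers_le]; exact y.2
        · rw [Nat.card_zpowers, hyo, hYc]
      obtain ⟨x, hxT, hx1⟩ : ∃ x ∈ T, x ≠ 1 := by
        by_contra hcon
        push Not at hcon
        apply hT1
        rw [eq_bot_iff]
        intro x hx
        rw [Subgroup.mem_bot]
        exact hcon x hx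
      have hσh : (y : G) ∈ Cfsg.sigmaHat Ms := by
        refine ⟨hYMs y.2, x, (hTY hxT).1, hx1, ?_⟩
        exact (Subgroup.mem_centralizer_iff.mp (hTY hxT).2) (y : G) y.2
      have h20 := (Cfsg.Agent.S1420.result hG Ms hMs E₀ hE₀).2.2.2 (y : G) (hYMs y.2) hy1 (by
        intro p hp hpd
        rw [hyo] at hpd
        have : p = q := (Nat.prime_dvd_prime_iff_eq hp hq.out).mp hpd
        rw [this]; exact h2) hσh
      have hCle : Subgroup.centralizer ({(y : G)} : Set G) ≤ M₁ := by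
        refine le_trans ?_ hCYM₁
        intro z hz
        rw [Subgroup.mem_centralizer_iff]
        intro w hw
        have hw' : w ∈ Subgroup.zpowers (y : G) := by rw [hzp]; exact hw
        obtain ⟨k, rfl⟩ := Subgroup.mem_zpowers_iff.mp hw'
        have hzy : (y : G) * z = z * (y : G) :=
          (Subgroup.mem_centralizer_iff.mp hz) (y : G) (Set.mem_singleton _)
        exact (Commute.zpow_left (show Commute (y : G) z from hzy) k).eq
      have h6 : M₁ = Ms := h20.2 M₁ hM₁ hCle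
      exact hAM₁ (h6 ▸ hAMs)
    · -- `q ∈ τ₃(M*)`
      obtain ⟨E₀, hE₀⟩ := exists_compl hG hMs
      have hcop : (Nat.card ↥Y).Coprime (Nat.card ↥(Cfsg.sigmaCore Ms)) := by
        rw [hYc, Nat.Prime.coprime_iff_not_dvd hq.out]
        intro hd
        exact hqσs (Cfsg.Agent.H2.BG11.mem_sigma_of_dvd_sigmaCore hG hMs hq.out hd)
      obtain ⟨m, hm, hYE⟩ := Cfsg.Agent.H2.BG12.exists_cj_compl_ge hG hMs hE₀ hYMs hcop
      have hne : Cfsg.sigmaCore Ms ⊓ Subgroup.centralizer (Y : Set G) ≠ ⊥ := by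
        intro h0
        apply hT1
        rw [eq_bot_iff, ← h0]
        exact hTY
      exact hMsH (hC3 Ms hMs _ (Cfsg.Agent.H2.BG12.compl_cj hE₀ hm) q h3 Y hYE hYc T hTY
        (by rw [hTc]; exact ht.out) H hH hNT).symm

/-- **B&G 14.2(c)** -/
theorem mem_sigma_of_kappa' (hG : Cfsg.IsMinSimpleOddOrder G) (hpart : HypPart G) (hC3 : HypC3 G)
    {M : Subgroup G} (hM : IsCoatom M) {p : ℕ} [hp : Fact p.Prime]
    (hpτ : p ∈ Cfsg.tau1 M ∨ p ∈ Cfsg.tau3 M) {P : Subgroup G} (hPM : P ≤ M)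
    (hPc : Nat.card ↥P = p)
    (hD : Cfsg.sigmaCore M ⊓ Subgroup.centralizer (P : Set G) ≠ ⊥) {H : Subgroup G}
    (hH : IsCoatom H) (hNH : Subgroup.normalizer (P : Set G) ≤ H) : p ∈ Cfsg.sigma H := by
  by_contra hpH
  have hpσM : p ∉ Cfsg.sigma M := by
    rcases hpτ with h | h
    · exact h.2.1
    · exact h.2.1
  have hrkM : Cfsg.PRankLE p 1 ↥M := by
    rcases hpτ with h | h
    · exact h.2.2.2.2
    · exact h.2.2.2
  obtain ⟨⟨hr2, hnr1⟩, -, -⟩ := Cfsg.Agent.S1409.result hG H hH p hpH P hPc hNH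
  have hτ2 : p ∈ Cfsg.tau2 H := ⟨hp.out, hpH, hr2, hnr1⟩
  obtain ⟨q, hqf, Y, hYD, hYc⟩ := exists_prime_card_le hD
  have hYM : Y ≤ M := (hYD.trans inf_le_left).trans (Cfsg.Agent.H2.BG11.sigmaCore_le M)
  have hY1 : Y ≠ ⊥ := by
    intro h0
    rw [h0, Subgroup.card_bot] at hYc
    exact hqf.out.one_lt.ne hYc
  have hqM : q ∈ Cfsg.sigma M := by
    apply Cfsg.Agent.H2.BG11.mem_sigma_of_dvd_sigmaCore hG hM hqf.out
    rw [← hYc]
    exact Subgroup.card_dvd_of_le (hYD.trans inf_le_left)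
  have hNYM : Subgroup.normalizer (Y : Set G) ≤ M := by
    rcases hpτ with h | h
    · obtain ⟨-, ⟨-, huY⟩, -⟩ := alpha_uniq hG hM h hPM hPc hYD hYc
      exact normalizer_le_of_centralizer_uniq hG hM hY1 hYM huY
    · obtain ⟨E₀, hE₀⟩ := exists_compl hG hM
      have hcop : (Nat.card ↥P).Coprime (Nat.card ↥(Cfsg.sigmaCore M)) := by
        rw [hPc, Nat.Prime.coprime_iff_not_dvd hp.out]
        intro hd
        exact hpσM (Cfsg.Agent.H2.BG11.mem_sigma_of_dvd_sigmaCore hG hM hp.out hd)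
      obtain ⟨m, hm, hPE⟩ := Cfsg.Agent.H2.BG12.exists_cj_compl_ge hG hM hE₀ hPM hcop
      have hYt : Y ≠ ⊤ := ne_top_of_le_coatom hM hYM
      obtain ⟨L, hL, hNL⟩ := exists_coatom_ge (normalizer_ne_top' hG hY1 hYt)
      have := hC3 M hM _ (Cfsg.Agent.H2.BG12.compl_cj hE₀ hm) p h P hPE hPc Y hYD
        (by rw [hYc]; exact hqf.out) L hL hNL
      rwa [this] at hNL
  have hYP : Y ≤ Subgroup.centralizer (P : Set G) := hYD.trans inf_le_right
  have hCPH : Subgroup.centralizer (P : Set G) ≤ H :=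
    (Subgroup.centralizer_le_normalizer _).trans hNH
  have hYH : Y ≤ H := hYP.trans hCPH
  have hPH : P ≤ H := Subgroup.le_normalizer.trans hNH
  have hqp : q ≠ p := by
    rintro rfl
    exact hpσM hqM
  -- `q ∉ σ(H)`
  have hqH : q ∉ Cfsg.sigma H := by
    intro hqH
    obtain ⟨g, hg⟩ := hpart M H hM hH ⟨q, hqM, hqH⟩
    have h1 : p ∈ Cfsg.tau2 (cj g M) := by
      have : cj g M = H := hg.symm
      rw [this]; exact hτ2
    exact (Cfsg.Agent.Lib.Helper5.BG1218F.tau2_of_cj h1).2.2.2 hrkM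
  -- a complement of `H_σ` containing `Y P`
  obtain ⟨E₀, hE₀⟩ := exists_compl hG hH
  have hYPn : Y ≤ Subgroup.normalizer (P : Set G) := hYP.trans (Subgroup.centralizer_le_normalizer _)
  have hcopYP : (Nat.card ↥(Y ⊔ P : Subgroup G)).Coprime (Nat.card ↥(Cfsg.sigmaCore H)) := by
    refine Nat.Coprime.coprime_dvd_left
      (Cfsg.Agent.Lib.BG127H7.card_sup_dvd_of_le_normalizer hYPn) ?_
    rw [hYc, hPc]
    apply Nat.Coprime.mul_left
    · rw [Nat.Prime.coprime_iff_not_dvd hqf.out]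
      intro hd
      exact hqH (Cfsg.Agent.H2.BG11.mem_sigma_of_dvd_sigmaCore hG hH hqf.out hd)
    · rw [Nat.Prime.coprime_iff_not_dvd hp.out]
      intro hd
      exact hpH (Cfsg.Agent.H2.BG11.mem_sigma_of_dvd_sigmaCore hG hH hp.out hd)
  obtain ⟨m, hm, hYPE⟩ := Cfsg.Agent.H2.BG12.exists_cj_compl_ge hG hH hE₀ (sup_le hYH hPH) hcopYP
  have hE := Cfsg.Agent.H2.BG12.compl_cj hE₀ hm
  obtain ⟨A, hAE, hAel, hAc⟩ := exists_elem_sq_compl hG hH hE hτ2
  have h18 := Cfsg.Agent.S1418.result hG H hH _ hE p hτ2 A ⟨hAE, hAel, hAc⟩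
  have hPA : P ≤ A := h18.1.2 P (le_sup_right.trans hYPE) hPc
  have hYA : Y ≤ Subgroup.normalizer (A : Set G) := (le_sup_left.trans hYPE).trans h18.1.1
  have hAM : ¬ A ≤ M := by
    intro hAM
    exact Cfsg.Agent.Lib.Helper4.BGUniq.not_pRankLE_of_le hAel hAM
      (by rw [hAc]; exact Nat.pow_lt_pow_right hp.out.one_lt (by norm_num)) hrkM
  exact lemmaV' hG hpart hC3 hH hτ2 (hAE.trans hE.1) hAel hAc hPA hPc hNH hYc hqp hYA hYP hM
    hNYM hqM hAM

/-- **B&G 13.12**: a `τ₁(M) ∩ κ(M)`-subgroup of prime order of `E` centralizes no subgroup of `E` of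
order `t ∈ τ₂(M)` -/
theorem not_le_centralizer_tau2' (hG : Cfsg.IsMinSimpleOddOrder G) (hpart : HypPart G)
    (hC3 : HypC3 G) {M E : Subgroup G} (hM : IsCoatom M)
    (hE : Cfsg.IsComplIn E (Cfsg.sigmaCore M) M) {p : ℕ} (hp : p ∈ Cfsg.tau1 M) {P : Subgroup G}
    (hPE : P ≤ E) (hPc : Nat.card ↥P = p)
    (hD : Cfsg.sigmaCore M ⊓ Subgroup.centralizer (P : Set G) ≠ ⊥) {t : ℕ} [ht : Fact t.Prime]
    (hτ : t ∈ Cfsg.tau2 M) {T : Subgroup G} (hTE : T ≤ E) (hTc : Nat.card ↥T = t) :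
    ¬ T ≤ Subgroup.centralizer (P : Set G) := by
  intro hTP
  haveI hpf : Fact p.Prime := ⟨hp.1⟩
  have hEM : E ≤ M := hE.1
  have hPM : P ≤ M := hPE.trans hEM
  obtain ⟨A, hAE, hAel, hAc⟩ := exists_elem_sq_compl hG hM hE hτ
  have h18 := Cfsg.Agent.S1418.result hG M hM E hE t hτ A ⟨hAE, hAel, hAc⟩
  have hTA : T ≤ A := h18.1.2 T hTE hTc
  have h28 := Cfsg.Agent.S1428.result hG M hM E hE p hp P hPE hPc T (le_inf hTE hTP)
    (by rw [hTc]; exact ht.out)
  have hDT : Cfsg.sigmaCore M ⊓ Subgroup.centralizer (T : Set G) ≠ ⊥ := by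
    intro h0
    apply hD
    rw [eq_bot_iff, ← h0]
    exact h28
  have hT1 : T ≠ ⊥ := by
    intro h0
    rw [h0, Subgroup.card_bot] at hTc
    exact ht.out.one_lt.ne hTc
  have hNT : Subgroup.normalizer (T : Set G) ≤ M :=
    normalizer_le_of_centralizer_uniq hG hM hT1 (hTE.trans hE.1) (h18.2.2 T hTA hTc hDT).2
  have hP1 : P ≠ ⊥ := by
    intro h0
    rw [h0, Subgroup.card_bot] at hPc
    exact hpf.out.one_lt.ne hPc
  obtain ⟨L, hL, hNL⟩ := exists_coatom_ge (normalizer_ne_top' hG hP1 (ne_top_of_le_coatom hM hPM))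
  have hLM : L ≠ M := by
    rintro rfl
    exact (Cfsg.Agent.Lib.Helper4.BGUniq.tau2_of_normalizer_le hG (uT hG) L hM p hp.2.1 P hPc
      hNL).1.2 hp.2.2.2.2
  have hpL : p ∈ Cfsg.sigma L := mem_sigma_of_kappa' hG hpart hC3 hM (Or.inl hp) hPM hPc hD hL hNL
  have hCL : Subgroup.centralizer (P : Set G) ≤ L := (Subgroup.centralizer_le_normalizer _).trans hNL
  have hAL : ¬ A ≤ L := by
    intro hAL
    have h17 := (Cfsg.Agent.S1417.result hG M hM t hτ A ⟨hAE.trans hEM, hAel, hAc⟩).2.2.2.2.1 L hL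
      hLM hAL
    apply hD
    rw [eq_bot_iff, ← h17]
    exact inf_le_inf_left _ hCL
  have hpt : p ≠ t := by
    rintro rfl
    exact hτ.2.2.2 hp.2.2.2.2
  have hPT : P ≤ Subgroup.centralizer (T : Set G) := by
    intro x hx
    rw [Subgroup.mem_centralizer_iff]
    intro y hy
    exact ((Subgroup.mem_centralizer_iff.mp (hTP hy)) x hx).symm
  exact lemmaV' hG hpart hC3 hM hτ (hAE.trans hEM) hAel hAc hTA hTc hNT hPc hpt
    (hPE.trans h18.1.1) hPT hL hNL hpL hAL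

end Cfsg.Agent.Lib.Helper4.BG14
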