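import Mathlib
import Cfsg.Agent.Lib.Helper4.BG14C
import Cfsg.Agent.Lib.helper3.BG13D
import Cfsg.Agent.Lib.Helper4.BGUniqF
import Cfsg.Agent.Lib.Helper4.BGTwB
import Cfsg.Agent.S1415
import Cfsg.Agent.S1417

/-!
Bender–Glauberman §14, helper4: the data `KData M K E U` from which S1430 and S1431 follow, and the
derivation of both statements from it.

* `kappa_fixed`, `mem_kappa_of_fixed`, `tau13_of_kappa`: basic facts on `κ(M)`.
* `KData.mem_sup`: `g ∈ M`, `1 ≠ x ∈ K`, `x^g ∈ K` ⇒ `g ∈ K K*`.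
* `KData.s1430`, `KData.s1431`.
-/

set_option autoImplicit false
set_option linter.unusedSectionVars false
set_option linter.unusedVariables false
set_option linter.style.haveILetI false
set_option maxHeartbeats 1000000
open Cfsg
open scoped commutatorElement Pointwise

namespace Cfsg.Agent.Lib.Helper4.BG14

open Cfsg.Agent.Lib.Helper7 (IsSylowIn exists_isSylowIn_ge card_subgroupOf_of_le)
open Cfsg.Agent.Lib.Helper8.BGTen Cfsg.Agent.Lib.Helper4.BGTrans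
open Cfsg.Agent.Lib.helper3.BG11 Cfsg.Agent.Lib.helper3.BG12 Cfsg.Agent.Lib.Helper4.BG13

universe u

variable {G : Type u} [Group G] [Finite G]

theorem exists_ne_one_of_ne_bot {Y : Subgroup G} (hY : Y ≠ ⊥) : ∃ x ∈ Y, x ≠ 1 := by
  by_contra hcon
  push Not at hcon
  apply hY
  rw [eq_bot_iff]
  intro x hx
  rw [Subgroup.mem_bot]
  exact hcon x hx

theorem isCyclic_map_subtype {M : Subgroup G} (S : Subgroup ↥M) (hc : IsCyclic ↥S) :
    IsCyclic ↥(S.map M.subtype) := by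
  haveI := hc
  exact isCyclic_of_surjective (S.equivMapOfInjective M.subtype M.subtype_injective).toMonoidHom
    (S.equivMapOfInjective M.subtype M.subtype_injective).surjective

/-- a group normalizing a cyclic subgroup normalizes each of its subgroups -/
theorem le_normalizer_of_le_cyclic {E D X : Subgroup G} (hc : IsCyclic ↥D)
    (hED : E ≤ Subgroup.normalizer (D : Set G)) (hXD : X ≤ D) :
    E ≤ Subgroup.normalizer (X : Set G) := by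
  obtain ⟨d, hd⟩ := hc.exists_generator
  intro e he
  apply Cfsg.Agent.Lib.Helper4.GTFus.mem_normalizer_of_cj_le
  rintro _ ⟨x, hx, rfl⟩
  show e * x * e⁻¹ ∈ X
  have h1 : e * (d : G) * e⁻¹ ∈ D := (Subgroup.mem_normalizer_iff.mp (hED he) _).mp d.2
  obtain ⟨k, hk⟩ := Subgroup.mem_zpowers_iff.mp (hd ⟨_, h1⟩)
  obtain ⟨j, hj⟩ := Subgroup.mem_zpowers_iff.mp (hd ⟨x, hXD hx⟩)
  have hk' : (d : G) ^ k = e * (d : G) * e⁻¹ := by
    have := congrArg Subtype.val hk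
    simpa using this
  have hj' : (d : G) ^ j = x := by
    have := congrArg Subtype.val hj
    simpa using this
  have h2 : e * x * e⁻¹ = x ^ k := by
    rw [← hj', ← zpow_mul, mul_comm j k, zpow_mul, hk', conj_zpow]
  rw [h2]
  exact X.zpow_mem hx k

/-- a subgroup of order `p ∈ κ(M)` of `M` has fixed points on `M_σ` -/
theorem kappa_fixed {M : Subgroup G} {p : ℕ} [hp : Fact p.Prime] (hκ : p ∈ Cfsg.kappa M)
    {P : Subgroup G} (hPM : P ≤ M) (hPc : Nat.card ↥P = p) :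
    Cfsg.sigmaCore M ⊓ Subgroup.centralizer (P : Set G) ≠ ⊥ := by
  obtain ⟨-, -, -, hall⟩ := hκ
  have hPp : IsPGroup p ↥P := IsPGroup.of_card (n := 1) (by rw [hPc, pow_one])
  obtain ⟨S, hPS⟩ := (hPp.comap_subtype (K := M)).exists_le_sylow
  obtain ⟨hcyc, x, hxS, hx1, y, hyσ, hy1, hxy⟩ := hall S
  set D : Subgroup G := (S : Subgroup ↥M).map M.subtype with hD
  have hDp : IsPGroup p ↥D := S.isPGroup'.map _
  have hDc : IsCyclic ↥D := isCyclic_map_subtype _ hcyc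
  have hPD : P ≤ D := by
    intro z hz
    exact ⟨⟨z, hPM hz⟩, hPS (Subgroup.mem_subgroupOf.mpr hz), rfl⟩
  have hxD : (x : G) ∈ D := ⟨x, hxS, rfl⟩
  have hx1' : (x : G) ≠ 1 := fun h => hx1 (Subtype.ext h)
  have hZ1 : Subgroup.zpowers (x : G) ≠ ⊥ := by
    rw [Ne, Subgroup.zpowers_eq_bot]; exact hx1'
  obtain ⟨q, hqf, Y, hYZ, hYc⟩ := exists_prime_card_le hZ1
  have hZD : Subgroup.zpowers (x : G) ≤ D := by rw [Subgroup.zpowers_le]; exact hxD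
  have hqp : q = p := by
    have h1 : q ∣ Nat.card ↥D := by rw [← hYc]; exact Subgroup.card_dvd_of_le (hYZ.trans hZD)
    obtain ⟨n, hn⟩ := hDp.exists_card_eq
    rw [hn] at h1
    exact (Nat.prime_dvd_prime_iff_eq hqf.out hp.out).mp (hqf.out.dvd_of_dvd_pow h1)
  have hPY : P = Y := Cfsg.Agent.Lib.Helper4.BGUniq.eq_of_card_eq_of_le_cyclic hDp hDc hPD
    (hYZ.trans hZD) (by rw [hPc, hYc, hqp])
  intro h0
  have hy : y ∈ Cfsg.sigmaCore M ⊓ Subgroup.centralizer (P : Set G) := by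
    refine Subgroup.mem_inf.mpr ⟨hyσ, ?_⟩
    rw [Subgroup.mem_centralizer_iff]
    intro z hz
    rw [hPY] at hz
    obtain ⟨k, rfl⟩ := Subgroup.mem_zpowers_iff.mp (hYZ hz)
    exact (Commute.zpow_left (show Commute (x : G) y from hxy) k).eq
  rw [h0, Subgroup.mem_bot] at hy
  exact hy1 hy

/-- a prime `s ∉ σ(M)` with `M` of `s`-rank 1 and a subgroup of order `s` with fixed points on `M_σ`
lies in `κ(M)` -/
theorem mem_kappa_of_fixed (hG : Cfsg.IsMinSimpleOddOrder G) {M : Subgroup G} {s : ℕ}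
    [hs : Fact s.Prime] (hsσ : s ∉ Cfsg.sigma M) (hrk : Cfsg.PRankLE s 1 ↥M) {T : Subgroup G}
    (hTM : T ≤ M) (hTc : Nat.card ↥T = s)
    (hD : Cfsg.sigmaCore M ⊓ Subgroup.centralizer (T : Set G) ≠ ⊥) : s ∈ Cfsg.kappa M := by
  refine ⟨hs.out, ?_, hsσ, ?_⟩
  · rw [← hTc]; exact Subgroup.card_dvd_of_le hTM
  intro P
  refine ⟨Cfsg.Agent.Lib.Helper4.BGTw.isCyclic_sub_of_pRankLE_one hG le_rfl hrk (P : Subgroup ↥M)
    P.isPGroup', ?_⟩
  have hTp : IsPGroup s ↥T := IsPGroup.of_card (n := 1) (by rw [hTc, pow_one])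
  obtain ⟨D', hD', hTD'⟩ := exists_isSylowIn_ge hTp hTM
  have hDP : IsSylowIn s ((P : Subgroup ↥M).map M.subtype) M := IsSylowIn.of_sylow P
  obtain ⟨m, hm, hmD⟩ := hD'.conj hDP
  have hT1 : T ≠ ⊥ := by
    intro h0
    rw [h0, Subgroup.card_bot] at hTc
    exact hs.out.one_lt.ne hTc
  obtain ⟨t, htT, ht1⟩ := exists_ne_one_of_ne_bot hT1
  obtain ⟨y, hy, hy1⟩ := exists_ne_one_of_ne_bot hD
  have hx : m * t * m⁻¹ ∈ (P : Subgroup ↥M).map M.subtype := by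
    rw [hmD]; exact ⟨t, hTD' htT, rfl⟩
  obtain ⟨x, hxP, hxe⟩ := hx
  have hxe' : (x : G) = m * t * m⁻¹ := hxe
  refine ⟨x, hxP, ?_, m * y * m⁻¹, ?_, ?_, ?_⟩
  · intro h1
    apply ht1
    have h2 : m * t * m⁻¹ = 1 := by rw [← hxe', h1]; rfl
    have : t = m⁻¹ * (m * t * m⁻¹) * m := by group
    rw [this, h2]; group
  · exact (Subgroup.mem_normalizer_iff.mp (Cfsg.Agent.H2.BG11.le_normalizer_sigmaCore M hm) y).mp
      hy.1
  · intro h1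
    apply hy1
    have : y = m⁻¹ * (m * y * m⁻¹) * m := by group
    rw [this, h1]; group
  · rw [hxe']
    have hty : t * y = y * t := Subgroup.mem_centralizer_iff.mp hy.2 t htT
    calc m * t * m⁻¹ * (m * y * m⁻¹) = m * (t * y) * m⁻¹ := by group
      _ = m * (y * t) * m⁻¹ := by rw [hty]
      _ = m * y * m⁻¹ * (m * t * m⁻¹) := by group

theorem pRankLE_one_of_kappa {M : Subgroup G} {q : ℕ} [hq : Fact q.Prime]
    (hκ : q ∈ Cfsg.kappa M) : Cfsg.PRankLE q 1 ↥M := by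
  obtain ⟨S⟩ := (inferInstance : Nonempty (Sylow q ↥M))
  exact pRankLE_one_of_cyclic_sylow (IsSylowIn.of_sylow S)
    (isCyclic_map_subtype _ (hκ.2.2.2 S).1)

theorem tau13_of_kappa (hG : Cfsg.IsMinSimpleOddOrder G) {M : Subgroup G} (hM : IsCoatom M) {q : ℕ}
    (hκ : q ∈ Cfsg.kappa M) : q ∈ Cfsg.tau1 M ∨ q ∈ Cfsg.tau3 M := by
  haveI : Fact q.Prime := ⟨hκ.1⟩
  rcases Cfsg.Agent.H2.BG13.tau_cases hG hM hκ.1 hκ.2.1 hκ.2.2.1 with h | h | h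
  · exact Or.inl h
  · exact absurd (pRankLE_one_of_kappa hκ) h.2.2.2
  · exact Or.inr h

/-- the configuration from which S1430 and S1431 are read off -/
structure KData (M K E U : Subgroup G) : Prop where
  compl : Cfsg.IsComplIn E (Cfsg.sigmaCore M) M
  KE : K ≤ E
  UE : U ≤ E
  Unorm : E ≤ Subgroup.normalizer (U : Set G)
  UK : U ⊓ K = ⊥
  mul : ∀ e ∈ E, ∃ u ∈ U, ∃ k ∈ K, e = u * k
  reg : ∀ k ∈ K, k ≠ 1 → U ⊓ Subgroup.centralizer ({k} : Set G) = ⊥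
  prime : ∀ k ∈ K, k ≠ 1 → Cfsg.sigmaCore M ⊓ Subgroup.centralizer ({k} : Set G) =
    Cfsg.sigmaCore M ⊓ Subgroup.centralizer (K : Set G)
  Uab : IsMulCommutative U
  Uhall : Cfsg.IsPiHallOf {q | q.Prime ∧ q ∉ Cfsg.kappa M ∧ q ∉ Cfsg.sigma M} U M
  Knorm : ∀ X : Subgroup G, X ≤ K → (Nat.card X).Prime → K ≤ Subgroup.normalizer (X : Set G)
  tau1 : ∃ p ∈ Cfsg.tau1 M, ∃ P : Subgroup G, P ≤ K ∧ Nat.card P = p

theorem KData.mem_sup {M K E U : Subgroup G} (h : KData M K E U) {g x₁ : G} (hg : g ∈ M)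
    (hx₁ : x₁ ∈ K) (hx1 : x₁ ≠ 1) (hgx : g * x₁ * g⁻¹ ∈ K) :
    g ∈ K ⊔ (Cfsg.sigmaCore M ⊓ Subgroup.centralizer (K : Set G)) := by
  obtain ⟨a, ha, b, hb, rfl⟩ := h.compl.2.2.2 g hg
  have hEM := h.compl.1
  have hx₁E : x₁ ∈ E := h.KE hx₁
  have hx₁M : x₁ ∈ M := hEM hx₁E
  have hcσ : b * x₁ * b⁻¹ * x₁⁻¹ ∈ Cfsg.sigmaCore M := by
    have h1 : x₁ * b⁻¹ * x₁⁻¹ ∈ Cfsg.sigmaCore M :=
      (Subgroup.mem_normalizer_iff.mp (Cfsg.Agent.H2.BG11.le_normalizer_sigmaCore M hx₁M) _).mp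
        (Subgroup.inv_mem _ hb)
    have e : b * x₁ * b⁻¹ * x₁⁻¹ = b * (x₁ * b⁻¹ * x₁⁻¹) := by group
    rw [e]; exact Subgroup.mul_mem _ hb h1
  have hcE : b * x₁ * b⁻¹ * x₁⁻¹ ∈ E := by
    have e : b * x₁ * b⁻¹ * x₁⁻¹ = a⁻¹ * (a * b * x₁ * (a * b)⁻¹) * a * x₁⁻¹ := by group
    rw [e]
    exact E.mul_mem (E.mul_mem (E.mul_mem (E.inv_mem ha) (h.KE hgx)) ha) (E.inv_mem hx₁E)
  have hc1 : b * x₁ * b⁻¹ * x₁⁻¹ = 1 := by
    have : b * x₁ * b⁻¹ * x₁⁻¹ ∈ E ⊓ Cfsg.sigmaCore M := ⟨hcE, hcσ⟩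
    rw [h.compl.2.2.1, Subgroup.mem_bot] at this
    exact this
  have hbx' : b * x₁ * b⁻¹ = x₁ := mul_inv_eq_one.mp hc1
  have hbx : b * x₁ = x₁ * b := mul_inv_eq_iff_eq_mul.mp hbx'
  have hbK : b ∈ Cfsg.sigmaCore M ⊓ Subgroup.centralizer (K : Set G) := by
    rw [← h.prime x₁ hx₁ hx1]
    refine Subgroup.mem_inf.mpr ⟨hb, ?_⟩
    rw [Subgroup.mem_centralizer_iff]
    intro z hz
    rw [Set.mem_singleton_iff] at hz
    rw [hz]; exact hbx.symm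
  have hax : a * x₁ * a⁻¹ ∈ K := by
    have e : a * x₁ * a⁻¹ = a * b * x₁ * (a * b)⁻¹ := by
      calc a * x₁ * a⁻¹ = a * (b * x₁ * b⁻¹) * a⁻¹ := by rw [hbx']
        _ = a * b * x₁ * (a * b)⁻¹ := by group
    rw [e]; exact hgx
  obtain ⟨u, hu, k, hk, rfl⟩ := h.mul a ha
  have hx₂K : k * x₁ * k⁻¹ ∈ K := K.mul_mem (K.mul_mem hk hx₁) (K.inv_mem hk)
  have hx₂1 : k * x₁ * k⁻¹ ≠ 1 := by
    intro h0
    apply hx1
    have : x₁ = k⁻¹ * (k * x₁ * k⁻¹) * k := by group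
    rw [this, h0]; group
  have hux : u * (k * x₁ * k⁻¹) * u⁻¹ ∈ K := by
    have e : u * (k * x₁ * k⁻¹) * u⁻¹ = u * k * x₁ * (u * k)⁻¹ := by group
    rw [e]; exact hax
  have hd : u * (k * x₁ * k⁻¹) * u⁻¹ * (k * x₁ * k⁻¹)⁻¹ ∈ U ⊓ K := by
    refine ⟨?_, K.mul_mem hux (K.inv_mem hx₂K)⟩
    have h1 : (k * x₁ * k⁻¹) * u⁻¹ * (k * x₁ * k⁻¹)⁻¹ ∈ U :=
      (Subgroup.mem_normalizer_iff.mp (h.Unorm (h.KE hx₂K)) _).mp (U.inv_mem hu)
    have e : u * (k * x₁ * k⁻¹) * u⁻¹ * (k * x₁ * k⁻¹)⁻¹ =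
        u * ((k * x₁ * k⁻¹) * u⁻¹ * (k * x₁ * k⁻¹)⁻¹) := by group
    rw [e]; exact U.mul_mem hu h1
  rw [h.UK, Subgroup.mem_bot] at hd
  have hucomm : u * (k * x₁ * k⁻¹) = (k * x₁ * k⁻¹) * u :=
    mul_inv_eq_iff_eq_mul.mp (mul_inv_eq_one.mp hd)
  have hu1 : u = 1 := by
    have : u ∈ U ⊓ Subgroup.centralizer ({k * x₁ * k⁻¹} : Set G) := by
      refine Subgroup.mem_inf.mpr ⟨hu, ?_⟩
      rw [Subgroup.mem_centralizer_iff]
      intro z hz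
      rw [Set.mem_singleton_iff] at hz
      rw [hz]; exact hucomm.symm
    rw [h.reg _ hx₂K hx₂1, Subgroup.mem_bot] at this
    exact this
  rw [hu1, one_mul]
  exact Subgroup.mul_mem _ (Subgroup.mem_sup_left hk) (Subgroup.mem_sup_right hbK)

theorem KData.inf_normalizer_eq {M K E U : Subgroup G} (h : KData M K E U) {Y : Subgroup G}
    (hYK : Y ≤ K) (hY1 : Y ≠ ⊥) (hKY : K ≤ Subgroup.normalizer (Y : Set G)) :
    M ⊓ Subgroup.normalizer (Y : Set G) =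
      K ⊔ (Cfsg.sigmaCore M ⊓ Subgroup.centralizer (K : Set G)) := by
  apply le_antisymm
  · intro g hg
    obtain ⟨x₁, hx₁, hx1⟩ := exists_ne_one_of_ne_bot hY1
    exact h.mem_sup hg.1 (hYK hx₁) hx1
      (hYK ((Subgroup.mem_normalizer_iff.mp hg.2 x₁).mp hx₁))
  · refine sup_le (le_inf (h.KE.trans h.compl.1) hKY) (le_inf ?_ ?_)
    · exact inf_le_left.trans (Cfsg.Agent.H2.BG11.sigmaCore_le M)
    · exact (inf_le_right.trans (Subgroup.centralizer_le hYK)).trans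
        (Subgroup.centralizer_le_normalizer _)

/-- **S1430** from `KData` -/
theorem KData.s1430 (hG : Cfsg.IsMinSimpleOddOrder G) (hpart : HypPart G) (hC3 : HypC3 G)
    {M K E U : Subgroup G} (hM : IsCoatom M) (hK : Cfsg.IsPiHallOf (Cfsg.kappa M) K M)
    (hK1 : K ≠ ⊥) (h : KData M K E U) :
    (∀ k ∈ K, k ≠ 1 → Cfsg.sigmaCore M ⊓ Subgroup.centralizer ({k} : Set G) =
      (Cfsg.sigmaCore M ⊓ Subgroup.centralizer (K : Set G))) ∧
    (∃ U : Subgroup G, IsMulCommutative U ∧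
      Cfsg.IsPiHallOf {q | q.Prime ∧ q ∉ Cfsg.kappa M ∧ q ∉ Cfsg.sigma M} U M ∧
      K ≤ Subgroup.normalizer (U : Set G) ∧
      ∀ k ∈ K, k ≠ 1 → U ⊓ Subgroup.centralizer ({k} : Set G) = ⊥) ∧
    ∀ X : Subgroup G, X ≤ K → (Nat.card X).Prime →
      M ⊓ Subgroup.normalizer (X : Set G) =
        K ⊔ (Cfsg.sigmaCore M ⊓ Subgroup.centralizer (K : Set G)) ∧
      M ⊓ Subgroup.normalizer (K : Set G) =
        K ⊔ (Cfsg.sigmaCore M ⊓ Subgroup.centralizer (K : Set G)) ∧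
      ∀ Mstar : Subgroup G, IsCoatom Mstar → Subgroup.normalizer (X : Set G) ≤ Mstar →
        X ≤ Cfsg.sigmaCore Mstar := by
  refine ⟨h.prime, ⟨U, h.Uab, h.Uhall, h.KE.trans h.Unorm, h.reg⟩, ?_⟩
  intro X hXK hXp
  haveI hqf : Fact (Nat.card ↥X).Prime := ⟨hXp⟩
  have hX1 : X ≠ ⊥ := by
    intro h0
    rw [h0, Subgroup.card_bot] at hXp
    exact Nat.not_prime_one hXp
  refine ⟨h.inf_normalizer_eq hXK hX1 (h.Knorm X hXK hXp),
    h.inf_normalizer_eq le_rfl hK1 Subgroup.le_normalizer, ?_⟩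
  intro Ms hMs hNX
  have hκ : Nat.card ↥X ∈ Cfsg.kappa M := hK.2.1 _ hXp (Subgroup.card_dvd_of_le hXK)
  have hXM : X ≤ M := hXK.trans hK.1
  have hqσ : Nat.card ↥X ∈ Cfsg.sigma Ms :=
    mem_sigma_of_kappa' hG hpart hC3 hM (tau13_of_kappa hG hM hκ) hXM rfl
      (kappa_fixed hκ hXM rfl) hMs hNX
  exact Cfsg.Agent.H2.BG11.le_sigmaCore_of_pgroup hG hMs hqσ (Subgroup.le_normalizer.trans hNX)
    (IsPGroup.of_card (n := 1) (by rw [pow_one]))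

/-- **S1431** from `KData` -/
theorem KData.s1431 (hG : Cfsg.IsMinSimpleOddOrder G) {M K E U : Subgroup G} (hM : IsCoatom M)
    (h : KData M K E U) :
    (∀ g : G, g ∉ M → (Cfsg.sigmaCore M ⊓ Subgroup.centralizer (K : Set G)) ⊓
      M.map (MulAut.conj g).toMonoidHom = ⊥) ∧
    (∀ g ∈ M, g ∉ K ⊔ (Cfsg.sigmaCore M ⊓ Subgroup.centralizer (K : Set G)) →
      K ⊓ K.map (MulAut.conj g).toMonoidHom = ⊥) ∧
    (∀ (p : ℕ), p.Prime →
      p ∣ Nat.card ↥(Cfsg.sigmaCore M ⊓ Subgroup.centralizer (K : Set G)) →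
      ∀ S : Sylow p ↥(Cfsg.sigmaCore M),
        Cfsg.InUniqueMaximal ((S : Subgroup ↥(Cfsg.sigmaCore M)).map (Cfsg.sigmaCore M).subtype) ∧
        (S : Subgroup ↥(Cfsg.sigmaCore M)).map (Cfsg.sigmaCore M).subtype ≤ M ∧
        ¬ (S : Subgroup ↥(Cfsg.sigmaCore M)).map (Cfsg.sigmaCore M).subtype ≤
          (Cfsg.sigmaCore M ⊓ Subgroup.centralizer (K : Set G))) ∧
    ∀ Y : Subgroup G, (∀ p : ℕ, p.Prime → p ∣ Nat.card Y → p ∈ Cfsg.sigma M) →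
      Y ⊓ (Cfsg.sigmaCore M ⊓ Subgroup.centralizer (K : Set G)) ≠ ⊥ → Y ≤ Cfsg.sigmaCore M := by
  obtain ⟨p, hp, P, hPK, hPc⟩ := h.tau1
  have hPM : P ≤ M := hPK.trans (h.KE.trans h.compl.1)
  obtain ⟨h1, h3, h4⟩ := kstar_of_tau1 hG hM hp hPM hPc
    (Ks := Cfsg.sigmaCore M ⊓ Subgroup.centralizer (K : Set G))
    (inf_le_inf_left _ (Subgroup.centralizer_le hPK))
  refine ⟨h1, ?_, h3, h4⟩
  intro g hg hgn
  by_contra hne
  obtain ⟨x, hx, hx1⟩ := exists_ne_one_of_ne_bot hne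
  obtain ⟨hxK, x₁, hx₁, hxe⟩ := hx
  have hxe' : g * x₁ * g⁻¹ = x := hxe
  apply hgn
  refine h.mem_sup hg hx₁ ?_ (by rw [hxe']; exact hxK)
  rintro rfl
  apply hx1
  rw [← hxe']; group

end Cfsg.Agent.Lib.Helper4.BG14
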