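import Mathlib
import Cfsg.Agent.Lib.Helper4.BG14D
import Cfsg.Agent.H1.CoprimeHallContain

/-!
Bender–Glauberman §14, helper4: construction of `KData` when no `τ₃(M)`-subgroup of prime order
has fixed points on `M_σ` ("Case A": `κ(M) ⊆ τ₁(M)`).
-/

set_option autoImplicit false
set_option linter.unusedSectionVars false
set_option linter.unusedVariables false
set_option linter.style.haveILetI false
set_option maxHeartbeats 1000000
open Cfsg
open scoped commutatorElement Pointwise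

namespace Cfsg.Agent.Lib.Helper4.BG14

open Cfsg.Agent.Lib.Helper7 (IsSylowIn exists_isSylowIn_ge card_subgroupOf_of_le)
open Cfsg.Agent.Lib.Helper8.BGTen Cfsg.Agent.Lib.Helper4.BGTrans
open Cfsg.Agent.Lib.helper3.BG11 Cfsg.Agent.Lib.helper3.BG12 Cfsg.Agent.Lib.Helper4.BG13

universe u

variable {G : Type u} [Group G] [Finite G]

/-- product decomposition from orders -/
theorem exists_mul_of_card {E U K : Subgroup G} (hUE : U ≤ E) (hKE : K ≤ E)
    (hcard : Nat.card ↥U * Nat.card ↥K = Nat.card ↥E)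
    (hcop : (Nat.card ↥U).Coprime (Nat.card ↥K)) :
    ∀ e ∈ E, ∃ u ∈ U, ∃ k ∈ K, e = u * k := by
  intro e he
  have h1 : Nat.card ↥(U.subgroupOf E) * Nat.card ↥(K.subgroupOf E) = Nat.card ↥E := by
    rw [card_subgroupOf_of_le hUE, card_subgroupOf_of_le hKE, hcard]
  have h2 : (Nat.card ↥(U.subgroupOf E)).Coprime (Nat.card ↥(K.subgroupOf E)) := by
    rw [card_subgroupOf_of_le hUE, card_subgroupOf_of_le hKE]; exact hcop
  have hc := Subgroup.isComplement'_of_coprime h1 h2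
  obtain ⟨⟨u, k⟩, huk, -⟩ := Subgroup.IsComplement.existsUnique hc ⟨e, he⟩
  refine ⟨((u : ↥E) : G), Subgroup.mem_subgroupOf.mp u.2, ((k : ↥E) : G),
    Subgroup.mem_subgroupOf.mp k.2, ?_⟩
  have := congrArg Subtype.val huk
  simpa using this.symm

/-- complementary Hall subgroups have complementary orders -/
theorem hall_card_mul {E U K : Subgroup G} {π : Set ℕ} (hU : Cfsg.IsPiHallOf πᶜ U E)
    (hK : Cfsg.IsPiHallOf π K E) : Nat.card ↥U * Nat.card ↥K = Nat.card ↥E := by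
  have h1 : Nat.card ↥E = U.relIndex E * Nat.card ↥U :=
    Cfsg.Agent.H1.card_eq_relIndex_mul_card hU.1
  have h2 : Nat.card ↥E = K.relIndex E * Nat.card ↥K :=
    Cfsg.Agent.H1.card_eq_relIndex_mul_card hK.1
  have hcopUK : (Nat.card ↥K).Coprime (Nat.card ↥U) := by
    apply Nat.coprime_of_dvd
    intro q hq d1 d2
    exact (Set.mem_compl_iff _ _).mp (hU.2.1 q hq d2) (hK.2.1 q hq d1)
  have hcopab : (U.relIndex E).Coprime (K.relIndex E) := by
    apply Nat.coprime_of_dvd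
    intro q hq d1 d2
    by_cases hqπ : q ∈ π
    · exact hK.2.2 q hq hqπ d2
    · exact hU.2.2 q hq ((Set.mem_compl_iff _ _).mpr hqπ) d1
  have d1 : Nat.card ↥K ∣ U.relIndex E := by
    have : Nat.card ↥K ∣ U.relIndex E * Nat.card ↥U := by
      rw [← h1, h2]; exact Dvd.intro_left _ rfl
    exact hcopUK.dvd_of_dvd_mul_right this
  have d2 : U.relIndex E ∣ Nat.card ↥K := by
    have : U.relIndex E ∣ K.relIndex E * Nat.card ↥K := by
      rw [← h2, h1]; exact Dvd.intro _ rfl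
    exact hcopab.dvd_of_dvd_mul_left this
  rw [Nat.dvd_antisymm d1 d2, h1, mul_comm]

theorem isSolvable_of_le_coatom (hG : Cfsg.IsMinSimpleOddOrder G) {M E : Subgroup G}
    (hM : IsCoatom M) (hEM : E ≤ M) : Group.IsSolvable ↥E := by
  haveI : Group.IsSolvable ↥M := hG.2.2.2 M hM.1
  exact solvable_of_solvable_injective (f := Subgroup.inclusion hEM)
    (Subgroup.inclusion_injective hEM)

/-- two commuting nontrivial elements have commuting prime-order subgroups of their cyclic groups -/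
theorem exists_prime_card_commuting {u k : G} (hu1 : u ≠ 1) (hk1 : k ≠ 1) (huk : k * u = u * k) :
    ∃ (q : ℕ) (_ : Fact q.Prime) (T : Subgroup G) (p : ℕ) (_ : Fact p.Prime) (P : Subgroup G),
      T ≤ Subgroup.zpowers u ∧ Nat.card ↥T = q ∧ P ≤ Subgroup.zpowers k ∧ Nat.card ↥P = p ∧
      T ≤ Subgroup.centralizer (P : Set G) := by
  have hZu : Subgroup.zpowers u ≠ ⊥ := by rw [Ne, Subgroup.zpowers_eq_bot]; exact hu1
  have hZk : Subgroup.zpowers k ≠ ⊥ := by rw [Ne, Subgroup.zpowers_eq_bot]; exact hk1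
  obtain ⟨q, hqf, T, hT, hTc⟩ := exists_prime_card_le hZu
  obtain ⟨p, hpf, P, hP, hPc⟩ := exists_prime_card_le hZk
  refine ⟨q, hqf, T, p, hpf, P, hT, hTc, hP, hPc, ?_⟩
  intro t ht
  rw [Subgroup.mem_centralizer_iff]
  intro w hw
  obtain ⟨i, rfl⟩ := Subgroup.mem_zpowers_iff.mp (hT ht)
  obtain ⟨j, rfl⟩ := Subgroup.mem_zpowers_iff.mp (hP hw)
  exact (Commute.zpow_zpow (show Commute k u from huk) j i).eq

/-- **Case A**: no `τ₃(M)`-subgroup of prime order has fixed points on `M_σ`. -/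
theorem exists_kdata_caseA (hG : Cfsg.IsMinSimpleOddOrder G) (hpart : HypPart G) (hC3 : HypC3 G)
    {M K : Subgroup G} (hM : IsCoatom M) (hK : Cfsg.IsPiHallOf (Cfsg.kappa M) K M) (hK1 : K ≠ ⊥)
    (hno : ∀ r ∈ Cfsg.tau3 M, ∀ R : Subgroup G, R ≤ M → Nat.card ↥R = r →
      Cfsg.sigmaCore M ⊓ Subgroup.centralizer (R : Set G) = ⊥) :
    ∃ E U : Subgroup G, KData M K E U := by
  -- `κ(M) ⊆ τ₁(M)`
  have hκτ : ∀ q ∈ Cfsg.kappa M, q ∈ Cfsg.tau1 M := by
    intro q hq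
    rcases tau13_of_kappa hG hM hq with h | h
    · exact h
    · exfalso
      haveI : Fact q.Prime := ⟨hq.1⟩
      obtain ⟨x, hx⟩ := exists_prime_orderOf_dvd_card' (G := ↥M) q hq.2.1
      have hRc : Nat.card ↥(Subgroup.zpowers (x : G)) = q := by
        rw [Nat.card_zpowers, Subgroup.orderOf_coe, hx]
      have hRM : Subgroup.zpowers (x : G) ≤ M := by rw [Subgroup.zpowers_le]; exact x.2
      exact kappa_fixed hq hRM hRc (hno q h _ hRM hRc)
  have hKM := hK.1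
  have hcop : (Nat.card ↥K).Coprime (Nat.card ↥(Cfsg.sigmaCore M)) := by
    apply Nat.coprime_of_dvd
    intro q hq hd1 hd2
    exact (hK.2.1 q hq hd1).2.2.1 (Cfsg.Agent.H2.BG11.mem_sigma_of_dvd_sigmaCore hG hM hq hd2)
  obtain ⟨E₀, hE₀⟩ := exists_compl hG hM
  obtain ⟨m, hm, hKE⟩ := Cfsg.Agent.H2.BG12.exists_cj_compl_ge hG hM hE₀ hKM hcop
  have hE := Cfsg.Agent.H2.BG12.compl_cj hE₀ hm
  generalize cj m E₀ = E at hKE hE
  have hEM : E ≤ M := hE.1
  have hsolvE : Group.IsSolvable ↥E := isSolvable_of_le_coatom hG hM hEM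
  -- the Hall `τ₁(M)`-subgroup `E₁ ⊇ K` of `E`
  obtain ⟨E₁, hE₁, -, hKE₁⟩ := Cfsg.Agent.H1.coprime_hall_contain (⊥ : Subgroup G) E K
    (Cfsg.tau1 M) bot_le (by rw [Subgroup.card_bot]; exact Nat.coprime_one_left _) hsolvE hKE
    bot_le (fun q hq hd => hκτ q (hK.2.1 q hq hd))
  have hE₁c : IsCyclic ↥E₁ := (Cfsg.Agent.S1415.result hG M hM E hE).2.1 E₁ hE₁
  obtain ⟨p, hpf, P, hPK, hPc⟩ := exists_prime_card_le hK1
  have hpκ : p ∈ Cfsg.kappa M :=
    hK.2.1 p hpf.out (by rw [← hPc]; exact Subgroup.card_dvd_of_le hPK)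
  have hpτ := hκτ p hpκ
  have hPE : P ≤ E := hPK.trans hKE
  have hPD := kappa_fixed hpκ (hPE.trans hEM) hPc
  have hE₁κ : ∀ q : ℕ, q.Prime → q ∣ Nat.card ↥E₁ → q ∈ Cfsg.kappa M := by
    intro q hq hd
    haveI : Fact q.Prime := ⟨hq⟩
    obtain ⟨x, hx⟩ := exists_prime_orderOf_dvd_card' (G := ↥E₁) q hd
    have hQc : Nat.card ↥(Subgroup.zpowers (x : G)) = q := by
      rw [Nat.card_zpowers, Subgroup.orderOf_coe, hx]
    have hQE₁ : Subgroup.zpowers (x : G) ≤ E₁ := by rw [Subgroup.zpowers_le]; exact x.2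
    have hqτ : q ∈ Cfsg.tau1 M := hE₁.2.1 q hq hd
    have hQP : Subgroup.zpowers (x : G) ≤ Subgroup.centralizer (P : Set G) := by
      intro z hz
      rw [Subgroup.mem_centralizer_iff]
      intro w hw
      haveI := hE₁c
      exact congrArg Subtype.val
        (IsCyclic.commGroup.mul_comm (⟨w, hKE₁ (hPK hw)⟩ : ↥E₁) ⟨z, hQE₁ hz⟩)
    have h28 := Cfsg.Agent.S1428.result hG M hM E hE p hpτ P hPE hPc _
      (le_inf (hQE₁.trans hE₁.1) hQP) (by rw [hQc]; exact hq)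
    refine mem_kappa_of_fixed hG hqτ.2.1 hqτ.2.2.2.2 ((hQE₁.trans hE₁.1).trans hEM) hQc ?_
    intro h0
    apply hPD
    rw [eq_bot_iff, ← h0]
    exact h28
  have hE₁K : E₁ = K := by
    apply le_antisymm _ hKE₁
    rw [← Subgroup.relIndex_eq_one]
    by_contra hne
    obtain ⟨q, hq, hqd⟩ := Nat.exists_prime_and_dvd hne
    have h1 : q ∣ Nat.card ↥E₁ := hqd.trans (Subgroup.relIndex_dvd_card K E₁)
    have h2 : K.relIndex E₁ ∣ K.relIndex M :=
      Dvd.intro _ (Subgroup.relIndex_mul_relIndex K E₁ M hKE₁ (hE₁.1.trans hEM))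
    exact hK.2.2 q hq (hE₁κ q hq h1) (hqd.trans h2)
  subst hE₁K
  -- the normal Hall `τ₁(M)'`-subgroup `U ⊇ E'`
  have hE'E : ⁅E, E⁆ ≤ E := Subgroup.commutator_le_self E
  obtain ⟨U, hU, -, hE'U⟩ := Cfsg.Agent.H1.coprime_hall_contain (⊥ : Subgroup G) E ⁅E, E⁆
    (Cfsg.tau1 M)ᶜ bot_le (by rw [Subgroup.card_bot]; exact Nat.coprime_one_left _) hsolvE hE'E
    bot_le (fun q hq hd => (Set.mem_compl_iff _ _).mpr (fun hqτ =>
      hqτ.2.2.2.1 (hd.trans (Subgroup.card_dvd_of_le (Subgroup.commutator_mono hEM hEM)))))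
  have hUE := hU.1
  have hUn : E ≤ Subgroup.normalizer (U : Set G) := by
    intro x hx
    apply Cfsg.Agent.Lib.Helper4.GTFus.mem_normalizer_of_cj_le
    rintro _ ⟨c, hc, rfl⟩
    have h1 : x * c * x⁻¹ = ⁅x, c⁆ * c := by
      rw [commutatorElement_def]; group
    show x * c * x⁻¹ ∈ U
    rw [h1]
    exact U.mul_mem (hE'U (Subgroup.commutator_mem_commutator hx (hUE hc))) hc
  have hcard : Nat.card ↥U * Nat.card ↥E₁ = Nat.card ↥E := hall_card_mul hU hE₁
  have hcopUK : (Nat.card ↥U).Coprime (Nat.card ↥E₁) := by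
    apply Nat.coprime_of_dvd
    intro q hq h1 h2
    exact (Set.mem_compl_iff _ _).mp (hU.2.1 q hq h1) (hE₁.2.1 q hq h2)
  have hUK : U ⊓ E₁ = ⊥ := Subgroup.inf_eq_bot_of_coprime hcopUK
  have hmul := exists_mul_of_card hUE hKE hcard hcopUK
  -- regularity of `K` on `U`
  have hreg : ∀ k ∈ E₁, k ≠ 1 → U ⊓ Subgroup.centralizer ({k} : Set G) = ⊥ := by
    intro k hk hk1
    rw [eq_bot_iff]
    intro u hu
    rw [Subgroup.mem_bot]
    by_contra hu1
    obtain ⟨huU, huC⟩ := Subgroup.mem_inf.mp hu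
    have huk : k * u = u * k := (Subgroup.mem_centralizer_iff.mp huC) k (Set.mem_singleton k)
    obtain ⟨q, hqf, T, p', hp'f, P', hTu, hTc, hP'k, hP'c, hTP'⟩ :=
      exists_prime_card_commuting hu1 hk1 huk
    have hTU : T ≤ U := hTu.trans (by rw [Subgroup.zpowers_le]; exact huU)
    have hP'K : P' ≤ E₁ := hP'k.trans (by rw [Subgroup.zpowers_le]; exact hk)
    have hTE : T ≤ E := hTU.trans hUE
    have hP'E : P' ≤ E := hP'K.trans hKE
    have hqU : q ∣ Nat.card ↥U := by rw [← hTc]; exact Subgroup.card_dvd_of_le hTU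
    have hqτ1 : q ∉ Cfsg.tau1 M := (Set.mem_compl_iff _ _).mp (hU.2.1 q hqf.out hqU)
    have hqE : q ∣ Nat.card ↥E := hqU.trans (Subgroup.card_dvd_of_le hUE)
    have hqσ : q ∉ Cfsg.sigma M :=
      Cfsg.Agent.H2.BG12.not_mem_sigma_of_dvd_compl hG hM hE hqf.out hqE
    have hqM : q ∣ Nat.card ↥M := hqE.trans (Subgroup.card_dvd_of_le hEM)
    have hp'κ : p' ∈ Cfsg.kappa M :=
      hK.2.1 p' hp'f.out (by rw [← hP'c]; exact Subgroup.card_dvd_of_le hP'K)
    have hp'τ := hκτ p' hp'κ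
    have hD' := kappa_fixed hp'κ (hP'E.trans hEM) hP'c
    rcases Cfsg.Agent.H2.BG13.tau_cases hG hM hqf.out hqM hqσ with h | h | h
    · exact hqτ1 h
    · exact not_le_centralizer_tau2' hG hpart hC3 hM hE hp'τ hP'E hP'c hD' h hTE hTc hTP'
    · have h28 := Cfsg.Agent.S1428.result hG M hM E hE p' hp'τ P' hP'E hP'c T
        (le_inf hTE hTP') (by rw [hTc]; exact hqf.out)
      apply hD'
      rw [eq_bot_iff, ← hno q h T (hTE.trans hEM) hTc]
      exact h28
  -- `U` is abelian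
  have hP1 : P ≠ ⊥ := by
    intro h0
    rw [h0, Subgroup.card_bot] at hPc
    exact hpf.out.one_lt.ne hPc
  obtain ⟨b, hbP, hb1⟩ := exists_ne_one_of_ne_bot hP1
  have hbo : orderOf b = p := by
    have h1 : orderOf (⟨b, hbP⟩ : ↥P) ∣ p := by rw [← hPc]; exact orderOf_dvd_natCard _
    rw [Subgroup.orderOf_mk] at h1
    rcases (Nat.dvd_prime hpf.out).mp h1 with h | h
    · exact absurd (orderOf_eq_one_iff.mp h) hb1
    · exact h
  have hbK : b ∈ E₁ := hPK hbP
  have hnil : Group.IsNilpotent ↥U := by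
    refine Cfsg.Agent.H2.BG11.nilpotent_of_fpf_prime hpf.out hbo (hUn (hKE hbK)) ?_
    intro x hx hbx
    have : x ∈ U ⊓ Subgroup.centralizer ({b} : Set G) := by
      refine Subgroup.mem_inf.mpr ⟨hx, ?_⟩
      rw [Subgroup.mem_centralizer_iff]
      intro z hz
      rw [Set.mem_singleton_iff] at hz
      rw [hz]; exact mul_inv_eq_iff_eq_mul.mp hbx
    rw [hreg b hbK hb1, Subgroup.mem_bot] at this
    exact this
  have hUab : IsMulCommutative ↥U :=
    (Cfsg.Agent.S1420.result hG M hM E hE).1 U (hUE.trans hEM) hnil (fun q hq hd =>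
      Cfsg.Agent.H2.BG12.not_mem_sigma_of_dvd_compl hG hM hE hq
        (hd.trans (Subgroup.card_dvd_of_le hUE)))
  have hUhall : Cfsg.IsPiHallOf {q | q.Prime ∧ q ∉ Cfsg.kappa M ∧ q ∉ Cfsg.sigma M} U M := by
    refine ⟨hUE.trans hEM, ?_, ?_⟩
    · intro q hq hd
      exact ⟨hq, fun hκ => (Set.mem_compl_iff _ _).mp (hU.2.1 q hq hd) (hκτ q hκ),
        Cfsg.Agent.H2.BG12.not_mem_sigma_of_dvd_compl hG hM hE hq
          (hd.trans (Subgroup.card_dvd_of_le hUE))⟩
    · intro q hq hqπ hd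
      have h1 : Nat.card ↥M = U.relIndex M * Nat.card ↥U :=
        Cfsg.Agent.H1.card_eq_relIndex_mul_card (hUE.trans hEM)
      have h2 : Nat.card ↥M = Nat.card ↥E * Nat.card ↥(Cfsg.sigmaCore M) :=
        Cfsg.Agent.H2.BG12.card_compl_mul hE
      have h3 : U.relIndex M = Nat.card ↥E₁ * Nat.card ↥(Cfsg.sigmaCore M) := by
        have hpos : 0 < Nat.card ↥U := Nat.card_pos
        apply Nat.eq_of_mul_eq_mul_right hpos
        rw [← h1, h2, ← hcard]; ring
      rw [h3] at hd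
      rcases (Nat.Prime.dvd_mul hq).mp hd with h | h
      · exact hqπ.2.1 (hK.2.1 q hq h)
      · exact hqπ.2.2 (Cfsg.Agent.H2.BG11.mem_sigma_of_dvd_sigmaCore hG hM hq h)
  exact ⟨E, U, ⟨hE, hKE, hUE, hUn, hUK, hmul, hreg,
    Cfsg.Agent.Lib.helper3.BG13.tau1_hall_prime_action hG hM hE hE₁, hUab, hUhall,
    fun X hXK _ => le_normalizer_of_le_cyclic hE₁c Subgroup.le_normalizer hXK,
    ⟨p, hpτ, P, hPK, hPc⟩⟩⟩

end Cfsg.Agent.Lib.Helper4.BG14
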