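import Mathlib

set_option autoImplicit false

namespace Cfsg.Agent.Lib.Helper4.FFPair

variable {G : Type*} [Group G]

/-- `p + 1` subgroups of order `p` with pairwise trivial intersections cover a group of order `p²` -/
theorem cover [Finite G] {p : ℕ} [Fact p.Prime] {W : Subgroup G} (hW : Nat.card W = p ^ 2)
    (T : Finset G) (P : G → Subgroup G) (hP : ∀ c ∈ T, P c ≤ W ∧ Nat.card (P c) = p)
    (hdis : ∀ c ∈ T, ∀ c' ∈ T, c ≠ c' → P c ⊓ P c' = ⊥) (hT : p + 1 ≤ T.card) :
    ∀ z ∈ W, ∃ c ∈ T, z ∈ P c := by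
  classical
  haveI : Fintype G := Fintype.ofFinite G
  have hp := (Fact.out : p.Prime)
  intro z hz
  by_contra hcon
  push_neg at hcon
  have hz1 : z ≠ 1 := by
    rintro rfl
    obtain ⟨c, hc⟩ : T.Nonempty := Finset.card_pos.1 (by omega)
    exact hcon c hc (Subgroup.one_mem _)
  let F : G → Finset G := fun c => (Finset.univ.filter (fun g => g ∈ P c)).erase 1
  have hFcard : ∀ c ∈ T, (F c).card = p - 1 := by
    intro c hc
    have h1 : (Finset.univ.filter (fun g => g ∈ P c)).card = p := by
      rw [← (hP c hc).2, Nat.card_eq_fintype_card, Fintype.card_subtype]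
    rw [Finset.card_erase_of_mem (by simp [Subgroup.one_mem]), h1]
  have hdisj : (T : Set G).PairwiseDisjoint F := by
    intro c hc c' hc' hne
    rw [Function.onFun, Finset.disjoint_left]
    intro g hg hg'
    simp only [F, Finset.mem_erase, Finset.mem_filter, Finset.mem_univ, true_and] at hg hg'
    have : g ∈ P c ⊓ P c' := Subgroup.mem_inf.2 ⟨hg.2, hg'.2⟩
    rw [hdis c hc c' hc' hne, Subgroup.mem_bot] at this
    exact hg.1 this
  have hcard : (T.biUnion F).card = T.card * (p - 1) := by
    rw [Finset.card_biUnion hdisj, Finset.sum_const_nat hFcard]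
  have hsub : T.biUnion F ⊆ ((Finset.univ.filter (fun g => g ∈ W)).erase 1).erase z := by
    intro g hg
    rw [Finset.mem_biUnion] at hg
    obtain ⟨c, hc, hgc⟩ := hg
    simp only [F, Finset.mem_erase, Finset.mem_filter, Finset.mem_univ, true_and] at hgc
    simp only [Finset.mem_erase, Finset.mem_filter, Finset.mem_univ, true_and]
    refine ⟨?_, hgc.1, (hP c hc).1 hgc.2⟩
    rintro rfl
    exact hcon c hc hgc.2
  have hWcard : (Finset.univ.filter (fun g => g ∈ W)).card = p ^ 2 := by
    rw [← hW, Nat.card_eq_fintype_card, Fintype.card_subtype]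
  have h2 : (((Finset.univ.filter (fun g => g ∈ W)).erase 1).erase z).card = p ^ 2 - 2 := by
    rw [Finset.card_erase_of_mem, Finset.card_erase_of_mem, hWcard]
    · rfl
    · simp [Subgroup.one_mem]
    · simp [hz, hz1]
  have h3 := Finset.card_le_card hsub
  rw [hcard, h2] at h3
  have h4 : (p + 1) * (p - 1) ≤ T.card * (p - 1) := Nat.mul_le_mul_right _ hT
  have h5 : (p + 1) * (p - 1) = p ^ 2 - 1 := by
    obtain ⟨m, rfl⟩ : ∃ m, p = m + 1 := ⟨p - 1, by have := hp.pos; omega⟩
    simp only [Nat.add_sub_cancel]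
    have : (m + 1) ^ 2 = (m + 1 + 1) * m + 1 := by ring
    omega
  have h6 : 2 ≤ p ^ 2 := by nlinarith [hp.two_le]
  omega

end Cfsg.Agent.Lib.Helper4.FFPair
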