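import Mathlib
import Cfsg.Prelude.Def_PLocal
import Cfsg.Agent.H1.Card
import Cfsg.Agent.H1.PQ
import Cfsg.Agent.H1.CoprimeAction

set_option autoImplicit false

namespace Cfsg.Agent.Lib.Helper4.Offender

open scoped commutatorElement

variable {G : Type*} [Group G]

/-- the failure-of-factorization measure `|B|·|C_V(B)|` -/
noncomputable def ff (V B : Subgroup G) : ℕ :=
  Nat.card B * Nat.card ↥(V ⊓ Subgroup.centralizer (B : Set G))

theorem ff_pos [Finite G] (V B : Subgroup G) : 0 < ff V B :=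
  Nat.mul_pos Nat.card_pos Nat.card_pos

theorem card_mul_card_le [Finite G] (X Y : Subgroup G) :
    Nat.card X * Nat.card Y ≤ Nat.card ↥(X ⊔ Y) * Nat.card ↥(X ⊓ Y) := by
  have h1 : Nat.card ↥(X ⊔ Y) = X.relIndex (X ⊔ Y) * Nat.card X :=
    Cfsg.Agent.H1.card_eq_relIndex_mul_card le_sup_left
  have h2 : Nat.card ↥(X ⊔ Y) = Y.relIndex (X ⊔ Y) * Nat.card Y :=
    Cfsg.Agent.H1.card_eq_relIndex_mul_card le_sup_right
  have h3 : Nat.card ↥(X ⊔ Y) = (X ⊓ Y).relIndex (X ⊔ Y) * Nat.card ↥(X ⊓ Y) :=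
    Cfsg.Agent.H1.card_eq_relIndex_mul_card (inf_le_left.trans le_sup_left)
  have h4 : (X ⊓ Y).relIndex (X ⊔ Y) ≤ X.relIndex (X ⊔ Y) * Y.relIndex (X ⊔ Y) :=
    Subgroup.relIndex_inf_le
  have hpos : 0 < Nat.card ↥(X ⊔ Y) := Nat.card_pos
  -- |X||Y| * |S| ≤ |S| |I| * |S| where |S| = a|X| = b|Y| = c|I|, c ≤ ab
  have key : Nat.card X * Nat.card Y * Nat.card ↥(X ⊔ Y) ≤
      Nat.card ↥(X ⊔ Y) * Nat.card ↥(X ⊓ Y) * Nat.card ↥(X ⊔ Y) := by
    calc Nat.card X * Nat.card Y * Nat.card ↥(X ⊔ Y)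
        = Nat.card X * Nat.card Y * ((X ⊓ Y).relIndex (X ⊔ Y) * Nat.card ↥(X ⊓ Y)) := by rw [← h3]
      _ ≤ Nat.card X * Nat.card Y * (X.relIndex (X ⊔ Y) * Y.relIndex (X ⊔ Y) * Nat.card ↥(X ⊓ Y)) := by
          gcongr
      _ = (X.relIndex (X ⊔ Y) * Nat.card X) * Nat.card ↥(X ⊓ Y) * (Y.relIndex (X ⊔ Y) * Nat.card Y) := by
          ring
      _ = Nat.card ↥(X ⊔ Y) * Nat.card ↥(X ⊓ Y) * Nat.card ↥(X ⊔ Y) := by rw [← h1, ← h2]
  exact Nat.le_of_mul_le_mul_right key hpos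

theorem cent_anti {X Y : Subgroup G} (h : X ≤ Y) :
    Subgroup.centralizer (Y : Set G) ≤ Subgroup.centralizer (X : Set G) :=
  Subgroup.centralizer_le (SetLike.coe_subset_coe.mpr h)

theorem centralizer_sup' (X Y : Subgroup G) :
    Subgroup.centralizer ((X ⊔ Y : Subgroup G) : Set G) =
      Subgroup.centralizer (X : Set G) ⊓ Subgroup.centralizer (Y : Set G) := by
  apply le_antisymm
  · exact le_inf (cent_anti le_sup_left) (cent_anti le_sup_right)
  · intro g hg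
    rw [Subgroup.mem_inf] at hg
    have h1 : X ≤ Subgroup.centralizer ({g} : Set G) := by
      intro x hx
      rw [Subgroup.mem_centralizer_singleton_iff]
      exact (hg.1 x hx)
    have h2 : Y ≤ Subgroup.centralizer ({g} : Set G) := by
      intro x hx
      rw [Subgroup.mem_centralizer_singleton_iff]
      exact (hg.2 x hx)
    intro z hz
    have := (sup_le h1 h2) hz
    rw [Subgroup.mem_centralizer_singleton_iff] at this
    exact this

/-- supermodularity of the measure -/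
theorem ff_mul_le [Finite G] (V B C : Subgroup G) :
    ff V B * ff V C ≤ ff V (B ⊔ C) * ff V (B ⊓ C) ∧
    (ff V B * ff V C = ff V (B ⊔ C) * ff V (B ⊓ C) →
      (V ⊓ Subgroup.centralizer (B : Set G)) ⊔ (V ⊓ Subgroup.centralizer (C : Set G)) =
        V ⊓ Subgroup.centralizer ((B ⊓ C : Subgroup G) : Set G)) := by
  set X := V ⊓ Subgroup.centralizer (B : Set G) with hX
  set Y := V ⊓ Subgroup.centralizer (C : Set G) with hY
  have h1 := card_mul_card_le B C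
  have h2 := card_mul_card_le X Y
  have h3 : X ⊓ Y = V ⊓ Subgroup.centralizer ((B ⊔ C : Subgroup G) : Set G) := by
    rw [centralizer_sup', hX, hY]
    ext g; simp only [Subgroup.mem_inf]; tauto
  have h4 : X ⊔ Y ≤ V ⊓ Subgroup.centralizer ((B ⊓ C : Subgroup G) : Set G) :=
    sup_le (inf_le_inf_left _ (cent_anti inf_le_left))
      (inf_le_inf_left _ (cent_anti inf_le_right))
  have h5 : Nat.card ↥(X ⊔ Y) ≤ Nat.card ↥(V ⊓ Subgroup.centralizer ((B ⊓ C : Subgroup G) : Set G)) :=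
    Subgroup.card_le_of_le h4
  rw [h3] at h2
  have hle : ff V B * ff V C ≤ ff V (B ⊔ C) * ff V (B ⊓ C) := by
    unfold ff
    calc Nat.card B * Nat.card X * (Nat.card C * Nat.card Y)
        = (Nat.card B * Nat.card C) * (Nat.card X * Nat.card Y) := by ring
      _ ≤ (Nat.card ↥(B ⊔ C) * Nat.card ↥(B ⊓ C)) *
          (Nat.card ↥(X ⊔ Y) * Nat.card ↥(V ⊓ Subgroup.centralizer ((B ⊔ C : Subgroup G) : Set G))) :=
          Nat.mul_le_mul h1 h2
      _ ≤ (Nat.card ↥(B ⊔ C) * Nat.card ↥(B ⊓ C)) *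
          (Nat.card ↥(V ⊓ Subgroup.centralizer ((B ⊓ C : Subgroup G) : Set G)) *
            Nat.card ↥(V ⊓ Subgroup.centralizer ((B ⊔ C : Subgroup G) : Set G))) := by gcongr
      _ = _ := by ring
  refine ⟨hle, fun heq => ?_⟩
  by_contra hne
  have hlt : Nat.card ↥(X ⊔ Y) < Nat.card ↥(V ⊓ Subgroup.centralizer ((B ⊓ C : Subgroup G) : Set G)) := by
    refine lt_of_le_of_ne h5 fun hc => hne ?_
    exact Subgroup.eq_of_le_of_card_ge h4 hc.ge
  have : ff V B * ff V C < ff V (B ⊔ C) * ff V (B ⊓ C) := by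
    unfold ff
    calc Nat.card B * Nat.card X * (Nat.card C * Nat.card Y)
        = (Nat.card B * Nat.card C) * (Nat.card X * Nat.card Y) := by ring
      _ ≤ (Nat.card ↥(B ⊔ C) * Nat.card ↥(B ⊓ C)) *
          (Nat.card ↥(X ⊔ Y) * Nat.card ↥(V ⊓ Subgroup.centralizer ((B ⊔ C : Subgroup G) : Set G))) :=
          Nat.mul_le_mul h1 h2
      _ < (Nat.card ↥(B ⊔ C) * Nat.card ↥(B ⊓ C)) *
          (Nat.card ↥(V ⊓ Subgroup.centralizer ((B ⊓ C : Subgroup G) : Set G)) *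
            Nat.card ↥(V ⊓ Subgroup.centralizer ((B ⊔ C : Subgroup G) : Set G))) := by
          apply Nat.mul_lt_mul_of_pos_left
          · exact Nat.mul_lt_mul_of_pos_right hlt Nat.card_pos
          · exact Nat.mul_pos Nat.card_pos Nat.card_pos
      _ = _ := by ring
  exact absurd heq this.ne

/-! ### best offenders -/

theorem best_iff {p : ℕ} (V A : Subgroup G) :
    Cfsg.IsBestOffenderOn p V A ↔ (∀ B : Subgroup G, B ≤ A → ff V B ≤ ff V A) ∧
      ⁅A, A⁆ ≤ Subgroup.centralizer (V : Set G) ∧ ∀ a ∈ A, a ^ p ∈ Subgroup.centralizer (V : Set G) :=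
  Iff.rfl

theorem best_of_le {p : ℕ} {V A B : Subgroup G} (hA : Cfsg.IsBestOffenderOn p V A) (hBA : B ≤ A)
    (hff : ff V A ≤ ff V B) : Cfsg.IsBestOffenderOn p V B := by
  rw [best_iff] at hA ⊢
  refine ⟨fun C hC => (hA.1 C (hC.trans hBA)).trans hff,
    (Subgroup.commutator_mono hBA hBA).trans hA.2.1, fun a ha => hA.2.2 a (hBA ha)⟩

theorem lattice [Finite G] {p : ℕ} {V A B C : Subgroup G} (hA : Cfsg.IsBestOffenderOn p V A)
    (hBA : B ≤ A) (hCA : C ≤ A) (hB : ff V B = ff V A) (hC : ff V C = ff V A) :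
    ff V (B ⊓ C) = ff V A ∧ ff V (B ⊔ C) = ff V A ∧
      (V ⊓ Subgroup.centralizer (B : Set G)) ⊔ (V ⊓ Subgroup.centralizer (C : Set G)) =
        V ⊓ Subgroup.centralizer ((B ⊓ C : Subgroup G) : Set G) := by
  have h1 := (best_iff V A).1 hA
  have hi : ff V (B ⊓ C) ≤ ff V A := h1.1 _ (inf_le_left.trans hBA)
  have hs : ff V (B ⊔ C) ≤ ff V A := h1.1 _ (sup_le hBA hCA)
  obtain ⟨h2, h3⟩ := ff_mul_le V B C
  rw [hB, hC] at h2 h3
  have hpos := ff_pos V A
  have hi' : ff V (B ⊓ C) = ff V A := by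
    refine le_antisymm hi ?_
    by_contra hlt
    push_neg at hlt
    have : ff V (B ⊔ C) * ff V (B ⊓ C) < ff V A * ff V A :=
      Nat.mul_lt_mul_of_le_of_lt hs hlt (by omega)
    omega
  have hs' : ff V (B ⊔ C) = ff V A := by
    refine le_antisymm hs ?_
    by_contra hlt
    push_neg at hlt
    have : ff V (B ⊔ C) * ff V (B ⊓ C) < ff V A * ff V A :=
      Nat.mul_lt_mul_of_lt_of_le hlt hi (by omega)
    omega
  exact ⟨hi', hs', h3 (by rw [hi', hs'])⟩

/-! ### Timmesfeld replacement -/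

/-- the commutators `[u, a]`, `u ∈ T`, `a ∈ A` -/
def comSet (T : Set G) (A : Subgroup G) : Set G := {g | ∃ u ∈ T, ∃ a ∈ A, ⁅u, a⁆ = g}

/-- `C_A([T, A])` -/
def BB (T : Set G) (A : Subgroup G) : Subgroup G := A ⊓ Subgroup.centralizer (comSet T A)

/-- `[T, A]` -/
def XX (T : Set G) (A : Subgroup G) : Subgroup G := Subgroup.closure (comSet T A)

theorem comSet_insert (u : G) (T : Set G) (A : Subgroup G) :
    comSet (insert u T) A = comSet {u} A ∪ comSet T A := by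
  ext g
  simp only [comSet, Set.mem_insert_iff, Set.mem_setOf_eq, Set.mem_union, Set.mem_singleton_iff]
  constructor
  · rintro ⟨v, (rfl | hv), a, ha, rfl⟩
    · exact Or.inl ⟨v, rfl, a, ha, rfl⟩
    · exact Or.inr ⟨v, hv, a, ha, rfl⟩
  · rintro (⟨v, rfl, a, ha, rfl⟩ | ⟨v, hv, a, ha, rfl⟩)
    · exact ⟨v, Or.inl rfl, a, ha, rfl⟩
    · exact ⟨v, Or.inr hv, a, ha, rfl⟩

theorem BB_insert (u : G) (T : Set G) (A : Subgroup G) :
    BB (insert u T) A = BB {u} A ⊓ BB T A := by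
  unfold BB
  rw [comSet_insert]
  ext g
  simp only [Subgroup.mem_inf, Subgroup.mem_centralizer_iff, Set.mem_union]
  constructor
  · rintro ⟨h1, h2⟩
    exact ⟨⟨h1, fun x hx => h2 x (Or.inl hx)⟩, ⟨h1, fun x hx => h2 x (Or.inr hx)⟩⟩
  · rintro ⟨⟨h1, h2⟩, ⟨_, h3⟩⟩
    exact ⟨h1, fun x hx => hx.elim (h2 x) (h3 x)⟩

theorem XX_insert (u : G) (T : Set G) (A : Subgroup G) :
    XX (insert u T) A = XX {u} A ⊔ XX T A := by
  unfold XX
  rw [comSet_insert, Subgroup.closure_union]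

theorem BB_le (T : Set G) (A : Subgroup G) : BB T A ≤ A := inf_le_left

theorem XX_coe (U A : Subgroup G) : XX (U : Set G) A = ⁅U, A⁆ := by
  rw [Subgroup.commutator_def]; rfl

theorem BB_coe (U A : Subgroup G) :
    BB (U : Set G) A = A ⊓ Subgroup.centralizer ((⁅U, A⁆ : Subgroup G) : Set G) := by
  unfold BB
  rw [Subgroup.commutator_def, Subgroup.centralizer_closure]; rfl

theorem XX_le_centralizer_BB (T : Set G) (A : Subgroup G) :
    XX T A ≤ Subgroup.centralizer (BB T A : Set G) := by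
  unfold XX
  rw [Subgroup.closure_le]
  intro g hg
  rw [SetLike.mem_coe, Subgroup.mem_centralizer_iff]
  intro b hb
  have := (Subgroup.mem_centralizer_iff.1 (Subgroup.mem_inf.1 hb).2) g hg
  exact this.symm

theorem XX_le {T : Set G} {V A : Subgroup G} (hT : T ⊆ V) (hAV : A ≤ Subgroup.normalizer (V : Set G)) :
    XX T A ≤ V := by
  unfold XX
  rw [Subgroup.closure_le]
  rintro g ⟨u, hu, a, ha, rfl⟩
  have h1 : a * u⁻¹ * a⁻¹ ∈ V := (Subgroup.mem_normalizer_iff.1 (hAV ha) u⁻¹).1 (V.inv_mem (hT hu))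
  have : ⁅u, a⁆ = u * (a * u⁻¹ * a⁻¹) := by rw [commutatorElement_def]; group
  rw [SetLike.mem_coe, this]
  exact V.mul_mem (hT hu) h1

/-- a counting lemma: an injection of coset spaces -/
theorem index_le_of_coset_inj {A Y : Type*} [Group A] [Group Y] [Finite Y] (B : Subgroup A)
    (C : Subgroup Y) (f : A → Y) (h : ∀ a a', (f a)⁻¹ * f a' ∈ C → a⁻¹ * a' ∈ B) :
    B.index ≤ C.index := by
  rw [Subgroup.index_eq_card, Subgroup.index_eq_card]
  apply Nat.card_le_card_of_injective (fun q : A ⧸ B => (QuotientGroup.mk (f q.out) : Y ⧸ C))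
  intro q q' hqq
  simp only [QuotientGroup.eq] at hqq
  have h1 := h _ _ hqq
  rw [← QuotientGroup.eq] at h1
  simpa using h1

theorem comm_identity (u a a' : G) : ⁅u, a⁆⁻¹ * ⁅u, a'⁆ = a * ⁅u, a⁻¹ * a'⁆ * a⁻¹ := by
  simp only [commutatorElement_def]; group

theorem sym_aux {V : Subgroup G} (hVc : ∀ s ∈ V, ∀ t ∈ V, s * t = t * s) {u a b : G} (hu : u ∈ V)
    (hx : a * u * a⁻¹ ∈ V) (hy : b * u * b⁻¹ ∈ V)
    (hw : (a * b) * u * (a * b)⁻¹ = (b * a) * u * (b * a)⁻¹)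
    (h : a * ⁅u, b⁆ * a⁻¹ = ⁅u, b⁆) : b * ⁅u, a⁆ * b⁻¹ = ⁅u, a⁆ := by
  set x := a * u * a⁻¹ with hxd
  set y := b * u * b⁻¹ with hyd
  set w := (a * b) * u * (a * b)⁻¹ with hwd
  have e1 : a * ⁅u, b⁆ * a⁻¹ = x * w⁻¹ := by
    rw [hxd, hwd, commutatorElement_def]; group
  have e2 : ⁅u, b⁆ = u * y⁻¹ := by rw [hyd, commutatorElement_def]; group
  have e3 : b * ⁅u, a⁆ * b⁻¹ = y * w⁻¹ := by
    rw [hyd, hw, commutatorElement_def]; group
  have e4 : ⁅u, a⁆ = u * x⁻¹ := by rw [hxd, commutatorElement_def]; group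
  rw [e1, e2] at h
  rw [e3, e4]
  -- w⁻¹ = x⁻¹ * u * y⁻¹
  have h5 : w⁻¹ = x⁻¹ * (u * y⁻¹) := by rw [← h]; group
  rw [h5]
  have c1 : y * (x⁻¹ * u) = (x⁻¹ * u) * y := hVc _ hy _ (V.mul_mem (V.inv_mem hx) hu)
  have c2 : x⁻¹ * u = u * x⁻¹ := hVc _ (V.inv_mem hx) _ hu
  calc y * (x⁻¹ * (u * y⁻¹)) = (y * (x⁻¹ * u)) * y⁻¹ := by group
    _ = (x⁻¹ * u) * y * y⁻¹ := by rw [c1]
    _ = x⁻¹ * u := by group
    _ = u * x⁻¹ := c2

theorem conj_mem_of_normalizer {V A : Subgroup G} (hAV : A ≤ Subgroup.normalizer (V : Set G))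
    {a u : G} (ha : a ∈ A) (hu : u ∈ V) : a * u * a⁻¹ ∈ V :=
  (Subgroup.mem_normalizer_iff.1 (hAV ha) u).1 hu

theorem act_comm {V A : Subgroup G} (hAA : ⁅A, A⁆ ≤ Subgroup.centralizer (V : Set G))
    {a b u : G} (ha : a ∈ A) (hb : b ∈ A) (hu : u ∈ V) :
    (a * b) * u * (a * b)⁻¹ = (b * a) * u * (b * a)⁻¹ := by
  have hc : ⁅a⁻¹, b⁻¹⁆ ∈ Subgroup.centralizer (V : Set G) :=
    hAA (Subgroup.commutator_mem_commutator (A.inv_mem ha) (A.inv_mem hb))
  have h1 : u * ⁅a⁻¹, b⁻¹⁆ = ⁅a⁻¹, b⁻¹⁆ * u := Subgroup.mem_centralizer_iff.1 hc u hu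
  have h2 : a * b = b * a * ⁅a⁻¹, b⁻¹⁆ := by rw [commutatorElement_def]; group
  have h3 : ⁅a⁻¹, b⁻¹⁆ * u * ⁅a⁻¹, b⁻¹⁆⁻¹ = u := by rw [← h1]; group
  calc (a * b) * u * (a * b)⁻¹ = b * a * (⁅a⁻¹, b⁻¹⁆ * u * ⁅a⁻¹, b⁻¹⁆⁻¹) * (b * a)⁻¹ := by
        rw [h2]; group
    _ = (b * a) * u * (b * a)⁻¹ := by rw [h3]

/-- elements of `C_A([u,A])` are exactly those `b ∈ A` with `[u,b] ∈ C(A)` -/
theorem mem_BB_singleton {V A : Subgroup G} (hVc : ∀ s ∈ V, ∀ t ∈ V, s * t = t * s)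
    (hAV : A ≤ Subgroup.normalizer (V : Set G))
    (hAA : ⁅A, A⁆ ≤ Subgroup.centralizer (V : Set G)) {u : G} (hu : u ∈ V) {b : G} (hb : b ∈ A)
    (h : ⁅u, b⁆ ∈ Subgroup.centralizer (A : Set G)) : b ∈ BB {u} A := by
  refine Subgroup.mem_inf.2 ⟨hb, ?_⟩
  rw [Subgroup.mem_centralizer_iff]
  rintro g ⟨v, hv, a, ha, rfl⟩
  rw [Set.mem_singleton_iff] at hv
  subst hv
  have h1 : a * ⁅v, b⁆ * a⁻¹ = ⁅v, b⁆ := by
    have := Subgroup.mem_centralizer_iff.1 h a ha
    rw [this]; group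
  have h2 := sym_aux hVc hu (conj_mem_of_normalizer hAV ha hu) (conj_mem_of_normalizer hAV hb hu)
    (act_comm hAA ha hb hu) h1
  calc ⁅v, a⁆ * b = (b * ⁅v, a⁆ * b⁻¹) * b := by rw [h2]
    _ = b * ⁅v, a⁆ := by group

theorem timmesfeld_single [Finite G] {V A : Subgroup G} (hVc : ∀ s ∈ V, ∀ t ∈ V, s * t = t * s)
    (hAV : A ≤ Subgroup.normalizer (V : Set G))
    (hAA : ⁅A, A⁆ ≤ Subgroup.centralizer (V : Set G)) {u : G} (hu : u ∈ V) :
    ff V A ≤ Nat.card (BB {u} A) *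
      Nat.card ↥(XX {u} A ⊔ (V ⊓ Subgroup.centralizer (A : Set G))) := by
  set Y := XX {u} A ⊔ (V ⊓ Subgroup.centralizer (A : Set G)) with hY
  set C := V ⊓ Subgroup.centralizer (A : Set G) with hC
  have hmem : ∀ a : ↥A, ⁅u, (a : G)⁆ ∈ Y := fun a =>
    le_sup_left (a := XX {u} A) (Subgroup.subset_closure ⟨u, rfl, a, a.2, rfl⟩)
  have key : ((BB {u} A).subgroupOf A).index ≤ (C.subgroupOf Y).index := by
    apply index_le_of_coset_inj _ _ (fun a : ↥A => (⟨⁅u, (a : G)⁆, hmem a⟩ : ↥Y))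
    intro a a' h
    rw [Subgroup.mem_subgroupOf] at h ⊢
    simp only [Subgroup.coe_mul, Subgroup.coe_inv] at h ⊢
    rw [comm_identity] at h
    apply mem_BB_singleton hVc hAV hAA hu (A.mul_mem (A.inv_mem a.2) a'.2)
    have h1 := (Subgroup.mem_inf.1 h).2
    rw [Subgroup.mem_centralizer_iff] at h1 ⊢
    intro g hg
    have h2 := h1 ((a : G) * g * (a : G)⁻¹) (A.mul_mem (A.mul_mem a.2 hg) (A.inv_mem a.2))
    -- a g a⁻¹ * (a c a⁻¹) = (a c a⁻¹) * a g a⁻¹
    have : (a : G) * (g * ⁅u, (a : G)⁻¹ * (a' : G)⁆) * (a : G)⁻¹ =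
        (a : G) * (⁅u, (a : G)⁻¹ * (a' : G)⁆ * g) * (a : G)⁻¹ := by
      calc (a : G) * (g * ⁅u, (a : G)⁻¹ * (a' : G)⁆) * (a : G)⁻¹
          = ((a : G) * g * (a : G)⁻¹) * ((a : G) * ⁅u, (a : G)⁻¹ * (a' : G)⁆ * (a : G)⁻¹) := by group
        _ = ((a : G) * ⁅u, (a : G)⁻¹ * (a' : G)⁆ * (a : G)⁻¹) * ((a : G) * g * (a : G)⁻¹) := h2
        _ = _ := by group
    exact mul_left_cancel (mul_right_cancel this)
  have hBA : BB {u} A ≤ A := BB_le _ _
  have hCY : C ≤ Y := le_sup_right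
  have c1 : Nat.card A = (BB {u} A).relIndex A * Nat.card (BB {u} A) :=
    Cfsg.Agent.H1.card_eq_relIndex_mul_card hBA
  have c2 : Nat.card Y = C.relIndex Y * Nat.card C := Cfsg.Agent.H1.card_eq_relIndex_mul_card hCY
  unfold ff
  rw [← hC, c1, c2]
  have : (BB {u} A).relIndex A ≤ C.relIndex Y := key
  calc (BB {u} A).relIndex A * Nat.card (BB {u} A) * Nat.card C
      ≤ C.relIndex Y * Nat.card (BB {u} A) * Nat.card C := by gcongr
    _ = _ := by ring

theorem timmesfeld_singleton [Finite G] {p : ℕ} {V A : Subgroup G}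
    (hVc : ∀ s ∈ V, ∀ t ∈ V, s * t = t * s)
    (hAV : A ≤ Subgroup.normalizer (V : Set G)) (hA : Cfsg.IsBestOffenderOn p V A)
    {u : G} (hu : u ∈ V) :
    ff V (BB {u} A) = ff V A ∧
      V ⊓ Subgroup.centralizer (BB {u} A : Set G) =
        XX {u} A ⊔ (V ⊓ Subgroup.centralizer (A : Set G)) := by
  have h1 := timmesfeld_single hVc hAV hA.2.1 hu
  have hle : XX {u} A ⊔ (V ⊓ Subgroup.centralizer (A : Set G)) ≤
      V ⊓ Subgroup.centralizer (BB {u} A : Set G) := by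
    apply sup_le
    · exact le_inf (XX_le (Set.singleton_subset_iff.2 hu) hAV) (XX_le_centralizer_BB _ _)
    · exact inf_le_inf_left _ (cent_anti (BB_le _ _))
  have h2 : Nat.card ↥(XX {u} A ⊔ (V ⊓ Subgroup.centralizer (A : Set G))) ≤
      Nat.card ↥(V ⊓ Subgroup.centralizer (BB {u} A : Set G)) := Subgroup.card_le_of_le hle
  have h3 : ff V (BB {u} A) ≤ ff V A := hA.1 _ (BB_le _ _)
  have h4 : Nat.card (BB {u} A) * Nat.card ↥(XX {u} A ⊔ (V ⊓ Subgroup.centralizer (A : Set G))) ≤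
      ff V (BB {u} A) := Nat.mul_le_mul_left _ h2
  refine ⟨le_antisymm h3 (h1.trans h4), ?_⟩
  symm
  apply Subgroup.eq_of_le_of_card_ge hle
  by_contra hlt
  push_neg at hlt
  have : Nat.card (BB {u} A) * Nat.card ↥(XX {u} A ⊔ (V ⊓ Subgroup.centralizer (A : Set G))) <
      ff V (BB {u} A) := Nat.mul_lt_mul_of_pos_left hlt Nat.card_pos
  omega

theorem timmesfeld_finset [Finite G] {p : ℕ} {V A : Subgroup G}
    (hVc : ∀ s ∈ V, ∀ t ∈ V, s * t = t * s)
    (hAV : A ≤ Subgroup.normalizer (V : Set G)) (hA : Cfsg.IsBestOffenderOn p V A)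
    (T : Finset G) (hT : (T : Set G) ⊆ V) :
    ff V (BB (T : Set G) A) = ff V A ∧
      V ⊓ Subgroup.centralizer (BB (T : Set G) A : Set G) =
        XX (T : Set G) A ⊔ (V ⊓ Subgroup.centralizer (A : Set G)) := by
  classical
  induction T using Finset.induction_on with
  | empty =>
    have h1 : BB ((∅ : Finset G) : Set G) A = A := by
      unfold BB comSet
      simp only [Finset.coe_empty, Set.mem_empty_iff_false, false_and, exists_false,
        Set.setOf_false, inf_eq_left]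
      intro a _
      rw [Subgroup.mem_centralizer_iff]
      intro g hg
      exact absurd hg (Set.notMem_empty g)
    have h2 : XX ((∅ : Finset G) : Set G) A = ⊥ := by
      unfold XX comSet
      simp
    rw [h1, h2, bot_sup_eq]
    exact ⟨rfl, rfl⟩
  | insert u T _ ih =>
    rw [Finset.coe_insert] at hT ⊢
    have hu : u ∈ V := hT (Set.mem_insert _ _)
    obtain ⟨i1, i2⟩ := ih ((Set.subset_insert _ _).trans hT)
    obtain ⟨s1, s2⟩ := timmesfeld_singleton hVc hAV hA hu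
    obtain ⟨l1, _, l3⟩ := lattice hA (BB_le {u} A) (BB_le (T : Set G) A) s1 i1
    rw [BB_insert, XX_insert]
    refine ⟨l1, ?_⟩
    rw [← l3, s2, i2]
    apply le_antisymm
    · exact sup_le (sup_le (le_sup_left.trans le_sup_left) le_sup_right)
        (sup_le (le_sup_right.trans le_sup_left) le_sup_right)
    · exact sup_le (sup_le (le_sup_left.trans le_sup_left) (le_sup_left.trans le_sup_right))
        (le_sup_right.trans le_sup_left)

/-- **Timmesfeld replacement** (first two parts) -/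
theorem timmesfeld [Finite G] {p : ℕ} {V A : Subgroup G}
    (hVc : ∀ s ∈ V, ∀ t ∈ V, s * t = t * s)
    (hAV : A ≤ Subgroup.normalizer (V : Set G)) (hA : Cfsg.IsBestOffenderOn p V A)
    (U : Subgroup G) (hU : U ≤ V) :
    ff V (A ⊓ Subgroup.centralizer ((⁅U, A⁆ : Subgroup G) : Set G)) = ff V A ∧
      V ⊓ Subgroup.centralizer
          ((A ⊓ Subgroup.centralizer ((⁅U, A⁆ : Subgroup G) : Set G) : Subgroup G) : Set G) =
        ⁅U, A⁆ ⊔ (V ⊓ Subgroup.centralizer (A : Set G)) := by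
  classical
  have hfin : (U : Set G).Finite := Set.toFinite _
  have h := timmesfeld_finset hVc hAV hA hfin.toFinset (by
    rw [Set.Finite.coe_toFinset]; exact hU)
  rw [Set.Finite.coe_toFinset, BB_coe, XX_coe] at h
  exact h

/-! ### nilpotent action -/

theorem sylow_sup_eq_top {A : Type*} [Group A] [Finite A] {p : ℕ} [Fact p.Prime]
    (N : Subgroup A) [N.Normal] (hN : ∀ a : A, a ^ p ∈ N) (P : Sylow p A) :
    (P : Subgroup A) ⊔ N = ⊤ := by
  have hq : IsPGroup p (A ⧸ N) := by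
    intro q
    refine ⟨1, ?_⟩
    induction q using QuotientGroup.induction_on with
    | H a =>
      rw [pow_one, ← QuotientGroup.mk_pow]
      exact (QuotientGroup.eq_one_iff _).2 (hN a)
  obtain ⟨n, hn⟩ := IsPGroup.iff_card.1 hq
  have h1 : ((P : Subgroup A) ⊔ N).index ∣ p ^ n := by
    rw [← hn, ← Subgroup.index_eq_card]
    exact Subgroup.index_dvd_of_le le_sup_right
  have h2 : ((P : Subgroup A) ⊔ N).index ∣ (P : Subgroup A).index :=
    Subgroup.index_dvd_of_le le_sup_left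
  have h3 : ¬ p ∣ (P : Subgroup A).index := P.not_dvd_index
  rw [← Subgroup.index_eq_one]
  obtain ⟨k, _, hk⟩ := (Nat.dvd_prime_pow (Fact.out : p.Prime)).1 h1
  rcases Nat.eq_zero_or_pos k with rfl | hk0
  · simpa using hk
  · exfalso
    apply h3
    refine dvd_trans ?_ h2
    rw [hk]
    exact dvd_pow_self p (by omega)

theorem comm_mul_cent {V : Subgroup G} {w x c : G} (hw : w ∈ V)
    (hc : c ∈ Subgroup.centralizer (V : Set G)) : ⁅w, x * c⁆ = ⁅w, x⁆ := by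
  have h1 : w⁻¹ * c = c * w⁻¹ := Subgroup.mem_centralizer_iff.1 hc _ (V.inv_mem hw)
  calc ⁅w, x * c⁆ = w * x * (c * w⁻¹) * c⁻¹ * x⁻¹ := by rw [commutatorElement_def]; group
    _ = w * x * (w⁻¹ * c) * c⁻¹ * x⁻¹ := by rw [h1]
    _ = ⁅w, x⁆ := by rw [commutatorElement_def]; group

theorem comm_lt_of_pact [Finite G] {p : ℕ} [Fact p.Prime] {V A W : Subgroup G}
    (hVp : IsPGroup p V) (hAp : ∀ a ∈ A, a ^ p ∈ Subgroup.centralizer (V : Set G))
    (hAV : A ≤ Subgroup.normalizer (V : Set G))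
    (hWV : W ≤ V) (hAW : A ≤ Subgroup.normalizer (W : Set G)) (hW : W ≠ ⊥) : ⁅W, A⁆ < W := by
  obtain ⟨P⟩ : Nonempty (Sylow p ↥A) := inferInstance
  set P' : Subgroup G := (P : Subgroup ↥A).map A.subtype with hP'
  have hP'A : P' ≤ A := by
    rw [hP']; exact Subgroup.map_subtype_le _
  have hP'p : IsPGroup p P' := P.2.map _
  set N : Subgroup ↥A := (A ⊓ Subgroup.centralizer (V : Set G)).subgroupOf A with hN
  haveI : N.Normal := by
    constructor
    intro n hn a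
    rw [hN, Subgroup.mem_subgroupOf] at hn ⊢
    simp only [Subgroup.coe_mul, Subgroup.coe_inv]
    refine Subgroup.mem_inf.2 ⟨A.mul_mem (A.mul_mem a.2 n.2) (A.inv_mem a.2), ?_⟩
    rw [Subgroup.mem_centralizer_iff]
    intro v hv
    have h1 : (a : G)⁻¹ * v * ((a : G)⁻¹)⁻¹ ∈ V :=
      conj_mem_of_normalizer hAV (A.inv_mem a.2) hv
    have h2 := Subgroup.mem_centralizer_iff.1 (Subgroup.mem_inf.1 hn).2 _ h1
    calc v * ((a : G) * (n : G) * (a : G)⁻¹)
        = (a : G) * (((a : G)⁻¹ * v * ((a : G)⁻¹)⁻¹) * (n : G)) * (a : G)⁻¹ := by group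
      _ = (a : G) * ((n : G) * ((a : G)⁻¹ * v * ((a : G)⁻¹)⁻¹)) * (a : G)⁻¹ := by rw [h2]
      _ = _ := by group
  have htop : (P : Subgroup ↥A) ⊔ N = ⊤ := by
    apply sylow_sup_eq_top
    intro a
    rw [hN, Subgroup.mem_subgroupOf]
    exact Subgroup.mem_inf.2 ⟨A.pow_mem a.2 p, by simpa using hAp a a.2⟩
  have hle : ⁅W, A⁆ ≤ ⁅W, P'⁆ := by
    rw [Subgroup.commutator_le]
    intro w hw a ha
    have hmem : (⟨a, ha⟩ : ↥A) ∈ (P : Subgroup ↥A) ⊔ N := by rw [htop]; trivial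
    rw [← SetLike.mem_coe, Subgroup.mul_normal, Set.mem_mul] at hmem
    obtain ⟨x, hx, c, hc, hxc⟩ := hmem
    have hxc' : (x : G) * (c : G) = a := by
      have := congrArg Subtype.val hxc
      simpa using this
    rw [← hxc']
    have hc' : (c : G) ∈ Subgroup.centralizer (V : Set G) := by
      rw [SetLike.mem_coe, hN, Subgroup.mem_subgroupOf] at hc
      exact (Subgroup.mem_inf.1 hc).2
    rw [comm_mul_cent (hWV hw) hc']
    exact Subgroup.commutator_mem_commutator hw (Subgroup.mem_map_of_mem _ hx)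
  exact lt_of_le_of_lt hle
    (Cfsg.Agent.H1.commutator_lt_of_pgroup W P' (hVp.to_le hWV) hP'p (hP'A.trans hAW) hW)

theorem norm_comm {V A B : Subgroup G} (hV : B ≤ Subgroup.normalizer (V : Set G))
    (hA : B ≤ Subgroup.normalizer (A : Set G)) :
    B ≤ Subgroup.normalizer ((⁅V, A⁆ : Subgroup G) : Set G) := by
  intro g hg
  have h1 := Subgroup.mem_normalizer_iff_map_conj_eq.1 (hV hg)
  have h2 := Subgroup.mem_normalizer_iff_map_conj_eq.1 (hA hg)
  rw [Subgroup.mem_normalizer_iff_map_conj_eq, Subgroup.map_commutator, h1, h2]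

theorem isPGroup_of_elem {p : ℕ} {V : Subgroup G} (hV : Cfsg.IsElementaryAbelian p V) :
    IsPGroup p V := by
  intro v
  refine ⟨1, ?_⟩
  rw [pow_one]
  exact Subtype.ext (by simpa using hV.2 v v.2)

theorem comm_of_elem {p : ℕ} {V : Subgroup G} (hV : Cfsg.IsElementaryAbelian p V) :
    ∀ s ∈ V, ∀ t ∈ V, s * t = t * s := fun s hs t ht =>
  congrArg Subtype.val (hV.1.is_comm.comm ⟨s, hs⟩ ⟨t, ht⟩)

theorem le_centralizer_of_elem {p : ℕ} {V : Subgroup G} (hV : Cfsg.IsElementaryAbelian p V) :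
    V ≤ Subgroup.centralizer (V : Set G) := fun s hs =>
  Subgroup.mem_centralizer_iff.2 fun t ht => comm_of_elem hV t ht s hs

/-- **Timmesfeld replacement**, third part -/
theorem timmesfeld_ne_bot [Finite G] {p : ℕ} [Fact p.Prime] {V A : Subgroup G}
    (hV : Cfsg.IsElementaryAbelian p V)
    (hAV : A ≤ Subgroup.normalizer (V : Set G)) (hA : Cfsg.IsBestOffenderOn p V A)
    (U : Subgroup G) (hU : U ≤ V) (hne : ⁅V, A⁆ ≠ ⊥) :
    ⁅V, A ⊓ Subgroup.centralizer ((⁅U, A⁆ : Subgroup G) : Set G)⁆ ≠ ⊥ := by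
  intro hbot
  have hVc := comm_of_elem hV
  obtain ⟨_, h2⟩ := timmesfeld hVc hAV hA U hU
  have h3 : V ≤ Subgroup.centralizer
      ((A ⊓ Subgroup.centralizer ((⁅U, A⁆ : Subgroup G) : Set G) : Subgroup G) : Set G) :=
    Subgroup.commutator_eq_bot_iff_le_centralizer.1 hbot
  rw [inf_eq_left.2 h3] at h2
  set W := ⁅V, A⁆ with hW
  have hWV : W ≤ V := Subgroup.le_normalizer_iff_commutator_le_left.1 hAV
  have hAW : A ≤ Subgroup.normalizer (W : Set G) := norm_comm hAV Subgroup.le_normalizer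
  have hlt := comm_lt_of_pact (isPGroup_of_elem hV) hA.2.2 hAV hWV hAW hne
  have hUW : ⁅U, A⁆ ≤ W := Subgroup.commutator_mono hU le_rfl
  have hle : W ≤ ⁅W, A⁆ := by
    rw [hW, Subgroup.commutator_le]
    intro v hv a ha
    rw [h2] at hv
    have hnorm : V ⊓ Subgroup.centralizer (A : Set G) ≤
        Subgroup.normalizer ((⁅U, A⁆ : Subgroup G) : Set G) :=
      (inf_le_left.trans (le_centralizer_of_elem hV)).trans
        ((cent_anti (hUW.trans hWV)).trans (Subgroup.centralizer_le_normalizer _))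
    obtain ⟨x, hx, c, hc, rfl⟩ :=
      (Cfsg.Agent.H1.mem_sup_of_le_normalizer _ _ hnorm).1 hv
    have hca : a * c = c * a := Subgroup.mem_centralizer_iff.1 (Subgroup.mem_inf.1 hc).2 a ha
    have : ⁅x * c, a⁆ = ⁅x, a⁆ := by
      calc ⁅x * c, a⁆ = x * (c * a) * c⁻¹ * x⁻¹ * a⁻¹ := by rw [commutatorElement_def]; group
        _ = x * (a * c) * c⁻¹ * x⁻¹ * a⁻¹ := by rw [hca]
        _ = ⁅x, a⁆ := by rw [commutatorElement_def]; group
    rw [this]
    exact Subgroup.commutator_mem_commutator (hUW hx) ha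
  exact absurd (lt_of_le_of_lt hle hlt) (lt_irrefl _)

end Cfsg.Agent.Lib.Helper4.Offender
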