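import Mathlib
import Cfsg.Prelude.Def_PLocal
import Cfsg.Agent.H1.Cores
import Cfsg.Agent.H1.NormMap
import Cfsg.Agent.Lib.Lead.PGroup
import Cfsg.Agent.Lib.Helper7.CoprimeGen5
import Cfsg.Agent.Lib.Helper4.Offender

set_option autoImplicit false

namespace Cfsg.Agent.Lib.Helper4.FFPair

open scoped commutatorElement
open Cfsg.Agent.Lib.Helper4.Offender

variable {G : Type*} [Group G]

/-- the standing hypotheses of the FF-module theorem -/
structure Hyp (p : ℕ) (V H : Subgroup G) : Prop where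
  hV : Cfsg.IsElementaryAbelian p V
  hHV : H ≤ Subgroup.normalizer (V : Set G)
  hf : H ⊓ Subgroup.centralizer (V : Set G) = ⊥
  hS1 : Subgroup.centralizer (Cfsg.pPrimeCore p ↥H : Set ↥H) ≤ Cfsg.pPrimeCore p ↥H

/-- `O_{p'}(H)` as a subgroup of `G` -/
def KK (p : ℕ) (H : Subgroup G) : Subgroup G := (Cfsg.pPrimeCore p ↥H).map H.subtype

theorem KK_le (p : ℕ) (H : Subgroup G) : KK p H ≤ H := Subgroup.map_subtype_le _

theorem le_normalizer_KK [Finite G] (p : ℕ) (H : Subgroup G) :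
    H ≤ Subgroup.normalizer (KK p H : Set G) := by
  intro h hh
  rw [Subgroup.mem_normalizer_iff]
  intro x
  have hn : (Cfsg.pPrimeCore p ↥H).Normal := Cfsg.Agent.H1.pPrimeCore_normal p
  constructor
  · rintro ⟨y, hy, rfl⟩
    refine ⟨⟨h, hh⟩ * y * ⟨h, hh⟩⁻¹, hn.conj_mem y hy ⟨h, hh⟩, ?_⟩
    simp
  · rintro ⟨y, hy, hyx⟩
    have hx : x = h⁻¹ * (y : G) * h := by
      have : (y : G) = h * x * h⁻¹ := by simpa using hyx
      rw [this]; group
    refine ⟨⟨h, hh⟩⁻¹ * y * ⟨h, hh⟩, ?_, ?_⟩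
    · have := hn.conj_mem y hy (⟨h, hh⟩⁻¹)
      simpa using this
    · rw [hx]; simp

theorem KK_coprime [Finite G] (p : ℕ) (H : Subgroup G) : (Nat.card (KK p H)).Coprime p := by
  unfold KK
  rw [Subgroup.card_map_of_injective H.subtype_injective]
  exact Cfsg.Agent.H1.pPrimeCore_coprime p

variable {p : ℕ} {V H : Subgroup G}

theorem cent_KK_le (h : Hyp p V H) : H ⊓ Subgroup.centralizer (KK p H : Set G) ≤ KK p H := by
  intro x hx
  obtain ⟨hxH, hxC⟩ := Subgroup.mem_inf.1 hx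
  have : (⟨x, hxH⟩ : ↥H) ∈ Subgroup.centralizer (Cfsg.pPrimeCore p ↥H : Set ↥H) := by
    rw [Subgroup.mem_centralizer_iff]
    intro y hy
    apply Subtype.ext
    simp only [Subgroup.coe_mul]
    exact Subgroup.mem_centralizer_iff.1 hxC (y : G) ⟨y, hy, rfl⟩
  exact ⟨⟨x, hxH⟩, h.hS1 this, rfl⟩

theorem faithful (h : Hyp p V H) {B : Subgroup G} (hBH : B ≤ H) (hB : ⁅V, B⁆ = ⊥) : B = ⊥ := by
  rw [Subgroup.commutator_eq_bot_iff_le_centralizer, Subgroup.le_centralizer_iff] at hB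
  rw [eq_bot_iff, ← h.hf]
  exact le_inf hBH hB

theorem best_comm (h : Hyp p V H) {A : Subgroup G} (hAH : A ≤ H)
    (hA : Cfsg.IsBestOffenderOn p V A) : ∀ x ∈ A, ∀ y ∈ A, x * y = y * x := by
  intro x hx y hy
  have h1 : ⁅x, y⁆ ∈ H ⊓ Subgroup.centralizer (V : Set G) :=
    Subgroup.mem_inf.2 ⟨
      H.mul_mem (H.mul_mem (H.mul_mem (hAH hx) (hAH hy)) (H.inv_mem (hAH hx))) (H.inv_mem (hAH hy)),
      hA.2.1 (Subgroup.commutator_mem_commutator hx hy)⟩
  rw [h.hf, Subgroup.mem_bot] at h1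
  exact commutatorElement_eq_one_iff_mul_comm.1 h1

theorem best_pow (h : Hyp p V H) {A : Subgroup G} (hAH : A ≤ H)
    (hA : Cfsg.IsBestOffenderOn p V A) : ∀ x ∈ A, x ^ p = 1 := by
  intro x hx
  have h1 : x ^ p ∈ H ⊓ Subgroup.centralizer (V : Set G) :=
    Subgroup.mem_inf.2 ⟨H.pow_mem (hAH hx) p, hA.2.2 x hx⟩
  rw [h.hf, Subgroup.mem_bot] at h1
  exact h1

theorem best_isPGroup (h : Hyp p V H) {A : Subgroup G} (hAH : A ≤ H)
    (hA : Cfsg.IsBestOffenderOn p V A) : IsPGroup p A := by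
  intro a
  refine ⟨1, ?_⟩
  rw [pow_one]
  exact Subtype.ext (by simpa using best_pow h hAH hA a a.2)

theorem eq_bot_of_cent_KK [Finite G] [Fact p.Prime] (h : Hyp p V H) {D : Subgroup G} (hDH : D ≤ H)
    (hD : IsPGroup p D) (hDK : D ≤ Subgroup.centralizer (KK p H : Set G)) : D = ⊥ := by
  have h1 : D ≤ KK p H := (le_inf hDH hDK).trans (cent_KK_le h)
  obtain ⟨n, hn⟩ := IsPGroup.iff_card.1 hD
  have h2 : Nat.card D ∣ Nat.card (KK p H) := Subgroup.card_dvd_of_le h1
  have h3 : (Nat.card D).Coprime p := Nat.Coprime.coprime_dvd_left h2 (KK_coprime p H)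
  rw [← Subgroup.card_eq_one]
  rcases Nat.eq_zero_or_pos n with rfl | hn0
  · simpa using hn
  · exfalso
    rw [hn] at h3
    have : p ∣ Nat.gcd (p ^ n) p := Nat.dvd_gcd (dvd_pow_self p (by omega)) dvd_rfl
    rw [Nat.Coprime] at h3
    rw [h3] at this
    exact (Fact.out : p.Prime).one_lt.ne' (Nat.dvd_one.1 this)

/-- a `p`-group normalizing a nontrivial `p`-subgroup has nontrivial fixed points on it -/
theorem exists_fixed [Finite G] [Fact p.Prime] {M A : Subgroup G} (hM : IsPGroup p M)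
    (hA : IsPGroup p A) (hAM : A ≤ Subgroup.normalizer (M : Set G)) (hne : M ≠ ⊥) :
    M ⊓ Subgroup.centralizer (A : Set G) ≠ ⊥ := by
  set T := M ⊔ A with hT
  have hTp : IsPGroup p T := IsPGroup.to_sup_of_normal_left' hM hA hAM
  have hTN : T ≤ Subgroup.normalizer (M : Set G) := sup_le Subgroup.le_normalizer hAM
  haveI : (M.subgroupOf T).Normal := (Subgroup.normal_subgroupOf_iff_le_normalizer le_sup_left).2 hTN
  have hne' : M.subgroupOf T ≠ ⊥ := by
    rw [Ne, Subgroup.subgroupOf_eq_bot, disjoint_iff, inf_eq_left.2 (le_sup_left : M ≤ T)]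
    exact hne
  have h1 := Cfsg.Agent.Lib.Lead.PGroup.normal_inf_center_ne_bot hTp (M.subgroupOf T) hne'
  intro hbot
  apply h1
  rw [eq_bot_iff]
  intro z hz
  obtain ⟨hz1, hz2⟩ := Subgroup.mem_inf.1 hz
  have hzM : (z : G) ∈ M := Subgroup.mem_subgroupOf.1 hz1
  have hzC : (z : G) ∈ Subgroup.centralizer (A : Set G) := by
    rw [Subgroup.mem_centralizer_iff]
    intro a ha
    have := Subgroup.mem_center_iff.1 hz2 ⟨a, le_sup_right (a := M) ha⟩
    exact congrArg Subtype.val this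
  have : (z : G) ∈ M ⊓ Subgroup.centralizer (A : Set G) := Subgroup.mem_inf.2 ⟨hzM, hzC⟩
  rw [hbot, Subgroup.mem_bot] at this
  rw [Subgroup.mem_bot]
  exact Subtype.ext this

theorem p_mul_card_le [Finite G] [Fact p.Prime] {X Y : Subgroup G} (hY : IsPGroup p Y)
    (hlt : X < Y) : p * Nat.card X ≤ Nat.card Y := by
  have h1 : Nat.card Y = X.relIndex Y * Nat.card X :=
    Cfsg.Agent.H1.card_eq_relIndex_mul_card hlt.le
  have h2 : X.relIndex Y ∣ Nat.card Y := Subgroup.relIndex_dvd_card X Y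
  obtain ⟨n, hn⟩ := IsPGroup.iff_card.1 hY
  rw [hn] at h2
  obtain ⟨k, _, hk⟩ := (Nat.dvd_prime_pow Fact.out).1 h2
  have hk0 : k ≠ 0 := by
    rintro rfl
    rw [pow_zero, Subgroup.relIndex_eq_one] at hk
    exact absurd hk (not_le_of_gt hlt)
  have : p ≤ X.relIndex Y := by rw [hk]; exact Nat.le_self_pow hk0 p
  rw [h1]; exact Nat.mul_le_mul_right _ this

/-- **key lemma**: a nontrivial subgroup `D` of a best offender `A` is missed by some best offender
`B` of index `p` in `A` with the same measure. -/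
theorem key [Finite G] [Fact p.Prime] (h : Hyp p V H) {A D : Subgroup G} (hAH : A ≤ H)
    (hA : Cfsg.IsBestOffenderOn p V A) (hDA : D ≤ A) (hD : D ≠ ⊥) :
    ∃ B : Subgroup G, B ≤ A ∧ ¬ D ≤ B ∧ (∃ a ∈ A, B ⊔ Subgroup.zpowers a = A) ∧
      Cfsg.IsBestOffenderOn p V B ∧ ff V B = ff V A := by
  classical
  set K := KK p H with hK
  have hcomm := best_comm h hAH hA
  have hpow := best_pow h hAH hA
  have hAp := best_isPGroup h hAH hA
  have hVp : IsPGroup p V := isPGroup_of_elem h.hV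
  have hAab : IsMulCommutative A := ⟨⟨fun a b => Subtype.ext (hcomm a a.2 b b.2)⟩⟩
  have hAK : A ≤ Subgroup.normalizer (K : Set G) := hAH.trans (le_normalizer_KK p H)
  have hAV : A ≤ Subgroup.normalizer (V : Set G) := hAH.trans h.hHV
  have hcop : (Nat.card A).Coprime (Nat.card K) := by
    obtain ⟨n, hn⟩ := IsPGroup.iff_card.1 hAp
    rw [hn]; exact Nat.Coprime.pow_left n (KK_coprime p H).symm
  have hgen := (Cfsg.Agent.Lib.Helper7.abelian_coprime_generation A K hAab hAK hcop).1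
  have hDK : ¬ D ≤ Subgroup.centralizer (K : Set G) := fun hc =>
    hD (eq_bot_of_cent_KK h (hDA.trans hAH) (hAp.to_le hDA) hc)
  have hex : ∃ B : Subgroup G, (B ≤ A ∧ ∃ a ∈ A, B ⊔ Subgroup.zpowers a = A) ∧
      ¬ D ≤ Subgroup.centralizer ((K ⊓ Subgroup.centralizer (B : Set G) : Subgroup G) : Set G) := by
    by_contra hcon
    push_neg at hcon
    apply hDK
    rw [Subgroup.le_centralizer_iff]
    refine hgen.ge.trans (iSup₂_le fun B hB => ?_)
    exact Subgroup.le_centralizer_iff.1 (hcon B hB)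
  obtain ⟨B, ⟨hBA, a, haA, hBa⟩, hDB⟩ := hex
  set K₀ := K ⊓ Subgroup.centralizer (B : Set G) with hK₀
  have hDB' : ¬ D ≤ B := fun hc => hDB (hc.trans (Subgroup.le_centralizer_iff.1 inf_le_right))
  have hK₀H : K₀ ≤ H := inf_le_left.trans (KK_le p H)
  have hACB : A ≤ Subgroup.centralizer (B : Set G) := by
    intro x hx
    rw [Subgroup.mem_centralizer_iff]
    intro b hb
    exact hcomm b (hBA hb) x hx
  have hAK₀ : A ≤ Subgroup.normalizer (K₀ : Set G) :=
    (le_inf hAK (hACB.trans Subgroup.le_normalizer)).trans Subgroup.inf_normalizer_le_normalizer_inf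
  have hle : V ⊓ Subgroup.centralizer (A : Set G) ≤ V ⊓ Subgroup.centralizer (B : Set G) :=
    inf_le_inf_left _ (cent_anti hBA)
  have hne : V ⊓ Subgroup.centralizer (B : Set G) ≠ V ⊓ Subgroup.centralizer (A : Set G) := by
    intro heq
    set W₀ := V ⊓ Subgroup.centralizer (A : Set G) with hW₀
    -- `K₀` normalizes `W₀`
    have hconj : ∀ k ∈ K₀, ∀ w ∈ W₀, k * w * k⁻¹ ∈ W₀ := by
      intro k hk w hw
      rw [← heq] at hw ⊢
      obtain ⟨hwV, hwC⟩ := Subgroup.mem_inf.1 hw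
      refine Subgroup.mem_inf.2 ⟨conj_mem_of_normalizer h.hHV (hK₀H hk) hwV, ?_⟩
      rw [Subgroup.mem_centralizer_iff]
      intro b hb
      have e1 : b * k = k * b := Subgroup.mem_centralizer_iff.1 (Subgroup.mem_inf.1 hk).2 b hb
      have e2 : b * w = w * b := Subgroup.mem_centralizer_iff.1 hwC b hb
      have e3 : b * k⁻¹ = k⁻¹ * b := (Commute.inv_right (show Commute b k from e1)).eq
      calc b * (k * w * k⁻¹) = (b * k) * w * k⁻¹ := by group
        _ = k * (b * w) * k⁻¹ := by rw [e1]; group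
        _ = k * w * (b * k⁻¹) := by rw [e2]; group
        _ = k * w * k⁻¹ * b := by rw [e3]; group
    set L := ⁅K₀, A⁆ with hL
    have hLW : L ≤ Subgroup.centralizer (W₀ : Set G) := by
      rw [hL, Subgroup.commutator_le]
      intro k hk x hx
      rw [Subgroup.mem_centralizer_iff]
      intro w hw
      have hw' : k⁻¹ * w * k⁻¹⁻¹ ∈ W₀ := hconj k⁻¹ (K₀.inv_mem hk) w hw
      have e1 : x * w = w * x := Subgroup.mem_centralizer_iff.1 (Subgroup.mem_inf.1 hw).2 x hx
      have e2 : x * (k⁻¹ * w * k⁻¹⁻¹) = (k⁻¹ * w * k⁻¹⁻¹) * x :=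
        Subgroup.mem_centralizer_iff.1 (Subgroup.mem_inf.1 hw').2 x hx
      have e3 : x⁻¹ * w = w * x⁻¹ := (Commute.inv_left (show Commute x w from e1)).eq
      calc w * ⁅k, x⁆ = k * ((k⁻¹ * w * k⁻¹⁻¹) * x) * k⁻¹ * x⁻¹ := by
            rw [commutatorElement_def]; group
        _ = k * (x * (k⁻¹ * w * k⁻¹⁻¹)) * k⁻¹ * x⁻¹ := by rw [e2]
        _ = k * x * k⁻¹ * (w * x⁻¹) := by group
        _ = k * x * k⁻¹ * (x⁻¹ * w) := by rw [e3]
        _ = ⁅k, x⁆ * w := by rw [commutatorElement_def]; group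
    have hLK₀ : L ≤ K₀ := Subgroup.le_normalizer_iff_commutator_le_left.1 hAK₀
    have hLH : L ≤ H := hLK₀.trans hK₀H
    have hLV : L ≤ Subgroup.normalizer (V : Set G) := hLH.trans h.hHV
    have hLcop : (Nat.card L).Coprime (Nat.card V) := by
      obtain ⟨n, hn⟩ := IsPGroup.iff_card.1 hVp
      rw [hn]
      apply Nat.Coprime.pow_right
      exact Nat.Coprime.coprime_dvd_left (Subgroup.card_dvd_of_le (hLK₀.trans inf_le_left))
        (KK_coprime p H)
    have hfit := Cfsg.Agent.H1.commutator_inf_centralizer_eq_bot_of_abelian V L h.hV.1 hLV hLcop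
    set M := ⁅V, L⁆ with hM
    have hMV : M ≤ V := Subgroup.le_normalizer_iff_commutator_le_left.1 hLV
    have hAL : A ≤ Subgroup.normalizer (L : Set G) := norm_comm hAK₀ Subgroup.le_normalizer
    have hAM : A ≤ Subgroup.normalizer (M : Set G) := norm_comm hAV hAL
    have hMbot : M = ⊥ := by
      by_contra hMne
      apply exists_fixed (hVp.to_le hMV) hAp hAM hMne
      rw [eq_bot_iff, ← hfit]
      intro z hz
      obtain ⟨hz1, hz2⟩ := Subgroup.mem_inf.1 hz
      refine Subgroup.mem_inf.2 ⟨hz1, ?_⟩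
      have hzW : z ∈ W₀ := Subgroup.mem_inf.2 ⟨hMV hz1, hz2⟩
      exact (Subgroup.le_centralizer_iff.1 hLW) hzW
    have hLbot : L = ⊥ := faithful h hLH hMbot
    apply hDB
    have : K₀ ≤ Subgroup.centralizer (A : Set G) :=
      Subgroup.commutator_eq_bot_iff_le_centralizer.1 hLbot
    exact hDA.trans (Subgroup.le_centralizer_iff.1 this)
  have hlt : V ⊓ Subgroup.centralizer (A : Set G) < V ⊓ Subgroup.centralizer (B : Set G) :=
    lt_of_le_of_ne hle hne.symm
  have h7 := p_mul_card_le (hVp.to_le inf_le_left) hlt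
  -- `|A| ≤ p |B|`
  have h8 : Nat.card A ≤ Nat.card B * p := by
    have hZB : Subgroup.zpowers a ≤ Subgroup.normalizer (B : Set G) := by
      rw [Subgroup.zpowers_le]
      exact (hACB.trans (Subgroup.centralizer_le_normalizer _) :
          A ≤ Subgroup.normalizer (B : Set G)) haA
    have h1 := Cfsg.Agent.H1.card_sup_mul_card_inf (Subgroup.zpowers a) B hZB
    rw [sup_comm, hBa] at h1
    have h2 : Nat.card (Subgroup.zpowers a) ≤ p := by
      rw [Nat.card_zpowers]
      exact Nat.le_of_dvd (Fact.out : p.Prime).pos (orderOf_dvd_of_pow_eq_one (hpow a haA))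
    have h3 : 0 < Nat.card ↥(Subgroup.zpowers a ⊓ B) := Nat.card_pos
    calc Nat.card A ≤ Nat.card A * Nat.card ↥(Subgroup.zpowers a ⊓ B) := Nat.le_mul_of_pos_right _ h3
      _ = Nat.card (Subgroup.zpowers a) * Nat.card B := h1
      _ ≤ p * Nat.card B := Nat.mul_le_mul_right _ h2
      _ = Nat.card B * p := mul_comm _ _
  have h9 : ff V A ≤ ff V B := by
    unfold ff
    calc Nat.card A * Nat.card ↥(V ⊓ Subgroup.centralizer (A : Set G))
        ≤ Nat.card B * p * Nat.card ↥(V ⊓ Subgroup.centralizer (A : Set G)) :=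
          Nat.mul_le_mul_right _ h8
      _ = Nat.card B * (p * Nat.card ↥(V ⊓ Subgroup.centralizer (A : Set G))) := by ring
      _ ≤ Nat.card B * Nat.card ↥(V ⊓ Subgroup.centralizer (B : Set G)) :=
          Nat.mul_le_mul_left _ h7
  exact ⟨B, hBA, hDB', ⟨a, haA, hBa⟩, best_of_le hA hBA h9, le_antisymm (hA.1 B hBA) h9⟩

theorem ff_bot (V : Subgroup G) : ff V ⊥ = Nat.card V := by
  unfold ff
  have : Subgroup.centralizer (((⊥ : Subgroup G)) : Set G) = ⊤ := by
    rw [Subgroup.centralizer_eq_top_iff_subset]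
    intro x hx
    rw [Subgroup.coe_bot, Set.mem_singleton_iff] at hx
    rw [hx]
    exact (Subgroup.center G).one_mem
  rw [this, inf_top_eq, Subgroup.card_bot, one_mul]

theorem card_lt_of_lt [Finite G] {B A : Subgroup G} (h : B < A) : Nat.card B < Nat.card A := by
  by_contra hc
  push_neg at hc
  exact absurd (Subgroup.eq_of_le_of_card_ge h.le hc) h.ne

/-- S0610: nontrivial best offenders have `|A||C_V(A)| = |V|` -/
theorem ff_eq_card [Finite G] [Fact p.Prime] (h : Hyp p V H) :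
    ∀ (n : ℕ) (A : Subgroup G), Nat.card A = n → A ≤ H → Cfsg.IsBestOffenderOn p V A →
      ff V A = Nat.card V := by
  intro n
  induction n using Nat.strong_induction_on with
  | _ n ih =>
  intro A hn hAH hA
  by_cases hA1 : A = ⊥
  · rw [hA1, ff_bot]
  have hge : Nat.card V ≤ ff V A := by
    have := hA.1 ⊥ bot_le
    rw [← ff_bot V]
    exact this
  by_contra hne
  have hgt : Nat.card V < ff V A := lt_of_le_of_ne hge (Ne.symm hne)
  obtain ⟨B, hBA, hAB, _, hBbest, hBff⟩ := key h hAH hA le_rfl hA1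
  have hlt : B < A := lt_of_le_of_ne hBA fun hc => hAB hc.ge
  have := ih (Nat.card B) (by rw [← hn]; exact card_lt_of_lt hlt) B rfl (hBA.trans hAH) hBbest
  omega

/-! ### the commutator map of a single element -/

theorem cent_zpowers (a : G) :
    Subgroup.centralizer (Subgroup.zpowers a : Set G) = Subgroup.centralizer ({a} : Set G) := by
  rw [Subgroup.zpowers_eq_closure, Subgroup.centralizer_closure]

theorem comm_mem_of_normalizer {V : Subgroup G} {a v : G} (ha : a ∈ Subgroup.normalizer (V : Set G))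
    (hv : v ∈ V) : ⁅v, a⁆ ∈ V := by
  have h1 : a * v⁻¹ * a⁻¹ ∈ V := (Subgroup.mem_normalizer_iff.1 ha v⁻¹).1 (V.inv_mem hv)
  have : ⁅v, a⁆ = v * (a * v⁻¹ * a⁻¹) := by rw [commutatorElement_def]; group
  rw [this]
  exact V.mul_mem hv h1

/-- the commutator map `v ↦ [v,a]` on an abelian subgroup normalized by `a` -/
def commHom (V : Subgroup G) (hVc : ∀ s ∈ V, ∀ t ∈ V, s * t = t * s) (a : G)
    (ha : a ∈ Subgroup.normalizer (V : Set G)) : ↥V →* ↥V where
  toFun v := ⟨⁅(v : G), a⁆, comm_mem_of_normalizer ha v.2⟩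
  map_one' := by
    apply Subtype.ext
    simp [commutatorElement_def]
  map_mul' x y := by
    apply Subtype.ext
    simp only [Subgroup.coe_mul]
    have h1 : ⁅(x : G) * y, a⁆ = x * ⁅(y : G), a⁆ * (x : G)⁻¹ * ⁅(x : G), a⁆ := by
      simp only [commutatorElement_def]; group
    rw [h1]
    have hyV : ⁅(y : G), a⁆ ∈ V := comm_mem_of_normalizer ha y.2
    have hxV : ⁅(x : G), a⁆ ∈ V := comm_mem_of_normalizer ha x.2
    have h2 : (x : G) * ⁅(y : G), a⁆ = ⁅(y : G), a⁆ * x := hVc _ x.2 _ hyV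
    rw [h2, mul_inv_cancel_right]
    exact hVc _ hyV _ hxV

theorem commHom_coe (V : Subgroup G) (hVc : ∀ s ∈ V, ∀ t ∈ V, s * t = t * s) (a : G)
    (ha : a ∈ Subgroup.normalizer (V : Set G)) (v : ↥V) :
    ((commHom V hVc a ha v : ↥V) : G) = ⁅(v : G), a⁆ := rfl

theorem commHom_ker (V : Subgroup G) (hVc : ∀ s ∈ V, ∀ t ∈ V, s * t = t * s) (a : G)
    (ha : a ∈ Subgroup.normalizer (V : Set G)) :
    (commHom V hVc a ha).ker =
      (V ⊓ Subgroup.centralizer (Subgroup.zpowers a : Set G)).subgroupOf V := by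
  ext v
  rw [MonoidHom.mem_ker, Subgroup.mem_subgroupOf, Subgroup.mem_inf, cent_zpowers,
    Subgroup.mem_centralizer_singleton_iff]
  constructor
  · intro h
    have h1 : ⁅(v : G), a⁆ = 1 := congrArg Subtype.val h
    rw [commutatorElement_eq_one_iff_mul_comm] at h1
    exact ⟨v.2, h1⟩
  · rintro ⟨_, h⟩
    apply Subtype.ext
    rw [commHom_coe, Subgroup.coe_one, commutatorElement_eq_one_iff_mul_comm]
    exact h

theorem commHom_range [Finite G] (V : Subgroup G) (hVc : ∀ s ∈ V, ∀ t ∈ V, s * t = t * s) (a : G)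
    (ha : a ∈ Subgroup.normalizer (V : Set G)) :
    (commHom V hVc a ha).range.map V.subtype = ⁅V, Subgroup.zpowers a⁆ := by
  set R := (commHom V hVc a ha).range.map V.subtype with hR
  have hmemR : ∀ v ∈ V, ⁅v, a⁆ ∈ R := fun v hv =>
    ⟨commHom V hVc a ha ⟨v, hv⟩, ⟨⟨v, hv⟩, rfl⟩, rfl⟩
  have hRV : R ≤ V := Subgroup.map_subtype_le _
  apply le_antisymm
  · rintro x ⟨y, ⟨v, rfl⟩, rfl⟩
    exact Subgroup.commutator_mem_commutator v.2 (Subgroup.mem_zpowers a)
  · -- `a` normalizes `R`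
    have haR : ∀ r ∈ R, a * r * a⁻¹ ∈ R := by
      rintro r ⟨y, ⟨v, rfl⟩, rfl⟩
      have h1 : a * (v : G) * a⁻¹ ∈ V := (Subgroup.mem_normalizer_iff.1 ha v).1 v.2
      have : a * ((V.subtype) (commHom V hVc a ha v)) * a⁻¹ = ⁅a * (v : G) * a⁻¹, a⁆ := by
        simp only [Subgroup.coe_subtype, commHom_coe, commutatorElement_def]; group
      rw [this]
      exact hmemR _ h1
    have hpow : ∀ n : ℕ, ∀ v ∈ V, ⁅v, a ^ n⁆ ∈ R := by
      intro n
      induction n with
      | zero =>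
        intro v _
        simp only [pow_zero, commutatorElement_def]
        simp
      | succ n ih =>
        intro v hv
        have h1 : ⁅v, a ^ (n + 1)⁆ = ⁅v, a⁆ * (a * ⁅v, a ^ n⁆ * a⁻¹) := by
          rw [pow_succ']; simp only [commutatorElement_def]; group
        rw [h1]
        exact R.mul_mem (hmemR v hv) (haR _ (ih v hv))
    rw [Subgroup.commutator_le]
    intro v hv x hx
    rw [← mem_powers_iff_mem_zpowers] at hx
    obtain ⟨n, rfl⟩ := hx
    exact hpow n v hv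

theorem card_comm_zpowers [Finite G] (V : Subgroup G) (hVc : ∀ s ∈ V, ∀ t ∈ V, s * t = t * s)
    (a : G) (ha : a ∈ Subgroup.normalizer (V : Set G)) :
    Nat.card ↥(⁅V, Subgroup.zpowers a⁆) *
      Nat.card ↥(V ⊓ Subgroup.centralizer (Subgroup.zpowers a : Set G)) = Nat.card V := by
  rw [← commHom_range V hVc a ha, Subgroup.card_map_of_injective V.subtype_injective]
  have h1 := Subgroup.card_mul_index (commHom V hVc a ha).ker
  rw [Subgroup.index_ker, commHom_ker] at h1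
  have h2 : Nat.card ↥((V ⊓ Subgroup.centralizer (Subgroup.zpowers a : Set G)).subgroupOf V) =
      Nat.card ↥(V ⊓ Subgroup.centralizer (Subgroup.zpowers a : Set G)) :=
    Nat.card_congr (Subgroup.subgroupOfEquivOfLe inf_le_left).toEquiv
  rw [h2] at h1
  rw [mul_comm]; exact h1

/-- S0611 -/
theorem minimal_structure [Finite G] [Fact p.Prime] (h : Hyp p V H) {A : Subgroup G} (hAH : A ≤ H)
    (hA : Cfsg.IsBestOffenderOn p V A) (hAV : ⁅V, A⁆ ≠ ⊥)
    (hmin : ∀ B : Subgroup G, B ≤ A → Cfsg.IsBestOffenderOn p V B → ⁅V, B⁆ ≠ ⊥ → B = A) :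
    ∃ a : G, a ≠ 1 ∧ a ^ p = 1 ∧ A = Subgroup.zpowers a ∧ Nat.card A = p ∧
      Nat.card ↥(⁅V, A⁆) = p ∧ (V ⊓ Subgroup.centralizer (A : Set G)).relIndex V = p := by
  have hA1 : A ≠ ⊥ := by
    rintro rfl
    exact hAV (Subgroup.commutator_bot_right V)
  obtain ⟨B, hBA, hAB, ⟨a, haA, hBa⟩, hBbest, _⟩ := key h hAH hA le_rfl hA1
  have hB1 : B = ⊥ := by
    by_contra hB
    have h1 : ⁅V, B⁆ ≠ ⊥ := fun hc => hB (faithful h (hBA.trans hAH) hc)
    exact hAB (hmin B hBA hBbest h1).ge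
  rw [hB1, bot_sup_eq] at hBa
  have ha1 : a ≠ 1 := by
    rintro rfl
    rw [Subgroup.zpowers_one_eq_bot] at hBa
    exact hA1 hBa.symm
  have hap : a ^ p = 1 := best_pow h hAH hA a haA
  have hcard : Nat.card A = p := by
    rw [← hBa, Nat.card_zpowers]
    exact orderOf_eq_prime hap ha1
  have hff := ff_eq_card h _ A rfl hAH hA
  unfold ff at hff
  have hVc := comm_of_elem h.hV
  have hpos : 0 < Nat.card ↥(V ⊓ Subgroup.centralizer (A : Set G)) := Nat.card_pos
  have hc := card_comm_zpowers V hVc a (h.hHV (hAH haA))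
  rw [hBa] at hc
  have hrel : Nat.card V = (V ⊓ Subgroup.centralizer (A : Set G)).relIndex V *
      Nat.card ↥(V ⊓ Subgroup.centralizer (A : Set G)) :=
    Cfsg.Agent.H1.card_eq_relIndex_mul_card inf_le_left
  refine ⟨a, ha1, hap, hBa.symm, hcard, ?_, ?_⟩
  · rw [← hff, hcard] at hc
    exact Nat.eq_of_mul_eq_mul_right hpos hc
  · rw [← hff, hcard] at hrel
    exact (Nat.eq_of_mul_eq_mul_right hpos hrel).symm

/-! ### decomposition into minimal offenders -/

theorem iSup_cons {k : ℕ} (B : Fin k → Subgroup G) (C : Subgroup G) :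
    (⨆ i, (Fin.cons C B : Fin (k + 1) → Subgroup G) i) = C ⊔ ⨆ i, B i := by
  apply le_antisymm
  · apply iSup_le
    intro i
    refine Fin.cases ?_ (fun j => ?_) i
    · rw [Fin.cons_zero]; exact le_sup_left
    · rw [Fin.cons_succ]; exact (le_iSup B j).trans le_sup_right
  · apply sup_le
    · refine le_iSup_of_le (0 : Fin (k + 1)) ?_
      rw [Fin.cons_zero]
    · apply iSup_le
      intro j
      refine le_iSup_of_le j.succ ?_
      rw [Fin.cons_succ]

theorem indep_cons {k : ℕ} {A : Subgroup G} (hcomm : ∀ x ∈ A, ∀ y ∈ A, x * y = y * x)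
    (B : Fin k → Subgroup G) (C : Subgroup G) (hBA : ∀ i, B i ≤ A) (hCA : C ≤ A)
    (hB : iSupIndep B) (hC : Disjoint C (⨆ i, B i)) :
    iSupIndep (Fin.cons C B : Fin (k + 1) → Subgroup G) := by
  intro i
  refine Fin.cases ?_ (fun i' => ?_) i
  · rw [Fin.cons_zero]
    refine hC.mono_right ?_
    apply iSup₂_le
    intro j hj
    obtain ⟨j', rfl⟩ := Fin.exists_succ_eq.2 hj
    rw [Fin.cons_succ]
    exact le_iSup B j'
  · rw [Fin.cons_succ]
    set S := ⨆ j, ⨆ (_ : j ≠ i'), B j with hS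
    have hle : (⨆ j, ⨆ (_ : j ≠ i'.succ), (Fin.cons C B : Fin (k + 1) → Subgroup G) j) ≤ C ⊔ S := by
      apply iSup₂_le
      intro j
      refine Fin.cases ?_ (fun j' => ?_) j
      · intro _; rw [Fin.cons_zero]; exact le_sup_left
      · intro hj
        rw [Fin.cons_succ]
        have hj' : j' ≠ i' := fun hc => hj (by rw [hc])
        exact (le_iSup₂_of_le (f := fun j (_ : j ≠ i') => B j) j' hj' le_rfl).trans le_sup_right
    refine Disjoint.mono_right hle ?_
    have hSA : S ≤ A := iSup₂_le fun j _ => hBA j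
    have hSn : S ≤ Subgroup.normalizer (C : Set G) := by
      intro s hs
      have : s ∈ Subgroup.centralizer (C : Set G) := by
        rw [Subgroup.mem_centralizer_iff]
        intro c hc
        exact hcomm c (hCA hc) s (hSA hs)
      exact Subgroup.centralizer_le_normalizer _ this
    rw [Subgroup.disjoint_def]
    intro x hx1 hx2
    obtain ⟨c, hc, s, hs, rfl⟩ := (Cfsg.Agent.H1.mem_sup_of_le_normalizer C S hSn).1 hx2
    have hSle : S ≤ ⨆ i, B i := iSup₂_le fun j _ => le_iSup B j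
    have hc1 : c = 1 := by
      have h1 : c ∈ ⨆ i, B i := by
        have : c = (c * s) * s⁻¹ := by group
        rw [this]
        exact Subgroup.mul_mem _ ((le_iSup B i') hx1) (Subgroup.inv_mem _ (hSle hs))
      exact Subgroup.disjoint_def.1 hC hc h1
    rw [hc1, one_mul] at hx1 ⊢
    exact Subgroup.disjoint_def.1 (hB i') hx1 hs

theorem card_le_of_cocyclic [Fact p.Prime] {A B : Subgroup G}
    (hcomm : ∀ x ∈ A, ∀ y ∈ A, x * y = y * x) (hBA : B ≤ A) {a : G} (haA : a ∈ A)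
    (hap : a ^ p = 1) (hBa : B ⊔ Subgroup.zpowers a = A) : Nat.card A ≤ Nat.card B * p := by
  have hZB : Subgroup.zpowers a ≤ Subgroup.normalizer (B : Set G) := by
    rw [Subgroup.zpowers_le]
    apply Subgroup.centralizer_le_normalizer
    rw [Subgroup.mem_centralizer_iff]
    intro b hb
    exact hcomm b (hBA hb) a haA
  have h1 := Cfsg.Agent.H1.card_sup_mul_card_inf (Subgroup.zpowers a) B hZB
  rw [sup_comm, hBa] at h1
  have h2 : Nat.card (Subgroup.zpowers a) ≤ p := by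
    rw [Nat.card_zpowers]
    exact Nat.le_of_dvd (Fact.out : p.Prime).pos (orderOf_dvd_of_pow_eq_one hap)
  rcases Nat.eq_zero_or_pos (Nat.card ↥(Subgroup.zpowers a ⊓ B)) with h0 | h3
  · have hA0 : Nat.card A = 0 := by
      have : Nat.card ↥(Subgroup.zpowers a ⊓ B) ≠ 0 := by
        have hfin : Finite ↥(Subgroup.zpowers a) := by
          apply Nat.finite_of_card_ne_zero
          rw [Nat.card_zpowers]
          exact (orderOf_pos_iff.2 (isOfFinOrder_iff_pow_eq_one.2
            ⟨p, (Fact.out : p.Prime).pos, hap⟩)).ne'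
        haveI : Finite ↥(Subgroup.zpowers a ⊓ B) :=
          Finite.of_injective (Subgroup.inclusion (inf_le_left : Subgroup.zpowers a ⊓ B ≤ _))
            (Subgroup.inclusion_injective _)
        exact Nat.card_pos.ne'
      exact absurd h0 this
    omega
  calc Nat.card A ≤ Nat.card A * Nat.card ↥(Subgroup.zpowers a ⊓ B) := Nat.le_mul_of_pos_right _ h3
    _ = Nat.card (Subgroup.zpowers a) * Nat.card B := h1
    _ ≤ p * Nat.card B := Nat.mul_le_mul_right _ h2
    _ = Nat.card B * p := mul_comm _ _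

/-- a best offender of order `p` in `A` outside a given best offender `B₀` of index `p` -/
theorem exists_atom_not_le [Finite G] [Fact p.Prime] (h : Hyp p V H) {A B₀ : Subgroup G}
    (hAH : A ≤ H) (hB₀A : B₀ ≤ A) :
    ∀ (n : ℕ) (C : Subgroup G), Nat.card C = n → C ≤ A → Cfsg.IsBestOffenderOn p V C → ¬ C ≤ B₀ →
      ∃ C' : Subgroup G, C' ≤ A ∧ Cfsg.IsBestOffenderOn p V C' ∧ ¬ C' ≤ B₀ ∧ C' ⊓ B₀ = ⊥ := by
  intro n
  induction n using Nat.strong_induction_on with
  | _ n ih =>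
  intro C hn hCA hC hCB
  by_cases hD : C ⊓ B₀ = ⊥
  · exact ⟨C, hCA, hC, hCB, hD⟩
  have hCH : C ≤ H := hCA.trans hAH
  obtain ⟨C₁, hC₁C, hDC₁, ⟨c, hcC, hC₁c⟩, hC₁best, _⟩ := key h hCH hC inf_le_left hD
  have hcomm := best_comm h hCH hC
  have hcard := card_le_of_cocyclic hcomm hC₁C hcC (best_pow h hCH hC c hcC) hC₁c
  have hC₁B : ¬ C₁ ≤ B₀ := by
    intro hc
    have h1 : C₁ ≤ C ⊓ B₀ := le_inf hC₁C hc
    have h2 : C ⊓ B₀ < C := lt_of_le_of_ne inf_le_left fun he => hCB (he ▸ inf_le_right)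
    have h3 := p_mul_card_le (best_isPGroup h hCH hC) h2
    have h4 : Nat.card ↥(C ⊓ B₀) ≤ Nat.card C₁ := by
      have hp := (Fact.out : p.Prime).pos
      have : p * Nat.card ↥(C ⊓ B₀) ≤ p * Nat.card C₁ := by
        calc p * Nat.card ↥(C ⊓ B₀) ≤ Nat.card C := h3
          _ ≤ Nat.card C₁ * p := hcard
          _ = p * Nat.card C₁ := mul_comm _ _
      exact Nat.le_of_mul_le_mul_left this hp
    exact hDC₁ (Subgroup.eq_of_le_of_card_ge h1 h4).ge
  have hlt : C₁ < C := lt_of_le_of_ne hC₁C fun he => hDC₁ (he ▸ inf_le_left)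
  exact ih (Nat.card C₁) (by rw [← hn]; exact card_lt_of_lt hlt) C₁ rfl (hC₁C.trans hCA)
    hC₁best hC₁B

/-- S0612 -/
theorem decomposition [Finite G] [Fact p.Prime] (h : Hyp p V H) :
    ∀ (n : ℕ) (A : Subgroup G), Nat.card A = n → A ≤ H → Cfsg.IsBestOffenderOn p V A →
      ∃ (k : ℕ) (B : Fin k → Subgroup G),
        (∀ i, B i ≤ A ∧ Cfsg.IsBestOffenderOn p V (B i) ∧ ⁅V, B i⁆ ≠ ⊥ ∧
          ∀ C : Subgroup G, C ≤ B i → Cfsg.IsBestOffenderOn p V C → ⁅V, C⁆ ≠ ⊥ → C = B i) ∧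
        iSupIndep B ∧ ⨆ i, B i = A := by
  intro n
  induction n using Nat.strong_induction_on with
  | _ n ih =>
  intro A hn hAH hA
  by_cases hA1 : A = ⊥
  · refine ⟨0, fun i => i.elim0, fun i => i.elim0, fun i => i.elim0, ?_⟩
    rw [hA1]
    exact iSup_of_empty _
  obtain ⟨B₀, hB₀A, hAB₀, ⟨a, haA, hB₀a⟩, hB₀best, _⟩ := key h hAH hA le_rfl hA1
  have hcomm := best_comm h hAH hA
  have hAp := best_isPGroup h hAH hA
  have hcard := card_le_of_cocyclic hcomm hB₀A haA (best_pow h hAH hA a haA) hB₀a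
  have hlt : B₀ < A := lt_of_le_of_ne hB₀A fun he => hAB₀ he.ge
  obtain ⟨C, hCA, hCbest, hCB₀, hCi⟩ :=
    exists_atom_not_le h hAH hB₀A _ A rfl le_rfl hA hAB₀
  have hC1 : C ≠ ⊥ := fun hc => hCB₀ (hc ▸ bot_le)
  -- `C ⊔ B₀ = A`
  have hsup : C ⊔ B₀ = A := by
    have h1 : B₀ < C ⊔ B₀ := lt_of_le_of_ne le_sup_right fun he => hCB₀ (he ▸ le_sup_left)
    have h2 : C ⊔ B₀ ≤ A := sup_le hCA hB₀A
    have h3 := p_mul_card_le (hAp.to_le h2) h1
    apply Subgroup.eq_of_le_of_card_ge h2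
    calc Nat.card A ≤ Nat.card B₀ * p := hcard
      _ = p * Nat.card B₀ := mul_comm _ _
      _ ≤ _ := h3
  -- `|C| = p`
  have hCcard : Nat.card C = p := by
    have hCn : C ≤ Subgroup.normalizer (B₀ : Set G) := by
      intro c hc
      apply Subgroup.centralizer_le_normalizer
      rw [Subgroup.mem_centralizer_iff]
      intro b hb
      exact hcomm b (hB₀A hb) c (hCA hc)
    have h1 := Cfsg.Agent.H1.card_sup_mul_card_inf C B₀ hCn
    rw [hsup, hCi, Subgroup.card_bot, mul_one] at h1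
    have h2 : Nat.card C ≤ p := by
      have hpos : 0 < Nat.card B₀ := Nat.card_pos
      have : Nat.card C * Nat.card B₀ ≤ p * Nat.card B₀ := by
        rw [← h1, mul_comm p]; exact hcard
      exact Nat.le_of_mul_le_mul_right this hpos
    have h3 : p ≤ Nat.card C := by
      have := p_mul_card_le (hAp.to_le hCA) (bot_lt_iff_ne_bot.2 hC1)
      rwa [Subgroup.card_bot, mul_one] at this
    omega
  have hCatom : Cfsg.IsBestOffenderOn p V C ∧ ⁅V, C⁆ ≠ ⊥ ∧
      ∀ C' : Subgroup G, C' ≤ C → Cfsg.IsBestOffenderOn p V C' → ⁅V, C'⁆ ≠ ⊥ → C' = C := by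
    refine ⟨hCbest, fun hc => hC1 (faithful h (hCA.trans hAH) hc), ?_⟩
    intro C' hC'C _ hVC'
    have hC'1 : C' ≠ ⊥ := by
      rintro rfl
      exact hVC' (Subgroup.commutator_bot_right V)
    have h3 := p_mul_card_le ((hAp.to_le hCA).to_le hC'C) (bot_lt_iff_ne_bot.2 hC'1)
    rw [Subgroup.card_bot, mul_one] at h3
    exact Subgroup.eq_of_le_of_card_ge hC'C (by omega)
  obtain ⟨k, B, hB, hBind, hBsup⟩ :=
    ih (Nat.card B₀) (by rw [← hn]; exact card_lt_of_lt hlt) B₀ rfl (hB₀A.trans hAH) hB₀best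
  refine ⟨k + 1, Fin.cons C B, ?_, ?_, ?_⟩
  · intro i
    refine Fin.cases ?_ (fun j => ?_) i
    · rw [Fin.cons_zero]; exact ⟨hCA, hCatom⟩
    · rw [Fin.cons_succ]; exact ⟨(hB j).1.trans hB₀A, (hB j).2⟩
  · apply indep_cons hcomm B C (fun i => (hB i).1.trans hB₀A) hCA hBind
    rw [hBsup, disjoint_iff]
    exact hCi
  · rw [iSup_cons, hBsup, hsup]

end Cfsg.Agent.Lib.Helper4.FFPair
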