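import Mathlib
import Cfsg.Prelude.Def_PLocal
import Cfsg.Agent.S0027
import Cfsg.Agent.Lib.Helper4.FFPair

set_option autoImplicit false

namespace Cfsg.Agent.Lib.Helper4.FFPair

open scoped commutatorElement
open Cfsg.Agent.Lib.Helper4.Offender

variable {G : Type*} [Group G] {p : ℕ} {V H : Subgroup G}

/-- commutators with a generated subgroup -/
theorem comm_le_of_closure {V W : Subgroup G} (hVc : ∀ s ∈ V, ∀ t ∈ V, s * t = t * s) (hWV : W ≤ V)
    (S : Set G) (hS : ∀ s ∈ S, s ∈ Subgroup.normalizer (V : Set G) ∧ ∀ v ∈ V, ⁅v, s⁆ ∈ W) :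
    ⁅V, Subgroup.closure S⁆ ≤ W := by
  rw [Subgroup.commutator_le]
  intro v hv g hg
  have key : g ∈ Subgroup.normalizer (V : Set G) ∧ ∀ v ∈ V, ⁅v, g⁆ ∈ W := by
    induction hg using Subgroup.closure_induction with
    | mem x hx => exact hS x hx
    | one =>
      refine ⟨Subgroup.one_mem _, fun v _ => ?_⟩
      simp [commutatorElement_def]
    | mul x y _ _ hx hy =>
      refine ⟨Subgroup.mul_mem _ hx.1 hy.1, fun v hv => ?_⟩
      have h1 : ⁅v, x * y⁆ = ⁅v, x⁆ * (x * ⁅v, y⁆ * x⁻¹) := by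
        simp only [commutatorElement_def]; group
      rw [h1]
      have hw : ⁅v, y⁆ ∈ W := hy.2 v hv
      have h2 : x * ⁅v, y⁆ * x⁻¹ = ⁅⁅v, y⁆, x⁆⁻¹ * ⁅v, y⁆ := by
        simp only [commutatorElement_def]; group
      rw [h2]
      exact W.mul_mem (hx.2 v hv) (W.mul_mem (W.inv_mem (hx.2 _ (hWV hw))) hw)
    | inv x _ hx =>
      refine ⟨Subgroup.inv_mem _ hx.1, fun v hv => ?_⟩
      have h1 : ⁅v, x⁻¹⁆ = ⁅x⁻¹ * v * x, x⁆⁻¹ := by
        simp only [commutatorElement_def]; group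
      rw [h1]
      have h2 : x⁻¹ * v * x ∈ V := by
        have := (Subgroup.mem_normalizer_iff.1 (Subgroup.inv_mem _ hx.1) v).1 hv
        simpa using this
      exact W.inv_mem (hx.2 _ h2)
  exact key.2 v hv

/-- a `p'`-subgroup of `H` stabilizing a chain of length three in `V` is trivial -/
theorem eq_bot_of_chain [Finite G] [Fact p.Prime] (h : Hyp p V H) {Q : Subgroup G} (hQH : Q ≤ H)
    (hQp : (Nat.card Q).Coprime p) (hsolv : Group.IsSolvable Q) (W₁ W₂ : Subgroup G)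
    (h1 : ⁅V, Q⁆ ≤ W₁) (h2 : ⁅W₁, Q⁆ ≤ W₂) (h3 : ⁅W₂, Q⁆ = ⊥) : Q = ⊥ := by
  have hVp : IsPGroup p V := isPGroup_of_elem h.hV
  have hcop : (Nat.card Q).Coprime (Nat.card V) := by
    obtain ⟨n, hn⟩ := IsPGroup.iff_card.1 hVp
    rw [hn]; exact Nat.Coprime.pow_right n hQp
  have h27 := Cfsg.Agent.S0027.result Q V (hQH.trans h.hHV) hcop (Or.inl hsolv)
  apply faithful h hQH
  have e1 : ⁅V, Q⁆ ≤ W₂ := by
    rw [← h27]; exact (Subgroup.commutator_mono h1 le_rfl).trans h2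
  have e2 : ⁅V, Q⁆ ≤ ⊥ := by
    rw [← h27, ← h3]; exact Subgroup.commutator_mono e1 le_rfl
  exact le_bot_iff.1 e2

/-- atoms: generators of minimal offenders -/
structure IsAtom (p : ℕ) (V H : Subgroup G) (a : G) : Prop where
  mem : a ∈ H
  ne_one : a ≠ 1
  pow : a ^ p = 1
  card : Nat.card ↥(⁅V, Subgroup.zpowers a⁆) = p

theorem exists_atom [Finite G] [Fact p.Prime] (h : Hyp p V H) {A : Subgroup G} (hAH : A ≤ H)
    (hA : Cfsg.IsBestOffenderOn p V A) (hAV : ⁅V, A⁆ ≠ ⊥)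
    (hmin : ∀ B : Subgroup G, B ≤ A → Cfsg.IsBestOffenderOn p V B → ⁅V, B⁆ ≠ ⊥ → B = A) :
    ∃ a : G, IsAtom p V H a ∧ A = Subgroup.zpowers a := by
  obtain ⟨a, ha1, hap, hAa, _, hc, _⟩ := minimal_structure h hAH hA hAV hmin
  refine ⟨a, ⟨hAH (hAa ▸ Subgroup.mem_zpowers a), ha1, hap, hAa ▸ hc⟩, hAa⟩

namespace IsAtom

variable {a : G}

theorem card_zpowers [Fact p.Prime] (ha : IsAtom p V H a) : Nat.card (Subgroup.zpowers a) = p := by
  rw [Nat.card_zpowers]; exact orderOf_eq_prime ha.pow ha.ne_one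

theorem isPGroup [Fact p.Prime] (ha : IsAtom p V H a) : IsPGroup p (Subgroup.zpowers a) :=
  IsPGroup.of_card (n := 1) (by rw [pow_one]; exact ha.card_zpowers)

theorem zpowers_le (ha : IsAtom p V H a) : Subgroup.zpowers a ≤ H :=
  Subgroup.zpowers_le.2 ha.mem

theorem comm_le (h : Hyp p V H) (ha : IsAtom p V H a) : ⁅V, Subgroup.zpowers a⁆ ≤ V :=
  Subgroup.le_normalizer_iff_commutator_le_left.1 (ha.zpowers_le.trans h.hHV)

/-- atoms act quadratically -/
theorem quadratic [Finite G] [Fact p.Prime] (h : Hyp p V H) (ha : IsAtom p V H a) :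
    ⁅V, Subgroup.zpowers a⁆ ≤ Subgroup.centralizer (Subgroup.zpowers a : Set G) := by
  set P := ⁅V, Subgroup.zpowers a⁆ with hP
  have hPV : P ≤ V := ha.comm_le h
  have hVp : IsPGroup p V := isPGroup_of_elem h.hV
  have hAV : Subgroup.zpowers a ≤ Subgroup.normalizer (V : Set G) := ha.zpowers_le.trans h.hHV
  have hAP : Subgroup.zpowers a ≤ Subgroup.normalizer (P : Set G) :=
    norm_comm hAV Subgroup.le_normalizer
  have hne : P ≠ ⊥ := by
    intro hc
    have := ha.card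
    rw [← hP, hc, Subgroup.card_bot] at this
    exact (Fact.out : p.Prime).one_lt.ne this
  have hlt := Cfsg.Agent.H1.commutator_lt_of_pgroup P (Subgroup.zpowers a) (hVp.to_le hPV)
    ha.isPGroup hAP hne
  have hbot : ⁅P, Subgroup.zpowers a⁆ = ⊥ := by
    have h1 : Nat.card ↥(⁅P, Subgroup.zpowers a⁆) ∣ p := by
      rw [← ha.card]; exact Subgroup.card_dvd_of_le hlt.le
    rcases (Nat.dvd_prime (Fact.out : p.Prime)).1 h1 with h2 | h2
    · exact Subgroup.card_eq_one.1 h2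
    · exfalso
      have := card_lt_of_lt hlt
      rw [h2, ha.card] at this
      exact lt_irrefl _ this
  exact Subgroup.commutator_eq_bot_iff_le_centralizer.1 hbot

theorem index [Finite G] [Fact p.Prime] (h : Hyp p V H) (ha : IsAtom p V H a) :
    p * Nat.card ↥(V ⊓ Subgroup.centralizer (Subgroup.zpowers a : Set G)) = Nat.card V := by
  have := card_comm_zpowers V (comm_of_elem h.hV) a (h.hHV ha.mem)
  rw [ha.card] at this
  exact this

theorem conj [Finite G] (h : Hyp p V H) (ha : IsAtom p V H a) {x : G} (hx : x ∈ H) :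
    IsAtom p V H (x * a * x⁻¹) := by
  refine ⟨H.mul_mem (H.mul_mem hx ha.mem) (H.inv_mem hx), ?_, ?_, ?_⟩
  · intro hc
    apply ha.ne_one
    have : a = x⁻¹ * (x * a * x⁻¹) * x := by group
    rw [this, hc]; group
  · rw [conj_pow, ha.pow]; group
  · have h1 : Subgroup.zpowers (x * a * x⁻¹) =
        (Subgroup.zpowers a).map (MulAut.conj x).toMonoidHom := by
      rw [MonoidHom.map_zpowers]; rfl
    have h2 : V.map (MulAut.conj x).toMonoidHom = V :=
      Subgroup.mem_normalizer_iff_map_conj_eq.1 (h.hHV hx)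
    have h3 : ⁅V, Subgroup.zpowers (x * a * x⁻¹)⁆ =
        (⁅V, Subgroup.zpowers a⁆).map (MulAut.conj x).toMonoidHom := by
      rw [Subgroup.map_commutator, h2, h1]
    rw [h3, Subgroup.card_map_of_injective (MulAut.conj x).injective]
    exact ha.card

end IsAtom

end Cfsg.Agent.Lib.Helper4.FFPair
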