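import Mathlib
import Cfsg.Prelude.Def_PLocal
import Cfsg.Agent.Lib.Helper4.FFAtom

set_option autoImplicit false

namespace Cfsg.Agent.Lib.Helper4.FFPair

open scoped commutatorElement
open Cfsg.Agent.Lib.Helper4.Offender

variable {G : Type*} [Group G] {p : ℕ} {V H : Subgroup G}

theorem isSolvable_zpowers (g : G) : Group.IsSolvable (Subgroup.zpowers g) := by
  have : IsCyclic (Subgroup.zpowers g) := inferInstance
  let _ : CommGroup (Subgroup.zpowers g) := IsCyclic.commGroup
  infer_instance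

theorem zpowers_sup_eq_closure (a b : G) :
    Subgroup.zpowers a ⊔ Subgroup.zpowers b = Subgroup.closure {a, b} := by
  rw [Subgroup.zpowers_eq_closure, Subgroup.zpowers_eq_closure, ← Subgroup.closure_union]
  rfl

theorem inf_eq_bot_of_prime_card [Finite G] [Fact p.Prime] {X Y : Subgroup G}
    (hX : Nat.card X = p) (hY : Nat.card Y = p) (hne : X ≠ Y) : X ⊓ Y = ⊥ := by
  have h1 : Nat.card ↥(X ⊓ Y) ∣ p := hX ▸ Subgroup.card_dvd_of_le inf_le_left
  rcases (Nat.dvd_prime (Fact.out : p.Prime)).1 h1 with h2 | h2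
  · exact Subgroup.card_eq_one.1 h2
  · exfalso
    apply hne
    have e1 : X ⊓ Y = X := Subgroup.eq_of_le_of_card_ge inf_le_left (by rw [h2, hX])
    have e2 : X ⊓ Y = Y := Subgroup.eq_of_le_of_card_ge inf_le_right (by rw [h2, hY])
    rw [← e1, e2]

/-- a pair of distinct atoms congruent modulo `O_{p'}(H)` -/
structure IsPair (p : ℕ) (V H : Subgroup G) (a b : G) : Prop where
  ha : IsAtom p V H a
  hb : IsAtom p V H b
  hK : b * a⁻¹ ∈ KK p H
  hne : a ≠ b

namespace IsPair

variable {a b : G}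

theorem symm (hp : IsPair p V H a b) : IsPair p V H b a := by
  refine ⟨hp.hb, hp.ha, ?_, hp.hne.symm⟩
  have : a * b⁻¹ = (b * a⁻¹)⁻¹ := by group
  rw [this]
  exact Subgroup.inv_mem _ hp.hK

theorem of_conj [Finite G] (h : Hyp p V H) (ha : IsAtom p V H a) {x : G} (hx : x ∈ KK p H)
    (hxa : x ∉ Subgroup.centralizer (Subgroup.zpowers a : Set G)) :
    IsPair p V H a (x * a * x⁻¹) := by
  refine ⟨ha, ha.conj h (KK_le p H hx), ?_, ?_⟩
  · have h1 : x * a * x⁻¹ * a⁻¹ = x * (a * x⁻¹ * a⁻¹) := by group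
    rw [h1]
    refine Subgroup.mul_mem _ hx ?_
    exact (Subgroup.mem_normalizer_iff.1 (le_normalizer_KK p H ha.mem) x⁻¹).1
      (Subgroup.inv_mem _ hx)
  · intro hc
    apply hxa
    rw [cent_zpowers, Subgroup.mem_centralizer_singleton_iff]
    calc x * a = (x * a * x⁻¹) * x := by group
      _ = a * x := by rw [← hc]

/-- `L = ⟨a, b⟩` -/
def LL (a b : G) : Subgroup G := Subgroup.zpowers a ⊔ Subgroup.zpowers b

/-- `W = [V,a][V,b]` -/
def WW (V : Subgroup G) (a b : G) : Subgroup G :=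
  ⁅V, Subgroup.zpowers a⁆ ⊔ ⁅V, Subgroup.zpowers b⁆

theorem LL_le (hp : IsPair p V H a b) : LL a b ≤ H := sup_le hp.ha.zpowers_le hp.hb.zpowers_le

theorem WW_le (h : Hyp p V H) (hp : IsPair p V H a b) : WW V a b ≤ V :=
  sup_le (hp.ha.comm_le h) (hp.hb.comm_le h)

theorem comm_LL_le (h : Hyp p V H) (hp : IsPair p V H a b) : ⁅V, LL a b⁆ ≤ WW V a b := by
  unfold LL
  rw [zpowers_sup_eq_closure]
  apply comm_le_of_closure (comm_of_elem h.hV) (WW_le h hp)
  intro s hs
  rcases hs with rfl | hs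
  · exact ⟨h.hHV hp.ha.mem, fun v hv => le_sup_left (a := ⁅V, Subgroup.zpowers s⁆)
      (Subgroup.commutator_mem_commutator hv (Subgroup.mem_zpowers s))⟩
  · rw [Set.mem_singleton_iff] at hs
    subst hs
    exact ⟨h.hHV hp.hb.mem, fun v hv => le_sup_right (b := ⁅V, Subgroup.zpowers s⁆)
      (Subgroup.commutator_mem_commutator hv (Subgroup.mem_zpowers s))⟩

theorem centralizer_LL (a b : G) :
    Subgroup.centralizer (LL a b : Set G) =
      Subgroup.centralizer (Subgroup.zpowers a : Set G) ⊓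
        Subgroup.centralizer (Subgroup.zpowers b : Set G) := centralizer_sup' _ _

/-- the `p'`-element `b a⁻¹` -/
theorem hel_mem (a b : G) : b * a⁻¹ ∈ LL a b :=
  Subgroup.mul_mem _ (le_sup_right (a := Subgroup.zpowers a) (Subgroup.mem_zpowers b))
    (Subgroup.inv_mem _ (le_sup_left (b := Subgroup.zpowers b) (Subgroup.mem_zpowers a)))

theorem hel_ne_one (hp : IsPair p V H a b) : b * a⁻¹ ≠ 1 := by
  intro hc
  apply hp.hne
  have : b = (b * a⁻¹) * a := by group
  rw [this, hc, one_mul]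

/-- the chain argument: `⟨b a⁻¹⟩` cannot stabilize a chain of length three -/
theorem chain_false [Finite G] [Fact p.Prime] (h : Hyp p V H) (hp : IsPair p V H a b)
    (W₁ W₂ : Subgroup G) (h1 : ⁅V, LL a b⁆ ≤ W₁) (h2 : ⁅W₁, LL a b⁆ ≤ W₂)
    (h3 : ⁅W₂, LL a b⁆ = ⊥) : False := by
  set Q := Subgroup.zpowers (b * a⁻¹) with hQ
  have hQL : Q ≤ LL a b := Subgroup.zpowers_le.2 (hel_mem a b)
  have hQK : Q ≤ KK p H := Subgroup.zpowers_le.2 hp.hK
  have hQp : (Nat.card Q).Coprime p :=
    Nat.Coprime.coprime_dvd_left (Subgroup.card_dvd_of_le hQK) (KK_coprime p H)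
  have := eq_bot_of_chain h (hQL.trans hp.LL_le) hQp (isSolvable_zpowers _) W₁ W₂
    ((Subgroup.commutator_mono le_rfl hQL).trans h1)
    ((Subgroup.commutator_mono le_rfl hQL).trans h2)
    (le_bot_iff.1 (h3 ▸ Subgroup.commutator_mono le_rfl hQL))
  rw [hQ, Subgroup.zpowers_eq_bot] at this
  exact hp.hel_ne_one this

theorem not_le_centralizer [Finite G] [Fact p.Prime] (h : Hyp p V H) (hp : IsPair p V H a b) :
    ¬ WW V a b ≤ Subgroup.centralizer (LL a b : Set G) := by
  intro hc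
  apply chain_false h hp (WW V a b) ⊥ (comm_LL_le h hp)
  · rw [Subgroup.commutator_eq_bot_iff_le_centralizer.2 hc]
  · exact Subgroup.commutator_bot_left _

theorem comm_ne [Finite G] [Fact p.Prime] (h : Hyp p V H) (hp : IsPair p V H a b) :
    ⁅V, Subgroup.zpowers a⁆ ≠ ⁅V, Subgroup.zpowers b⁆ := by
  intro hc
  apply not_le_centralizer h hp
  rw [centralizer_LL]
  unfold WW
  rw [hc, sup_idem]
  refine le_inf ?_ (hp.hb.quadratic h)
  rw [← hc]
  exact hp.ha.quadratic h

theorem cent_ne [Finite G] [Fact p.Prime] (h : Hyp p V H) (hp : IsPair p V H a b) :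
    V ⊓ Subgroup.centralizer (Subgroup.zpowers a : Set G) ≠
      V ⊓ Subgroup.centralizer (Subgroup.zpowers b : Set G) := by
  intro hc
  apply not_le_centralizer h hp
  rw [centralizer_LL]
  have h1 : ⁅V, Subgroup.zpowers a⁆ ≤ V ⊓ Subgroup.centralizer (Subgroup.zpowers a : Set G) :=
    le_inf (hp.ha.comm_le h) (hp.ha.quadratic h)
  have h2 : ⁅V, Subgroup.zpowers b⁆ ≤ V ⊓ Subgroup.centralizer (Subgroup.zpowers b : Set G) :=
    le_inf (hp.hb.comm_le h) (hp.hb.quadratic h)
  apply sup_le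
  · exact le_inf (h1.trans inf_le_right) ((hc ▸ h1).trans inf_le_right)
  · exact le_inf ((hc ▸ h2).trans inf_le_right) (h2.trans inf_le_right)

theorem comm_inf [Finite G] [Fact p.Prime] (h : Hyp p V H) (hp : IsPair p V H a b) :
    ⁅V, Subgroup.zpowers a⁆ ⊓ ⁅V, Subgroup.zpowers b⁆ = ⊥ :=
  inf_eq_bot_of_prime_card hp.ha.card hp.hb.card (comm_ne h hp)

theorem le_normalizer_of_le (h : Hyp p V H) {X Y : Subgroup G} (hX : X ≤ V) (hY : Y ≤ V) :
    X ≤ Subgroup.normalizer (Y : Set G) :=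
  (hX.trans (le_centralizer_of_elem h.hV)).trans
    ((cent_anti hY).trans (Subgroup.centralizer_le_normalizer _))

theorem card_WW [Finite G] [Fact p.Prime] (h : Hyp p V H) (hp : IsPair p V H a b) :
    Nat.card (WW V a b) = p ^ 2 := by
  have h1 := Cfsg.Agent.H1.card_sup_mul_card_inf ⁅V, Subgroup.zpowers a⁆ ⁅V, Subgroup.zpowers b⁆
    (le_normalizer_of_le h (hp.ha.comm_le h) (hp.hb.comm_le h))
  rw [comm_inf h hp, Subgroup.card_bot, mul_one, hp.ha.card, hp.hb.card] at h1
  unfold WW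
  rw [h1, pow_two]

theorem cent_sup [Finite G] [Fact p.Prime] (h : Hyp p V H) (hp : IsPair p V H a b) :
    (V ⊓ Subgroup.centralizer (Subgroup.zpowers a : Set G)) ⊔
      (V ⊓ Subgroup.centralizer (Subgroup.zpowers b : Set G)) = V := by
  set Ca := V ⊓ Subgroup.centralizer (Subgroup.zpowers a : Set G) with hCa
  set Cb := V ⊓ Subgroup.centralizer (Subgroup.zpowers b : Set G) with hCb
  have hVp : IsPGroup p V := isPGroup_of_elem h.hV
  have hle : Ca ⊔ Cb ≤ V := sup_le inf_le_left inf_le_left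
  have ia := hp.ha.index h
  have ib := hp.hb.index h
  have hlt : Ca < Ca ⊔ Cb := by
    refine lt_of_le_of_ne le_sup_left fun hc => cent_ne h hp ?_
    have h1 : Cb ≤ Ca := hc ▸ le_sup_right
    exact (Subgroup.eq_of_le_of_card_ge h1 (by
      have hpos := (Fact.out : p.Prime).pos
      have : p * Nat.card Ca = p * Nat.card Cb := by rw [ia, ib]
      exact (Nat.eq_of_mul_eq_mul_left hpos this).le)).symm
  have h2 := p_mul_card_le (hVp.to_le hle) hlt
  exact Subgroup.eq_of_le_of_card_ge hle (by rw [← ia]; exact h2)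

/-- `C_V(L)` -/
theorem cent_LL_eq (a b : G) :
    V ⊓ Subgroup.centralizer (LL a b : Set G) =
      (V ⊓ Subgroup.centralizer (Subgroup.zpowers a : Set G)) ⊓
        (V ⊓ Subgroup.centralizer (Subgroup.zpowers b : Set G)) := by
  rw [centralizer_LL]
  ext g; simp only [Subgroup.mem_inf]; tauto

theorem card_cent_LL [Finite G] [Fact p.Prime] (h : Hyp p V H) (hp : IsPair p V H a b) :
    p ^ 2 * Nat.card ↥(V ⊓ Subgroup.centralizer (LL a b : Set G)) = Nat.card V := by
  rw [cent_LL_eq]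
  set Ca := V ⊓ Subgroup.centralizer (Subgroup.zpowers a : Set G) with hCa
  set Cb := V ⊓ Subgroup.centralizer (Subgroup.zpowers b : Set G) with hCb
  have ia := hp.ha.index h
  have ib := hp.hb.index h
  have h1 := Cfsg.Agent.H1.card_sup_mul_card_inf Ca Cb
    (le_normalizer_of_le h inf_le_left inf_le_left)
  rw [cent_sup h hp] at h1
  have hpos : 0 < Nat.card V := Nat.card_pos
  have : Nat.card V * (p ^ 2 * Nat.card ↥(Ca ⊓ Cb)) = Nat.card V * Nat.card V := by
    calc Nat.card V * (p ^ 2 * Nat.card ↥(Ca ⊓ Cb))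
        = p ^ 2 * (Nat.card V * Nat.card ↥(Ca ⊓ Cb)) := by ring
      _ = p ^ 2 * (Nat.card Ca * Nat.card Cb) := by rw [h1]
      _ = (p * Nat.card Ca) * (p * Nat.card Cb) := by ring
      _ = _ := by rw [ia, ib]
  exact Nat.eq_of_mul_eq_mul_left hpos this

theorem zpowers_le_normalizer_WW (h : Hyp p V H) (hp : IsPair p V H a b) :
    Subgroup.zpowers a ≤ Subgroup.normalizer (WW V a b : Set G) := by
  rw [Subgroup.le_normalizer_iff_commutator_le_left]
  exact (Subgroup.commutator_mono (WW_le h hp) le_rfl).trans le_sup_left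

theorem comm_not_le [Finite G] [Fact p.Prime] (h : Hyp p V H) (hp : IsPair p V H a b) :
    ¬ ⁅V, Subgroup.zpowers a⁆ ≤ Subgroup.centralizer (Subgroup.zpowers b : Set G) := by
  intro hc
  set Pa := ⁅V, Subgroup.zpowers a⁆ with hPa
  have hWV := WW_le h hp
  have hWc : ∀ s ∈ WW V a b, ∀ t ∈ WW V a b, s * t = t * s := fun s hs t ht =>
    comm_of_elem h.hV s (hWV hs) t (hWV ht)
  have hWb : WW V a b ≤ Subgroup.centralizer (Subgroup.zpowers b : Set G) :=
    sup_le hc (hp.hb.quadratic h)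
  apply chain_false h hp (WW V a b) Pa (comm_LL_le h hp)
  · unfold LL
    rw [zpowers_sup_eq_closure]
    apply comm_le_of_closure hWc le_sup_left
    intro s hs
    rcases hs with rfl | hs
    · refine ⟨zpowers_le_normalizer_WW h hp (Subgroup.mem_zpowers s), fun w hw => ?_⟩
      exact Subgroup.commutator_mem_commutator (hWV hw) (Subgroup.mem_zpowers s)
    · rw [Set.mem_singleton_iff] at hs
      subst hs
      have hn := zpowers_le_normalizer_WW h hp.symm
      rw [show WW V s a = WW V a s from sup_comm _ _] at hn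
      refine ⟨hn (Subgroup.mem_zpowers s), fun w hw => ?_⟩
      have h1 : ⁅w, s⁆ = 1 := by
        rw [commutatorElement_eq_one_iff_mul_comm]
        exact (Subgroup.mem_centralizer_iff.1 (hWb hw) s (Subgroup.mem_zpowers s)).symm
      rw [h1]; exact Subgroup.one_mem _
  · rw [Subgroup.commutator_eq_bot_iff_le_centralizer, centralizer_LL]
    exact le_inf (hp.ha.quadratic h) hc

theorem WW_inf_cent [Finite G] [Fact p.Prime] (h : Hyp p V H) (hp : IsPair p V H a b) :
    WW V a b ⊓ Subgroup.centralizer (Subgroup.zpowers a : Set G) = ⁅V, Subgroup.zpowers a⁆ := by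
  have hVp : IsPGroup p V := isPGroup_of_elem h.hV
  have hle : ⁅V, Subgroup.zpowers a⁆ ≤ WW V a b ⊓ Subgroup.centralizer (Subgroup.zpowers a : Set G) :=
    le_inf le_sup_left (hp.ha.quadratic h)
  have hlt : WW V a b ⊓ Subgroup.centralizer (Subgroup.zpowers a : Set G) < WW V a b := by
    refine lt_of_le_of_ne inf_le_left fun hc => comm_not_le h hp.symm ?_
    exact (le_sup_right.trans hc.ge).trans inf_le_right
  have h1 := p_mul_card_le (hVp.to_le (WW_le h hp)) hlt
  rw [card_WW h hp, pow_two] at h1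
  have h2 := Nat.le_of_mul_le_mul_left h1 (Fact.out : p.Prime).pos
  exact (Subgroup.eq_of_le_of_card_ge hle (by rw [hp.ha.card]; exact h2)).symm

theorem WW_inf_cent_LL [Finite G] [Fact p.Prime] (h : Hyp p V H) (hp : IsPair p V H a b) :
    WW V a b ⊓ Subgroup.centralizer (LL a b : Set G) = ⊥ := by
  rw [centralizer_LL, ← comm_inf h hp, ← WW_inf_cent h hp]
  have := WW_inf_cent h hp.symm
  rw [show WW V b a = WW V a b from sup_comm _ _] at this
  rw [← this]
  ext g; simp only [Subgroup.mem_inf]; tauto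

theorem WW_sup_cent_LL [Finite G] [Fact p.Prime] (h : Hyp p V H) (hp : IsPair p V H a b) :
    WW V a b ⊔ (V ⊓ Subgroup.centralizer (LL a b : Set G)) = V := by
  have hle : WW V a b ⊔ (V ⊓ Subgroup.centralizer (LL a b : Set G)) ≤ V :=
    sup_le (WW_le h hp) inf_le_left
  have h1 := Cfsg.Agent.H1.card_sup_mul_card_inf (WW V a b)
    (V ⊓ Subgroup.centralizer (LL a b : Set G)) (le_normalizer_of_le h (WW_le h hp) inf_le_left)
  have h2 : WW V a b ⊓ (V ⊓ Subgroup.centralizer (LL a b : Set G)) = ⊥ := by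
    rw [eq_bot_iff, ← WW_inf_cent_LL h hp]
    exact inf_le_inf_left _ inf_le_right
  rw [h2, Subgroup.card_bot, mul_one, card_WW h hp, card_cent_LL h hp] at h1
  exact Subgroup.eq_of_le_of_card_ge hle h1.ge

theorem LL_inf_cent_WW [Finite G] [Fact p.Prime] (h : Hyp p V H) (hp : IsPair p V H a b) :
    LL a b ⊓ Subgroup.centralizer (WW V a b : Set G) = ⊥ := by
  rw [eq_bot_iff, ← h.hf]
  refine le_inf (inf_le_left.trans hp.LL_le) ?_
  intro g hg
  obtain ⟨hgL, hgW⟩ := Subgroup.mem_inf.1 hg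
  have h1 : g ∈ Subgroup.centralizer
      ((V ⊓ Subgroup.centralizer (LL a b : Set G) : Subgroup G) : Set G) := by
    have : LL a b ≤ Subgroup.centralizer
        ((V ⊓ Subgroup.centralizer (LL a b : Set G) : Subgroup G) : Set G) :=
      Subgroup.le_centralizer_iff.1 inf_le_right
    exact this hgL
  have h2 : g ∈ Subgroup.centralizer
      ((WW V a b ⊔ (V ⊓ Subgroup.centralizer (LL a b : Set G)) : Subgroup G) : Set G) := by
    rw [centralizer_sup']; exact Subgroup.mem_inf.2 ⟨hgW, h1⟩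
  rwa [WW_sup_cent_LL h hp] at h2

theorem comm_LL_eq (h : Hyp p V H) (hp : IsPair p V H a b) : ⁅V, LL a b⁆ = WW V a b :=
  le_antisymm (comm_LL_le h hp)
    (sup_le (Subgroup.commutator_mono le_rfl le_sup_left)
      (Subgroup.commutator_mono le_rfl le_sup_right))

end IsPair

end Cfsg.Agent.Lib.Helper4.FFPair
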