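import Mathlib
import Cfsg.Prelude.Def_PLocal
import Cfsg.Agent.Lib.Helper7.ElemAbGL
import Cfsg.Agent.Lib.Helper7.GL2p
import Cfsg.Agent.Lib.Helper4.FFSL2
import Cfsg.Agent.Lib.Helper4.SolvPSolv
import Cfsg.Agent.H1.QuadThree

set_option autoImplicit false

namespace Cfsg.Agent.Lib.Helper4.FFPair

open scoped commutatorElement
open Cfsg.Agent.Lib.Helper4.Offender

variable {G : Type*} [Group G] {p : ℕ} {V H : Subgroup G}

namespace IsPair

variable {a b : G}

theorem LL_le_normalizer_WW (h : Hyp p V H) (hp : IsPair p V H a b) :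
    LL a b ≤ Subgroup.normalizer (WW V a b : Set G) := by
  apply sup_le (zpowers_le_normalizer_WW h hp)
  have hn := zpowers_le_normalizer_WW h hp.symm
  rwa [show WW V b a = WW V a b from sup_comm _ _] at hn

theorem le_LL_left (a b : G) : Subgroup.zpowers a ≤ LL a b := le_sup_left
theorem le_LL_right (a b : G) : Subgroup.zpowers b ≤ LL a b := le_sup_right

/-- `⟨a, b⟩ ≅ SL(2, p)` -/
theorem nonempty_mulEquiv [Finite G] [Fact p.Prime] (h : Hyp p V H) (hp : IsPair p V H a b) :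
    Nonempty (↥(LL a b) ≃* Matrix.SpecialLinearGroup (Fin 2) (ZMod p)) := by
  classical
  have hLW := LL_le_normalizer_WW h hp
  have hWV := WW_le h hp
  letI : CommGroup ↥(WW V a b) := { (inferInstance : Group ↥(WW V a b)) with
    mul_comm := fun x y => Subtype.ext (comm_of_elem h.hV x (hWV x.2) y (hWV y.2)) }
  have hWp : ∀ x : ↥(WW V a b), x ^ p = 1 := fun x =>
    Subtype.ext (by simpa using h.hV.2 x (hWV x.2))
  obtain ⟨e⟩ := Cfsg.Agent.Lib.Helper7.mulAut_equiv_gl (V := ↥(WW V a b)) p 2 hWp (card_WW h hp)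
  obtain ⟨φ, hφ⟩ : ∃ φ : ↥(LL a b) →* MulAut ↥(WW V a b),
      φ = ((WW V a b).normalizerMonoidHom).comp (Subgroup.inclusion hLW) := ⟨_, rfl⟩
  have hφinj : Function.Injective φ := by
    rw [injective_iff_map_eq_one]
    intro g hg
    have h1 : Subgroup.inclusion hLW g ∈ ((WW V a b).normalizerMonoidHom).ker := by
      rw [MonoidHom.mem_ker]
      rw [hφ] at hg
      exact hg
    rw [Subgroup.normalizerMonoidHom_ker, Subgroup.mem_subgroupOf] at h1
    have h2 : (g : G) ∈ LL a b ⊓ Subgroup.centralizer (WW V a b : Set G) :=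
      Subgroup.mem_inf.2 ⟨g.2, h1⟩
    rw [LL_inf_cent_WW h hp, Subgroup.mem_bot] at h2
    exact Subtype.ext h2
  obtain ⟨f, hf⟩ : ∃ f : ↥(LL a b) →* GL (Fin 2) (ZMod p), f = e.toMonoidHom.comp φ := ⟨_, rfl⟩
  have hfinj : Function.Injective f := by
    rw [hf]; exact e.injective.comp hφinj
  set A' := (Subgroup.zpowers a).subgroupOf (LL a b) with hA'
  set B' := (Subgroup.zpowers b).subgroupOf (LL a b) with hB'
  have hcA : Nat.card (A'.map f) = p := by
    rw [Subgroup.card_map_of_injective hfinj, hA',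
      Nat.card_congr (Subgroup.subgroupOfEquivOfLe (le_LL_left a b)).toEquiv]
    exact hp.ha.card_zpowers
  have hcB : Nat.card (B'.map f) = p := by
    rw [Subgroup.card_map_of_injective hfinj, hB',
      Nat.card_congr (Subgroup.subgroupOfEquivOfLe (le_LL_right a b)).toEquiv]
    exact hp.hb.card_zpowers
  have hne : A'.map f ≠ B'.map f := by
    intro hc
    have h1 : A' = B' := Subgroup.map_injective hfinj hc
    rw [hA', hB', Subgroup.subgroupOf_inj, inf_eq_left.2 (le_LL_left a b),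
      inf_eq_left.2 (le_LL_right a b)] at h1
    exact comm_ne h hp (by rw [h1])
  have hle := Cfsg.Agent.Lib.Helper7.range_toGL_le_sup p _ _ hcA hcB hne
  have htop : A' ⊔ B' = ⊤ := by
    rw [hA', hB', ← Subgroup.subgroupOf_sup (le_LL_left a b) (le_LL_right a b)]
    exact Subgroup.subgroupOf_self _
  have hrange : A'.map f ⊔ B'.map f = f.range := by
    rw [← Subgroup.map_sup, htop, MonoidHom.range_eq_map]
  have hsub : ∀ P : Subgroup (GL (Fin 2) (ZMod p)), Nat.card P = p →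
      P ≤ (Matrix.SpecialLinearGroup.toGL :
        Matrix.SpecialLinearGroup (Fin 2) (ZMod p) →* GL (Fin 2) (ZMod p)).range := by
    intro P hP g hg
    rw [Cfsg.Agent.Lib.Helper7.mem_range_toGL_iff]
    apply Cfsg.Agent.Lib.Helper7.det_eq_one_of_pow_p
    have h1 : (⟨g, hg⟩ : ↥P) ^ Nat.card P = 1 := pow_card_eq_one'
    rw [hP] at h1
    exact congrArg Subtype.val h1
  have heq : f.range = (Matrix.SpecialLinearGroup.toGL :
      Matrix.SpecialLinearGroup (Fin 2) (ZMod p) →* GL (Fin 2) (ZMod p)).range := by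
    apply le_antisymm
    · rw [← hrange]; exact sup_le (hsub _ hcA) (hsub _ hcB)
    · rw [← hrange]; exact hle
  exact ⟨(MonoidHom.ofInjective hfinj).trans ((MulEquiv.subgroupCongr heq).trans
    (MonoidHom.ofInjective Matrix.SpecialLinearGroup.toGL_injective).symm)⟩

theorem LL_le_sup (hp : IsPair p V H a b) : LL a b ≤ Subgroup.zpowers a ⊔ KK p H := by
  apply sup_le le_sup_left
  rw [Subgroup.zpowers_le]
  have : b = (b * a⁻¹) * a := by group
  rw [this]
  exact Subgroup.mul_mem _ (le_sup_right (a := Subgroup.zpowers a) hp.hK)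
    (le_sup_left (b := KK p H) (Subgroup.mem_zpowers a))

theorem zpowers_inf_KK [Finite G] [Fact p.Prime] (ha : IsAtom p V H a) :
    Subgroup.zpowers a ⊓ KK p H = ⊥ := by
  apply Subgroup.inf_eq_bot_of_coprime
  rw [ha.card_zpowers]
  exact (KK_coprime p H).symm

/-- `|L| = p |L ∩ K|` -/
theorem card_LL [Finite G] [Fact p.Prime] (hp : IsPair p V H a b) :
    Nat.card (LL a b) = p * Nat.card ↥(LL a b ⊓ KK p H) := by
  have hLK : LL a b ≤ Subgroup.normalizer (KK p H : Set G) := hp.LL_le.trans (le_normalizer_KK p H)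
  have hAK : Subgroup.zpowers a ≤ Subgroup.normalizer (KK p H : Set G) :=
    hp.ha.zpowers_le.trans (le_normalizer_KK p H)
  have h1 := Cfsg.Agent.H1.card_sup_mul_card_inf (LL a b) (KK p H) hLK
  have h2 := Cfsg.Agent.H1.card_sup_mul_card_inf (Subgroup.zpowers a) (KK p H) hAK
  rw [zpowers_inf_KK hp.ha, Subgroup.card_bot, mul_one, hp.ha.card_zpowers] at h2
  have h3 : LL a b ⊔ KK p H = Subgroup.zpowers a ⊔ KK p H :=
    le_antisymm (sup_le hp.LL_le_sup le_sup_right) (sup_le_sup_right (le_LL_left a b) _)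
  rw [h3, h2] at h1
  have hpos : 0 < Nat.card (KK p H) := Nat.card_pos
  have : Nat.card (KK p H) * Nat.card (LL a b) =
      Nat.card (KK p H) * (p * Nat.card ↥(LL a b ⊓ KK p H)) := by
    rw [mul_comm, ← h1]; ring
  exact Nat.eq_of_mul_eq_mul_left hpos this

theorem isPSolvable_LL [Finite G] [Fact p.Prime] (hp : IsPair p V H a b) :
    Cfsg.IsPSolvable p ↥(LL a b) := by
  have hLK : LL a b ≤ Subgroup.normalizer (KK p H : Set G) := hp.LL_le.trans (le_normalizer_KK p H)
  haveI hN : ((KK p H).subgroupOf (LL a b)).Normal := Subgroup.normal_subgroupOf_of_le_normalizer hLK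
  have hcN : Nat.card ↥((KK p H).subgroupOf (LL a b)) = Nat.card ↥(LL a b ⊓ KK p H) := by
    rw [← Subgroup.card_map_of_injective (LL a b).subtype_injective, Subgroup.subgroupOf_map_subtype,
      inf_comm]
  have hcop : (Nat.card ↥((KK p H).subgroupOf (LL a b))).Coprime p := by
    rw [hcN]
    exact Nat.Coprime.coprime_dvd_left (Subgroup.card_dvd_of_le inf_le_right) (KK_coprime p H)
  have hidx : Nat.card (↥(LL a b) ⧸ (KK p H).subgroupOf (LL a b)) = p := by
    have h1 := Subgroup.card_mul_index ((KK p H).subgroupOf (LL a b))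
    rw [hcN, hp.card_LL, Subgroup.index_eq_card] at h1
    have hpos : 0 < Nat.card ↥(LL a b ⊓ KK p H) := Nat.card_pos
    have : Nat.card ↥(LL a b ⊓ KK p H) *
        Nat.card (↥(LL a b) ⧸ (KK p H).subgroupOf (LL a b)) = Nat.card ↥(LL a b ⊓ KK p H) * p := by
      rw [h1]; ring
    exact Nat.eq_of_mul_eq_mul_left hpos this
  apply Cfsg.Agent.Lib.Helper4.SolvPSolv.isPSolvable_of_quotient ((KK p H).subgroupOf (LL a b))
    (Or.inr hcop)
  apply Cfsg.Agent.Lib.Helper4.SolvPSolv.isPSolvable_of_quotient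
    (⊤ : Subgroup (↥(LL a b) ⧸ (KK p H).subgroupOf (LL a b))) (Or.inl ⟨1, ?_⟩)
  · haveI : Subsingleton ((↥(LL a b) ⧸ (KK p H).subgroupOf (LL a b)) ⧸
        (⊤ : Subgroup (↥(LL a b) ⧸ (KK p H).subgroupOf (LL a b)))) :=
      QuotientGroup.subsingleton_quotient_top
    exact Cfsg.Agent.Lib.Helper4.SolvPSolv.isPSolvable_of_subsingleton p
  · rw [Subgroup.card_top, hidx, pow_one]

theorem p_eq [Finite G] [Fact p.Prime] (h : Hyp p V H) (hp : IsPair p V H a b) :
    p = 2 ∨ p = 3 := by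
  by_cases hp2 : p = 2
  · exact Or.inl hp2
  right
  have qa : ⁅⁅V, Subgroup.zpowers a⁆, Subgroup.zpowers a⁆ = ⊥ :=
    Subgroup.commutator_eq_bot_iff_le_centralizer.2 (hp.ha.quadratic h)
  have qb : ⁅⁅V, Subgroup.zpowers b⁆, Subgroup.zpowers b⁆ = ⊥ :=
    Subgroup.commutator_eq_bot_iff_le_centralizer.2 (hp.hb.quadratic h)
  apply Cfsg.Agent.H1.quad_pair_p_eq_three hp2 V (LL a b) h.hV (hp.LL_le.trans h.hHV) a b
    (zpowers_sup_eq_closure a b) qa qb ?_ hp.isPSolvable_LL
  intro hall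
  obtain ⟨k, hk⟩ := hall (b * a⁻¹) (hel_mem a b)
  have h1 : (b * a⁻¹) ^ p ^ k ∈ H ⊓ Subgroup.centralizer (V : Set G) :=
    Subgroup.mem_inf.2 ⟨H.pow_mem (hp.LL_le (hel_mem a b)) _, hk⟩
  rw [h.hf, Subgroup.mem_bot] at h1
  have h2 : orderOf (b * a⁻¹) ∣ p ^ k := orderOf_dvd_of_pow_eq_one h1
  have h3 : orderOf (b * a⁻¹) ∣ Nat.card (KK p H) := by
    have := orderOf_dvd_natCard (⟨b * a⁻¹, hp.hK⟩ : ↥(KK p H))
    rwa [Subgroup.orderOf_mk] at this
  have h4 : (Nat.card (KK p H)).Coprime (p ^ k) := Nat.Coprime.pow_right k (KK_coprime p H)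
  have h5 : orderOf (b * a⁻¹) = 1 := Nat.eq_one_of_dvd_coprimes h4 h3 h2
  exact hp.hel_ne_one (orderOf_eq_one_iff.1 h5)

end IsPair

end Cfsg.Agent.Lib.Helper4.FFPair
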