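import Mathlib
import Cfsg.Prelude.Def_PLocal
import Cfsg.Agent.Lib.Helper4.FFSL2Iso
import Cfsg.Agent.Lib.Helper4.FFCover

set_option autoImplicit false

namespace Cfsg.Agent.Lib.Helper4.FFPair

open scoped commutatorElement Pointwise
open Cfsg.Agent.Lib.Helper4.Offender

variable {G : Type*} [Group G] {p : ℕ} {V H : Subgroup G}

namespace IsPair

variable {a b : G}

theorem not_isPGroup_LL [Finite G] [Fact p.Prime] (hp : IsPair p V H a b) :
    ¬ IsPGroup p ↥(LL a b) := by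
  intro hL
  obtain ⟨k, hk⟩ := hL ⟨b * a⁻¹, hel_mem a b⟩
  have h1 : (b * a⁻¹) ^ p ^ k = 1 := by
    have := congrArg Subtype.val hk
    simpa using this
  have h2 : orderOf (b * a⁻¹) ∣ p ^ k := orderOf_dvd_of_pow_eq_one h1
  have h3 : orderOf (b * a⁻¹) ∣ Nat.card (KK p H) := by
    have := orderOf_dvd_natCard (⟨b * a⁻¹, hp.hK⟩ : ↥(KK p H))
    rwa [Subgroup.orderOf_mk] at this
  have h4 : (Nat.card (KK p H)).Coprime (p ^ k) := Nat.Coprime.pow_right k (KK_coprime p H)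
  have h5 : orderOf (b * a⁻¹) = 1 := Nat.eq_one_of_dvd_coprimes h4 h3 h2
  exact hp.hel_ne_one (orderOf_eq_one_iff.1 h5)

theorem sylow_card [Finite G] [Fact p.Prime] (h : Hyp p V H) (hp : IsPair p V H a b)
    (P : Sylow p ↥(LL a b)) : Nat.card P = p := by
  obtain ⟨e⟩ := hp.nonempty_mulEquiv h
  rw [P.card_eq_multiplicity, Nat.card_congr e.toEquiv,
    Cfsg.Agent.Lib.Helper7.card_sl2p_factorization, pow_one]

theorem exists_conj_mem_sylow [Finite G] [Fact p.Prime] (hp : IsPair p V H a b)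
    (P : Sylow p ↥(LL a b)) :
    ∃ k ∈ KK p H, ∃ hc : k * a * k⁻¹ ∈ LL a b, (⟨k * a * k⁻¹, hc⟩ : ↥(LL a b)) ∈ P := by
  have haL : a ∈ LL a b := le_LL_left a b (Subgroup.mem_zpowers a)
  have hA'p : IsPGroup p ↥((Subgroup.zpowers a).subgroupOf (LL a b)) :=
    hp.ha.isPGroup.comap_subtype
  obtain ⟨P₀, hP₀⟩ := hA'p.exists_le_sylow
  obtain ⟨l, hl⟩ := MulAction.exists_smul_eq ↥(LL a b) P₀ P
  have ha0 : (⟨a, haL⟩ : ↥(LL a b)) ∈ (P₀ : Subgroup ↥(LL a b)) :=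
    hP₀ (Subgroup.mem_subgroupOf.2 (Subgroup.mem_zpowers a))
  have h1 : MulAut.conj l • (⟨a, haL⟩ : ↥(LL a b)) ∈ MulAut.conj l • (P₀ : Subgroup ↥(LL a b)) :=
    Subgroup.smul_mem_pointwise_smul _ _ _ ha0
  rw [← Sylow.coe_subgroup_smul, hl, MulAut.smul_def, MulAut.conj_apply] at h1
  have hAK : Subgroup.zpowers a ≤ Subgroup.normalizer (KK p H : Set G) :=
    hp.ha.zpowers_le.trans (le_normalizer_KK p H)
  have hl' : (l : G) ∈ KK p H ⊔ Subgroup.zpowers a := by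
    rw [sup_comm]; exact hp.LL_le_sup l.2
  obtain ⟨k, hk, a', ha', hka⟩ :=
    (Cfsg.Agent.H1.mem_sup_of_le_normalizer (KK p H) (Subgroup.zpowers a) hAK).1 hl'
  obtain ⟨n, rfl⟩ := Subgroup.mem_zpowers_iff.1 ha'
  have hcomm : a ^ n * a = a * a ^ n := ((Commute.refl a).zpow_left n).eq
  have heq : (l : G) * a * (l : G)⁻¹ = k * a * k⁻¹ := by
    rw [hka]
    calc k * a ^ n * a * (k * a ^ n)⁻¹ = k * (a ^ n * a) * (a ^ n)⁻¹ * k⁻¹ := by group
      _ = k * (a * a ^ n) * (a ^ n)⁻¹ * k⁻¹ := by rw [hcomm]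
      _ = k * a * k⁻¹ := by group
  have hc : k * a * k⁻¹ ∈ LL a b := by
    rw [← heq]
    exact (LL a b).mul_mem ((LL a b).mul_mem l.2 haL) ((LL a b).inv_mem l.2)
  refine ⟨k, hk, hc, ?_⟩
  have : (⟨k * a * k⁻¹, hc⟩ : ↥(LL a b)) = l * ⟨a, haL⟩ * l⁻¹ := by
    apply Subtype.ext
    simp only [Subgroup.coe_mul, Subgroup.coe_inv]
    exact heq.symm
  rw [this]
  exact h1

theorem sylow_count [Finite G] [Fact p.Prime] (hp : IsPair p V H a b) :
    p + 1 ≤ Nat.card (Sylow p ↥(LL a b)) := by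
  have hp' := (Fact.out : p.Prime)
  have h1 := card_sylow_modEq_one p ↥(LL a b)
  have h2 : Nat.card (Sylow p ↥(LL a b)) ≠ 1 := by
    intro hc
    haveI : Subsingleton (Sylow p ↥(LL a b)) := (Nat.card_eq_one_iff_unique.1 hc).1
    have hA'p : IsPGroup p ↥((Subgroup.zpowers a).subgroupOf (LL a b)) :=
      hp.ha.isPGroup.comap_subtype
    have hB'p : IsPGroup p ↥((Subgroup.zpowers b).subgroupOf (LL a b)) :=
      hp.hb.isPGroup.comap_subtype
    obtain ⟨P₀, hP₀⟩ := hA'p.exists_le_sylow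
    obtain ⟨P₁, hP₁⟩ := hB'p.exists_le_sylow
    have heq : P₁ = P₀ := Subsingleton.elim _ _
    rw [heq] at hP₁
    have htop : (P₀ : Subgroup ↥(LL a b)) = ⊤ := by
      rw [eq_top_iff]
      have h := Subgroup.subgroupOf_sup (le_LL_left a b) (le_LL_right a b)
      have h' : (Subgroup.zpowers a ⊔ Subgroup.zpowers b).subgroupOf (LL a b) = ⊤ :=
        Subgroup.subgroupOf_self (LL a b)
      rw [← h', h]
      exact sup_le hP₀ hP₁
    apply hp.not_isPGroup_LL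
    have := P₀.isPGroup'
    rw [htop] at this
    exact this.of_equiv Subgroup.topEquiv
  have h3 : 0 < Nat.card (Sylow p ↥(LL a b)) := Nat.card_pos
  have h4 : Nat.card (Sylow p ↥(LL a b)) % p = 1 := by
    have := h1
    rw [Nat.ModEq, Nat.mod_eq_of_lt hp'.one_lt] at this
    exact this
  have h5 := Nat.div_add_mod (Nat.card (Sylow p ↥(LL a b))) p
  rw [h4] at h5
  have h6 : 1 ≤ Nat.card (Sylow p ↥(LL a b)) / p := by
    by_contra hc
    have : Nat.card (Sylow p ↥(LL a b)) / p = 0 := Nat.lt_one_iff.1 (not_le.1 hc)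
    rw [this, mul_zero, zero_add] at h5
    exact h2 h5.symm
  have h7 : p ≤ p * (Nat.card (Sylow p ↥(LL a b)) / p) := Nat.le_mul_of_pos_right _ h6
  omega

/-- conjugates of `a` in `L`: at least `p + 1` of them -/
theorem exists_conj_finset [Finite G] [Fact p.Prime] (h : Hyp p V H) (hp : IsPair p V H a b) :
    ∃ T : Finset G, p + 1 ≤ T.card ∧
      ∀ c ∈ T, c ∈ LL a b ∧ IsAtom p V H c ∧ c * a⁻¹ ∈ KK p H := by
  classical
  haveI : Fintype (Sylow p ↥(LL a b)) := Fintype.ofFinite _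
  choose k hk hc hmem using hp.exists_conj_mem_sylow
  let Φ : Sylow p ↥(LL a b) → G := fun P => k P * a * (k P)⁻¹
  have hatom : ∀ P, IsAtom p V H (Φ P) := fun P => hp.ha.conj h (KK_le p H (hk P))
  have hinj : Function.Injective Φ := by
    intro P P' hPP
    have key : ∀ Q : Sylow p ↥(LL a b),
        (Q : Subgroup ↥(LL a b)) = Subgroup.zpowers (⟨Φ Q, hc Q⟩ : ↥(LL a b)) := by
      intro Q
      symm
      apply Subgroup.eq_of_le_of_card_ge (Subgroup.zpowers_le.2 (hmem Q))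
      rw [hp.sylow_card h Q, Nat.card_zpowers, Subgroup.orderOf_mk]
      exact (orderOf_eq_prime (hatom Q).pow (hatom Q).ne_one).ge
    apply Sylow.ext
    rw [key P, key P']
    congr 1
    exact Subtype.ext hPP
  refine ⟨Finset.univ.image Φ, ?_, ?_⟩
  · rw [Finset.card_image_of_injective _ hinj, Finset.card_univ, ← Nat.card_eq_fintype_card]
    exact hp.sylow_count
  · intro c hcT
    rw [Finset.mem_image] at hcT
    obtain ⟨P, _, rfl⟩ := hcT
    refine ⟨hc P, hatom P, ?_⟩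
    have h1 : k P * a * (k P)⁻¹ * a⁻¹ = k P * (a * (k P)⁻¹ * a⁻¹) := by group
    show k P * a * (k P)⁻¹ * a⁻¹ ∈ KK p H
    rw [h1]
    refine Subgroup.mul_mem _ (hk P) ?_
    exact (Subgroup.mem_normalizer_iff.1 (le_normalizer_KK p H hp.ha.mem) (k P)⁻¹).1
      (Subgroup.inv_mem _ (hk P))

/-- every atom congruent to `a` modulo `O_{p'}(H)` lies in `L` -/
theorem mem_LL_of_pair [Finite G] [Fact p.Prime] (h : Hyp p V H) (hp : IsPair p V H a b)
    {c' : G} (hc' : IsPair p V H a c') : c' ∈ LL a b := by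
  classical
  obtain ⟨T, hT, hTp⟩ := hp.exists_conj_finset h
  have hVp : IsPGroup p V := isPGroup_of_elem h.hV
  have hp' := (Fact.out : p.Prime)
  set Cc := V ⊓ Subgroup.centralizer (Subgroup.zpowers c' : Set G) with hCc
  -- `W ∩ C_V(c') ≠ 1`
  have hZ : WW V a b ⊓ Cc ≠ ⊥ := by
    intro hbot
    have h1 := Cfsg.Agent.H1.card_sup_mul_card_inf (WW V a b) Cc
      (le_normalizer_of_le h (WW_le h hp) inf_le_left)
    rw [hbot, Subgroup.card_bot, mul_one, card_WW h hp] at h1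
    have h2 : Nat.card ↥(WW V a b ⊔ Cc) ≤ Nat.card V :=
      Subgroup.card_le_of_le (sup_le (WW_le h hp) inf_le_left)
    have h3 := hc'.hb.index h
    rw [← hCc] at h3
    have h4 : p ^ 2 * Nat.card Cc = p * Nat.card V := by rw [← h3]; ring
    rw [h4] at h1
    have hpos : 0 < Nat.card V := Nat.card_pos
    have : p * Nat.card V ≤ 1 * Nat.card V := by rw [one_mul, ← h1]; exact h2
    have := Nat.le_of_mul_le_mul_right this hpos
    have := hp'.two_le
    omega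
  obtain ⟨z, hz, hz1⟩ := (Subgroup.ne_bot_iff_exists_ne_one).1 hZ |> fun ⟨z, hz⟩ =>
    (⟨(z : G), z.2, fun hc => hz (Subtype.ext hc)⟩ : ∃ z : G, z ∈ WW V a b ⊓ Cc ∧ z ≠ 1)
  obtain ⟨hzW, hzC⟩ := Subgroup.mem_inf.1 hz
  have hPc : ∀ c ∈ T, ⁅V, Subgroup.zpowers c⁆ ≤ WW V a b ∧
      Nat.card ↥(⁅V, Subgroup.zpowers c⁆) = p := by
    intro c hc
    obtain ⟨hcL, hca, _⟩ := hTp c hc
    refine ⟨?_, hca.card⟩
    rw [← comm_LL_eq h hp]
    exact Subgroup.commutator_mono le_rfl (Subgroup.zpowers_le.2 hcL)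
  have hpairT : ∀ c ∈ T, ∀ c'' : G, IsAtom p V H c'' → c'' * a⁻¹ ∈ KK p H → c ≠ c'' →
      IsPair p V H c c'' := by
    intro c hc c'' hc''a hc''K hne
    obtain ⟨_, hca, hcK⟩ := hTp c hc
    refine ⟨hca, hc''a, ?_, hne⟩
    have : c'' * c⁻¹ = (c'' * a⁻¹) * (c * a⁻¹)⁻¹ := by group
    rw [this]
    exact Subgroup.mul_mem _ hc''K (Subgroup.inv_mem _ hcK)
  have hdis : ∀ c ∈ T, ∀ c'' ∈ T, c ≠ c'' →
      ⁅V, Subgroup.zpowers c⁆ ⊓ ⁅V, Subgroup.zpowers c''⁆ = ⊥ := by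
    intro c hc c'' hc'' hne
    obtain ⟨_, hc''a, hc''K⟩ := hTp c'' hc''
    exact comm_inf h (hpairT c hc c'' hc''a hc''K hne)
  obtain ⟨c, hcT, hzc⟩ := cover (card_WW h hp) T (fun c => ⁅V, Subgroup.zpowers c⁆) hPc hdis hT z hzW
  by_cases hcc : c = c'
  · rw [← hcc]; exact (hTp c hcT).1
  exfalso
  have hpair := hpairT c hcT c' hc'.hb hc'.hK hcc
  apply comm_not_le h hpair
  -- `[V, c] = ⟨z⟩`
  have heq : Subgroup.zpowers z = ⁅V, Subgroup.zpowers c⁆ := by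
    apply Subgroup.eq_of_le_of_card_ge (Subgroup.zpowers_le.2 hzc)
    rw [(hPc c hcT).2, Nat.card_zpowers]
    have h1 : z ^ p = 1 := h.hV.2 z (WW_le h hp hzW)
    exact (orderOf_eq_prime h1 hz1).ge
  rw [← heq, Subgroup.zpowers_le]
  exact (Subgroup.mem_inf.1 hzC).2

end IsPair

end Cfsg.Agent.Lib.Helper4.FFPair
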