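import Mathlib
import Cfsg.Prelude.Def_PLocal
import Cfsg.Agent.S0593
import Cfsg.Agent.Lib.Helper4.FFClosure

set_option autoImplicit false

namespace Cfsg.Agent.Lib.Helper4.FFPair

open scoped commutatorElement Pointwise
open Cfsg.Agent.Lib.Helper4.Offender

variable {G : Type*} [Group G] {p : ℕ} {V H : Subgroup G}

theorem IsAtom.exists_not_cent [Finite G] [Fact p.Prime] (h : Hyp p V H) {a : G}
    (ha : IsAtom p V H a) :
    ∃ x ∈ KK p H, x ∉ Subgroup.centralizer (Subgroup.zpowers a : Set G) := by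
  by_contra hcon
  push_neg at hcon
  have h1 : Subgroup.zpowers a ≤ Subgroup.centralizer (KK p H : Set G) :=
    Subgroup.le_centralizer_iff.1 hcon
  have h2 := eq_bot_of_cent_KK h ha.zpowers_le ha.isPGroup h1
  rw [Subgroup.zpowers_eq_bot] at h2
  exact ha.ne_one h2

namespace IsPair

variable {a b : G}

theorem conj_mem_LL [Finite G] [Fact p.Prime] (h : Hyp p V H) (hp : IsPair p V H a b)
    {k : G} (hk : k ∈ KK p H) : k * a * k⁻¹ ∈ LL a b := by
  by_cases hka : k ∈ Subgroup.centralizer (Subgroup.zpowers a : Set G)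
  · rw [cent_zpowers, Subgroup.mem_centralizer_singleton_iff] at hka
    have : k * a * k⁻¹ = a := by rw [hka]; group
    rw [this]
    exact le_LL_left a b (Subgroup.mem_zpowers a)
  · exact hp.mem_LL_of_pair h (IsPair.of_conj h hp.ha hk hka)

theorem comm_KK_le [Finite G] [Fact p.Prime] (h : Hyp p V H) (hp : IsPair p V H a b) :
    ⁅KK p H, Subgroup.zpowers a⁆ ≤ LL a b ⊓ KK p H := by
  have hAK : Subgroup.zpowers a ≤ Subgroup.normalizer (KK p H : Set G) :=
    hp.ha.zpowers_le.trans (le_normalizer_KK p H)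
  refine le_inf ?_ (Subgroup.le_normalizer_iff_commutator_le_left.1 hAK)
  rw [Subgroup.commutator_le]
  intro k hk a' ha'
  obtain ⟨n, rfl⟩ := Subgroup.mem_zpowers_iff.1 ha'
  have h1 : ⁅k, a ^ n⁆ = (k * a * k⁻¹) ^ n * (a ^ n)⁻¹ := by
    rw [commutatorElement_def, conj_zpow]
  rw [h1]
  exact Subgroup.mul_mem _ (Subgroup.zpow_mem _ (hp.conj_mem_LL h hk) n)
    (Subgroup.inv_mem _ (Subgroup.zpow_mem _ (le_LL_left a b (Subgroup.mem_zpowers a)) n))

theorem comm_KK_sup [Finite G] [Fact p.Prime] (h : Hyp p V H) (hp : IsPair p V H a b)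
    (hb : b * a⁻¹ ∈ ⁅KK p H, Subgroup.zpowers a⁆) :
    ⁅KK p H, Subgroup.zpowers a⁆ ⊔ Subgroup.zpowers a = LL a b := by
  apply le_antisymm
  · exact sup_le ((hp.comm_KK_le h).trans inf_le_left) (le_LL_left a b)
  · apply sup_le le_sup_right
    rw [Subgroup.zpowers_le]
    have : b = (b * a⁻¹) * a := by group
    rw [this]
    exact Subgroup.mul_mem _ (le_sup_left (a := ⁅KK p H, Subgroup.zpowers a⁆) hb)
      (le_sup_right (b := Subgroup.zpowers a) (Subgroup.mem_zpowers a))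

theorem comm_KK_eq [Finite G] [Fact p.Prime] (h : Hyp p V H) (hp : IsPair p V H a b)
    (hb : b * a⁻¹ ∈ ⁅KK p H, Subgroup.zpowers a⁆) :
    ⁅KK p H, Subgroup.zpowers a⁆ = LL a b ⊓ KK p H := by
  have hle := hp.comm_KK_le h
  apply Subgroup.eq_of_le_of_card_ge hle
  set R := ⁅KK p H, Subgroup.zpowers a⁆ with hR
  have hAR : Subgroup.zpowers a ≤ Subgroup.normalizer (R : Set G) :=
    Subgroup.normalizer_commutator_ge_right _ _
  have h1 := Cfsg.Agent.H1.card_sup_mul_card_inf (Subgroup.zpowers a) R hAR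
  have h2 : Subgroup.zpowers a ⊓ R = ⊥ := by
    rw [eq_bot_iff, ← zpowers_inf_KK hp.ha]
    exact inf_le_inf_left _ (hle.trans inf_le_right)
  rw [h2, Subgroup.card_bot, mul_one, sup_comm, hp.comm_KK_sup h hb, hp.card_LL,
    hp.ha.card_zpowers] at h1
  exact (Nat.eq_of_mul_eq_mul_left (Fact.out : p.Prime).pos h1).le

theorem card_LL_inf_KK [Finite G] [Fact p.Prime] (h : Hyp p V H) (hp : IsPair p V H a b) :
    Nat.card ↥(LL a b ⊓ KK p H) = (p - 1) * (p + 1) := by
  obtain ⟨e⟩ := hp.nonempty_mulEquiv h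
  have h1 := hp.card_LL
  rw [Nat.card_congr e.toEquiv, Cfsg.Agent.S0262.card_sl_two, ZMod.card, mul_assoc] at h1
  exact (Nat.eq_of_mul_eq_mul_left (Fact.out : p.Prime).pos h1).symm

theorem LL_inf_cent [Finite G] (h : Hyp p V H) (hp : IsPair p V H a b) :
    LL a b ⊓ Subgroup.centralizer (V : Set G) = ⊥ := by
  rw [eq_bot_iff, ← h.hf]
  exact inf_le_inf_right _ hp.LL_le

end IsPair

/-- S0614 -/
theorem comm_KK_structure [Finite G] [Fact p.Prime] (h : Hyp p V H) {a : G}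
    (ha : IsAtom p V H a) :
    (p = 2 ∧ IsPGroup 3 ↥(⁅KK p H, Subgroup.zpowers a⁆)) ∨
    (p = 3 ∧ IsPGroup 2 ↥(⁅KK p H, Subgroup.zpowers a⁆) ∧
      ¬ IsMulCommutative ↥(⁅KK p H, Subgroup.zpowers a⁆)) := by
  obtain ⟨x, hx, hxa⟩ := ha.exists_not_cent h
  have hp := IsPair.of_conj h ha hx hxa
  have hb : x * a * x⁻¹ * a⁻¹ ∈ ⁅KK p H, Subgroup.zpowers a⁆ :=
    Subgroup.commutator_mem_commutator hx (Subgroup.mem_zpowers a)
  have hR := hp.comm_KK_eq h hb
  have hcard := hp.card_LL_inf_KK h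
  rw [← hR] at hcard
  have hpe := hp.p_eq h
  rcases hpe with rfl | rfl
  · left
    refine ⟨rfl, IsPGroup.of_card (n := 1) ?_⟩
    rw [hcard]; norm_num
  · right
    haveI : Fact (Nat.Prime 2) := ⟨Nat.prime_two⟩
    have hR2 : IsPGroup 2 ↥(⁅KK 3 H, Subgroup.zpowers a⁆) := IsPGroup.of_card (n := 3) (by rw [hcard]; norm_num)
    refine ⟨rfl, hR2, ?_⟩
    intro hcomm
    set L := IsPair.LL a (x * a * x⁻¹) with hL
    set R := ⁅KK 3 H, Subgroup.zpowers a⁆ with hRd
    have hRL : R ≤ L := hR ▸ inf_le_left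
    have hR'2 : IsPGroup 2 ↥(R.subgroupOf L) := hR2.comap_subtype
    obtain ⟨T, hT⟩ := hR'2.exists_le_sylow
    have hcardR' : Nat.card ↥(R.subgroupOf L) = 8 := by
      rw [Nat.card_congr (Subgroup.subgroupOfEquivOfLe hRL).toEquiv, hcard]
    have hcardL : Nat.card ↥L = 24 := by
      rw [hp.card_LL, ← hR, hcard]
    obtain ⟨k, hk⟩ := IsPGroup.iff_card.1 T.isPGroup'
    have h1 : Nat.card ↥(T : Subgroup ↥L) ∣ 24 := hcardL ▸ Subgroup.card_subgroup_dvd_card _
    have h2 : 8 ≤ Nat.card ↥(T : Subgroup ↥L) := hcardR' ▸ Subgroup.card_le_of_le hT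
    have hk3 : k = 3 := by
      rw [hk] at h1 h2
      have hk4 : k < 5 := by
        by_contra hc
        push_neg at hc
        have : 2 ^ 5 ≤ 2 ^ k := Nat.pow_le_pow_right (by norm_num) hc
        have := Nat.le_of_dvd (by norm_num) h1
        omega
      interval_cases k <;> omega
    have hTR : (T : Subgroup ↥L) = R.subgroupOf L := by
      symm
      apply Subgroup.eq_of_le_of_card_ge hT
      rw [hcardR', hk, hk3]
      norm_num
    have hfaith := hp.LL_inf_cent h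
    have hnp : ¬ IsPGroup 3 ↥L := hp.not_isPGroup_LL
    have qa : ⁅⁅V, Subgroup.zpowers a⁆, Subgroup.zpowers a⁆ = ⊥ :=
      Subgroup.commutator_eq_bot_iff_le_centralizer.2 (hp.ha.quadratic h)
    have qb : ⁅⁅V, Subgroup.zpowers (x * a * x⁻¹)⁆, Subgroup.zpowers (x * a * x⁻¹)⁆ = ⊥ :=
      Subgroup.commutator_eq_bot_iff_le_centralizer.2 (hp.hb.quadratic h)
    apply Cfsg.Agent.S0593.result (by norm_num : (3 : ℕ) ≠ 2) V L h.hV (hp.LL_le.trans h.hHV)
      hfaith a (x * a * x⁻¹) (zpowers_sup_eq_closure a _) qa qb hnp T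
    refine ⟨⟨fun u v => ?_⟩⟩
    have hmem : ∀ w : ↥(T : Subgroup ↥L), ((w : ↥L) : G) ∈ R := by
      intro w
      have h1 : (w : ↥L) ∈ R.subgroupOf L := hTR ▸ w.2
      exact Subgroup.mem_subgroupOf.1 h1
    have := hcomm.is_comm.comm ⟨_, hmem u⟩ ⟨_, hmem v⟩
    apply Subtype.ext
    apply Subtype.ext
    have h2 := congrArg Subtype.val this
    simpa using h2

end Cfsg.Agent.Lib.Helper4.FFPair
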