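import Mathlib
import Cfsg.Prelude.Def_PLocal
import Cfsg.Agent.Lib.Helper4.FFStruct

set_option autoImplicit false

namespace Cfsg.Agent.Lib.Helper4.FFPair

open scoped commutatorElement Pointwise
open Cfsg.Agent.Lib.Helper4.Offender

variable {G : Type*} [Group G] {p : ℕ} {V H : Subgroup G}

namespace IsPair

variable {a b : G}

/-- the image of `L` in `Aut(W)` is `SL(W)` for a suitable identification `Aut(W) ≅ GL(2,p)` -/
theorem exists_range_eq [Finite G] [Fact p.Prime] (h : Hyp p V H) (hp : IsPair p V H a b) :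
    ∃ e : MulAut ↥(WW V a b) ≃* GL (Fin 2) (ZMod p),
      (e.toMonoidHom.comp (((WW V a b).normalizerMonoidHom).comp
        (Subgroup.inclusion (LL_le_normalizer_WW h hp)))).range =
      (Matrix.SpecialLinearGroup.toGL :
        Matrix.SpecialLinearGroup (Fin 2) (ZMod p) →* GL (Fin 2) (ZMod p)).range := by
  classical
  have hLW := LL_le_normalizer_WW h hp
  have hWV := WW_le h hp
  letI : CommGroup ↥(WW V a b) := { (inferInstance : Group ↥(WW V a b)) with
    mul_comm := fun x y => Subtype.ext (comm_of_elem h.hV x (hWV x.2) y (hWV y.2)) }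
  have hWp : ∀ x : ↥(WW V a b), x ^ p = 1 := fun x =>
    Subtype.ext (by simpa using h.hV.2 x (hWV x.2))
  obtain ⟨e⟩ := Cfsg.Agent.Lib.Helper7.mulAut_equiv_gl (V := ↥(WW V a b)) p 2 hWp (card_WW h hp)
  refine ⟨e, ?_⟩
  obtain ⟨φ, hφ⟩ : ∃ φ : ↥(LL a b) →* MulAut ↥(WW V a b),
      φ = ((WW V a b).normalizerMonoidHom).comp (Subgroup.inclusion hLW) := ⟨_, rfl⟩
  have hφinj : Function.Injective φ := by
    rw [injective_iff_map_eq_one]
    intro g hg
    have h1 : Subgroup.inclusion hLW g ∈ ((WW V a b).normalizerMonoidHom).ker := by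
      rw [MonoidHom.mem_ker]
      rw [hφ] at hg
      exact hg
    rw [Subgroup.normalizerMonoidHom_ker, Subgroup.mem_subgroupOf] at h1
    have h2 : (g : G) ∈ LL a b ⊓ Subgroup.centralizer (WW V a b : Set G) :=
      Subgroup.mem_inf.2 ⟨g.2, h1⟩
    rw [LL_inf_cent_WW h hp, Subgroup.mem_bot] at h2
    exact Subtype.ext h2
  rw [← hφ]
  obtain ⟨f, hf⟩ : ∃ f : ↥(LL a b) →* GL (Fin 2) (ZMod p), f = e.toMonoidHom.comp φ := ⟨_, rfl⟩
  rw [← hf]
  have hfinj : Function.Injective f := by
    rw [hf]; exact e.injective.comp hφinj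
  set A' := (Subgroup.zpowers a).subgroupOf (LL a b) with hA'
  set B' := (Subgroup.zpowers b).subgroupOf (LL a b) with hB'
  have hcA : Nat.card (A'.map f) = p := by
    rw [Subgroup.card_map_of_injective hfinj, hA',
      Nat.card_congr (Subgroup.subgroupOfEquivOfLe (le_LL_left a b)).toEquiv]
    exact hp.ha.card_zpowers
  have hcB : Nat.card (B'.map f) = p := by
    rw [Subgroup.card_map_of_injective hfinj, hB',
      Nat.card_congr (Subgroup.subgroupOfEquivOfLe (le_LL_right a b)).toEquiv]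
    exact hp.hb.card_zpowers
  have hne : A'.map f ≠ B'.map f := by
    intro hc
    have h1 : A' = B' := Subgroup.map_injective hfinj hc
    rw [hA', hB', Subgroup.subgroupOf_inj, inf_eq_left.2 (le_LL_left a b),
      inf_eq_left.2 (le_LL_right a b)] at h1
    exact comm_ne h hp (by rw [h1])
  have hle := Cfsg.Agent.Lib.Helper7.range_toGL_le_sup p _ _ hcA hcB hne
  have htop : A' ⊔ B' = ⊤ := by
    rw [hA', hB', ← Subgroup.subgroupOf_sup (le_LL_left a b) (le_LL_right a b)]
    exact Subgroup.subgroupOf_self _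
  have hrange : A'.map f ⊔ B'.map f = f.range := by
    rw [← Subgroup.map_sup, htop, MonoidHom.range_eq_map]
  have hsub : ∀ P : Subgroup (GL (Fin 2) (ZMod p)), Nat.card P = p →
      P ≤ (Matrix.SpecialLinearGroup.toGL :
        Matrix.SpecialLinearGroup (Fin 2) (ZMod p) →* GL (Fin 2) (ZMod p)).range := by
    intro P hP g hg
    rw [Cfsg.Agent.Lib.Helper7.mem_range_toGL_iff]
    apply Cfsg.Agent.Lib.Helper7.det_eq_one_of_pow_p
    have h1 : (⟨g, hg⟩ : ↥P) ^ Nat.card P = 1 := pow_card_eq_one'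
    rw [hP] at h1
    exact congrArg Subtype.val h1
  apply le_antisymm
  · rw [← hrange]; exact sup_le (hsub _ hcA) (hsub _ hcB)
  · rw [← hrange]; exact hle

/-- every automorphism of `W` of order dividing `p` induced from the normalizer is induced by `L` -/
theorem exists_same_action [Finite G] [Fact p.Prime] (h : Hyp p V H) (hp : IsPair p V H a b)
    {g : G} (hg : g ∈ Subgroup.normalizer (WW V a b : Set G))
    (hgp : g ^ p ∈ Subgroup.centralizer (WW V a b : Set G)) :
    ∃ g' ∈ LL a b, g'⁻¹ * g ∈ Subgroup.centralizer (WW V a b : Set G) := by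
  obtain ⟨e, he⟩ := hp.exists_range_eq h
  set ψ := (WW V a b).normalizerMonoidHom with hψ
  have hker : ∀ y : ↥(Subgroup.normalizer (WW V a b : Set G)),
      ψ y = 1 ↔ (y : G) ∈ Subgroup.centralizer (WW V a b : Set G) := by
    intro y
    rw [← MonoidHom.mem_ker, hψ, Subgroup.normalizerMonoidHom_ker, Subgroup.mem_subgroupOf]
  set σ := ψ ⟨g, hg⟩ with hσ
  have hσp : σ ^ p = 1 := by
    rw [hσ, ← map_pow, hker]
    simpa using hgp
  have h1 : e σ ∈ (Matrix.SpecialLinearGroup.toGL :
      Matrix.SpecialLinearGroup (Fin 2) (ZMod p) →* GL (Fin 2) (ZMod p)).range := by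
    rw [Cfsg.Agent.Lib.Helper7.mem_range_toGL_iff]
    apply Cfsg.Agent.Lib.Helper7.det_eq_one_of_pow_p
    rw [← map_pow, hσp, map_one]
  rw [← he] at h1
  obtain ⟨l, hl⟩ := h1
  have h2 : ψ (Subgroup.inclusion (LL_le_normalizer_WW h hp) l) = σ := by
    apply e.injective
    simpa using hl
  refine ⟨l, l.2, ?_⟩
  have h3 : ψ ((Subgroup.inclusion (LL_le_normalizer_WW h hp) l)⁻¹ * ⟨g, hg⟩) = 1 := by
    rw [map_mul, map_inv, h2, hσ, inv_mul_cancel]
  rw [hker] at h3
  simpa using h3

end IsPair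

end Cfsg.Agent.Lib.Helper4.FFPair
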