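import Mathlib
import Cfsg.Prelude.Def_PLocal
import Cfsg.Agent.S0026
import Cfsg.Agent.Lib.Helper4.FFImage

set_option autoImplicit false

namespace Cfsg.Agent.Lib.Helper4.FFPair

open scoped commutatorElement Pointwise
open Cfsg.Agent.Lib.Helper4.Offender

variable {G : Type*} [Group G] {p : ℕ} {V H : Subgroup G}

/-- `Q_a = [O_{p'}(H), a]` -/
def QQ (p : ℕ) (H : Subgroup G) (a : G) : Subgroup G := ⁅KK p H, Subgroup.zpowers a⁆

/-- `E_a = [O_{p'}(H), a]⟨a⟩` -/
def EE (p : ℕ) (H : Subgroup G) (a : G) : Subgroup G := QQ p H a ⊔ Subgroup.zpowers a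

theorem QQ_le_EE (p : ℕ) (H : Subgroup G) (a : G) : QQ p H a ≤ EE p H a := le_sup_left

theorem mem_EE (p : ℕ) (H : Subgroup G) (a : G) : a ∈ EE p H a :=
  le_sup_right (a := QQ p H a) (Subgroup.mem_zpowers a)

theorem KK_le_normalizer_QQ (p : ℕ) (H : Subgroup G) (a : G) :
    KK p H ≤ Subgroup.normalizer (QQ p H a : Set G) := Subgroup.normalizer_commutator_ge_left _ _

/-- conjugation by a normalizing element preserves the centralizer -/
theorem normalizer_le_normalizer_centralizer (W : Subgroup G) :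
    Subgroup.normalizer (W : Set G) ≤
      Subgroup.normalizer ((Subgroup.centralizer (W : Set G) : Subgroup G) : Set G) := by
  intro n hn
  have key : ∀ m ∈ Subgroup.normalizer (W : Set G), ∀ g ∈ Subgroup.centralizer (W : Set G),
      m * g * m⁻¹ ∈ Subgroup.centralizer (W : Set G) := by
    intro m hm g hg
    rw [Subgroup.mem_centralizer_iff]
    intro w hw
    have h1 : m⁻¹ * w * m ∈ W := by
      have := (Subgroup.mem_normalizer_iff.1 (Subgroup.inv_mem _ hm) w).1 hw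
      simpa using this
    have h2 := Subgroup.mem_centralizer_iff.1 hg _ h1
    calc w * (m * g * m⁻¹) = m * ((m⁻¹ * w * m) * g) * m⁻¹ := by group
      _ = m * (g * (m⁻¹ * w * m)) * m⁻¹ := by rw [h2]
      _ = m * g * m⁻¹ * w := by group
  rw [Subgroup.mem_normalizer_iff]
  intro g
  constructor
  · exact key n hn g
  · intro hg
    have := key n⁻¹ (Subgroup.inv_mem _ hn) _ hg
    have e : n⁻¹ * (n * g * n⁻¹) * n⁻¹⁻¹ = g := by group
    rwa [e] at this

/-- `A ≤ N(X)`, `B ≤ X` gives `[A, B] ≤ X` -/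
theorem comm_le_of_le_normalizer {A B X : Subgroup G} (hA : A ≤ Subgroup.normalizer (X : Set G))
    (hB : B ≤ X) : ⁅A, B⁆ ≤ X := by
  rw [Subgroup.commutator_le]
  intro a ha b hb
  rw [commutatorElement_def]
  exact X.mul_mem ((Subgroup.mem_normalizer_iff.1 (hA ha) b).1 (hB hb)) (X.inv_mem (hB hb))

theorem comm_le_of_le_normalizer' {A B X : Subgroup G} (hA : A ≤ Subgroup.normalizer (X : Set G))
    (hB : B ≤ X) : ⁅B, A⁆ ≤ X := by
  rw [Subgroup.commutator_comm]; exact comm_le_of_le_normalizer hA hB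

/-- normalizing `V` and `E` normalizes `V ⊓ C(E)` -/
theorem le_normalizer_inf_centralizer {B V E : Subgroup G}
    (hV : B ≤ Subgroup.normalizer (V : Set G)) (hE : B ≤ Subgroup.normalizer (E : Set G)) :
    B ≤ Subgroup.normalizer ((V ⊓ Subgroup.centralizer (E : Set G) : Subgroup G) : Set G) := by
  intro g hg
  have h1 := hV hg
  have h2 := normalizer_le_normalizer_centralizer E (hE hg)
  rw [Subgroup.mem_normalizer_iff] at h1 h2 ⊢
  intro x
  rw [Subgroup.mem_inf, Subgroup.mem_inf, ← h1 x, ← h2 x]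

/-- commutators of `V = W U` with an element centralizing `W` and normalizing `U` land in `U` -/
theorem comm_mem_of_decomp {V W U : Subgroup G} (hVc : ∀ s ∈ V, ∀ t ∈ V, s * t = t * s)
    (hWV : W ≤ V) (hUV : U ≤ V) (hsup : W ⊔ U = V) {f : G}
    (hfW : f ∈ Subgroup.centralizer (W : Set G)) (hfU : f ∈ Subgroup.normalizer (U : Set G))
    {v : G} (hv : v ∈ V) : ⁅v, f⁆ ∈ U := by
  have hUW : U ≤ Subgroup.normalizer (W : Set G) := by
    intro u hu
    apply Subgroup.centralizer_le_normalizer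
    rw [Subgroup.mem_centralizer_iff]
    intro w hw
    exact hVc w (hWV hw) u (hUV hu)
  rw [← hsup] at hv
  obtain ⟨w, hw, u, hu, rfl⟩ := (Cfsg.Agent.H1.mem_sup_of_le_normalizer W U hUW).1 hv
  have h1 : ⁅u, f⁆ ∈ U := comm_mem_of_normalizer hfU hu
  have h2 : f * w⁻¹ = w⁻¹ * f :=
    (Subgroup.mem_centralizer_iff.1 hfW _ (W.inv_mem hw)).symm
  have h3 : ⁅w * u, f⁆ = w * ⁅u, f⁆ * w⁻¹ := by
    simp only [commutatorElement_def]
    calc w * u * f * (w * u)⁻¹ * f⁻¹ = w * u * f * u⁻¹ * (w⁻¹ * f⁻¹) := by group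
      _ = w * u * f * u⁻¹ * (f⁻¹ * w⁻¹) := by
        congr 1
        have : w⁻¹ * f⁻¹ = (f * w)⁻¹ := by group
        rw [this, ← (Subgroup.mem_centralizer_iff.1 hfW _ hw)]; group
      _ = w * (u * f * u⁻¹ * f⁻¹) * w⁻¹ := by group
  rw [h3]
  have h4 : w * ⁅u, f⁆ * w⁻¹ = ⁅u, f⁆ := by
    rw [hVc w (hWV hw) _ (hUV h1)]; group
  rw [h4]; exact h1


theorem comm_conj (h : Hyp p V H) (a : G) {x : G} (hx : x ∈ H) :
    ⁅V, Subgroup.zpowers (x * a * x⁻¹)⁆ =
      (⁅V, Subgroup.zpowers a⁆).map (MulAut.conj x).toMonoidHom := by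
  have h1 : Subgroup.zpowers (x * a * x⁻¹) =
      (Subgroup.zpowers a).map (MulAut.conj x).toMonoidHom := by
    rw [MonoidHom.map_zpowers]; rfl
  have h2 : V.map (MulAut.conj x).toMonoidHom = V :=
    Subgroup.mem_normalizer_iff_map_conj_eq.1 (h.hHV hx)
  rw [Subgroup.map_commutator, h2, h1]

namespace IsPair

variable {a b : G}

/-- every nontrivial element of `W` spans `[V, c]` for some atom `c` of `L` -/
theorem exists_atom_mem [Finite G] [Fact p.Prime] (h : Hyp p V H) (hp : IsPair p V H a b)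
    {z : G} (hzW : z ∈ WW V a b) (hz1 : z ≠ 1) :
    ∃ c, IsAtom p V H c ∧ c ∈ LL a b ∧ ⁅V, Subgroup.zpowers c⁆ = Subgroup.zpowers z := by
  classical
  obtain ⟨T, hT, hTp⟩ := hp.exists_conj_finset h
  have hPc : ∀ c ∈ T, ⁅V, Subgroup.zpowers c⁆ ≤ WW V a b ∧
      Nat.card ↥(⁅V, Subgroup.zpowers c⁆) = p := by
    intro c hc
    obtain ⟨hcL, hca, _⟩ := hTp c hc
    refine ⟨?_, hca.card⟩
    rw [← comm_LL_eq h hp]
    exact Subgroup.commutator_mono le_rfl (Subgroup.zpowers_le.2 hcL)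
  have hdis : ∀ c ∈ T, ∀ c'' ∈ T, c ≠ c'' →
      ⁅V, Subgroup.zpowers c⁆ ⊓ ⁅V, Subgroup.zpowers c''⁆ = ⊥ := by
    intro c hc c'' hc'' hne
    obtain ⟨_, hca, hcK⟩ := hTp c hc
    obtain ⟨_, hc''a, hc''K⟩ := hTp c'' hc''
    refine comm_inf h ⟨hca, hc''a, ?_, hne⟩
    have : c'' * c⁻¹ = (c'' * a⁻¹) * (c * a⁻¹)⁻¹ := by group
    rw [this]
    exact Subgroup.mul_mem _ hc''K (Subgroup.inv_mem _ hcK)
  obtain ⟨c, hcT, hzc⟩ := cover (card_WW h hp) T (fun c => ⁅V, Subgroup.zpowers c⁆) hPc hdis hT z hzW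
  refine ⟨c, (hTp c hcT).2.1, (hTp c hcT).1, ?_⟩
  symm
  apply Subgroup.eq_of_le_of_card_ge (Subgroup.zpowers_le.2 hzc)
  rw [(hPc c hcT).2, Nat.card_zpowers]
  have h1 : z ^ p = 1 := h.hV.2 z (WW_le h hp hzW)
  exact (orderOf_eq_prime h1 hz1).ge

end IsPair

namespace IsAtom

variable {a b : G}

theorem exists_pair [Finite G] [Fact p.Prime] (h : Hyp p V H) (ha : IsAtom p V H a) :
    ∃ b, IsPair p V H a b ∧ b * a⁻¹ ∈ QQ p H a := by
  obtain ⟨x, hx, hxa⟩ := ha.exists_not_cent h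
  exact ⟨x * a * x⁻¹, IsPair.of_conj h ha hx hxa,
    Subgroup.commutator_mem_commutator hx (Subgroup.mem_zpowers a)⟩

theorem EE_eq [Finite G] [Fact p.Prime] (h : Hyp p V H) (hp : IsPair p V H a b)
    (hb : b * a⁻¹ ∈ QQ p H a) : EE p H a = IsPair.LL a b := hp.comm_KK_sup h hb

theorem QQ_eq [Finite G] [Fact p.Prime] (h : Hyp p V H) (hp : IsPair p V H a b)
    (hb : b * a⁻¹ ∈ QQ p H a) : QQ p H a = IsPair.LL a b ⊓ KK p H := hp.comm_KK_eq h hb

theorem comm_EE_eq [Finite G] [Fact p.Prime] (h : Hyp p V H) (hp : IsPair p V H a b)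
    (hb : b * a⁻¹ ∈ QQ p H a) : ⁅V, EE p H a⁆ = IsPair.WW V a b := by
  rw [EE_eq h hp hb]; exact IsPair.comm_LL_eq h hp

theorem QQ_le_KK [Finite G] (ha : IsAtom p V H a) : QQ p H a ≤ KK p H :=
  Subgroup.le_normalizer_iff_commutator_le_left.1 (ha.zpowers_le.trans (le_normalizer_KK p H))

theorem EE_le [Finite G] (ha : IsAtom p V H a) : EE p H a ≤ H :=
  sup_le (ha.QQ_le_KK.trans (KK_le p H)) ha.zpowers_le

theorem QQ_ne_bot [Finite G] [Fact p.Prime] (h : Hyp p V H) (ha : IsAtom p V H a) :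
    QQ p H a ≠ ⊥ := by
  obtain ⟨b, hp, hb⟩ := ha.exists_pair h
  intro hc
  rw [hc, Subgroup.mem_bot] at hb
  exact hp.hel_ne_one hb

theorem card_comm_EE [Finite G] [Fact p.Prime] (h : Hyp p V H) (ha : IsAtom p V H a) :
    Nat.card ↥(⁅V, EE p H a⁆) = p ^ 2 := by
  obtain ⟨b, hp, hb⟩ := ha.exists_pair h
  rw [comm_EE_eq h hp hb]; exact IsPair.card_WW h hp

theorem comm_EE_le [Finite G] (h : Hyp p V H) (ha : IsAtom p V H a) : ⁅V, EE p H a⁆ ≤ V :=
  Subgroup.le_normalizer_iff_commutator_le_left.1 (ha.EE_le.trans h.hHV)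

theorem comm_EE_inf_cent [Finite G] [Fact p.Prime] (h : Hyp p V H) (ha : IsAtom p V H a) :
    ⁅V, EE p H a⁆ ⊓ Subgroup.centralizer (EE p H a : Set G) = ⊥ := by
  obtain ⟨b, hp, hb⟩ := ha.exists_pair h
  rw [comm_EE_eq h hp hb, EE_eq h hp hb]; exact IsPair.WW_inf_cent_LL h hp

theorem comm_EE_sup_cent [Finite G] [Fact p.Prime] (h : Hyp p V H) (ha : IsAtom p V H a) :
    ⁅V, EE p H a⁆ ⊔ (V ⊓ Subgroup.centralizer (EE p H a : Set G)) = V := by
  obtain ⟨b, hp, hb⟩ := ha.exists_pair h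
  rw [comm_EE_eq h hp hb, EE_eq h hp hb]; exact IsPair.WW_sup_cent_LL h hp

theorem EE_inf_cent_comm [Finite G] [Fact p.Prime] (h : Hyp p V H) (ha : IsAtom p V H a) :
    EE p H a ⊓ Subgroup.centralizer ((⁅V, EE p H a⁆ : Subgroup G) : Set G) = ⊥ := by
  obtain ⟨b, hp, hb⟩ := ha.exists_pair h
  rw [comm_EE_eq h hp hb, EE_eq h hp hb]; exact IsPair.LL_inf_cent_WW h hp

theorem card_cent_EE [Finite G] [Fact p.Prime] (h : Hyp p V H) (ha : IsAtom p V H a) :
    p ^ 2 * Nat.card ↥(V ⊓ Subgroup.centralizer (EE p H a : Set G)) = Nat.card V := by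
  obtain ⟨b, hp, hb⟩ := ha.exists_pair h
  rw [EE_eq h hp hb]; exact IsPair.card_cent_LL h hp

theorem nonempty_mulEquiv_EE [Finite G] [Fact p.Prime] (h : Hyp p V H) (ha : IsAtom p V H a) :
    Nonempty (↥(EE p H a) ≃* Matrix.SpecialLinearGroup (Fin 2) (ZMod p)) := by
  obtain ⟨b, hp, hb⟩ := ha.exists_pair h
  rw [EE_eq h hp hb]; exact IsPair.nonempty_mulEquiv h hp

theorem p_eq [Finite G] [Fact p.Prime] (h : Hyp p V H) (ha : IsAtom p V H a) :
    p = 2 ∨ p = 3 := by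
  obtain ⟨b, hp, hb⟩ := ha.exists_pair h
  exact IsPair.p_eq h hp

theorem KK_le_normalizer_EE (p : ℕ) (H : Subgroup G) (a : G) :
    KK p H ≤ Subgroup.normalizer (EE p H a : Set G) := by
  intro k hk
  rw [Subgroup.mem_normalizer_iff_map_conj_eq]
  unfold EE
  rw [Subgroup.map_sup, Subgroup.mem_normalizer_iff_map_conj_eq.1 (KK_le_normalizer_QQ p H a hk),
    MonoidHom.map_zpowers]
  have hcomm : ⁅k, a⁆ ∈ QQ p H a :=
    Subgroup.commutator_mem_commutator hk (Subgroup.mem_zpowers a)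
  show QQ p H a ⊔ Subgroup.zpowers (k * a * k⁻¹) = QQ p H a ⊔ Subgroup.zpowers a
  have e1 : k * a * k⁻¹ = ⁅k, a⁆ * a := by
    simp [commutatorElement_def]
  rw [e1]
  apply le_antisymm
  · apply sup_le le_sup_left
    rw [Subgroup.zpowers_le]
    exact Subgroup.mul_mem _ (le_sup_left (a := QQ p H a) hcomm)
      (le_sup_right (b := Subgroup.zpowers a) (Subgroup.mem_zpowers a))
  · apply sup_le le_sup_left
    rw [Subgroup.zpowers_le]
    have key : ⁅k, a⁆⁻¹ * (⁅k, a⁆ * a) ∈ QQ p H a ⊔ Subgroup.zpowers (⁅k, a⁆ * a) :=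
      Subgroup.mul_mem _ (le_sup_left (a := QQ p H a) (Subgroup.inv_mem _ hcomm))
        (le_sup_right (b := Subgroup.zpowers (⁅k, a⁆ * a)) (Subgroup.mem_zpowers _))
    rwa [inv_mul_cancel_left] at key


theorem KK_le_normalizer_comm_EE [Finite G] (h : Hyp p V H) (a : G) :
    KK p H ≤ Subgroup.normalizer ((⁅V, EE p H a⁆ : Subgroup G) : Set G) :=
  norm_comm ((KK_le p H).trans h.hHV) (KK_le_normalizer_EE p H a)

theorem EE_le_normalizer_comm_EE [Finite G] (h : Hyp p V H) (ha : IsAtom p V H a) :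
    EE p H a ≤ Subgroup.normalizer ((⁅V, EE p H a⁆ : Subgroup G) : Set G) :=
  norm_comm (ha.EE_le.trans h.hHV) Subgroup.le_normalizer

/-- `W_a` is irreducible under `O_{p'}(H)` -/
theorem irreducible [Finite G] [Fact p.Prime] (h : Hyp p V H) (ha : IsAtom p V H a)
    {U : Subgroup G} (hU : U ≤ ⁅V, EE p H a⁆)
    (hKU : KK p H ≤ Subgroup.normalizer (U : Set G)) : U = ⊥ ∨ U = ⁅V, EE p H a⁆ := by
  by_cases hbot : U = ⊥
  · exact Or.inl hbot
  right
  obtain ⟨b, hp, hb⟩ := ha.exists_pair h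
  have hW := comm_EE_eq h hp hb
  obtain ⟨z, hzU, hz1⟩ : ∃ z ∈ U, z ≠ 1 := by
    obtain ⟨z, hz⟩ := (Subgroup.ne_bot_iff_exists_ne_one).1 hbot
    exact ⟨(z : G), z.2, fun hc => hz (Subtype.ext hc)⟩
  obtain ⟨c, hc, hcL, hcz⟩ := hp.exists_atom_mem h (hW ▸ hU hzU) hz1
  obtain ⟨y, hy, hyc⟩ := hc.exists_not_cent h
  have hp' := IsPair.of_conj h hc hy hyc
  have h1 : ⁅V, Subgroup.zpowers c⁆ ≤ U := hcz ▸ Subgroup.zpowers_le.2 hzU
  have h2 : ⁅V, Subgroup.zpowers (y * c * y⁻¹)⁆ ≤ U := by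
    rw [comm_conj h c (KK_le p H hy)]
    have := Subgroup.map_mono (f := (MulAut.conj y).toMonoidHom) h1
    have e : U.map (MulAut.conj y).toMonoidHom = U :=
      Subgroup.mem_normalizer_iff_map_conj_eq.1 (hKU hy)
    rwa [e] at this
  have h3 : IsPair.WW V c (y * c * y⁻¹) ≤ U := sup_le h1 h2
  apply Subgroup.eq_of_le_of_card_ge hU
  rw [card_comm_EE h ha, ← IsPair.card_WW h hp']
  exact Subgroup.card_le_of_le h3

theorem comm_QQ_eq [Finite G] [Fact p.Prime] (h : Hyp p V H) (ha : IsAtom p V H a) :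
    ⁅V, QQ p H a⁆ = ⁅V, EE p H a⁆ := by
  have hle : ⁅V, QQ p H a⁆ ≤ ⁅V, EE p H a⁆ := Subgroup.commutator_mono le_rfl (QQ_le_EE p H a)
  have hK : KK p H ≤ Subgroup.normalizer ((⁅V, QQ p H a⁆ : Subgroup G) : Set G) :=
    norm_comm ((KK_le p H).trans h.hHV) (KK_le_normalizer_QQ p H a)
  rcases ha.irreducible h hle hK with h1 | h1
  · exact absurd (faithful h (ha.QQ_le_KK.trans (KK_le p H)) h1) (ha.QQ_ne_bot h)
  · exact h1

theorem QQ_coprime [Finite G] (ha : IsAtom p V H a) (W : Subgroup G) (hW : IsPGroup p W)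
    [Fact p.Prime] : (Nat.card (QQ p H a)).Coprime (Nat.card W) := by
  obtain ⟨n, hn⟩ := IsPGroup.iff_card.1 hW
  rw [hn]
  exact Nat.Coprime.pow_right n
    (Nat.Coprime.coprime_dvd_left (Subgroup.card_dvd_of_le ha.QQ_le_KK) (KK_coprime p H))

theorem cent_QQ_eq [Finite G] [Fact p.Prime] (h : Hyp p V H) (ha : IsAtom p V H a) :
    V ⊓ Subgroup.centralizer (QQ p H a : Set G) = V ⊓ Subgroup.centralizer (EE p H a : Set G) := by
  symm
  apply Subgroup.eq_of_le_of_card_ge (inf_le_inf_left _ (cent_anti (QQ_le_EE p H a)))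
  set C := V ⊓ Subgroup.centralizer (QQ p H a : Set G) with hC
  have hVp : IsPGroup p V := isPGroup_of_elem h.hV
  have hQV : QQ p H a ≤ Subgroup.normalizer (V : Set G) :=
    (ha.QQ_le_KK.trans (KK_le p H)).trans h.hHV
  have hbot : ⁅V, EE p H a⁆ ⊓ C = ⊥ := by
    rw [eq_bot_iff, ← Cfsg.Agent.H1.commutator_inf_centralizer_eq_bot_of_abelian V (QQ p H a)
      h.hV.1 hQV (ha.QQ_coprime V hVp), ← comm_QQ_eq h ha]
    exact inf_le_inf_left _ inf_le_right
  have h1 := Cfsg.Agent.H1.card_sup_mul_card_inf ⁅V, EE p H a⁆ C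
    (IsPair.le_normalizer_of_le h (ha.comm_EE_le h) inf_le_left)
  rw [hbot, Subgroup.card_bot, mul_one, card_comm_EE h ha] at h1
  have h2 : Nat.card ↥(⁅V, EE p H a⁆ ⊔ C) ≤ Nat.card V :=
    Subgroup.card_le_of_le (sup_le (ha.comm_EE_le h) inf_le_left)
  rw [h1, ← card_cent_EE h ha] at h2
  exact Nat.le_of_mul_le_mul_left h2 (pow_pos (Fact.out : p.Prime).pos 2)


end IsAtom

theorem isSolvable_of_elem {V : Subgroup G} (hV : Cfsg.IsElementaryAbelian p V) :
    Group.IsSolvable ↥V := by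
  letI : CommGroup ↥V := { (inferInstance : Group ↥V) with mul_comm := hV.1.is_comm.comm }
  infer_instance

namespace IsAtom

variable {a c : G}

/-- equal commutator modules give equal fixed points -/
theorem cent_eq_of_comm_eq [Finite G] [Fact p.Prime] (h : Hyp p V H) (ha : IsAtom p V H a)
    (hc : IsAtom p V H c) (hW : ⁅V, EE p H a⁆ = ⁅V, EE p H c⁆) :
    V ⊓ Subgroup.centralizer (EE p H a : Set G) = V ⊓ Subgroup.centralizer (EE p H c : Set G) := by
  set X := QQ p H a ⊔ QQ p H c with hX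
  have hXK : X ≤ KK p H := sup_le ha.QQ_le_KK hc.QQ_le_KK
  have hKV : KK p H ≤ Subgroup.normalizer (V : Set G) := (KK_le p H).trans h.hHV
  have hXV : X ≤ Subgroup.normalizer (V : Set G) := hXK.trans hKV
  have hVp : IsPGroup p V := isPGroup_of_elem h.hV
  have hcop : (Nat.card X).Coprime (Nat.card V) := by
    obtain ⟨n, hn⟩ := IsPGroup.iff_card.1 hVp
    rw [hn]
    exact Nat.Coprime.pow_right n
      (Nat.Coprime.coprime_dvd_left (Subgroup.card_dvd_of_le hXK) (KK_coprime p H))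
  have hcommX : ⁅V, X⁆ = ⁅V, EE p H a⁆ := by
    apply le_antisymm
    · have hXc : X = Subgroup.closure ((QQ p H a : Set G) ∪ (QQ p H c : Set G)) := by
        rw [hX, Subgroup.closure_union, Subgroup.closure_eq, Subgroup.closure_eq]
      rw [hXc]
      apply comm_le_of_closure (comm_of_elem h.hV) (ha.comm_EE_le h)
      rintro s (hs | hs)
      · refine ⟨hKV (ha.QQ_le_KK hs), fun v hv => ?_⟩
        rw [← comm_QQ_eq h ha]
        exact Subgroup.commutator_mem_commutator hv hs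
      · refine ⟨hKV (hc.QQ_le_KK hs), fun v hv => ?_⟩
        rw [hW, ← comm_QQ_eq h hc]
        exact Subgroup.commutator_mem_commutator hv hs
    · rw [← comm_QQ_eq h ha]
      exact Subgroup.commutator_mono le_rfl le_sup_left
  have h26 := Cfsg.Agent.S0026.result X V hXV hcop (Or.inr (isSolvable_of_elem h.hV))
  have hbot : ⁅V, X⁆ ⊓ (V ⊓ Subgroup.centralizer (X : Set G)) = ⊥ := by
    rw [eq_bot_iff, ← Cfsg.Agent.H1.commutator_inf_centralizer_eq_bot_of_abelian V X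
      h.hV.1 hXV hcop]
    exact inf_le_inf_left _ inf_le_right
  have hXle : ⁅V, X⁆ ≤ V := Subgroup.le_normalizer_iff_commutator_le_left.1 hXV
  have h1 := Cfsg.Agent.H1.card_sup_mul_card_inf ⁅V, X⁆ (V ⊓ Subgroup.centralizer (X : Set G))
    (IsPair.le_normalizer_of_le h hXle inf_le_left)
  rw [hbot, Subgroup.card_bot, mul_one, h26, hcommX, card_comm_EE h ha] at h1
  have hpos : 0 < p ^ 2 := pow_pos (Fact.out : p.Prime).pos 2
  have ea : V ⊓ Subgroup.centralizer (X : Set G) =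
      V ⊓ Subgroup.centralizer (EE p H a : Set G) := by
    rw [← cent_QQ_eq h ha]
    apply Subgroup.eq_of_le_of_card_ge (inf_le_inf_left _ (cent_anti le_sup_left))
    rw [cent_QQ_eq h ha]
    have h2 := card_cent_EE h ha
    rw [h1] at h2
    exact (Nat.eq_of_mul_eq_mul_left hpos h2).le
  have ec : V ⊓ Subgroup.centralizer (X : Set G) =
      V ⊓ Subgroup.centralizer (EE p H c : Set G) := by
    rw [← cent_QQ_eq h hc]
    apply Subgroup.eq_of_le_of_card_ge (inf_le_inf_left _ (cent_anti le_sup_right))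
    rw [cent_QQ_eq h hc]
    have h2 := card_cent_EE h hc
    rw [h1] at h2
    exact (Nat.eq_of_mul_eq_mul_left hpos h2).le
  rw [← ea, ec]

theorem EE_le_centralizer_cent (p : ℕ) (V H : Subgroup G) (a : G) :
    EE p H a ≤ Subgroup.centralizer
      ((V ⊓ Subgroup.centralizer (EE p H a : Set G) : Subgroup G) : Set G) :=
  Subgroup.le_centralizer_iff.1 inf_le_right

/-- equal commutator modules give equal groups -/
theorem EE_le_of_comm_eq [Finite G] [Fact p.Prime] (h : Hyp p V H) (ha : IsAtom p V H a)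
    (hc : IsAtom p V H c) (hW : ⁅V, EE p H a⁆ = ⁅V, EE p H c⁆) : EE p H c ≤ EE p H a := by
  obtain ⟨b, hp, hb⟩ := ha.exists_pair h
  obtain ⟨d, hp', hd⟩ := hc.exists_pair h
  have hcent := cent_eq_of_comm_eq h ha hc hW
  have key : ∀ g, IsAtom p V H g → g ∈ EE p H c → g ∈ EE p H a := by
    intro g hg hgE
    have hgN : g ∈ Subgroup.normalizer (IsPair.WW V a b : Set G) := by
      rw [← comm_EE_eq h hp hb, hW]
      exact hc.EE_le_normalizer_comm_EE h hgE
    have hgp : g ^ p ∈ Subgroup.centralizer (IsPair.WW V a b : Set G) := by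
      rw [hg.pow]; exact Subgroup.one_mem _
    obtain ⟨g', hg'L, hg'⟩ := hp.exists_same_action h hgN hgp
    have hg'E : g' ∈ EE p H a := (EE_eq h hp hb) ▸ hg'L
    have h1 : g'⁻¹ * g ∈ Subgroup.centralizer
        ((V ⊓ Subgroup.centralizer (EE p H a : Set G) : Subgroup G) : Set G) := by
      refine Subgroup.mul_mem _ (Subgroup.inv_mem _ (EE_le_centralizer_cent p V H a hg'E)) ?_
      rw [hcent]
      exact EE_le_centralizer_cent p V H c hgE
    have h2 : g'⁻¹ * g ∈ Subgroup.centralizer (V : Set G) := by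
      have := comm_EE_sup_cent h ha
      rw [← this, centralizer_sup', comm_EE_eq h hp hb]
      exact Subgroup.mem_inf.2 ⟨hg', h1⟩
    have h3 : g'⁻¹ * g ∈ H ⊓ Subgroup.centralizer (V : Set G) :=
      Subgroup.mem_inf.2 ⟨H.mul_mem (H.inv_mem (ha.EE_le hg'E)) hg.mem, h2⟩
    rw [h.hf, Subgroup.mem_bot, inv_mul_eq_one] at h3
    rw [← h3]; exact hg'E
  have hE := EE_eq h hp' hd
  have hdE : d ∈ EE p H c := by
    rw [hE]; exact IsPair.le_LL_right c d (Subgroup.mem_zpowers d)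
  have : IsPair.LL c d ≤ EE p H a := by
    apply sup_le <;> rw [Subgroup.zpowers_le]
    · exact key c hc (mem_EE p H c)
    · exact key d hp'.hb hdE
  rwa [← hE] at this

/-- the case of commuting components -/
theorem of_comm_le_cent [Finite G] [Fact p.Prime] (h : Hyp p V H) (ha : IsAtom p V H a)
    (hc : IsAtom p V H c)
    (hle : ⁅V, EE p H a⁆ ≤ Subgroup.centralizer (QQ p H c : Set G)) :
    ⁅V, EE p H c⁆ ≤ Subgroup.centralizer (EE p H a : Set G) ∧
    ⁅V, EE p H a⁆ ≤ Subgroup.centralizer (EE p H c : Set G) ∧ ⁅EE p H a, EE p H c⁆ = ⊥ := by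
  have hKV : KK p H ≤ Subgroup.normalizer (V : Set G) := (KK_le p H).trans h.hHV
  have hWa_c : ⁅V, EE p H a⁆ ≤ V ⊓ Subgroup.centralizer (EE p H c : Set G) := by
    rw [← cent_QQ_eq h hc]; exact le_inf (ha.comm_EE_le h) hle
  have hWc_a : ⁅V, EE p H c⁆ ≤ V ⊓ Subgroup.centralizer (EE p H a : Set G) := by
    rw [← comm_QQ_eq h hc, Subgroup.commutator_le]
    intro v hv q hq
    apply comm_mem_of_decomp (comm_of_elem h.hV) (ha.comm_EE_le h) inf_le_left
      (ha.comm_EE_sup_cent h) ?_ ?_ hv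
    · exact (Subgroup.le_centralizer_iff.1 hle) hq
    · exact le_normalizer_inf_centralizer hKV (KK_le_normalizer_EE p H a) (hc.QQ_le_KK hq)
  have hA := hWc_a.trans inf_le_right
  have hC := hWa_c.trans inf_le_right
  refine ⟨hA, hC, ?_⟩
  set U := (V ⊓ Subgroup.centralizer (EE p H a : Set G)) ⊓
    Subgroup.centralizer (EE p H c : Set G) with hU
  have hsup : V ≤ ⁅V, EE p H a⁆ ⊔ (⁅V, EE p H c⁆ ⊔ U) := by
    intro v hv
    have hv' := hv
    rw [← comm_EE_sup_cent h ha] at hv'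
    obtain ⟨w, hw, u, hu, rfl⟩ := (Cfsg.Agent.H1.mem_sup_of_le_normalizer _ _
      (IsPair.le_normalizer_of_le h inf_le_left (ha.comm_EE_le h))).1 hv'
    have huV : u ∈ V := (Subgroup.mem_inf.1 hu).1
    rw [← comm_EE_sup_cent h hc] at huV
    obtain ⟨w', hw', u', hu', rfl⟩ := (Cfsg.Agent.H1.mem_sup_of_le_normalizer _ _
      (IsPair.le_normalizer_of_le h inf_le_left (hc.comm_EE_le h))).1 huV
    refine Subgroup.mul_mem _ (Subgroup.mem_sup_left hw) (Subgroup.mem_sup_right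
      (Subgroup.mul_mem _ (Subgroup.mem_sup_left hw') (Subgroup.mem_sup_right ?_)))
    rw [hU]
    refine Subgroup.mem_inf.2 ⟨?_, (Subgroup.mem_inf.1 hu').2⟩
    have : u' = w'⁻¹ * (w' * u') := by group
    rw [this]
    exact Subgroup.mul_mem _ (Subgroup.inv_mem _ (hWc_a hw')) hu
  have hEaN := ha.EE_le_normalizer_comm_EE h
  have hEcN := hc.EE_le_normalizer_comm_EE h
  have h1 : ⁅EE p H a, EE p H c⁆ ≤
      Subgroup.centralizer ((⁅V, EE p H a⁆ : Subgroup G) : Set G) :=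
    comm_le_of_le_normalizer (hEaN.trans (normalizer_le_normalizer_centralizer _))
      (Subgroup.le_centralizer_iff.1 hC)
  have h2 : ⁅EE p H a, EE p H c⁆ ≤
      Subgroup.centralizer ((⁅V, EE p H c⁆ : Subgroup G) : Set G) :=
    comm_le_of_le_normalizer' (hEcN.trans (normalizer_le_normalizer_centralizer _))
      (Subgroup.le_centralizer_iff.1 hA)
  have h3 : ⁅EE p H a, EE p H c⁆ ≤ Subgroup.centralizer (U : Set G) := by
    apply comm_le_of_le_normalizer (X := Subgroup.centralizer (U : Set G))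
    · refine le_trans ?_ Subgroup.le_normalizer
      exact Subgroup.le_centralizer_iff.1 (inf_le_left.trans inf_le_right)
    · exact Subgroup.le_centralizer_iff.1 inf_le_right
  have hEH : ⁅EE p H a, EE p H c⁆ ≤ H :=
    comm_le_of_le_normalizer (ha.EE_le.trans Subgroup.le_normalizer) hc.EE_le
  apply faithful h hEH
  rw [Subgroup.commutator_eq_bot_iff_le_centralizer]
  refine hsup.trans ?_
  rw [Subgroup.le_centralizer_iff, centralizer_sup', centralizer_sup']
  exact le_inf h1 (le_inf h2 h3)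

/-- two atoms: equal or commuting components -/
theorem dichotomy [Finite G] [Fact p.Prime] (h : Hyp p V H) (ha : IsAtom p V H a)
    (hc : IsAtom p V H c) :
    EE p H a = EE p H c ∨
    (⁅V, EE p H c⁆ ≤ Subgroup.centralizer (EE p H a : Set G) ∧
      ⁅V, EE p H a⁆ ≤ Subgroup.centralizer (EE p H c : Set G) ∧ ⁅EE p H a, EE p H c⁆ = ⊥) := by
  set M := ⁅⁅V, EE p H a⁆, QQ p H c⁆ with hM
  have hKM : KK p H ≤ Subgroup.normalizer (M : Set G) :=
    norm_comm (KK_le_normalizer_comm_EE h a) (KK_le_normalizer_QQ p H c)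
  have hMW : M ≤ ⁅V, EE p H a⁆ :=
    Subgroup.le_normalizer_iff_commutator_le_left.1
      (hc.QQ_le_KK.trans (KK_le_normalizer_comm_EE h a))
  rcases ha.irreducible h hMW hKM with h1 | h1
  · right
    exact of_comm_le_cent h ha hc (Subgroup.commutator_eq_bot_iff_le_centralizer.1 h1)
  · left
    have h2 : ⁅V, EE p H a⁆ ≤ ⁅V, EE p H c⁆ :=
      calc ⁅V, EE p H a⁆ = M := h1.symm
        _ ≤ ⁅V, QQ p H c⁆ := Subgroup.commutator_mono (ha.comm_EE_le h) le_rfl
        _ = ⁅V, EE p H c⁆ := comm_QQ_eq h hc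
    have h3 : ⁅V, EE p H a⁆ = ⁅V, EE p H c⁆ :=
      Subgroup.eq_of_le_of_card_ge h2 (by rw [card_comm_EE h ha, card_comm_EE h hc])
    exact le_antisymm (EE_le_of_comm_eq h hc ha h3.symm) (EE_le_of_comm_eq h ha hc h3)

end IsAtom

end Cfsg.Agent.Lib.Helper4.FFPair
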