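import Mathlib
import Cfsg.Prelude.Def_PLocal
import Cfsg.Agent.Lib.Helper4.FFTwo

set_option autoImplicit false

namespace Cfsg.Agent.Lib.Helper4.FFPair

open scoped commutatorElement Pointwise
open Cfsg.Agent.Lib.Helper4.Offender

variable {G : Type*} [Group G] {p : ℕ} {V H : Subgroup G}

/-- `H` is generated by its atoms -/
theorem le_of_atoms [Finite G] [Fact p.Prime] (h : Hyp p V H)
    (hS3 : H = ⨆ A : {A : Subgroup G // A ≤ H ∧ Cfsg.IsBestOffenderOn p V A}, (A : Subgroup G))
    {X : Subgroup G} (hX : ∀ c, IsAtom p V H c → c ∈ X) : H ≤ X := by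
  refine hS3.le.trans (iSup_le ?_)
  rintro ⟨A, hAH, hA⟩
  obtain ⟨k, B, hB, _, hsup⟩ := decomposition h (Nat.card A) A rfl hAH hA
  show A ≤ X
  rw [← hsup]
  apply iSup_le
  intro i
  obtain ⟨hBA, hbest, hne, hmin⟩ := hB i
  obtain ⟨a, ha, hBa⟩ := exists_atom h (hBA.trans hAH) hbest hne hmin
  rw [hBa, Subgroup.zpowers_le]
  exact hX a ha

namespace IsAtom

variable {a c : G}

theorem direct_factor [Finite G] [Fact p.Prime] (h : Hyp p V H)
    (hS3 : H = ⨆ A : {A : Subgroup G // A ≤ H ∧ Cfsg.IsBestOffenderOn p V A}, (A : Subgroup G))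
    (ha : IsAtom p V H a) :
    H ≤ Subgroup.normalizer (EE p H a : Set G) ∧
    ⁅EE p H a, H ⊓ Subgroup.centralizer ((⁅V, EE p H a⁆ : Subgroup G) : Set G)⁆ = ⊥ ∧
    EE p H a ⊔ (H ⊓ Subgroup.centralizer ((⁅V, EE p H a⁆ : Subgroup G) : Set G)) = H ∧
    ⁅V, H ⊓ Subgroup.centralizer ((⁅V, EE p H a⁆ : Subgroup G) : Set G)⁆ ≤
      V ⊓ Subgroup.centralizer (EE p H a : Set G) := by
  have hnormal : H ≤ Subgroup.normalizer (EE p H a : Set G) := by
    apply le_of_atoms h hS3
    intro c hc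
    rcases dichotomy h ha hc with heq | ⟨_, _, hcomm⟩
    · rw [heq]; exact Subgroup.le_normalizer (mem_EE p H c)
    · have h1 : EE p H c ≤ Subgroup.centralizer (EE p H a : Set G) :=
        Subgroup.le_centralizer_iff.1 (Subgroup.commutator_eq_bot_iff_le_centralizer.1 hcomm)
      exact Subgroup.centralizer_le_normalizer _ (h1 (mem_EE p H c))
  set F := H ⊓ Subgroup.centralizer ((⁅V, EE p H a⁆ : Subgroup G) : Set G) with hF
  refine ⟨hnormal, ?_, ?_, ?_⟩
  · rw [eq_bot_iff, ← ha.EE_inf_cent_comm h]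
    refine le_inf ?_ ?_
    · exact comm_le_of_le_normalizer' (A := F) (inf_le_left.trans hnormal) le_rfl
    · exact comm_le_of_le_normalizer
        ((ha.EE_le_normalizer_comm_EE h).trans (normalizer_le_normalizer_centralizer _))
        inf_le_right
  · apply le_antisymm (sup_le ha.EE_le inf_le_left)
    apply le_of_atoms h hS3
    intro c hc
    rcases dichotomy h ha hc with heq | ⟨_, hWa, _⟩
    · exact Subgroup.mem_sup_left (heq ▸ mem_EE p H c)
    · refine Subgroup.mem_sup_right (Subgroup.mem_inf.2 ⟨hc.mem, ?_⟩)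
      exact (Subgroup.le_centralizer_iff.1 hWa) (mem_EE p H c)
  · rw [Subgroup.commutator_le]
    intro v hv f hf
    exact comm_mem_of_decomp (comm_of_elem h.hV) (ha.comm_EE_le h) inf_le_left
      (ha.comm_EE_sup_cent h) (Subgroup.mem_inf.1 hf).2
      (le_normalizer_inf_centralizer h.hHV hnormal (Subgroup.mem_inf.1 hf).1) hv

end IsAtom


/-- components: the groups `[O_{p'}(H), A] A` for minimal offenders `A` -/
def IsComp (p : ℕ) (V H E : Subgroup G) : Prop :=
  ∃ A : Subgroup G, A ≤ H ∧ Cfsg.IsBestOffenderOn p V A ∧ ⁅V, A⁆ ≠ ⊥ ∧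
    (∀ B : Subgroup G, B ≤ A → Cfsg.IsBestOffenderOn p V B → ⁅V, B⁆ ≠ ⊥ → B = A) ∧
    E = ⁅(Cfsg.pPrimeCore p ↥H).map H.subtype, A⁆ ⊔ A

theorem IsComp.exists_atom [Finite G] [Fact p.Prime] (h : Hyp p V H) {E : Subgroup G}
    (hE : IsComp p V H E) : ∃ a, IsAtom p V H a ∧ E = EE p H a := by
  obtain ⟨A, hAH, hA, hAV, hmin, rfl⟩ := hE
  obtain ⟨a, ha, rfl⟩ := FFPair.exists_atom h hAH hA hAV hmin
  exact ⟨a, ha, rfl⟩

theorem exists_isAtom [Finite G] [Fact p.Prime] (h : Hyp p V H)
    (hS3 : H = ⨆ A : {A : Subgroup G // A ≤ H ∧ Cfsg.IsBestOffenderOn p V A}, (A : Subgroup G))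
    (hH1 : H ≠ ⊥) : ∃ a, IsAtom p V H a := by
  by_contra hcon
  push_neg at hcon
  apply hH1
  rw [eq_bot_iff]
  exact le_of_atoms h hS3 (fun c hc => absurd hc (hcon c))

/-- `H` is generated by its components -/
theorem le_of_comps [Finite G] [Fact p.Prime] (h : Hyp p V H)
    (hS3 : H = ⨆ A : {A : Subgroup G // A ≤ H ∧ Cfsg.IsBestOffenderOn p V A}, (A : Subgroup G))
    {X : Subgroup G} (hX : ∀ E, IsComp p V H E → E ≤ X) : H ≤ X := by
  refine hS3.le.trans (iSup_le ?_)
  rintro ⟨A, hAH, hA⟩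
  obtain ⟨k, B, hB, _, hsup⟩ := decomposition h (Nat.card A) A rfl hAH hA
  show A ≤ X
  rw [← hsup]
  apply iSup_le
  intro i
  obtain ⟨hBA, hbest, hne, hmin⟩ := hB i
  exact le_sup_right.trans (hX _ ⟨B i, hBA.trans hAH, hbest, hne, hmin, rfl⟩)

theorem structure_thm [Finite G] [Fact p.Prime] (h : Hyp p V H)
    (hS3 : H = ⨆ A : {A : Subgroup G // A ≤ H ∧ Cfsg.IsBestOffenderOn p V A}, (A : Subgroup G))
    (hH1 : H ≠ ⊥) :
    (p = 2 ∨ p = 3) ∧
    (∀ E : {E : Subgroup G // IsComp p V H E},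
      H ≤ Subgroup.normalizer ((E : Subgroup G) : Set G) ∧
      Nonempty (↥(E : Subgroup G) ≃* Matrix.SpecialLinearGroup (Fin 2) (ZMod p)) ∧
      Nat.card ↥(⁅V, (E : Subgroup G)⁆) = p ^ 2) ∧
    iSupIndep (fun E : {E : Subgroup G // IsComp p V H E} => (E : Subgroup G)) ∧
    (⨆ E : {E : Subgroup G // IsComp p V H E}, (E : Subgroup G)) = H ∧
    iSupIndep (fun o : Option {E : Subgroup G // IsComp p V H E} =>
      o.elim (V ⊓ Subgroup.centralizer (H : Set G)) (fun E => ⁅V, (E : Subgroup G)⁆)) ∧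
    (V ⊓ Subgroup.centralizer (H : Set G)) ⊔
      (⨆ E : {E : Subgroup G // IsComp p V H E}, ⁅V, (E : Subgroup G)⁆) = V := by
  have hKV : KK p H ≤ Subgroup.normalizer (V : Set G) := (KK_le p H).trans h.hHV
  have hVp : IsPGroup p V := isPGroup_of_elem h.hV
  have hcopK : ∀ X : Subgroup G, X ≤ KK p H → (Nat.card X).Coprime (Nat.card V) := by
    intro X hXK
    obtain ⟨n, hn⟩ := IsPGroup.iff_card.1 hVp
    rw [hn]
    exact Nat.Coprime.pow_right n
      (Nat.Coprime.coprime_dvd_left (Subgroup.card_dvd_of_le hXK) (KK_coprime p H))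
  -- components pairwise
  have hpair : ∀ E E' : {E : Subgroup G // IsComp p V H E}, E ≠ E' →
      (E' : Subgroup G) ≤ Subgroup.centralizer ((⁅V, (E : Subgroup G)⁆ : Subgroup G) : Set G) ∧
      ⁅V, (E' : Subgroup G)⁆ ≤ V ⊓ Subgroup.centralizer ((E : Subgroup G) : Set G) := by
    rintro ⟨E, hE⟩ ⟨E', hE'⟩ hne
    obtain ⟨a, ha, rfl⟩ := hE.exists_atom h
    obtain ⟨c, hc, rfl⟩ := hE'.exists_atom h
    rcases IsAtom.dichotomy h ha hc with heq | ⟨h1, h2, _⟩
    · exact absurd (Subtype.ext heq) hne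
    · exact ⟨Subgroup.le_centralizer_iff.1 h2, le_inf (hc.comm_EE_le h) h1⟩
  have hsupE : (⨆ E : {E : Subgroup G // IsComp p V H E}, (E : Subgroup G)) = H := by
    apply le_antisymm
    · apply iSup_le
      rintro ⟨E, hE⟩
      obtain ⟨a, ha, rfl⟩ := hE.exists_atom h
      exact ha.EE_le
    · apply le_of_comps h hS3
      intro E hE
      exact le_iSup (fun E : {E : Subgroup G // IsComp p V H E} => (E : Subgroup G)) ⟨E, hE⟩
  refine ⟨?_, ?_, ?_, hsupE, ?_, ?_⟩
  · obtain ⟨a, ha⟩ := exists_isAtom h hS3 hH1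
    exact ha.p_eq h
  · rintro ⟨E, hE⟩
    obtain ⟨a, ha, rfl⟩ := hE.exists_atom h
    exact ⟨(ha.direct_factor h hS3).1, ha.nonempty_mulEquiv_EE h, ha.card_comm_EE h⟩
  · intro i
    obtain ⟨a, ha, hEa⟩ := i.2.exists_atom h
    rw [disjoint_iff_inf_le]
    have h1 : (⨆ j, ⨆ (_ : j ≠ i), (j : Subgroup G)) ≤
        Subgroup.centralizer ((⁅V, (i : Subgroup G)⁆ : Subgroup G) : Set G) := by
      apply iSup_le; intro j
      apply iSup_le; intro hji
      exact (hpair i j (Ne.symm hji)).1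
    refine (inf_le_inf_left _ h1).trans ?_
    show (i : Subgroup G) ⊓ _ ≤ ⊥
    rw [hEa, ha.EE_inf_cent_comm h]
  · intro o
    rw [disjoint_iff_inf_le]
    cases o with
    | none =>
      simp only [Option.elim]
      have h1 : (⨆ j, ⨆ (_ : j ≠ (none : Option {E : Subgroup G // IsComp p V H E})),
          j.elim (V ⊓ Subgroup.centralizer (H : Set G)) (fun E => ⁅V, (E : Subgroup G)⁆)) ≤
          ⁅V, KK p H⁆ := by
        apply iSup_le; intro j
        apply iSup_le; intro hj
        cases j with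
        | none => exact absurd rfl hj
        | some E =>
          simp only [Option.elim]
          obtain ⟨a, ha, hEa⟩ := E.2.exists_atom h
          rw [hEa, ← ha.comm_QQ_eq h]
          exact Subgroup.commutator_mono le_rfl ha.QQ_le_KK
      have h2 : V ⊓ Subgroup.centralizer (H : Set G) ≤ Subgroup.centralizer (KK p H : Set G) :=
        inf_le_right.trans (cent_anti (KK_le p H))
      refine (inf_le_inf h2 h1).trans ?_
      rw [inf_comm, Cfsg.Agent.H1.commutator_inf_centralizer_eq_bot_of_abelian V (KK p H)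
        h.hV.1 hKV (hcopK _ le_rfl)]
    | some i =>
      simp only [Option.elim]
      obtain ⟨a, ha, hEa⟩ := i.2.exists_atom h
      have h1 : (⨆ j, ⨆ (_ : j ≠ (some i : Option {E : Subgroup G // IsComp p V H E})),
          j.elim (V ⊓ Subgroup.centralizer (H : Set G)) (fun E => ⁅V, (E : Subgroup G)⁆)) ≤
          V ⊓ Subgroup.centralizer ((i : Subgroup G) : Set G) := by
        apply iSup_le; intro j
        apply iSup_le; intro hj
        cases j with
        | none =>
          simp only [Option.elim]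
          refine inf_le_inf_left _ (cent_anti ?_)
          rw [hEa]; exact ha.EE_le
        | some E =>
          simp only [Option.elim]
          exact (hpair i E (fun hc => hj (congrArg some hc.symm))).2
      refine (inf_le_inf_left _ h1).trans ?_
      rw [hEa, ← ha.comm_EE_inf_cent h]
      exact inf_le_inf_left _ inf_le_right
  · apply le_antisymm
    · apply sup_le inf_le_left
      apply iSup_le
      rintro ⟨E, hE⟩
      obtain ⟨a, ha, rfl⟩ := hE.exists_atom h
      exact ha.comm_EE_le h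
    · set K' := ⨆ E : {E : Subgroup G // IsComp p V H E}, ((E : Subgroup G) ⊓ KK p H) with hK'
      have hK'K : K' ≤ KK p H := iSup_le fun E => inf_le_right
      have h26 := Cfsg.Agent.S0026.result K' V (hK'K.trans hKV) (hcopK _ hK'K)
        (Or.inr (isSolvable_of_elem h.hV))
      refine h26.ge.trans ?_
      apply sup_le
      · refine le_trans ?_ le_sup_right
        have hWV : (⨆ E : {E : Subgroup G // IsComp p V H E}, ⁅V, (E : Subgroup G)⁆) ≤ V := by
          apply iSup_le
          rintro ⟨E, hE⟩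
          obtain ⟨a, ha, rfl⟩ := hE.exists_atom h
          exact ha.comm_EE_le h
        rw [hK', Subgroup.iSup_eq_closure]
        apply comm_le_of_closure (comm_of_elem h.hV) hWV
        intro s hs
        rw [Set.mem_iUnion] at hs
        obtain ⟨E, hsE⟩ := hs
        have hsE' := Subgroup.mem_inf.1 hsE
        refine ⟨hKV hsE'.2, fun v hv => ?_⟩
        exact le_iSup (fun E : {E : Subgroup G // IsComp p V H E} => ⁅V, (E : Subgroup G)⁆) E
          (Subgroup.commutator_mem_commutator hv hsE'.1)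
      · refine le_trans ?_ le_sup_left
        refine le_inf inf_le_left ?_
        rw [Subgroup.le_centralizer_iff, ← hsupE]
        apply iSup_le
        rintro ⟨E, hE⟩
        obtain ⟨a, ha, rfl⟩ := hE.exists_atom h
        obtain ⟨b, hp, hb⟩ := ha.exists_pair h
        have h1 : V ⊓ Subgroup.centralizer (K' : Set G) ≤
            V ⊓ Subgroup.centralizer (EE p H a : Set G) := by
          rw [← ha.cent_QQ_eq h]
          refine inf_le_inf_left _ (cent_anti ?_)
          rw [IsAtom.QQ_eq h hp hb, ← IsAtom.EE_eq h hp hb]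
          exact le_iSup (fun E : {E : Subgroup G // IsComp p V H E} =>
            ((E : Subgroup G) ⊓ KK p H)) ⟨EE p H a, hE⟩
        exact (IsAtom.EE_le_centralizer_cent p V H a).trans (cent_anti h1)

end Cfsg.Agent.Lib.Helper4.FFPair
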