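import Mathlib
import Cfsg.Prelude.Def_PLocal
import Cfsg.Agent.Lib.Helper4.FFThm

set_option autoImplicit false

namespace Cfsg.Agent.Lib.Helper4.FFHol

open scoped commutatorElement
open Cfsg.Agent.Lib.Helper4.Offender Cfsg.Agent.Lib.Helper4.FFPair

variable {G : Type*} [Group G] (V : Subgroup G) [hVn : V.Normal]

/-- the holomorph of `V` -/
abbrev Hol : Type _ := SemidirectProduct ↥V (MulAut ↥V) (MonoidHom.id (MulAut ↥V))

instance [Finite G] : Finite (Hol V) :=
  Finite.of_equiv _ (SemidirectProduct.equivProd (N := ↥V) (G := MulAut ↥V)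
    (φ := MonoidHom.id (MulAut ↥V))).symm

/-- the action map `G → Hol(V)` -/
def proj : G →* Hol V := (SemidirectProduct.inr).comp (MulAut.conjNormal (H := V))

/-- the copy of `V` inside its holomorph -/
def VV : Subgroup (Hol V) := (SemidirectProduct.inl : ↥V →* Hol V).range

theorem proj_conj (g : G) (v : ↥V) :
    proj V g * SemidirectProduct.inl v * (proj V g)⁻¹ =
      SemidirectProduct.inl (MulAut.conjNormal g v) := by
  unfold proj
  rw [MonoidHom.comp_apply, ← map_inv, ← SemidirectProduct.inl_aut]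
  rfl

theorem proj_eq_one_iff (g : G) : proj V g = 1 ↔ g ∈ Subgroup.centralizer (V : Set G) := by
  unfold proj
  rw [MonoidHom.comp_apply, ← map_one (SemidirectProduct.inr : MulAut ↥V →* Hol V),
    SemidirectProduct.inr_inj, Subgroup.mem_centralizer_iff]
  constructor
  · intro h v hv
    have h1 := congrArg (fun σ : MulAut ↥V => ((σ ⟨v, hv⟩ : ↥V) : G)) h
    simp only [MulAut.conjNormal_apply, MulAut.one_apply] at h1
    calc v * g = (g * v * g⁻¹) * g := by rw [h1]
      _ = g * v := by group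
  · intro h
    ext v
    rw [MulAut.conjNormal_apply, MulAut.one_apply, ← h v v.2]
    group

theorem ker_proj : (proj V).ker = Subgroup.centralizer (V : Set G) := by
  ext g
  rw [MonoidHom.mem_ker, proj_eq_one_iff]


theorem VV_elem {p : ℕ} (hV : Cfsg.IsElementaryAbelian p V) :
    Cfsg.IsElementaryAbelian p (VV V) := by
  constructor
  · refine ⟨⟨?_⟩⟩
    rintro ⟨x, v, rfl⟩ ⟨y, w, rfl⟩
    apply Subtype.ext
    show SemidirectProduct.inl v * SemidirectProduct.inl w =
      SemidirectProduct.inl w * SemidirectProduct.inl v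
    rw [← map_mul, ← map_mul, hV.1.is_comm.comm v w]
  · rintro x ⟨v, rfl⟩
    rw [← map_pow]
    have : v ^ p = 1 := Subtype.ext (by simpa using hV.2 v v.2)
    rw [this, map_one]

theorem range_proj_le_normalizer : (proj V).range ≤ Subgroup.normalizer (VV V : Set (Hol V)) := by
  rintro x ⟨g, rfl⟩
  have key : ∀ h : G, ∀ y ∈ VV V, proj V h * y * (proj V h)⁻¹ ∈ VV V := by
    rintro h y ⟨v, rfl⟩
    rw [proj_conj]
    exact ⟨_, rfl⟩
  rw [Subgroup.mem_normalizer_iff]
  intro y
  constructor
  · exact key g y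
  · intro hy
    have := key g⁻¹ _ hy
    rw [map_inv] at this
    have e : (proj V g)⁻¹ * (proj V g * y * (proj V g)⁻¹) * (proj V g)⁻¹⁻¹ = y := by group
    rwa [e] at this

theorem range_proj_inf_centralizer :
    (proj V).range ⊓ Subgroup.centralizer (VV V : Set (Hol V)) = ⊥ := by
  rw [eq_bot_iff]
  rintro x ⟨⟨g, rfl⟩, hx⟩
  rw [Subgroup.mem_bot, proj_eq_one_iff, Subgroup.mem_centralizer_iff]
  intro v hv
  have h1 := Subgroup.mem_centralizer_iff.1 hx (SemidirectProduct.inl ⟨v, hv⟩) ⟨_, rfl⟩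
  have h2 : proj V g * SemidirectProduct.inl ⟨v, hv⟩ * (proj V g)⁻¹ =
      SemidirectProduct.inl ⟨v, hv⟩ := by
    rw [← h1]; group
  rw [proj_conj, SemidirectProduct.inl_inj] at h2
  have h3 := congrArg Subtype.val h2
  rw [MulAut.conjNormal_apply] at h3
  calc v * g = (g * v * g⁻¹) * g := by rw [h3]
    _ = g * v := by group

/-- `C_{V'}(A') ` corresponds to `C_V(A)` -/
theorem inl_mem_centralizer_map (A : Subgroup G) (v : ↥V) :
    (SemidirectProduct.inl v : Hol V) ∈ Subgroup.centralizer ((A.map (proj V) : Subgroup (Hol V)) : Set (Hol V)) ↔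
      (v : G) ∈ Subgroup.centralizer (A : Set G) := by
  rw [Subgroup.mem_centralizer_iff, Subgroup.mem_centralizer_iff]
  constructor
  · intro h a ha
    have h1 := h (proj V a) ⟨a, ha, rfl⟩
    have h2 : proj V a * SemidirectProduct.inl v * (proj V a)⁻¹ = SemidirectProduct.inl v := by
      rw [h1]; group
    rw [proj_conj, SemidirectProduct.inl_inj] at h2
    have h3 := congrArg Subtype.val h2
    rw [MulAut.conjNormal_apply] at h3
    calc a * v = (a * v * a⁻¹) * a := by group
      _ = v * a := by rw [h3]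
  · rintro h x ⟨a, ha, rfl⟩
    have h1 : proj V a * SemidirectProduct.inl v * (proj V a)⁻¹ = SemidirectProduct.inl v := by
      rw [proj_conj, SemidirectProduct.inl_inj]
      apply Subtype.ext
      rw [MulAut.conjNormal_apply, h a ha]
      group
    calc proj V a * SemidirectProduct.inl v
        = (proj V a * SemidirectProduct.inl v * (proj V a)⁻¹) * proj V a := by group
      _ = SemidirectProduct.inl v * proj V a := by rw [h1]

theorem card_cent_map [Finite G] (A : Subgroup G) :
    Nat.card ↥(VV V ⊓ Subgroup.centralizer ((A.map (proj V) : Subgroup (Hol V)) : Set (Hol V))) =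
      Nat.card ↥(V ⊓ Subgroup.centralizer (A : Set G)) := by
  symm
  apply Nat.card_congr
  refine Equiv.ofBijective (fun v => ⟨SemidirectProduct.inl ⟨(v : G), (Subgroup.mem_inf.1 v.2).1⟩,
    Subgroup.mem_inf.2 ⟨⟨_, rfl⟩, (inl_mem_centralizer_map V A _).2 (Subgroup.mem_inf.1 v.2).2⟩⟩)
    ⟨?_, ?_⟩
  · intro v w hvw
    have h1 := congrArg Subtype.val hvw
    simp only [SemidirectProduct.inl_inj, Subtype.mk.injEq] at h1
    exact Subtype.ext h1
  · rintro ⟨x, hx⟩
    obtain ⟨⟨v, rfl⟩, hxc⟩ := Subgroup.mem_inf.1 hx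
    refine ⟨⟨(v : G), Subgroup.mem_inf.2 ⟨v.2, (inl_mem_centralizer_map V A v).1 hxc⟩⟩, ?_⟩
    rfl

theorem card_map_proj [Finite G] (A : Subgroup G) :
    Nat.card ↥(A.map (proj V)) * Nat.card ↥(A ⊓ Subgroup.centralizer (V : Set G)) = Nat.card A := by
  have h1 := Subgroup.card_mul_index ((proj V).subgroupMap A).ker
  rw [Subgroup.index_ker, MonoidHom.range_eq_top.2 ((proj V).subgroupMap_surjective A),
    Subgroup.card_top, Subgroup.ker_subgroupMap, ker_proj] at h1
  have h2 : Nat.card ↥((Subgroup.centralizer (V : Set G)).subgroupOf A) =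
      Nat.card ↥(A ⊓ Subgroup.centralizer (V : Set G)) := by
    rw [← Subgroup.card_map_of_injective A.subtype_injective, Subgroup.subgroupOf_map_subtype,
      inf_comm]
  rw [h2] at h1
  rw [mul_comm]; exact h1


/-- best offenders map to best offenders in the holomorph -/
theorem best_map [Finite G] {p : ℕ} {A : Subgroup G} (hA : Cfsg.IsBestOffenderOn p V A) :
    Cfsg.IsBestOffenderOn p (VV V) (A.map (proj V)) := by
  refine ⟨?_, ?_, ?_⟩
  · intro B' hB'
    set B := A ⊓ B'.comap (proj V) with hB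
    have hBmap : B.map (proj V) = B' := by
      apply le_antisymm
      · rintro x ⟨b, hb, rfl⟩
        exact (Subgroup.mem_inf.1 hb).2
      · intro x hx
        obtain ⟨a, ha, rfl⟩ := hB' hx
        exact ⟨a, Subgroup.mem_inf.2 ⟨ha, hx⟩, rfl⟩
    have hBC : B ⊓ Subgroup.centralizer (V : Set G) = A ⊓ Subgroup.centralizer (V : Set G) := by
      apply le_antisymm (inf_le_inf_right _ inf_le_left)
      intro g hg
      obtain ⟨hgA, hgC⟩ := Subgroup.mem_inf.1 hg
      refine Subgroup.mem_inf.2 ⟨Subgroup.mem_inf.2 ⟨hgA, ?_⟩, hgC⟩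
      rw [Subgroup.mem_comap, (proj_eq_one_iff V g).2 hgC]
      exact Subgroup.one_mem _
    have h1 := hA.1 B inf_le_left
    have cA := card_map_proj V A
    have cB := card_map_proj V B
    rw [hBmap, hBC] at cB
    have eA := card_cent_map V A
    have eB := card_cent_map V B
    rw [hBmap] at eB
    rw [eA, eB]
    set k := Nat.card ↥(A ⊓ Subgroup.centralizer (V : Set G)) with hk
    have hkpos : 0 < k := Nat.card_pos
    rw [← cA, ← cB] at h1
    have h2 : k * (Nat.card ↥B' * Nat.card ↥(V ⊓ Subgroup.centralizer (B : Set G))) ≤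
        k * (Nat.card ↥(A.map (proj V)) * Nat.card ↥(V ⊓ Subgroup.centralizer (A : Set G))) := by
      calc k * (Nat.card ↥B' * Nat.card ↥(V ⊓ Subgroup.centralizer (B : Set G)))
          = Nat.card ↥B' * k * Nat.card ↥(V ⊓ Subgroup.centralizer (B : Set G)) := by ring
        _ ≤ Nat.card ↥(A.map (proj V)) * k *
            Nat.card ↥(V ⊓ Subgroup.centralizer (A : Set G)) := h1
        _ = _ := by ring
    exact Nat.le_of_mul_le_mul_left h2 hkpos
  · rw [← Subgroup.map_commutator]
    have h1 : (⁅A, A⁆).map (proj V) = ⊥ := by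
      rw [eq_bot_iff, Subgroup.map_le_iff_le_comap]
      intro g hg
      rw [Subgroup.mem_comap, Subgroup.mem_bot, proj_eq_one_iff]
      exact hA.2.1 hg
    rw [h1]
    exact bot_le
  · rintro x ⟨a, ha, rfl⟩
    rw [← map_pow, (proj_eq_one_iff V _).2 (hA.2.2 a ha)]
    exact Subgroup.one_mem _

theorem transfer [Finite G] {p : ℕ} [Fact p.Prime] (hV : Cfsg.IsElementaryAbelian p V)
    (J : Subgroup G)
    (hJ : J ≤ ⨆ A : {A : Subgroup G // A ≤ J ∧ Cfsg.IsBestOffenderOn p V A}, (A : Subgroup G))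
    (hS1 : Subgroup.centralizer
      (Cfsg.pPrimeCore p ↥(J.map (proj V)) : Set ↥(J.map (proj V))) ≤
        Cfsg.pPrimeCore p ↥(J.map (proj V))) :
    Hyp p (VV V) (J.map (proj V)) ∧
    (J.map (proj V) = ⨆ A : {A : Subgroup (Hol V) //
      A ≤ J.map (proj V) ∧ Cfsg.IsBestOffenderOn p (VV V) A}, (A : Subgroup (Hol V))) := by
  have hle : J.map (proj V) ≤ (proj V).range := by
    rintro x ⟨j, _, rfl⟩
    exact ⟨j, rfl⟩
  refine ⟨⟨VV_elem V hV, hle.trans (range_proj_le_normalizer V), ?_, hS1⟩, ?_⟩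
  · rw [eq_bot_iff, ← range_proj_inf_centralizer V]
    exact inf_le_inf_right _ hle
  · apply le_antisymm
    · refine (Subgroup.map_mono hJ).trans ?_
      rw [Subgroup.map_iSup]
      apply iSup_le
      intro A
      exact le_iSup (fun A' : {A : Subgroup (Hol V) //
        A ≤ J.map (proj V) ∧ Cfsg.IsBestOffenderOn p (VV V) A} => (A' : Subgroup (Hol V)))
        ⟨(A : Subgroup G).map (proj V), Subgroup.map_mono A.2.1, best_map V A.2.2⟩
    · apply iSup_le
      intro A
      exact A.2.1

/-- the pull-back of an `SL(2,p)`-component -/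
theorem exists_component [Finite G] {p : ℕ} [Fact p.Prime] (hV : Cfsg.IsElementaryAbelian p V)
    (J : Subgroup G)
    (hJ : J ≤ ⨆ A : {A : Subgroup G // A ≤ J ∧ Cfsg.IsBestOffenderOn p V A}, (A : Subgroup G))
    (hS1 : Subgroup.centralizer
      (Cfsg.pPrimeCore p ↥(J.map (proj V)) : Set ↥(J.map (proj V))) ≤
        Cfsg.pPrimeCore p ↥(J.map (proj V)))
    (hne : ¬ J ≤ Subgroup.centralizer (V : Set G)) :
    (p = 2 ∨ p = 3) ∧ ∃ E : Subgroup G, Subgroup.centralizer (V : Set G) ≤ E ∧
      E ≤ J ⊔ Subgroup.centralizer (V : Set G) ∧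
      J ⊔ Subgroup.centralizer (V : Set G) ≤ Subgroup.normalizer (E : Set G) ∧
      ∃ hn : ((Subgroup.centralizer (V : Set G)).subgroupOf E).Normal,
        Nonempty ((↥E ⧸ (Subgroup.centralizer (V : Set G)).subgroupOf E) ≃*
          Matrix.SpecialLinearGroup (Fin 2) (ZMod p)) := by
  obtain ⟨h, hS3⟩ := transfer V hV J hJ hS1
  have hH1 : J.map (proj V) ≠ ⊥ := by
    intro hc
    apply hne
    intro j hj
    rw [← proj_eq_one_iff]
    have : proj V j ∈ J.map (proj V) := ⟨j, hj, rfl⟩
    rwa [hc, Subgroup.mem_bot] at this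
  obtain ⟨a, ha⟩ := exists_isAtom h hS3 hH1
  refine ⟨ha.p_eq h, (EE p (J.map (proj V)) a).comap (proj V), ?_, ?_, ?_, ?_⟩
  · intro g hg
    rw [Subgroup.mem_comap, (proj_eq_one_iff V g).2 hg]
    exact Subgroup.one_mem _
  · intro g hg
    obtain ⟨j, hj, hjg⟩ := ha.EE_le (Subgroup.mem_comap.1 hg)
    have h1 : j⁻¹ * g ∈ Subgroup.centralizer (V : Set G) := by
      rw [← proj_eq_one_iff, map_mul, map_inv, hjg, inv_mul_cancel]
    have : g = j * (j⁻¹ * g) := by group
    rw [this]
    exact Subgroup.mul_mem _ (Subgroup.mem_sup_left hj) (Subgroup.mem_sup_right h1)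
  · have hnorm := (ha.direct_factor h hS3).1
    intro g hg
    have hg' : proj V g ∈ J.map (proj V) := by
      have h1 : proj V g ∈ (J ⊔ Subgroup.centralizer (V : Set G)).map (proj V) := ⟨g, hg, rfl⟩
      rw [Subgroup.map_sup] at h1
      have h2 : (Subgroup.centralizer (V : Set G)).map (proj V) = ⊥ := by
        rw [eq_bot_iff]
        rintro x ⟨c, hc, rfl⟩
        rw [Subgroup.mem_bot, proj_eq_one_iff]
        exact hc
      rwa [h2, sup_bot_eq] at h1
    have hN := hnorm hg'
    rw [Subgroup.mem_normalizer_iff] at hN ⊢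
    intro x
    rw [Subgroup.mem_comap, Subgroup.mem_comap, map_mul, map_mul, map_inv]
    exact hN (proj V x)
  · haveI hCn : (Subgroup.centralizer (V : Set G)).Normal := Subgroup.normal_centralizer
    haveI hn : ((Subgroup.centralizer (V : Set G)).subgroupOf
        ((EE p (J.map (proj V)) a).comap (proj V))).Normal := inferInstance
    refine ⟨hn, ?_⟩
    obtain ⟨e⟩ := ha.nonempty_mulEquiv_EE h
    set ψ := (proj V).subgroupComap (EE p (J.map (proj V)) a) with hψ
    have hsurj : Function.Surjective ψ := by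
      rintro ⟨x, hx⟩
      obtain ⟨j, _, rfl⟩ := ha.EE_le hx
      exact ⟨⟨j, hx⟩, rfl⟩
    have hker : (Subgroup.centralizer (V : Set G)).subgroupOf
        ((EE p (J.map (proj V)) a).comap (proj V)) = ψ.ker := by
      ext x
      rw [Subgroup.mem_subgroupOf, MonoidHom.mem_ker, ← proj_eq_one_iff]
      constructor
      · intro hx
        exact Subtype.ext hx
      · intro hx
        exact congrArg Subtype.val hx
    exact ⟨(QuotientGroup.quotientMulEquivOfEq hker).trans
      ((QuotientGroup.quotientKerEquivOfSurjective ψ hsurj).trans e)⟩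

end Cfsg.Agent.Lib.Helper4.FFHol
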