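import Mathlib
import Cfsg.Prelude.Def_PLocal
import Cfsg.Agent.Lib.Helper4.FFHol
import Cfsg.Agent.S0600
import Cfsg.Agent.S0601
import Cfsg.Agent.S0602
import Cfsg.Agent.S0606
import Cfsg.Agent.S0608
import Cfsg.Agent.Lib.Lead.PSolvable
import Cfsg.Agent.H2.Equivariant

set_option autoImplicit false

namespace Cfsg.Agent.Lib.Helper4.FFHol

open scoped commutatorElement
open Cfsg.Agent.Lib.Helper4.Offender Cfsg.Agent.Lib.Helper4.FFPair

variable {G : Type*} [Group G] (V : Subgroup G) [hVn : V.Normal]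

/-- `O_p(G/C_G(V)) = 1`, in holomorph form -/
def NoPCore (p : ℕ) : Prop :=
  ∀ D : Subgroup G, D.Normal → IsPGroup p ↥(D.map (proj V)) →
    D ≤ Subgroup.centralizer (V : Set G)

theorem noPCore_of_relIndex [Finite G] {p : ℕ} [Fact p.Prime]
    (hD : ∀ D : Subgroup G, D.Normal → Subgroup.centralizer (V : Set G) ≤ D →
      (∃ k : ℕ, (Subgroup.centralizer (V : Set G)).relIndex D = p ^ k) →
      D = Subgroup.centralizer (V : Set G)) : NoPCore V p := by
  intro D hDn hDp
  haveI := hDn
  haveI hCn : (Subgroup.centralizer (V : Set G)).Normal := Subgroup.normal_centralizer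
  have hn : (D ⊔ Subgroup.centralizer (V : Set G)).Normal := inferInstance
  have hmap : (D ⊔ Subgroup.centralizer (V : Set G)).map (proj V) = D.map (proj V) := by
    rw [Subgroup.map_sup]
    have h2 : (Subgroup.centralizer (V : Set G)).map (proj V) = ⊥ := by
      rw [eq_bot_iff]
      rintro x ⟨c, hc, rfl⟩
      rw [Subgroup.mem_bot, proj_eq_one_iff]
      exact hc
    rw [h2, sup_bot_eq]
  have h1 := hD _ hn le_sup_right (by
    obtain ⟨k, hk⟩ := IsPGroup.iff_card.1 hDp
    refine ⟨k, ?_⟩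
    have h3 := Subgroup.relIndex_ker (K := D ⊔ Subgroup.centralizer (V : Set G)) (proj V)
    rw [ker_proj] at h3
    rw [h3, hmap, hk])
  rw [← h1]
  exact le_sup_left

theorem noPCore_of_quotient [Finite G] {p : ℕ} [Fact p.Prime]
    (hO : Cfsg.pCore p (G ⧸ Subgroup.centralizer (V : Set G)) = ⊥) : NoPCore V p := by
  intro D hDn hDp
  haveI := hDn
  haveI hCn : (Subgroup.centralizer (V : Set G)).Normal := Subgroup.normal_centralizer
  have hn : (D.map (QuotientGroup.mk' (Subgroup.centralizer (V : Set G)))).Normal :=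
    hDn.map _ (QuotientGroup.mk'_surjective _)
  have hp : IsPGroup p ↥(D.map (QuotientGroup.mk' (Subgroup.centralizer (V : Set G)))) := by
    obtain ⟨k, hk⟩ := IsPGroup.iff_card.1 hDp
    apply IsPGroup.of_card (n := k)
    have h1 := Subgroup.relIndex_ker (K := D)
      (QuotientGroup.mk' (Subgroup.centralizer (V : Set G)))
    have h2 := Subgroup.relIndex_ker (K := D) (proj V)
    rw [QuotientGroup.ker_mk'] at h1
    rw [ker_proj] at h2
    rw [← h1, h2, hk]
  have hle := Cfsg.Agent.H1.le_pCore hn hp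
  rw [hO, le_bot_iff] at hle
  intro d hd
  have : (QuotientGroup.mk' (Subgroup.centralizer (V : Set G))) d ∈
      D.map (QuotientGroup.mk' (Subgroup.centralizer (V : Set G))) := ⟨d, hd, rfl⟩
  rw [hle, Subgroup.mem_bot] at this
  rwa [← QuotientGroup.ker_mk' (Subgroup.centralizer (V : Set G)), MonoidHom.mem_ker]

theorem pCore_map_eq_bot [Finite G] {p : ℕ} [Fact p.Prime] (J : Subgroup G) [hJn : J.Normal]
    (hQ : NoPCore V p) : Cfsg.pCore p ↥(J.map (proj V)) = ⊥ := by
  set H' := J.map (proj V) with hH'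
  set P' := (Cfsg.pCore p ↥H').map H'.subtype with hP'
  have hP'H' : P' ≤ H' := Subgroup.map_subtype_le _
  have hP'p : IsPGroup p ↥P' := (Cfsg.Agent.H1.pCore_isPGroup p).map _
  have hrange : (proj V).range ≤ Subgroup.normalizer (P' : Set (Hol V)) := by
    refine le_trans ?_ (Cfsg.Agent.H2.normalizer_le_normalizer_pCore p H')
    rintro x ⟨g, rfl⟩
    have key : ∀ h : G, ∀ y ∈ H', proj V h * y * (proj V h)⁻¹ ∈ H' := by
      rintro h y ⟨j, hj, rfl⟩
      refine ⟨h * j * h⁻¹, hJn.conj_mem j hj h, ?_⟩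
      rw [map_mul, map_mul, map_inv]
    rw [Subgroup.mem_normalizer_iff]
    intro y
    constructor
    · exact key g y
    · intro hy
      have := key g⁻¹ _ hy
      rw [map_inv] at this
      have e : (proj V g)⁻¹ * (proj V g * y * (proj V g)⁻¹) * (proj V g)⁻¹⁻¹ = y := by group
      rwa [e] at this
  set D := P'.comap (proj V) with hD
  have hDn : D.Normal := by
    constructor
    intro d hd g
    rw [hD, Subgroup.mem_comap, map_mul, map_mul, map_inv]
    exact (Subgroup.mem_normalizer_iff.1 (hrange ⟨g, rfl⟩) _).1 hd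
  have hDmap : D.map (proj V) = P' := by
    rw [hD, Subgroup.map_comap_eq, inf_eq_right]
    refine hP'H'.trans ?_
    rintro x ⟨j, _, rfl⟩
    exact ⟨j, rfl⟩
  have hDC := hQ D hDn (hDmap ▸ hP'p)
  have hP'bot : P' = ⊥ := by
    rw [← hDmap, eq_bot_iff]
    rintro x ⟨d, hd, rfl⟩
    rw [Subgroup.mem_bot, proj_eq_one_iff]
    exact hDC hd
  exact (Subgroup.map_eq_bot_iff_of_injective _ H'.subtype_injective).1 hP'bot

theorem hS1_of [Finite G] {p : ℕ} [Fact p.Prime] (J : Subgroup G) [hJn : J.Normal]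
    (hsep : Cfsg.IsPSolvable p G) (hQ : NoPCore V p) :
    Subgroup.centralizer
      (Cfsg.pPrimeCore p ↥(J.map (proj V)) : Set ↥(J.map (proj V))) ≤
        Cfsg.pPrimeCore p ↥(J.map (proj V)) := by
  apply Cfsg.Agent.H1.centralizer_pPrimeCore_le
  · exact Cfsg.Agent.Lib.Lead.PSolvable.IsPSolvable.map (proj V) J
      (Cfsg.Agent.Lib.Lead.PSolvable.IsPSolvable.subgroup J hsep)
  · exact pCore_map_eq_bot V J hQ

end Cfsg.Agent.Lib.Helper4.FFHol
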