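import Mathlib
import Cfsg.Prelude.Def_PLocal
import Cfsg.Agent.Lib.Helper4.FFThompson

set_option autoImplicit false

namespace Cfsg.Agent.Lib.Helper4.FFHol

open scoped commutatorElement
open Cfsg.Agent.Lib.Helper4.Offender Cfsg.Agent.Lib.Helper4.FFPair

variable {G : Type*} [Group G] (V : Subgroup G) [hVn : V.Normal]

theorem card_VV : Nat.card (VV V) = Nat.card V := by
  unfold VV
  exact (Nat.card_congr (MonoidHom.ofInjective
    (SemidirectProduct.inl_injective (N := ↥V) (G := MulAut ↥V)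
      (φ := MonoidHom.id (MulAut ↥V)))).toEquiv).symm

/-- the Thompson subgroup is generated by best offenders -/
theorem thompson_le_iSup [Finite G] {p : ℕ} [Fact p.Prime] (hV : Cfsg.IsElementaryAbelian p V) :
    Cfsg.thompsonSubgroup p G ≤ ⨆ A : {A : Subgroup G // A ≤ Cfsg.thompsonSubgroup p G ∧
      Cfsg.IsBestOffenderOn p V A}, (A : Subgroup G) := by
  apply sSup_le
  intro A hA
  exact le_iSup (fun A' : {A : Subgroup G // A ≤ Cfsg.thompsonSubgroup p G ∧
    Cfsg.IsBestOffenderOn p V A} => (A' : Subgroup G))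
    ⟨A, le_sSup hA, Cfsg.Agent.S0606.result V hV A hA⟩

/-- `|A| |C_V(A)| = |V| |C_A(V)|` for the largest elementary abelian subgroups -/
theorem card_max_elem [Finite G] {p : ℕ} [Fact p.Prime] (hsep : Cfsg.IsPSolvable p G)
    (hV : Cfsg.IsElementaryAbelian p V) (hQ : NoPCore V p)
    {A : Subgroup G} (hA : A ∈ Cfsg.maxElementaryAbelianSubgroups p G) :
    Nat.card A * Nat.card ↥(V ⊓ Subgroup.centralizer (A : Set G)) =
      Nat.card V * Nat.card ↥(A ⊓ Subgroup.centralizer (V : Set G)) := by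
  haveI hJn : (Cfsg.thompsonSubgroup p G).Normal :=
    @Subgroup.normal_of_characteristic _ _ _ (Cfsg.Agent.S0602.result (G := G) (p := p)).1
  obtain ⟨h, _⟩ := transfer V hV (Cfsg.thompsonSubgroup p G) (thompson_le_iSup V hV)
    (hS1_of V _ hsep hQ)
  have hbest := best_map V (Cfsg.Agent.S0606.result V hV A hA)
  have h1 := ff_eq_card h _ (A.map (proj V)) rfl (Subgroup.map_mono (le_sSup hA)) hbest
  unfold ff at h1
  rw [card_cent_map, card_VV] at h1
  have h2 := card_map_proj V A
  rw [← h1, ← h2]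
  ring


/-- S0619 -/
theorem omega_comm_le [Finite G] {p : ℕ} [Fact p.Prime] (hsep : Cfsg.IsPSolvable p G)
    (hV : Cfsg.IsElementaryAbelian p V) (hQ : NoPCore V p) :
    ⁅Cfsg.omegaOne p (Cfsg.centerThompsonOf p (Subgroup.centralizer (V : Set G))),
      Cfsg.thompsonSubgroup p G⁆ ≤ V := by
  set C := Subgroup.centralizer (V : Set G) with hC
  set JC := Cfsg.thompsonSubgroupOf p C with hJC
  set W := Cfsg.omegaOne p (Cfsg.centerThompsonOf p C) with hW
  have hVC : V ≤ C := le_centralizer_of_elem hV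
  -- largest elementary abelian subgroups inside `C` lie in `J(C)`
  have key1 : ∀ B ∈ Cfsg.maxElementaryAbelianSubgroups p G, B ≤ C → B ≤ JC := by
    intro B hB hBC
    have h1 := Cfsg.Agent.H1.le_thompsonSubgroup
      (Cfsg.Agent.H1.subgroupOf_mem_maxElementaryAbelian C hB hBC)
    have h2 := Subgroup.map_mono (f := C.subtype) h1
    rw [Subgroup.subgroupOf_map_subtype, inf_eq_left.2 hBC] at h2
    exact h2
  -- and contain `W`
  have key2 : ∀ B ∈ Cfsg.maxElementaryAbelianSubgroups p G, B ≤ C → W ≤ B := by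
    intro B hB hBC
    rw [hW]
    unfold Cfsg.omegaOne
    rw [Subgroup.closure_le]
    rintro x ⟨hxZ, hxp⟩
    unfold Cfsg.centerThompsonOf at hxZ
    have hx : x ∈ Subgroup.centralizer (B : Set G) :=
      cent_anti (key1 B hB hBC) (Subgroup.mem_inf.1 hxZ).2
    exact Cfsg.Agent.H1.mem_of_mem_centralizer_maxElementaryAbelian hB x hx hxp
  -- the elementwise statement
  have key3 : ∀ A ∈ Cfsg.maxElementaryAbelianSubgroups p G, ∀ w ∈ W, ∀ a ∈ A, ⁅w, a⁆ ∈ V := by
    intro A hA w hw a ha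
    set B := V ⊔ (A ⊓ C) with hB
    have hBC : B ≤ C := sup_le hVC inf_le_right
    have hBel : Cfsg.IsElementaryAbelian p B :=
      Cfsg.Agent.H1.isElementaryAbelian_sup hV
        (Cfsg.Agent.H1.isElementaryAbelian_of_le hA.1 inf_le_left) inf_le_right
    have hAcomm : ∀ s ∈ A, ∀ t ∈ A, s * t = t * s := comm_of_elem hA.1
    have hinf : (A ⊓ C) ⊓ V = V ⊓ Subgroup.centralizer (A : Set G) := by
      apply le_antisymm
      · intro x hx
        obtain ⟨hxAC, hxV⟩ := Subgroup.mem_inf.1 hx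
        refine Subgroup.mem_inf.2 ⟨hxV, ?_⟩
        rw [Subgroup.mem_centralizer_iff]
        intro y hy
        exact hAcomm y hy x (Subgroup.mem_inf.1 hxAC).1
      · intro x hx
        obtain ⟨hxV, hxA⟩ := Subgroup.mem_inf.1 hx
        refine Subgroup.mem_inf.2 ⟨Subgroup.mem_inf.2 ⟨?_, hVC hxV⟩, hxV⟩
        exact Cfsg.Agent.H1.mem_of_mem_centralizer_maxElementaryAbelian hA x hxA (hV.2 x hxV)
    have hACV : A ⊓ C ≤ Subgroup.normalizer (V : Set G) := by
      rw [Subgroup.normalizer_eq_top]; exact le_top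
    have hcard : Nat.card A ≤ Nat.card B := by
      have h1 := Cfsg.Agent.H1.card_sup_mul_card_inf (A ⊓ C) V hACV
      rw [hinf, sup_comm] at h1
      have h2 := card_max_elem V hsep hV hQ hA
      have hpos : 0 < Nat.card ↥(V ⊓ Subgroup.centralizer (A : Set G)) := Nat.card_pos
      have h3 : Nat.card A * Nat.card ↥(V ⊓ Subgroup.centralizer (A : Set G)) =
          Nat.card B * Nat.card ↥(V ⊓ Subgroup.centralizer (A : Set G)) := by
        rw [h2, hB, h1, mul_comm]
      exact (Nat.eq_of_mul_eq_mul_right hpos h3).le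
    have hBmax : B ∈ Cfsg.maxElementaryAbelianSubgroups p G :=
      ⟨hBel, fun B' hB' => (hA.2 B' hB').trans hcard⟩
    have hwB := key2 B hBmax hBC hw
    obtain ⟨v, hv, c, hc, rfl⟩ := (Cfsg.Agent.H1.mem_sup_of_le_normalizer V (A ⊓ C) hACV).1 hwB
    have hca : c * a = a * c := hAcomm c (Subgroup.mem_inf.1 hc).1 a ha
    have e : ⁅v * c, a⁆ = v * (a * v⁻¹ * a⁻¹) := by
      rw [commutatorElement_def]
      calc v * c * a * (v * c)⁻¹ * a⁻¹ = v * (c * a) * c⁻¹ * v⁻¹ * a⁻¹ := by group
        _ = v * (a * c) * c⁻¹ * v⁻¹ * a⁻¹ := by rw [hca]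
        _ = v * (a * v⁻¹ * a⁻¹) := by group
    rw [e]
    exact V.mul_mem hv (hVn.conj_mem _ (V.inv_mem hv) a)
  -- the subgroup of elements moving `W` into `V`
  let T : Subgroup G :=
    { carrier := {g | ∀ w ∈ W, ⁅w, g⁆ ∈ V}
      one_mem' := by
        intro w _
        simp [commutatorElement_def]
      mul_mem' := by
        intro g h hg hh w hw
        have e : ⁅w, g * h⁆ = ⁅w, g⁆ * (g * ⁅w, h⁆ * g⁻¹) := by
          simp only [commutatorElement_def]; group
        rw [e]
        exact V.mul_mem (hg w hw) (hVn.conj_mem _ (hh w hw) g)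
      inv_mem' := by
        intro g hg w hw
        have e : ⁅w, g⁻¹⁆ = g⁻¹ * (⁅w, g⁆)⁻¹ * g⁻¹⁻¹ := by
          simp only [commutatorElement_def]; group
        rw [e]
        exact hVn.conj_mem _ (V.inv_mem (hg w hw)) g⁻¹ }
  have hJT : Cfsg.thompsonSubgroup p G ≤ T := by
    apply sSup_le
    intro A hA a ha w hw
    exact key3 A hA w hw a ha
  rw [Subgroup.commutator_le]
  intro w hw g hg
  exact hJT hg w hw

end Cfsg.Agent.Lib.Helper4.FFHol
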