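import Mathlib
import Cfsg.Prelude.Def_Characters
import Cfsg.Agent.Lib.helper3.CharBasic
import Cfsg.Agent.Lib.helper3.Irr1

/-!
# Galois conjugates of character values: the Burnside--Thompson averaging argument

* `prod_norm_sum_pow_ge_one`: for `n`-th roots of unity `μ i` with nonzero sum, the product over
  `j ∈ (ZMod n)ˣ` of `‖∑ i, μ i ^ j‖` is at least `1` (it is the absolute value of a nonzero
  rational integer, a field norm).
* `prod_norm_character_pow_ge_one`: same for the values `ψ (g ^ j)` of a character.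
* `card_nonvanishing_le_sum`: for a character `ψ` and a set `S` of group elements closed under
  `g ↦ g ^ j` (`j` prime to the group order), the number of elements of `S` at which `ψ` does not
  vanish is at most `∑ g ∈ S, ‖ψ g‖ ^ r`, for every `r ≥ 1`.
-/

namespace Cfsg.Agent.Lib.Helper4.Galois

open Cfsg Module Cfsg.Agent.Lib.helper3.CharBasic

theorem prod_norm_sum_pow_ge_one {I : Type*} [Fintype I] (μ : I → ℂ) (n : ℕ) [NeZero n]
    (hμ : ∀ i, μ i ^ n = 1) (h0 : ∑ i, μ i ≠ 0) :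
    (1 : ℝ) ≤ ∏ j : (ZMod n)ˣ, ‖∑ i, μ i ^ (j : ZMod n).val‖ := by
  classical
  have hn : 0 < n := Nat.pos_of_ne_zero (NeZero.ne n)
  let K := CyclotomicField n ℚ
  have : IsCyclotomicExtension {n} ℚ K := CyclotomicField.isCyclotomicExtension n ℚ
  have : IsGalois ℚ K := IsCyclotomicExtension.isGalois {n} ℚ K
  have : FiniteDimensional ℚ K := IsCyclotomicExtension.finiteDimensional {n} ℚ K
  have hζ := IsCyclotomicExtension.zeta_spec n ℚ K
  set ζ := IsCyclotomicExtension.zeta n ℚ K with hζdef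
  let φ : K →ₐ[ℚ] ℂ := IsAlgClosed.lift
  have hφinj : Function.Injective φ := φ.toRingHom.injective
  have hζ' : IsPrimitiveRoot (φ ζ) n := hζ.map_of_injective hφinj
  have hk : ∀ i, ∃ k : ℕ, μ i = φ (ζ ^ k) := by
    intro i
    obtain ⟨k, -, hk⟩ := hζ'.eq_pow_of_pow_eq_one (hμ i)
    exact ⟨k, by rw [map_pow, hk]⟩
  choose k hk using hk
  set a : K := ∑ i, ζ ^ k i with ha
  have hφa : φ a = ∑ i, μ i := by
    rw [ha, map_sum]
    exact Finset.sum_congr rfl (fun i _ => (hk i).symm)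
  have haint : IsIntegral ℤ a :=
    IsIntegral.sum _ (fun i _ => (hζ.isIntegral hn).pow _)
  have ha0 : a ≠ 0 := by
    intro h
    apply h0
    rw [← hφa, h, map_zero]
  have hN : IsIntegral ℤ (Algebra.norm ℚ a) := Algebra.isIntegral_norm ℚ haint
  obtain ⟨m, hm⟩ := IsIntegrallyClosed.isIntegral_iff.mp hN
  have hm0 : m ≠ 0 := by
    intro h
    apply ha0
    have h3 : Algebra.norm ℚ a = 0 := by rw [← hm, h]; simp
    exact (Algebra.norm_eq_zero_iff (R := ℚ) (x := a)).mp h3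
  have hprod := Algebra.norm_eq_prod_automorphisms ℚ a
  have hprod' : (m : ℂ) = ∏ σ : K ≃ₐ[ℚ] K, φ (σ a) := by
    have := congrArg φ hprod
    rw [map_prod, ← hm] at this
    rw [← this]
    simp
  let e : (K ≃ₐ[ℚ] K) ≃* (ZMod n)ˣ :=
    IsCyclotomicExtension.autEquivPow K (Polynomial.cyclotomic.irreducible_rat hn)
  have hσa : ∀ σ : K ≃ₐ[ℚ] K, φ (σ a) = ∑ i, μ i ^ ((e σ : (ZMod n)ˣ) : ZMod n).val := by
    intro σ
    have h1 : σ ζ = ζ ^ ((e σ : (ZMod n)ˣ) : ZMod n).val := (hζ.autToPow_spec ℚ σ).symm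
    rw [ha, map_sum, map_sum]
    apply Finset.sum_congr rfl
    intro i _
    rw [map_pow, h1, ← pow_mul, mul_comm, pow_mul, map_pow, ← hk i]
  have hreindex : ∏ σ : K ≃ₐ[ℚ] K, ‖φ (σ a)‖ =
      ∏ j : (ZMod n)ˣ, ‖∑ i, μ i ^ (j : ZMod n).val‖ := by
    apply Fintype.prod_equiv e.toEquiv
    intro σ
    rw [hσa σ]
    rfl
  rw [← hreindex, ← norm_prod, ← hprod']
  rw [← Complex.ofReal_intCast, Complex.norm_real, Real.norm_eq_abs]
  have : (1 : ℤ) ≤ |m| := Int.one_le_abs hm0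
  exact_mod_cast this

variable {G : Type*} [Group G]

/-- The values of a character at the powers `g ^ j`, `j` prime to `n`, where `g ^ n = 1`, have
product of absolute value at least one, unless the character vanishes at `g`. -/
theorem prod_norm_character_pow_ge_one [Finite G] {ψ : G → ℂ} (hψ : IsCharacter G ψ) (g : G)
    (n : ℕ) [NeZero n] (hgn : g ^ n = 1) (hg : ψ g ≠ 0) :
    (1 : ℝ) ≤ ∏ j : (ZMod n)ˣ, ‖ψ (g ^ (j : ZMod n).val)‖ := by
  obtain ⟨d, ρ, rfl⟩ := hψ
  obtain ⟨I, _, v, μ, hf, hμ⟩ := exists_eigenbasis ρ g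
  have hμn : ∀ i, μ i ^ n = 1 := by
    intro i
    obtain ⟨c, hc⟩ := orderOf_dvd_of_pow_eq_one hgn
    rw [hc, pow_mul, hμ i, one_pow]
  have h1 : ρ.character g = ∑ i, μ i := character_eq_sum_of_eigenbasis ρ g v μ hf
  have h2 : ∀ k : ℕ, ρ.character (g ^ k) = ∑ i, μ i ^ k := by
    intro k
    exact character_eq_sum_of_eigenbasis ρ (g ^ k) v (fun i => μ i ^ k)
      (fun i => rho_pow_apply_eigen ρ g v μ hf k i)
  rw [h1] at hg
  have := prod_norm_sum_pow_ge_one μ n hμn hg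
  simpa only [h2] using this

/-- AM--GM: nonnegative reals with product at least one have sum at least their number. -/
theorem card_le_sum_of_one_le_prod {ι : Type*} [Fintype ι] (z : ι → ℝ) (hz : ∀ i, 0 ≤ z i)
    (h : 1 ≤ ∏ i, z i) : (Fintype.card ι : ℝ) ≤ ∑ i, z i := by
  rcases isEmpty_or_nonempty ι with hι | hι
  · simp
  have hN : (0 : ℝ) < Fintype.card ι := by exact_mod_cast Fintype.card_pos
  have key := Real.geom_mean_le_arith_mean (Finset.univ : Finset ι) (fun _ => (1 : ℝ)) z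
    (fun _ _ => zero_le_one) (by simpa using hN) (fun i _ => hz i)
  simp only [Real.rpow_one, Finset.sum_const, Finset.card_univ, nsmul_eq_mul, mul_one,
    one_mul] at key
  have h1 : (1 : ℝ) ≤ (∏ i, z i) ^ ((Fintype.card ι : ℝ))⁻¹ :=
    Real.one_le_rpow h (inv_nonneg.mpr hN.le)
  have h2 := h1.trans key
  rwa [le_div_iff₀ hN, one_mul] at h2

theorem card_units_le_sum_norm_pow [Finite G] {ψ : G → ℂ} (hψ : IsCharacter G ψ) (g : G)
    (n : ℕ) [NeZero n] (hgn : g ^ n = 1) (hg : ψ g ≠ 0) (r : ℕ) :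
    (Fintype.card (ZMod n)ˣ : ℝ) ≤ ∑ j : (ZMod n)ˣ, ‖ψ (g ^ (j : ZMod n).val)‖ ^ r := by
  apply card_le_sum_of_one_le_prod
  · intro j; positivity
  · rw [Finset.prod_pow]
    exact one_le_pow₀ (prod_norm_character_pow_ge_one hψ g n hgn hg)

/-- **Burnside--Thompson averaging.** If `S` is a set of elements of the finite group `G` closed
under `g ↦ g ^ k` for `k` prime to `|G|`, and `ψ` is a character, then the number of elements of `S`
at which `ψ` does not vanish is at most `∑ g ∈ S, ‖ψ g‖ ^ r`. -/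
theorem card_nonvanishing_le_sum [Fintype G] [DecidableEq G] {ψ : G → ℂ} (hψ : IsCharacter G ψ)
    (S : Finset G) (hS : ∀ g ∈ S, ∀ k : ℕ, k.Coprime (Nat.card G) → g ^ k ∈ S) (r : ℕ)
    [DecidablePred fun g => ψ g ≠ 0] :
    ((S.filter (fun g => ψ g ≠ 0)).card : ℝ) ≤ ∑ g ∈ S, ‖ψ g‖ ^ r := by
  set n := Nat.card G with hn
  haveI : NeZero n := ⟨Nat.card_pos.ne'⟩
  have hpow : ∀ g : G, g ^ n = 1 := fun g => pow_card_eq_one'
  -- each power map permutes `S`
  have hperm : ∀ j : (ZMod n)ˣ, ∑ g ∈ S, ‖ψ (g ^ (j : ZMod n).val)‖ ^ r = ∑ g ∈ S, ‖ψ g‖ ^ r := by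
    intro j
    have hcop : ((j : ZMod n).val).Coprime n := ZMod.val_coe_unit_coprime j
    have hinj : Function.Injective (fun g : G => g ^ (j : ZMod n).val) :=
      (powCoprime (G := G) (Nat.coprime_comm.mp hcop)).injective
    have himg : S.image (fun g : G => g ^ (j : ZMod n).val) = S := by
      apply Finset.eq_of_subset_of_card_le
      · intro x hx
        obtain ⟨g, hg, rfl⟩ := Finset.mem_image.mp hx
        exact hS g hg _ hcop
      · rw [Finset.card_image_of_injective _ hinj]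
    conv_rhs => rw [← himg]
    rw [Finset.sum_image (fun x _ y _ h => hinj h)]
  have hφ : (0 : ℝ) < Fintype.card (ZMod n)ˣ := by exact_mod_cast Fintype.card_pos
  have h1 : (Fintype.card (ZMod n)ˣ : ℝ) * ∑ g ∈ S, ‖ψ g‖ ^ r =
      ∑ g ∈ S, ∑ j : (ZMod n)ˣ, ‖ψ (g ^ (j : ZMod n).val)‖ ^ r := by
    rw [Finset.sum_comm]
    rw [Finset.sum_congr rfl (fun j _ => hperm j)]
    simp
  have h2 : (Fintype.card (ZMod n)ˣ : ℝ) * ((S.filter (fun g => ψ g ≠ 0)).card : ℝ) ≤
      ∑ g ∈ S, ∑ j : (ZMod n)ˣ, ‖ψ (g ^ (j : ZMod n).val)‖ ^ r := by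
    rw [Finset.card_filter, Nat.cast_sum, Finset.mul_sum]
    apply Finset.sum_le_sum
    intro g _
    by_cases hg : ψ g ≠ 0
    · rw [if_pos hg, Nat.cast_one, mul_one]
      exact card_units_le_sum_norm_pow hψ g n (hpow g) hg r
    · rw [if_neg hg, Nat.cast_zero, mul_zero]
      exact Finset.sum_nonneg (fun j _ => by positivity)
  rw [← h1] at h2
  exact le_of_mul_le_mul_left h2 hφ

/-- For `k` prime to the group order, `g` is a power of `g ^ k`. -/
theorem exists_pow_pow_eq [Finite G] (g : G) (k : ℕ) (hk : k.Coprime (Nat.card G)) :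
    ∃ m : ℕ, (g ^ k) ^ m = g :=
  exists_pow_eq_self_of_coprime (Nat.Coprime.coprime_dvd_right (orderOf_dvd_natCard g) hk)

/-- First orthogonality, real form: `∑ g, ‖χ g‖ ^ 2 = |G|` for an irreducible character. -/
theorem sum_norm_sq_irr [Fintype G] {χ : G → ℂ} (hχ : IsIrrCharacter G χ) :
    ∑ g : G, ‖χ g‖ ^ 2 = (Nat.card G : ℝ) := by
  have h := Cfsg.Agent.Lib.helper3.Irr.irr_classInner_self hχ
  unfold classInner at h
  have hG : (Nat.card G : ℂ) ≠ 0 := by exact_mod_cast Nat.card_pos.ne'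
  have h2 : ∑ g : G, χ g * (starRingEnd ℂ) (χ g) = (Nat.card G : ℂ) := by
    field_simp at h
    exact h
  have h3 : ∀ g : G, χ g * (starRingEnd ℂ) (χ g) = ((‖χ g‖ ^ 2 : ℝ) : ℂ) := by
    intro g
    rw [Complex.mul_conj, Complex.normSq_eq_norm_sq]
  simp only [h3] at h2
  rw [← Complex.ofReal_sum] at h2
  have h4 : ((∑ g : G, ‖χ g‖ ^ 2 : ℝ) : ℂ) = ((Nat.card G : ℝ) : ℂ) := by
    rw [h2]; simp
  exact Complex.ofReal_injective h4

end Cfsg.Agent.Lib.Helper4.Galois
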