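import Mathlib
import Cfsg.Prelude.Def_Characters
import Cfsg.Agent.Lib.Helper4.Galois
import Cfsg.Agent.Lib.helper3.CentralChar
import Cfsg.Agent.Lib.helper3.CharBasic2

/-!
# An irreducible character of degree `[G : P]`, `P` abelian, forces `P` to be self-centralizing

If `P ≤ C ≤ G` with `P` central in `C`, every irreducible character `χ` of `G` satisfies
`χ(1) ≤ [G : C] · √[C : P]`.  Hence `χ(1) = [G : P]` forces `C = P`.
-/

namespace Cfsg.Agent.Lib.Helper4.DegreeIndex

open Cfsg Module Cfsg.Agent.Lib.helper3.IndFun Cfsg.Agent.Lib.helper3.CharBasic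
open Cfsg.Agent.Lib.helper3.Irr Cfsg.Agent.Lib.helper3.Central Cfsg.Agent.Lib.Helper4.Galois
open scoped ComplexConjugate

variable {G : Type*} [Group G]

/-- an irreducible character of `C` has `ψ(1)² |Z| ≤ |C|` for a central subgroup `Z` -/
theorem degree_sq_mul_card_le [Fintype G] (Z : Subgroup G) (hZ : Z ≤ Subgroup.center G)
    {ψ : G → ℂ} (hψ : IsIrrCharacter G ψ) :
    ‖ψ 1‖ ^ 2 * (Nat.card Z : ℝ) ≤ (Nat.card G : ℝ) := by
  classical
  have htotal := sum_norm_sq_irr hψ
  have hnorm : ∀ z ∈ Z, ‖ψ z‖ = ‖ψ 1‖ := by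
    intro z hz
    obtain ⟨n, ρ, hirr, rfl⟩ := hψ
    haveI := hirr
    obtain ⟨c, hc⟩ := Cfsg.Agent.Lib.helper3.Central.exists_scalar_of_central ρ z (hZ hz)
    have h1 : ‖ρ.character z‖ = (finrank ℂ (Fin n → ℂ) : ℝ) :=
      (norm_character_eq_finrank_iff ρ z).mpr ⟨c, hc⟩
    rw [h1, Representation.char_one]
    simp
  have hsub : ∑ g ∈ Finset.univ.filter (fun g : G => g ∈ Z), ‖ψ g‖ ^ 2 ≤ ∑ g : G, ‖ψ g‖ ^ 2 :=
    Finset.sum_le_sum_of_subset_of_nonneg (Finset.subset_univ _) (fun _ _ _ => by positivity)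
  have hZsum : ∑ g ∈ Finset.univ.filter (fun g : G => g ∈ Z), ‖ψ g‖ ^ 2 =
      ‖ψ 1‖ ^ 2 * (Nat.card Z : ℝ) := by
    rw [Finset.sum_congr rfl (fun g hg => by rw [hnorm g (Finset.mem_filter.mp hg).2]),
      Finset.sum_const, nsmul_eq_mul, mul_comm]
    congr 2
    rw [Nat.card_eq_fintype_card, Fintype.card_subtype]
  rw [hZsum, htotal] at hsub
  exact hsub

/-- If `P ≤ C`, `P` central in `C`, and the irreducible character `χ` has degree `[G : P]`,
then `C = P`. -/
theorem eq_of_degree_eq_index [Finite G] {χ : G → ℂ} (hχ : IsIrrCharacter G χ)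
    (P C : Subgroup G) (hPC : P ≤ C) (hcent : ∀ z ∈ P, ∀ c ∈ C, z * c = c * z)
    (hdeg : χ 1 = (P.index : ℂ)) : C = P := by
  classical
  letI : Fintype G := Fintype.ofFinite G
  letI : Fintype C := Fintype.ofFinite C
  have hχc := isCharacter_of_isIrrCharacter hχ
  have hres : IsCharacter C (fun c : C => χ c) := isCharacter_restrict hχc C
  obtain ⟨m, hm⟩ := exists_decomposition_of_isCharacter hres
  -- sizes
  have hGpos : (0 : ℝ) < Nat.card G := by exact_mod_cast Nat.card_pos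
  have hCpos : (0 : ℝ) < Nat.card C := by exact_mod_cast Nat.card_pos
  have hPpos : (0 : ℝ) < Nat.card P := by exact_mod_cast Nat.card_pos
  -- (ii) the sum of the squares of the multiplicities
  have hnorm : classInner (fun c : C => χ c) (fun c : C => χ c) =
      ((∑ θ : IrrCharacter C, m θ * m θ : ℕ) : ℂ) := by
    conv_lhs => rw [hm]
    rw [classInner_decomposition]
    push_cast
    apply Finset.sum_congr rfl
    intro θ _
    rw [Complex.conj_natCast]
  have hnormreal : classInner (fun c : C => χ c) (fun c : C => χ c) =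
      (((Nat.card C : ℝ)⁻¹ * ∑ c : C, ‖χ c‖ ^ 2 : ℝ) : ℂ) := by
    rw [classInner_apply]
    push_cast
    congr 1
    apply Finset.sum_congr rfl
    intro c _
    rw [Complex.mul_conj, Complex.normSq_eq_norm_sq]
    push_cast
    rfl
  have hsumC : ∑ c : C, ‖χ c‖ ^ 2 ≤ (Nat.card G : ℝ) := by
    rw [← sum_norm_sq_irr hχ]
    rw [← Finset.sum_subtype (Finset.univ.filter (fun g : G => g ∈ C)) (by simp)
      (fun g => ‖χ g‖ ^ 2)]
    exact Finset.sum_le_sum_of_subset_of_nonneg (Finset.subset_univ _)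
      (fun _ _ _ => by positivity)
  have hM : ((∑ θ : IrrCharacter C, m θ * m θ : ℕ) : ℝ) ≤ (Nat.card G : ℝ) / (Nat.card C : ℝ) := by
    have h1 : (((∑ θ : IrrCharacter C, m θ * m θ : ℕ) : ℝ) : ℂ) =
        (((Nat.card C : ℝ)⁻¹ * ∑ c : C, ‖χ c‖ ^ 2 : ℝ) : ℂ) := by
      rw [← hnormreal, hnorm]
      push_cast
      rfl
    have h2 := Complex.ofReal_injective h1
    rw [h2, div_eq_inv_mul]
    exact mul_le_mul_of_nonneg_left hsumC (inv_nonneg.mpr hCpos.le)
  -- (iii) the degrees of the constituents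
  set t : ℝ := (Nat.card C : ℝ) / (Nat.card P : ℝ) with ht
  have htpos : 0 < t := div_pos hCpos hPpos
  have hdegθ : ∀ θ : IrrCharacter C, ‖(θ : C → ℂ) 1‖ ≤ Real.sqrt t := by
    intro θ
    apply Real.le_sqrt_of_sq_le
    have hZ : P.subgroupOf C ≤ Subgroup.center C := by
      intro z hz
      rw [Subgroup.mem_center_iff]
      intro c
      apply Subtype.ext
      have := hcent z.1 (Subgroup.mem_subgroupOf.mp hz) c.1 c.2
      simpa using this.symm
    have h1 := degree_sq_mul_card_le (P.subgroupOf C) hZ θ.2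
    have h2 : Nat.card (P.subgroupOf C) = Nat.card P :=
      Nat.card_congr (Subgroup.subgroupOfEquivOfLe hPC).toEquiv
    rw [h2] at h1
    rw [ht, le_div_iff₀ hPpos]
    exact h1
  -- the degree of `χ`
  have hdeg1 : χ 1 = ∑ θ : IrrCharacter C, (m θ : ℂ) * (θ : C → ℂ) 1 := by
    have := congrFun hm 1
    simp only [Finset.sum_apply, Pi.smul_apply, smul_eq_mul] at this
    exact this
  have hidx : (P.index : ℝ) = (Nat.card G : ℝ) / (Nat.card P : ℝ) := by
    rw [eq_div_iff hPpos.ne']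
    exact_mod_cast P.index_mul_card
  have hbound : (P.index : ℝ) ≤ (Nat.card G : ℝ) / (Nat.card C : ℝ) * Real.sqrt t := by
    have h1 : (P.index : ℝ) = ‖χ 1‖ := by
      rw [hdeg]; simp
    rw [h1, hdeg1]
    calc ‖∑ θ : IrrCharacter C, (m θ : ℂ) * (θ : C → ℂ) 1‖
        ≤ ∑ θ : IrrCharacter C, ‖(m θ : ℂ) * (θ : C → ℂ) 1‖ := norm_sum_le _ _
      _ ≤ ∑ θ : IrrCharacter C, ((m θ * m θ : ℕ) : ℝ) * Real.sqrt t := by
          apply Finset.sum_le_sum
          intro θ _
          rw [norm_mul, Complex.norm_natCast]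
          have h2 : (m θ : ℝ) ≤ ((m θ * m θ : ℕ) : ℝ) := by
            exact_mod_cast Nat.le_mul_self (m θ)
          exact mul_le_mul h2 (hdegθ θ) (norm_nonneg _) (by positivity)
      _ = ((∑ θ : IrrCharacter C, m θ * m θ : ℕ) : ℝ) * Real.sqrt t := by
          rw [← Finset.sum_mul]
          push_cast
          rfl
      _ ≤ (Nat.card G : ℝ) / (Nat.card C : ℝ) * Real.sqrt t :=
          mul_le_mul_of_nonneg_right hM (Real.sqrt_nonneg _)
  -- conclude `t ≤ 1`
  have hidx2 : (P.index : ℝ) = (Nat.card G : ℝ) / (Nat.card C : ℝ) * t := by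
    rw [hidx, ht]
    field_simp
  rw [hidx2] at hbound
  have hgc : (0 : ℝ) < (Nat.card G : ℝ) / (Nat.card C : ℝ) := div_pos hGpos hCpos
  have h3 : t ≤ Real.sqrt t := le_of_mul_le_mul_left hbound hgc
  have h4 : t ≤ 1 := by
    have h5 : Real.sqrt t * Real.sqrt t = t := Real.mul_self_sqrt htpos.le
    have h6 : 0 < Real.sqrt t := Real.sqrt_pos.mpr htpos
    have h7 : Real.sqrt t ≤ 1 := by
      by_contra hcon
      push Not at hcon
      nlinarith
    nlinarith
  have h8 : Nat.card C ≤ Nat.card P := by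
    rw [ht, div_le_one hPpos] at h4
    exact_mod_cast h4
  exact (Subgroup.eq_of_le_of_card_ge hPC h8).symm

end Cfsg.Agent.Lib.Helper4.DegreeIndex
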