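import Mathlib
import Cfsg.Prelude.Def_Characters
import Cfsg.Agent.Lib.helper3.Inflate
import Cfsg.Agent.Lib.helper3.Irr9

/-!
# Averaging a character over the cosets of a normal subgroup

For `Ψ : G → ℂ` and `N ⊴ G`, `cosetAvg N Ψ : G ⧸ N → ℂ` sends a coset to the average of `Ψ` over it.
If `Ψ` is a character of `G`, this is a character of `G ⧸ N` (that of the `N`-fixed points), and
`[cosetAvg N Ψ, β] = [Ψ, inflate β]`.
-/

namespace Cfsg.Agent.Lib.Helper4.CosetAvg

open Cfsg Module Cfsg.Agent.Lib.helper3.IndFun Cfsg.Agent.Lib.helper3.CharBasic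
open Cfsg.Agent.Lib.helper3.Irr
open scoped ComplexConjugate

variable {G : Type*} [Group G]

open Classical in
/-- the average of `Ψ` over a coset of `N` -/
noncomputable def cosetAvg [Fintype G] (N : Subgroup G) [N.Normal] (Ψ : G → ℂ) (q : G ⧸ N) : ℂ :=
  (Nat.card N : ℂ)⁻¹ * ∑ g : G, if (g : G ⧸ N) = q then Ψ g else 0

theorem classInner_cosetAvg [Fintype G] (N : Subgroup G) [N.Normal] [Fintype (G ⧸ N)]
    (Ψ : G → ℂ) (β : G ⧸ N → ℂ) :
    classInner (cosetAvg N Ψ) β = classInner Ψ (inflate N β) := by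
  classical
  rw [classInner_apply, classInner_apply]
  have h1 : Nat.card G = Nat.card N * Nat.card (G ⧸ N) := by
    rw [← Subgroup.index_eq_card, mul_comm, Subgroup.index_mul_card]
  have hN0 : (Nat.card N : ℂ) ≠ 0 := by exact_mod_cast Nat.card_pos.ne'
  have hQ0 : (Nat.card (G ⧸ N) : ℂ) ≠ 0 := by exact_mod_cast Nat.card_pos.ne'
  have h2 : ∑ q : G ⧸ N, cosetAvg N Ψ q * conj (β q) =
      (Nat.card N : ℂ)⁻¹ * ∑ g : G, Ψ g * conj (inflate N β g) := by
    unfold cosetAvg
    simp only [mul_assoc, ← Finset.mul_sum]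
    congr 1
    simp only [Finset.sum_mul]
    rw [Finset.sum_comm]
    apply Finset.sum_congr rfl
    intro g _
    simp only [ite_mul, zero_mul]
    rw [Finset.sum_ite_eq Finset.univ (g : G ⧸ N) (fun q => Ψ g * conj (β q))]
    simp [inflate_apply]
  rw [h2, h1]
  push_cast
  field_simp

theorem isClassFunction_cosetAvg [Fintype G] (N : Subgroup G) [N.Normal] {Ψ : G → ℂ}
    (hΨ : IsClassFunction G Ψ) : IsClassFunction (G ⧸ N) (cosetAvg N Ψ) := by
  classical
  intro q a
  obtain ⟨a', rfl⟩ := QuotientGroup.mk_surjective a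
  unfold cosetAvg
  congr 1
  apply Fintype.sum_equiv (MulAut.conj a' : G ≃* G).symm.toEquiv
  intro g
  have h1 : (((MulAut.conj a' : G ≃* G).symm.toEquiv g : G) : G ⧸ N) = q ↔
      (g : G ⧸ N) = (a' : G ⧸ N) * q * (a' : G ⧸ N)⁻¹ := by
    show ((a'⁻¹ * g * a' : G) : G ⧸ N) = q ↔ _
    rw [QuotientGroup.mk_mul, QuotientGroup.mk_mul, QuotientGroup.mk_inv]
    constructor
    · intro h; rw [← h]; group
    · intro h; rw [h]; group
  have h2 : Ψ ((MulAut.conj a' : G ≃* G).symm.toEquiv g) = Ψ g := by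
    show Ψ (a'⁻¹ * g * a') = Ψ g
    have := hΨ g a'⁻¹
    rwa [inv_inv] at this
  by_cases hc : (g : G ⧸ N) = (a' : G ⧸ N) * q * (a' : G ⧸ N)⁻¹
  · rw [if_pos hc, if_pos (h1.mpr hc), h2]
  · rw [if_neg hc, if_neg (fun h => hc (h1.mp h))]

theorem exists_nat_classInner [Fintype G] {Ψ θ : G → ℂ} (hΨ : IsCharacter G Ψ)
    (hθ : IsIrrCharacter G θ) : ∃ m : ℕ, classInner Ψ θ = m := by
  obtain ⟨m, rfl⟩ := exists_decomposition_of_isCharacter hΨ
  exact ⟨m ⟨θ, hθ⟩, classInner_decomposition_left (fun χ => (m χ : ℂ)) ⟨θ, hθ⟩⟩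

/-- The coset average of a character of `G` is a character of `G ⧸ N`. -/
theorem isCharacter_cosetAvg [Fintype G] (N : Subgroup G) [N.Normal] {Ψ : G → ℂ}
    (hΨ : IsCharacter G Ψ) : IsCharacter (G ⧸ N) (cosetAvg N Ψ) := by
  classical
  letI : Fintype (G ⧸ N) := Fintype.ofFinite _
  have hcf := isClassFunction_cosetAvg N (isClassFunction_of_isCharacter hΨ)
  have hdec := classFunction_eq_sum (cosetAvg N Ψ) hcf
  have hm : ∀ β : IrrCharacter (G ⧸ N), ∃ m : ℕ,
      classInner (cosetAvg N Ψ) (β : G ⧸ N → ℂ) = m := by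
    intro β
    rw [classInner_cosetAvg]
    exact exists_nat_classInner hΨ (isIrrCharacter_inflate N β.2)
  choose m hm using hm
  rw [hdec]
  simp only [hm]
  exact isCharacter_of_decomposition m

/-- value of the coset average at a coset, as a sum over `N` -/
theorem cosetAvg_mk [Fintype G] (N : Subgroup G) [N.Normal] [Fintype N] (Ψ : G → ℂ) (x : G) :
    cosetAvg N Ψ (x : G ⧸ N) = (Nat.card N : ℂ)⁻¹ * ∑ n : N, Ψ ((n : G) * x) := by
  classical
  unfold cosetAvg
  congr 1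
  rw [← Finset.sum_filter]
  symm
  apply Finset.sum_bij (fun (n : N) _ => (n : G) * x)
  · intro n _
    rw [Finset.mem_filter]
    refine ⟨Finset.mem_univ _, ?_⟩
    rw [QuotientGroup.mk_mul, (QuotientGroup.eq_one_iff (n : G)).mpr n.2, one_mul]
  · intro n _ n' _ h
    exact Subtype.ext (mul_right_cancel h)
  · intro g hg
    rw [Finset.mem_filter] at hg
    have h1 : g * x⁻¹ ∈ N := by
      rw [← QuotientGroup.eq_one_iff, QuotientGroup.mk_mul, QuotientGroup.mk_inv, hg.2,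
        mul_inv_cancel]
    exact ⟨⟨g * x⁻¹, h1⟩, Finset.mem_univ _, by simp⟩
  · intro n _; rfl

end Cfsg.Agent.Lib.Helper4.CosetAvg
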