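import Mathlib
import Cfsg.Prelude.Def_Characters
import Cfsg.Agent.Lib.helper3.Irr13

/-!
# The Frobenius--Schur indicator takes the values `0, 1, -1`

For an irreducible character `χ`, `fsInd χ = (1/|G|) ∑ χ(g²)` is `0` when `χ` is not real-valued and
`±1` when it is.  The proof realizes `fsInd χ` as the trace of `P * S`, where `P` is the projection
onto the `G`-invariants of `V ⊗ V` (written with Kronecker products) and `S` is the swap.
-/

namespace Cfsg.Agent.Lib.Helper4.FS

open Cfsg Module Cfsg.Agent.Lib.helper3.IndFun Cfsg.Agent.Lib.helper3.CharBasic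
open Cfsg.Agent.Lib.helper3.Irr
open scoped ComplexConjugate Kronecker

section linalg

variable {ι : Type*} [Fintype ι] [DecidableEq ι]

/-- An idempotent `P` commuting with an involution `S`: if `trace P = 0` then `trace (P * S) = 0`,
and if `trace P = 1` then `trace (P * S) = ±1`. -/
theorem trace_mul_of_idempotent (P S : Matrix ι ι ℂ) (hP : P * P = P) (hS : S * S = 1)
    (hPS : S * P = P * S) :
    (Matrix.trace P = 0 → Matrix.trace (P * S) = 0) ∧
      (Matrix.trace P = 1 → Matrix.trace (P * S) = 1 ∨ Matrix.trace (P * S) = -1) := by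
  set p : (ι → ℂ) →ₗ[ℂ] (ι → ℂ) := Matrix.toLin' P with hp
  set s : (ι → ℂ) →ₗ[ℂ] (ι → ℂ) := Matrix.toLin' S with hs
  have hpid : IsIdempotentElem p := by
    unfold IsIdempotentElem
    rw [hp, Module.End.mul_eq_comp, ← Matrix.toLin'_mul, hP]
  have htr : LinearMap.trace ℂ _ p = Matrix.trace P := Matrix.trace_toLin'_eq P
  have hsp : s ∘ₗ p = p ∘ₗ s := by
    rw [hp, hs, ← Matrix.toLin'_mul, ← Matrix.toLin'_mul, hPS]
  have hss : s ∘ₗ s = LinearMap.id := by
    rw [hs, ← Matrix.toLin'_mul, hS, Matrix.toLin'_one]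
  constructor
  · intro h0
    have hp0 : p = 0 := (LinearMap.IsIdempotentElem.trace_eq_zero_iff hpid).mp (htr.trans h0)
    have hP0 : P = 0 := by
      have : Matrix.toLin' P = Matrix.toLin' 0 := by rw [← hp, hp0, map_zero]
      exact Matrix.toLin'.injective this
    rw [hP0, zero_mul, Matrix.trace_zero]
  · intro h1
    have hproj := LinearMap.IsIdempotentElem.isProj_range p hpid
    have hrank : (finrank ℂ (LinearMap.range p) : ℂ) = 1 := by
      rw [← hproj.trace, htr, h1]
    have hrank' : finrank ℂ (LinearMap.range p) = 1 := by exact_mod_cast hrank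
    obtain ⟨w, hw0, hw⟩ := finrank_eq_one_iff'.mp hrank'
    -- `s` preserves the range of `p`
    have hsw : s (w : ι → ℂ) ∈ LinearMap.range p := by
      obtain ⟨x, hx⟩ := w.2
      refine ⟨s x, ?_⟩
      have := LinearMap.congr_fun hsp x
      simp only [LinearMap.comp_apply] at this
      rw [← this, hx]
    obtain ⟨c, hc⟩ := hw ⟨s (w : ι → ℂ), hsw⟩
    have hc' : c • (w : ι → ℂ) = s (w : ι → ℂ) := congrArg Subtype.val hc
    have hw0' : (w : ι → ℂ) ≠ 0 := fun h => hw0 (Subtype.ext h)
    have hcc : c * c = 1 := by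
      have h2 : s (s (w : ι → ℂ)) = (w : ι → ℂ) := by
        have := LinearMap.congr_fun hss (w : ι → ℂ)
        simpa using this
      rw [← hc', map_smul, ← hc', smul_smul] at h2
      have h3 : (c * c - 1) • (w : ι → ℂ) = 0 := by rw [sub_smul, h2, one_smul, sub_self]
      rcases smul_eq_zero.mp h3 with h4 | h4
      · exact sub_eq_zero.mp h4
      · exact absurd h4 hw0'
    have hspc : s ∘ₗ p = c • p := by
      apply LinearMap.ext
      intro x
      obtain ⟨a, ha⟩ := hw ⟨p x, LinearMap.mem_range_self p x⟩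
      have ha' : a • (w : ι → ℂ) = p x := congrArg Subtype.val ha
      simp only [LinearMap.comp_apply, LinearMap.smul_apply]
      rw [← ha', map_smul, ← hc', smul_smul, smul_smul, mul_comm]
    have hSP : S * P = c • P := by
      apply Matrix.toLin'.injective
      rw [Matrix.toLin'_mul, map_smul]
      exact hspc
    have htrc : Matrix.trace (P * S) = c := by
      rw [← hPS, hSP, Matrix.trace_smul, h1, smul_eq_mul, mul_one]
    rw [htrc]
    have : (c - 1) * (c + 1) = 0 := by ring_nf; rw [← sub_eq_zero] at hcc; ring_nf at hcc; linear_combination hcc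
    rcases mul_eq_zero.mp this with h | h
    · left; exact sub_eq_zero.mp h
    · right; exact eq_neg_of_add_eq_zero_left h

/-- An idempotent `P` of trace one commuting with an involution `S`: the range of `P` is spanned by
an eigenvector of `S` for the eigenvalue `trace (P * S)`. -/
theorem exists_eigenvector (P S : Matrix ι ι ℂ) (hP : P * P = P) (hS : S * S = 1)
    (hPS : S * P = P * S) (h1 : Matrix.trace P = 1) :
    ∃ w : ι → ℂ, w ≠ 0 ∧ P.mulVec w = w ∧ S.mulVec w = Matrix.trace (P * S) • w := by
  set p : (ι → ℂ) →ₗ[ℂ] (ι → ℂ) := Matrix.toLin' P with hp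
  set s : (ι → ℂ) →ₗ[ℂ] (ι → ℂ) := Matrix.toLin' S with hs
  have hpid : IsIdempotentElem p := by
    unfold IsIdempotentElem
    rw [hp, Module.End.mul_eq_comp, ← Matrix.toLin'_mul, hP]
  have htr : LinearMap.trace ℂ _ p = Matrix.trace P := Matrix.trace_toLin'_eq P
  have hsp : s ∘ₗ p = p ∘ₗ s := by
    rw [hp, hs, ← Matrix.toLin'_mul, ← Matrix.toLin'_mul, hPS]
  have hproj := LinearMap.IsIdempotentElem.isProj_range p hpid
  have hrank : (finrank ℂ (LinearMap.range p) : ℂ) = 1 := by
    rw [← hproj.trace, htr, h1]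
  have hrank' : finrank ℂ (LinearMap.range p) = 1 := by exact_mod_cast hrank
  obtain ⟨w, hw0, hw⟩ := finrank_eq_one_iff'.mp hrank'
  have hsw : s (w : ι → ℂ) ∈ LinearMap.range p := by
    obtain ⟨x, hx⟩ := w.2
    refine ⟨s x, ?_⟩
    have := LinearMap.congr_fun hsp x
    simp only [LinearMap.comp_apply] at this
    rw [← this, hx]
  obtain ⟨c, hc⟩ := hw ⟨s (w : ι → ℂ), hsw⟩
  have hc' : c • (w : ι → ℂ) = s (w : ι → ℂ) := congrArg Subtype.val hc
  have hw0' : (w : ι → ℂ) ≠ 0 := fun h => hw0 (Subtype.ext h)
  have hspc : s ∘ₗ p = c • p := by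
    apply LinearMap.ext
    intro x
    obtain ⟨a, ha⟩ := hw ⟨p x, LinearMap.mem_range_self p x⟩
    have ha' : a • (w : ι → ℂ) = p x := congrArg Subtype.val ha
    simp only [LinearMap.comp_apply, LinearMap.smul_apply]
    rw [← ha', map_smul, ← hc', smul_smul, smul_smul, mul_comm]
  have hSP : S * P = c • P := by
    apply Matrix.toLin'.injective
    rw [Matrix.toLin'_mul, map_smul]
    exact hspc
  have htrc : Matrix.trace (P * S) = c := by
    rw [← hPS, hSP, Matrix.trace_smul, h1, smul_eq_mul, mul_one]
  refine ⟨(w : ι → ℂ), hw0', ?_, ?_⟩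
  · have := hproj.map_id (w : ι → ℂ) w.2
    have h2 : p (w : ι → ℂ) = P.mulVec (w : ι → ℂ) := Matrix.toLin'_apply P _
    rw [← h2]
    exact this
  · have h2 : s (w : ι → ℂ) = S.mulVec (w : ι → ℂ) := Matrix.toLin'_apply S _
    rw [htrc, hc', h2]

/-- the swap permutation matrix on `n × n` -/
def swapMatrix (n : Type*) [DecidableEq n] : Matrix (n × n) (n × n) ℂ :=
  fun x y => if x = y.swap then 1 else 0

end linalg

section kron

variable {n : Type*} [Fintype n] [DecidableEq n]

theorem swapMatrix_mul_self : swapMatrix n * swapMatrix n = 1 := by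
  ext x y
  rw [Matrix.mul_apply]
  simp only [swapMatrix]
  rw [Finset.sum_eq_single x.swap]
  · simp only [Prod.swap_swap, if_true, one_mul]
    rw [Matrix.one_apply]
    by_cases h : x = y
    · rw [if_pos h, if_pos (by rw [h])]
    · rw [if_neg h, if_neg]
      intro h'
      apply h
      have := congrArg Prod.swap h'
      simpa using this
  · intro z _ hz
    rw [if_neg, zero_mul]
    intro h
    apply hz
    rw [h, Prod.swap_swap]
  · intro h; exact absurd (Finset.mem_univ _) h

theorem mul_swapMatrix_apply (K : Matrix (n × n) (n × n) ℂ) (x y : n × n) :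
    (K * swapMatrix n) x y = K x y.swap := by
  rw [Matrix.mul_apply]
  simp only [swapMatrix]
  rw [Finset.sum_eq_single y.swap]
  · simp
  · intro z _ hz
    rw [if_neg hz, mul_zero]
  · intro h; exact absurd (Finset.mem_univ _) h

theorem swapMatrix_mul_apply (K : Matrix (n × n) (n × n) ℂ) (x y : n × n) :
    (swapMatrix n * K) x y = K x.swap y := by
  rw [Matrix.mul_apply]
  simp only [swapMatrix]
  rw [Finset.sum_eq_single x.swap]
  · simp
  · intro z _ hz
    rw [if_neg, zero_mul]
    intro h
    apply hz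
    rw [h, Prod.swap_swap]
  · intro h; exact absurd (Finset.mem_univ _) h

theorem swapMatrix_mul_kronecker (A : Matrix n n ℂ) :
    swapMatrix n * (A ⊗ₖ A) = (A ⊗ₖ A) * swapMatrix n := by
  ext ⟨i, j⟩ ⟨k, l⟩
  rw [swapMatrix_mul_apply, mul_swapMatrix_apply]
  simp only [Prod.swap_prod_mk, Matrix.kronecker_apply]
  ring

theorem trace_kronecker_mul_swapMatrix (A : Matrix n n ℂ) :
    Matrix.trace ((A ⊗ₖ A) * swapMatrix n) = Matrix.trace (A * A) := by
  simp only [Matrix.trace, Matrix.diag_apply, mul_swapMatrix_apply]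
  rw [Fintype.sum_prod_type]
  apply Finset.sum_congr rfl
  intro i _
  rw [Matrix.mul_apply]
  apply Finset.sum_congr rfl
  intro j _
  simp only [Prod.swap_prod_mk, Matrix.kronecker_apply]

end kron

section main

variable {G : Type*} [Group G] [Fintype G]

/-- the two traces attached to a representation -/
theorem exists_idempotent (d : ℕ) (ρ : Representation ℂ G (Fin d → ℂ)) :
    ∃ P : Matrix (Fin d × Fin d) (Fin d × Fin d) ℂ, P * P = P ∧
      swapMatrix (Fin d) * P = P * swapMatrix (Fin d) ∧
      Matrix.trace P = (Nat.card G : ℂ)⁻¹ * ∑ g : G, ρ.character g * ρ.character g ∧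
      Matrix.trace (P * swapMatrix (Fin d)) = fsInd ρ.character ∧
      ∀ h : G, (LinearMap.toMatrix' (ρ h) ⊗ₖ LinearMap.toMatrix' (ρ h)) * P = P := by
  classical
  set A : G → Matrix (Fin d) (Fin d) ℂ := fun g => LinearMap.toMatrix' (ρ g) with hA
  have hAmul : ∀ g h : G, A (g * h) = A g * A h := by
    intro g h
    simp only [hA]
    rw [map_mul, ← LinearMap.toMatrix'_mul]
  have hAtr : ∀ g : G, Matrix.trace (A g) = ρ.character g := by
    intro g
    simp only [hA]
    unfold Representation.character
    rw [← Matrix.trace_toLin'_eq, Matrix.toLin'_toMatrix']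
  set K : G → Matrix (Fin d × Fin d) (Fin d × Fin d) ℂ := fun g => A g ⊗ₖ A g with hK
  have hKmul : ∀ g h : G, K (g * h) = K g * K h := by
    intro g h
    simp only [hK]
    rw [hAmul, Matrix.mul_kronecker_mul]
  have hG0 : (Nat.card G : ℂ) ≠ 0 := by exact_mod_cast Nat.card_pos.ne'
  set P : Matrix (Fin d × Fin d) (Fin d × Fin d) ℂ := (Nat.card G : ℂ)⁻¹ • ∑ g : G, K g with hP
  have hKP : ∀ h : G, K h * P = P := by
    intro h
    rw [hP, Matrix.mul_smul, Finset.mul_sum]
    congr 1
    simp only [← hKmul]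
    exact Fintype.sum_equiv (Equiv.mulLeft h) _ _ (fun g => rfl)
  refine ⟨P, ?_, ?_, ?_, ?_, hKP⟩
  · have h1 : P * P = (Nat.card G : ℂ)⁻¹ • ∑ g : G, K g * P := by
      conv_lhs => rw [hP]
      rw [Matrix.smul_mul, Finset.sum_mul]
    rw [h1]
    simp only [hKP]
    rw [Finset.sum_const, Finset.card_univ, ← Nat.card_eq_fintype_card,
      ← Nat.cast_smul_eq_nsmul ℂ, smul_smul, inv_mul_cancel₀ hG0, one_smul]
  · rw [hP, Matrix.mul_smul, Matrix.smul_mul, Finset.mul_sum, Finset.sum_mul]
    congr 1
    apply Finset.sum_congr rfl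
    intro g _
    exact swapMatrix_mul_kronecker (A g)
  · rw [hP, Matrix.trace_smul, Matrix.trace_sum, smul_eq_mul]
    congr 1
    apply Finset.sum_congr rfl
    intro g _
    simp only [hK]
    rw [Matrix.trace_kronecker, hAtr]
  · rw [hP, Matrix.smul_mul, Matrix.trace_smul, Finset.sum_mul, Matrix.trace_sum, smul_eq_mul]
    unfold fsInd
    congr 1
    apply Finset.sum_congr rfl
    intro g _
    simp only [hK]
    rw [trace_kronecker_mul_swapMatrix, ← hAmul, hAtr]

/-- **Frobenius--Schur.** For an irreducible character `χ`: either `χ` is not real-valued and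
`fsInd χ = 0`, or `χ` is real-valued and `fsInd χ = ±1`. -/
theorem fsInd_cases {χ : G → ℂ} (hχ : IsIrrCharacter G χ) :
    (fsInd χ = 0 ∧ ¬ ∀ g, conj (χ g) = χ g) ∨
      ((fsInd χ = 1 ∨ fsInd χ = -1) ∧ ∀ g, conj (χ g) = χ g) := by
  classical
  have hχ' := hχ
  obtain ⟨d, ρ, hirr, rfl⟩ := hχ
  obtain ⟨P, hPP, hSP, htrP, htrPS, -⟩ := exists_idempotent d ρ
  have hconj : IsIrrCharacter G (fun g => conj (ρ.character g)) := isIrrCharacter_conj hχ'
  have htr : Matrix.trace P = classInner ρ.character (fun g => conj (ρ.character g)) := by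
    rw [htrP, classInner_apply]
    congr 1
    apply Finset.sum_congr rfl
    intro g _
    rw [Complex.conj_conj]
  have key := trace_mul_of_idempotent P (swapMatrix (Fin d)) hPP swapMatrix_mul_self hSP
  rw [htrPS] at key
  by_cases hreal : ∀ g, conj (ρ.character g) = ρ.character g
  · right
    refine ⟨?_, hreal⟩
    apply key.2
    rw [htr]
    have : (fun g => conj (ρ.character g)) = ρ.character := funext hreal
    rw [this]
    exact irr_classInner_self hχ'
  · left
    refine ⟨?_, hreal⟩
    apply key.1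
    rw [htr]
    apply irr_classInner_eq_zero hχ' hconj
    intro h
    apply hreal
    intro g
    exact (congrFun h g).symm

/-- An irreducible representation with real-valued character carries a nondegenerate invariant
bilinear form `B`, which is symmetric or alternating according to the Frobenius--Schur indicator. -/
theorem exists_invariant_form (d : ℕ) (ρ : Representation ℂ G (Fin d → ℂ)) (hirr : ρ.IsIrreducible)
    (hreal : ∀ g, conj (ρ.character g) = ρ.character g) :
    ∃ B : Matrix (Fin d) (Fin d) ℂ, B.det ≠ 0 ∧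
      (∀ g : G, LinearMap.toMatrix' (ρ g) * B * (LinearMap.toMatrix' (ρ g)).transpose = B) ∧
      B.transpose = fsInd ρ.character • B := by
  classical
  have hχ' : IsIrrCharacter G ρ.character := ⟨d, ρ, hirr, rfl⟩
  obtain ⟨P, hPP, hSP, htrP, htrPS, hKP⟩ := exists_idempotent d ρ
  have htr : Matrix.trace P = 1 := by
    rw [htrP]
    have h1 := irr_classInner_self hχ'
    rw [classInner_apply] at h1
    rw [← h1]
    congr 1
    apply Finset.sum_congr rfl
    intro g _
    rw [hreal]
  obtain ⟨w, hw0, hPw, hSw⟩ :=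
    exists_eigenvector P (swapMatrix (Fin d)) hPP swapMatrix_mul_self hSP htr
  rw [htrPS] at hSw
  set A : G → Matrix (Fin d) (Fin d) ℂ := fun g => LinearMap.toMatrix' (ρ g) with hA
  have hAmul : ∀ g h : G, A (g * h) = A g * A h := by
    intro g h
    simp only [hA]
    rw [map_mul, ← LinearMap.toMatrix'_mul]
  have hA1 : A 1 = 1 := by
    simp only [hA]
    rw [map_one]
    exact LinearMap.toMatrix'_one
  have hKw : ∀ h : G, (A h ⊗ₖ A h).mulVec w = w := by
    intro h
    conv_lhs => rw [← hPw]
    rw [Matrix.mulVec_mulVec, hKP h, hPw]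
  set B : Matrix (Fin d) (Fin d) ℂ := Matrix.of (fun i j => w (i, j)) with hB
  have hB0 : B ≠ 0 := by
    intro h
    apply hw0
    funext ⟨i, j⟩
    have := congrFun (congrFun h i) j
    simpa [hB] using this
  have hinv : ∀ g : G, A g * B * (A g).transpose = B := by
    intro g
    ext i j
    have h1 := congrFun (hKw g) (i, j)
    rw [Matrix.mulVec, dotProduct, Fintype.sum_prod_type] at h1
    have h2 : B i j = w (i, j) := rfl
    rw [h2, ← h1, Matrix.mul_apply]
    simp only [Matrix.mul_apply, Matrix.transpose_apply, Finset.sum_mul]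
    rw [Finset.sum_comm]
    apply Finset.sum_congr rfl
    intro k _
    apply Finset.sum_congr rfl
    intro l _
    simp only [Matrix.kronecker_apply, hB, Matrix.of_apply]
    ring
  have hsym : B.transpose = fsInd ρ.character • B := by
    ext i j
    have h1 := congrFun hSw (i, j)
    rw [Matrix.mulVec, dotProduct] at h1
    simp only [swapMatrix] at h1
    rw [Finset.sum_eq_single (j, i)] at h1
    · simp only [Prod.swap_prod_mk, if_true, one_mul, Pi.smul_apply, smul_eq_mul] at h1
      simp only [Matrix.transpose_apply, Matrix.smul_apply, smul_eq_mul, hB, Matrix.of_apply]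
      exact h1
    · intro z _ hz
      rw [if_neg, zero_mul]
      intro h
      apply hz
      have h2 := congrArg Prod.swap h
      rw [Prod.swap_swap] at h2
      exact h2.symm
    · intro h; exact absurd (Finset.mem_univ _) h
  refine ⟨B, ?_, hinv, hsym⟩
  -- nondegeneracy: the range of `B` is an invariant subspace
  have hAB : ∀ g : G, A g * B = B * (A g⁻¹).transpose := by
    intro g
    have h1 : A g * B * (A g).transpose * (A g⁻¹).transpose = B * (A g⁻¹).transpose := by
      rw [hinv g]
    rw [Matrix.mul_assoc, ← Matrix.transpose_mul, ← hAmul, inv_mul_cancel, hA1,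
      Matrix.transpose_one, Matrix.mul_one] at h1
    exact h1
  let W : Subrepresentation ρ :=
    { toSubmodule := LinearMap.range (Matrix.toLin' B)
      apply_mem_toSubmodule := by
        rintro g v ⟨x, rfl⟩
        refine ⟨Matrix.toLin' ((A g⁻¹).transpose) x, ?_⟩
        have h1 : ρ g = Matrix.toLin' (A g) := by
          simp only [hA]
          rw [Matrix.toLin'_toMatrix']
        rw [h1, ← LinearMap.comp_apply, ← LinearMap.comp_apply, ← Matrix.toLin'_mul,
          ← Matrix.toLin'_mul, hAB g] }
  haveI := hirr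
  rcases eq_bot_or_eq_top W with hW | hW
  · exfalso
    apply hB0
    have h1 : LinearMap.range (Matrix.toLin' B) = ⊥ := congrArg Subrepresentation.toSubmodule hW
    rw [LinearMap.range_eq_bot] at h1
    have : Matrix.toLin' B = Matrix.toLin' 0 := by rw [h1, map_zero]
    exact Matrix.toLin'.injective this
  · have h1 : LinearMap.range (Matrix.toLin' B) = ⊤ := congrArg Subrepresentation.toSubmodule hW
    have hsurj : Function.Surjective (Matrix.toLin' B) := LinearMap.range_eq_top.mp h1
    have hinj : Function.Injective (Matrix.toLin' B) :=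
      LinearMap.injective_iff_surjective.mpr hsurj
    intro hdet
    obtain ⟨v, hv0, hv⟩ := Matrix.exists_mulVec_eq_zero_iff.mpr hdet
    apply hv0
    apply hinj
    rw [Matrix.toLin'_apply, hv, map_zero]

theorem real_of_fsInd_ne_zero {χ : G → ℂ} (hχ : IsIrrCharacter G χ) (h : fsInd χ ≠ 0) :
    ∀ g, conj (χ g) = χ g := by
  rcases fsInd_cases hχ with h1 | h1
  · exact absurd h1.1 h
  · exact h1.2

theorem fsInd_eq_or_of_real {χ : G → ℂ} (hχ : IsIrrCharacter G χ) (h : ∀ g, conj (χ g) = χ g) :
    fsInd χ = 1 ∨ fsInd χ = -1 := by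
  rcases fsInd_cases hχ with h1 | h1
  · exact absurd h h1.2
  · exact h1.1

/-- **Frobenius--Schur.** A real-valued irreducible character of odd degree has indicator `1`. -/
theorem fsInd_eq_one_of_odd {χ : G → ℂ} (hχ : IsIrrCharacter G χ) (hreal : ∀ g, conj (χ g) = χ g)
    (d : ℕ) (hd : χ 1 = d) (hodd : Odd d) : fsInd χ = 1 := by
  classical
  have hχ' := hχ
  obtain ⟨d', ρ, hirr, rfl⟩ := hχ
  have hdd : d' = d := by
    have h1 : ρ.character 1 = (Module.finrank ℂ (Fin d' → ℂ) : ℂ) := Representation.char_one ρ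
    rw [Module.finrank_fin_fun, hd] at h1
    exact_mod_cast h1.symm
  subst hdd
  rcases fsInd_eq_or_of_real hχ' hreal with h | h
  · exact h
  · exfalso
    obtain ⟨B, hdet, -, hsym⟩ := exists_invariant_form d' ρ hirr hreal
    rw [h] at hsym
    have h1 : B.transpose.det = ((-1 : ℂ) • B).det := by rw [hsym]
    rw [Matrix.det_transpose, Matrix.det_smul, Fintype.card_fin, hodd.neg_one_pow] at h1
    apply hdet
    linear_combination (1/2 : ℂ) * h1

theorem norm_fsInd_le_one {χ : G → ℂ} (hχ : IsIrrCharacter G χ) : ‖fsInd χ‖ ≤ 1 := by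
  rcases fsInd_cases hχ with h1 | h1
  · rw [h1.1]; simp
  · rcases h1.1 with h2 | h2 <;> rw [h2] <;> simp

end main

end Cfsg.Agent.Lib.Helper4.FS
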