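import Mathlib
import Cfsg.Prelude.Def_Characters
import Cfsg.Agent.Lib.helper3.TransferChar
import Cfsg.Agent.Lib.helper3.Gallagher3
import Cfsg.Agent.Lib.helper3.AbelianInertia
import Cfsg.Agent.Lib.helper3.Inflate2
import Cfsg.Agent.Lib.helper3.CharBasic

set_option autoImplicit false
set_option linter.style.haveILetI false
set_option linter.unusedSectionVars false

/-!
# The group of linear characters acting on the irreducible characters

`Λ = (G →* ℂˣ)` acts on `IrrCharacter G` by multiplication.  We prove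

* `card_hom_eq_index` : `|Λ| = |G : G'|`;
* `card_le_sq_of_fixed` : if every element of a subgroup `B ≤ Λ` fixes `χ` then `|B| ≤ χ(1)²`;
* `card_modEq_card_filter_fixed` : fixed-point congruence for a `p`-group acting on a type with an
  invariant finset.
-/

namespace Cfsg.Agent.Lib.Helper4.LinAct

open Cfsg
open Cfsg.Agent.Lib.helper3.Irr Cfsg.Agent.Lib.helper3.Lin Cfsg.Agent.Lib.helper3.CharBasic
open scoped ComplexConjugate

section general

/-- fixed point congruence for an invariant finset -/
theorem card_modEq_card_filter_fixed {B α : Type*} [Group B] [MulAction B α] (p : ℕ)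
    [Fact p.Prime] (hB : IsPGroup p B) (S : Finset α) (hS : ∀ b : B, ∀ x ∈ S, b • x ∈ S)
    (T : Finset α) (hT : ∀ x, x ∈ T ↔ x ∈ S ∧ ∀ b : B, b • x = x) :
    S.card ≡ T.card [MOD p] := by
  classical
  letI : MulAction B {x // x ∈ S} :=
    { smul := fun b x => ⟨b • x.1, hS b x.1 x.2⟩
      one_smul := fun x => Subtype.ext (one_smul _ _)
      mul_smul := fun a b x => Subtype.ext (mul_smul _ _ _) }
  have hsm : ∀ (b : B) (x : {x // x ∈ S}), ((b • x : {x // x ∈ S}) : α) = b • (x : α) :=
    fun _ _ => rfl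
  have h := hB.card_modEq_card_fixedPoints {x // x ∈ S}
  have h1 : Nat.card {x // x ∈ S} = S.card := by
    rw [Nat.card_eq_fintype_card, Fintype.card_coe]
  have h2 : Nat.card (MulAction.fixedPoints B {x // x ∈ S}) = T.card := by
    rw [← Fintype.card_coe T, ← Nat.card_eq_fintype_card]
    apply Nat.card_congr
    refine ⟨fun x => ⟨x.1.1, (hT _).2 ⟨x.1.2, fun b => ?_⟩⟩,
      fun x => ⟨⟨x.1, ((hT _).1 x.2).1⟩, fun b => ?_⟩, fun x => ?_, fun x => ?_⟩
    · have := x.2 b
      rw [← hsm, this]
    · apply Subtype.ext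
      rw [hsm]
      exact ((hT _).1 x.2).2 b
    · rfl
    · rfl
  rw [h1, h2] at h
  exact h

end general

variable {G : Type*} [Group G]

/-- the function attached to a homomorphism to `ℂˣ` -/
noncomputable def fn (μ : G →* ℂˣ) : G → ℂ := fun g => ((μ g : ℂˣ) : ℂ)

theorem fn_apply (μ : G →* ℂˣ) (g : G) : fn μ g = ((μ g : ℂˣ) : ℂ) := rfl

theorem fn_apply_one (μ : G →* ℂˣ) : fn μ 1 = 1 := by
  rw [fn_apply, map_one, Units.val_one]

theorem fn_one_apply (g : G) : fn (1 : G →* ℂˣ) g = 1 := by
  rw [fn_apply, MonoidHom.one_apply, Units.val_one]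

theorem fn_mul_apply (μ ν : G →* ℂˣ) (g : G) : fn (μ * ν) g = fn μ g * fn ν g := by
  rw [fn_apply, MonoidHom.mul_apply, Units.val_mul]
  rfl

theorem fn_pow_apply (μ : G →* ℂˣ) (k : ℕ) (g : G) : fn (μ ^ k) g = fn μ g ^ k := by
  rw [fn_apply, MonoidHom.pow_apply, Units.val_pow_eq_pow_val]
  rfl

theorem fn_injective : Function.Injective (fn : (G →* ℂˣ) → G → ℂ) := by
  intro μ ν h
  ext g
  exact congrFun h g

theorem fn_ne_zero (μ : G →* ℂˣ) (g : G) : fn μ g ≠ 0 := (μ g).ne_zero

theorem isCharacter_fn (μ : G →* ℂˣ) : IsCharacter G (fn μ) := isCharacter_of_hom μ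

theorem isIrr_fn [Finite G] (μ : G →* ℂˣ) : IsIrrCharacter G (fn μ) :=
  isIrrCharacter_of_linear (isCharacter_fn μ) (fn_apply_one μ)

theorem isIrr_fn_mul [Finite G] (μ : G →* ℂˣ) (χ : IrrCharacter G) :
    IsIrrCharacter G (fn μ * (χ : G → ℂ)) := by
  classical
  letI : Fintype G := Fintype.ofFinite G
  exact isIrrCharacter_linear_mul (isCharacter_fn μ)
    (fn_apply_one μ) χ.2

/-- the linear character attached to a homomorphism -/
noncomputable def lin [Finite G] (μ : G →* ℂˣ) : IrrCharacter G := ⟨fn μ, isIrr_fn μ⟩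

theorem lin_injective [Finite G] : Function.Injective (lin : (G →* ℂˣ) → IrrCharacter G) := by
  intro μ ν h
  exact fn_injective (congrArg Subtype.val h)

instance hom_finite [Finite G] : Finite (G →* ℂˣ) := Finite.of_injective lin lin_injective

noncomputable instance smulIrr [Finite G] : MulAction (G →* ℂˣ) (IrrCharacter G) where
  smul μ χ := ⟨fn μ * (χ : G → ℂ), isIrr_fn_mul μ χ⟩
  one_smul χ := by
    apply Subtype.ext
    funext g
    show fn 1 g * (χ : G → ℂ) g = (χ : G → ℂ) g
    rw [fn_one_apply, one_mul]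
  mul_smul μ ν χ := by
    apply Subtype.ext
    funext g
    show fn (μ * ν) g * (χ : G → ℂ) g = fn μ g * (fn ν g * (χ : G → ℂ) g)
    rw [fn_mul_apply, mul_assoc]

theorem smul_apply [Finite G] (μ : G →* ℂˣ) (χ : IrrCharacter G) (g : G) :
    ((μ • χ : IrrCharacter G) : G → ℂ) g = fn μ g * (χ : G → ℂ) g := rfl

theorem smul_apply_one [Finite G] (μ : G →* ℂˣ) (χ : IrrCharacter G) :
    ((μ • χ : IrrCharacter G) : G → ℂ) 1 = (χ : G → ℂ) 1 := by
  rw [smul_apply, fn_apply_one, one_mul]

/-- `|Λ| = |G : G'|` -/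
theorem card_hom_eq_index [Finite G] : Nat.card (G →* ℂˣ) = (commutator G).index := by
  rw [← Cfsg.Agent.Lib.helper3.Irr.card_linear_eq_index_commutator (G := G)]
  apply Nat.card_congr
  refine Equiv.ofBijective (fun μ => ⟨lin μ, fn_apply_one μ⟩) ⟨?_, ?_⟩
  · intro μ ν h
    exact lin_injective (congrArg Subtype.val h)
  · rintro ⟨χ, h1⟩
    refine ⟨toUnitsHom (isCharacter_of_isIrrCharacter χ.2) h1, ?_⟩
    apply Subtype.ext
    apply Subtype.ext
    funext g
    exact toUnitsHom_apply (isCharacter_of_isIrrCharacter χ.2) h1 g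

/-- every degree one irreducible character comes from a homomorphism -/
theorem exists_lin_eq [Finite G] (χ : IrrCharacter G) (h1 : (χ : G → ℂ) 1 = 1) :
    ∃ μ : G →* ℂˣ, lin μ = χ := by
  refine ⟨toUnitsHom (isCharacter_of_isIrrCharacter χ.2) h1, ?_⟩
  apply Subtype.ext
  funext g
  exact toUnitsHom_apply (isCharacter_of_isIrrCharacter χ.2) h1 g

theorem norm_le_degree [Finite G] {χ : G → ℂ} (hχ : IsCharacter G χ) (g : G) :
    ‖χ g‖ ≤ ‖χ 1‖ := by
  obtain ⟨n, ρ, rfl⟩ := hχ
  have h := norm_character_le ρ g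
  rw [Representation.char_one]
  simpa using h

/-- sum of the squared norms of an irreducible character -/
theorem sum_norm_sq [Fintype G] (χ : IrrCharacter G) :
    ∑ g : G, ‖(χ : G → ℂ) g‖ ^ 2 = (Fintype.card G : ℝ) := by
  have h := irr_classInner_self χ.2
  rw [Cfsg.Agent.Lib.helper3.IndFun.classInner_apply] at h
  have hne : (Nat.card G : ℂ) ≠ 0 := by
    rw [Nat.card_eq_fintype_card]
    exact_mod_cast Fintype.card_ne_zero
  have h2 : ∑ g : G, (χ : G → ℂ) g * conj ((χ : G → ℂ) g) = (Nat.card G : ℂ) := by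
    field_simp at h
    exact h
  have h3 : ((∑ g : G, ‖(χ : G → ℂ) g‖ ^ 2 : ℝ) : ℂ) = (Fintype.card G : ℂ) := by
    rw [← Nat.card_eq_fintype_card, ← h2]
    push_cast
    apply Finset.sum_congr rfl
    intro g _
    rw [Complex.mul_conj']
  exact_mod_cast h3

/-- a subgroup of `Λ` fixing an irreducible character `χ` has order at most `χ(1)²` -/
theorem card_le_sq_of_fixed [Finite G] (B : Subgroup (G →* ℂˣ)) (χ : IrrCharacter G)
    (hfix : ∀ μ ∈ B, μ • χ = χ) : (Nat.card B : ℝ) ≤ ‖(χ : G → ℂ) 1‖ ^ 2 := by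
  classical
  letI : Fintype G := Fintype.ofFinite G
  letI : Fintype B := Fintype.ofFinite B
  set K : Finset G := Finset.univ.filter (fun g => ∀ μ ∈ B, μ g = 1) with hK
  -- support of `χ`
  have hsupp : ∀ g : G, (χ : G → ℂ) g ≠ 0 → g ∈ K := by
    intro g hg
    rw [hK, Finset.mem_filter]
    refine ⟨Finset.mem_univ _, fun μ hμ => ?_⟩
    have h1 := congrArg (fun ψ : IrrCharacter G => (ψ : G → ℂ) g) (hfix μ hμ)
    simp only [smul_apply] at h1
    have h2 : fn μ g = 1 := by
      have : (fn μ g - 1) * (χ : G → ℂ) g = 0 := by linear_combination h1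
      rcases mul_eq_zero.mp this with h | h
      · exact sub_eq_zero.mp h
      · exact absurd h hg
    exact Units.ext h2
  -- the sum of squares
  have hsum := sum_norm_sq χ
  have hle : (Fintype.card G : ℝ) ≤ K.card * ‖(χ : G → ℂ) 1‖ ^ 2 := by
    rw [← hsum]
    calc ∑ g : G, ‖(χ : G → ℂ) g‖ ^ 2 = ∑ g ∈ K, ‖(χ : G → ℂ) g‖ ^ 2 := by
          symm
          apply Finset.sum_subset (Finset.subset_univ _)
          intro g _ hgK
          by_contra hne
          apply hgK
          apply hsupp
          intro h0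
          apply hne
          rw [h0, norm_zero]
          norm_num
      _ ≤ ∑ _g ∈ K, ‖(χ : G → ℂ) 1‖ ^ 2 := by
          apply Finset.sum_le_sum
          intro g _
          have := norm_le_degree (isCharacter_of_isIrrCharacter χ.2) g
          exact pow_le_pow_left₀ (norm_nonneg _) this 2
      _ = K.card * ‖(χ : G → ℂ) 1‖ ^ 2 := by
          rw [Finset.sum_const, nsmul_eq_mul]
  -- `|K| * |B| = |G|`
  have hKB : (K.card : ℂ) * (Fintype.card B : ℂ) = (Fintype.card G : ℂ) := by
    have e1 : ∑ μ : B, ∑ g : G, fn (μ : G →* ℂˣ) g = (Fintype.card G : ℂ) := by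
      have : ∀ μ : B, ∑ g : G, fn (μ : G →* ℂˣ) g =
          if μ = 1 then (Fintype.card G : ℂ) else 0 := by
        intro μ
        have h := sum_hom_units ((Units.coeHom ℂ).comp (μ : G →* ℂˣ))
        have hiff : ((Units.coeHom ℂ).comp (μ : G →* ℂˣ) = 1) ↔ μ = 1 := by
          constructor
          · intro h1
            apply Subtype.ext
            ext g
            have := DFunLike.congr_fun h1 g
            simpa using this
          · intro h1
            rw [h1]
            ext g
            simp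
        by_cases hμ : μ = 1
        · rw [if_pos hμ]
          rw [if_pos (hiff.mpr hμ)] at h
          exact h
        · rw [if_neg hμ]
          rw [if_neg (fun h1 => hμ (hiff.mp h1)), Nat.cast_zero] at h
          exact h
      rw [Finset.sum_congr rfl (fun μ _ => this μ)]
      rw [Finset.sum_ite_eq' Finset.univ (1 : B)]
      simp
    have e2 : ∑ g : G, ∑ μ : B, fn (μ : G →* ℂˣ) g = (K.card : ℂ) * (Fintype.card B : ℂ) := by
      have : ∀ g : G, ∑ μ : B, fn (μ : G →* ℂˣ) g =
          if g ∈ K then (Fintype.card B : ℂ) else 0 := by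
        intro g
        let ev : B →* ℂ := (Units.coeHom ℂ).comp ((MonoidHom.eval g).comp B.subtype)
        have hev : ∀ μ : B, ev μ = fn (μ : G →* ℂˣ) g := fun μ => rfl
        have h := sum_hom_units ev
        have hiff : (ev = 1) ↔ g ∈ K := by
          rw [hK, Finset.mem_filter]
          constructor
          · intro h1
            refine ⟨Finset.mem_univ _, fun μ hμ => ?_⟩
            have := DFunLike.congr_fun h1 ⟨μ, hμ⟩
            rw [hev] at this
            apply Units.ext
            simpa [fn_apply] using this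
          · rintro ⟨-, h1⟩
            ext μ
            rw [hev, fn_apply, h1 μ μ.2]
            simp
        rw [Finset.sum_congr rfl (fun μ _ => (hev μ).symm)]
        by_cases hg : g ∈ K
        · rw [if_pos hg]
          rw [if_pos (hiff.mpr hg)] at h
          exact h
        · rw [if_neg hg]
          rw [if_neg (fun h1 => hg (hiff.mp h1)), Nat.cast_zero] at h
          exact h
      rw [Finset.sum_congr rfl (fun g _ => this g)]
      rw [← Finset.sum_filter]
      rw [Finset.sum_const, nsmul_eq_mul]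
      congr 2
      apply congrArg Finset.card
      ext g
      simp
    rw [← e2, Finset.sum_comm, e1]
  have hKB' : (K.card : ℝ) * (Fintype.card B : ℝ) = (Fintype.card G : ℝ) := by exact_mod_cast hKB
  have hKpos : 0 < (K.card : ℝ) := by
    rcases Nat.eq_zero_or_pos K.card with h0 | h0
    · exfalso
      rw [h0] at hKB'
      have hpos : (0 : ℝ) < (Fintype.card G : ℝ) := by exact_mod_cast Fintype.card_pos
      rw [← hKB'] at hpos
      simp at hpos
    · exact_mod_cast h0
  rw [Nat.card_eq_fintype_card]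
  rw [← hKB'] at hle
  exact le_of_mul_le_mul_left hle hKpos

end Cfsg.Agent.Lib.Helper4.LinAct
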