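import Mathlib

/-!
# Orbit counting for an action given by a family of maps, and a fixed-point lemma for commuting maps

* `card_quot_mul_card`: Burnside's lemma for the quotient of a finite type by the orbit relation
  of an "action" presented as a function `act : G → S → S`.
* `fixed_comp_iff`: if `c` is an involution commuting with `a` and `a` has odd order, then the
  fixed points of `c ∘ a` are the common fixed points of `c` and `a`.
-/

namespace Cfsg.Agent.Lib.Helper4.OrbitCount

/-- **Burnside's lemma** for an action presented by a function. -/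
theorem card_quot_mul_card {G S : Type*} [Group G] [Fintype G] [Finite S]
    (act : G → S → S) (h1 : ∀ s, act 1 s = s) (hmul : ∀ g h s, act (g * h) s = act g (act h s)) :
    Nat.card (Quot (fun s t : S => ∃ g : G, t = act g s)) * Nat.card G
      = ∑ g : G, Nat.card {s : S // act g s = s} := by
  classical
  letI : Fintype S := Fintype.ofFinite S
  letI : MulAction G S := { smul := act, one_smul := h1, mul_smul := hmul }
  have hsmul : ∀ (g : G) (s : S), g • s = act g s := fun _ _ => rfl
  letI : Fintype (MulAction.orbitRel.Quotient G S) := Fintype.ofFinite _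
  have hb := MulAction.sum_card_fixedBy_eq_card_orbits_mul_card_group G S
  have hq : Nat.card (Quot (fun s t : S => ∃ g : G, t = act g s))
      = Fintype.card (MulAction.orbitRel.Quotient G S) := by
    rw [← Nat.card_eq_fintype_card]
    apply Nat.card_congr
    apply Quot.congrRight
    intro s t
    show (∃ g : G, t = act g s) ↔ s ∈ MulAction.orbit G t
    rw [MulAction.mem_orbit_iff]
    constructor
    · rintro ⟨g, rfl⟩
      refine ⟨g⁻¹, ?_⟩
      rw [hsmul, ← hmul, inv_mul_cancel, h1]
    · rintro ⟨g, rfl⟩
      refine ⟨g⁻¹, ?_⟩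
      rw [hsmul, ← hmul, inv_mul_cancel, h1]
  rw [hq, Nat.card_eq_fintype_card, ← hb]
  apply Finset.sum_congr rfl
  intro g _
  rw [← Nat.card_eq_fintype_card]
  rfl


/-- The orbit relation of an action presented by a function is an equivalence relation. -/
theorem equivalence_orbit {G S : Type*} [Group G]
    (act : G → S → S) (h1 : ∀ s, act 1 s = s) (hmul : ∀ g h s, act (g * h) s = act g (act h s)) :
    Equivalence (fun s t : S => ∃ g : G, t = act g s) := by
  refine ⟨fun s => ⟨1, (h1 s).symm⟩, ?_, ?_⟩
  · rintro s t ⟨g, rfl⟩
    exact ⟨g⁻¹, by rw [← hmul, inv_mul_cancel, h1]⟩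
  · rintro s t u ⟨g, rfl⟩ ⟨h, rfl⟩
    exact ⟨h * g, by rw [hmul]⟩

/-- If the involution `c` commutes with `a` and `a` has odd order, the fixed points of `c ∘ a` are
the common fixed points. -/
theorem fixed_comp_iff {S : Type*} (c a : S → S) (hc : Function.Involutive c)
    (hca : ∀ s, c (a s) = a (c s)) (m : ℕ) (hm : Odd m) (ham : ∀ s, a^[m] s = s) (s : S) :
    c (a s) = s ↔ c s = s ∧ a s = s := by
  constructor
  · intro h
    have hcomm : Function.Commute c a := hca
    have h1 : (c ∘ a)^[m] s = s := Function.iterate_fixed h m
    rw [hcomm.comp_iterate, Function.comp_apply, ham, hc.iterate_odd hm] at h1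
    refine ⟨h1, ?_⟩
    have h2 : c (c (a s)) = c s := by rw [h]
    rw [hc (a s), h1] at h2
    exact h2
  · rintro ⟨h1, h2⟩
    rw [h2, h1]

end Cfsg.Agent.Lib.Helper4.OrbitCount
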