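import Mathlib
import Cfsg.Prelude.Def_Characters
import Cfsg.Prelude.Def_Blocks
import Cfsg.Agent.Lib.helper3.Clifford2
import Cfsg.Agent.Lib.helper3.RealOdd3
import Cfsg.Agent.Lib.helper3.Pdeg2
import Cfsg.Agent.Lib.Helper8.GS1

/-!
# S4864, part 1: a real character of a normal subgroup of odd index has a `P`-invariant conjugate
-/

set_option autoImplicit false
set_option linter.style.haveILetI false
set_option linter.unusedSectionVars false
set_option linter.unusedVariables false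

namespace Cfsg.Agent.Lib.Helper4.RealNorm

open Cfsg Cfsg.Agent.Lib.helper3.Irr Cfsg.Agent.Lib.helper3.CharBasic
open Cfsg.Agent.Lib.Helper4.FS
open scoped ComplexConjugate

universe u

variable {G : Type u} [Group G]

/-- The size of the orbit of a constituent divides the degree. -/
theorem orbit_ncard_dvd [Fintype G] (N : Subgroup G) [hN : N.Normal] [Fintype N]
    (χ : G → ℂ) (hχ : IsIrrCharacter G χ) (θ : N → ℂ) (hθ : IsIrrCharacter N θ)
    (hcon : classInner (fun n : N => χ n) θ ≠ 0) (dχ : ℕ) (hdχ : χ 1 = dχ) :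
    (Set.range (conjFun N θ)).ncard ∣ dχ := by
  classical
  obtain ⟨dθ, hdθ, -, -⟩ := Cfsg.Agent.Lib.helper3.Central.irr_degree_dvd_card hθ
  have h := clifford N χ hχ θ hθ hcon
  rw [setOf_conj_eq, finsum_mem_coe_finset] at h
  have hres := isCharacter_restrict (isCharacter_of_isIrrCharacter hχ) N
  obtain ⟨c, hc⟩ := exists_nat_classInner_of_isCharacter hres ⟨θ, hθ⟩
  simp only at hc
  have h1 := congrFun h 1
  rw [hc, Pi.smul_apply, Finset.sum_apply] at h1
  have h2 : ∀ ψ ∈ Finset.univ.image (conjFun N θ), ψ 1 = (dθ : ℂ) := by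
    intro ψ hψ
    obtain ⟨g, -, rfl⟩ := Finset.mem_image.mp hψ
    unfold conjFun
    rw [← hdθ]
    congr 1
    apply Subtype.ext
    simp
  rw [Finset.sum_congr rfl h2, Finset.sum_const, smul_eq_mul, nsmul_eq_mul] at h1
  have h3 : χ ((1 : N) : G) = (dχ : ℂ) := hdχ
  rw [h3] at h1
  have h4 : dχ = c * ((Finset.univ.image (conjFun N θ)).card * dθ) := by exact_mod_cast h1
  have h5 : Set.range (conjFun N θ) = ↑(Finset.univ.image (conjFun N θ)) := by
    ext ψ
    simp
  rw [h5, Set.ncard_coe_finset, h4]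
  exact ⟨c * dθ, by ring⟩

/-- The (left) action of `G` on functions on a normal subgroup. -/
@[reducible] def conjAct (K : Subgroup G) [hK : K.Normal] : MulAction G (↥K → ℂ) where
  smul g f := conjFun K f g⁻¹
  one_smul f := by
    show conjFun K f (1 : G)⁻¹ = f
    rw [inv_one, conjFun_one]
  mul_smul g h f := by
    show conjFun K f (g * h)⁻¹ = conjFun K (conjFun K f h⁻¹) g⁻¹
    rw [conjFun_mul, mul_inv_rev]

/-- A constituent of the restriction of a character of `p'`-degree has a `P`-invariant conjugate. -/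
theorem exists_pinv_conj [Fintype G] (p : ℕ) [hp : Fact p.Prime] (K : Subgroup G) [hK : K.Normal]
    [Fintype K] (P : Sylow p G) (χ : IrrCharacter G) (hχ : ¬ p ∣ charDegree (χ : G → ℂ))
    (θ : IrrCharacter K) (hcon : classInner (fun n : K => (χ : G → ℂ) n) (θ : K → ℂ) ≠ 0) :
    ∃ g : G, ∀ u ∈ (P : Subgroup G),
      conjFun K (conjFun K (θ : K → ℂ) g) u = conjFun K (θ : K → ℂ) g := by
  classical
  obtain ⟨dχ, hdχ, -, -⟩ := Cfsg.Agent.Lib.helper3.Central.irr_degree_dvd_card χ.2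
  rw [Cfsg.Agent.Lib.helper3.Pdeg.charDegree_eq' hdχ] at hχ
  have hdvd := orbit_ncard_dvd K (χ : G → ℂ) χ.2 (θ : K → ℂ) θ.2 hcon dχ hdχ
  have hcard : ¬ p ∣ (Set.range (conjFun K (θ : K → ℂ))).ncard := fun h => hχ (h.trans hdvd)
  letI := conjAct K
  obtain ⟨a, ⟨g, rfl⟩, hfix⟩ := Cfsg.Agent.Lib.Helper8.GS.exists_fixed_of_not_dvd p
    (P : Subgroup G) P.isPGroup' (Set.range (conjFun K (θ : K → ℂ))) (Set.finite_range _)
    (by
      rintro x hx a ⟨g, rfl⟩
      refine ⟨g * x⁻¹, ?_⟩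
      show conjFun K (θ : K → ℂ) (g * x⁻¹) = conjFun K (conjFun K (θ : K → ℂ) g) x⁻¹
      rw [conjFun_mul]) hcard
  refine ⟨g, fun u hu => ?_⟩
  have := hfix u⁻¹ (Subgroup.inv_mem _ hu)
  have h2 : conjFun K (conjFun K (θ : K → ℂ) g) (u⁻¹)⁻¹ = conjFun K (θ : K → ℂ) g := this
  rwa [inv_inv] at h2

/-- A real irreducible character of a normal subgroup of odd index has a `P`-invariant conjugate,
if all real irreducible characters of the group have degree prime to `p`. -/
theorem exists_pinv_conj_of_real [Fintype G] (p : ℕ) [hp : Fact p.Prime] (K : Subgroup G)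
    [hK : K.Normal] [Fintype K] (hodd : Odd K.index)
    (hreal : ∀ χ : IrrCharacter G, (∀ g, ((χ : G → ℂ) g).im = 0) →
      ¬ p ∣ charDegree (χ : G → ℂ))
    (P : Sylow p G) (θ : IrrCharacter K) (hθ : ∀ k, ((θ : K → ℂ) k).im = 0) :
    ∃ g : G, ∀ u ∈ (P : Subgroup G),
      conjFun K (conjFun K (θ : K → ℂ) g) u = conjFun K (θ : K → ℂ) g := by
  obtain ⟨χ, hfs, hcon⟩ := Cfsg.Agent.Lib.helper3.RealOdd.exists_real_over K hodd θ hθ
  have hχr : ∀ g : G, ((χ : G → ℂ) g).im = 0 := by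
    have := real_of_fsInd_ne_zero χ.2 hfs
    exact fun g => Complex.conj_eq_iff_im.mp (this g)
  exact exists_pinv_conj p K P χ (hreal χ hχr) θ hcon

end Cfsg.Agent.Lib.Helper4.RealNorm
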