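import Mathlib
import Cfsg.Agent.H1.OddCount0
import Cfsg.Agent.Lib.helper3.Ito
import Cfsg.Agent.Lib.helper3.BLConst
import Cfsg.Agent.Lib.helper3.RealOdd1
import Cfsg.Agent.Lib.helper3.Clifford2
import Cfsg.Agent.Lib.helper3.Pdeg2
import Cfsg.Agent.Lib.Helper4.RealNorm1
import Cfsg.Agent.Lib.Helper8.IN7

/-!
# S4581, Claim C'', piece (d): the unique good extension under an odd character, even factor
-/

set_option autoImplicit false
set_option linter.style.haveILetI false
set_option linter.unusedSectionVars false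
set_option linter.unusedVariables false

namespace Cfsg.Agent.Lib.Helper4.OddCnt

open Cfsg Cfsg.Agent.H1.OddCount
open Cfsg.Agent.Lib.helper3.Irr Cfsg.Agent.Lib.helper3.CharBasic Cfsg.Agent.Lib.helper3.IndFun
open Cfsg.Agent.Lib.helper3.Lin Cfsg.Agent.Lib.Helper4.RealNorm
open Module
open scoped Classical ComplexConjugate

universe u

variable {G : Type u} [Group G] [Fintype G]

/-- An odd-degree irreducible character over the `G`-invariant `α` has a `P`-invariant
irreducible constituent on `B` lying over `α`. -/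
theorem exists_pinv_constituent_over (P : Sylow 2 G) (A : Subgroup G) (α : A → ℂ) (hA : A.Normal)
    (hinv : InvUnder ⊤ A α) (B : Subgroup G) (hB : B.Normal)
    (hAB : A ≤ B) (χ : IrrCharacter G) (hχ : Odd (charDegree (χ : G → ℂ)))
    (hover : Over A α (χ : G → ℂ)) :
    ∃ β : B → ℂ, IsIrrCharacter B β ∧ Over B β (χ : G → ℂ) ∧ InvUnder (P : Subgroup G) B β ∧
      classInner (fun a : A => β ⟨a, hAB a.2⟩) α ≠ 0 := by
  haveI := hA
  haveI := hB
  haveI : Fact (Nat.Prime 2) := ⟨Nat.prime_two⟩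
  have hχc := isCharacter_of_isIrrCharacter χ.2
  have hcf := isClassFunction_of_isCharacter hχc
  have hresB : IsCharacter ↥B (fun b : B => (χ : G → ℂ) b) := isCharacter_restrict hχc B
  have hne : classInner
      (fun a : A => (fun b : B => (χ : G → ℂ) b) (Subgroup.inclusion hAB a)) α ≠ 0 := hover
  obtain ⟨ψ, hψ1, hψ2⟩ := Cfsg.Agent.Lib.helper3.BLConst.exists_constituent_of_comp_ne_zero
    (Subgroup.inclusion hAB) hresB α hne
  have hχ2 : ¬ 2 ∣ charDegree (χ : G → ℂ) := by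
    intro h2
    exact (Nat.not_even_iff_odd.mpr hχ) (even_iff_two_dvd.mpr h2)
  obtain ⟨g, hg⟩ := exists_pinv_conj 2 B P χ hχ2 ψ hψ1
  refine ⟨conjFun B (ψ : B → ℂ) g, isIrrCharacter_conjFun B ψ.2 g, ?_, ?_, ?_⟩
  · show classInner (fun b : B => (χ : G → ℂ) b) (conjFun B (ψ : B → ℂ) g) ≠ 0
    have e : (fun n : B => (χ : G → ℂ) n) = conjFun B (fun n : B => (χ : G → ℂ) n) g := by
      funext n
      unfold conjFun
      exact (hcf (n : G) g).symm
    rw [e, conjFun_eq_comp, conjFun_eq_comp]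
    have key := classInner_comp_mulEquiv (MulAut.conjNormal g : ↥B ≃* ↥B)
      (fun n : B => (χ : G → ℂ) n) (ψ : B → ℂ)
    intro h0
    apply hψ1
    rw [← key]
    exact h0
  · intro u hu b hb
    have := congrFun (hg u hu) b
    exact this
  · have key := classInner_comp_mulEquiv (MulAut.conjNormal g : ↥A ≃* ↥A)
      (fun a' : A => (ψ : B → ℂ) (Subgroup.inclusion hAB a')) α
    have e1 : (fun a : A => conjFun B (ψ : B → ℂ) g ⟨a, hAB a.2⟩)
        = fun a : A => (fun a' : A => (ψ : B → ℂ) (Subgroup.inclusion hAB a'))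
          ((MulAut.conjNormal g : ↥A ≃* ↥A) a) := by
      funext a
      unfold conjFun
      congr 1
    have e2 : α = fun a : A => α ((MulAut.conjNormal g : ↥A ≃* ↥A) a) := by
      funext a
      have h1 := hinv g (Subgroup.mem_top g) a (hA.conj_mem a a.2 g)
      rw [← h1]
      congr 1
    have e3 : classInner (fun a : A => conjFun B (ψ : B → ℂ) g ⟨a, hAB a.2⟩) α
        = classInner (fun a : A => (fun a' : A => (ψ : B → ℂ) (Subgroup.inclusion hAB a'))
          ((MulAut.conjNormal g : ↥A ≃* ↥A) a))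
          (fun a : A => α ((MulAut.conjNormal g : ↥A ≃* ↥A) a)) := by
      rw [← e1, ← e2]
    rw [e3, key]
    exact hψ2

/-- Two `P`-invariant irreducible constituents of `χ` on `B` coincide when `P` is
self-normalising. -/
theorem unique_pinv_constituent (P : Sylow 2 G)
    (hself : Subgroup.normalizer ((P : Subgroup G) : Set G) = (P : Subgroup G))
    (B : Subgroup G) (hB : B.Normal) (χ : IrrCharacter G) (β₁ β₂ : B → ℂ)
    (h₁ : IsIrrCharacter B β₁) (h₂ : IsIrrCharacter B β₂)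
    (o₁ : Over B β₁ (χ : G → ℂ)) (o₂ : Over B β₂ (χ : G → ℂ))
    (i₁ : InvUnder (P : Subgroup G) B β₁) (i₂ : InvUnder (P : Subgroup G) B β₂) : β₁ = β₂ := by
  haveI := hB
  haveI : Fact (Nat.Prime 2) := ⟨Nat.prime_two⟩
  obtain ⟨x, hx⟩ := Cfsg.Agent.Lib.helper3.RealOdd.exists_conj_of_constituents B χ
    ⟨β₁, h₁⟩ ⟨β₂, h₂⟩ o₁ o₂
  have hx' : β₂ = conjFun B β₁ x := hx
  letI := conjAct B
  have hsm : ∀ (y : G) (f : ↥B → ℂ), y • f = conjFun B f y⁻¹ := fun _ _ => rfl
  have ha : ∀ y ∈ (P : Subgroup G), y • β₁ = β₁ := by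
    intro y hy
    rw [hsm]
    funext b
    exact i₁ y⁻¹ (inv_mem hy) b _
  have hxb : x⁻¹ • β₁ = β₂ := by
    rw [hsm, inv_inv]
    exact hx'.symm
  have hga : ∀ y ∈ (P : Subgroup G), y • (x⁻¹ • β₁) = x⁻¹ • β₁ := by
    intro y hy
    rw [hxb, hsm]
    funext b
    exact i₂ y⁻¹ (inv_mem hy) b _
  obtain ⟨n, hn, hnβ⟩ := Cfsg.Agent.Lib.Helper8.IN.exists_normalizer_smul_eq P β₁ x⁻¹ ha hga
  rw [hself] at hn
  rw [ha n hn, hxb] at hnβ
  exact hnβ

/-- An odd-degree irreducible character of `B` over the invariant linear character `α` of `A`,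
with `B/A` an elementary abelian `2`-group, is a linear extension of `α`. -/
theorem linear_of_two_factor (A : Subgroup G) (α : A → ℂ) (hA : A.Normal)
    (hirr : IsIrrCharacter A α) (hlin : α 1 = 1) (hinv : InvUnder ⊤ A α) (B : Subgroup G)
    (hf : ElemFactor A B 2) (β : B → ℂ) (hβ : IsIrrCharacter B β)
    (hcon : classInner (fun a : A => β ⟨a, hf.1 a.2⟩) α ≠ 0) (d : ℕ) (hd : β 1 = d)
    (hodd : Odd d) : β 1 = 1 ∧ Agree B A α β := by
  have hAB := hf.1
  haveI := hA
  haveI : Fact (Nat.Prime 2) := ⟨Nat.prime_two⟩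
  haveI hAn : (A.subgroupOf B).Normal := inferInstance
  have hαc := isCharacter_of_isIrrCharacter hirr
  have hα' : IsIrrCharacter (A.subgroupOf B) (subFun A B α) := isIrrCharacter_subFun hAB hirr
  have hcon' : classInner (fun n : A.subgroupOf B => β n) (subFun A B α) ≠ 0 := by
    have h2 : (fun x : A.subgroupOf B => β (x : B))
        = subFun A B (fun a : A => β ⟨(a : G), hAB a.2⟩) := rfl
    rw [h2, classInner_subFun hAB]
    exact hcon
  have hinv' : ∀ (t : B) (n : A.subgroupOf B),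
      subFun A B α ⟨t * n * t⁻¹, hAn.conj_mem (n : B) n.2 t⟩ = subFun A B α n := by
    intro t n
    exact hinv (t : G) (Subgroup.mem_top _) ⟨((n : B) : G), Subgroup.mem_subgroupOf.mp n.2⟩ _
  have hres' := restrict_eq_smul_of_invariant (A.subgroupOf B) β hβ _ hα' hcon' hinv'
  have hα1' : subFun A B α 1 = 1 := hlin
  have h4 := congrFun hres' 1
  simp only [Pi.smul_apply, smul_eq_mul] at h4
  rw [hα1', mul_one] at h4
  have h4' : β 1 = classInner (fun n : A.subgroupOf B => β n) (subFun A B α) := h4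
  -- the degree divides the index
  have hβ' := hβ
  obtain ⟨n, σ, hσirr, hσβ⟩ := hβ'
  haveI := hσirr
  have hβ1 : β 1 = (finrank ℂ (Fin n → ℂ) : ℂ) := by
    rw [← hσβ, Representation.char_one]
  have hscal : ∀ a ∈ A.subgroupOf B, ∃ c : ℂ, σ a = c • LinearMap.id := by
    intro a ha
    rw [← norm_character_eq_finrank_iff, hσβ]
    have h3 := congrFun hres' ⟨a, ha⟩
    simp only [Pi.smul_apply, smul_eq_mul] at h3
    rw [← h4'] at h3
    have h6 : β a = β 1 * subFun A B α ⟨a, ha⟩ := h3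
    have h7 : ‖subFun A B α ⟨a, ha⟩‖ = 1 := by
      set b : A := ⟨(a : G), Subgroup.mem_subgroupOf.mp ha⟩ with hb
      have : α b ^ orderOf b = 1 :=
        pow_eq_one_of_linear hαc hlin b (orderOf b) (pow_orderOf_eq_one b)
      exact norm_eq_one_of_pow_eq_one (orderOf_pos b) this
    rw [h6, norm_mul, h7, mul_one, hβ1]
    simp
  have hdvd := Cfsg.Agent.Lib.helper3.Central.finrank_dvd_index_of_scalar σ (A.subgroupOf B) hscal
  -- the index is a power of two
  have hP2 : IsPGroup 2 (↥B ⧸ A.subgroupOf B) := by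
    intro q
    obtain ⟨b, rfl⟩ := QuotientGroup.mk_surjective q
    refine ⟨1, ?_⟩
    rw [pow_one, ← QuotientGroup.mk_pow, QuotientGroup.eq_one_iff, Subgroup.mem_subgroupOf]
    exact hf.2.2 b b.2
  obtain ⟨k, hk⟩ := IsPGroup.exists_card_eq hP2
  have hidx : (A.subgroupOf B).index = 2 ^ k := by
    rw [Subgroup.index_eq_card, hk]
  rw [hidx] at hdvd
  have hdn : d = finrank ℂ (Fin n → ℂ) := by
    have : (d : ℂ) = (finrank ℂ (Fin n → ℂ) : ℂ) := by rw [← hd, hβ1]
    exact_mod_cast this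
  rw [← hdn] at hdvd
  have hd1 : d = 1 := by
    apply Nat.Coprime.eq_one_of_dvd _ hdvd
    exact Nat.Coprime.pow_right k (Nat.coprime_two_right.mpr hodd)
  have hβ11 : β 1 = 1 := by rw [hd, hd1]; simp
  refine ⟨hβ11, ?_⟩
  intro a ha
  have h3 := congrFun hres' ⟨⟨(a : G), ha⟩, Subgroup.mem_subgroupOf.mpr a.2⟩
  simp only [Pi.smul_apply, smul_eq_mul] at h3
  rw [← h4', hβ11, one_mul] at h3
  exact h3

/-- **Piece (d)**: the unique good extension lying under an odd-degree character, for an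
elementary abelian `2`-factor. -/
theorem existsUnique_good_over_even (P : Sylow 2 G) (A : Subgroup G) (α : A → ℂ)
    (h : Datum P A α) (hinv : InvUnder ⊤ A α) (B : Subgroup G) (hB : B.Normal)
    (hf : ElemFactor A B 2) (χ : IrrCharacter G) (hχ : Odd (charDegree (χ : G → ℂ)))
    (hover : Over A α (χ : G → ℂ)) :
    ∃! β : B → ℂ, Good P A B α β ∧ Over B β (χ : G → ℂ) := by
  haveI := hB
  obtain ⟨β, hβirr, hβover, hβinv, hβα⟩ :=
    exists_pinv_constituent_over P A α h.normal hinv B hB hf.1 χ hχ hover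
  obtain ⟨dβ, hdβ, -, -⟩ := Cfsg.Agent.Lib.helper3.Central.irr_degree_dvd_card hβirr
  obtain ⟨dχ, hdχ, -, -⟩ := Cfsg.Agent.Lib.helper3.Central.irr_degree_dvd_card χ.2
  have hdvd := constituent_degree_dvd B (χ : G → ℂ) χ.2 β hβirr hβover dχ dβ hdχ hdβ
  have hdχodd : Odd dχ := by
    rwa [Cfsg.Agent.Lib.helper3.Pdeg.charDegree_eq' hdχ] at hχ
  have hdβodd : Odd dβ := Odd.of_dvd_nat hdχodd hdvd
  obtain ⟨hβ1, hagree⟩ :=
    linear_of_two_factor A α h.normal h.irr h.lin hinv B hf β hβirr hβα dβ hdβ hdβodd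
  have hβc := isCharacter_of_isIrrCharacter hβirr
  have hpow : ∀ b : B, ∃ k : ℕ, β b ^ 2 ^ k = 1 := by
    intro b
    have hb2 : (b : G) ^ 2 ∈ A := hf.2.2 b b.2
    obtain ⟨k, hk⟩ := h.pow2 ⟨(b : G) ^ 2, hb2⟩
    refine ⟨k + 1, ?_⟩
    have e1 : β b ^ 2 = β (b ^ 2) := by
      rw [pow_two, pow_two, map_mul_of_apply_one_eq_one hβc hβ1]
    have e2 : β (b ^ 2) = α ⟨(b : G) ^ 2, hb2⟩ :=
      hagree ⟨(b : G) ^ 2, hb2⟩ (b ^ 2).2
    rw [pow_succ', pow_mul, e1, e2, hk]
  have hgood : Good P A B α β := ⟨hβirr, hβ1, hagree, hβinv, hpow⟩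
  refine ⟨β, ⟨hgood, hβover⟩, ?_⟩
  rintro β' ⟨hg', ho'⟩
  exact (unique_pinv_constituent P h.selfNorm B hB χ β β' hβirr hg'.1 hβover ho' hβinv
    hg'.2.2.2.1).symm

end Cfsg.Agent.Lib.Helper4.OddCnt
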