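import Mathlib
import Cfsg.Agent.H1.RecGL23Defs

/-!
# S3304, piece (P-R)/(A3): `step2` (helper4, for helper1's split)
-/

set_option autoImplicit false

namespace Cfsg.Agent.H1.RecGL23

variable {X : Type*} [Group X]

namespace A3

/-- basic consequences of `Q8F`. -/
theorem ji' {Q : Subgroup X} {i j : X} (hq : Q8F Q i j) : j * i = i⁻¹ * j := by
  calc j * i = (j * i * j⁻¹) * j := by group
    _ = i⁻¹ * j := by rw [hq.ji]

theorem i4' {Q : Subgroup X} {i j : X} (hq : Q8F Q i j) : i * i * i * i = 1 := by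
  have := hq.i4
  calc i * i * i * i = i ^ 4 := by simp only [pow_succ, pow_zero, one_mul, mul_assoc]
    _ = 1 := this

theorem j2' {Q : Subgroup X} {i j : X} (hq : Q8F Q i j) : j * j = i * i := by
  have := hq.j2
  rwa [pow_two, pow_two] at this

theorem ii_ne {Q : Subgroup X} {i j : X} (hq : Q8F Q i j) : i * i ≠ 1 := by
  have := hq.i2
  rwa [pow_two] at this

theorem iji {Q : Subgroup X} {i j : X} (hq : Q8F Q i j) : i * j * i⁻¹ = j⁻¹ := by
  have h : i * j * i⁻¹ * j = 1 := by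
    calc i * j * i⁻¹ * j = i * j * (i⁻¹ * j) := by group
      _ = i * j * (j * i) := by rw [ji' hq]
      _ = i * (j * j) * i := by group
      _ = i * (i * i) * i := by rw [j2' hq]
      _ = i * i * i * i := by group
      _ = 1 := i4' hq
  exact eq_inv_of_mul_eq_one_left h

theorem ki {Q : Subgroup X} {i j : X} (hq : Q8F Q i j) : (i * j) * i * (i * j)⁻¹ = i⁻¹ := by
  calc (i * j) * i * (i * j)⁻¹ = i * (j * i * j⁻¹) * i⁻¹ := by group
    _ = i * i⁻¹ * i⁻¹ := by rw [hq.ji]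
    _ = i⁻¹ := by group

theorem kj {Q : Subgroup X} {i j : X} (hq : Q8F Q i j) : (i * j) * j * (i * j)⁻¹ = j⁻¹ := by
  calc (i * j) * j * (i * j)⁻¹ = i * j * i⁻¹ := by group
    _ = j⁻¹ := iji hq

theorem ij_ne_ji {Q : Subgroup X} {i j : X} (hq : Q8F Q i j) : j * i ≠ i * j := by
  intro h
  rw [ji' hq] at h
  have h1 : i⁻¹ = i := mul_right_cancel h
  apply ii_ne hq
  calc i * i = i⁻¹ * i := by rw [h1]
    _ = 1 := inv_mul_cancel i

theorem j_ne_i {Q : Subgroup X} {i j : X} (hq : Q8F Q i j) : j ≠ i := by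
  intro h
  apply ij_ne_ji hq
  rw [h]

theorem j_ne_i_inv {Q : Subgroup X} {i j : X} (hq : Q8F Q i j) : j ≠ i⁻¹ := by
  intro h
  apply ij_ne_ji hq
  rw [h]
  group

theorem jjjj {Q : Subgroup X} {i j : X} (hq : Q8F Q i j) : j * j * j * j = 1 := by
  calc j * j * j * j = (j * j) * (j * j) := by group
    _ = (i * i) * (i * i) := by rw [j2' hq]
    _ = i * i * i * i := by group
    _ = 1 := i4' hq

/-- the six elements of `Q` whose square is not `1`. -/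
theorem six {Q : Subgroup X} {i j : X} (hq : Q8F Q i j) (q : X) (hqQ : q ∈ Q) (hq2 : q * q ≠ 1) :
    q = i ∨ q = i⁻¹ ∨ q = j ∨ q = j⁻¹ ∨ q = i * j ∨ q = (i * j)⁻¹ := by
  obtain ⟨a, b, rfl⟩ := hq.span q hqQ
  have h4 := i4' hq
  have hj2 := j2' hq
  have hji := ji' hq
  fin_cases a <;> fin_cases b
  · exfalso; apply hq2; simp
  · right; right; left; simp
  · left; simp
  · right; right; right; right; left; simp
  · exfalso; apply hq2
    simp only [pow_zero, mul_one]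
    calc i ^ ((2 : Fin 4) : ℕ) * i ^ ((2 : Fin 4) : ℕ) = i * i * i * i := by
          show i ^ 2 * i ^ 2 = _
          simp only [pow_succ, pow_zero, one_mul, mul_assoc]
      _ = 1 := h4
  · right; right; right; left
    symm
    apply inv_eq_of_mul_eq_one_right
    show j * (i ^ 2 * j ^ 1) = 1
    calc j * (i ^ 2 * j ^ 1) = j * (i * i) * j := by simp only [pow_succ, pow_zero, one_mul, mul_assoc]
      _ = j * (j * j) * j := by rw [hj2]
      _ = j * j * j * j := by group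
      _ = 1 := jjjj hq
  · right; left
    symm
    apply inv_eq_of_mul_eq_one_right
    show i * (i ^ 3 * j ^ 0) = 1
    calc i * (i ^ 3 * j ^ 0) = i * i * i * i := by simp only [pow_succ, pow_zero, one_mul, mul_one, mul_assoc]
      _ = 1 := h4
  · right; right; right; right; right
    symm
    apply inv_eq_of_mul_eq_one_right
    show (i * j) * (i ^ 3 * j ^ 1) = 1
    calc (i * j) * (i ^ 3 * j ^ 1) = i * (j * i) * i * i * j := by simp only [pow_succ, pow_zero, one_mul, mul_assoc]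
      _ = i * (i⁻¹ * j) * i * i * j := by rw [hji]
      _ = (j * i) * i * j := by group
      _ = (i⁻¹ * j) * i * j := by rw [hji]
      _ = i⁻¹ * (j * i) * j := by group
      _ = i⁻¹ * (i⁻¹ * j) * j := by rw [hji]
      _ = i⁻¹ * i⁻¹ * (j * j) := by group
      _ = i⁻¹ * i⁻¹ * (i * i) := by rw [hj2]
      _ = 1 := by group

/-- the centre of `Q`. -/
theorem center {Q : Subgroup X} {i j : X} (hq : Q8F Q i j) (q : X) (hqQ : q ∈ Q)
    (hqi : q * i = i * q) (hqj : q * j = j * q) : q = 1 ∨ q = i * i := by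
  obtain ⟨a, b, rfl⟩ := hq.span q hqQ
  have hne := ij_ne_ji hq
  -- `b = 1` is impossible, `a` odd is impossible
  have hb1 : ∀ n : ℕ, i ^ n * j ^ 1 * i = i * (i ^ n * j ^ 1) → False := by
    intro n h
    apply hne
    have h2 : i ^ n * (j * i) = i ^ n * (i * j) := by
      calc i ^ n * (j * i) = i ^ n * j ^ 1 * i := by rw [pow_one]; group
        _ = i * (i ^ n * j ^ 1) := h
        _ = i ^ n * (i * j) := by
          rw [pow_one, ← mul_assoc, ← mul_assoc, ← pow_succ', ← pow_succ]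
    exact mul_left_cancel h2
  fin_cases a <;> fin_cases b
  · left; simp
  · exact absurd hqi (fun h => hb1 0 h)
  · exfalso
    apply hne
    have : i * j = j * i := by simpa using hqj
    exact this.symm
  · exact absurd hqi (fun h => hb1 1 h)
  · right
    show i ^ 2 * j ^ 0 = i * i
    simp only [pow_succ, pow_zero, one_mul, mul_one]
  · exact absurd hqi (fun h => hb1 2 h)
  · exfalso
    apply hne
    have h3 : i ^ 3 * j = j * i ^ 3 := by simpa using hqj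
    have hi3 : i ^ 3 = i⁻¹ := by
      symm
      apply inv_eq_of_mul_eq_one_right
      calc i * i ^ 3 = i * i * i * i := by simp only [pow_succ, pow_zero, one_mul, mul_assoc]
        _ = 1 := i4' hq
    rw [hi3] at h3
    calc j * i = i * (i⁻¹ * j) * i := by group
      _ = i * (j * i⁻¹) * i := by rw [h3]
      _ = i * j := by group
  · exact absurd hqi (fun h => hb1 3 h)

/-- an element centralizing `i` and `j` lies in `Q` (when `C_X(Q) ≤ Q`). -/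
theorem mem_of_centralizes {Q : Subgroup X} {i j : X} (hq : Q8F Q i j)
    (hC : Subgroup.centralizer (Q : Set X) ≤ Q) (g : X) (hgi : g * i * g⁻¹ = i)
    (hgj : g * j * g⁻¹ = j) : g ∈ Q := by
  apply hC
  rw [Subgroup.mem_centralizer_iff]
  intro q hqQ
  obtain ⟨a, b, rfl⟩ := hq.span q hqQ
  have h1 : g * i = i * g := by
    calc g * i = (g * i * g⁻¹) * g := by group
      _ = i * g := by rw [hgi]
  have h2 : g * j = j * g := by
    calc g * j = (g * j * g⁻¹) * g := by group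
      _ = j * g := by rw [hgj]
  have c1 : Commute g i := h1
  have c2 : Commute g j := h2
  exact ((c1.pow_right _).mul_right (c2.pow_right _)).eq.symm

/-- second half: from an involution swapping `⟨i⟩` and `⟨j⟩` to the standard one. -/
theorem final (Q : Subgroup X) [Q.Normal] (hC : Subgroup.centralizer (Q : Set X) ≤ Q)
    (i j c : X) (hq : Q8F Q i j) (hc3 : c ^ 3 = 1) (hci : c * i * c⁻¹ = j) (hcj : c * j * c⁻¹ = i * j)
    (u₁ : X) (hu₁Q : u₁ ∉ Q) (hu₁ : u₁ * u₁ = 1)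
    (h : u₁ * i * u₁⁻¹ = j ∨ u₁ * i * u₁⁻¹ = j⁻¹) :
    ∃ u : X, u ^ 2 = 1 ∧ u * i * u⁻¹ = j⁻¹ ∧ u * j * u⁻¹ = i⁻¹ ∧ u * c * u⁻¹ = c⁻¹ ∧ u ∉ Q := by
  -- first get `u` with the right action on `i`, `j`
  have hex : ∃ u : X, u * u = 1 ∧ u * i * u⁻¹ = j⁻¹ ∧ u * j * u⁻¹ = i⁻¹ ∧ u ∉ Q := by
    have hu₁inv : u₁⁻¹ = u₁ := inv_eq_of_mul_eq_one_right hu₁
    rcases h with h | h
    · -- `u := u₁ * (i * j)`
      have hj : u₁ * j * u₁⁻¹ = i := by
        calc u₁ * j * u₁⁻¹ = u₁ * (u₁ * i * u₁⁻¹) * u₁⁻¹ := by rw [h]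
          _ = (u₁ * u₁) * i * (u₁ * u₁)⁻¹ := by group
          _ = i := by rw [hu₁]; group
      refine ⟨u₁ * (i * j), ?_, ?_, ?_, ?_⟩
      · calc u₁ * (i * j) * (u₁ * (i * j))
            = (u₁ * i * u₁⁻¹) * (u₁ * j * u₁⁻¹) * (u₁ * u₁) * (i * j) := by group
          _ = j * i * (i * j) := by rw [h, hj, hu₁, mul_one]
          _ = j * (i * i) * j := by group
          _ = j * (j * j) * j := by rw [j2' hq]
          _ = j * j * j * j := by group
          _ = 1 := jjjj hq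
      · calc u₁ * (i * j) * i * (u₁ * (i * j))⁻¹
            = u₁ * ((i * j) * i * (i * j)⁻¹) * u₁⁻¹ := by group
          _ = u₁ * i⁻¹ * u₁⁻¹ := by rw [ki hq]
          _ = (u₁ * i * u₁⁻¹)⁻¹ := by group
          _ = j⁻¹ := by rw [h]
      · calc u₁ * (i * j) * j * (u₁ * (i * j))⁻¹
            = u₁ * ((i * j) * j * (i * j)⁻¹) * u₁⁻¹ := by group
          _ = u₁ * j⁻¹ * u₁⁻¹ := by rw [kj hq]
          _ = (u₁ * j * u₁⁻¹)⁻¹ := by group
          _ = i⁻¹ := by rw [hj]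
      · intro hmem
        apply hu₁Q
        have : u₁ = (u₁ * (i * j)) * (i * j)⁻¹ := by group
        rw [this]
        exact Q.mul_mem hmem (Q.inv_mem (Q.mul_mem hq.iQ hq.jQ))
    · have hj : u₁ * j * u₁⁻¹ = i⁻¹ := by
        have : u₁ * j⁻¹ * u₁⁻¹ = i := by
          calc u₁ * j⁻¹ * u₁⁻¹ = u₁ * (u₁ * i * u₁⁻¹) * u₁⁻¹ := by rw [h]
            _ = (u₁ * u₁) * i * (u₁ * u₁)⁻¹ := by group
            _ = i := by rw [hu₁]; group
        calc u₁ * j * u₁⁻¹ = (u₁ * j⁻¹ * u₁⁻¹)⁻¹ := by group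
          _ = i⁻¹ := by rw [this]
      exact ⟨u₁, hu₁, h, hj, hu₁Q⟩
  obtain ⟨u, huu, hui, huj, huQ⟩ := hex
  have huinv : u⁻¹ = u := inv_eq_of_mul_eq_one_right huu
  refine ⟨u, by rw [pow_two]; exact huu, hui, huj, ?_, huQ⟩
  -- `d := u c u⁻¹ c` centralizes `Q`
  have hci' : c * i⁻¹ * c⁻¹ = j⁻¹ := by
    calc c * i⁻¹ * c⁻¹ = (c * i * c⁻¹)⁻¹ := by group
      _ = j⁻¹ := by rw [hci]
  have hck : c * (i * j) * c⁻¹ = i := by
    calc c * (i * j) * c⁻¹ = (c * i * c⁻¹) * (c * j * c⁻¹) := by group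
      _ = j * (i * j) := by rw [hci, hcj]
      _ = (j * i) * j := by group
      _ = i⁻¹ * j * j := by rw [ji' hq]
      _ = i⁻¹ * (j * j) := by group
      _ = i⁻¹ * (i * i) := by rw [j2' hq]
      _ = i := by group
  have hck' : c * (i * j)⁻¹ * c⁻¹ = i⁻¹ := by
    calc c * (i * j)⁻¹ * c⁻¹ = (c * (i * j) * c⁻¹)⁻¹ := by group
      _ = i⁻¹ := by rw [hck]
  have hui' : u * j⁻¹ * u⁻¹ = i := by
    calc u * j⁻¹ * u⁻¹ = (u * j * u⁻¹)⁻¹ := by group
      _ = i := by rw [huj, inv_inv]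
  have huj' : u * i⁻¹ * u⁻¹ = j := by
    calc u * i⁻¹ * u⁻¹ = (u * i * u⁻¹)⁻¹ := by group
      _ = j := by rw [hui, inv_inv]
  have huk : u * (i * j) * u⁻¹ = (i * j)⁻¹ := by
    calc u * (i * j) * u⁻¹ = (u * i * u⁻¹) * (u * j * u⁻¹) := by group
      _ = j⁻¹ * i⁻¹ := by rw [hui, huj]
      _ = (i * j)⁻¹ := by group
  set d : X := u * c * u⁻¹ * c with hd
  have hdi : d * i * d⁻¹ = i := by
    calc d * i * d⁻¹ = u * (c * (u⁻¹ * (c * i * c⁻¹) * u) * c⁻¹) * u⁻¹ := by rw [hd]; group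
      _ = u * (c * (u * j * u⁻¹) * c⁻¹) * u⁻¹ := by rw [hci, huinv]
      _ = u * (c * i⁻¹ * c⁻¹) * u⁻¹ := by rw [huj]
      _ = u * j⁻¹ * u⁻¹ := by rw [hci']
      _ = i := hui'
  have hdj : d * j * d⁻¹ = j := by
    calc d * j * d⁻¹ = u * (c * (u⁻¹ * (c * j * c⁻¹) * u) * c⁻¹) * u⁻¹ := by rw [hd]; group
      _ = u * (c * (u * (i * j) * u⁻¹) * c⁻¹) * u⁻¹ := by rw [hcj, huinv]
      _ = u * (c * (i * j)⁻¹ * c⁻¹) * u⁻¹ := by rw [huk]
      _ = u * i⁻¹ * u⁻¹ := by rw [hck']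
      _ = j := huj'
  have hdQ : d ∈ Q := mem_of_centralizes hq hC d hdi hdj
  have hdi2 : d * i = i * d := by
    calc d * i = (d * i * d⁻¹) * d := by group
      _ = i * d := by rw [hdi]
  have hdj2 : d * j = j * d := by
    calc d * j = (d * j * d⁻¹) * d := by group
      _ = j * d := by rw [hdj]
  rcases center hq d hdQ hdi2 hdj2 with h1 | h1
  · -- `d = 1`
    have : u * c * u⁻¹ * c = 1 := by rw [← hd]; exact h1
    exact eq_inv_of_mul_eq_one_left this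
  · -- `d = i * i` is impossible
    exfalso
    have h2 : u * c * u⁻¹ = (i * i) * c⁻¹ := by
      calc u * c * u⁻¹ = (u * c * u⁻¹ * c) * c⁻¹ := by group
        _ = (i * i) * c⁻¹ := by rw [← hd, h1]
    have h3 : (u * c * u⁻¹) ^ 3 = 1 := by
      calc (u * c * u⁻¹) ^ 3 = u * c ^ 3 * u⁻¹ := by
            simp only [pow_succ, pow_zero, one_mul]; group
        _ = 1 := by rw [hc3]; group
    have hcz : c * (i * i) * c⁻¹ = i * i := by
      calc c * (i * i) * c⁻¹ = (c * i * c⁻¹) * (c * i * c⁻¹) := by group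
        _ = j * j := by rw [hci]
        _ = i * i := j2' hq
    have hcomm : Commute (i * i) c⁻¹ := by
      show (i * i) * c⁻¹ = c⁻¹ * (i * i)
      calc (i * i) * c⁻¹ = c⁻¹ * (c * (i * i) * c⁻¹) := by group
        _ = c⁻¹ * (i * i) := by rw [hcz]
    rw [h2, hcomm.mul_pow, inv_pow, hc3, inv_one, mul_one] at h3
    apply ii_ne hq
    calc i * i = (i * i * i * i) * (i * i) := by rw [i4' hq, one_mul]
      _ = (i * i) ^ 3 := by simp only [pow_succ, pow_zero, one_mul, mul_assoc]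
      _ = 1 := h3

/-- conjugation by an involution: from the image of one generator to the image of the other. -/
theorem swap_of_invol {u a b : X} (hu : u * u = 1) (h : u * a * u⁻¹ = b) : u * b * u⁻¹ = a := by
  calc u * b * u⁻¹ = u * (u * a * u⁻¹) * u⁻¹ := by rw [h]
    _ = (u * u) * a * (u * u)⁻¹ := by group
    _ = a := by rw [hu]; group

theorem conj_inv' {u a b : X} (h : u * a * u⁻¹ = b) : u * a⁻¹ * u⁻¹ = b⁻¹ := by
  calc u * a⁻¹ * u⁻¹ = (u * a * u⁻¹)⁻¹ := by group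
    _ = b⁻¹ := by rw [h]

theorem conj_back {q a b : X} (h : q * a * q⁻¹ = b) : q⁻¹ * b * q = a := by
  rw [← h]; group

/-- first half: some conjugate of `u₀` swaps `⟨i⟩` and `⟨j⟩`. -/
theorem first (Q : Subgroup X) [hQn : Q.Normal] (hC : Subgroup.centralizer (Q : Set X) ≤ Q)
    (i j c : X) (hq : Q8F Q i j) (hci : c * i * c⁻¹ = j) (hcj : c * j * c⁻¹ = i * j)
    (u₀ : X) (hu₀Q : u₀ ∉ Q) (hu₀ : u₀ * u₀ = 1) :
    ∃ u₁ : X, u₁ ∉ Q ∧ u₁ * u₁ = 1 ∧ (u₁ * i * u₁⁻¹ = j ∨ u₁ * i * u₁⁻¹ = j⁻¹) := by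
  have hck : c * (i * j) * c⁻¹ = i := by
    calc c * (i * j) * c⁻¹ = (c * i * c⁻¹) * (c * j * c⁻¹) := by group
      _ = j * (i * j) := by rw [hci, hcj]
      _ = (j * i) * j := by group
      _ = i⁻¹ * j * j := by rw [ji' hq]
      _ = i⁻¹ * (j * j) := by group
      _ = i⁻¹ * (i * i) := by rw [j2' hq]
      _ = i := by group
  -- squares are not trivial
  have hsq : ∀ g a : X, a * a ≠ 1 → (g * a * g⁻¹) * (g * a * g⁻¹) ≠ 1 := by
    intro g a ha h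
    apply ha
    have : g * (a * a) * g⁻¹ = 1 := by
      calc g * (a * a) * g⁻¹ = (g * a * g⁻¹) * (g * a * g⁻¹) := by group
        _ = 1 := h
    calc a * a = g⁻¹ * (g * (a * a) * g⁻¹) * g := by group
      _ = 1 := by rw [this]; group
  have hjj : j * j ≠ 1 := by rw [j2' hq]; exact ii_ne hq
  have hvQ : u₀ * i * u₀⁻¹ ∈ Q := hQn.conj_mem i hq.iQ u₀
  have hwQ : u₀ * j * u₀⁻¹ ∈ Q := hQn.conj_mem j hq.jQ u₀
  -- conjugates of `u₀`
  have hconjQ : ∀ g : X, g * u₀ * g⁻¹ ∉ Q := by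
    intro g hmem
    apply hu₀Q
    have := hQn.conj_mem _ hmem g⁻¹
    have e : g⁻¹ * (g * u₀ * g⁻¹) * g⁻¹⁻¹ = u₀ := by group
    rwa [e] at this
  have hconj2 : ∀ g : X, (g * u₀ * g⁻¹) * (g * u₀ * g⁻¹) = 1 := by
    intro g
    calc (g * u₀ * g⁻¹) * (g * u₀ * g⁻¹) = g * (u₀ * u₀) * g⁻¹ := by group
      _ = 1 := by rw [hu₀]; group
  -- case `v = k^{±1}`: use `c u₀ c⁻¹`
  have caseK : (u₀ * i * u₀⁻¹ = i * j ∨ u₀ * i * u₀⁻¹ = (i * j)⁻¹) →
      ∃ u₁ : X, u₁ ∉ Q ∧ u₁ * u₁ = 1 ∧ (u₁ * i * u₁⁻¹ = j ∨ u₁ * i * u₁⁻¹ = j⁻¹) := by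
    intro hv
    refine ⟨c * u₀ * c⁻¹, hconjQ c, hconj2 c, ?_⟩
    have key : (c * u₀ * c⁻¹) * j * (c * u₀ * c⁻¹)⁻¹ = c * (u₀ * i * u₀⁻¹) * c⁻¹ := by
      calc (c * u₀ * c⁻¹) * j * (c * u₀ * c⁻¹)⁻¹
          = c * (u₀ * (c⁻¹ * j * c) * u₀⁻¹) * c⁻¹ := by group
        _ = c * (u₀ * i * u₀⁻¹) * c⁻¹ := by rw [conj_back hci]
    rcases hv with hv | hv
    · left
      apply swap_of_invol (hconj2 c)
      rw [key, hv, hck]
    · right
      have h1 : (c * u₀ * c⁻¹) * j * (c * u₀ * c⁻¹)⁻¹ = i⁻¹ := by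
        rw [key, hv]; exact conj_inv' hck
      have h2 := swap_of_invol (hconj2 c) h1
      -- `u₁ i⁻¹ u₁⁻¹ = j`
      have h3 := conj_inv' h2
      rwa [inv_inv] at h3
  rcases six hq _ hvQ (hsq u₀ i (ii_ne hq)) with hv | hv | hv | hv | hv | hv
  · -- `v = i`
    rcases six hq _ hwQ (hsq u₀ j hjj) with hw | hw | hw | hw | hw | hw
    · exfalso
      apply j_ne_i hq
      have : u₀ * j * u₀⁻¹ = u₀ * i * u₀⁻¹ := by rw [hw, hv]
      exact mul_left_cancel (mul_right_cancel this)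
    · exfalso
      apply j_ne_i_inv hq
      have : u₀ * j * u₀⁻¹ = u₀ * i⁻¹ * u₀⁻¹ := by rw [hw, conj_inv' hv]
      exact mul_left_cancel (mul_right_cancel this)
    · exfalso
      exact hu₀Q (mem_of_centralizes hq hC u₀ hv hw)
    · -- acts as `i`
      exfalso
      apply hu₀Q
      have hmem : i⁻¹ * u₀ ∈ Q := by
        apply mem_of_centralizes hq hC
        · calc i⁻¹ * u₀ * i * (i⁻¹ * u₀)⁻¹ = i⁻¹ * (u₀ * i * u₀⁻¹) * i := by group
            _ = i := by rw [hv]; group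
        · calc i⁻¹ * u₀ * j * (i⁻¹ * u₀)⁻¹ = i⁻¹ * (u₀ * j * u₀⁻¹) * i := by group
            _ = i⁻¹ * j⁻¹ * i := by rw [hw]
            _ = j := conj_back (iji hq)
      have : u₀ = i * (i⁻¹ * u₀) := by group
      rw [this]
      exact Q.mul_mem hq.iQ hmem
    · -- `w = k`
      refine ⟨c⁻¹ * u₀ * c⁻¹⁻¹, hconjQ c⁻¹, hconj2 c⁻¹, ?_⟩
      left
      calc (c⁻¹ * u₀ * c⁻¹⁻¹) * i * (c⁻¹ * u₀ * c⁻¹⁻¹)⁻¹
          = c⁻¹ * (u₀ * (c * i * c⁻¹) * u₀⁻¹) * c := by group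
        _ = c⁻¹ * (i * j) * c := by rw [hci, hw]
        _ = j := conj_back hcj
    · refine ⟨c⁻¹ * u₀ * c⁻¹⁻¹, hconjQ c⁻¹, hconj2 c⁻¹, ?_⟩
      right
      calc (c⁻¹ * u₀ * c⁻¹⁻¹) * i * (c⁻¹ * u₀ * c⁻¹⁻¹)⁻¹
          = c⁻¹ * (u₀ * (c * i * c⁻¹) * u₀⁻¹) * c := by group
        _ = c⁻¹ * (i * j)⁻¹ * c := by rw [hci, hw]
        _ = (c⁻¹ * (i * j) * c)⁻¹ := by group
        _ = j⁻¹ := by rw [conj_back hcj]
  · -- `v = i⁻¹`
    rcases six hq _ hwQ (hsq u₀ j hjj) with hw | hw | hw | hw | hw | hw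
    · exfalso
      apply j_ne_i_inv hq
      have h1 : u₀ * i⁻¹ * u₀⁻¹ = i := by have := conj_inv' hv; rwa [inv_inv] at this
      have : u₀ * j * u₀⁻¹ = u₀ * i⁻¹ * u₀⁻¹ := by rw [hw, h1]
      exact mul_left_cancel (mul_right_cancel this)
    · exfalso
      apply j_ne_i hq
      have : u₀ * j * u₀⁻¹ = u₀ * i * u₀⁻¹ := by rw [hw, hv]
      exact mul_left_cancel (mul_right_cancel this)
    · -- acts as `j`
      exfalso
      apply hu₀Q
      have hmem : j⁻¹ * u₀ ∈ Q := by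
        apply mem_of_centralizes hq hC
        · calc j⁻¹ * u₀ * i * (j⁻¹ * u₀)⁻¹ = j⁻¹ * (u₀ * i * u₀⁻¹) * j := by group
            _ = j⁻¹ * i⁻¹ * j := by rw [hv]
            _ = i := conj_back hq.ji
        · calc j⁻¹ * u₀ * j * (j⁻¹ * u₀)⁻¹ = j⁻¹ * (u₀ * j * u₀⁻¹) * j := by group
            _ = j := by rw [hw]; group
      have : u₀ = j * (j⁻¹ * u₀) := by group
      rw [this]
      exact Q.mul_mem hq.jQ hmem
    · -- acts as `k`
      exfalso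
      apply hu₀Q
      have hmem : (i * j)⁻¹ * u₀ ∈ Q := by
        apply mem_of_centralizes hq hC
        · calc (i * j)⁻¹ * u₀ * i * ((i * j)⁻¹ * u₀)⁻¹
              = (i * j)⁻¹ * (u₀ * i * u₀⁻¹) * (i * j) := by group
            _ = (i * j)⁻¹ * i⁻¹ * (i * j) := by rw [hv]
            _ = i := conj_back (ki hq)
        · calc (i * j)⁻¹ * u₀ * j * ((i * j)⁻¹ * u₀)⁻¹
              = (i * j)⁻¹ * (u₀ * j * u₀⁻¹) * (i * j) := by group
            _ = (i * j)⁻¹ * j⁻¹ * (i * j) := by rw [hw]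
            _ = j := conj_back (kj hq)
      have : u₀ = (i * j) * ((i * j)⁻¹ * u₀) := by group
      rw [this]
      exact Q.mul_mem (Q.mul_mem hq.iQ hq.jQ) hmem
    · refine ⟨c⁻¹ * u₀ * c⁻¹⁻¹, hconjQ c⁻¹, hconj2 c⁻¹, ?_⟩
      left
      calc (c⁻¹ * u₀ * c⁻¹⁻¹) * i * (c⁻¹ * u₀ * c⁻¹⁻¹)⁻¹
          = c⁻¹ * (u₀ * (c * i * c⁻¹) * u₀⁻¹) * c := by group
        _ = c⁻¹ * (i * j) * c := by rw [hci, hw]
        _ = j := conj_back hcj
    · refine ⟨c⁻¹ * u₀ * c⁻¹⁻¹, hconjQ c⁻¹, hconj2 c⁻¹, ?_⟩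
      right
      calc (c⁻¹ * u₀ * c⁻¹⁻¹) * i * (c⁻¹ * u₀ * c⁻¹⁻¹)⁻¹
          = c⁻¹ * (u₀ * (c * i * c⁻¹) * u₀⁻¹) * c := by group
        _ = c⁻¹ * (i * j)⁻¹ * c := by rw [hci, hw]
        _ = (c⁻¹ * (i * j) * c)⁻¹ := by group
        _ = j⁻¹ := by rw [conj_back hcj]
  · exact ⟨u₀, hu₀Q, hu₀, Or.inl hv⟩
  · exact ⟨u₀, hu₀Q, hu₀, Or.inr hv⟩
  · exact caseK (Or.inl hv)
  · exact caseK (Or.inr hv)

end A3

/-- (A3) second step: an involution acting in the standard way. -/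
theorem step2 (Q : Subgroup X) [Q.Normal] (hC : Subgroup.centralizer (Q : Set X) ≤ Q)
    (i j c : X) (hq : Q8F Q i j) (hc3 : c ^ 3 = 1) (hci : c * i * c⁻¹ = j) (hcj : c * j * c⁻¹ = i * j)
    (u₀ : X) (hu₀Q : u₀ ∉ Q) (hu₀ : u₀ * u₀ = 1) :
    ∃ u : X, u ^ 2 = 1 ∧ u * i * u⁻¹ = j⁻¹ ∧ u * j * u⁻¹ = i⁻¹ ∧ u * c * u⁻¹ = c⁻¹ ∧ u ∉ Q := by
  obtain ⟨u₁, hu₁Q, hu₁, h⟩ := A3.first Q hC i j c hq hci hcj u₀ hu₀Q hu₀
  exact A3.final Q hC i j c hq hc3 hci hcj u₁ hu₁Q hu₁ h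

end Cfsg.Agent.H1.RecGL23
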