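import Mathlib
import Cfsg.Prelude.Def_Blocks

set_option autoImplicit false

/-! Common definitions for Robinson's count of the blocks with a given normal defect group
(helper4). -/

namespace Cfsg.Agent.Lib.Helper4.Rob

variable {G : Type*} [Group G]

/-- `x` is `p`-regular and `D` is a Sylow `p`-subgroup of its centralizer. -/
def Good (p : ℕ) [Fact p.Prime] (D : Subgroup G) (x : G) : Prop :=
  ¬ p ∣ orderOf x ∧ ∃ Q : Sylow p ↥(Subgroup.centralizer ({x} : Set G)),
    (Q : Subgroup ↥(Subgroup.centralizer ({x} : Set G))).map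
      (Subgroup.centralizer ({x} : Set G)).subtype = D

/-- the number of `p`-elements `t` with `t * x` conjugate to `y` -/
noncomputable def cnt (p : ℕ) (x y : G) : ℕ :=
  Nat.card {t : G // (∃ k : ℕ, orderOf t = p ^ k) ∧ IsConj y (t * x)}

/-- Robinson's numbers: the pairs `(y', z)` of conjugates of `x` and of `y` with `z * y'⁻¹ ∈ S`. -/
noncomputable def omega (S : Subgroup G) (x y : G) : ℕ :=
  Nat.card {yz : G × G // yz.1 ∈ (ConjClasses.mk x).carrier ∧ yz.2 ∈ (ConjClasses.mk y).carrier ∧
    yz.2 * yz.1⁻¹ ∈ S}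

/-- the exponent `a - d` -/
noncomputable def ad (p : ℕ) (D : Subgroup G) : ℕ :=
  (Nat.card G).factorization p - (Nat.card D).factorization p

end Cfsg.Agent.Lib.Helper4.Rob
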