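import Mathlib
import Cfsg.Prelude.Def_Characters
import Cfsg.Agent.Lib.helper3.Gallagher2
import Cfsg.Agent.Lib.helper3.Irr6

set_option autoImplicit false
set_option linter.style.haveILetI false
set_option linter.unusedSectionVars false
set_option maxHeartbeats 1000000

/-! The norm of an extension of an irreducible character on a coset of the normal subgroup
(Isaacs 8.14, without any hypothesis on the quotient) (helper4, piece P3 of S4551). -/

namespace Cfsg.Agent.Lib.Helper4.AD

open Cfsg Module Cfsg.Agent.Lib.helper3.IndFun Cfsg.Agent.Lib.helper3.CharBasic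
open Cfsg.Agent.Lib.helper3.Irr
open scoped ComplexConjugate
open Classical

variable {H : Type*} [Group H]

/-- the averaged norm on the cosets of `N`, as a function on the quotient -/
noncomputable def cosetNorm [Fintype H] (N : Subgroup H) [N.Normal] (χ : H → ℂ) : H ⧸ N → ℂ :=
  fun x => (Nat.card N : ℂ)⁻¹ *
    ∑ h : H, if ((h : H ⧸ N) = x) then χ h * conj (χ h) else 0

theorem sum_cosetNorm_mul [Fintype H] (N : Subgroup H) [N.Normal] [Fintype (H ⧸ N)] (χ : H → ℂ)
    (b : H ⧸ N → ℂ) :
    ∑ x : H ⧸ N, cosetNorm N χ x * b x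
      = (Nat.card N : ℂ)⁻¹ * ∑ h : H, χ h * conj (χ h) * b (h : H ⧸ N) := by
  unfold cosetNorm
  calc ∑ x : H ⧸ N, ((Nat.card N : ℂ)⁻¹ *
        ∑ h : H, if ((h : H ⧸ N) = x) then χ h * conj (χ h) else 0) * b x
      = (Nat.card N : ℂ)⁻¹ * ∑ x : H ⧸ N, ∑ h : H,
          (if ((h : H ⧸ N) = x) then χ h * conj (χ h) * b x else 0) := by
        rw [Finset.mul_sum]
        refine Finset.sum_congr rfl fun x _ => ?_
        rw [mul_assoc, Finset.sum_mul]
        congr 1
        refine Finset.sum_congr rfl fun h _ => ?_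
        split_ifs <;> simp
    _ = (Nat.card N : ℂ)⁻¹ * ∑ h : H, ∑ x : H ⧸ N,
          (if ((h : H ⧸ N) = x) then χ h * conj (χ h) * b x else 0) := by
        rw [Finset.sum_comm]
    _ = (Nat.card N : ℂ)⁻¹ * ∑ h : H, χ h * conj (χ h) * b (h : H ⧸ N) := by
        congr 1
        refine Finset.sum_congr rfl fun h _ => ?_
        rw [Finset.sum_ite_eq]
        simp

theorem isClassFunction_cosetNorm [Fintype H] (N : Subgroup H) [N.Normal] (χ : H → ℂ)
    (hχ : IsClassFunction H χ) : IsClassFunction (H ⧸ N) (cosetNorm N χ) := by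
  intro x y
  obtain ⟨y', rfl⟩ := QuotientGroup.mk_surjective y
  unfold cosetNorm
  congr 1
  refine Fintype.sum_equiv (MulAut.conj y'⁻¹).toEquiv _ _ ?_
  intro h
  have h1 : χ ((MulAut.conj y'⁻¹).toEquiv h) = χ h := by
    show χ (MulAut.conj y'⁻¹ h) = χ h
    rw [MulAut.conj_apply]
    exact hχ h y'⁻¹
  have h2 : ((((MulAut.conj y'⁻¹).toEquiv h : H) : H ⧸ N) = x) ↔
      ((h : H ⧸ N) = (y' : H ⧸ N) * x * (y' : H ⧸ N)⁻¹) := by
    show (((MulAut.conj y'⁻¹ h : H) : H ⧸ N) = x) ↔ _
    rw [MulAut.conj_apply, QuotientGroup.mk_mul, QuotientGroup.mk_mul, inv_inv,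
      QuotientGroup.mk_inv]
    constructor
    · intro h3
      rw [← h3]
      group
    · intro h3
      rw [h3]
      group
  rw [h1]
  by_cases hc : (h : H ⧸ N) = (y' : H ⧸ N) * x * (y' : H ⧸ N)⁻¹
  · rw [if_pos hc, if_pos (h2.2 hc)]
  · rw [if_neg hc, if_neg (fun h4 => hc (h2.1 h4))]

/-- **The coset norm** of an irreducible character restricting irreducibly to the normal
subgroup `N` is `|N|` on every coset. -/
theorem coset_norm [Fintype H] (N : Subgroup H) [N.Normal] [Fintype N]
    (χ : H → ℂ) (hχ : IsIrrCharacter H χ) (hχN : IsIrrCharacter N (fun n : N => χ n)) (g : H) :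
    ∑ n : N, χ (g * n) * conj (χ (g * n)) = (Nat.card N : ℂ) := by
  haveI : Fintype (H ⧸ N) := Fintype.ofFinite _
  have hχc := isCharacter_of_isIrrCharacter hχ
  have hcf := isClassFunction_of_isCharacter hχc
  obtain ⟨hirr, hinj⟩ := gallagher_inflate N χ hχc (apply_one_ne_zero hχ) hχN
  have hN0 : (Nat.card N : ℂ) ≠ 0 := card_ne_zero_complex N
  have hQ0 : (Nat.card (H ⧸ N) : ℂ) ≠ 0 := card_ne_zero_complex _
  have hcard : (Nat.card H : ℂ) = (Nat.card (H ⧸ N) : ℂ) * (Nat.card N : ℂ) := by
    rw [← Nat.cast_mul]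
    congr 1
    exact Subgroup.card_eq_card_quotient_mul_card_subgroup N
  -- the inner products of the coset norm with the irreducible characters of the quotient
  have hinner : ∀ β : IrrCharacter (H ⧸ N),
      classInner (cosetNorm N χ) (β : H ⧸ N → ℂ)
        = classInner χ (inflate N (β : H ⧸ N → ℂ) * χ) := by
    intro β
    rw [classInner_apply, classInner_apply,
      sum_cosetNorm_mul N χ (fun x => conj ((β : H ⧸ N → ℂ) x)), hcard, mul_inv, mul_assoc]
    congr 1
    congr 1
    refine Finset.sum_congr rfl fun h _ => ?_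
    rw [Pi.mul_apply, inflate_apply, map_mul]
    ring
  let one : IrrCharacter (H ⧸ N) := ⟨fun _ => 1, isIrrCharacter_one⟩
  have hone : inflate N (one : H ⧸ N → ℂ) * χ = χ := by
    funext h
    rw [Pi.mul_apply, inflate_apply]
    show (1 : ℂ) * χ h = χ h
    rw [one_mul]
  have hzero : cosetNorm N χ - (fun _ => (1 : ℂ)) = 0 := by
    apply eq_zero_of_forall_classInner_eq_zero
    · intro x y
      rw [Pi.sub_apply, Pi.sub_apply, isClassFunction_cosetNorm N χ hcf x y]
    · intro β
      rw [classInner_sub_left, hinner β]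
      by_cases hβ : β = one
      · rw [hβ, hone, irr_classInner_self hχ]
        show (1 : ℂ) - classInner (fun _ : H ⧸ N => (1 : ℂ)) (fun _ => 1) = 0
        rw [classInner_one_one, sub_self]
      · have h1 : classInner χ (inflate N (β : H ⧸ N → ℂ) * χ) = 0 := by
          apply irr_classInner_eq_zero hχ (hirr β)
          intro h2
          apply hβ
          apply hinj β one
          rw [hone, ← h2]
        have h2 : classInner (fun _ : H ⧸ N => (1 : ℂ)) (β : H ⧸ N → ℂ) = 0 := by
          apply irr_classInner_eq_zero isIrrCharacter_one β.2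
          intro h3
          apply hβ
          exact Subtype.ext h3.symm
        rw [h1, h2, sub_zero]
  have hval : cosetNorm N χ (g : H ⧸ N) = 1 := by
    have := congrFun hzero (g : H ⧸ N)
    rw [Pi.sub_apply, Pi.zero_apply, sub_eq_zero] at this
    exact this
  -- reindex the coset
  have hsum : ∑ h : H, (if ((h : H ⧸ N) = (g : H ⧸ N)) then χ h * conj (χ h) else 0)
      = ∑ n : N, χ (g * n) * conj (χ (g * n)) := by
    rw [← Finset.sum_filter]
    symm
    refine Finset.sum_bij (fun (n : N) _ => g * (n : H)) ?_ ?_ ?_ ?_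
    · intro n _
      rw [Finset.mem_filter]
      refine ⟨Finset.mem_univ _, ?_⟩
      rw [QuotientGroup.mk_mul, (QuotientGroup.eq_one_iff (n : H)).2 n.2, mul_one]
    · intro n _ n' _ h
      exact Subtype.ext (mul_left_cancel h)
    · intro h hh
      rw [Finset.mem_filter] at hh
      have h1 : g⁻¹ * h ∈ N := by
        rw [← QuotientGroup.eq_one_iff, QuotientGroup.mk_mul, QuotientGroup.mk_inv, hh.2]
        group
      exact ⟨⟨g⁻¹ * h, h1⟩, Finset.mem_univ _, by simp⟩
    · intro n _
      rfl
  unfold cosetNorm at hval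
  rw [hsum] at hval
  field_simp at hval
  exact hval

end Cfsg.Agent.Lib.Helper4.AD
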