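import Mathlib
import Cfsg.Prelude.Def_Blocks
import Cfsg.Agent.Lib.helper3.ADB0
import Cfsg.Agent.Lib.Helper8.AD1
import Cfsg.Agent.Lib.Helper8.AD2

set_option autoImplicit false
set_option linter.style.haveILetI false
set_option linter.unusedSectionVars false
set_option maxHeartbeats 1000000

/-! Step (B2) of Alperin–Dade (S4551): the function `θ̂` is a class function (helper4). -/

namespace Cfsg.Agent.Lib.Helper4.AD

open Cfsg Cfsg.Agent.Lib.helper3.ADB Cfsg.Agent.Lib.Helper8.AD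

universe u

variable {X : Type u} [Group X]

theorem isSolvable_zpowers (g : X) : Group.IsSolvable ↥(Subgroup.zpowers g) := by
  apply Group.isSolvable_of_comm
  intro a b
  obtain ⟨i, hi⟩ := Subgroup.mem_zpowers_iff.1 a.2
  obtain ⟨j, hj⟩ := Subgroup.mem_zpowers_iff.1 b.2
  apply Subtype.ext
  show (a : X) * (b : X) = (b : X) * (a : X)
  rw [← hi, ← hj]
  exact (Commute.refl g).zpow_zpow i j

/-- conjugation maps `N ⊔ ⟨g⟩` into `N ⊔ ⟨y g y⁻¹⟩` -/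
theorem conj_mem_sup_zpowers (N : Subgroup X) [hN : N.Normal] (y g h : X)
    (hh : h ∈ N ⊔ Subgroup.zpowers g) : y * h * y⁻¹ ∈ N ⊔ Subgroup.zpowers (y * g * y⁻¹) := by
  rw [← SetLike.mem_coe, Subgroup.normal_mul] at hh
  obtain ⟨n, hn, c, hc, rfl⟩ := hh
  obtain ⟨k, rfl⟩ := Subgroup.mem_zpowers_iff.1 hc
  have h1 : y * (n * g ^ k) * y⁻¹ = (y * n * y⁻¹) * (y * g * y⁻¹) ^ k := by
    rw [← MulAut.conj_apply, ← MulAut.conj_apply, ← MulAut.conj_apply, map_mul, map_zpow]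
  rw [h1]
  exact Subgroup.mul_mem_sup (hN.conj_mem n hn y)
    (Subgroup.zpow_mem _ (Subgroup.mem_zpowers _) k)

/-- the conjugation isomorphism `N ⊔ ⟨g⟩ ≃* N ⊔ ⟨y g y⁻¹⟩` -/
noncomputable def conjSup (N : Subgroup X) [hN : N.Normal] (y g : X) :
    ↥(N ⊔ Subgroup.zpowers g) ≃* ↥(N ⊔ Subgroup.zpowers (y * g * y⁻¹)) where
  toFun h := ⟨y * (h : X) * y⁻¹, conj_mem_sup_zpowers N y g h h.2⟩
  invFun h := ⟨y⁻¹ * (h : X) * y, by
    have := conj_mem_sup_zpowers N y⁻¹ (y * g * y⁻¹) h h.2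
    have e : y⁻¹ * (y * g * y⁻¹) * y⁻¹⁻¹ = g := by group
    rw [e, inv_inv] at this
    exact this⟩
  left_inv h := by
    apply Subtype.ext
    show y⁻¹ * (y * (h : X) * y⁻¹) * y = (h : X)
    group
  right_inv h := by
    apply Subtype.ext
    show y * (y⁻¹ * (h : X) * y) * y⁻¹ = (h : X)
    group
  map_mul' a b := by
    apply Subtype.ext
    show y * ((a : X) * (b : X)) * y⁻¹ = (y * (a : X) * y⁻¹) * (y * (b : X) * y⁻¹)
    group

theorem conjSup_symm_apply (N : Subgroup X) [hN : N.Normal] (y g : X)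
    (h : ↥(N ⊔ Subgroup.zpowers (y * g * y⁻¹))) :
    (((conjSup N y g).symm h : ↥(N ⊔ Subgroup.zpowers g)) : X) = y⁻¹ * (h : X) * y := rfl

variable [Finite X] {M : Ideal AlgInt}

/-- **(B2)**: `θ̂` is a class function. -/
theorem key_conj (N : Subgroup X) [hN : N.Normal]
    (hext : ∀ (H : Subgroup X) (hNH : N ≤ H), Group.IsSolvable (↥H ⧸ N.subgroupOf H) →
      ExtU M N H hNH)
    (θ : IrrCharacter ↥N) (hθ : θ ∈ principalBlock M ↥N) (f : X → ℂ) (hf : Key M N θ f)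
    (hinv : ∀ (x : X) (n : N),
      (θ : ↥N → ℂ) ⟨x * n * x⁻¹, hN.conj_mem n n.2 x⟩ = (θ : ↥N → ℂ) n) :
    ∀ y g : X, f (y * g * y⁻¹) = f g := by
  intro y g
  haveI := isSolvable_zpowers g
  haveI := isSolvable_zpowers (y * g * y⁻¹)
  have hsolv := isSolvable_quot_sup N (Subgroup.zpowers g)
  have hsolv' := isSolvable_quot_sup N (Subgroup.zpowers (y * g * y⁻¹))
  have hNH : N ≤ N ⊔ Subgroup.zpowers g := le_sup_left
  have hNH' : N ≤ N ⊔ Subgroup.zpowers (y * g * y⁻¹) := le_sup_left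
  obtain ⟨ψ, ⟨hψB, hψN⟩, -⟩ := hext _ hNH hsolv θ hθ
  obtain ⟨ψ', hψ'app, hψ'B⟩ := exists_irr_comp (M := M) (conjSup N y g).symm ψ
  have hres' : ∀ n : N, (ψ' : ↥(N ⊔ Subgroup.zpowers (y * g * y⁻¹)) → ℂ) ⟨n, hNH' n.2⟩
      = (θ : ↥N → ℂ) n := by
    intro n
    rw [hψ'app]
    have h1 : (conjSup N y g).symm ⟨(n : X), hNH' n.2⟩
        = ⟨((⟨y⁻¹ * (n : X) * y⁻¹⁻¹, hN.conj_mem n n.2 y⁻¹⟩ : ↥N) : X),
            hNH (hN.conj_mem n n.2 y⁻¹)⟩ := by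
      apply Subtype.ext
      rw [conjSup_symm_apply]
      show y⁻¹ * (n : X) * y = y⁻¹ * (n : X) * y⁻¹⁻¹
      rw [inv_inv]
    rw [h1, hψN]
    exact hinv y⁻¹ n
  have hg : g ∈ N ⊔ Subgroup.zpowers g := le_sup_right (a := N) (Subgroup.mem_zpowers g)
  have hg' : y * g * y⁻¹ ∈ N ⊔ Subgroup.zpowers (y * g * y⁻¹) :=
    le_sup_right (a := N) (Subgroup.mem_zpowers _)
  have e1 := hf _ hNH hsolv ψ hψB hψN ⟨g, hg⟩
  have e2 := hf _ hNH' hsolv' ψ' (hψ'B hψB) hres' ⟨y * g * y⁻¹, hg'⟩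
  have h2 : (conjSup N y g).symm ⟨y * g * y⁻¹, hg'⟩ = ⟨g, hg⟩ := by
    apply Subtype.ext
    rw [conjSup_symm_apply]
    show y⁻¹ * (y * g * y⁻¹) * y = g
    group
  rw [e1, e2, hψ'app, h2]

end Cfsg.Agent.Lib.Helper4.AD
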