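import Mathlib

set_option autoImplicit false
set_option linter.style.haveILetI false
set_option linter.unusedSectionVars false
set_option maxHeartbeats 1000000

/-! Heredity of the Alperin–Dade hypotheses to intermediate subgroups (helper4, for S4551). -/

namespace Cfsg.Agent.Lib.Helper4.AD

variable {X : Type*} [Group X] [Finite X] {p : ℕ} [hp : Fact p.Prime]

/-- A normal subgroup of index prime to `p` contains every Sylow `p`-subgroup. -/
theorem sylow_le_of_normal (N : Subgroup X) [N.Normal] (hidx : ¬ p ∣ N.index) (Q : Sylow p X) :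
    (Q : Subgroup X) ≤ N := by
  intro x hx
  rw [← QuotientGroup.eq_one_iff]
  obtain ⟨k, hk⟩ := Q.isPGroup' ⟨x, hx⟩
  have hk' : x ^ p ^ k = 1 := by
    have := congrArg (fun z : ↥(Q : Subgroup X) => (z : X)) hk
    simpa using this
  have h1 : orderOf (x : X ⧸ N) ∣ p ^ k := by
    apply orderOf_dvd_of_pow_eq_one
    rw [← QuotientGroup.mk_pow, hk', QuotientGroup.mk_one]
  have h2 : orderOf (x : X ⧸ N) ∣ N.index := by
    rw [Subgroup.index_eq_card]
    exact orderOf_dvd_natCard _
  have hcop : Nat.Coprime (p ^ k) N.index :=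
    Nat.Coprime.pow_left k ((Nat.Prime.coprime_iff_not_dvd hp.out).2 hidx)
  have h3 : orderOf (x : X ⧸ N) = 1 := Nat.eq_one_of_dvd_coprimes hcop h1 h2
  exact orderOf_eq_one_iff.1 h3

/-- every element is a product of an element of `N` and an element centralizing `Q` -/
theorem exists_mul_of_sup_eq_top (N : Subgroup X) [N.Normal] (C : Subgroup X)
    (hsup : N ⊔ C = ⊤) (x : X) : ∃ n ∈ N, ∃ c ∈ C, x = n * c := by
  have hx : x ∈ ((N ⊔ C : Subgroup X) : Set X) := by
    rw [hsup]
    exact Subgroup.mem_top x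
  rw [Subgroup.normal_mul] at hx
  obtain ⟨n, hn, c, hc, rfl⟩ := Set.mem_mul.1 hx
  exact ⟨n, hn, c, hc, rfl⟩

/-- Heredity: the hypotheses pass to every subgroup containing `N`. -/
theorem hyp_subgroup (N : Subgroup X) [N.Normal] (hidx : ¬ p ∣ N.index) (Q : Sylow p X)
    (hsup : N ⊔ Subgroup.centralizer ((Q : Subgroup X) : Set X) = ⊤) (H : Subgroup X)
    (hNH : N ≤ H) :
    ∃ Q' : Sylow p ↥H,
      (∀ c : ↥H, c ∈ Subgroup.centralizer ((Q' : Subgroup ↥H) : Set ↥H) ↔
        (c : X) ∈ Subgroup.centralizer ((Q : Subgroup X) : Set X)) ∧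
      N.subgroupOf H ⊔ Subgroup.centralizer ((Q' : Subgroup ↥H) : Set ↥H) = ⊤ ∧
      ¬ p ∣ (N.subgroupOf H).index := by
  have hQN : (Q : Subgroup X) ≤ N := sylow_le_of_normal N hidx Q
  have hQH : (Q : Subgroup X) ≤ H := hQN.trans hNH
  refine ⟨Q.subtype hQH, ?_, ?_, ?_⟩
  · intro c
    rw [Sylow.coe_subtype, Subgroup.mem_centralizer_iff, Subgroup.mem_centralizer_iff]
    constructor
    · intro h q hq
      have := h ⟨q, hQH hq⟩ (by
        show (⟨q, hQH hq⟩ : ↥H) ∈ (Q : Subgroup X).subgroupOf H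
        rw [Subgroup.mem_subgroupOf]
        exact hq)
      exact congrArg (fun z : ↥H => (z : X)) this
    · intro h q hq
      have hq' : (q : X) ∈ (Q : Subgroup X) := by
        have : q ∈ (Q : Subgroup X).subgroupOf H := hq
        rwa [Subgroup.mem_subgroupOf] at this
      exact Subtype.ext (h (q : X) hq')
  · rw [eq_top_iff]
    intro x _
    obtain ⟨n, hn, c, hc, hx⟩ := exists_mul_of_sup_eq_top N _ hsup (x : X)
    have hcH : c ∈ H := by
      have : c = n⁻¹ * (x : X) := by rw [hx]; group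
      rw [this]
      exact H.mul_mem (H.inv_mem (hNH hn)) x.2
    have hx' : x = (⟨n, hNH hn⟩ : ↥H) * ⟨c, hcH⟩ := Subtype.ext hx
    rw [hx']
    apply Subgroup.mul_mem_sup
    · rw [Subgroup.mem_subgroupOf]
      exact hn
    · rw [Sylow.coe_subtype, Subgroup.mem_centralizer_iff]
      intro q hq
      have hq' : (q : X) ∈ (Q : Subgroup X) := by
        have : q ∈ (Q : Subgroup X).subgroupOf H := hq
        rwa [Subgroup.mem_subgroupOf] at this
      rw [Subgroup.mem_centralizer_iff] at hc
      exact Subtype.ext (hc (q : X) hq')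
  · intro h
    apply hidx
    have : (N.subgroupOf H).index = N.relIndex H := rfl
    rw [this] at h
    exact h.trans (Subgroup.relIndex_dvd_index_of_normal N H)

end Cfsg.Agent.Lib.Helper4.AD
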