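import Mathlib
import Cfsg.Prelude.Def_Blocks
import Cfsg.Agent.Lib.Helper4.AD2
import Cfsg.Agent.Lib.helper3.Gallagher3
import Cfsg.Agent.Lib.helper3.CycExt2
import Cfsg.Agent.Lib.helper3.Irr12
import Cfsg.Agent.Lib.helper3.LocalM
import Cfsg.Agent.Lib.helper3.Lin
import Cfsg.Agent.H2.AD1

set_option autoImplicit false
set_option linter.style.haveILetI false
set_option linter.unusedSectionVars false
set_option maxHeartbeats 1000000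

/-! Lemma R' (compatibility of the principal-block extensions) for S4551 (helper4). -/

namespace Cfsg.Agent.Lib.Helper4.AD

open Cfsg Cfsg.Agent.Lib.helper3.Irr Cfsg.Agent.Lib.helper3.LocalM
open Cfsg.Agent.Lib.helper3.CharBasic Cfsg.Agent.H2.AD

universe u

variable {p : ℕ} [hp : Fact p.Prime] {M : Ideal AlgInt}

/-- core of Lemma R': a character of `H₁` agreeing with `ψ ∈ B₀(H₁)` on `N` and congruent to its
degree on the centralizer of the Sylow subgroup equals `ψ`. -/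
theorem lemma_R_core {X : Type u} [Group X] [Finite X] (hM : IsPModular p M) (N : Subgroup X)
    [N.Normal] (hidx : ¬ p ∣ N.index) (Q : Sylow p X)
    (hsup : N ⊔ Subgroup.centralizer ((Q : Subgroup X) : Set X) = ⊤)
    (H₁ : Subgroup X) (hN1 : N ≤ H₁)
    (ψ : IrrCharacter ↥H₁) (hψ : ψ ∈ principalBlock M ↥H₁)
    (hψN : IsIrrCharacter ↥N (fun n : N => (ψ : ↥H₁ → ℂ) ⟨n, hN1 n.2⟩))
    (η : ↥H₁ → ℂ) (hηchar : IsCharacter ↥H₁ η)
    (hres : ∀ n : N, η ⟨n, hN1 n.2⟩ = (ψ : ↥H₁ → ℂ) ⟨n, hN1 n.2⟩)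
    (hηc : ∀ c : ↥H₁, (c : X) ∈ Subgroup.centralizer ((Q : Subgroup X) : Set X) →
      MemLocalIdeal M (η c / η 1 - 1)) :
    ∀ h : H₁, η h = (ψ : ↥H₁ → ℂ) h := by
  classical
  haveI hMp : M.IsPrime := hM.2.1.isPrime
  letI : Fintype ↥H₁ := Fintype.ofFinite _
  obtain ⟨Q₁, hQ₁c, hQ₁sup, hQ₁idx⟩ := hyp_subgroup N hidx Q hsup H₁ hN1
  letI : Fintype ↥(N.subgroupOf H₁) := Fintype.ofFinite _
  -- restrictions to `N`
  have hresN : ∀ n : ↥(N.subgroupOf H₁), η n = (ψ : ↥H₁ → ℂ) n := by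
    intro n
    have hn : ((n : ↥H₁) : X) ∈ N := Subgroup.mem_subgroupOf.1 n.2
    exact hres ⟨((n : ↥H₁) : X), hn⟩
  have hψN' : IsIrrCharacter ↥(N.subgroupOf H₁) (fun n : ↥(N.subgroupOf H₁) => (ψ : ↥H₁ → ℂ) n) := by
    have := isIrrCharacter_comp_mulEquiv (Subgroup.subgroupOfEquivOfLe hN1) hψN
    have heq : (fun n : ↥(N.subgroupOf H₁) => (ψ : ↥H₁ → ℂ) n) =
        fun h : ↥(N.subgroupOf H₁) => (ψ : ↥H₁ → ℂ)
          ⟨((Subgroup.subgroupOfEquivOfLe hN1 h : ↥N) : X), hN1 (Subgroup.subgroupOfEquivOfLe hN1 h).2⟩ := by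
      funext n
      rfl
    rw [heq]
    exact this
  have hηN' : IsIrrCharacter ↥(N.subgroupOf H₁) (fun n : ↥(N.subgroupOf H₁) => η n) := by
    have : (fun n : ↥(N.subgroupOf H₁) => η n) = fun n : ↥(N.subgroupOf H₁) => (ψ : ↥H₁ → ℂ) n :=
      funext hresN
    rw [this]
    exact hψN'
  have hηirr : IsIrrCharacter ↥H₁ η :=
    Cfsg.Agent.Lib.helper3.CycExt.isIrrCharacter_of_restrict (N.subgroupOf H₁) hηchar hηN'
  obtain ⟨β, hβc, hβ1, hβN, hβη⟩ := exists_linear_mul_of_restrict_eq (N.subgroupOf H₁)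
    (ψ : ↥H₁ → ℂ) η ψ.2 hηirr hψN' hresN
  -- `β ≡ 1` on the centralizer
  have h11 : η 1 = (ψ : ↥H₁ → ℂ) 1 := hres 1
  have hβcent : ∀ c ∈ Subgroup.centralizer ((Q₁ : Subgroup ↥H₁) : Set ↥H₁),
      MemLocalIdeal M (β c - 1) := by
    intro c hc
    have hcX := (hQ₁c c).1 hc
    have hu := princ_ratio hM Q₁ c hc ψ hψ
    have hv := hηc c hcX
    rw [h11, hβη, Pi.mul_apply] at hv
    have hβint : IsIntegral ℤ (β c) :=
      Cfsg.Agent.Lib.helper3.Lin.isIntegral_of_isCharacter hβc c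
    have h3 : β c - 1 = (β c * (ψ : ↥H₁ → ℂ) c / (ψ : ↥H₁ → ℂ) 1 - 1)
        - β c * ((ψ : ↥H₁ → ℂ) c / (ψ : ↥H₁ → ℂ) 1 - 1) := by ring
    rw [h3]
    exact memLocalIdeal_sub hv (memLocalIdeal_mul_integral hu hβint)
  have hβone := linear_eq_one hM (N.subgroupOf H₁) hQ₁idx Q₁ hQ₁sup β hβc hβ1 hβN hβcent
  intro h
  rw [hβη, Pi.mul_apply, hβone h, one_mul]

/-- **Lemma R'**: compatibility of the principal-block extensions on intermediate subgroups. -/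
theorem lemma_R {X : Type u} [Group X] [Finite X] (hM : IsPModular p M) (N : Subgroup X)
    [N.Normal] (hidx : ¬ p ∣ N.index) (Q : Sylow p X)
    (hsup : N ⊔ Subgroup.centralizer ((Q : Subgroup X) : Set X) = ⊤)
    (H₁ H₂ : Subgroup X) (hN1 : N ≤ H₁) (h12 : H₁ ≤ H₂)
    (χ : IrrCharacter ↥H₂) (hχ : χ ∈ principalBlock M ↥H₂)
    (ψ : IrrCharacter ↥H₁) (hψ : ψ ∈ principalBlock M ↥H₁)
    (hψN : IsIrrCharacter ↥N (fun n : N => (ψ : ↥H₁ → ℂ) ⟨n, hN1 n.2⟩))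
    (hres : ∀ n : N, (χ : ↥H₂ → ℂ) ⟨n, h12 (hN1 n.2)⟩ = (ψ : ↥H₁ → ℂ) ⟨n, hN1 n.2⟩) :
    ∀ h : H₁, (χ : ↥H₂ → ℂ) ⟨h, h12 h.2⟩ = (ψ : ↥H₁ → ℂ) h := by
  obtain ⟨Q₂, hQ₂c, -, -⟩ := hyp_subgroup N hidx Q hsup H₂ (hN1.trans h12)
  refine lemma_R_core hM N hidx Q hsup H₁ hN1 ψ hψ hψN
    (fun h => (χ : ↥H₂ → ℂ) (Subgroup.inclusion h12 h))
    (isCharacter_comp (isCharacter_of_isIrrCharacter χ.2) (Subgroup.inclusion h12)) hres ?_
  intro c hcX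
  have hc₂ : (⟨(c : X), h12 c.2⟩ : ↥H₂) ∈
      Subgroup.centralizer ((Q₂ : Subgroup ↥H₂) : Set ↥H₂) := (hQ₂c _).2 hcX
  exact princ_ratio hM Q₂ _ hc₂ χ hχ

/-- Lemma R' for a character of the whole group. -/
theorem lemma_R_top {X : Type u} [Group X] [Finite X] (hM : IsPModular p M) (N : Subgroup X)
    [N.Normal] (hidx : ¬ p ∣ N.index) (Q : Sylow p X)
    (hsup : N ⊔ Subgroup.centralizer ((Q : Subgroup X) : Set X) = ⊤)
    (H₁ : Subgroup X) (hN1 : N ≤ H₁)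
    (χ : IrrCharacter X) (hχ : χ ∈ principalBlock M X)
    (ψ : IrrCharacter ↥H₁) (hψ : ψ ∈ principalBlock M ↥H₁)
    (hψN : IsIrrCharacter ↥N (fun n : N => (ψ : ↥H₁ → ℂ) ⟨n, hN1 n.2⟩))
    (hres : ∀ n : N, (χ : X → ℂ) n = (ψ : ↥H₁ → ℂ) ⟨n, hN1 n.2⟩) :
    ∀ h : H₁, (χ : X → ℂ) h = (ψ : ↥H₁ → ℂ) h := by
  refine lemma_R_core hM N hidx Q hsup H₁ hN1 ψ hψ hψN
    (fun h => (χ : X → ℂ) h)
    (isCharacter_restrict (isCharacter_of_isIrrCharacter χ.2) H₁) hres ?_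
  intro c hcX
  exact princ_ratio hM Q _ hcX χ hχ

end Cfsg.Agent.Lib.Helper4.AD
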