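import Mathlib
import Cfsg.Prelude.Def_Blocks
import Cfsg.Agent.Lib.helper3.ADB0

/-!
# S4892 (p-rational extension in the principal block): shared definitions (helper4)

`Good p N J`      : `N ≤ J` and `p ∤ |J : N|`.
`HypAt p N J`     : the hypotheses of S4551 for the pair `(↥J, N.subgroupOf J)`.
`Agrees M p N θ η`: the function `η : G → ℂ` agrees, on every good `J`, with every principal-block
                    extension of `θ` to `J`.
`PRn n m f`       : `f (x ^ k) = f x` for all `k` coprime to `n` with `k ≡ 1 [MOD m]`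
                    (used with `n = |G| = p ^ b * m`, `p ∤ m`).
-/

set_option autoImplicit false

namespace Cfsg.Agent.Lib.Helper4.PRX

open Cfsg

universe u

variable {G : Type u} [Group G]

/-- `J` contains `N` with index prime to `p`. -/
def Good (p : ℕ) (N J : Subgroup G) : Prop := N ≤ J ∧ ¬ p ∣ N.relIndex J

/-- The hypotheses of S4551 for the pair `(↥J, N.subgroupOf J)`. -/
def HypAt (p : ℕ) (N J : Subgroup G) : Prop :=
  ¬ p ∣ (N.subgroupOf J).index ∧
    ∃ Q' : Sylow p ↥J,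
      N.subgroupOf J ⊔ Subgroup.centralizer ((Q' : Subgroup ↥J) : Set ↥J) = ⊤

/-- `η` restricts, on every good subgroup, to the principal-block extensions of `θ`. -/
def Agrees (M : Ideal AlgInt) (p : ℕ) (N : Subgroup G) (θ : IrrCharacter ↥N) (η : G → ℂ) :
    Prop :=
  ∀ (J : Subgroup G) (hNJ : N ≤ J), ¬ p ∣ N.relIndex J →
    ∀ ψ : IrrCharacter ↥J, ψ ∈ principalBlock M ↥J →
      (∀ n : N, (ψ : ↥J → ℂ) ⟨n, hNJ n.2⟩ = (θ : ↥N → ℂ) n) →
        ∀ h : J, η h = (ψ : ↥J → ℂ) h

/-- invariance under the power maps `x ↦ x ^ k`, `k` coprime to `n`, `k ≡ 1 [MOD m]`. -/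
def PRn {X : Type*} [Monoid X] (n m : ℕ) (f : X → ℂ) : Prop :=
  ∀ k : ℕ, k.Coprime n → k ≡ 1 [MOD m] → ∀ x : X, f (x ^ k) = f x

end Cfsg.Agent.Lib.Helper4.PRX
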