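import Mathlib
import Cfsg.Agent.Lib.Helper4.PRX0

set_option autoImplicit false
set_option linter.style.haveILetI false
set_option linter.unusedSectionVars false
set_option maxHeartbeats 1000000

/-!
# S4892, piece P-B: good subgroups satisfy the hypotheses of S4551 (helper4)
-/

namespace Cfsg.Agent.Lib.Helper4.PRX

universe u

variable {G : Type u} [Group G] [Finite G] {p : ℕ} [hp : Fact p.Prime]

/-- conjugation by an element normalizing `S` preserves the centralizer of `S`. -/
theorem conj_mem_centralizer_of_mem_normalizer (S : Subgroup G) (x : G)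
    (hx : x ∈ Subgroup.normalizer (S : Set G)) (c : G)
    (hc : c ∈ Subgroup.centralizer (S : Set G)) :
    x * c * x⁻¹ ∈ Subgroup.centralizer (S : Set G) := by
  rw [Subgroup.mem_centralizer_iff] at hc ⊢
  intro q hq
  have hq' : x⁻¹ * q * x ∈ (S : Set G) := by
    have h1 := (Subgroup.mem_normalizer_iff.1 hx (x⁻¹ * q * x))
    apply h1.2
    have : x * (x⁻¹ * q * x) * x⁻¹ = q := by group
    rw [this]
    exact hq
  have h2 := hc _ hq'
  calc q * (x * c * x⁻¹) = x * ((x⁻¹ * q * x) * c) * x⁻¹ := by group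
    _ = x * (c * (x⁻¹ * q * x)) * x⁻¹ := by rw [h2]
    _ = x * c * x⁻¹ * q := by group

/-- `N ⊔ C_G(Q̃)` is normal in `G` (Frattini). -/
theorem normal_sup_centralizer (N : Subgroup G) [hN : N.Normal] (Q : Sylow p ↥N) :
    (N ⊔ Subgroup.centralizer (((Q : Subgroup ↥N).map N.subtype : Subgroup G) : Set G)).Normal := by
  set S : Subgroup G := (Q : Subgroup ↥N).map N.subtype with hS
  set G₁ : Subgroup G := N ⊔ Subgroup.centralizer (S : Set G) with hG₁
  have hfr : Subgroup.normalizer (S : Set G) ⊔ N = ⊤ := Sylow.normalizer_sup_eq_top Q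
  -- conjugation by elements of the normalizer of `S` preserves `G₁`
  have key : ∀ x ∈ Subgroup.normalizer (S : Set G), ∀ h ∈ G₁, x * h * x⁻¹ ∈ G₁ := by
    intro x hx h hh
    rw [hG₁, ← SetLike.mem_coe, Subgroup.normal_mul] at hh
    obtain ⟨n, hn, c, hc, rfl⟩ := Set.mem_mul.1 hh
    have e : x * (n * c) * x⁻¹ = (x * n * x⁻¹) * (x * c * x⁻¹) := by group
    rw [e]
    exact Subgroup.mul_mem_sup (hN.conj_mem n hn x)
      (conj_mem_centralizer_of_mem_normalizer S x hx c hc)
  constructor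
  intro h hh g
  have hg : g ∈ ((Subgroup.normalizer (S : Set G) ⊔ N : Subgroup G) : Set G) := by
    rw [hfr]
    exact Subgroup.mem_top g
  rw [Subgroup.mul_normal] at hg
  obtain ⟨x, hx, n, hn, rfl⟩ := Set.mem_mul.1 hg
  have hn' : n ∈ G₁ := (le_sup_left : N ≤ G₁) hn
  have h1 : n * h * n⁻¹ ∈ G₁ := G₁.mul_mem (G₁.mul_mem hn' hh) (G₁.inv_mem hn')
  have e : x * n * h * (x * n)⁻¹ = x * (n * h * n⁻¹) * x⁻¹ := by group
  rw [e]
  exact key x hx _ h1

/-- a good subgroup is contained in `G₁ = N ⊔ C_G(Q̃)` when `|G : G₁|` is a power of `p`. -/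
theorem good_le (N : Subgroup G) [hN : N.Normal] (G₁ : Subgroup G) [hG₁ : G₁.Normal]
    (hNG : N ≤ G₁) (a : ℕ) (hidx : G₁.index = p ^ a)
    (J : Subgroup G) (hNJ : N ≤ J) (hJ : ¬ p ∣ N.relIndex J) : J ≤ G₁ := by
  intro x hx
  rw [← QuotientGroup.eq_one_iff]
  have h1 : orderOf (x : G ⧸ G₁) ∣ p ^ a := by
    rw [← hidx, Subgroup.index_eq_card]
    exact orderOf_dvd_natCard _
  have h2 : orderOf (x : G ⧸ G₁) ∣ N.relIndex J := by
    apply orderOf_dvd_of_pow_eq_one
    rw [← QuotientGroup.mk_pow, QuotientGroup.eq_one_iff]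
    apply hNG
    haveI : (N.subgroupOf J).Normal := Subgroup.normal_subgroupOf
    have := Subgroup.pow_index_mem (N.subgroupOf J) (⟨x, hx⟩ : ↥J)
    rw [Subgroup.mem_subgroupOf] at this
    exact this
  have hcop : Nat.Coprime (p ^ a) (N.relIndex J) :=
    Nat.Coprime.pow_left a ((Nat.Prime.coprime_iff_not_dvd hp.out).2 hJ)
  have h3 : orderOf (x : G ⧸ G₁) = 1 := Nat.eq_one_of_dvd_coprimes hcop h1 h2
  exact orderOf_eq_one_iff.1 h3

/-- **(P-B)** a good subgroup `J` satisfies the hypotheses of S4551 relative to `N`. -/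
theorem good_hypAt (N : Subgroup G) [hN : N.Normal] (Q : Sylow p ↥N)
    (hidx : ∃ a : ℕ, (N ⊔ Subgroup.centralizer
      (((Q : Subgroup ↥N).map N.subtype : Subgroup G) : Set G)).index = p ^ a)
    (J : Subgroup G) (hNJ : N ≤ J) (hJ : ¬ p ∣ N.relIndex J) : HypAt p N J := by
  have hpp : p.Prime := hp.out
  obtain ⟨a, ha⟩ := hidx
  set S : Subgroup G := (Q : Subgroup ↥N).map N.subtype with hS
  haveI hG₁n := normal_sup_centralizer N Q
  have hJG₁ : J ≤ N ⊔ Subgroup.centralizer (S : Set G) :=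
    good_le N _ le_sup_left a ha J hNJ hJ
  have hSN : S ≤ N := Subgroup.map_subtype_le _
  have hSJ : S ≤ J := hSN.trans hNJ
  refine ⟨hJ, ?_⟩
  -- cardinalities
  have hcS : Nat.card S = p ^ (Nat.card N).factorization p := by
    rw [hS, Subgroup.card_map_of_injective N.subtype_injective]
    exact Q.card_eq_multiplicity
  have hcJ : Nat.card J = Nat.card N * N.relIndex J := by
    rw [← Subgroup.card_mul_index (N.subgroupOf J)]
    congr 1
    exact Nat.card_congr (Subgroup.subgroupOfEquivOfLe hNJ).toEquiv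
  have hrel0 : N.relIndex J ≠ 0 := by
    intro h0
    apply hJ
    rw [h0]
    exact dvd_zero p
  have hfac : (Nat.card J).factorization p = (Nat.card N).factorization p := by
    rw [hcJ, Nat.factorization_mul Nat.card_pos.ne' hrel0, Finsupp.add_apply,
      Nat.factorization_eq_zero_of_not_dvd hJ, add_zero]
  have hcSJ : Nat.card (S.subgroupOf J) = p ^ (Nat.card J).factorization p := by
    rw [hfac, ← hcS]
    exact Nat.card_congr (Subgroup.subgroupOfEquivOfLe hSJ).toEquiv
  refine ⟨Sylow.ofCard (S.subgroupOf J) hcSJ, ?_⟩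
  rw [Sylow.coe_ofCard, eq_top_iff]
  intro x _
  have hx : (x : G) ∈ ((N ⊔ Subgroup.centralizer (S : Set G) : Subgroup G) : Set G) := hJG₁ x.2
  rw [Subgroup.normal_mul] at hx
  obtain ⟨n, hn, c, hc, hxe⟩ := Set.mem_mul.1 hx
  have hcJ' : c ∈ J := by
    have : c = n⁻¹ * (x : G) := by rw [← hxe]; group
    rw [this]
    exact J.mul_mem (J.inv_mem (hNJ hn)) x.2
  have hx' : x = (⟨n, hNJ hn⟩ : ↥J) * ⟨c, hcJ'⟩ := Subtype.ext hxe.symm
  rw [hx']
  apply Subgroup.mul_mem_sup
  · rw [Subgroup.mem_subgroupOf]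
    exact hn
  · rw [Subgroup.mem_centralizer_iff]
    intro q hq
    have hq' : (q : G) ∈ S := by
      have : q ∈ S.subgroupOf J := hq
      rwa [Subgroup.mem_subgroupOf] at this
    have hc' : c ∈ Subgroup.centralizer (S : Set G) := hc
    rw [Subgroup.mem_centralizer_iff] at hc'
    exact Subtype.ext (hc' (q : G) hq')

end Cfsg.Agent.Lib.Helper4.PRX
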