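import Mathlib
import Cfsg.Agent.Lib.Helper4.BG14E

/-!
Bender–Glauberman §14, helper4: construction of `KData` when some `τ₃(M)`-subgroup of prime order
has fixed points on `M_σ` ("Case B" = Setup N), from Theorem T and Lemma B (helper7) as
hypotheses `HypT`, `HypB`.  Here `K = E` is a complement of `M_σ` and `U = 1`.
-/

set_option autoImplicit false
set_option linter.unusedSectionVars false
set_option linter.unusedVariables false
set_option linter.style.haveILetI false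
set_option maxHeartbeats 1000000
open Cfsg
open scoped commutatorElement Pointwise

namespace Cfsg.Agent.Lib.Helper4.BG14

open Cfsg.Agent.Lib.Helper7 (IsSylowIn exists_isSylowIn_ge card_subgroupOf_of_le)
open Cfsg.Agent.Lib.Helper8.BGTen Cfsg.Agent.Lib.Helper4.BGTrans
open Cfsg.Agent.Lib.helper3.BG11 Cfsg.Agent.Lib.helper3.BG12 Cfsg.Agent.Lib.Helper4.BG13

universe u

/-- Theorem T (helper7): in Setup N there is no `τ₂`-prime and `E` acts semiprimely on `M_σ` -/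
def HypT (G : Type u) [Group G] : Prop :=
  ∀ (M : Subgroup G), IsCoatom M → ∀ (E : Subgroup G), Cfsg.IsComplIn E (Cfsg.sigmaCore M) M →
    ∀ (r : ℕ), r ∈ Cfsg.tau3 M → ∀ (R : Subgroup G), R ≤ E → Nat.card R = r →
    Cfsg.sigmaCore M ⊓ Subgroup.centralizer (R : Set G) ≠ ⊥ →
    (∀ q : ℕ, q ∉ Cfsg.tau2 M) ∧ ∀ e ∈ E, e ≠ 1 →
      Cfsg.sigmaCore M ⊓ Subgroup.centralizer ({e} : Set G) =
        Cfsg.sigmaCore M ⊓ Subgroup.centralizer (E : Set G)

/-- Lemma B (helper7): in Setup N every `τ₁`-subgroup of prime order of `E` centralizes `R` -/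
def HypB (G : Type u) [Group G] : Prop :=
  ∀ (M : Subgroup G), IsCoatom M → ∀ (E : Subgroup G), Cfsg.IsComplIn E (Cfsg.sigmaCore M) M →
    ∀ (r : ℕ), r ∈ Cfsg.tau3 M → ∀ (R : Subgroup G), R ≤ E → Nat.card R = r →
    Cfsg.sigmaCore M ⊓ Subgroup.centralizer (R : Set G) ≠ ⊥ →
    ∀ (p : ℕ), p ∈ Cfsg.tau1 M → ∀ (P : Subgroup G), P ≤ E → Nat.card P = p →
    R ≤ Subgroup.centralizer (P : Set G)

variable {G : Type u} [Group G] [Finite G]

/-- a group `P` of prime order `p` normalizing an abelian `p'`-group `U` and centralizing all its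
subgroups of prime order centralizes `U` -/
theorem le_centralizer_of_prime_subgroups {U P : Subgroup G} {p : ℕ} [hp : Fact p.Prime]
    (hUab : ∀ a ∈ U, ∀ b ∈ U, a * b = b * a)
    (hPU : P ≤ Subgroup.normalizer (U : Set G)) (hPc : Nat.card ↥P = p)
    (hpU : ¬ p ∣ Nat.card ↥U)
    (h : ∀ R : Subgroup G, R ≤ U → (Nat.card ↥R).Prime → R ≤ Subgroup.centralizer (P : Set G)) :
    U ≤ Subgroup.centralizer (P : Set G) := by
  intro u₀ hu₀
  rw [Subgroup.mem_centralizer_iff]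
  intro b hb
  by_contra hne
  have hbU : ∀ x ∈ U, b * x * b⁻¹ ∈ U := fun x hx =>
    (Subgroup.mem_normalizer_iff.mp (hPU hb) x).mp hx
  have hz₀U : b * u₀ * b⁻¹ * u₀⁻¹ ∈ U := U.mul_mem (hbU u₀ hu₀) (U.inv_mem hu₀)
  have hz₀1 : b * u₀ * b⁻¹ * u₀⁻¹ ≠ 1 := by
    intro h0
    exact hne (mul_inv_eq_iff_eq_mul.mp (mul_inv_eq_one.mp h0))
  set z₀ := b * u₀ * b⁻¹ * u₀⁻¹ with hz₀
  have hn1 : orderOf z₀ ≠ 1 := fun h0 => hz₀1 (orderOf_eq_one_iff.mp h0)
  obtain ⟨r, hr, hrn⟩ := Nat.exists_prime_and_dvd hn1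
  have hn0 : orderOf z₀ ≠ 0 := (orderOf_pos z₀).ne'
  set m := orderOf z₀ / r with hm
  have hzo : orderOf (z₀ ^ m) = r := orderOf_pow_orderOf_div hn0 hrn
  have hzU : z₀ ^ m ∈ U := U.pow_mem hz₀U m
  have huU : u₀ ^ m ∈ U := U.pow_mem hu₀ m
  -- `b u b⁻¹ = z u`
  have hconj₀ : b * u₀ * b⁻¹ = z₀ * u₀ := by rw [hz₀]; group
  have hconj : b * u₀ ^ m * b⁻¹ = z₀ ^ m * u₀ ^ m := by
    rw [← conj_pow, hconj₀]
    exact (Commute.mul_pow (show Commute z₀ u₀ from hUab z₀ hz₀U u₀ hu₀) m)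
  -- `b` centralizes `z`
  have hR : Subgroup.zpowers (z₀ ^ m) ≤ Subgroup.centralizer (P : Set G) := by
    apply h
    · rw [Subgroup.zpowers_le]; exact hzU
    · rw [Nat.card_zpowers, hzo]; exact hr
  have hbz : b * z₀ ^ m = z₀ ^ m * b :=
    Subgroup.mem_centralizer_iff.mp (hR (Subgroup.mem_zpowers _)) b hb
  have hbz' : b * z₀ ^ m * b⁻¹ = z₀ ^ m := by rw [hbz]; group
  -- iterate
  have hiter : ∀ i : ℕ, b ^ i * u₀ ^ m * (b ^ i)⁻¹ = (z₀ ^ m) ^ i * u₀ ^ m := by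
    intro i
    induction i with
    | zero => simp
    | succ i ih =>
      have e : b ^ (i + 1) * u₀ ^ m * (b ^ (i + 1))⁻¹ =
          b * (b ^ i * u₀ ^ m * (b ^ i)⁻¹) * b⁻¹ := by
        rw [pow_succ']; group
      rw [e, ih]
      have e2 : b * ((z₀ ^ m) ^ i * u₀ ^ m) * b⁻¹ =
          (b * z₀ ^ m * b⁻¹) ^ i * (b * u₀ ^ m * b⁻¹) := by
        rw [conj_pow]; group
      rw [e2, hbz', hconj, pow_succ, mul_assoc]
  have hbp : b ^ p = 1 := by
    have := pow_card_eq_one' (G := ↥P) (x := ⟨b, hb⟩)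
    rw [hPc] at this
    exact congrArg Subtype.val this
  have h1 := hiter p
  rw [hbp] at h1
  have hzp : (z₀ ^ m) ^ p = 1 := by
    have : (z₀ ^ m) ^ p * u₀ ^ m = u₀ ^ m := by rw [← h1]; group
    exact mul_eq_right.mp this
  have hrp : r ∣ p := by rw [← hzo]; exact orderOf_dvd_of_pow_eq_one hzp
  have hrp' : r = p := (Nat.prime_dvd_prime_iff_eq hr hp.out).mp hrp
  apply hpU
  rw [← hrp', ← hzo]
  have := orderOf_dvd_natCard (⟨z₀ ^ m, hzU⟩ : ↥U)
  rwa [Subgroup.orderOf_mk] at this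

/-- **Case B** (Setup N): some `τ₃(M)`-subgroup `R` of prime order of `M` has fixed points on
`M_σ`. -/
theorem exists_kdata_caseB (hG : Cfsg.IsMinSimpleOddOrder G) (hT : HypT G) (hB : HypB G)
    {M K : Subgroup G} (hM : IsCoatom M) (hK : Cfsg.IsPiHallOf (Cfsg.kappa M) K M) (hK1 : K ≠ ⊥)
    {r : ℕ} (hr : r ∈ Cfsg.tau3 M) {R₀ : Subgroup G} (hR₀M : R₀ ≤ M) (hR₀c : Nat.card ↥R₀ = r)
    (hD₀ : Cfsg.sigmaCore M ⊓ Subgroup.centralizer (R₀ : Set G) ≠ ⊥) :
    ∃ E U : Subgroup G, KData M K E U := by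
  haveI hrf : Fact r.Prime := ⟨hr.1⟩
  have hKM := hK.1
  have hcop : (Nat.card ↥K).Coprime (Nat.card ↥(Cfsg.sigmaCore M)) := by
    apply Nat.coprime_of_dvd
    intro q hq hd1 hd2
    exact (hK.2.1 q hq hd1).2.2.1 (Cfsg.Agent.H2.BG11.mem_sigma_of_dvd_sigmaCore hG hM hq hd2)
  obtain ⟨E₀, hE₀⟩ := exists_compl hG hM
  obtain ⟨m, hm, hKE⟩ := Cfsg.Agent.H2.BG12.exists_cj_compl_ge hG hM hE₀ hKM hcop
  have hE := Cfsg.Agent.H2.BG12.compl_cj hE₀ hm
  generalize cj m E₀ = E at hKE hE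
  have hEM : E ≤ M := hE.1
  have hsolvE : Group.IsSolvable ↥E := isSolvable_of_le_coatom hG hM hEM
  -- move `R₀` into `E`
  have hcopR : (Nat.card ↥R₀).Coprime (Nat.card ↥(Cfsg.sigmaCore M)) := by
    rw [hR₀c, Nat.Prime.coprime_iff_not_dvd hr.1]
    intro hd
    exact hr.2.1 (Cfsg.Agent.H2.BG11.mem_sigma_of_dvd_sigmaCore hG hM hr.1 hd)
  obtain ⟨n, hn, hR₀E⟩ := Cfsg.Agent.H2.BG12.exists_cj_compl_ge hG hM hE hR₀M hcopR
  have hRE : cj n⁻¹ R₀ ≤ E := by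
    have := cj_mono n⁻¹ hR₀E
    rwa [cj_inv_cj] at this
  have hRc : Nat.card ↥(cj n⁻¹ R₀) = r := by rw [card_cj, hR₀c]
  have hD : Cfsg.sigmaCore M ⊓ Subgroup.centralizer ((cj n⁻¹ R₀ : Subgroup G) : Set G) ≠ ⊥ := by
    obtain ⟨y, hy, hy1⟩ := exists_ne_one_of_ne_bot hD₀
    intro h0
    have hy' : n⁻¹ * y * n ∈ Cfsg.sigmaCore M ⊓
        Subgroup.centralizer ((cj n⁻¹ R₀ : Subgroup G) : Set G) := by
      refine Subgroup.mem_inf.mpr ⟨?_, ?_⟩
      · have := (Subgroup.mem_normalizer_iff.mp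
          (Cfsg.Agent.H2.BG11.le_normalizer_sigmaCore M (M.inv_mem hn)) y).mp hy.1
        simpa using this
      · rw [← cj_centralizer, mem_cj]
        have e : n⁻¹⁻¹ * (n⁻¹ * y * n) * n⁻¹ = y := by group
        rw [e]; exact hy.2
    rw [h0, Subgroup.mem_bot] at hy'
    apply hy1
    have : y = n * (n⁻¹ * y * n) * n⁻¹ := by group
    rw [this, hy']; group
  generalize cj n⁻¹ R₀ = R at hRE hRc hD
  obtain ⟨hT2, hsemi⟩ := hT M hM E hE r hr R hRE hRc hD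
  have hR1 : R ≠ ⊥ := by
    intro h0
    rw [h0, Subgroup.card_bot] at hRc
    exact hr.1.one_lt.ne hRc
  -- `D = C_{M_σ}(E) ≠ 1`
  have hDE : Cfsg.sigmaCore M ⊓ Subgroup.centralizer (E : Set G) ≠ ⊥ := by
    obtain ⟨e, heR, he1⟩ := exists_ne_one_of_ne_bot hR1
    rw [← hsemi e (hRE heR) he1]
    intro h0
    apply hD
    rw [eq_bot_iff, ← h0]
    exact inf_le_inf_left _ (Subgroup.centralizer_le (Set.singleton_subset_iff.mpr heR))
  have hfix : ∀ Q : Subgroup G, Q ≤ E →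
      Cfsg.sigmaCore M ⊓ Subgroup.centralizer (Q : Set G) ≠ ⊥ := by
    intro Q hQE h0
    apply hDE
    rw [eq_bot_iff, ← h0]
    exact inf_le_inf_left _ (Subgroup.centralizer_le hQE)
  -- primes of `E`
  have hEpr : ∀ q : ℕ, q.Prime → q ∣ Nat.card ↥E →
      q ∈ Cfsg.kappa M ∧ (q ∈ Cfsg.tau1 M ∨ q ∈ Cfsg.tau3 M) := by
    intro q hq hd
    haveI : Fact q.Prime := ⟨hq⟩
    obtain ⟨x, hx⟩ := exists_prime_orderOf_dvd_card' (G := ↥E) q hd
    have hQc : Nat.card ↥(Subgroup.zpowers (x : G)) = q := by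
      rw [Nat.card_zpowers, Subgroup.orderOf_coe, hx]
    have hQE : Subgroup.zpowers (x : G) ≤ E := by rw [Subgroup.zpowers_le]; exact x.2
    have hqσ : q ∉ Cfsg.sigma M := Cfsg.Agent.H2.BG12.not_mem_sigma_of_dvd_compl hG hM hE hq hd
    have hqM : q ∣ Nat.card ↥M := hd.trans (Subgroup.card_dvd_of_le hEM)
    have hτ : q ∈ Cfsg.tau1 M ∨ q ∈ Cfsg.tau3 M := by
      rcases Cfsg.Agent.H2.BG13.tau_cases hG hM hq hqM hqσ with h | h | h
      · exact Or.inl h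
      · exact absurd h (hT2 q)
      · exact Or.inr h
    have hrk : Cfsg.PRankLE q 1 ↥M := by
      rcases hτ with h | h
      · exact h.2.2.2.2
      · exact h.2.2.2
    exact ⟨mem_kappa_of_fixed hG hqσ hrk (hQE.trans hEM) hQc (hfix _ hQE), hτ⟩
  -- `K = E`
  have hKeq : E = K := by
    apply le_antisymm _ hKE
    rw [← Subgroup.relIndex_eq_one]
    by_contra hne
    obtain ⟨q, hq, hqd⟩ := Nat.exists_prime_and_dvd hne
    have h1 : q ∣ Nat.card ↥E := hqd.trans (Subgroup.relIndex_dvd_card K E)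
    have h2 : K.relIndex E ∣ K.relIndex M :=
      Dvd.intro _ (Subgroup.relIndex_mul_relIndex K E M hKE hEM)
    exact hK.2.2 q hq (hEpr q hq h1).1 (hqd.trans h2)
  subst hKeq
  have hE1 : E ≠ ⊥ := hK1
  -- the Hall `τ₃`-subgroup `E₃` and Hall `τ₁`-subgroups
  obtain ⟨E₃, hE₃, -, -⟩ := Cfsg.Agent.H1.coprime_hall_contain (⊥ : Subgroup G) E ⊥
    (Cfsg.tau1 M)ᶜ bot_le (by rw [Subgroup.card_bot]; exact Nat.coprime_one_left _) hsolvE bot_le
    bot_le (fun q hq hd => by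
      rw [Subgroup.card_bot] at hd
      exact absurd (Nat.dvd_one.mp hd) hq.one_lt.ne')
  have hτ13 : ∀ q : ℕ, q ∈ Cfsg.tau3 M → q ∉ Cfsg.tau1 M := fun q h3 h1 => h1.2.2.2.1 h3.2.2.1
  have hE₃' : Cfsg.IsPiHallOf (Cfsg.tau3 M) E₃ E := by
    refine ⟨hE₃.1, ?_, ?_⟩
    · intro q hq hd
      rcases (hEpr q hq (hd.trans (Subgroup.card_dvd_of_le hE₃.1))).2 with h | h
      · exact absurd h ((Set.mem_compl_iff _ _).mp (hE₃.2.1 q hq hd))
      · exact h
    · intro q hq hq3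
      exact hE₃.2.2 q hq ((Set.mem_compl_iff _ _).mpr (hτ13 q hq3))
  obtain ⟨hE₃c, hE₃E', hE₃n⟩ := (Cfsg.Agent.S1415.result hG M hM E hE).2.2 E₃ hE₃'
  have hE₃ab : ∀ a ∈ E₃, ∀ b ∈ E₃, a * b = b * a := by
    intro a ha b hb
    haveI := hE₃c
    exact congrArg Subtype.val (IsCyclic.commGroup.mul_comm (⟨a, ha⟩ : ↥E₃) ⟨b, hb⟩)
  -- `τ₁`-subgroups of prime order are central in `E`
  have hcent : ∀ p ∈ Cfsg.tau1 M, ∀ P : Subgroup G, P ≤ E → Nat.card ↥P = p →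
      E ≤ Subgroup.centralizer (P : Set G) := by
    intro p hp P hPE hPc
    haveI hpf : Fact p.Prime := ⟨hp.1⟩
    obtain ⟨E₁, hE₁, -, hPE₁⟩ := Cfsg.Agent.H1.coprime_hall_contain (⊥ : Subgroup G) E P
      (Cfsg.tau1 M) bot_le (by rw [Subgroup.card_bot]; exact Nat.coprime_one_left _) hsolvE hPE
      bot_le (fun q hq hd => by
        rw [hPc] at hd
        rw [(Nat.prime_dvd_prime_iff_eq hq hp.1).mp hd]; exact hp)
    have hE₁c : IsCyclic ↥E₁ := (Cfsg.Agent.S1415.result hG M hM E hE).2.1 E₁ hE₁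
    have hE₁P : E₁ ≤ Subgroup.centralizer (P : Set G) := by
      intro z hz
      rw [Subgroup.mem_centralizer_iff]
      intro w hw
      haveI := hE₁c
      exact congrArg Subtype.val (IsCyclic.commGroup.mul_comm (⟨w, hPE₁ hw⟩ : ↥E₁) ⟨z, hz⟩)
    have hE₃P : E₃ ≤ Subgroup.centralizer (P : Set G) := by
      apply le_centralizer_of_prime_subgroups hE₃ab (hPE.trans hE₃n) hPc
      · intro hd
        exact (Set.mem_compl_iff _ _).mp (hE₃.2.1 p hp.1 hd) hp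
      · intro R' hR'E₃ hR'p
        have hr' : Nat.card ↥R' ∈ Cfsg.tau3 M :=
          hE₃'.2.1 _ hR'p (Subgroup.card_dvd_of_le hR'E₃)
        exact hB M hM E hE _ hr' R' (hR'E₃.trans hE₃.1) rfl (hfix R' (hR'E₃.trans hE₃.1)) p hp P
          hPE hPc
    have hcard : Nat.card ↥E₃ * Nat.card ↥E₁ = Nat.card ↥E := hall_card_mul hE₃ hE₁
    have hcop31 : (Nat.card ↥E₃).Coprime (Nat.card ↥E₁) := by
      apply Nat.coprime_of_dvd
      intro q hq h1 h2
      exact (Set.mem_compl_iff _ _).mp (hE₃.2.1 q hq h1) (hE₁.2.1 q hq h2)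
    intro e he
    obtain ⟨u, hu, k, hk, rfl⟩ := exists_mul_of_card hE₃.1 hE₁.1 hcard hcop31 e he
    exact Subgroup.mul_mem _ (hE₃P hu) (hE₁P hk)
  -- normalizers of subgroups of prime order
  have hKnorm : ∀ X : Subgroup G, X ≤ E → (Nat.card ↥X).Prime →
      E ≤ Subgroup.normalizer (X : Set G) := by
    intro X hXE hXp
    rcases (hEpr _ hXp (Subgroup.card_dvd_of_le hXE)).2 with h | h
    · exact (hcent _ h X hXE rfl).trans (Subgroup.centralizer_le_normalizer _)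
    · -- `X ≤ E₃`
      obtain ⟨E₃', hE₃'', -, hXE₃⟩ := Cfsg.Agent.H1.coprime_hall_contain (⊥ : Subgroup G) E X
        (Cfsg.tau3 M) bot_le (by rw [Subgroup.card_bot]; exact Nat.coprime_one_left _) hsolvE hXE
        bot_le (fun q hq hd => by
          rw [(Nat.prime_dvd_prime_iff_eq hq hXp).mp hd]; exact h)
      obtain ⟨hc, -, hn⟩ := (Cfsg.Agent.S1415.result hG M hM E hE).2.2 E₃' hE₃''
      exact le_normalizer_of_le_cyclic hc hn hXE₃
  -- a `τ₁`-prime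
  have htau1 : ∃ p ∈ Cfsg.tau1 M, ∃ P : Subgroup G, P ≤ E ∧ Nat.card ↥P = p := by
    by_contra hcon
    push Not at hcon
    have hall3 : Cfsg.IsPiHallOf (Cfsg.tau3 M) E E := by
      refine ⟨le_rfl, ?_, ?_⟩
      · intro q hq hd
        rcases (hEpr q hq hd).2 with h | h
        · exfalso
          haveI : Fact q.Prime := ⟨hq⟩
          obtain ⟨x, hx⟩ := exists_prime_orderOf_dvd_card' (G := ↥E) q hd
          refine hcon q h (Subgroup.zpowers (x : G)) ?_ ?_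
          · rw [Subgroup.zpowers_le]; exact x.2
          · rw [Nat.card_zpowers, Subgroup.orderOf_coe, hx]
        · exact h
      · intro q hq _ hd
        rw [Subgroup.relIndex_self] at hd
        exact hq.one_lt.ne' (Nat.dvd_one.mp hd)
    have hle : E ≤ ⁅E, E⁆ := ((Cfsg.Agent.S1415.result hG M hM E hE).2.2 E hall3).2.1
    haveI : Nontrivial ↥E := (Subgroup.nontrivial_iff_ne_bot E).mpr hE1
    have hlt : _root_.commutator ↥E < ⊤ := Group.IsSolvable.commutator_lt_top_of_nontrivial ↥E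
    apply hlt.ne
    rw [eq_top_iff]
    intro x _
    have hx : (x : G) ∈ ⁅E, E⁆ := hle x.2
    rw [← Subgroup.map_subtype_commutator E] at hx
    obtain ⟨y, hy, hyx⟩ := hx
    have : y = x := Subtype.ext hyx
    rwa [this] at hy
  -- assemble with `U = ⊥`
  refine ⟨E, ⊥, ⟨hE, le_rfl, bot_le, ?_, bot_inf_eq _, ?_, ?_, hsemi, ?_, ?_, hKnorm, htau1⟩⟩
  · intro e _
    rw [Subgroup.mem_normalizer_iff]
    intro x
    rw [Subgroup.mem_bot, Subgroup.mem_bot]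
    constructor
    · rintro rfl; group
    · intro h0
      have : x = e⁻¹ * (e * x * e⁻¹) * e := by group
      rw [this, h0]; group
  · intro e he
    exact ⟨1, Subgroup.one_mem _, e, he, (one_mul e).symm⟩
  · intro k _ _
    exact bot_inf_eq _
  · refine ⟨⟨fun a b => ?_⟩⟩
    have ha : a = 1 := Subtype.ext (Subgroup.mem_bot.mp a.2)
    have hb : b = 1 := Subtype.ext (Subgroup.mem_bot.mp b.2)
    rw [ha, hb]
  · refine ⟨bot_le, ?_, ?_⟩
    · intro q hq hd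
      rw [Subgroup.card_bot] at hd
      exact absurd (Nat.dvd_one.mp hd) hq.one_lt.ne'
    · intro q hq hqπ hd
      rw [Subgroup.relIndex_bot_left, Cfsg.Agent.H2.BG12.card_compl_mul hE] at hd
      rcases (Nat.Prime.dvd_mul hq).mp hd with h | h
      · exact hqπ.2.1 (hEpr q hq h).1
      · exact hqπ.2.2 (Cfsg.Agent.H2.BG11.mem_sigma_of_dvd_sigmaCore hG hM hq h)

end Cfsg.Agent.Lib.Helper4.BG14
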