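import Mathlib
import Cfsg.Agent.Lib.Helper4.BG14F
import Cfsg.Agent.Lib.Helper8.BG14C3

/-!
Bender–Glauberman §14, helper4: S1430 and S1431 from Theorem T and Lemma B (helper7), as
hypotheses `HypT`, `HypB` (everything else is unconditional).
-/

set_option autoImplicit false
set_option linter.unusedSectionVars false
set_option linter.unusedVariables false
set_option linter.style.haveILetI false
set_option maxHeartbeats 1000000
open Cfsg
open scoped commutatorElement Pointwise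

namespace Cfsg.Agent.Lib.Helper4.BG14

universe u

variable {G : Type u} [Group G] [Finite G]

/-- the data `KData` exists for every nontrivial Hall `κ(M)`-subgroup -/
theorem exists_kdata (hG : Cfsg.IsMinSimpleOddOrder G) (hT : HypT G) (hB : HypB G)
    {M K : Subgroup G} (hM : IsCoatom M) (hK : Cfsg.IsPiHallOf (Cfsg.kappa M) K M) (hK1 : K ≠ ⊥) :
    ∃ E U : Subgroup G, KData M K E U := by
  by_cases hno : ∀ r ∈ Cfsg.tau3 M, ∀ R : Subgroup G, R ≤ M → Nat.card ↥R = r →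
      Cfsg.sigmaCore M ⊓ Subgroup.centralizer (R : Set G) = ⊥
  · exact exists_kdata_caseA hG (Cfsg.Agent.Lib.Helper8.BG14IV.hypPart hG)
      (Cfsg.Agent.Lib.Helper8.BG14IV.hypC3 hG) hM hK hK1 hno
  · push Not at hno
    obtain ⟨r, hr, R, hRM, hRc, hD⟩ := hno
    exact exists_kdata_caseB hG hT hB hM hK hK1 hr hRM hRc hD

/-- **S1430** from Theorem T and Lemma B -/
theorem s1430_of (hG : Cfsg.IsMinSimpleOddOrder G) (hT : HypT G) (hB : HypB G)
    (M : Subgroup G) (hM : IsCoatom M) (K : Subgroup G)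
    (hK : Cfsg.IsPiHallOf (Cfsg.kappa M) K M) (hK1 : K ≠ ⊥) :
    (∀ k ∈ K, k ≠ 1 → Cfsg.sigmaCore M ⊓ Subgroup.centralizer ({k} : Set G) =
      (Cfsg.sigmaCore M ⊓ Subgroup.centralizer (K : Set G))) ∧
    (∃ U : Subgroup G, IsMulCommutative U ∧
      Cfsg.IsPiHallOf {q | q.Prime ∧ q ∉ Cfsg.kappa M ∧ q ∉ Cfsg.sigma M} U M ∧
      K ≤ Subgroup.normalizer (U : Set G) ∧
      ∀ k ∈ K, k ≠ 1 → U ⊓ Subgroup.centralizer ({k} : Set G) = ⊥) ∧
    ∀ X : Subgroup G, X ≤ K → (Nat.card X).Prime →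
      M ⊓ Subgroup.normalizer (X : Set G) =
        K ⊔ (Cfsg.sigmaCore M ⊓ Subgroup.centralizer (K : Set G)) ∧
      M ⊓ Subgroup.normalizer (K : Set G) =
        K ⊔ (Cfsg.sigmaCore M ⊓ Subgroup.centralizer (K : Set G)) ∧
      ∀ Mstar : Subgroup G, IsCoatom Mstar → Subgroup.normalizer (X : Set G) ≤ Mstar →
        X ≤ Cfsg.sigmaCore Mstar := by
  obtain ⟨E, U, h⟩ := exists_kdata hG hT hB hM hK hK1
  exact h.s1430 hG (Cfsg.Agent.Lib.Helper8.BG14IV.hypPart hG)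
    (Cfsg.Agent.Lib.Helper8.BG14IV.hypC3 hG) hM hK hK1

/-- **S1431** from Theorem T and Lemma B -/
theorem s1431_of (hG : Cfsg.IsMinSimpleOddOrder G) (hT : HypT G) (hB : HypB G)
    (M : Subgroup G) (hM : IsCoatom M) (K : Subgroup G)
    (hK : Cfsg.IsPiHallOf (Cfsg.kappa M) K M) (hK1 : K ≠ ⊥) :
    (∀ g : G, g ∉ M → (Cfsg.sigmaCore M ⊓ Subgroup.centralizer (K : Set G)) ⊓
      M.map (MulAut.conj g).toMonoidHom = ⊥) ∧
    (∀ g ∈ M, g ∉ K ⊔ (Cfsg.sigmaCore M ⊓ Subgroup.centralizer (K : Set G)) →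
      K ⊓ K.map (MulAut.conj g).toMonoidHom = ⊥) ∧
    (∀ (p : ℕ), p.Prime →
      p ∣ Nat.card ↥(Cfsg.sigmaCore M ⊓ Subgroup.centralizer (K : Set G)) →
      ∀ S : Sylow p ↥(Cfsg.sigmaCore M),
        Cfsg.InUniqueMaximal ((S : Subgroup ↥(Cfsg.sigmaCore M)).map (Cfsg.sigmaCore M).subtype) ∧
        (S : Subgroup ↥(Cfsg.sigmaCore M)).map (Cfsg.sigmaCore M).subtype ≤ M ∧
        ¬ (S : Subgroup ↥(Cfsg.sigmaCore M)).map (Cfsg.sigmaCore M).subtype ≤
          (Cfsg.sigmaCore M ⊓ Subgroup.centralizer (K : Set G))) ∧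
    ∀ Y : Subgroup G, (∀ p : ℕ, p.Prime → p ∣ Nat.card Y → p ∈ Cfsg.sigma M) →
      Y ⊓ (Cfsg.sigmaCore M ⊓ Subgroup.centralizer (K : Set G)) ≠ ⊥ → Y ≤ Cfsg.sigmaCore M := by
  obtain ⟨E, U, h⟩ := exists_kdata hG hT hB hM hK hK1
  exact h.s1431 hG hM

end Cfsg.Agent.Lib.Helper4.BG14
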