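import Mathlib
import Cfsg.Agent.Lib.Helper4.BG14G
import Cfsg.Agent.Lib.Helper7.AmalgamCritical2
import Cfsg.Agent.S1429

/-!
Bender–Glauberman §14, helper4: **if `U ≠ 1` then the Hall `κ(M)`-subgroup `K` has prime order**
(first clause of S1372; the local half of the exclusion of "triples").

Proof: for `t ∈ π(U)` and `A = Ω₁(O_t(U))`, `C_{M_σ}(A) = 1` (S1429) and `A ⋊ H` is a Frobenius group
for every `1 ≠ H ≤ K`, so the Frobenius formula gives `|M_σ| = |C_{M_σ}(H)|^{|H|} = |K*|^{|H|}`.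
-/

set_option autoImplicit false
set_option linter.unusedSectionVars false
set_option linter.unusedVariables false
set_option linter.style.haveILetI false
set_option maxHeartbeats 1000000
open Cfsg
open scoped commutatorElement Pointwise

namespace Cfsg.Agent.Lib.Helper4.BG14

open Cfsg.Agent.Lib.Helper7 (IsSylowIn exists_isSylowIn_ge card_subgroupOf_of_le)
open Cfsg.Agent.Lib.Helper8.BGTen Cfsg.Agent.Lib.Helper4.BGTrans
open Cfsg.Agent.Lib.helper3.BG11 Cfsg.Agent.Lib.helper3.BG12 Cfsg.Agent.Lib.Helper4.BG13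

universe u

variable {G : Type u} [Group G] [Finite G]

/-- `C_{M_σ}(H) = K*` for `1 ≠ H ≤ K` -/
theorem KData.inf_centralizer_eq {M K E U : Subgroup G} (h : KData M K E U) {H : Subgroup G}
    (hHK : H ≤ K) (hH1 : H ≠ ⊥) :
    Cfsg.sigmaCore M ⊓ Subgroup.centralizer (H : Set G) =
      Cfsg.sigmaCore M ⊓ Subgroup.centralizer (K : Set G) := by
  apply le_antisymm
  · obtain ⟨x, hx, hx1⟩ := exists_ne_one_of_ne_bot hH1
    rw [← h.prime x (hHK hx) hx1]
    exact inf_le_inf_left _ (Subgroup.centralizer_le (Set.singleton_subset_iff.mpr hx))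
  · exact inf_le_inf_left _ (Subgroup.centralizer_le hHK)

/-- `K* ≠ 1` -/
theorem KData.kstar_ne_bot (hG : Cfsg.IsMinSimpleOddOrder G) {M K E U : Subgroup G}
    (hK : Cfsg.IsPiHallOf (Cfsg.kappa M) K M) (hK1 : K ≠ ⊥) (h : KData M K E U) :
    Cfsg.sigmaCore M ⊓ Subgroup.centralizer (K : Set G) ≠ ⊥ := by
  obtain ⟨p, hpf, X, hXK, hXc⟩ := exists_prime_card_le hK1
  have hκ : p ∈ Cfsg.kappa M :=
    hK.2.1 p hpf.out (by rw [← hXc]; exact Subgroup.card_dvd_of_le hXK)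
  have hX1 : X ≠ ⊥ := by
    intro h0
    rw [h0, Subgroup.card_bot] at hXc
    exact hpf.out.one_lt.ne hXc
  rw [← h.inf_centralizer_eq hXK hX1]
  exact kappa_fixed hκ (hXK.trans hK.1) hXc

/-- **(L1)** if `U ≠ 1` then `|K|` is prime -/
theorem KData.card_prime_of_ne_bot (hG : Cfsg.IsMinSimpleOddOrder G) {M K E U : Subgroup G}
    (hM : IsCoatom M) (hK : Cfsg.IsPiHallOf (Cfsg.kappa M) K M) (hK1 : K ≠ ⊥)
    (h : KData M K E U) (hU1 : U ≠ ⊥) : (Nat.card ↥K).Prime := by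
  have hEM : E ≤ M := h.compl.1
  have hUM : U ≤ M := h.UE.trans hEM
  have hcU : Nat.card ↥U ≠ 1 := fun h0 => hU1 (Subgroup.card_eq_one.mp h0)
  obtain ⟨t, ht, htd⟩ := Nat.exists_prime_and_dvd hcU
  haveI htf : Fact t.Prime := ⟨ht⟩
  obtain ⟨-, htκ, htσ⟩ := h.Uhall.2.1 t ht htd
  have htM : t ∣ Nat.card ↥M := htd.trans (Subgroup.card_dvd_of_le hUM)
  have hP1 : ¬ (∀ q : ℕ, q.Prime → q ∣ Nat.card ↥M → q ∉ Cfsg.sigma M → q ∈ Cfsg.kappa M) :=
    fun hall => htκ (hall t ht htM htσ)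
  -- a Sylow `t`-subgroup of `M` inside `U`
  obtain ⟨Ut, hUt, -⟩ := exists_isSylowIn_ge (p := t) (Q := ⊥) (H := U) IsPGroup.of_bot bot_le
  have hfac : (Nat.card ↥U).factorization t = (Nat.card ↥M).factorization t := by
    have h1 : Nat.card ↥M = U.relIndex M * Nat.card ↥U :=
      Cfsg.Agent.H1.card_eq_relIndex_mul_card hUM
    have h2 : ¬ t ∣ U.relIndex M := h.Uhall.2.2 t ht ⟨ht, htκ, htσ⟩
    have hr0 : U.relIndex M ≠ 0 := by
      intro h0
      rw [h0, zero_mul] at h1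
      exact (Nat.card_pos (α := ↥M)).ne' h1
    rw [h1, Nat.factorization_mul hr0 (Nat.card_pos (α := ↥U)).ne']
    simp [Nat.factorization_eq_zero_of_not_dvd h2]
  have hUtM : IsSylowIn t Ut M :=
    Cfsg.Agent.Lib.Helper7.IsSylowIn.of_le_of_factorization hUt hUM hfac
  obtain ⟨R, hR⟩ := Cfsg.Agent.Lib.Helper7.IsSylowIn.exists_sylow_map hUtM
  obtain ⟨-, hCA, -⟩ := Cfsg.Agent.S1429.result hG M hM hP1 t htM
    (fun hx => hx.elim htσ htκ) R
  rw [hR] at hCA
  -- the `K`-invariant subgroup `A`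
  set A : Subgroup G := Subgroup.closure {x : G | x ∈ U ∧ x ^ t = 1} with hA
  have hAU : A ≤ U := by
    rw [hA, Subgroup.closure_le]
    intro x hx
    exact hx.1
  have hCA' : Cfsg.sigmaCore M ⊓ Subgroup.centralizer (A : Set G) = ⊥ := by
    rw [eq_bot_iff, ← hCA]
    refine inf_le_inf_left _ (Subgroup.centralizer_le ?_)
    show (Subgroup.closure {x : G | x ∈ Ut ∧ x ^ t = 1} : Set G) ⊆ A
    have : Subgroup.closure {x : G | x ∈ Ut ∧ x ^ t = 1} ≤ A :=
      Subgroup.closure_mono (fun x hx => ⟨hUt.1 hx.1, hx.2⟩)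
    exact this
  have hA1 : A ≠ ⊥ := by
    obtain ⟨x, hx⟩ := exists_prime_orderOf_dvd_card' (G := ↥U) t htd
    intro h0
    have hxA : (x : G) ∈ A := Subgroup.subset_closure ⟨x.2, by
      rw [← Subgroup.orderOf_coe] at hx
      rw [← hx]; exact pow_orderOf_eq_one _⟩
    rw [h0, Subgroup.mem_bot] at hxA
    have : x = 1 := Subtype.ext hxA
    rw [this, orderOf_one] at hx
    exact ht.one_lt.ne hx
  have hKA : K ≤ Subgroup.normalizer (A : Set G) := by
    intro k hk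
    apply Cfsg.Agent.Lib.Helper4.GTFus.mem_normalizer_of_cj_le
    show A.map (MulAut.conj k).toMonoidHom ≤ A
    rw [Subgroup.map_le_iff_le_comap, hA, Subgroup.closure_le]
    intro x hx
    apply Subgroup.subset_closure
    show k * x * k⁻¹ ∈ U ∧ (k * x * k⁻¹) ^ t = 1
    refine ⟨(Subgroup.mem_normalizer_iff.mp (h.Unorm (h.KE hk)) x).mp hx.1, ?_⟩
    rw [conj_pow, hx.2]; group
  have hsolv : Group.IsSolvable ↥(Cfsg.sigmaCore M) :=
    isSolvable_of_le_coatom hG hM (Cfsg.Agent.H2.BG11.sigmaCore_le M)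
  have hEσ : E ≤ Subgroup.normalizer ((Cfsg.sigmaCore M : Subgroup G) : Set G) :=
    hEM.trans (Cfsg.Agent.H2.BG11.le_normalizer_sigmaCore M)
  -- the Frobenius formula
  have key : ∀ H : Subgroup G, H ≤ K → H ≠ ⊥ →
      Nat.card ↥(Cfsg.sigmaCore M) =
        Nat.card ↥(Cfsg.sigmaCore M ⊓ Subgroup.centralizer (K : Set G)) ^ Nat.card ↥H := by
    intro H hHK hH1
    have hAH : A ⊓ H = ⊥ := by
      rw [eq_bot_iff, ← h.UK]
      exact inf_le_inf hAU hHK
    have hfrob : ∀ r ∈ H, r ≠ 1 → A ⊓ Subgroup.centralizer ({r} : Set G) = ⊥ := by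
      intro r hr hr1
      rw [eq_bot_iff, ← h.reg r (hHK hr) hr1]
      exact inf_le_inf_right _ hAU
    have hcop : (Nat.card ↥(A ⊔ H : Subgroup G)).Coprime (Nat.card ↥(Cfsg.sigmaCore M)) := by
      refine Nat.Coprime.coprime_dvd_left (Subgroup.card_dvd_of_le
        (sup_le (hAU.trans h.UE) (hHK.trans h.KE))) ?_
      exact Cfsg.Agent.H2.BG12.coprime_compl hG hM h.compl
    have hf := Cfsg.Agent.Lib.helper3.BG13.frobenius_formula A H (Cfsg.sigmaCore M) hA1 hH1 hAH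
      (hHK.trans hKA) hfrob hsolv ((hAU.trans h.UE).trans hEσ) ((hHK.trans h.KE).trans hEσ) hcop
    have h1 : Cfsg.sigmaCore M ⊓ (Subgroup.centralizer (A : Set G) ⊓
        Subgroup.centralizer (H : Set G)) = ⊥ := by
      rw [eq_bot_iff, ← hCA']
      exact inf_le_inf_left _ inf_le_left
    rw [h1, hCA', Subgroup.card_bot, one_pow, one_mul, mul_one, h.inf_centralizer_eq hHK hH1] at hf
    exact hf
  obtain ⟨p, hpf, X, hXK, hXc⟩ := exists_prime_card_le hK1
  have hX1 : X ≠ ⊥ := by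
    intro h0
    rw [h0, Subgroup.card_bot] at hXc
    exact hpf.out.one_lt.ne hXc
  have e1 := key K le_rfl hK1
  have e2 := key X hXK hX1
  rw [e1, hXc] at e2
  have hks : 2 ≤ Nat.card ↥(Cfsg.sigmaCore M ⊓ Subgroup.centralizer (K : Set G)) := by
    have h0 := h.kstar_ne_bot hG hK hK1
    have h1 : Nat.card ↥(Cfsg.sigmaCore M ⊓ Subgroup.centralizer (K : Set G)) ≠ 1 :=
      fun h2 => h0 (Subgroup.card_eq_one.mp h2)
    have h2 := Nat.card_pos (α := ↥(Cfsg.sigmaCore M ⊓ Subgroup.centralizer (K : Set G)))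
    omega
  have := Nat.pow_right_injective hks e2
  rw [this]
  exact hpf.out

end Cfsg.Agent.Lib.Helper4.BG14
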