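import Mathlib
import Cfsg.Agent.Lib.Helper4.BG14H
import Cfsg.Agent.Lib.Helper7.BG13H
import Cfsg.Agent.H2.BG12.G

/-!
Bender–Glauberman §14, helper4: unconditional wrappers.

* `exists_kdata'`: `KData` exists for every nontrivial Hall `κ(M)`-subgroup (Theorem T and Lemma B
  discharged).
* `card_prime_of_isSigmaDecomposition`: `M = K U M_σ`, `K ≠ 1 ≠ U` ⇒ `|K|` is prime
  (lead's Lemma 17.0 = first clause of S1372).
-/

set_option autoImplicit false
set_option linter.unusedSectionVars false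
set_option linter.unusedVariables false
set_option linter.style.haveILetI false
open Cfsg

namespace Cfsg.Agent.Lib.Helper4.BG14

universe u

variable {G : Type u} [Group G] [Finite G]

theorem exists_kdata' (hG : Cfsg.IsMinSimpleOddOrder G) {M K : Subgroup G} (hM : IsCoatom M)
    (hK : Cfsg.IsPiHallOf (Cfsg.kappa M) K M) (hK1 : K ≠ ⊥) :
    ∃ E U : Subgroup G, KData M K E U :=
  exists_kdata hG (Cfsg.Agent.Lib.Helper7.BG13.theoremT hG) (Cfsg.Agent.Lib.Helper7.BG13.lemmaB hG)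
    hM hK hK1

/-- **Lemma 17.0** (first clause of S1372): if `M = K U M_σ` with `K ≠ 1 ≠ U` then `|K|` is prime -/
theorem card_prime_of_isSigmaDecomposition (hG : Cfsg.IsMinSimpleOddOrder G) {M K U : Subgroup G}
    (hM : IsCoatom M) (hKU : Cfsg.IsSigmaDecomposition M K U) (hK1 : K ≠ ⊥) (hU1 : U ≠ ⊥) :
    (Nat.card ↥K).Prime := by
  obtain ⟨E, U', h⟩ := exists_kdata' hG hM hKU.hall hK1
  have hcU : Nat.card ↥U ≠ 1 := fun h0 => hU1 (Subgroup.card_eq_one.mp h0)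
  obtain ⟨t, ht, htd⟩ := Nat.exists_prime_and_dvd hcU
  have htσ := Cfsg.Agent.H2.BG12.not_mem_sigma_of_dvd_U hG hM hKU ht htd
  have htκ := Cfsg.Agent.H2.BG12.not_mem_kappa_of_dvd_U hKU ht htd
  have htM : t ∣ Nat.card ↥M := htd.trans (Subgroup.card_dvd_of_le hKU.compl.1)
  have h1 : Nat.card ↥M = U'.relIndex M * Nat.card ↥U' :=
    Cfsg.Agent.H1.card_eq_relIndex_mul_card h.Uhall.1
  have h2 : ¬ t ∣ U'.relIndex M := h.Uhall.2.2 t ht ⟨ht, htκ, htσ⟩
  have h3 : t ∣ Nat.card ↥U' := by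
    rw [h1] at htM
    exact ((Nat.Prime.dvd_mul ht).mp htM).resolve_left h2
  have hU'1 : U' ≠ ⊥ := by
    rintro rfl
    rw [Subgroup.card_bot] at h3
    exact ht.one_lt.ne' (Nat.dvd_one.mp h3)
  exact h.card_prime_of_ne_bot hG hM hKU.hall hK1 hU'1

/-- with a standard factorisation `M = K U M_σ`, `U ≠ 1`: `|M_σ| = |K*|^{|K|}` -/
theorem KData.kstar_pos (hG : Cfsg.IsMinSimpleOddOrder G) {M K E U : Subgroup G}
    (hK : Cfsg.IsPiHallOf (Cfsg.kappa M) K M) (hK1 : K ≠ ⊥) (h : KData M K E U) :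
    2 ≤ Nat.card ↥(Cfsg.sigmaCore M ⊓ Subgroup.centralizer (K : Set G)) := by
  have h0 := h.kstar_ne_bot hG hK hK1
  have h1 : Nat.card ↥(Cfsg.sigmaCore M ⊓ Subgroup.centralizer (K : Set G)) ≠ 1 :=
    fun h2 => h0 (Subgroup.card_eq_one.mp h2)
  have h2 := Nat.card_pos (α := ↥(Cfsg.sigmaCore M ⊓ Subgroup.centralizer (K : Set G)))
  omega

end Cfsg.Agent.Lib.Helper4.BG14
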