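import Mathlib
import Cfsg.Agent.Lib.Helper4.BG14I
import Cfsg.Agent.Lib.Helper5.BG14Z2
import Cfsg.Agent.S1430
import Cfsg.Agent.S1431
import Cfsg.Agent.S1377
import Cfsg.Agent.S1378

/-!
Bender–Glauberman §14, helper4: the family `𝒩(Z)` of maximal subgroups sharing the same `Z = K K*`
and the counting argument (★) of blueprint Part 17.2.

`Mem Z N K`: `N` is a maximal subgroup, `K ≠ 1` a Hall `κ(N)`-subgroup with `K · C_{N_σ}(K) = Z`.
-/

set_option autoImplicit false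
set_option linter.unusedSectionVars false
set_option linter.unusedVariables false
set_option linter.style.haveILetI false
set_option maxHeartbeats 1000000
open Cfsg
open scoped commutatorElement Pointwise

namespace Cfsg.Agent.Lib.Helper4.BG14

open Cfsg.Agent.Lib.Helper8.BGTen Cfsg.Agent.Lib.Helper4.BGTrans
open Cfsg.Agent.Lib.helper3.BG11 Cfsg.Agent.Lib.helper3.BG12 Cfsg.Agent.Lib.Helper4.BG13
open Cfsg.Agent.Lib.Helper5.BG14Z

universe u

variable {G : Type u} [Group G] [Finite G]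

/-- `K* = C_{N_σ}(K)` -/
abbrev star (N K : Subgroup G) : Subgroup G :=
  Cfsg.sigmaCore N ⊓ Subgroup.centralizer (K : Set G)

/-- `N` is a maximal subgroup with a Hall `κ(N)`-subgroup `K ≠ 1` such that `K K* = Z` -/
structure Mem (Z N K : Subgroup G) : Prop where
  coatom : IsCoatom N
  hall : Cfsg.IsPiHallOf (Cfsg.kappa N) K N
  ne : K ≠ ⊥
  eq : K ⊔ star N K = Z

namespace Mem

variable {Z N K : Subgroup G}

theorem star_ne (hG : Cfsg.IsMinSimpleOddOrder G) (h : Mem Z N K) : star N K ≠ ⊥ := by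
  obtain ⟨E, U, hd⟩ := exists_kdata' hG h.coatom h.hall h.ne
  exact hd.kstar_ne_bot hG h.hall h.ne

theorem cop (hG : Cfsg.IsMinSimpleOddOrder G) (h : Mem Z N K) :
    (Nat.card ↥K).Coprime (Nat.card ↥(star N K)) :=
  coprime_hall_Ks hG h.coatom h.hall

theorem card (hG : Cfsg.IsMinSimpleOddOrder G) (h : Mem Z N K) :
    Nat.card ↥Z = Nat.card ↥K * Nat.card ↥(star N K) := by
  rw [← h.eq]
  exact card_sup_of_coprime (h.cop hG) inf_le_right

theorem K_le (h : Mem Z N K) : K ≤ Z := h.eq ▸ le_sup_left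

theorem star_le (h : Mem Z N K) : star N K ≤ Z := h.eq ▸ le_sup_right

theorem le (h : Mem Z N K) : Z ≤ N := by
  rw [← h.eq]
  exact sup_le h.hall.1 (inf_le_left.trans (Cfsg.Agent.H2.BG11.sigmaCore_le N))

theorem inf_sigmaCore (hG : Cfsg.IsMinSimpleOddOrder G) (h : Mem Z N K) :
    Z ⊓ Cfsg.sigmaCore N = star N K := by
  apply le_antisymm
  · intro z hz
    obtain ⟨hzZ, hzσ⟩ := hz
    rw [← h.eq] at hzZ
    obtain ⟨k, hk, y, hy, rfl⟩ := (Cfsg.Agent.H1.mem_sup_of_le_normalizer K (star N K)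
      (inf_le_right.trans (Subgroup.centralizer_le_normalizer _))).mp hzZ
    have hkσ : k ∈ Cfsg.sigmaCore N := by
      have := Subgroup.mul_mem _ hzσ (Subgroup.inv_mem _ hy.1)
      rwa [mul_inv_cancel_right] at this
    have hk1 : k = 1 := by
      have : k ∈ K ⊓ Cfsg.sigmaCore N := ⟨hk, hkσ⟩
      rw [K_inf_sigmaCore hG h.coatom h.hall, Subgroup.mem_bot] at this
      exact this
    rw [hk1, one_mul]
    exact hy
  · exact le_inf h.star_le inf_le_left

/-- a prime dividing `|K|` is not in `σ(N)` -/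
theorem not_sigma_of_dvd (h : Mem Z N K) {r : ℕ} (hr : r.Prime) (hd : r ∣ Nat.card ↥K) :
    r ∉ Cfsg.sigma N := (h.hall.2.1 r hr hd).2.2.1

/-- (c): for `Y ≤ K*` of prime order, `N` is the only maximal subgroup containing `C_G(Y)` -/
theorem uniq (hG : Cfsg.IsMinSimpleOddOrder G) (h : Mem Z N K) {Y : Subgroup G}
    (hY : Y ≤ star N K) (hYp : (Nat.card ↥Y).Prime) :
    Subgroup.centralizer (Y : Set G) ≤ N ∧
      ∀ L : Subgroup G, IsCoatom L → Subgroup.centralizer (Y : Set G) ≤ L → L = N := by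
  obtain ⟨E, U, hd⟩ := exists_kdata' hG h.coatom h.hall h.ne
  obtain ⟨p, hp, P, hPK, hPc⟩ := hd.tau1
  haveI : Fact (Nat.card ↥Y).Prime := ⟨hYp⟩
  exact (alpha_uniq hG h.coatom hp (hPK.trans h.hall.1) hPc (X := Y)
    (hY.trans (inf_le_inf_left _ (Subgroup.centralizer_le hPK))) rfl).2.1

/-- distinct members have trivially intersecting stars -/
theorem star_inf_star (hG : Cfsg.IsMinSimpleOddOrder G) {N' K' : Subgroup G} (h : Mem Z N K)
    (h' : Mem Z N' K') (hne : N ≠ N') : star N K ⊓ star N' K' = ⊥ := by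
  by_contra h0
  obtain ⟨q, hqf, Y, hY, hYc⟩ := exists_prime_card_le h0
  have hYp : (Nat.card ↥Y).Prime := hYc ▸ hqf.out
  have h1 := h.uniq hG (hY.trans inf_le_left) hYp
  have h2 := h'.uniq hG (hY.trans inf_le_right) hYp
  exact hne (h2.2 N h.coatom h1.1)

/-- a subgroup of `Z` of prime order `r ∈ σ(N)` lies in `K*` -/
theorem le_star_of_sigma (hG : Cfsg.IsMinSimpleOddOrder G) (h : Mem Z N K) {Y : Subgroup G}
    (hYZ : Y ≤ Z) {r : ℕ} [hr : Fact r.Prime] (hYc : Nat.card ↥Y = r) (hrσ : r ∈ Cfsg.sigma N) :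
    Y ≤ star N K := by
  rw [← h.inf_sigmaCore hG]
  refine le_inf hYZ ?_
  apply Cfsg.Agent.H2.BG11.le_sigmaCore_of_pgroup hG h.coatom hrσ (hYZ.trans h.le)
  exact IsPGroup.of_card (n := 1) (by rw [hYc, pow_one])

/-- distinct members are not conjugate -/
theorem not_conj (hG : Cfsg.IsMinSimpleOddOrder G) {N' K' : Subgroup G} (h : Mem Z N K)
    (h' : Mem Z N' K') (hne : N ≠ N') (g : G) : N' ≠ cj g N := by
  intro hc
  obtain ⟨r, hrf, Y, hY, hYc⟩ := exists_prime_card_le (h'.star_ne hG)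
  have hrσ' : r ∈ Cfsg.sigma N' :=
    Cfsg.Agent.H2.BG11.mem_sigma_of_dvd_sigmaCore hG h'.coatom hrf.out
      (by rw [← hYc]; exact Subgroup.card_dvd_of_le (hY.trans inf_le_left))
  have hrσ : r ∈ Cfsg.sigma N := by
    rw [hc, Cfsg.Agent.H2.BG11.sigma_cj] at hrσ'
    exact hrσ'
  have h1 : Y ≤ star N K := h.le_star_of_sigma hG (hY.trans h'.star_le) hYc hrσ
  have h2 : Y ≤ star N K ⊓ star N' K' := le_inf h1 hY
  rw [star_inf_star hG h h' hne] at h2
  have h3 : Y = ⊥ := le_bot_iff.mp h2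
  rw [h3, Subgroup.card_bot] at hYc
  exact hrf.out.one_lt.ne hYc

/-- distinct members have disjoint `σ` -/
theorem sigma_disjoint (hG : Cfsg.IsMinSimpleOddOrder G) {N' K' : Subgroup G} (h : Mem Z N K)
    (h' : Mem Z N' K') (hne : N ≠ N') {r : ℕ} (hr : r ∈ Cfsg.sigma N) : r ∉ Cfsg.sigma N' := by
  intro hr'
  obtain ⟨g, hg⟩ := (Cfsg.Agent.S1378.result hG).2 N N' h.coatom h'.coatom ⟨r, hr, hr'⟩
  exact not_conj hG h h' hne g hg

/-- `3 |K*| ≤ |N_σ|` -/
theorem three_mul_star_le (hG : Cfsg.IsMinSimpleOddOrder G) (h : Mem Z N K) :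
    3 * Nat.card ↥(star N K) ≤ Nat.card ↥(Cfsg.sigmaCore N) := by
  have h31 := Cfsg.Agent.S1431.result hG N h.coatom K h.hall h.ne
  have hs1 : Nat.card ↥(star N K) ≠ 1 := fun h0 => h.star_ne hG (Subgroup.card_eq_one.mp h0)
  obtain ⟨p, hp, hpd⟩ := Nat.exists_prime_and_dvd hs1
  haveI : Fact p.Prime := ⟨hp⟩
  obtain ⟨S⟩ : Nonempty (Sylow p ↥(Cfsg.sigmaCore N)) := inferInstance
  have h3 := (h31.2.2.1 p hp hpd S).2.2
  have hle : star N K ≤ Cfsg.sigmaCore N := inf_le_left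
  have hne : star N K ≠ Cfsg.sigmaCore N := by
    intro h0
    apply h3
    show _ ≤ star N K
    rw [h0]
    exact Subgroup.map_subtype_le _
  have hd : Nat.card ↥(star N K) ∣ Nat.card ↥(Cfsg.sigmaCore N) := Subgroup.card_dvd_of_le hle
  obtain ⟨q, hq⟩ := hd
  have hodd : Odd (Nat.card ↥(Cfsg.sigmaCore N)) :=
    Odd.of_dvd_nat hG.1 (Subgroup.card_subgroup_dvd_card _)
  have hq1 : q ≠ 1 := by
    rintro rfl
    rw [mul_one] at hq
    exact hne (Subgroup.eq_of_le_of_card_ge hle hq.le)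
  have hq0 : q ≠ 0 := by
    rintro rfl
    rw [mul_zero] at hq
    exact Nat.card_pos.ne' hq
  have hq2 : q ≠ 2 := by
    rintro rfl
    rw [hq] at hodd
    exact (Nat.not_even_iff_odd.mpr hodd) (even_two.mul_left _)
  have hq3 : 3 ≤ q := by omega
  rw [hq, mul_comm]
  exact Nat.mul_le_mul_left _ hq3

end Mem

/-- `M̃` -/
abbrev tildeM (N : Subgroup G) : Set G := Cfsg.tildeOf N ((Cfsg.sigmaCore N : Set G) \ {1})

/-- `M̃ ∩ Ñ = ∅` for non-conjugate `M`, `N` (S1379(1)) -/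
def HypDisj1 (G : Type u) [Group G] : Prop :=
  ∀ M N : Subgroup G, IsCoatom M → IsCoatom N → (∀ g : G, N ≠ cj g M) →
    Disjoint (tildeM M) (tildeM N)

/-- no conjugate of an element of `Ẑ` lies in any `Ñ` (S1379(3b)) -/
def HypDisj2 (G : Type u) [Group G] : Prop :=
  ∀ M K : Subgroup G, IsCoatom M → Cfsg.IsPiHallOf (Cfsg.kappa M) K M → K ≠ ⊥ →
    ∀ N : Subgroup G, IsCoatom N → ∀ y z : G, z ∈ Zhat K (star M K) → y * z * y⁻¹ ∉ tildeM N

/-- the elements of `Z` outside all the `N_σ` -/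
def Tset (Z : Subgroup G) (S : Finset (Subgroup G)) : Set G :=
  {z | z ∈ Z ∧ ∀ N ∈ S, z ∉ Cfsg.sigmaCore N}

section count

variable {Z : Subgroup G} {S : Finset (Subgroup G)} {κ : Subgroup G → Subgroup G}

theorem mem_Zhat_of_mem_Tset (hS : ∀ N ∈ S, Mem Z N (κ N)) {z : G} (hz : z ∈ Tset Z S) {r : ℕ}
    (hr : r.Prime) (hrz : r ∣ orderOf z) {N : Subgroup G} (hN : N ∈ S) (hrσ : r ∈ Cfsg.sigma N) :
    z ∈ Zhat (κ N) (star N (κ N)) := by
  have hm := hS N hN
  refine mem_Zhat_iff.mpr ⟨by rw [hm.eq]; exact hz.1, ?_, fun h0 => hz.2 N hN h0.1⟩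
  intro hzK
  exact hm.not_sigma_of_dvd hr (hrz.trans (Subgroup.orderOf_dvd_natCard _ hzK)) hrσ

theorem ne_one_of_mem_Tset (hne : S.Nonempty) {z : G} (hz : z ∈ Tset Z S) : z ≠ 1 := by
  rintro rfl
  obtain ⟨N, hN⟩ := hne
  exact hz.2 N hN (Subgroup.one_mem _)

theorem exists_of_mem_Tset (hne : S.Nonempty)
    (hcover : ∀ r : ℕ, r.Prime → r ∣ Nat.card ↥Z → ∃ N ∈ S, r ∈ Cfsg.sigma N) {z : G}
    (hz : z ∈ Tset Z S) : ∃ r : ℕ, r.Prime ∧ r ∣ orderOf z ∧ ∃ N ∈ S, r ∈ Cfsg.sigma N := by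
  have h1 : orderOf z ≠ 1 := fun h0 => ne_one_of_mem_Tset hne hz (orderOf_eq_one_iff.mp h0)
  obtain ⟨r, hr, hrd⟩ := Nat.exists_prime_and_dvd h1
  obtain ⟨N, hN, hrσ⟩ := hcover r hr (hrd.trans (Subgroup.orderOf_dvd_natCard _ hz.1))
  exact ⟨r, hr, hrd, N, hN, hrσ⟩

theorem conj_mem_Tset_of_mem {z t : G} (hS : ∀ N ∈ S, Mem Z N (κ N)) (ht : t ∈ Z)
    (hz : z ∈ Tset Z S) : t * z * t⁻¹ ∈ Tset Z S := by
  refine ⟨Z.mul_mem (Z.mul_mem ht hz.1) (Z.inv_mem ht), fun N hN h0 => hz.2 N hN ?_⟩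
  have htN : t ∈ N := (hS N hN).le ht
  have := (Subgroup.mem_normalizer_iff.mp
    (Cfsg.Agent.H2.BG11.le_normalizer_sigmaCore N (N.inv_mem htN)) (t * z * t⁻¹)).mp h0
  have e : t⁻¹ * (t * z * t⁻¹) * t⁻¹⁻¹ = z := by group
  rwa [e] at this

theorem le_normalizer_Tset (hS : ∀ N ∈ S, Mem Z N (κ N)) :
    Z ≤ Subgroup.normalizer (Tset Z S) := by
  intro t ht
  rw [Subgroup.mem_set_normalizer_iff]
  intro x
  constructor
  · exact conj_mem_Tset_of_mem hS ht
  · intro hx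
    have := conj_mem_Tset_of_mem hS (Z.inv_mem ht) hx
    have e : t⁻¹ * (t * x * t⁻¹) * t⁻¹⁻¹ = x := by group
    rwa [e] at this

theorem fusion_Tset (hG : Cfsg.IsMinSimpleOddOrder G) (hS : ∀ N ∈ S, Mem Z N (κ N))
    (hne : S.Nonempty)
    (hcover : ∀ r : ℕ, r.Prime → r ∣ Nat.card ↥Z → ∃ N ∈ S, r ∈ Cfsg.sigma N) {z g : G}
    (hz : z ∈ Tset Z S) (hgz : g * z * g⁻¹ ∈ Tset Z S) : g ∈ Z := by
  obtain ⟨r, hr, hrd, N, hN, hrσ⟩ := exists_of_mem_Tset hne hcover hz
  have hm := hS N hN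
  have h1 := mem_Zhat_of_mem_Tset hS hz hr hrd hN hrσ
  have hord : orderOf (g * z * g⁻¹) = orderOf z := by
    have := orderOf_injective (MulAut.conj g).toMonoidHom (MulAut.conj g).injective z
    simpa using this
  have h2 := mem_Zhat_of_mem_Tset hS hgz hr (hord ▸ hrd) hN hrσ
  have h31 := Cfsg.Agent.S1431.result hG N hm.coatom (κ N) hm.hall hm.ne
  have := fusion (hm.cop hG) inf_le_right
    (inf_le_left.trans (Cfsg.Agent.H2.BG11.sigmaCore_le N)) h31.1 h31.2.1 h1 h2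
  rwa [hm.eq] at this

theorem ncard_biUnion_le {ι : Type*} [DecidableEq ι] (S : Finset ι) (A : ι → Set G) :
    (⋃ i ∈ S, A i).ncard ≤ ∑ i ∈ S, (A i).ncard := by
  induction S using Finset.induction_on with
  | empty => simp
  | insert a S ha ih =>
    rw [Finset.sum_insert ha, Finset.set_biUnion_insert]
    exact (Set.ncard_union_le _ _).trans (Nat.add_le_add_left ih _)

theorem sum_ncard_le {ι : Type*} [DecidableEq ι] (S : Finset ι) (A : ι → Set G) (C : Set G)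
    (hA : ∀ i ∈ S, ∀ j ∈ S, i ≠ j → Disjoint (A i) (A j)) (hC : ∀ i ∈ S, Disjoint (A i) C) :
    ∑ i ∈ S, (A i).ncard + C.ncard ≤ Nat.card G := by
  have key : ∑ i ∈ S, (A i).ncard + C.ncard = ((⋃ i ∈ S, A i) ∪ C).ncard := by
    induction S using Finset.induction_on with
    | empty => simp
    | insert a S ha ih =>
      rw [Finset.sum_insert ha]
      have ih' := ih
        (fun i hi j hj => hA i (Finset.mem_insert_of_mem hi) j (Finset.mem_insert_of_mem hj))
        (fun i hi => hC i (Finset.mem_insert_of_mem hi))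
      have e : ((⋃ i ∈ insert a S, A i) ∪ C) = A a ∪ ((⋃ i ∈ S, A i) ∪ C) := by
        rw [Finset.set_biUnion_insert, Set.union_assoc]
      rw [e, Set.ncard_union_eq _ (Set.toFinite _) (Set.toFinite _), add_assoc, ih']
      rw [Set.disjoint_union_right]
      refine ⟨?_, hC a (Finset.mem_insert_self _ _)⟩
      rw [Set.disjoint_iUnion₂_right]
      intro i hi
      exact hA a (Finset.mem_insert_self _ _) i (Finset.mem_insert_of_mem hi)
        (by rintro rfl; exact ha hi)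
  rw [key, ← Set.ncard_univ]
  exact Set.ncard_le_ncard (Set.subset_univ _) (Set.toFinite _)

theorem card_le_Tset (hG : Cfsg.IsMinSimpleOddOrder G) (hS : ∀ N ∈ S, Mem Z N (κ N)) :
    Nat.card ↥Z ≤ (Tset Z S).ncard + 1 + ∑ N ∈ S, (Nat.card ↥(star N (κ N)) - 1) := by
  classical
  have hsub : (Z : Set G) ⊆ (Tset Z S ∪ {1}) ∪ ⋃ N ∈ S, ((star N (κ N) : Set G) \ {1}) := by
    intro z hz
    by_cases h1 : z = 1
    · exact Or.inl (Or.inr h1)
    by_cases h2 : ∃ N ∈ S, z ∈ Cfsg.sigmaCore N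
    · obtain ⟨N, hN, hzσ⟩ := h2
      right
      rw [Set.mem_iUnion₂]
      refine ⟨N, hN, ?_, h1⟩
      have : z ∈ Z ⊓ Cfsg.sigmaCore N := ⟨hz, hzσ⟩
      rw [(hS N hN).inf_sigmaCore hG] at this
      exact this
    · push_neg at h2
      exact Or.inl (Or.inl ⟨hz, h2⟩)
  have h1 : Nat.card ↥Z = (Z : Set G).ncard := rfl
  rw [h1]
  refine (Set.ncard_le_ncard hsub (Set.toFinite _)).trans ?_
  refine (Set.ncard_union_le _ _).trans ?_
  refine Nat.add_le_add ?_ ?_
  · refine (Set.ncard_union_le _ _).trans ?_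
    rw [Set.ncard_singleton]
  · refine (ncard_biUnion_le S _).trans (le_of_eq ?_)
    apply Finset.sum_congr rfl
    intro N hN
    rw [Set.ncard_diff_singleton_of_mem (Subgroup.one_mem _)]
    rfl

/-- **THE COUNT (★)**: a family of at least two maximal subgroups of type `𝒫₁` sharing `Z` whose
`σ`-sets cover `π(Z)` is impossible -/
theorem count_false (hG : Cfsg.IsMinSimpleOddOrder G) (hD1 : HypDisj1 G) (hD2 : HypDisj2 G)
    (hS : ∀ N ∈ S, Mem Z N (κ N))
    (hcover : ∀ r : ℕ, r.Prime → r ∣ Nat.card ↥Z → ∃ N ∈ S, r ∈ Cfsg.sigma N)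
    (hP1 : ∀ N ∈ S, Nat.card ↥N = Nat.card ↥(κ N) * Nat.card ↥(Cfsg.sigmaCore N))
    (h2 : 2 ≤ S.card) : False := by
  classical
  have hne : S.Nonempty := Finset.card_pos.mp (by omega)
  -- disjointness
  have hdisj : ∀ N ∈ S, ∀ N' ∈ S, N ≠ N' → Disjoint (tildeM N) (tildeM N') := by
    intro N hN N' hN' hNN'
    exact hD1 N N' (hS N hN).coatom (hS N' hN').coatom
      (fun g => Mem.not_conj hG (hS N hN) (hS N' hN') hNN' g)
  set C : Set G := {a : G | ∃ g : G, ∃ x ∈ Tset Z S, a = g * x * g⁻¹} with hC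
  have hdisjC : ∀ N ∈ S, Disjoint (tildeM N) C := by
    intro N hN
    rw [Set.disjoint_left]
    rintro a ha ⟨g, x, hx, rfl⟩
    obtain ⟨r, hr, hrd, N', hN', hrσ⟩ := exists_of_mem_Tset hne hcover hx
    have hm := hS N' hN'
    exact hD2 N' (κ N') hm.coatom hm.hall hm.ne N (hS N hN).coatom g x
      (mem_Zhat_of_mem_Tset hS hx hr hrd hN' hrσ) ha
  have hsum := sum_ncard_le S (fun N => tildeM N) C hdisj hdisjC
  -- the class count
  have hcc : C.ncard * Nat.card ↥Z = Nat.card G * (Tset Z S).ncard :=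
    card_class_support (le_normalizer_Tset hS)
      (fun x hx g hgx => fusion_Tset hG hS hne hcover hx hgx)
  have hT := card_le_Tset hG hS
  -- the individual counts
  have hind : ∀ N ∈ S, Nat.card G * (3 * Nat.card ↥(star N (κ N))) ≤
      3 * Nat.card ↥Z * (tildeM N).ncard + Nat.card G := by
    intro N hN
    have hm := hS N hN
    have h77 := Cfsg.Agent.S1377.result hG N hm.coatom
    have hidx : N.index * Nat.card ↥N = Nat.card G := Subgroup.index_mul_card N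
    have hZc := hm.card hG
    have h3 := hm.three_mul_star_le hG
    have hmpos : 0 < Nat.card ↥(Cfsg.sigmaCore N) := Nat.card_pos
    show Nat.card G * (3 * Nat.card ↥(star N (κ N))) ≤
      3 * Nat.card ↥Z * (Cfsg.tildeOf N ((Cfsg.sigmaCore N : Set G) \ {1})).ncard + Nat.card G
    rw [h77, ← hidx, hP1 N hN, hZc]
    set k := Nat.card ↥(κ N)
    set m := Nat.card ↥(Cfsg.sigmaCore N)
    set z := Nat.card ↥(star N (κ N))
    set i := N.index
    obtain ⟨m', hm'⟩ : ∃ m', m = m' + 1 := ⟨m - 1, by omega⟩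
    rw [hm'] at h3 ⊢
    simp only [Nat.add_sub_cancel]
    nlinarith [Nat.zero_le (i * k), Nat.zero_le (i * k * z), Nat.zero_le m']
  -- sum up
  have hsumind : Nat.card G * (3 * ∑ N ∈ S, Nat.card ↥(star N (κ N))) ≤
      3 * Nat.card ↥Z * ∑ N ∈ S, (tildeM N).ncard + S.card * Nat.card G := by
    rw [Finset.mul_sum, Finset.mul_sum, Finset.mul_sum]
    have : S.card * Nat.card G = ∑ N ∈ S, Nat.card G := by
      rw [Finset.sum_const, smul_eq_mul]
    rw [this, ← Finset.sum_add_distrib]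
    apply Finset.sum_le_sum
    intro N hN
    have := hind N hN
    linarith
  have hsub : ∑ N ∈ S, (Nat.card ↥(star N (κ N)) - 1) + S.card =
      ∑ N ∈ S, Nat.card ↥(star N (κ N)) := by
    have : S.card = ∑ N ∈ S, 1 := by simp
    rw [this, ← Finset.sum_add_distrib]
    apply Finset.sum_congr rfl
    intro N hN
    have : 0 < Nat.card ↥(star N (κ N)) := Nat.card_pos
    omega
  have hgpos : 0 < Nat.card G := Nat.card_pos
  have hzpos : 0 < Nat.card ↥Z := Nat.card_pos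
  set g := Nat.card G
  set zz := Nat.card ↥Z
  set A := ∑ N ∈ S, (tildeM N).ncard
  set sz := ∑ N ∈ S, Nat.card ↥(star N (κ N))
  set sz1 := ∑ N ∈ S, (Nat.card ↥(star N (κ N)) - 1)
  set t := (Tset Z S).ncard
  set c := C.ncard
  set n := S.card
  have e1 := Nat.mul_le_mul_left (3 * zz) hsum
  have e2 := Nat.mul_le_mul_left (3 * g) hT
  have e3 := Nat.mul_le_mul_right g h2
  have e4 : g * (sz1 + n) = g * sz := by rw [hsub]
  nlinarith [e1, e2, e3, e4, hcc, hsumind]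

end count

end Cfsg.Agent.Lib.Helper4.BG14
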