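import Mathlib
import Cfsg.Agent.Lib.Helper4.BG14J

/-!
Bender–Glauberman §14, helper4: **no triples** and the existence of the partner `M*`
(blueprint Part 17.3), conditional on

* `HypF1 G`    : the local structure lemma 17.1 (helper3),
* `HypDisj1 G` : `M̃ ∩ Ñ = ∅` for non-conjugate maximal subgroups (helper2),
* `HypDisj2 G` : no conjugate of an element of `Ẑ` lies in any `Ñ` (helper2).
-/

set_option autoImplicit false
set_option linter.unusedSectionVars false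
set_option linter.unusedVariables false
set_option linter.style.haveILetI false
set_option maxHeartbeats 1000000
open Cfsg
open scoped commutatorElement Pointwise

namespace Cfsg.Agent.Lib.Helper4.BG14

open Cfsg.Agent.Lib.Helper8.BGTen Cfsg.Agent.Lib.Helper4.BGTrans
open Cfsg.Agent.Lib.helper3.BG11 Cfsg.Agent.Lib.helper3.BG12 Cfsg.Agent.Lib.Helper4.BG13
open Cfsg.Agent.Lib.Helper5.BG14Z

universe u

variable {G : Type u} [Group G] [Finite G]

/-- **17.1** (local structure lemma): for `X ≤ K` of prime order and a maximal subgroup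
`L ⊇ N_G(X)` there is a Hall `κ(L)`-subgroup `K₁ ⊇ K*` of `L` with `K₁ K₁* = K K*`. -/
def HypF1 (G : Type u) [Group G] : Prop :=
  ∀ M K X L : Subgroup G, IsCoatom M → Cfsg.IsPiHallOf (Cfsg.kappa M) K M → K ≠ ⊥ → X ≤ K →
    (Nat.card ↥X).Prime → IsCoatom L → Subgroup.normalizer (X : Set G) ≤ L →
    ∃ K₁ : Subgroup G, Cfsg.IsPiHallOf (Cfsg.kappa L) K₁ L ∧ star M K ≤ K₁ ∧
      K₁ ⊔ star L K₁ = K ⊔ star M K

/-- if `|K|` is not a prime then `M = M_σ ⋊ K` -/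
theorem KData.card_of_not_prime (hG : Cfsg.IsMinSimpleOddOrder G) {M K E U : Subgroup G}
    (hM : IsCoatom M) (hK : Cfsg.IsPiHallOf (Cfsg.kappa M) K M) (hK1 : K ≠ ⊥)
    (h : KData M K E U) (hnp : ¬ (Nat.card ↥K).Prime) :
    Nat.card ↥M = Nat.card ↥K * Nat.card ↥(Cfsg.sigmaCore M) := by
  have hU : U = ⊥ := by
    by_contra hU1
    exact hnp (h.card_prime_of_ne_bot hG hM hK hK1 hU1)
  have hEK : E = K := by
    apply le_antisymm _ h.KE
    intro e he
    obtain ⟨u, hu, k, hk, rfl⟩ := h.mul e he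
    rw [hU, Subgroup.mem_bot] at hu
    rw [hu, one_mul]
    exact hk
  rw [Cfsg.Agent.H2.BG12.card_compl_mul h.compl, hEK]

theorem card_of_not_prime (hG : Cfsg.IsMinSimpleOddOrder G) {M K : Subgroup G}
    (hM : IsCoatom M) (hK : Cfsg.IsPiHallOf (Cfsg.kappa M) K M) (hK1 : K ≠ ⊥)
    (hnp : ¬ (Nat.card ↥K).Prime) :
    Nat.card ↥M = Nat.card ↥K * Nat.card ↥(Cfsg.sigmaCore M) := by
  obtain ⟨E, U, h⟩ := exists_kdata' hG hM hK hK1
  exact h.card_of_not_prime hG hM hK hK1 hnp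

/-- if `M_σ` is not nilpotent then `M = M_σ ⋊ K` -/
theorem card_of_not_nilpotent (hG : Cfsg.IsMinSimpleOddOrder G) {M K : Subgroup G}
    (hM : IsCoatom M) (hK : Cfsg.IsPiHallOf (Cfsg.kappa M) K M) (hK1 : K ≠ ⊥)
    (hnn : ¬ Group.IsNilpotent ↥(Cfsg.sigmaCore M)) :
    Nat.card ↥M = Nat.card ↥K * Nat.card ↥(Cfsg.sigmaCore M) := by
  obtain ⟨E, U, h⟩ := exists_kdata' hG hM hK hK1
  have hU : U = ⊥ := by
    by_contra hU1
    have hcU : Nat.card ↥U ≠ 1 := fun h0 => hU1 (Subgroup.card_eq_one.mp h0)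
    obtain ⟨t, ht, htd⟩ := Nat.exists_prime_and_dvd hcU
    haveI : Fact t.Prime := ⟨ht⟩
    have htU := h.Uhall.2.1 t ht htd
    have htM : t ∣ Nat.card ↥M := htd.trans (Subgroup.card_dvd_of_le h.Uhall.1)
    obtain ⟨S⟩ : Nonempty (Sylow t ↥M) := inferInstance
    have := (Cfsg.Agent.S1429.result hG M hM (fun h0 => htU.2.1 (h0 t ht htM htU.2.2)) t htM
      (by rintro (h0 | h0); exact htU.2.2 h0; exact htU.2.1 h0) S).2.2
    exact hnn this
  have hEK : E = K := by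
    apply le_antisymm _ h.KE
    intro e he
    obtain ⟨u, hu, k, hk, rfl⟩ := h.mul e he
    rw [hU, Subgroup.mem_bot] at hu
    rw [hu, one_mul]
    exact hk
  rw [Cfsg.Agent.H2.BG12.card_compl_mul h.compl, hEK]

/-- a `κ(M)`-subgroup of `M` has cyclic Sylow subgroups -/
theorem isZGroup_of_kappa {M K : Subgroup G} (hKM : K ≤ M)
    (hκ : ∀ p : ℕ, p.Prime → p ∣ Nat.card ↥K → p ∈ Cfsg.kappa M) : IsZGroup ↥K := by
  refine ⟨fun p hp P => ?_⟩
  haveI : Fact p.Prime := ⟨hp⟩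
  by_cases hd : p ∣ Nat.card ↥K
  · have hpκ := hκ p hp hd
    have hP' : IsPGroup p ↥(((P : Subgroup ↥K).map K.subtype).subgroupOf M) :=
      (P.2.map _).comap_subtype
    obtain ⟨Q, hQ⟩ := hP'.exists_le_sylow
    haveI : IsCyclic ↥(Q : Subgroup ↥M) := (hpκ.2.2.2 Q).1
    let f : ↥(P : Subgroup ↥K) →* ↥(Q : Subgroup ↥M) :=
      { toFun := fun x => ⟨⟨(x : ↥K), hKM (x : ↥K).2⟩, hQ (Subgroup.mem_subgroupOf.mpr
          (Subgroup.mem_map_of_mem K.subtype x.2))⟩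
        map_one' := rfl
        map_mul' := fun _ _ => rfl }
    refine isCyclic_of_injective f ?_
    intro x y hxy
    have := congrArg (fun z : ↥(Q : Subgroup ↥M) => ((z : ↥M) : G)) hxy
    exact Subtype.ext (Subtype.ext this)
  · have h1 : Nat.card ↥(P : Subgroup ↥K) = 1 := by
      rw [P.card_eq_multiplicity, Nat.factorization_eq_zero_of_not_dvd hd, pow_zero]
    rw [Subgroup.card_eq_one.1 h1]
    infer_instance

/-- a nilpotent `κ(M)`-subgroup is cyclic -/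
theorem isCyclic_of_kappa_of_le_nilpotent {M K H : Subgroup G} (hKM : K ≤ M)
    (hκ : ∀ p : ℕ, p.Prime → p ∣ Nat.card ↥K → p ∈ Cfsg.kappa M) (hKH : K ≤ H)
    (hH : Group.IsNilpotent ↥H) : IsCyclic ↥K := by
  haveI := isZGroup_of_kappa hKM hκ
  haveI : Group.IsNilpotent ↥K := by
    haveI := hH
    have : Group.IsNilpotent ↥(K.subgroupOf H) := Subgroup.isNilpotent _
    exact Group.nilpotent_of_mulEquiv (Subgroup.subgroupOfEquivOfLe hKH)
  infer_instance

section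

variable (hG : Cfsg.IsMinSimpleOddOrder G) (hF1 : HypF1 G)
include hG hF1

/-- 17.1 in terms of `Mem` -/
theorem mem_of_F1 {M K X L : Subgroup G} (hM : IsCoatom M)
    (hK : Cfsg.IsPiHallOf (Cfsg.kappa M) K M) (hK1 : K ≠ ⊥) (hXK : X ≤ K)
    (hXp : (Nat.card ↥X).Prime) (hL : IsCoatom L) (hXL : Subgroup.normalizer (X : Set G) ≤ L) :
    ∃ K₁ : Subgroup G, Mem (K ⊔ star M K) L K₁ ∧ star M K ≤ K₁ ∧ X ≤ star L K₁ := by
  obtain ⟨K₁, h1, h2, h3⟩ := hF1 M K X L hM hK hK1 hXK hXp hL hXL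
  have hm0 : Mem (K ⊔ star M K) M K := ⟨hM, hK, hK1, rfl⟩
  have hK₁1 : K₁ ≠ ⊥ := by
    intro h0
    rw [h0] at h2
    exact hm0.star_ne hG (le_bot_iff.mp h2)
  have hm : Mem (K ⊔ star M K) L K₁ := ⟨hL, h1, hK₁1, h3⟩
  refine ⟨K₁, hm, h2, ?_⟩
  rw [← hm.inf_sigmaCore hG]
  exact le_inf (hXK.trans le_sup_left)
    ((Cfsg.Agent.S1430.result hG M hM K hK hK1).2.2 X hXK hXp |>.2.2 L hL hXL)

/-- for every prime `r ∣ |K|` there is a member `L` of the family with `r ∈ σ(L)` -/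
theorem exists_mem_of_dvd {M K : Subgroup G} (hM : IsCoatom M)
    (hK : Cfsg.IsPiHallOf (Cfsg.kappa M) K M) (hK1 : K ≠ ⊥) {r : ℕ} (hr : r.Prime)
    (hrK : r ∣ Nat.card ↥K) :
    ∃ L K₁ : Subgroup G, Mem (K ⊔ star M K) L K₁ ∧ r ∈ Cfsg.sigma L ∧ star M K ≤ K₁ := by
  haveI : Fact r.Prime := ⟨hr⟩
  obtain ⟨x, hx⟩ := exists_prime_orderOf_dvd_card' (G := ↥K) r hrK
  have hX'c : Nat.card ↥(Subgroup.zpowers (x : G)) = r := by
    rw [Nat.card_zpowers, Subgroup.orderOf_coe, hx]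
  have hX'K : Subgroup.zpowers (x : G) ≤ K := by rw [Subgroup.zpowers_le]; exact x.2
  have hX'p : (Nat.card ↥(Subgroup.zpowers (x : G))).Prime := hX'c ▸ hr
  have hX'1 : Subgroup.zpowers (x : G) ≠ ⊥ := by
    intro h0
    rw [h0, Subgroup.card_bot] at hX'c
    exact hr.one_lt.ne hX'c
  have hX't : Subgroup.zpowers (x : G) ≠ ⊤ := ne_top_of_le_coatom hM (hX'K.trans hK.1)
  obtain ⟨L', hL', hX'L'⟩ :=
    Cfsg.Agent.Lib.Helper7.BG13.exists_coatom_normalizer_le hG hX'1 hX't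
  obtain ⟨K₁', hm2, hKs2, hX2⟩ := mem_of_F1 hG hF1 hM hK hK1 hX'K hX'p hL' hX'L'
  refine ⟨L', K₁', hm2, ?_, hKs2⟩
  exact Cfsg.Agent.H2.BG11.mem_sigma_of_dvd_sigmaCore hG hL' hr
    (hX'c ▸ Subgroup.card_dvd_of_le (hX2.trans inf_le_left))

end

namespace Mem

variable {Z N K N' K' N'' K'' : Subgroup G}

theorem coprime_star_star (hG : Cfsg.IsMinSimpleOddOrder G) (h : Mem Z N K) (h' : Mem Z N' K')
    (hne : N ≠ N') : (Nat.card ↥(star N K)).Coprime (Nat.card ↥(star N' K')) := by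
  apply Nat.coprime_of_dvd
  intro q hq hd1 hd2
  have h1 : q ∈ Cfsg.sigma N := Cfsg.Agent.H2.BG11.mem_sigma_of_dvd_sigmaCore hG h.coatom hq
    (hd1.trans (Subgroup.card_dvd_of_le inf_le_left))
  have h2 : q ∈ Cfsg.sigma N' := Cfsg.Agent.H2.BG11.mem_sigma_of_dvd_sigmaCore hG h'.coatom hq
    (hd2.trans (Subgroup.card_dvd_of_le inf_le_left))
  exact sigma_disjoint hG h h' hne h1 h2

theorem star_dvd (hG : Cfsg.IsMinSimpleOddOrder G) (h : Mem Z N K) (h' : Mem Z N' K')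
    (hne : N ≠ N') : Nat.card ↥(star N' K') ∣ Nat.card ↥K := by
  have h1 : Nat.card ↥(star N' K') ∣ Nat.card ↥K * Nat.card ↥(star N K) := by
    rw [← h.card hG]
    exact Subgroup.card_dvd_of_le h'.star_le
  exact (coprime_star_star hG h h' hne).symm.dvd_of_dvd_mul_right h1

/-- in a family with three members no `|K|` is a prime -/
theorem not_prime_of_three (hG : Cfsg.IsMinSimpleOddOrder G) (h : Mem Z N K) (h' : Mem Z N' K')
    (h'' : Mem Z N'' K'') (h1 : N ≠ N') (h2 : N ≠ N'') (h3 : N' ≠ N'') :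
    ¬ (Nat.card ↥K).Prime := by
  intro hp
  have ha := star_dvd hG h h' h1
  have hb := star_dvd hG h h'' h2
  have ha1 : Nat.card ↥(star N' K') ≠ 1 := fun h0 => h'.star_ne hG (Subgroup.card_eq_one.mp h0)
  have hb1 : Nat.card ↥(star N'' K'') ≠ 1 := fun h0 => h''.star_ne hG (Subgroup.card_eq_one.mp h0)
  have ha2 := ((Nat.dvd_prime hp).mp ha).resolve_left ha1
  have hb2 := ((Nat.dvd_prime hp).mp hb).resolve_left hb1
  have hc := coprime_star_star hG h' h'' h3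
  rw [ha2, hb2, Nat.coprime_self] at hc
  exact hp.one_lt.ne' hc

end Mem

section

variable (hG : Cfsg.IsMinSimpleOddOrder G) (hF1 : HypF1 G) (hD1 : HypDisj1 G) (hD2 : HypDisj2 G)
include hG hF1 hD1 hD2

/-- **NO TRIPLES**: `K ≤ L_σ` for every maximal subgroup `L ⊇ N_G(X)`, `X ≤ K` of prime order -/
theorem le_sigmaCore_of_normalizer_le {M K X L : Subgroup G} (hM : IsCoatom M)
    (hK : Cfsg.IsPiHallOf (Cfsg.kappa M) K M) (hK1 : K ≠ ⊥) (hXK : X ≤ K)
    (hXp : (Nat.card ↥X).Prime) (hL : IsCoatom L) (hXL : Subgroup.normalizer (X : Set G) ≤ L) :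
    K ≤ Cfsg.sigmaCore L := by
  classical
  have hm0 : Mem (K ⊔ star M K) M K := ⟨hM, hK, hK1, rfl⟩
  obtain ⟨K₁, hm1, hKs1, hX1⟩ := mem_of_F1 hG hF1 hM hK hK1 hXK hXp hL hXL
  by_contra hKL
  have h31 := Cfsg.Agent.S1431.result hG L hL K₁ hm1.hall hm1.ne
  have hex : ∃ r : ℕ, r.Prime ∧ r ∣ Nat.card ↥K ∧ r ∉ Cfsg.sigma L := by
    by_contra hno
    push Not at hno
    apply hKL
    apply h31.2.2.2 K hno
    intro h0
    have hXle : X ≤ K ⊓ star L K₁ := le_inf hXK hX1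
    rw [h0] at hXle
    have : X = ⊥ := le_bot_iff.mp hXle
    rw [this, Subgroup.card_bot] at hXp
    exact Nat.not_prime_one hXp
  obtain ⟨r, hr, hrK, hrL⟩ := hex
  obtain ⟨L', K₁', hm2, hrL', -⟩ := exists_mem_of_dvd hG hF1 hM hK hK1 hr hrK
  -- distinctness
  have hLL' : L ≠ L' := by rintro rfl; exact hrL hrL'
  have hML' : M ≠ L' := by
    rintro rfl
    exact hm0.not_sigma_of_dvd hr hrK hrL'
  have hML : M ≠ L := by
    rintro rfl
    have hpσ : Nat.card ↥X ∈ Cfsg.sigma M :=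
      Cfsg.Agent.H2.BG11.mem_sigma_of_dvd_sigmaCore hG hM hXp
        (Subgroup.card_dvd_of_le (hX1.trans inf_le_left))
    exact hm0.not_sigma_of_dvd hXp (Subgroup.card_dvd_of_le hXK) hpσ
  -- the family
  set Z := K ⊔ star M K with hZ
  set S : Finset (Subgroup G) := (Set.toFinite {N | ∃ K', Mem Z N K'}).toFinset with hSdef
  set κ : Subgroup G → Subgroup G := fun N =>
    if h : ∃ K', Mem Z N K' then Classical.choose h else ⊥ with hκdef
  have hS : ∀ N ∈ S, Mem Z N (κ N) := by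
    intro N hN
    rw [hSdef, Set.Finite.mem_toFinset] at hN
    have : κ N = Classical.choose hN := by rw [hκdef]; exact dif_pos hN
    rw [this]
    exact Classical.choose_spec hN
  have hMS : M ∈ S := by rw [hSdef, Set.Finite.mem_toFinset]; exact ⟨K, hm0⟩
  have hLS : L ∈ S := by rw [hSdef, Set.Finite.mem_toFinset]; exact ⟨K₁, hm1⟩
  have hL'S : L' ∈ S := by rw [hSdef, Set.Finite.mem_toFinset]; exact ⟨K₁', hm2⟩
  have h2 : 2 ≤ S.card := Finset.one_lt_card.mpr ⟨M, hMS, L, hLS, hML⟩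
  have hcover : ∀ r : ℕ, r.Prime → r ∣ Nat.card ↥Z → ∃ N ∈ S, r ∈ Cfsg.sigma N := by
    intro q hq hqZ
    rw [hm0.card hG] at hqZ
    rcases (Nat.Prime.dvd_mul hq).mp hqZ with h | h
    · obtain ⟨L'', K₁'', hm3, hqL'', -⟩ := exists_mem_of_dvd hG hF1 hM hK hK1 hq h
      refine ⟨L'', ?_, hqL''⟩
      rw [hSdef, Set.Finite.mem_toFinset]
      exact ⟨K₁'', hm3⟩
    · exact ⟨M, hMS, Cfsg.Agent.H2.BG11.mem_sigma_of_dvd_sigmaCore hG hM hq
        (h.trans (Subgroup.card_dvd_of_le inf_le_left))⟩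
  have hP1 : ∀ N ∈ S, Nat.card ↥N = Nat.card ↥(κ N) * Nat.card ↥(Cfsg.sigmaCore N) := by
    intro N hN
    have hmN := hS N hN
    apply card_of_not_prime hG hmN.coatom hmN.hall hmN.ne
    by_cases hNM : N = M
    · subst hNM
      exact hmN.not_prime_of_three hG (hS L hLS) (hS L' hL'S) hML hML' hLL'
    · by_cases hNL : N = L
      · subst hNL
        exact hmN.not_prime_of_three hG (hS M hMS) (hS L' hL'S) (Ne.symm hML) hLL' hML'
      · exact hmN.not_prime_of_three hG (hS M hMS) (hS L hLS) hNM hNL hML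
  exact count_false hG hD1 hD2 hS hcover hP1 h2

end

end Cfsg.Agent.Lib.Helper4.BG14
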