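import Mathlib
import Cfsg.Agent.Lib.Helper4.BG14K
import Cfsg.Agent.Lib.helper3.BG14E
import Cfsg.Agent.H2.BG14.F

/-!
Bender–Glauberman §14, helper4: Theorem 14.7, unconditional consequences of the count (★):

* `exists_partner`        : existence of `M*` (S1366);
* `pair_count`            : `M` and `M*` are not both of type `𝒫₁` (S1369(1));
* `isCyclic_of_hall_kappa`: Hall `κ(M)`-subgroups are cyclic (S1351; no configuration Ω);
* `card_star_prime_of_P1` : `U = 1 ⇒ |K*|` prime (S1373).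
-/

set_option autoImplicit false
set_option linter.unusedSectionVars false
set_option linter.unusedVariables false
set_option linter.style.haveILetI false
set_option maxHeartbeats 1000000
open Cfsg
open scoped commutatorElement Pointwise

namespace Cfsg.Agent.Lib.Helper4.BG14

open Cfsg.Agent.Lib.Helper8.BGTen Cfsg.Agent.Lib.Helper4.BGTrans
open Cfsg.Agent.Lib.helper3.BG11 Cfsg.Agent.Lib.helper3.BG12 Cfsg.Agent.Lib.Helper4.BG13

universe u

variable {G : Type u} [Group G] [Finite G]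

theorem hypF1 (hG : Cfsg.IsMinSimpleOddOrder G) : HypF1 G := by
  intro M K X L hM hK hK1 hXK hXp hL hXL
  obtain ⟨K1, h1, -, h3, -, h5, -⟩ :=
    Cfsg.Agent.Lib.helper3.BG14.partner_F1 hG hM hK hK1 hXK hXp hL hXL
  exact ⟨K1, h1, h3, h5⟩

theorem hypDisj1 (hG : Cfsg.IsMinSimpleOddOrder G) : HypDisj1 G := by
  intro M N hM hN hnc
  rw [Set.disjoint_iff_inter_eq_empty]
  exact Cfsg.Agent.H2.BG14.tilde_disjoint hG hM hN hnc

theorem hypDisj2 (hG : Cfsg.IsMinSimpleOddOrder G) : HypDisj2 G := by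
  intro M K hM hK hK1 N hN y z hz
  exact Cfsg.Agent.H2.BG14.conj_Zhat_not_mem_tilde' hG hM hK hK1 hN y hz

/-- **NO TRIPLES**, unconditional -/
theorem le_sigmaCore_of_normalizer_le' (hG : Cfsg.IsMinSimpleOddOrder G) {M K X L : Subgroup G}
    (hM : IsCoatom M) (hK : Cfsg.IsPiHallOf (Cfsg.kappa M) K M) (hK1 : K ≠ ⊥) (hXK : X ≤ K)
    (hXp : (Nat.card ↥X).Prime) (hL : IsCoatom L) (hXL : Subgroup.normalizer (X : Set G) ≤ L) :
    K ≤ Cfsg.sigmaCore L :=
  le_sigmaCore_of_normalizer_le hG (hypF1 hG) (hypDisj1 hG) (hypDisj2 hG) hM hK hK1 hXK hXp hL hXL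

/-- the partner: for `X ≤ K` of prime order and a maximal `L ⊇ N_G(X)`: `K ≤ L_σ`, `K*` is a Hall
`κ(L)`-subgroup of `L`, and `C_{L_σ}(K*) = K` -/
theorem partner_of_normalizer_le (hG : Cfsg.IsMinSimpleOddOrder G) {M K X L : Subgroup G}
    (hM : IsCoatom M) (hK : Cfsg.IsPiHallOf (Cfsg.kappa M) K M) (hK1 : K ≠ ⊥) (hXK : X ≤ K)
    (hXp : (Nat.card ↥X).Prime) (hL : IsCoatom L) (hXL : Subgroup.normalizer (X : Set G) ≤ L) :
    K ≤ Cfsg.sigmaCore L ∧ Mem (K ⊔ star M K) L (star M K) ∧ K = star L (star M K) := by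
  have hKL := le_sigmaCore_of_normalizer_le' hG hM hK hK1 hXK hXp hL hXL
  have hm0 : Mem (K ⊔ star M K) M K := ⟨hM, hK, hK1, rfl⟩
  obtain ⟨K₁, hm1, hKs1, hX1⟩ := mem_of_F1 hG (hypF1 hG) hM hK hK1 hXK hXp hL hXL
  have hKle : K ≤ star L K₁ := by
    rw [← hm1.inf_sigmaCore hG]
    exact le_inf le_sup_left hKL
  have hc0 := hm0.card hG
  have hc1 := hm1.card hG
  have hle1 : Nat.card ↥K ≤ Nat.card ↥(star L K₁) := Subgroup.card_le_of_le hKle
  have hle2 : Nat.card ↥(star M K) ≤ Nat.card ↥K₁ := Subgroup.card_le_of_le hKs1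
  have hpos1 : 0 < Nat.card ↥K := Nat.card_pos
  have hpos2 : 0 < Nat.card ↥(star M K) := Nat.card_pos
  have heq2 : Nat.card ↥K₁ = Nat.card ↥(star M K) := by
    by_contra hne
    have hlt : Nat.card ↥(star M K) < Nat.card ↥K₁ := lt_of_le_of_ne hle2 (Ne.symm hne)
    have : Nat.card ↥K * Nat.card ↥(star M K) < Nat.card ↥K₁ * Nat.card ↥(star L K₁) := by
      calc Nat.card ↥K * Nat.card ↥(star M K) < Nat.card ↥K * Nat.card ↥K₁ :=
            Nat.mul_lt_mul_of_pos_left hlt hpos1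
        _ = Nat.card ↥K₁ * Nat.card ↥K := mul_comm _ _
        _ ≤ Nat.card ↥K₁ * Nat.card ↥(star L K₁) := Nat.mul_le_mul_left _ hle1
    omega
  have hK₁ : K₁ = star M K := (Subgroup.eq_of_le_of_card_ge hKs1 heq2.le).symm
  subst hK₁
  have heq1 : Nat.card ↥(star L (star M K)) = Nat.card ↥K := by
    have : Nat.card ↥K * Nat.card ↥(star M K) =
        Nat.card ↥(star M K) * Nat.card ↥(star L (star M K)) := by rw [← hc0, ← hc1]
    rw [mul_comm] at this
    exact (Nat.eq_of_mul_eq_mul_left hpos2 this).symm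
  exact ⟨hKL, hm1, Subgroup.eq_of_le_of_card_ge hKle heq1.le⟩

/-- **existence of the partner `M*`** (S1366) -/
theorem exists_partner (hG : Cfsg.IsMinSimpleOddOrder G) {M K : Subgroup G}
    (hM : IsCoatom M) (hK : Cfsg.IsPiHallOf (Cfsg.kappa M) K M) (hK1 : K ≠ ⊥) :
    ∃ L : Subgroup G, IsCoatom L ∧ K ≤ Cfsg.sigmaCore L ∧ Mem (K ⊔ star M K) L (star M K) ∧
      K = star L (star M K) := by
  obtain ⟨q, hqf, X, hXK, hXc⟩ := exists_prime_card_le hK1
  have hXp : (Nat.card ↥X).Prime := hXc ▸ hqf.out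
  have hX1 : X ≠ ⊥ := by
    intro h0
    rw [h0, Subgroup.card_bot] at hXc
    exact hqf.out.one_lt.ne hXc
  have hXt : X ≠ ⊤ := ne_top_of_le_coatom hM (hXK.trans hK.1)
  obtain ⟨L, hL, hXL⟩ := Cfsg.Agent.Lib.Helper7.BG13.exists_coatom_normalizer_le hG hX1 hXt
  obtain ⟨h1, h2, h3⟩ := partner_of_normalizer_le hG hM hK hK1 hXK hXp hL hXL
  exact ⟨L, hL, h1, h2, h3⟩

/-- **the pair count** (S1369(1)): `M` and its partner are not both of type `𝒫₁` -/
theorem pair_count (hG : Cfsg.IsMinSimpleOddOrder G) {M K L : Subgroup G}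
    (hM : IsCoatom M) (hK : Cfsg.IsPiHallOf (Cfsg.kappa M) K M) (hK1 : K ≠ ⊥)
    (hKL : K ≤ Cfsg.sigmaCore L) (hm1 : Mem (K ⊔ star M K) L (star M K))
    (h1 : Nat.card ↥M = Nat.card ↥K * Nat.card ↥(Cfsg.sigmaCore M))
    (h2 : Nat.card ↥L = Nat.card ↥(star M K) * Nat.card ↥(Cfsg.sigmaCore L)) : False := by
  classical
  have hm0 : Mem (K ⊔ star M K) M K := ⟨hM, hK, hK1, rfl⟩
  have hML : M ≠ L := by
    rintro rfl
    apply hK1
    have : K ≤ K ⊓ Cfsg.sigmaCore M := le_inf le_rfl hKL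
    rw [Cfsg.Agent.Lib.Helper5.BG14Z.K_inf_sigmaCore hG hM hK] at this
    exact le_bot_iff.mp this
  set κ : Subgroup G → Subgroup G := fun N => if N = M then K else star M K with hκ
  have hκM : κ M = K := by rw [hκ]; exact if_pos rfl
  have hκL : κ L = star M K := by rw [hκ]; exact if_neg (Ne.symm hML)
  have hS : ∀ N ∈ ({M, L} : Finset (Subgroup G)), Mem (K ⊔ star M K) N (κ N) := by
    intro N hN
    rcases Finset.mem_insert.mp hN with rfl | hN
    · rw [hκM]; exact hm0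
    · rw [Finset.mem_singleton.mp hN, hκL]; exact hm1
  refine count_false hG (hypDisj1 hG) (hypDisj2 hG) hS ?_ ?_ ?_
  · intro q hq hqZ
    rw [hm0.card hG] at hqZ
    rcases (Nat.Prime.dvd_mul hq).mp hqZ with h | h
    · exact ⟨L, by simp, Cfsg.Agent.H2.BG11.mem_sigma_of_dvd_sigmaCore hG hm1.coatom hq
        (h.trans (Subgroup.card_dvd_of_le hKL))⟩
    · exact ⟨M, by simp, Cfsg.Agent.H2.BG11.mem_sigma_of_dvd_sigmaCore hG hM hq
        (h.trans (Subgroup.card_dvd_of_le inf_le_left))⟩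
  · intro N hN
    rcases Finset.mem_insert.mp hN with rfl | hN
    · rw [hκM]; exact h1
    · rw [Finset.mem_singleton.mp hN, hκL]; exact h2
  · rw [Finset.card_pair hML]

/-- **S1351**: every Hall `κ(M)`-subgroup is cyclic (there is no configuration Ω) -/
theorem isCyclic_of_hall_kappa (hG : Cfsg.IsMinSimpleOddOrder G) {M K : Subgroup G}
    (hM : IsCoatom M) (hK : Cfsg.IsPiHallOf (Cfsg.kappa M) K M) : IsCyclic ↥K := by
  by_cases hK1 : K = ⊥
  · rw [hK1]; infer_instance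
  by_contra hnc
  have hnp : ¬ (Nat.card ↥K).Prime := by
    intro hp
    haveI : Fact (Nat.card ↥K).Prime := ⟨hp⟩
    exact hnc (isCyclic_of_prime_card rfl)
  have h1 := card_of_not_prime hG hM hK hK1 hnp
  obtain ⟨L, hL, hKL, hm1, hKeq⟩ := exists_partner hG hM hK hK1
  have hnn : ¬ Group.IsNilpotent ↥(Cfsg.sigmaCore L) := fun hn =>
    hnc (isCyclic_of_kappa_of_le_nilpotent hK.1 hK.2.1 hKL hn)
  have h2 := card_of_not_nilpotent hG hL hm1.hall hm1.ne hnn
  exact pair_count hG hM hK hK1 hKL hm1 h1 h2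

/-- **S1373**: if `M = M_σ ⋊ K` then `|K*|` is a prime -/
theorem card_star_prime_of_P1 (hG : Cfsg.IsMinSimpleOddOrder G) {M K : Subgroup G}
    (hM : IsCoatom M) (hK : Cfsg.IsPiHallOf (Cfsg.kappa M) K M) (hK1 : K ≠ ⊥)
    (h1 : Nat.card ↥M = Nat.card ↥K * Nat.card ↥(Cfsg.sigmaCore M)) :
    (Nat.card ↥(star M K)).Prime := by
  obtain ⟨L, hL, hKL, hm1, hKeq⟩ := exists_partner hG hM hK hK1
  by_contra hnp
  have h2 := card_of_not_prime hG hL hm1.hall hm1.ne hnp
  exact pair_count hG hM hK hK1 hKL hm1 h1 h2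

end Cfsg.Agent.Lib.Helper4.BG14
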