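import Mathlib
import Cfsg.Agent.Lib.Helper4.BG14L
import Cfsg.Agent.Lib.Helper4.TypeP
import Cfsg.Agent.Lib.helper3.BG14B
import Cfsg.Agent.S1443

/-!
Bender–Glauberman §14/§15, helper4: `K*` and `M_F` (for S1364).
-/

set_option autoImplicit false
set_option linter.unusedSectionVars false
set_option linter.unusedVariables false
set_option linter.style.haveILetI false
set_option maxHeartbeats 1000000
open Cfsg
open scoped commutatorElement Pointwise

namespace Cfsg.Agent.Lib.Helper4.BG14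

open Cfsg.Agent.Lib.Helper8.BGTen Cfsg.Agent.Lib.Helper4.BGTrans
open Cfsg.Agent.Lib.helper3.BG11 Cfsg.Agent.Lib.helper3.BG12 Cfsg.Agent.Lib.Helper4.BG13

universe u

variable {G : Type u} [Group G] [Finite G]

/-- in a cyclic group an element of order `p` lies in every subgroup of order `p` -/
theorem mem_zpowers_of_orderOf_eq_of_cyclic {C : Subgroup G} (hC : IsCyclic ↥C) {p : ℕ}
    (hp : p.Prime) {x y : G} (hx : x ∈ C) (hy : y ∈ C) (hxo : orderOf x = p) (hyo : orderOf y = p) :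
    x ∈ Subgroup.zpowers y := by
  haveI := hC
  letI : CommGroup ↥C := IsCyclic.commGroup
  have hpC : p ∣ Nat.card ↥C := by
    rw [← hyo]
    exact Subgroup.orderOf_dvd_natCard _ hy
  have hker : Nat.card ↥(powMonoidHom p : ↥C →* ↥C).ker = p := by
    rw [IsCyclic.card_powMonoidHom_ker, Nat.gcd_eq_right hpC]
  have hyk : Subgroup.zpowers (⟨y, hy⟩ : ↥C) ≤ (powMonoidHom p : ↥C →* ↥C).ker := by
    rw [Subgroup.zpowers_le, MonoidHom.mem_ker, powMonoidHom_apply]
    apply Subtype.ext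
    rw [Subgroup.coe_pow, Subgroup.coe_one, ← hyo]
    exact pow_orderOf_eq_one y
  have hyc : Nat.card ↥(Subgroup.zpowers (⟨y, hy⟩ : ↥C)) = p := by
    rw [Nat.card_zpowers, ← hyo]
    exact Subgroup.orderOf_mk y hy
  have heq : Subgroup.zpowers (⟨y, hy⟩ : ↥C) = (powMonoidHom p : ↥C →* ↥C).ker :=
    Subgroup.eq_of_le_of_card_ge hyk (by rw [hker, hyc])
  have hxk : (⟨x, hx⟩ : ↥C) ∈ (powMonoidHom p : ↥C →* ↥C).ker := by
    rw [MonoidHom.mem_ker, powMonoidHom_apply]
    apply Subtype.ext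
    rw [Subgroup.coe_pow, Subgroup.coe_one, ← hxo]
    exact pow_orderOf_eq_one x
  rw [← heq] at hxk
  obtain ⟨k, hk⟩ := Subgroup.mem_zpowers_iff.mp hxk
  rw [Subgroup.mem_zpowers_iff]
  refine ⟨k, ?_⟩
  have := congrArg Subtype.val hk
  simpa using this

namespace Mem

variable {Z N K : Subgroup G}

/-- `K*` is cyclic -/
theorem isCyclic_star (hG : Cfsg.IsMinSimpleOddOrder G) (h : Mem Z N K) :
    IsCyclic ↥(star N K) := by
  obtain ⟨L, hL, hKL, hm1, hKeq⟩ := exists_partner hG h.coatom h.hall h.ne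
  exact isCyclic_of_hall_kappa hG hL hm1.hall

/-- if `K* ≤ M_F` then `M_F` is not cyclic -/
theorem not_isCyclic_fittingHallOf (hG : Cfsg.IsMinSimpleOddOrder G) (h : Mem Z N K)
    (hle : star N K ≤ Cfsg.fittingHallOf N) : ¬ IsCyclic ↥(Cfsg.fittingHallOf N) := by
  intro hC
  have h31 := Cfsg.Agent.S1431.result hG N h.coatom K h.hall h.ne
  have hs1 : Nat.card ↥(star N K) ≠ 1 := fun h0 => h.star_ne hG (Subgroup.card_eq_one.mp h0)
  obtain ⟨p, hp, hpd⟩ := Nat.exists_prime_and_dvd hs1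
  haveI : Fact p.Prime := ⟨hp⟩
  obtain ⟨S⟩ : Nonempty (Sylow p ↥(Cfsg.sigmaCore N)) := inferInstance
  have h3 := (h31.2.2.1 p hp hpd S).2
  set H : Subgroup G := (S : Subgroup ↥(Cfsg.sigmaCore N)).map (Cfsg.sigmaCore N).subtype with hH
  have hHp : IsPGroup p ↥H := S.2.map _
  have hHN : H ≤ N := h3.1
  have hHσ : H ≤ Cfsg.sigmaCore N := Subgroup.map_subtype_le _
  -- `H ≤ M_F`
  have hpF : p ∣ Nat.card ↥(Cfsg.fittingHallOf N) := hpd.trans (Subgroup.card_dvd_of_le hle)
  have hnd : ¬ p ∣ (Cfsg.fittingHallOf N).relIndex N := by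
    intro h0
    have := Nat.dvd_gcd hpF h0
    rw [Cfsg.Agent.Lib.Helper4.TypeP.fittingHallOf_coprime N] at this
    exact hp.one_lt.ne' (Nat.dvd_one.mp this)
  have hHF : H ≤ Cfsg.fittingHallOf N :=
    Cfsg.Agent.H2.BG11.pgroup_le_of_relIndex hp hHN
      (Cfsg.Agent.Lib.Helper4.TypeP.fittingHallOf_le N)
      (Cfsg.Agent.Lib.Helper4.TypeP.le_normalizer_fittingHallOf N) hHp hnd
  -- `K` normalizes `H`
  have hKH : K ≤ Subgroup.normalizer (H : Set G) :=
    le_normalizer_of_le_cyclic hC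
      (h.hall.1.trans (Cfsg.Agent.Lib.Helper4.TypeP.le_normalizer_fittingHallOf N)) hHF
  -- an element of order `p` of `K*`
  obtain ⟨y, hy⟩ := exists_prime_orderOf_dvd_card' (G := ↥(star N K)) p hpd
  have hyo : orderOf (y : G) = p := by rw [Subgroup.orderOf_coe, hy]
  have hH1 : 1 < Nat.card ↥H := by
    have hne : H ≠ ⊥ := by
      intro h0
      apply h3.2
      rw [h0]
      exact bot_le
    have : Nat.card ↥H ≠ 1 := fun h0 => hne (Subgroup.card_eq_one.mp h0)
    have := Nat.card_pos (α := ↥H)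
    omega
  have hp2 : p ≠ 2 := Cfsg.Agent.Lib.Helper4.BGUniq.prime_ne_two hG hHp hH1
  have hcop : (Nat.card ↥K).Coprime p := by
    rw [Nat.coprime_comm, Nat.Prime.coprime_iff_not_dvd hp]
    intro h0
    exact h.not_sigma_of_dvd hp h0 (Cfsg.Agent.H2.BG11.mem_sigma_of_dvd_sigmaCore hG h.coatom hp
      (hpd.trans (Subgroup.card_dvd_of_le inf_le_left)))
  have hcent := Cfsg.Agent.S1443.result p hp2 H ⊥ K hHp bot_le
    ⟨inferInstance, fun a ha => by rw [Subgroup.mem_bot.mp ha, one_pow]⟩ hKH hcop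
    (by
      intro x hx hxo
      have hxy := mem_zpowers_of_orderOf_eq_of_cyclic hC hp (hHF hx.1) (hle y.2) hxo hyo
      have hxs : x ∈ star N K := by
        have : Subgroup.zpowers (y : G) ≤ star N K := by rw [Subgroup.zpowers_le]; exact y.2
        exact this hxy
      intro k hk
      rw [Subgroup.mem_centralizer_iff]
      intro z hz
      rw [Set.mem_singleton_iff.mp hz]
      exact (Subgroup.mem_centralizer_iff.mp hxs.2 k hk).symm)
  apply h3.2
  refine le_inf hHσ ?_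
  exact Subgroup.le_centralizer_iff.mp hcent

/-- if `M_σ` is nilpotent then `K* ≤ M_F` -/
theorem star_le_fittingHallOf_of_nilpotent (hG : Cfsg.IsMinSimpleOddOrder G) (h : Mem Z N K)
    (hnil : Group.IsNilpotent ↥(Cfsg.sigmaCore N)) : star N K ≤ Cfsg.fittingHallOf N := by
  rw [← Cfsg.Agent.Lib.helper3.BG14.sigmaCore_eq_fittingHallOf hG h.coatom hnil]
  exact inf_le_left

end Mem

end Cfsg.Agent.Lib.Helper4.BG14
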