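import Mathlib
import Cfsg.Agent.Lib.Helper4.BG14M
import Cfsg.Agent.Lib.Helper8.BG15A

/-!
Bender–Glauberman §16, helper4: generalities for S1389 (Sylow subgroups of `M_s`).
-/

set_option autoImplicit false
set_option linter.unusedSectionVars false
set_option linter.unusedVariables false
set_option linter.style.haveILetI false
set_option maxHeartbeats 1000000
open Cfsg
open scoped commutatorElement Pointwise

namespace Cfsg.Agent.Lib.Helper4.BG16

open Cfsg.Agent.Lib.Helper7 (IsSylowIn)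
open Cfsg.Agent.Lib.Helper8.BGTen Cfsg.Agent.Lib.Helper4.BGTrans

universe u

variable {G : Type u} [Group G] [Finite G]

/-- a Hall subgroup `T` of `M` inside `M_σ`: normalizers of its Sylow subgroups lie in `M`, and `T` is
a Hall subgroup of `G` -/
theorem hall_le_sigmaCore_facts (hG : Cfsg.IsMinSimpleOddOrder G) {M T : Subgroup G}
    (hM : IsCoatom M) (hTσ : T ≤ Cfsg.sigmaCore M)
    (hcop : (Nat.card ↥T).Coprime (T.relIndex M)) :
    (∀ (p : ℕ), p.Prime → ∀ (P : Sylow p ↥T), (P : Subgroup ↥T) ≠ ⊥ →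
        Subgroup.normalizer ((((P : Subgroup ↥T).map T.subtype : Subgroup G)) : Set G) ≤ M) ∧
      (Nat.card ↥T).Coprime T.index := by
  have hTM : T ≤ M := hTσ.trans (Cfsg.Agent.H2.BG11.sigmaCore_le M)
  have hσ : ∀ q : ℕ, q.Prime → q ∣ Nat.card ↥T → q ∈ Cfsg.sigma M := fun q hq hd =>
    Cfsg.Agent.H2.BG11.mem_sigma_of_dvd_sigmaCore hG hM hq (hd.trans (Subgroup.card_dvd_of_le hTσ))
  constructor
  · intro p hp P hP1
    haveI : Fact p.Prime := ⟨hp⟩
    have hpT : p ∣ Nat.card ↥T := by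
      by_contra hnd
      apply hP1
      apply Subgroup.card_eq_one.mp
      rw [P.card_eq_multiplicity, Nat.factorization_eq_zero_of_not_dvd hnd, pow_zero]
    have hpσ := hσ p hp hpT
    have hnr : ¬ p ∣ T.relIndex M := by
      intro h0
      have := Nat.dvd_gcd hpT h0
      rw [hcop] at this
      exact hp.one_lt.ne' (Nat.dvd_one.mp this)
    have hr0 : T.relIndex M ≠ 0 := fun h0 => hnr (by rw [h0]; exact dvd_zero p)
    have hS : IsSylowIn p ((P : Subgroup ↥T).map T.subtype) M := by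
      refine ⟨(Subgroup.map_subtype_le _).trans hTM, ?_⟩
      rw [Subgroup.card_map_of_injective T.subtype_injective, P.card_eq_multiplicity,
        Cfsg.Agent.H1.card_eq_relIndex_mul_card hTM,
        Nat.factorization_mul hr0 Nat.card_pos.ne']
      simp only [Finsupp.coe_add, Pi.add_apply]
      rw [Nat.factorization_eq_zero_of_not_dvd hnr, zero_add]
    exact sigma_normalizer_le hpσ hS
  · apply Nat.coprime_of_dvd
    intro q hq hd1 hd2
    haveI : Fact q.Prime := ⟨hq⟩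
    rw [← Subgroup.relIndex_mul_index hTM] at hd2
    rcases (Nat.Prime.dvd_mul hq).mp hd2 with h | h
    · have := Nat.dvd_gcd hd1 h
      rw [hcop] at this
      exact hq.one_lt.ne' (Nat.dvd_one.mp this)
    · exact not_dvd_index_of_sigma (hσ q hq hd1) h

/-- for type-`𝒫` data, `M'` is a Hall subgroup of `M` -/
theorem commutator_coprime_of_typeP {M W₁ U W₂ : Subgroup G} (h : Cfsg.IsTypePWith M W₁ U W₂) :
    (Nat.card ↥⁅M, M⁆).Coprime ((⁅M, M⁆ : Subgroup G).relIndex M) := by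
  have hc := Cfsg.Agent.Lib.BG127H7.card_of_isComplIn h.W₁_compl
  have h1 := Cfsg.Agent.H1.card_eq_relIndex_mul_card h.W₁_compl.1
  have h2 := Cfsg.Agent.H1.card_eq_relIndex_mul_card h.W₁_compl.2.1
  have hpos1 : 0 < Nat.card ↥⁅M, M⁆ := Nat.card_pos
  have hpos2 : 0 < Nat.card ↥W₁ := Nat.card_pos
  have e1 : (⁅M, M⁆ : Subgroup G).relIndex M = Nat.card ↥W₁ := by
    have : (⁅M, M⁆ : Subgroup G).relIndex M * Nat.card ↥⁅M, M⁆ =
        Nat.card ↥W₁ * Nat.card ↥⁅M, M⁆ := by rw [← h1, hc, mul_comm]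
    exact Nat.eq_of_mul_eq_mul_right hpos1 this
  have e2 : W₁.relIndex M = Nat.card ↥⁅M, M⁆ := by
    have : W₁.relIndex M * Nat.card ↥W₁ = Nat.card ↥⁅M, M⁆ * Nat.card ↥W₁ := by rw [← h2, hc]
    exact Nat.eq_of_mul_eq_mul_right hpos2 this
  rw [e1, ← e2]
  exact h.W₁_hall.symm

/-- **S1389**, given that `M' ≤ M_σ` for `M` of Type III or IV -/
theorem s1389_of (hG : Cfsg.IsMinSimpleOddOrder G) {M : Subgroup G} (hM : IsCoatom M)
    (h34 : Cfsg.IsOfTypeIII M ∨ Cfsg.IsOfTypeIV M → (⁅M, M⁆ : Subgroup G) ≤ Cfsg.sigmaCore M) :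
    (∀ (p : ℕ), p.Prime → ∀ (P : Sylow p ↥(Cfsg.typeCore M)),
        (P : Subgroup ↥(Cfsg.typeCore M)) ≠ ⊥ →
        Subgroup.normalizer ((((P : Subgroup ↥(Cfsg.typeCore M)).map
          (Cfsg.typeCore M).subtype : Subgroup G)) : Set G) ≤ M) ∧
      (Nat.card (Cfsg.fittingHallOf M)).Coprime (Cfsg.fittingHallOf M).index ∧
      (Nat.card (Cfsg.typeCore M)).Coprime (Cfsg.typeCore M).index := by
  have hF := hall_le_sigmaCore_facts hG hM
    (Cfsg.Agent.Lib.Helper8.BG15.fittingHallOf_le_sigmaCore hG hM)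
    (Cfsg.Agent.Lib.Helper4.TypeP.fittingHallOf_coprime M)
  have hT : Cfsg.typeCore M ≤ Cfsg.sigmaCore M ∧
      (Nat.card ↥(Cfsg.typeCore M)).Coprime ((Cfsg.typeCore M).relIndex M) := by
    unfold Cfsg.typeCore
    split_ifs with h
    · refine ⟨h34 h, ?_⟩
      rcases h with ⟨W₁, U, W₂, hP, -⟩ | ⟨W₁, U, W₂, hP, -⟩
      · exact commutator_coprime_of_typeP hP
      · exact commutator_coprime_of_typeP hP
    · exact ⟨Cfsg.Agent.Lib.Helper8.BG15.fittingHallOf_le_sigmaCore hG hM,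
        Cfsg.Agent.Lib.Helper4.TypeP.fittingHallOf_coprime M⟩
  have hT' := hall_le_sigmaCore_facts hG hM hT.1 hT.2
  exact ⟨hT'.1, hF.2, hT'.2⟩

end Cfsg.Agent.Lib.Helper4.BG16
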