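import Mathlib
import Cfsg.Agent.Lib.Helper4.BG16A
import Cfsg.Agent.Lib.Helper5.BG14Z3
import Cfsg.Agent.Lib.Helper5.BG14Z4
import Cfsg.Agent.S1351
import Cfsg.Agent.Lib.Helper7.BG14PC
import Cfsg.Agent.S1352
import Cfsg.Agent.S1365

/-!
Bender–Glauberman §16, helper4: type-`𝒫` data and the standard factorisation
(blueprint Part 22: (L-κ), and `M' = M_σ` for Types III, IV).
-/

set_option autoImplicit false
set_option linter.unusedSectionVars false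
set_option linter.unusedVariables false
set_option linter.style.haveILetI false
set_option maxHeartbeats 1000000
open Cfsg
open scoped commutatorElement Pointwise

namespace Cfsg.Agent.Lib.Helper4.BG16

open Cfsg.Agent.Lib.Helper7 (IsSylowIn)
open Cfsg.Agent.Lib.Helper8.BGTen Cfsg.Agent.Lib.Helper4.BGTrans

universe u

variable {G : Type u} [Group G] [Finite G]

section typeP

variable {M W₁ U₂ W₂ : Subgroup G}

theorem card_of_typeP (h : Cfsg.IsTypePWith M W₁ U₂ W₂) :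
    Nat.card ↥M = Nat.card ↥⁅M, M⁆ * Nat.card ↥W₁ :=
  Cfsg.Agent.Lib.BG127H7.card_of_isComplIn h.W₁_compl

theorem relIndex_W₁_of_typeP (h : Cfsg.IsTypePWith M W₁ U₂ W₂) :
    W₁.relIndex M = Nat.card ↥⁅M, M⁆ := by
  have hc := card_of_typeP h
  have h2 := Cfsg.Agent.H1.card_eq_relIndex_mul_card h.W₁_compl.2.1
  have hpos2 : 0 < Nat.card ↥W₁ := Nat.card_pos
  have : W₁.relIndex M * Nat.card ↥W₁ = Nat.card ↥⁅M, M⁆ * Nat.card ↥W₁ := by rw [← h2, hc]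
  exact Nat.eq_of_mul_eq_mul_right hpos2 this

/-- **(L-κ)**: every prime divisor of `|W₁|` lies in `κ(M)` -/
theorem kappa_of_typeP (hG : Cfsg.IsMinSimpleOddOrder G) (hM : IsCoatom M)
    (h : Cfsg.IsTypePWith M W₁ U₂ W₂) {p : ℕ} (hp : p.Prime) (hpd : p ∣ Nat.card ↥W₁) :
    p ∈ Cfsg.kappa M := by
  haveI : Fact p.Prime := ⟨hp⟩
  have hW₁M : W₁ ≤ M := h.W₁_compl.2.1
  have hcop : (Nat.card ↥W₁).Coprime (Nat.card ↥⁅M, M⁆) := by
    rw [← relIndex_W₁_of_typeP h]; exact h.W₁_hall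
  have hnd : ¬ p ∣ Nat.card ↥⁅M, M⁆ := by
    intro h0
    have := Nat.dvd_gcd hpd h0
    rw [hcop] at this
    exact hp.one_lt.ne' (Nat.dvd_one.mp this)
  have hσc : Cfsg.sigmaCore M ≤ ⁅M, M⁆ :=
    Cfsg.Agent.Lib.Helper5.BGBeta.sigmaCore_le_commutator hG (Cfsg.Agent.H2.BG11.uniq hG) hM
  have hpσ : p ∉ Cfsg.sigma M := by
    intro h0
    exact hnd ((Cfsg.Agent.H2.BG11.dvd_card_sigmaCore hG hM h0).trans
      (Subgroup.card_dvd_of_le hσc))
  -- a cyclic Sylow `p`-subgroup of `M`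
  obtain ⟨S⟩ : Nonempty (Sylow p ↥W₁) := inferInstance
  have hS : IsSylowIn p ((S : Subgroup ↥W₁).map W₁.subtype) M := by
    refine ⟨(Subgroup.map_subtype_le _).trans hW₁M, ?_⟩
    rw [Subgroup.card_map_of_injective W₁.subtype_injective, S.card_eq_multiplicity,
      card_of_typeP h, Nat.factorization_mul Nat.card_pos.ne' Nat.card_pos.ne']
    simp only [Finsupp.coe_add, Pi.add_apply]
    rw [Nat.factorization_eq_zero_of_not_dvd hnd, zero_add]
  have hSc : IsCyclic ↥((S : Subgroup ↥W₁).map W₁.subtype) := by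
    haveI := h.W₁_cyclic
    exact Cfsg.Agent.Lib.Helper4.BG14.isCyclic_map_subtype _ inferInstance
  have hrk := Cfsg.Agent.Lib.helper3.BG12.pRankLE_one_of_cyclic_sylow hS hSc
  -- an element of order `p` of `W₁`
  obtain ⟨x, hx⟩ := exists_prime_orderOf_dvd_card' (G := ↥W₁) p hpd
  have hxo : orderOf (x : G) = p := by rw [Subgroup.orderOf_coe, hx]
  have hx1 : (x : G) ≠ 1 := by
    intro h0
    rw [h0, orderOf_one] at hxo
    exact hp.one_lt.ne hxo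
  have hTc : Nat.card ↥(Subgroup.zpowers (x : G)) = p := by rw [Nat.card_zpowers, hxo]
  have hTM : Subgroup.zpowers (x : G) ≤ M := by
    rw [Subgroup.zpowers_le]; exact hW₁M x.2
  refine Cfsg.Agent.Lib.Helper4.BG14.mem_kappa_of_fixed hG hpσ hrk hTM hTc ?_
  have hW₂ := h.W₂_centralizer (x : G) x.2 hx1
  have hle : W₂ ≤ Cfsg.sigmaCore M ⊓ Subgroup.centralizer (Subgroup.zpowers (x : G) : Set G) := by
    refine le_inf ((h.W₂_le.trans inf_le_left).trans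
      (Cfsg.Agent.Lib.Helper8.BG15.fittingHallOf_le_sigmaCore hG hM)) ?_
    rw [← hW₂]
    intro y hy
    have hc : Commute (x : G) y :=
      Subgroup.mem_centralizer_iff.mp hy.2 (x : G) (Set.mem_singleton _)
    refine Subgroup.mem_centralizer_iff.mpr (fun z hz => ?_)
    obtain ⟨k, rfl⟩ := Subgroup.mem_zpowers_iff.mp hz
    exact (hc.zpow_left k).eq
  intro h0
  rw [h0] at hle
  exact h.selfNormalizing.2.1 (le_bot_iff.mp hle)

/-- for `M` of type `𝒫` there is a nontrivial cyclic Hall `κ(M)`-subgroup -/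
theorem exists_hall_kappa_of_typeP (hG : Cfsg.IsMinSimpleOddOrder G) (hM : IsCoatom M)
    (h : Cfsg.IsTypePWith M W₁ U₂ W₂) :
    ∃ K : Subgroup G, Cfsg.IsPiHallOf (Cfsg.kappa M) K M ∧ K ≠ ⊥ ∧ IsCyclic ↥K := by
  obtain ⟨⟨K, hK⟩, hcyc⟩ := Cfsg.Agent.S1351.result hG M hM
  refine ⟨K, hK, ?_, hcyc K hK⟩
  intro h0
  have hW1 : Nat.card ↥W₁ ≠ 1 := fun h1 => h.W₁_ne (Subgroup.card_eq_one.mp h1)
  obtain ⟨p, hp, hpd⟩ := Nat.exists_prime_and_dvd hW1
  have hκ := kappa_of_typeP hG hM h hp hpd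
  have h1 := hK.2.2 p hp hκ
  rw [h0, Subgroup.relIndex_bot_left] at h1
  exact h1 hκ.2.1

end typeP

/-- if `M` has type-`𝒫` data `(W₁, U₂, W₂)` with `N_G(U₂) ≤ M` then `M' ≤ M_σ` (given S1363(2)) -/
theorem commutator_le_sigmaCore_of_normalizer_le (hG : Cfsg.IsMinSimpleOddOrder G)
    {M W₁ U₂ W₂ : Subgroup G} (hM : IsCoatom M)
    (h63 : ∀ K U : Subgroup G, Cfsg.IsSigmaDecomposition M K U → K ≠ ⊥ →
      ¬ Subgroup.normalizer (U : Set G) ≤ M)
    (h : Cfsg.IsTypePWith M W₁ U₂ W₂) (hN : Subgroup.normalizer (U₂ : Set G) ≤ M) :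
    (⁅M, M⁆ : Subgroup G) ≤ Cfsg.sigmaCore M := by
  obtain ⟨K, hK, hK1, hKc⟩ := exists_hall_kappa_of_typeP hG hM h
  obtain ⟨U, hKU⟩ := (Cfsg.Agent.S1352.result hG M hM K hKc hK).1
  have h65 := (Cfsg.Agent.S1365.result hG M hM K U hKU hK1).1
  by_cases hU : U = ⊥
  · rw [h65, hU, bot_sup_eq]
  exfalso
  have hnil := Cfsg.Agent.Lib.Helper7.BG14P.nilpotent_of_U_ne_bot hG hM hKU hU
  have hF := Cfsg.Agent.Lib.helper3.BG14.sigmaCore_eq_fittingHallOf hG hM hnil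
  have hc := h.U_compl
  rw [← hF, h65] at hc
  -- cardinalities
  have hcard1 := Cfsg.Agent.Lib.BG127H7.card_of_isComplIn hc
  have hcard2 := Cfsg.Agent.H1.card_sup_mul_card_inf U (Cfsg.sigmaCore M)
    (hKU.compl.1.trans (Cfsg.Agent.H2.BG11.le_normalizer_sigmaCore M))
  rw [Cfsg.Agent.Lib.Helper5.BG14Z.U_inf_sigmaCore hKU, Subgroup.card_bot, mul_one] at hcard2
  have hσpos : 0 < Nat.card ↥(Cfsg.sigmaCore M) := Nat.card_pos
  have hUU₂ : Nat.card ↥U₂ = Nat.card ↥U := by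
    have : Nat.card ↥(Cfsg.sigmaCore M) * Nat.card ↥U₂ =
        Nat.card ↥(Cfsg.sigmaCore M) * Nat.card ↥U := by rw [← hcard1, hcard2, mul_comm]
    exact Nat.eq_of_mul_eq_mul_left hσpos this
  have hUhall := Cfsg.Agent.Lib.Helper5.BG14Z.isPiHallOf_U_N hG hM hKU
  have hU₂hall : Cfsg.IsPiHallOf (Cfsg.sigma M)ᶜ U₂ (U ⊔ Cfsg.sigmaCore M) := by
    refine ⟨hc.2.1, fun q hq hd => hUhall.2.1 q hq (hUU₂ ▸ hd), fun q hq hqσ hd => ?_⟩
    have h1 := Cfsg.Agent.H1.card_eq_relIndex_mul_card hc.2.1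
    have h2 : U₂.relIndex (U ⊔ Cfsg.sigmaCore M) = Nat.card ↥(Cfsg.sigmaCore M) := by
      have hpos : 0 < Nat.card ↥U₂ := Nat.card_pos
      have : U₂.relIndex (U ⊔ Cfsg.sigmaCore M) * Nat.card ↥U₂ =
          Nat.card ↥(Cfsg.sigmaCore M) * Nat.card ↥U₂ := by rw [← h1, hcard1]
      exact Nat.eq_of_mul_eq_mul_right hpos this
    rw [h2] at hd
    exact hqσ (Cfsg.Agent.H2.BG11.mem_sigma_of_dvd_sigmaCore hG hM hq hd)
  have hNM : U ⊔ Cfsg.sigmaCore M ≤ M := sup_le hKU.compl.1 (Cfsg.Agent.H2.BG11.sigmaCore_le M)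
  have hsolv : Group.IsSolvable ↥(U ⊔ Cfsg.sigmaCore M) :=
    Cfsg.Agent.Lib.Helper4.BG14.isSolvable_of_le_coatom hG hM hNM
  obtain ⟨g, hg, hgU⟩ := Cfsg.Agent.H1.isPiHallOf_conj _ U U₂ _ hsolv hUhall hU₂hall
  have hgM : g ∈ M := hNM hg
  apply h63 K U hKU hK1
  intro n hn
  have h1 : g * n * g⁻¹ ∈ Subgroup.normalizer (U₂ : Set G) := by
    rw [hgU]
    have := Subgroup.map_equiv_normalizer_eq U (MulAut.conj g)
    have h2 : g * n * g⁻¹ ∈ (Subgroup.normalizer (U : Set G)).map (MulAut.conj g).toMonoidHom :=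
      ⟨n, hn, rfl⟩
    rw [this] at h2
    exact h2
  have h2 := hN h1
  have h3 := M.mul_mem (M.mul_mem (M.inv_mem hgM) h2) hgM
  have e : g⁻¹ * (g * n * g⁻¹) * g = n := by group
  rwa [e] at h3

end Cfsg.Agent.Lib.Helper4.BG16
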