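import Cfsg.Agent.Lib.Helper4.TwoTransB
import Cfsg.Agent.Lib.Helper4.MinNormal

set_option autoImplicit false
set_option linter.unusedSectionVars false
set_option linter.style.haveILetI false

/-!
# Burnside: minimal normal subgroups of doubly transitive groups
-/

namespace Cfsg.Agent.Lib.Helper4.TwoTransMin

open MulAction Cfsg Cfsg.Agent.Lib.Helper4.MinNormal
open scoped Pointwise

/-- a finite group all of whose non-identity elements have the same order has prime exponent
and a non-trivial centre -/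
theorem exists_prime_of_same_order {T : Type*} [Group T] [Finite T] [Nontrivial T]
    (h : ∀ s t : T, s ≠ 1 → t ≠ 1 → orderOf s = orderOf t) :
    ∃ p : ℕ, p.Prime ∧ (∀ t : T, t ^ p = 1) ∧ Subgroup.center T ≠ ⊥ := by
  have hcard : Nat.card T ≠ 1 := by
    intro h1
    have := (Nat.card_eq_one_iff_unique.mp h1).1
    exact not_subsingleton T this
  obtain ⟨p, hp, hpd⟩ := Nat.exists_prime_and_dvd hcard
  haveI : Fact p.Prime := ⟨hp⟩
  obtain ⟨x, hx⟩ := exists_prime_orderOf_dvd_card' p hpd
  have hx1 : x ≠ 1 := by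
    intro h1
    rw [h1, orderOf_one] at hx
    exact hp.one_lt.ne hx
  have hpow : ∀ t : T, t ^ p = 1 := by
    intro t
    by_cases ht : t = 1
    · rw [ht, one_pow]
    · rw [← hx, h x t hx1 ht]
      exact pow_orderOf_eq_one t
  refine ⟨p, hp, hpow, ?_⟩
  have hpg : IsPGroup p T := fun t => ⟨1, by rw [pow_one]; exact hpow t⟩
  haveI := hpg.center_nontrivial
  exact (Subgroup.nontrivial_iff_ne_bot _).mp inferInstance

variable {G : Type*} [Group G] {α : Type*} [MulAction G α]

/-- a subgroup commuting with a transitive subgroup is semiregular -/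
theorem eq_one_of_commute_transitive [FaithfulSMul G α] (S₁ S₂ : Subgroup G)
    (hc : ∀ s ∈ S₁, ∀ x ∈ S₂, s * x = x * s)
    (htr : ∀ x y : α, ∃ s ∈ S₁, s • x = y) (a : α) (u : G) (hu : u ∈ S₂) (hua : u • a = a) :
    u = 1 := by
  apply FaithfulSMul.eq_of_smul_eq_smul (α := α)
  intro x
  obtain ⟨s, hs, rfl⟩ := htr a x
  rw [one_smul, smul_smul, ← hc s hs u hu, ← smul_smul, hua]

theorem regular_case [Finite G] [Finite α] [FaithfulSMul G α] (N : Subgroup G) [hNn : N.Normal]
    (h2 : IsMultiplyPretransitive G α 2) (hN : N ≠ ⊥)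
    (hmin : ∀ M : Subgroup G, M.Normal → M ≤ N → M = ⊥ ∨ M = N)
    (hreg : ∀ a : α, stabilizer N a = ⊥) :
    IsMulCommutative N ∧ ∃ p : ℕ, p.Prime ∧ ∀ n ∈ N, n ^ p = 1 := by
  haveI : Nontrivial N := (Subgroup.nontrivial_iff_ne_bot N).mpr hN
  have hreg' : ∀ a : α, ∀ n ∈ N, n • a = a → n = 1 := by
    intro a n hn hna
    have h1 : (⟨n, hn⟩ : N) ∈ stabilizer N a := mem_stabilizer_iff.mpr hna
    rw [hreg a, Subgroup.mem_bot] at h1
    exact congrArg Subtype.val h1
  -- a point
  obtain ⟨a⟩ : Nonempty α := by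
    by_contra hne
    rw [not_nonempty_iff] at hne
    apply hN
    rw [eq_bot_iff]
    intro n _
    rw [Subgroup.mem_bot]
    apply FaithfulSMul.eq_of_smul_eq_smul (α := α)
    intro x
    exact hne.elim x
  have hsame : ∀ s t : N, s ≠ 1 → t ≠ 1 → orderOf s = orderOf t := by
    intro s t hs ht
    have hsa : (s : G) • a ≠ a := fun h => hs (Subtype.ext (hreg' a s s.2 h))
    have hta : (t : G) • a ≠ a := fun h => ht (Subtype.ext (hreg' a t t.2 h))
    obtain ⟨g, hga, hgs⟩ := (is_two_pretransitive_iff.mp h2) (Ne.symm hsa) (Ne.symm hta)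
    have hga' : g⁻¹ • a = a := by rw [inv_smul_eq_iff, hga]
    have hx : g * (s : G) * g⁻¹ ∈ N := hNn.conj_mem s s.2 g
    have hxa : ((t : G)⁻¹ * (g * (s : G) * g⁻¹)) • a = a := by
      rw [← smul_smul, ← smul_smul, ← smul_smul, hga', hgs, inv_smul_smul]
    have h1 := hreg' a _ (N.mul_mem (N.inv_mem t.2) hx) hxa
    have h3 : g * (s : G) * g⁻¹ = (t : G) := by
      have := congrArg (fun z => (t : G) * z) h1
      simpa [mul_assoc] using this
    rw [← Subgroup.orderOf_coe s, ← Subgroup.orderOf_coe t, ← h3]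
    exact (orderOf_injective (MulAut.conj g).toMonoidHom (MulAut.conj g).injective (s : G)).symm
  obtain ⟨p, hp, hpow, hcen⟩ := exists_prime_of_same_order hsame
  refine ⟨?_, p, hp, fun n hn => congrArg Subtype.val (hpow ⟨n, hn⟩)⟩
  have hMn : ((Subgroup.center N).map N.subtype).Normal := inferInstance
  have hMle : (Subgroup.center N).map N.subtype ≤ N := by
    rintro _ ⟨k, _, rfl⟩
    exact k.2
  have htop : Subgroup.center N = ⊤ := by
    rcases hmin _ hMn hMle with h | h
    · exfalso
      apply hcen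
      rw [eq_bot_iff]
      intro k hk
      have : (k : G) ∈ (Subgroup.center N).map N.subtype := ⟨k, hk, rfl⟩
      rw [h, Subgroup.mem_bot] at this
      rw [Subgroup.mem_bot]
      exact Subtype.ext this
    · rw [eq_top_iff]
      intro n _
      have : (n : G) ∈ (Subgroup.center N).map N.subtype := by rw [h]; exact n.2
      obtain ⟨k, hk, hkn⟩ := this
      have : k = n := Subtype.ext hkn
      rw [← this]
      exact hk
  refine ⟨⟨fun x y => ?_⟩⟩
  have hy : y ∈ Subgroup.center N := by rw [htop]; exact Subgroup.mem_top y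
  exact Subgroup.mem_center_iff.mp hy x

/-- a minimal normal subgroup of a primitive normal subgroup is transitive -/
theorem transitive_of_minNormalIn [FaithfulSMul G α] (N : Subgroup G)
    (hprim : IsPreprimitive N α) (S : Subgroup G) (hS : MinNormalIn N S) (x y : α) :
    ∃ s ∈ S, s • x = y := by
  haveI : (S.subgroupOf N).Normal :=
    (Subgroup.normal_subgroupOf_iff_le_normalizer hS.1).mpr hS.2.2.1
  have hfix : fixedPoints (S.subgroupOf N) α ≠ Set.univ := by
    intro h
    apply hS.2.1
    rw [eq_bot_iff]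
    intro s hs
    rw [Subgroup.mem_bot]
    apply FaithfulSMul.eq_of_smul_eq_smul (α := α)
    intro z
    have hz : z ∈ fixedPoints (S.subgroupOf N) α := by rw [h]; exact Set.mem_univ z
    rw [one_smul]
    exact hz ⟨⟨s, hS.1 hs⟩, Subgroup.mem_subgroupOf.mpr hs⟩
  haveI := IsQuasiPreprimitive.isPretransitive_of_normal (G := N) (X := α)
    (N := S.subgroupOf N) hfix
  obtain ⟨s, hs⟩ := exists_smul_eq (S.subgroupOf N) x y
  exact ⟨((s : N) : G), Subgroup.mem_subgroupOf.mp s.2, hs⟩

theorem simple_case [Finite G] [Finite α] [FaithfulSMul G α] (N : Subgroup G) [hNn : N.Normal]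
    (h2 : IsMultiplyPretransitive G α 2) (hN : N ≠ ⊥)
    (hmin : ∀ M : Subgroup G, M.Normal → M ≤ N → M = ⊥ ∨ M = N)
    (hprim : IsPreprimitive N α) : IsSimpleGroup N := by
  obtain ⟨T, hT⟩ := exists_minNormalIn N hN
  have hTsimple : IsSimpleGroup T := hT.isSimpleGroup N hmin
  by_cases hTN : T = N
  · rw [← hTN]; exact hTsimple
  exfalso
  -- a point
  obtain ⟨a⟩ : Nonempty α := by
    by_contra hne
    rw [not_nonempty_iff] at hne
    apply hN
    rw [eq_bot_iff]
    intro n _
    rw [Subgroup.mem_bot]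
    apply FaithfulSMul.eq_of_smul_eq_smul (α := α)
    intro x
    exact hne.elim x
  -- another conjugate
  obtain ⟨g₀, hg₀⟩ : ∃ g : G, T.map (MulAut.conj g).toMonoidHom ≠ T := by
    by_contra h
    push Not at h
    apply hTN
    rw [← iSup_map_conj_eq N hmin hT]
    simp only [h]
    exact (iSup_const).symm
  -- conjugates different from `T` commute with `T`
  have hconj : ∀ g : G, T.map (MulAut.conj g).toMonoidHom ≠ T →
      ∀ s ∈ T.map (MulAut.conj g).toMonoidHom, ∀ x ∈ T, s * x = x * s := by
    intro g hg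
    have hT' := hT.map_conj (N := N) g
    have hnle : ¬ T.map (MulAut.conj g).toMonoidHom ≤ T := by
      intro hle
      rcases hT.2.2.2 _ hle hT'.2.2.1 with h | h
      · exact hT'.2.1 h
      · exact hg h
    have hd := hT'.disjoint_of_not_le hT.2.2.1 hnle
    exact commute_of_disjoint hT'.1 hT.1 hT'.2.2.1 hT.2.2.1 hd
  have htrT := transitive_of_minNormalIn N hprim T hT
  set T' := T.map (MulAut.conj g₀).toMonoidHom with hT'def
  have hT' := hT.map_conj (N := N) g₀
  have htrT' := transitive_of_minNormalIn N hprim T' hT'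
  have hc' := hconj g₀ hg₀
  -- semiregularity
  have hsemiT : ∀ u ∈ T, u • a = a → u = 1 := fun u hu hua =>
    eq_one_of_commute_transitive T' T hc' htrT' a u hu hua
  have hsemi : ∀ g : G, T.map (MulAut.conj g).toMonoidHom ≠ T →
      ∀ u ∈ T.map (MulAut.conj g).toMonoidHom, u • a = a → u = 1 := by
    intro g hg u hu hua
    exact eq_one_of_commute_transitive T (T.map (MulAut.conj g).toMonoidHom)
      (fun s hs x hx => (hconj g hg x hx s hs).symm) htrT a u hu hua
  -- the orders
  have hsame : ∀ s t : T, s ≠ 1 → t ≠ 1 → orderOf s = orderOf t := by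
    intro t s ht hs
    have hta : (t : G) • a ≠ a := fun h => ht (Subtype.ext (hsemiT t t.2 h))
    have hsa : (s : G) • a ≠ a := fun h => hs (Subtype.ext (hsemiT s s.2 h))
    obtain ⟨g, hga, hgs⟩ := (is_two_pretransitive_iff.mp h2) (Ne.symm hta) (Ne.symm hsa)
    have hga' : g⁻¹ • a = a := by rw [inv_smul_eq_iff, hga]
    set x : G := g * (t : G) * g⁻¹ with hx
    have hxmem : x ∈ T.map (MulAut.conj g).toMonoidHom := ⟨t, t.2, rfl⟩
    have hxa : x • a = (s : G) • a := by
      rw [hx, ← smul_smul, ← smul_smul, hga', hgs]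
    have hxord : orderOf x = orderOf (t : G) :=
      orderOf_injective (MulAut.conj g).toMonoidHom (MulAut.conj g).injective (t : G)
    rw [← Subgroup.orderOf_coe t, ← Subgroup.orderOf_coe s, ← hxord]
    by_cases hg : T.map (MulAut.conj g).toMonoidHom = T
    · rw [hg] at hxmem
      have h1 : ((s : G)⁻¹ * x) • a = a := by
        rw [← smul_smul, hxa, inv_smul_smul]
      have h3 := hsemiT _ (T.mul_mem (T.inv_mem s.2) hxmem) h1
      have h4 : x = (s : G) := by
        have := congrArg (fun z => (s : G) * z) h3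
        simpa [mul_assoc] using this
      rw [h4]
    · have hcomm : Commute x (s : G) := hconj g hg x hxmem s s.2
      have hpow : ∀ k : ℕ, (x ^ k) • a = ((s : G) ^ k) • a := by
        intro k
        induction k with
        | zero => simp
        | succ k ih =>
          rw [pow_succ, ← smul_smul, hxa, smul_smul, (hcomm.pow_left k).eq, ← smul_smul, ih,
            smul_smul, ← pow_succ']
      rw [orderOf_eq_orderOf_iff]
      intro k
      constructor
      · intro hk
        apply hsemiT _ (T.pow_mem s.2 k)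
        rw [← hpow k, hk, one_smul]
      · intro hk
        apply hsemi g hg _ (Subgroup.pow_mem _ hxmem k)
        rw [hpow k, hk, one_smul]
  haveI : Nontrivial T := (Subgroup.nontrivial_iff_ne_bot T).mpr hT.2.1
  haveI : Finite T := inferInstance
  obtain ⟨p, hp, hpow, hcen⟩ := exists_prime_of_same_order hsame
  have hcentop : Subgroup.center T = ⊤ :=
    ((Subgroup.center T).normal_of_characteristic.eq_bot_or_eq_top).resolve_left hcen
  have hab : ∀ u ∈ T, ∀ v ∈ T, u * v = v * u := by
    intro u hu v hv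
    have hv' : (⟨v, hv⟩ : T) ∈ Subgroup.center T := by rw [hcentop]; exact Subgroup.mem_top _
    have := Subgroup.mem_center_iff.mp hv' ⟨u, hu⟩
    exact congrArg Subtype.val this
  -- the final contradiction
  apply hT'.2.1
  rw [eq_bot_iff]
  intro t' ht'
  rw [Subgroup.mem_bot]
  obtain ⟨t, ht, hta⟩ := htrT a (t' • a)
  have hu : t⁻¹ * t' = 1 := by
    apply FaithfulSMul.eq_of_smul_eq_smul (α := α)
    intro z
    obtain ⟨r, hr, rfl⟩ := htrT a z
    rw [one_smul, smul_smul, mul_assoc, hc' t' ht' r hr, ← mul_assoc,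
      ← hab r hr t⁻¹ (T.inv_mem ht), mul_assoc, ← smul_smul, ← smul_smul, ← hta, inv_smul_smul]
  have h1 : t' = t := by
    have := congrArg (fun z => t * z) hu
    simpa using this
  have hnle : ¬ T' ≤ T := by
    intro hle
    rcases hT.2.2.2 _ hle hT'.2.2.1 with h | h
    · exact hT'.2.1 h
    · exact hg₀ h
  have hd := hT'.disjoint_of_not_le hT.2.2.1 hnle
  have hmem : t' ∈ T' ⊓ T := ⟨ht', h1 ▸ ht⟩
  rw [hd, Subgroup.mem_bot] at hmem
  exact hmem

/-- **Burnside.** A minimal normal subgroup of a doubly transitive group is regular and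
elementary abelian, or simple and primitive. -/
theorem burnside [Finite G] [Finite α] [FaithfulSMul G α] (N : Subgroup G) [hNn : N.Normal]
    (h2 : IsMultiplyPretransitive G α 2) (hN : N ≠ ⊥)
    (hmin : ∀ M : Subgroup G, M.Normal → M ≤ N → M = ⊥ ∨ M = N) :
    (IsMulCommutative N ∧ (∃ p : ℕ, p.Prime ∧ ∀ n ∈ N, n ^ p = 1) ∧
      ∀ a : α, stabilizer N a = ⊥) ∨ (IsSimpleGroup N ∧ IsPreprimitive N α) := by
  by_cases hreg : ∀ a : α, stabilizer N a = ⊥
  · left
    obtain ⟨h1, h3⟩ := regular_case N h2 hN hmin hreg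
    exact ⟨h1, h3, hreg⟩
  · right
    push Not at hreg
    obtain ⟨a, ha⟩ := hreg
    have hprim := isPreprimitive_of_minimal N h2 hN hmin a ha
    exact ⟨simple_case N h2 hN hmin hprim, hprim⟩

end Cfsg.Agent.Lib.Helper4.TwoTransMin
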