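import Mathlib
import Cfsg.Agent.Lib.helper3.BG11D
import Cfsg.Agent.H2.BGU.Fit
import Cfsg.Agent.Lib.Helper4.BGTwB
import Cfsg.Agent.S1409
import Cfsg.Agent.S0126

/-!
Bender–Glauberman (helper4): the statement of S1439: `Y = O_{σ(M)'}(F(M))` is cyclic, its prime
divisors lie in `τ₂(M)`, and `F(M) = F(M_σ) Y`.  Uses helper3's (★) and S1409.
-/

set_option autoImplicit false

open scoped commutatorElement Pointwise

namespace Cfsg.Agent.Lib.Helper4.BG12

open Cfsg Cfsg.Agent.Lib.Helper8.BGTen Cfsg.Agent.H2.BGU Cfsg.Agent.Lib.Helper4.BGTrans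
open Cfsg.Agent.Lib.Lead.PiCore

universe u

variable {G : Type u} [Group G] [Finite G]

/-- the set of primes outside `σ(M)` -/
abbrev sigmaCompl (M : Subgroup G) : Set ℕ := {q | q.Prime ∧ q ∉ Cfsg.sigma M}

/-- `Y = O_{σ(M)'}(F(M))` -/
abbrev YY (M : Subgroup G) : Subgroup G := Cfsg.piCoreOf (sigmaCompl M) (Cfsg.fittingOf M)

theorem YY_le_fittingOf (M : Subgroup G) : YY M ≤ Cfsg.fittingOf M := piCoreOf_le _ _

theorem YY_le (M : Subgroup G) : YY M ≤ M := (YY_le_fittingOf M).trans (fittingOf_le M)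

theorem le_normalizer_YY (M : Subgroup G) : M ≤ Subgroup.normalizer (YY M : Set G) :=
  (le_normalizer_fittingOf M).trans (normalizer_le_normalizer_piCoreOf _ _)

theorem YY_primes (M : Subgroup G) : ∀ q : ℕ, q.Prime → q ∣ Nat.card ↥(YY M) → q ∉ Cfsg.sigma M :=
  fun q hq hd => (isPiNat_piCoreOf (sigmaCompl M) (Cfsg.fittingOf M) q hq hd).2

theorem YY_le_centralizer (hG : Cfsg.IsMinSimpleOddOrder G) {M : Subgroup G} (hM : IsCoatom M) :
    YY M ≤ Subgroup.centralizer ((Cfsg.sigmaCore M : Subgroup G) : Set G) :=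
  Cfsg.Agent.Lib.helper3.BG11.le_centralizer_sigmaCore_of_normal hG hM (YY_le M)
    (le_normalizer_YY M) (YY_primes M)

/-- an `r`-subgroup (`r ∉ σ(M)`) of `M` centralizing `M_σ` is cyclic -/
theorem isCyclic_of_le_centralizer_sigmaCore (hG : Cfsg.IsMinSimpleOddOrder G) {M : Subgroup G}
    (hM : IsCoatom M) {r : ℕ} [hr : Fact r.Prime] (hrσ : r ∉ Cfsg.sigma M) {Q : Subgroup G}
    (hQM : Q ≤ M) (hQ : IsPGroup r ↥Q)
    (hQc : Q ≤ Subgroup.centralizer ((Cfsg.sigmaCore M : Subgroup G) : Set G)) : IsCyclic ↥Q := by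
  by_contra hnc
  have hQcard : 1 < Nat.card ↥Q := by
    by_contra hle
    push Not at hle
    have : Nat.card ↥Q = 1 := by
      have := Nat.card_pos (α := ↥Q); omega
    apply hnc
    rw [Subgroup.card_eq_one.1 this]
    infer_instance
  have hr2 : r ≠ 2 := Cfsg.Agent.Lib.Helper4.BGUniq.prime_ne_two hG hQ hQcard
  obtain ⟨W, -, hWel, hWcard⟩ := Cfsg.Agent.S0126.result hr2 hQ hnc
  have hW' : Cfsg.IsElementaryAbelian r (W.map Q.subtype) :=
    Cfsg.Agent.Lib.Helper4.BGUniq.isElementaryAbelian_map Q.subtype hWel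
  have hWQ : W.map Q.subtype ≤ Q := Subgroup.map_subtype_le W
  refine Cfsg.Agent.Lib.helper3.BG11.star hG hM hrσ (hWQ.trans hQM) hW' ?_ (hWQ.trans hQc)
  rw [Subgroup.card_map_of_injective Q.subtype_injective, hWcard]

theorem YY_nilpotent (M : Subgroup G) : Group.IsNilpotent ↥(YY M) := by
  haveI := fittingOf_nilpotent M
  exact Group.nilpotent_of_mulEquiv (Subgroup.subgroupOfEquivOfLe (YY_le_fittingOf M))

/-- `Y` is cyclic -/
theorem YY_isCyclic (hG : Cfsg.IsMinSimpleOddOrder G) {M : Subgroup G} (hM : IsCoatom M) :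
    IsCyclic ↥(YY M) := by
  haveI := YY_nilpotent M
  haveI : IsZGroup ↥(YY M) := by
    refine ⟨fun r hr P => ?_⟩
    haveI : Fact r.Prime := ⟨hr⟩
    by_cases hd : r ∣ Nat.card ↥(YY M)
    · have hrσ := YY_primes M r hr hd
      have hP' : (P : Subgroup ↥(YY M)).map (YY M).subtype ≤ YY M := Subgroup.map_subtype_le _
      haveI : IsCyclic ↥((P : Subgroup ↥(YY M)).map (YY M).subtype) :=
        isCyclic_of_le_centralizer_sigmaCore hG hM hrσ (hP'.trans (YY_le M)) (P.2.map _)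
          (hP'.trans (YY_le_centralizer hG hM))
      exact isCyclic_of_injective
        ((P : Subgroup ↥(YY M)).equivMapOfInjective _ (YY M).subtype_injective).toMonoidHom
        ((P : Subgroup ↥(YY M)).equivMapOfInjective _ (YY M).subtype_injective).injective
    · have h1 : Nat.card ↥(P : Subgroup ↥(YY M)) = 1 := by
        rw [P.card_eq_multiplicity, Nat.factorization_eq_zero_of_not_dvd hd, pow_zero]
      rw [Subgroup.card_eq_one.1 h1]
      infer_instance
  infer_instance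

/-- the statement of S1439 -/
theorem s1439 (hG : Cfsg.IsMinSimpleOddOrder G) (M : Subgroup G) (hM : IsCoatom M) :
    IsCyclic ↥(Cfsg.piCoreOf {q | q.Prime ∧ q ∉ Cfsg.sigma M} (Cfsg.fittingOf M)) ∧
      (∀ p : ℕ, p.Prime →
        p ∣ Nat.card ↥(Cfsg.piCoreOf {q | q.Prime ∧ q ∉ Cfsg.sigma M} (Cfsg.fittingOf M)) →
        p ∈ Cfsg.tau2 M) ∧
      Cfsg.fittingOf M = Cfsg.fittingOf (Cfsg.sigmaCore M) ⊔
        Cfsg.piCoreOf {q | q.Prime ∧ q ∉ Cfsg.sigma M} (Cfsg.fittingOf M) := by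
  have hcyc := YY_isCyclic hG hM
  refine ⟨hcyc, ?_, ?_⟩
  · -- primes of Y lie in τ₂(M)
    intro r hr hd
    haveI : Fact r.Prime := ⟨hr⟩
    have hrσ := YY_primes M r hr hd
    haveI := hcyc
    letI : CommGroup ↥(YY M) := IsCyclic.commGroup
    set X₀ : Subgroup ↥(YY M) := (powMonoidHom r : ↥(YY M) →* ↥(YY M)).ker with hX₀
    have hX₀c : Nat.card ↥X₀ = r := by
      rw [hX₀, IsCyclic.card_powMonoidHom_ker]
      exact Nat.gcd_eq_right hd
    set X : Subgroup G := X₀.map (YY M).subtype with hX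
    have hXc : Nat.card ↥X = r := by
      rw [hX, Subgroup.card_map_of_injective (YY M).subtype_injective, hX₀c]
    have hXY : X ≤ YY M := Subgroup.map_subtype_le _
    have hXM : X ≤ M := hXY.trans (YY_le M)
    have hmemX : ∀ x : G, x ∈ X ↔ x ∈ YY M ∧ x ^ r = 1 := by
      intro x
      constructor
      · rintro ⟨y, hy, rfl⟩
        refine ⟨y.2, ?_⟩
        have h1 : y ^ r = 1 := by
          have := MonoidHom.mem_ker.mp hy
          rwa [powMonoidHom_apply] at this
        have := congrArg Subtype.val h1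
        simpa using this
      · rintro ⟨hxY, hxr⟩
        refine ⟨⟨x, hxY⟩, ?_, rfl⟩
        show (⟨x, hxY⟩ : ↥(YY M)) ∈ (powMonoidHom r : ↥(YY M) →* ↥(YY M)).ker
        rw [MonoidHom.mem_ker, powMonoidHom_apply]
        exact Subtype.ext (by simpa using hxr)
    have hXn : M ≤ Subgroup.normalizer (X : Set G) := by
      intro m hm
      have hconj : ∀ g ∈ M, ∀ x ∈ X, g * x * g⁻¹ ∈ X := by
        intro g hg x hx
        obtain ⟨hxY, hxr⟩ := (hmemX x).mp hx
        refine (hmemX _).mpr ⟨?_, ?_⟩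
        · exact (Subgroup.mem_normalizer_iff.mp (le_normalizer_YY M hg) x).mp hxY
        · rw [Cfsg.Agent.Lib.Helper4.BGZ.pow_conj', hxr]; group
      rw [Subgroup.mem_normalizer_iff]
      intro x
      refine ⟨hconj m hm x, fun h => ?_⟩
      have := hconj m⁻¹ (M.inv_mem hm) _ h
      have e : m⁻¹ * (m * x * m⁻¹) * m⁻¹⁻¹ = x := by group
      rwa [e] at this
    have hX1 : X ≠ ⊥ := by
      intro h0
      rw [h0, Subgroup.card_bot] at hXc
      exact hr.one_lt.ne hXc
    have hN : Subgroup.normalizer (X : Set G) ≤ M :=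
      (Cfsg.Agent.Lib.helper3.BG11.normalizer_eq_of_normal hG hM hX1 hXM hXn).le
    obtain ⟨⟨h2, h1⟩, -, -⟩ := Cfsg.Agent.S1409.result hG M hM r hrσ X hXc hN
    exact ⟨hr, hrσ, h2, h1⟩
  · -- F(M) = F(M_σ) Y
    apply le_antisymm
    · apply le_of_forall_Oq_le (fittingOf_nilpotent M)
      intro q hq
      haveI : Fact q.Prime := ⟨hq⟩
      have hOM : Oq q (Cfsg.fittingOf M) ≤ M := (Oq_le q _).trans (fittingOf_le M)
      have hOn : M ≤ Subgroup.normalizer (Oq q (Cfsg.fittingOf M) : Set G) :=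
        le_normalizer_Oq_fittingOf q M
      have hOp : IsPGroup q ↥(Oq q (Cfsg.fittingOf M)) := isPGroup_Oq hq _
      by_cases hqσ : q ∈ Cfsg.sigma M
      · refine le_trans ?_ le_sup_left
        have h1 : Oq q (Cfsg.fittingOf M) ≤ Cfsg.sigmaCore M :=
          Cfsg.Agent.H2.BG11.le_sigmaCore_of_pgroup hG hM hqσ hOM hOp
        exact le_fittingOf h1 ((Cfsg.Agent.H2.BG11.sigmaCore_le M).trans hOn) hOp.isNilpotent
      · refine le_trans ?_ le_sup_right
        apply le_piCoreOf (Oq_le q _) (le_normalizer_Oq q _)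
        intro p hp hpd
        have : p ∈ ({q} : Set ℕ) := isPiNat_of_isPGroup hOp p hp hpd
        rw [Set.mem_singleton_iff] at this
        rw [this]
        exact ⟨hq, hqσ⟩
    · exact sup_le (fittingOf_le_of_normal (Cfsg.Agent.H2.BG11.sigmaCore_le M)
        (Cfsg.Agent.H2.BG11.le_normalizer_sigmaCore M)) (YY_le_fittingOf M)

end Cfsg.Agent.Lib.Helper4.BG12
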