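import Mathlib

set_option autoImplicit false

namespace Cfsg.Agent.Lib.Helper4.Wagner

open MulAction
open scoped Pointwise

universe u v

/-- a `p`-subgroup stabilising a finite set of size prime to `p` fixes one of its points -/
theorem exists_fixed_mem {G : Type u} {X : Type v} [Group G] [MulAction G X] {p : ℕ}
    [Fact p.Prime] (Q : Subgroup G) (hQ : IsPGroup p Q) (S : Set X) (hfin : S.Finite)
    (hinv : ∀ q ∈ Q, ∀ x ∈ S, q • x ∈ S) (hp : ¬ p ∣ S.ncard) :
    ∃ x ∈ S, ∀ q ∈ Q, q • x = x := by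
  let T : SubMulAction Q X :=
    { carrier := S
      smul_mem' := fun q x hx => hinv q.1 q.2 x hx }
  have : Finite T := hfin.to_subtype
  have hcard : Nat.card T = S.ncard := rfl
  obtain ⟨x, hx⟩ := hQ.nonempty_fixed_point_of_prime_not_dvd_card T (by rw [hcard]; exact hp)
  refine ⟨x.1, x.2, fun q hq => ?_⟩
  have := hx ⟨q, hq⟩
  exact congrArg Subtype.val this

theorem two_embedding {X : Type v} (a b : X) (hab : a ≠ b) :
    ∃ x : Fin 2 ↪ X, x 0 = a ∧ x 1 = b := by
  refine ⟨⟨![a, b], ?_⟩, rfl, rfl⟩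
  intro i j hij
  fin_cases i <;> fin_cases j <;> simp at hij <;>
    first | rfl | (exact absurd hij ‹_›) | (exact absurd hij.symm ‹_›)

theorem three_embedding {X : Type v} (a b c : X) (hab : a ≠ b) (hac : a ≠ c) (hbc : b ≠ c) :
    ∃ x : Fin 3 ↪ X, x 0 = a ∧ x 1 = b ∧ x 2 = c := by
  refine ⟨⟨![a, b, c], ?_⟩, rfl, rfl, rfl⟩
  intro i j hij
  fin_cases i <;> fin_cases j <;> simp at hij <;>
    first | rfl | (exact absurd hij ‹_›) | (exact absurd hij.symm ‹_›)

/-- elementwise form of double transitivity of a subgroup -/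
theorem two_elementwise {G : Type u} {X : Type v} [Group G] [MulAction G X] (N : Subgroup G)
    (h : IsMultiplyPretransitive N X 2) {a b a' b' : X} (hab : a ≠ b) (hab' : a' ≠ b') :
    ∃ g ∈ N, g • a = a' ∧ g • b = b' := by
  obtain ⟨x, hx0, hx1⟩ := two_embedding a b hab
  obtain ⟨y, hy0, hy1⟩ := two_embedding a' b' hab'
  obtain ⟨g, hg⟩ := h.exists_smul_eq x y
  refine ⟨g.1, g.2, ?_, ?_⟩
  · have : g • x 0 = y 0 := congrArg (fun e : Fin 2 ↪ X => e 0) hg
    rw [hx0, hy0] at this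
    exact this
  · have : g • x 1 = y 1 := congrArg (fun e : Fin 2 ↪ X => e 1) hg
    rw [hx1, hy1] at this
    exact this

/-- elementwise form of triple transitivity -/
theorem three_elementwise {G : Type u} {X : Type v} [Group G] [MulAction G X]
    (h : IsMultiplyPretransitive G X 3) {a b c a' b' c' : X} (hab : a ≠ b) (hac : a ≠ c)
    (hbc : b ≠ c) (hab' : a' ≠ b') (hac' : a' ≠ c') (hbc' : b' ≠ c') :
    ∃ g : G, g • a = a' ∧ g • b = b' ∧ g • c = c' := by
  obtain ⟨x, hx0, hx1, hx2⟩ := three_embedding a b c hab hac hbc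
  obtain ⟨y, hy0, hy1, hy2⟩ := three_embedding a' b' c' hab' hac' hbc'
  obtain ⟨g, hg⟩ := h.exists_smul_eq x y
  refine ⟨g, ?_, ?_, ?_⟩
  · have := congrArg (fun e : Fin 3 ↪ X => e 0) hg
    simpa [hx0, hy0] using this
  · have := congrArg (fun e : Fin 3 ↪ X => e 1) hg
    simpa [hx1, hy1] using this
  · have := congrArg (fun e : Fin 3 ↪ X => e 2) hg
    simpa [hx2, hy2] using this

/-- triple transitivity of a subgroup from its elementwise form -/
theorem three_of_elementwise {G : Type u} {X : Type v} [Group G] [MulAction G X] (N : Subgroup G)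
    (h : ∀ a b c a' b' c' : X, a ≠ b → a ≠ c → b ≠ c → a' ≠ b' → a' ≠ c' → b' ≠ c' →
      ∃ g ∈ N, g • a = a' ∧ g • b = b' ∧ g • c = c') :
    IsMultiplyPretransitive N X 3 := by
  constructor
  intro x y
  have hx : ∀ i j : Fin 3, i ≠ j → x i ≠ x j := fun i j hij e => hij (x.injective e)
  have hy : ∀ i j : Fin 3, i ≠ j → y i ≠ y j := fun i j hij e => hij (y.injective e)
  obtain ⟨g, hg, h0, h1, h2⟩ := h (x 0) (x 1) (x 2) (y 0) (y 1) (y 2)
    (hx _ _ (by decide)) (hx _ _ (by decide)) (hx _ _ (by decide))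
    (hy _ _ (by decide)) (hy _ _ (by decide)) (hy _ _ (by decide))
  refine ⟨⟨g, hg⟩, ?_⟩
  ext i
  fin_cases i
  · exact h0
  · exact h1
  · exact h2

variable {G : Type u} {X : Type v} [Group G] [MulAction G X]

/-- pointwise stabiliser of two points inside `N` -/
def twoStab (N : Subgroup G) (a b : X) : Subgroup G := N ⊓ stabilizer G a ⊓ stabilizer G b

theorem mem_twoStab {N : Subgroup G} {a b : X} {g : G} :
    g ∈ twoStab N a b ↔ g ∈ N ∧ g • a = a ∧ g • b = b := by
  unfold twoStab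
  rw [Subgroup.mem_inf, Subgroup.mem_inf, mem_stabilizer_iff, mem_stabilizer_iff, and_assoc]

/-- elements of `N` preserving the pair `{a, b}` -/
def pairStab (N : Subgroup G) (a b : X) : Subgroup G where
  carrier := {g | g ∈ N ∧ ((g • a = a ∧ g • b = b) ∨ (g • a = b ∧ g • b = a))}
  one_mem' := ⟨N.one_mem, Or.inl ⟨one_smul _ _, one_smul _ _⟩⟩
  mul_mem' := by
    rintro g h ⟨hg, hg'⟩ ⟨hh, hh'⟩
    refine ⟨N.mul_mem hg hh, ?_⟩
    rcases hg' with ⟨g1, g2⟩ | ⟨g1, g2⟩ <;> rcases hh' with ⟨h1, h2⟩ | ⟨h1, h2⟩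
    · left; rw [mul_smul, mul_smul, h1, h2, g1, g2]; exact ⟨rfl, rfl⟩
    · right; rw [mul_smul, mul_smul, h1, h2, g1, g2]; exact ⟨rfl, rfl⟩
    · right; rw [mul_smul, mul_smul, h1, h2, g1, g2]; exact ⟨rfl, rfl⟩
    · left; rw [mul_smul, mul_smul, h1, h2, g1, g2]; exact ⟨rfl, rfl⟩
  inv_mem' := by
    rintro g ⟨hg, hg'⟩
    refine ⟨N.inv_mem hg, ?_⟩
    rcases hg' with ⟨g1, g2⟩ | ⟨g1, g2⟩
    · left; rw [inv_smul_eq_iff, inv_smul_eq_iff, g1, g2]; exact ⟨rfl, rfl⟩
    · right; rw [inv_smul_eq_iff, inv_smul_eq_iff, g1, g2]; exact ⟨rfl, rfl⟩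

theorem mem_pairStab {N : Subgroup G} {a b : X} {g : G} :
    g ∈ pairStab N a b ↔ g ∈ N ∧ ((g • a = a ∧ g • b = b) ∨ (g • a = b ∧ g • b = a)) := Iff.rfl

theorem twoStab_le_pairStab (N : Subgroup G) (a b : X) : twoStab N a b ≤ pairStab N a b := by
  intro g hg
  rw [mem_twoStab] at hg
  exact ⟨hg.1, Or.inl hg.2⟩

theorem relIndex_twoStab {N : Subgroup G} {a b : X} (hab : a ≠ b) {u : G} (huN : u ∈ N)
    (hua : u • a = b) (hub : u • b = a) : (twoStab N a b).relIndex (pairStab N a b) = 2 := by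
  rw [Subgroup.relIndex_eq_two_iff]
  refine ⟨u, ⟨huN, Or.inr ⟨hua, hub⟩⟩, ?_⟩
  rintro g ⟨hgN, hg⟩
  rcases hg with ⟨g1, g2⟩ | ⟨g1, g2⟩
  · right
    refine ⟨mem_twoStab.mpr ⟨hgN, g1, g2⟩, ?_⟩
    intro h
    rw [mem_twoStab] at h
    have := h.2.1
    rw [mul_smul, hua, g2] at this
    exact hab this.symm
  · left
    refine ⟨mem_twoStab.mpr ⟨N.mul_mem hgN huN, ?_, ?_⟩, ?_⟩
    · rw [mul_smul, hua, g2]
    · rw [mul_smul, hub, g1]
    · intro h
      rw [mem_twoStab] at h
      have := h.2.1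
      rw [g1] at this
      exact hab this.symm

theorem card_pairStab [Finite G] {N : Subgroup G} {a b : X} (hab : a ≠ b) {u : G} (huN : u ∈ N)
    (hua : u • a = b) (hub : u • b = a) :
    Nat.card (pairStab N a b) = Nat.card (twoStab N a b) * 2 := by
  have h := Subgroup.relIndex_mul_relIndex ⊥ (twoStab N a b) (pairStab N a b) bot_le
    (twoStab_le_pairStab N a b)
  rw [Subgroup.relIndex_bot_left, Subgroup.relIndex_bot_left, relIndex_twoStab hab huN hua hub] at h
  exact h.symm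

/-- conjugate two-point stabilisers have the same order -/
theorem card_twoStab_conj [Finite G] {N : Subgroup G} [hN : N.Normal] {a b : X} (g : G) :
    Nat.card (twoStab N (g • a) (g • b)) = Nat.card (twoStab N a b) := by
  have : twoStab N (g • a) (g • b) = (twoStab N a b).map (MulAut.conj g).toMonoidHom := by
    ext x
    rw [Subgroup.mem_map_equiv, mem_twoStab, mem_twoStab]
    simp only [MulAut.conj_symm_apply]
    constructor
    · rintro ⟨h1, h2, h3⟩
      refine ⟨?_, ?_, ?_⟩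
      · have := hN.conj_mem x h1 g⁻¹
        simpa using this
      · rw [mul_smul, mul_smul, h2, inv_smul_smul]
      · rw [mul_smul, mul_smul, h3, inv_smul_smul]
    · rintro ⟨h1, h2, h3⟩
      refine ⟨?_, ?_, ?_⟩
      · have := hN.conj_mem _ h1 g
        simpa [mul_assoc] using this
      · rw [mul_smul, mul_smul, inv_smul_eq_iff] at h2
        exact h2
      · rw [mul_smul, mul_smul, inv_smul_eq_iff] at h3
        exact h3
  rw [this]
  exact Subgroup.card_map_of_injective (MulAut.conj g).injective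

end Cfsg.Agent.Lib.Helper4.Wagner
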