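import Mathlib
import Cfsg.Agent.Lib.Helper4.Sylow

set_option autoImplicit false

namespace Cfsg.Agent.Lib.Helper4.Simple

open Cfsg.Agent.Lib.Helper4.Sylow

/-- `[N(H) : C(H)]` divides `|Aut H|`. -/
theorem relIndex_centralizer_normalizer_dvd {G : Type*} [Group G] [Finite G] (H : Subgroup G) :
    (Subgroup.centralizer (H : Set G)).relIndex (Subgroup.normalizer (H : Set G)) ∣
      Nat.card (MulAut H) := by
  have key := Subgroup.card_dvd_of_injective _
    (QuotientGroup.kerLift_injective H.normalizerMonoidHom)
  rwa [Subgroup.normalizerMonoidHom_ker, ← Subgroup.index, ← Subgroup.relIndex] at key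

/-- `|H| * [N(H) : H] = |N(H)|` -/
theorem card_mul_relIndex_normalizer {G : Type*} [Group G] [Finite G] (H : Subgroup G) :
    Nat.card H * H.relIndex (Subgroup.normalizer (H : Set G)) =
      Nat.card (Subgroup.normalizer (H : Set G)) := by
  have h1 := (H.subgroupOf (Subgroup.normalizer (H : Set G))).card_mul_index
  rw [← Subgroup.relIndex] at h1
  rw [← h1]
  congr 1
  exact (Nat.card_congr (Subgroup.subgroupOfEquivOfLe Subgroup.le_normalizer).toEquiv).symm

/-- If `H` is cyclic, `|N(H)| = |H| * k` and `gcd(k, φ(|H|)) = 1`, then `N(H) ≤ C(H)`. -/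
theorem normalizer_le_centralizer_of_coprime {G : Type*} [Group G] [Finite G] (H : Subgroup G)
    (hH : IsCyclic H) (k : ℕ)
    (hk : Nat.card (Subgroup.normalizer (H : Set G)) = Nat.card H * k)
    (hcop : Nat.Coprime k (Nat.totient (Nat.card H))) :
    Subgroup.normalizer (H : Set G) ≤ Subgroup.centralizer (H : Set G) := by
  have h1 := relIndex_centralizer_normalizer_dvd H
  rw [hH.card_mulAut] at h1
  have hcomm : IsMulCommutative H := IsCyclic.isMulCommutative
  have hHC : H ≤ Subgroup.centralizer (H : Set G) := Subgroup.le_centralizer H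
  have h2 : (Subgroup.centralizer (H : Set G)).relIndex (Subgroup.normalizer (H : Set G)) ∣ k := by
    have h3 := Subgroup.relIndex_dvd_of_le_left (Subgroup.normalizer (H : Set G)) hHC
    have h4 := card_mul_relIndex_normalizer H
    rw [hk] at h4
    have hpos : 0 < Nat.card H := Nat.card_pos
    have h5 : H.relIndex (Subgroup.normalizer (H : Set G)) = k :=
      Nat.eq_of_mul_eq_mul_left hpos h4
    rwa [h5] at h3
  exact Subgroup.relIndex_eq_one.mp (Nat.eq_one_of_dvd_coprimes hcop h2 h1)

/-- Burnside's transfer theorem kills simple groups: a Sylow subgroup central in its normalizer,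
neither trivial nor the whole group, cannot exist in a simple group. -/
theorem false_of_simple_of_normalizer_le_centralizer {G : Type*} [Group G] [Finite G]
    [IsSimpleGroup G] {p : ℕ} [Fact p.Prime] (P : Sylow p G)
    (hP : Subgroup.normalizer ((P : Subgroup G) : Set G) ≤ Subgroup.centralizer ((P : Subgroup G) : Set G))
    (h1 : Nat.card P ≠ 1) (h2 : Nat.card P ≠ Nat.card G) : False := by
  have hcompl := MonoidHom.ker_transferSylow_isComplement' P hP
  set K := (MonoidHom.transferSylow P hP).ker with hK
  have hcard := hcompl.card_mul_card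
  have hKn : K.Normal := MonoidHom.normal_ker _
  rcases hKn.eq_bot_or_eq_top with hb | ht
  · rw [hb, Subgroup.card_bot, one_mul] at hcard
    exact h2 hcard
  · rw [ht, Subgroup.card_top] at hcard
    have hpos : 0 < Nat.card G := Nat.card_pos
    have : Nat.card (P : Subgroup G) = 1 := by
      have h3 : Nat.card G * Nat.card (P : Subgroup G) = Nat.card G * 1 := by rw [hcard, mul_one]
      exact Nat.eq_of_mul_eq_mul_left hpos h3
    exact h1 this

/-- A simple group of order `> 2` with a proper subgroup of index `k` embeds in `A_k`: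
`2 * |G| ∣ k!`. -/
theorem two_mul_card_dvd_factorial_of_simple {G : Type*} [Group G] [Finite G] [IsSimpleGroup G]
    (hG : 2 < Nat.card G) (H : Subgroup G) (hH : H ≠ ⊤) :
    2 * Nat.card G ∣ (H.index).factorial := by
  classical
  have hfi : H.FiniteIndex := inferInstance
  have : Fintype (G ⧸ H) := Fintype.ofFinite _
  let φ := MulAction.toPermHom G (G ⧸ H)
  have hker : φ.ker = ⊥ := by
    rcases φ.normal_ker.eq_bot_or_eq_top with h | h
    · exact h
    · exfalso
      apply hH
      rw [eq_top_iff]
      have hle : φ.ker ≤ H := by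
        rw [← Subgroup.normalCore_eq_ker]
        exact Subgroup.normalCore_le H
      rw [h] at hle
      exact hle
  have hinj : Function.Injective φ := (MonoidHom.ker_eq_bot_iff φ).mp hker
  -- the sign character is trivial on `G`
  let ψ : G →* ℤˣ := Equiv.Perm.sign.comp φ
  have hψ : ψ.ker = ⊤ := by
    rcases ψ.normal_ker.eq_bot_or_eq_top with h | h
    · exfalso
      have hinj' : Function.Injective ψ := (MonoidHom.ker_eq_bot_iff ψ).mp h
      have := Nat.card_le_card_of_injective ψ hinj'
      have h2 : Nat.card ℤˣ = 2 := by simp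
      omega
    · exact h
  have hrange : φ.range ≤ alternatingGroup (G ⧸ H) := by
    rintro _ ⟨g, rfl⟩
    rw [Equiv.Perm.mem_alternatingGroup]
    have : g ∈ ψ.ker := by rw [hψ]; trivial
    exact this
  have hnt : Nontrivial (G ⧸ H) := by
    rw [← Finite.one_lt_card_iff_nontrivial]
    have h1 : H.index ≠ 1 := fun h => hH (Subgroup.index_eq_one.mp h)
    have h0 : H.index ≠ 0 := Subgroup.index_ne_zero_of_finite
    have : H.index = Nat.card (G ⧸ H) := rfl
    omega
  have h1 : Nat.card G ∣ Nat.card (alternatingGroup (G ⧸ H)) := by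
    have h3 : Nat.card G = Nat.card φ.range := by
      exact Nat.card_congr (MonoidHom.ofInjective hinj).toEquiv
    rw [h3]
    exact Subgroup.card_dvd_of_le hrange
  have h2 := two_mul_nat_card_alternatingGroup (α := G ⧸ H)
  rw [Nat.card_perm, ← Subgroup.index_eq_card] at h2
  rw [← h2]
  exact Nat.mul_dvd_mul_left 2 h1

end Cfsg.Agent.Lib.Helper4.Simple
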