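import Mathlib
import Cfsg.Prelude.Def_Blocks
import Cfsg.Prelude.Def_BlockLocal

set_option autoImplicit false

/-! Column data of a `2`-block with four characters (Klein four defect group), as needed for the
perfect isometry with the Brauer correspondent (helper4). -/

namespace Cfsg.Agent.Lib.Helper4.Perf

open Cfsg

variable {X : Type*} [Group X]

/-- a sign vector on `𝔅` -/
def IsSign (𝔅 : Set (IrrCharacter X)) (d : IrrCharacter X → ℤ) : Prop :=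
  ∀ χ ∈ 𝔅, d χ = 1 ∨ d χ = -1

/-- a column of `𝔅`: orthogonal to the values at every `p`-regular element -/
def IsCol (p : ℕ) (𝔅 : Set (IrrCharacter X)) (d : IrrCharacter X → ℤ) : Prop :=
  ∀ t : X, ¬ p ∣ orderOf t → ∑ᶠ χ ∈ 𝔅, (d χ : ℂ) * (χ : X → ℂ) t = 0

/-- the expansion of the values at `x` in sign columns -/
def SingExp (M : Ideal AlgInt) (𝔅 : Set (IrrCharacter X)) (x : X) : Prop :=
  ∃ (n : ℕ) (d : Fin n → IrrCharacter X → ℤ) (φ : Fin n → ℂ),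
    (∀ j, IsSign 𝔅 (d j)) ∧ (∀ j, IsCol 2 𝔅 (d j)) ∧ (∀ j, IsIntegral ℤ (φ j)) ∧
    (∀ j, MemLocalRing M (4 * φ j / (Nat.card ↥(Subgroup.centralizer ({x} : Set X)) : ℂ))) ∧
    ∀ χ ∈ 𝔅, (χ : X → ℂ) x = ∑ j, (d j χ : ℂ) * φ j

/-- common part -/
structure ColData (M : Ideal AlgInt) (𝔅 : Set (IrrCharacter X)) : Prop where
  card4 : Nat.card 𝔅 = 4
  sing : ∀ x : X, 2 ∣ orderOf x → SingExp M 𝔅 x

/-- type `l = 1` -/
structure T1Data (M : Ideal AlgInt) (𝔅 : Set (IrrCharacter X)) : Prop extends ColData M 𝔅 where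
  eq_reg : ∀ χ ∈ 𝔅, ∀ χ' ∈ 𝔅, ∀ t : X, ¬ 2 ∣ orderOf t → (χ : X → ℂ) t = (χ' : X → ℂ) t
  reg : ∀ χ ∈ 𝔅, ∀ t : X, ¬ 2 ∣ orderOf t →
    MemLocalRing M (4 * (χ : X → ℂ) t / (Nat.card ↥(Subgroup.centralizer ({t} : Set X)) : ℂ))

/-- type `l = 3` -/
structure T3Data (M : Ideal AlgInt) (𝔅 : Set (IrrCharacter X)) (w : IrrCharacter X → ℤ) : Prop
    extends ColData M 𝔅 where
  sign : IsSign 𝔅 w
  col : IsCol 2 𝔅 w
  uniq : ∀ d : IrrCharacter X → ℤ, IsSign 𝔅 d → IsCol 2 𝔅 d →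
    (∀ χ ∈ 𝔅, d χ = w χ) ∨ (∀ χ ∈ 𝔅, d χ = - w χ)
  reg : ∀ a : IrrCharacter X → ℂ, (∀ χ, IsIntegral ℤ (a χ)) →
    ∑ᶠ χ ∈ 𝔅, a χ * (w χ : ℂ) = 0 → ∀ t : X, ¬ 2 ∣ orderOf t →
    MemLocalRing M ((∑ᶠ χ ∈ 𝔅, a χ * (χ : X → ℂ) t) /
      (Nat.card ↥(Subgroup.centralizer ({t} : Set X)) : ℂ))

end Cfsg.Agent.Lib.Helper4.Perf
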