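import Mathlib
import Cfsg.Prelude.Def_Characters

/-!
# Integrality in the Hecke algebra of a permutation representation

For a transitive action of a finite group `G` on `Ω`, a point `a` with stabilizer `H`, an `H`-invariant
subset `Δ` of `Ω`, and a complex representation `ρ` of `G` with character `χ`, the number
`|H|⁻¹ ∑_{g : g • a ∈ Δ} χ g` is an algebraic integer.
-/

namespace Cfsg.Agent.Lib.Helper4.Hecke

open Module Polynomial

section linalg

variable {V : Type*} [AddCommGroup V] [Module ℂ V] [FiniteDimensional ℂ V]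

/-- The trace of an endomorphism which is integral over `ℤ` is an algebraic integer. -/
theorem isIntegral_trace_of_isIntegral (T : V →ₗ[ℂ] V) (hT : IsIntegral ℤ T) :
    IsIntegral ℤ (LinearMap.trace ℂ V T) := by
  obtain ⟨q, hq, hq0⟩ := hT
  rw [Module.End.trace_eq_sum_roots_charpoly_of_splits (IsAlgClosed.splits _)]
  apply IsIntegral.multiset_sum
  intro μ hμ
  have hroot : T.charpoly.IsRoot μ := (Polynomial.mem_roots'.mp hμ).2
  rw [← Module.End.hasEigenvalue_iff_isRoot_charpoly] at hroot
  obtain ⟨v, hv⟩ := hroot.exists_hasEigenvector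
  refine ⟨q, hq, ?_⟩
  have h1 : (Polynomial.aeval T (q.map (algebraMap ℤ ℂ))) v
      = (q.map (algebraMap ℤ ℂ)).eval μ • v := Module.End.aeval_apply_of_hasEigenvector hv
  have h2 : Polynomial.aeval T (q.map (algebraMap ℤ ℂ)) = 0 := by
    rw [Polynomial.aeval_map_algebraMap]
    exact hq0
  rw [h2, LinearMap.zero_apply] at h1
  have h3 : (q.map (algebraMap ℤ ℂ)).eval μ = 0 := by
    rcases smul_eq_zero.mp h1.symm with h | h
    · exact h
    · exact absurd h hv.2
  rw [Polynomial.eval_map] at h3
  exact h3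

end linalg

section module

variable {A : Type*} [Ring A]

/-- An element `T` of a ring acting by right multiplication on a finitely generated `ℤ`-submodule
containing an element `E` with `T * E = T` is integral over `ℤ`. -/
theorem isIntegral_of_mul_mem {ι : Type*} [Finite ι] (R : ι → A) (T E : A)
    (hE : E ∈ Submodule.span ℤ (Set.range R))
    (hRT : ∀ i, R i * T ∈ Submodule.span ℤ (Set.range R)) (hTE : T * E = T) :
    IsIntegral ℤ T := by
  classical
  set M : Submodule ℤ A := Submodule.span ℤ (Set.range R) with hM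
  have hMT : ∀ m ∈ M, m * T ∈ M := by
    intro m hm
    induction hm using Submodule.span_induction with
    | mem x hx =>
      obtain ⟨i, rfl⟩ := hx
      exact hRT i
    | zero => rw [zero_mul]; exact M.zero_mem
    | add x y _ _ hx hy => rw [add_mul]; exact M.add_mem hx hy
    | smul c x _ hx => rw [smul_mul_assoc]; exact M.smul_mem c hx
  let φ : M →ₗ[ℤ] M :=
    { toFun := fun m => ⟨m.1 * T, hMT m.1 m.2⟩
      map_add' := fun x y => Subtype.ext (add_mul _ _ _)
      map_smul' := fun c x => Subtype.ext (smul_mul_assoc _ _ _) }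
  haveI : Module.Finite ℤ M := Module.Finite.of_fg (Submodule.fg_span (Set.finite_range R))
  obtain ⟨p, hp, hp0⟩ := LinearMap.exists_monic_and_aeval_eq_zero ℤ φ
  have hpow : ∀ (n : ℕ) (m : M), ((φ ^ n) m : A) = m.1 * T ^ n := by
    intro n
    induction n with
    | zero => intro m; simp
    | succ n ih =>
      intro m
      rw [pow_succ, Module.End.mul_apply, ih]
      show m.1 * T * T ^ n = m.1 * T ^ (n + 1)
      rw [pow_succ', mul_assoc]
  have hev : ∀ (q : ℤ[X]) (m : M), ((Polynomial.aeval φ q) m : A) = m.1 * Polynomial.aeval T q := by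
    intro q m
    induction q using Polynomial.induction_on' with
    | add q₁ q₂ h₁ h₂ =>
      rw [map_add, map_add, LinearMap.add_apply, Submodule.coe_add, h₁, h₂, mul_add]
    | monomial n c =>
      rw [Polynomial.aeval_monomial, Polynomial.aeval_monomial, Module.End.mul_apply,
        Module.algebraMap_end_apply, Submodule.coe_smul, hpow]
      rw [Algebra.algebraMap_eq_smul_one, smul_mul_assoc, one_mul, mul_smul_comm]
  have h0 : E * Polynomial.aeval T p = 0 := by
    have := hev p ⟨E, hE⟩
    rw [hp0] at this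
    simpa using this.symm
  refine ⟨Polynomial.X * p, Polynomial.monic_X.mul hp, ?_⟩
  show Polynomial.aeval T (Polynomial.X * p) = 0
  rw [map_mul, Polynomial.aeval_X]
  calc T * Polynomial.aeval T p = (T * E) * Polynomial.aeval T p := by rw [hTE]
    _ = T * (E * Polynomial.aeval T p) := mul_assoc _ _ _
    _ = 0 := by rw [h0, mul_zero]

end module

section hecke

variable {G : Type*} [Group G] [Fintype G] {Ω : Type*} [Fintype Ω] [DecidableEq Ω] [MulAction G Ω]
  {V : Type*} [AddCommGroup V] [Module ℂ V] (ρ : Representation ℂ G V) (a : Ω)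

/-- normalised sum of `ρ g` over the `g` with `g • a = z` -/
noncomputable def heckeR (z : Ω) : V →ₗ[ℂ] V :=
  (Nat.card (MulAction.stabilizer G a) : ℂ)⁻¹ • ∑ g : G, if g • a = z then ρ g else 0

theorem rho_mul_heckeR (x : G) (z : Ω) : ρ x * heckeR ρ a z = heckeR ρ a (x • z) := by
  unfold heckeR
  rw [mul_smul_comm, Finset.mul_sum]
  congr 1
  apply Fintype.sum_equiv (Equiv.mulLeft x)
  intro g
  simp only [Equiv.coe_mulLeft, mul_smul]
  by_cases h : g • a = z
  · rw [if_pos h, if_pos (by rw [h]), map_mul]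
  · rw [if_neg h, if_neg (fun h' => h (smul_left_cancel x h')), mul_zero]

/-- the number of group elements carrying `a` to `z` -/
theorem card_fiber [MulAction.IsPretransitive G Ω] (z : Ω) :
    ((Finset.univ.filter (fun g : G => g • a = z)).card : ℂ)
      = (Nat.card (MulAction.stabilizer G a) : ℂ) := by
  classical
  obtain ⟨x, rfl⟩ := MulAction.exists_smul_eq G a z
  have hcard : (Finset.univ.filter (fun g : G => g • a = x • a)).card
      = (Finset.univ.filter (fun g : G => g • a = a)).card := by
    apply Finset.card_bij (fun g _ => x⁻¹ * g)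
    · intro g hg
      simp only [Finset.mem_filter, Finset.mem_univ, true_and] at hg ⊢
      rw [mul_smul, hg, inv_smul_smul]
    · intro g _ g' _ h
      exact mul_left_cancel h
    · intro g hg
      simp only [Finset.mem_filter, Finset.mem_univ, true_and] at hg
      refine ⟨x * g, ?_, by simp⟩
      simp only [Finset.mem_filter, Finset.mem_univ, true_and]
      rw [mul_smul, hg]
  rw [hcard, Nat.card_eq_fintype_card, Fintype.card_subtype]
  rfl

theorem heckeR_mul_self [MulAction.IsPretransitive G Ω] (z : Ω) :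
    heckeR ρ a z * heckeR ρ a a = heckeR ρ a z := by
  have hH : (Nat.card (MulAction.stabilizer G a) : ℂ) ≠ 0 := by
    have : Nat.card (MulAction.stabilizer G a) ≠ 0 := Nat.card_pos.ne'
    exact_mod_cast this
  conv_lhs => rw [heckeR]
  rw [smul_mul_assoc, Finset.sum_mul]
  have h1 : ∀ g : G, (if g • a = z then ρ g else 0) * heckeR ρ a a
      = if g • a = z then heckeR ρ a z else 0 := by
    intro g
    by_cases h : g • a = z
    · rw [if_pos h, if_pos h, rho_mul_heckeR, h]
    · rw [if_neg h, if_neg h, zero_mul]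
  rw [Finset.sum_congr rfl (fun g _ => h1 g), ← Finset.sum_filter, Finset.sum_const,
    ← Nat.cast_smul_eq_nsmul ℂ, card_fiber a z, smul_smul, inv_mul_cancel₀ hH, one_smul]

/-- the Hecke operator of an invariant set `Δ` -/
noncomputable def heckeT (Δ : Finset Ω) : V →ₗ[ℂ] V := ∑ z ∈ Δ, heckeR ρ a z

theorem heckeT_mul_self [MulAction.IsPretransitive G Ω] (Δ : Finset Ω) :
    heckeT ρ a Δ * heckeR ρ a a = heckeT ρ a Δ := by
  unfold heckeT
  rw [Finset.sum_mul]
  exact Finset.sum_congr rfl (fun z _ => heckeR_mul_self ρ a z)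

theorem rho_mul_heckeT (x : G) (Δ : Finset Ω) :
    ρ x * heckeT ρ a Δ = ∑ z ∈ Δ, heckeR ρ a (x • z) := by
  unfold heckeT
  rw [Finset.mul_sum]
  exact Finset.sum_congr rfl (fun z _ => rho_mul_heckeR ρ a x z)

theorem self_mul_heckeT [MulAction.IsPretransitive G Ω] (Δ : Finset Ω)
    (hΔ : ∀ g : G, g • a = a → ∀ z ∈ Δ, g • z ∈ Δ) :
    heckeR ρ a a * heckeT ρ a Δ = heckeT ρ a Δ := by
  have hH : (Nat.card (MulAction.stabilizer G a) : ℂ) ≠ 0 := by
    have : Nat.card (MulAction.stabilizer G a) ≠ 0 := Nat.card_pos.ne'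
    exact_mod_cast this
  conv_lhs => rw [heckeR]
  rw [smul_mul_assoc, Finset.sum_mul]
  have h1 : ∀ g : G, (if g • a = a then ρ g else 0) * heckeT ρ a Δ
      = if g • a = a then heckeT ρ a Δ else 0 := by
    intro g
    by_cases h : g • a = a
    · rw [if_pos h, if_pos h, rho_mul_heckeT]
      unfold heckeT
      apply Finset.sum_bij (fun z _ => g • z)
      · intro z hz
        exact hΔ g h z hz
      · intro z _ z' _ hzz
        exact smul_left_cancel g hzz
      · intro z hz
        have hg' : g⁻¹ • a = a := by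
          rw [inv_smul_eq_iff, h]
        exact ⟨g⁻¹ • z, hΔ g⁻¹ hg' z hz, smul_inv_smul g z⟩
      · intro z _
        rfl
    · rw [if_neg h, if_neg h, zero_mul]
  rw [Finset.sum_congr rfl (fun g _ => h1 g), ← Finset.sum_filter, Finset.sum_const,
    ← Nat.cast_smul_eq_nsmul ℂ, card_fiber a a, smul_smul, inv_mul_cancel₀ hH, one_smul]

theorem isIntegral_heckeT [MulAction.IsPretransitive G Ω] (Δ : Finset Ω)
    (hΔ : ∀ g : G, g • a = a → ∀ z ∈ Δ, g • z ∈ Δ) : IsIntegral ℤ (heckeT ρ a Δ) := by
  apply isIntegral_of_mul_mem (heckeR ρ a) (heckeT ρ a Δ) (heckeR ρ a a)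
  · exact Submodule.subset_span ⟨a, rfl⟩
  · intro y
    obtain ⟨x, rfl⟩ := MulAction.exists_smul_eq G a y
    rw [← rho_mul_heckeR, mul_assoc, self_mul_heckeT ρ a Δ hΔ, rho_mul_heckeT]
    apply Submodule.sum_mem
    intro z _
    exact Submodule.subset_span ⟨x • z, rfl⟩
  · exact heckeT_mul_self ρ a Δ

variable [FiniteDimensional ℂ V]

theorem trace_heckeR (z : Ω) :
    LinearMap.trace ℂ V (heckeR ρ a z) = (Nat.card (MulAction.stabilizer G a) : ℂ)⁻¹ *
      ∑ g : G, if g • a = z then ρ.character g else 0 := by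
  unfold heckeR
  rw [map_smul, map_sum, smul_eq_mul]
  congr 1
  apply Finset.sum_congr rfl
  intro g _
  split_ifs
  · rfl
  · exact map_zero _

theorem trace_heckeT (Δ : Finset Ω) :
    LinearMap.trace ℂ V (heckeT ρ a Δ) = (Nat.card (MulAction.stabilizer G a) : ℂ)⁻¹ *
      ∑ g : G, if g • a ∈ Δ then ρ.character g else 0 := by
  unfold heckeT
  rw [map_sum]
  simp_rw [trace_heckeR]
  rw [← Finset.mul_sum]
  congr 1
  rw [Finset.sum_comm]
  apply Finset.sum_congr rfl
  intro g _
  rw [Finset.sum_ite_eq]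

/-- **Integrality in the Hecke algebra.** -/
theorem isIntegral_hecke [MulAction.IsPretransitive G Ω] (Δ : Finset Ω)
    (hΔ : ∀ g : G, g • a = a → ∀ z ∈ Δ, g • z ∈ Δ) :
    IsIntegral ℤ ((Nat.card (MulAction.stabilizer G a) : ℂ)⁻¹ *
      ∑ g : G, if g • a ∈ Δ then ρ.character g else 0) := by
  rw [← trace_heckeT]
  exact isIntegral_trace_of_isIntegral _ (isIntegral_heckeT ρ a Δ hΔ)

/-- If the stabilizer has no fixed vectors, the Hecke operators vanish. -/
theorem hecke_eq_zero [MulAction.IsPretransitive G Ω] (Δ : Finset Ω)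
    (h0 : ∑ g : G, (if g • a = a then ρ.character g else 0) = 0) :
    (Nat.card (MulAction.stabilizer G a) : ℂ)⁻¹ *
      ∑ g : G, (if g • a ∈ Δ then ρ.character g else 0) = 0 := by
  rw [← trace_heckeT]
  have hid : IsIdempotentElem (heckeR ρ a a) := heckeR_mul_self ρ a a
  have htr : LinearMap.trace ℂ V (heckeR ρ a a) = 0 := by
    rw [trace_heckeR, h0, mul_zero]
  have hE : heckeR ρ a a = 0 := (LinearMap.IsIdempotentElem.trace_eq_zero_iff hid).mp htr
  rw [← heckeT_mul_self ρ a Δ, hE, mul_zero, map_zero]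

end hecke

end Cfsg.Agent.Lib.Helper4.Hecke
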