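import Mathlib
import Cfsg.Agent.Lib.helper3.GNS2
import Cfsg.Agent.Lib.Helper8.FRam1
import Cfsg.Agent.H2.BGChar
import Cfsg.Agent.Lib.helper3.CycExt2

/-!
# S4914, piece M: the multiplicity formula `[χ_C, ξ] = [β_D, γ]` (helper4)
-/

set_option autoImplicit false
set_option linter.style.haveILetI false
set_option linter.unusedSectionVars false
set_option maxHeartbeats 1000000

namespace Cfsg.Agent.Lib.Helper4.GNSM

open Cfsg Cfsg.Agent.Lib.helper3.GNS Cfsg.Agent.Lib.helper3.Irr Cfsg.Agent.Lib.helper3.CharBasic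
open Cfsg.Agent.Lib.helper3.IndFun
open scoped ComplexConjugate

/-- an irreducible constituent of a character takes the value of its degree wherever the
character does -/
theorem apply_eq_one_of_constituent {X : Type*} [Group X] [Fintype X] {A B : X → ℂ}
    (hA : IsCharacter X A) (hB : IsIrrCharacter X B) (h : classInner A B ≠ 0) (x : X)
    (hx : A x = A 1) : B x = B 1 := by
  obtain ⟨A', hA', rfl⟩ := Cfsg.Agent.Lib.Helper8.FRam.exists_add_of_constituent hA hB h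
  have hBc := isCharacter_of_isIrrCharacter hB
  have h1 := Cfsg.Agent.H2.BG.norm_le_apply_one hBc x
  have h2 := Cfsg.Agent.H2.BG.norm_le_apply_one hA' x
  have h3 := Cfsg.Agent.Lib.helper3.Central.eq_of_add_eq_add_of_norm_le h1 h2 (by
    rw [← Cfsg.Agent.H2.BG.apply_one_eq_re hBc, ← Cfsg.Agent.H2.BG.apply_one_eq_re hA']
    exact hx)
  rw [h3, ← Cfsg.Agent.H2.BG.apply_one_eq_re hBc]

/-- expansion of a linear image of a character along its irreducible constituents -/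
theorem classInner_linear_eq_sum {X Y : Type*} [Group X] [Fintype X] [Group Y] [Fintype Y]
    (L : (X → ℂ) →ₗ[ℂ] (Y → ℂ)) {Θ : X → ℂ} (hΘ : IsCharacter X Θ) (φ : Y → ℂ) :
    classInner (L Θ) φ
      = ∑ ψ : IrrCharacter X, classInner Θ (ψ : X → ℂ) * classInner (L (ψ : X → ℂ)) φ := by
  conv_lhs => rw [isCharacter_eq_sum_classInner hΘ]
  rw [map_sum, classInner_sum_left]
  apply Finset.sum_congr rfl
  intro ψ _
  rw [map_smul, classInner_smul_left]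

variable {G : Type*} [Group G] [Finite G]

/-- restriction as a linear map -/
def resL {A B : Subgroup G} (h : B ≤ A) : (↥A → ℂ) →ₗ[ℂ] (↥B → ℂ) where
  toFun := res h
  map_add' _ _ := rfl
  map_smul' _ _ := rfl

/-- multiplication as a linear map -/
def mulL {B : Subgroup G} (η : ↥B → ℂ) : (↥B → ℂ) →ₗ[ℂ] (↥B → ℂ) where
  toFun := fun f => η * f
  map_add' f g := mul_add η f g
  map_smul' c f := by
    funext b
    simp only [Pi.mul_apply, Pi.smul_apply, smul_eq_mul, RingHom.id_apply]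
    ring

theorem isCharacter_res {A B : Subgroup G} (h : B ≤ A) {χ : ↥A → ℂ} (hχ : IsCharacter ↥A χ) :
    IsCharacter ↥B (res h χ) :=
  isCharacter_comp hχ (Subgroup.inclusion h)

/-- **Piece M**: the multiplicity formula. -/
theorem mult_formula_fun (K C T D Q : Subgroup G) (hQD : Q ≤ D) (hDT : D ≤ T) (hTK : T ≤ K)
    (hDC : D ≤ C) (hCK : C ≤ K) (hKQ : K ≤ Subgroup.normalizer (Q : Set G))
    (θ : ↥Q → ℂ) (hθ : IsIrrCharacter ↥Q θ)
    (hT : ∀ g : G, g ∈ T ↔ g ∈ K ∧ ∀ q q' : ↥Q, (q' : G) = g * q * g⁻¹ → θ q' = θ q)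
    (hD : ∀ g : G, g ∈ D ↔ g ∈ C ∧ ∀ q q' : ↥Q, (q' : G) = g * q * g⁻¹ → θ q' = θ q)
    (θh : ↥T → ℂ) (hθh : IsIrrCharacter ↥T θh) (hext : res (hQD.trans hDT) θh = θ)
    (χ : ↥K → ℂ) (hχ : IsIrrCharacter ↥K χ) (β : ↥T → ℂ) (hβ : IsIrrCharacter ↥T β)
    (hβk : KerGE Q T β) (hχβ : ip (res hTK χ) (θh * β) ≠ 0)
    (ξ : ↥C → ℂ) (hξ : IsIrrCharacter ↥C ξ) (γ : ↥D → ℂ) (hγ : IsIrrCharacter ↥D γ)
    (hγk : KerGE Q D γ) (hξγ : ip (res hDC ξ) (res hDT θh * γ) ≠ 0) :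
    ip (res hCK χ) ξ = ip (res hDT β) γ := by
  classical
  letI : Fintype ↥K := Fintype.ofFinite _
  letI : Fintype ↥C := Fintype.ofFinite _
  letI : Fintype ↥T := Fintype.ofFinite _
  letI : Fintype ↥D := Fintype.ofFinite _
  letI : Fintype ↥Q := Fintype.ofFinite _
  letI : Fintype ↥(Q.subgroupOf D) := Fintype.ofFinite _
  have hQT : Q ≤ T := hQD.trans hDT
  have hCQ : C ≤ Subgroup.normalizer (Q : Set G) := hCK.trans hKQ
  set θh₀ : ↥D → ℂ := res hDT θh with hθh₀def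
  have hext₀ : res hQD θh₀ = θ := hext
  have hθh₀c : IsCharacter ↥D θh₀ := isCharacter_res hDT (isCharacter_of_isIrrCharacter hθh)
  have hθh₀ : IsIrrCharacter ↥D θh₀ := by
    apply Cfsg.Agent.Lib.helper3.CycExt.isIrrCharacter_of_restrict (Q.subgroupOf D) hθh₀c
    have : (fun n : ↥(Q.subgroupOf D) => θh₀ n) = toSub hQD θ := by
      rw [← hext₀]
      rfl
    rw [this]
    exact isIrrCharacter_toSub hQD hθ
  -- Step 2: `χ` is induced from `θh β`
  have hirrT := cgA_irr_mul K T Q hQT hTK hKQ θ hθ hT θh hθh hext β hβ hβk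
  have hindK := cgA_irr_ind K T Q hQT hTK hKQ θ hθ hT θh hθh hext β hβ hβk
  have hχ1 : ip (res hTK χ) (θh * β) = 1 ∧ χ = indSub hTK (θh * β) := by
    rcases cgA_rel K T hTK χ hχ (θh * β) hindK with h | h
    · exact h
    · exact absurd h.1 hχβ
  -- Step 3: `ξ` is induced from `θh₀ γ`
  have hirrD := cgA_irr_mul C D Q hQD hDC hCQ θ hθ hD θh₀ hθh₀ hext₀ γ hγ hγk
  have hindC := cgA_irr_ind C D Q hQD hDC hCQ θ hθ hD θh₀ hθh₀ hext₀ γ hγ hγk
  have hξ1 : ξ = indSub hDC (θh₀ * γ) := by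
    rcases cgA_rel C D hDC ξ hξ (θh₀ * γ) hindC with h | h
    · exact h.2
    · exact absurd h.1 hξγ
  -- Step 4: Frobenius reciprocity on `C`
  have hχc := isCharacter_of_isIrrCharacter hχ
  have hΘ : IsCharacter ↥T (res hTK χ) := isCharacter_res hTK hχc
  have hstep4 : ip (res hCK χ) ξ = ip (res hDT (res hTK χ)) (θh₀ * γ) := by
    have hcf : IsClassFunction ↥C (res hCK χ) :=
      isClassFunction_of_isCharacter (isCharacter_res hCK hχc)
    rw [hξ1, ← ip_conj_symm, frobenius_sub hDC (θh₀ * γ) (res hCK χ) hcf, ip_conj_symm]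
    rfl
  rw [hstep4]
  -- the restriction of `θh₀ γ` to `Q`
  have hγ1 : γ 1 ≠ 0 := apply_one_ne_zero hγ
  have hresQ : ∀ (γ' : ↥D → ℂ), KerGE Q D γ' →
      (fun z : ↥Q => (θh₀ * γ') (Subgroup.inclusion hQD z)) = (γ' 1) • θ := by
    intro γ' hk
    funext z
    have h1 : θh₀ (Subgroup.inclusion hQD z) = θ z := by
      rw [← hext₀]
      rfl
    rw [Pi.mul_apply, h1, hk (Subgroup.inclusion hQD z) z.2, Pi.smul_apply, smul_eq_mul, mul_comm]
  -- Step 5: only the constituent `θh β` of `χ_T` contributes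
  have hstep5 : ip (res hDT (res hTK χ)) (θh₀ * γ) = ip (res hDT (θh * β)) (θh₀ * γ) := by
    rw [ip_eq_classInner, ip_eq_classInner]
    have hL := classInner_linear_eq_sum (resL hDT) hΘ (θh₀ * γ)
    rw [show (resL hDT) (res hTK χ) = res hDT (res hTK χ) from rfl] at hL
    rw [hL, Finset.sum_eq_single (⟨θh * β, hirrT⟩ : IrrCharacter ↥T)]
    · have : classInner (res hTK χ) (θh * β) = 1 := by
        rw [← ip_eq_classInner]; exact hχ1.1
      simp only [this, one_mul]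
      rfl
    · intro ψ _ hψne
      by_contra hne
      have hc : classInner (res hTK χ) (ψ : ↥T → ℂ) ≠ 0 := fun h0 => hne (by rw [h0, zero_mul])
      have hd : classInner (res hDT (ψ : ↥T → ℂ)) (θh₀ * γ) ≠ 0 := fun h0 =>
        hne (by rw [show (resL hDT) (ψ : ↥T → ℂ) = res hDT (ψ : ↥T → ℂ) from rfl, h0, mul_zero])
      -- `θ` lies under `ψ`
      have hov : ip (res hQT (ψ : ↥T → ℂ)) θ ≠ 0 := by
        rw [ip_eq_classInner]
        have := Cfsg.Agent.Lib.Helper8.FRam.classInner_restrict_ne_zero_of_constituent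
          (Subgroup.inclusion hQD)
          (isCharacter_res hDT (isCharacter_of_isIrrCharacter ψ.2)) hirrD hd ⟨θ, hθ⟩ (by
            rw [hresQ γ hγk, classInner_smul_left, irr_classInner_self hθ, mul_one]
            exact hγ1)
        exact this
      obtain ⟨β'', hβ'', hβk'', hψβ⟩ := galA_exists K T Q hQT hTK hKQ θ θh hθh hext hθ
        (ψ : ↥T → ℂ) ψ.2 hov
      have hindK'' := cgA_irr_ind K T Q hQT hTK hKQ θ hθ hT θh hθh hext β'' hβ'' hβk''
      have hχ2 : χ = indSub hTK (θh * β'') := by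
        rcases cgA_rel K T hTK χ hχ (θh * β'') hindK'' with h | h
        · exact h.2
        · exfalso
          apply hc
          rw [← ip_eq_classInner, hψβ]
          exact h.1
      have hββ : β = β'' := cgA_ind_inj K T Q hQT hTK hKQ θ hθ hT θh hθh hext β β'' hβ hβ''
        hβk hβk'' (hχ1.2.symm.trans hχ2)
      apply hψne
      apply Subtype.ext
      show (ψ : ↥T → ℂ) = θh * β
      rw [hψβ, ← hββ]
    · intro h
      exact absurd (Finset.mem_univ _) h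
  rw [hstep5]
  -- Step 6: Gallagher on `D`
  have hBD : IsCharacter ↥D (res hDT β) := isCharacter_res hDT (isCharacter_of_isIrrCharacter hβ)
  have hBDk : ∀ d : ↥D, (d : G) ∈ Q → res hDT β d = res hDT β 1 := by
    intro d hd
    exact hβk ⟨d, hDT d.2⟩ hd
  rw [ip_eq_classInner, ip_eq_classInner]
  have hL := classInner_linear_eq_sum (mulL θh₀) hBD (θh₀ * γ)
  rw [show (mulL θh₀) (res hDT β) = res hDT (θh * β) from rfl] at hL
  rw [hL, Finset.sum_eq_single (⟨γ, hγ⟩ : IrrCharacter ↥D)]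
  · rw [show (mulL θh₀) γ = θh₀ * γ from rfl, irr_classInner_self hirrD, mul_one]
  · intro γ' _ hγ'ne
    by_cases hc : classInner (res hDT β) (γ' : ↥D → ℂ) = 0
    · rw [hc, zero_mul]
    · have hγ'k : KerGE Q D (γ' : ↥D → ℂ) := by
        intro d hd
        exact apply_eq_one_of_constituent hBD γ'.2 hc d (hBDk d hd)
      have hirrD' := cgA_irr_mul C D Q hQD hDC hCQ θ hθ hD θh₀ hθh₀ hext₀ (γ' : ↥D → ℂ) γ'.2 hγ'k
      rw [show (mulL θh₀) (γ' : ↥D → ℂ) = θh₀ * (γ' : ↥D → ℂ) from rfl,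
        irr_classInner_eq_zero hirrD' hirrD, mul_zero]
      intro heq
      apply hγ'ne
      apply Subtype.ext
      exact cgA_mul_inj C D Q hQD hDC hCQ θ hθ hD θh₀ hθh₀ hext₀ (γ' : ↥D → ℂ) γ γ'.2 hγ hγ'k hγk heq
  · intro h
    exact absurd (Finset.mem_univ _) h

/-- Piece M with `IrrCharacter` arguments and unfolded inertia conditions. -/
theorem mult_formula (K C T D Q : Subgroup G) (hCK : C ≤ K)
    (hKQ : K ≤ Subgroup.normalizer (Q : Set G)) (θ : IrrCharacter ↥Q)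
    (hT : ∀ g : G, g ∈ T ↔ g ∈ K ∧ ∀ q q' : ↥Q, (q' : G) = g * q * g⁻¹ →
      (θ : ↥Q → ℂ) q' = (θ : ↥Q → ℂ) q)
    (hD : ∀ g : G, g ∈ D ↔ g ∈ C ∧ ∀ q q' : ↥Q, (q' : G) = g * q * g⁻¹ →
      (θ : ↥Q → ℂ) q' = (θ : ↥Q → ℂ) q)
    (hQD : Q ≤ D) (hDT : D ≤ T) (hTK : T ≤ K) (hDC : D ≤ C)
    (θh : IrrCharacter ↥T) (hext : res (hQD.trans hDT) (θh : ↥T → ℂ) = (θ : ↥Q → ℂ))
    (χ : IrrCharacter ↥K) (β : IrrCharacter ↥T) (hβ : KerGE Q T β)
    (hχβ : ip (res hTK χ) ((θh : ↥T → ℂ) * (β : ↥T → ℂ)) ≠ 0)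
    (ξ : IrrCharacter ↥C) (γ : IrrCharacter ↥D) (hγ : KerGE Q D γ)
    (hξγ : ip (res hDC ξ) (res hDT (θh : ↥T → ℂ) * (γ : ↥D → ℂ)) ≠ 0) :
    ip (res hCK χ) (ξ : ↥C → ℂ) = ip (res hDT (β : ↥T → ℂ)) (γ : ↥D → ℂ) :=
  mult_formula_fun K C T D Q hQD hDT hTK hDC hCK hKQ θ θ.2 hT hD θh θh.2 hext χ χ.2 β β.2 hβ hχβ
    ξ ξ.2 γ γ.2 hγ hξγ

/-- Piece M, verbatim the stub of `notes/S4914_stubs_helper3.lean.txt`. -/
theorem mult_formula_hyp (p : ℕ) {P K Q C : Subgroup G} (h : Hyp p P K Q C)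
    (θ : IrrCharacter ↥Q) (T D : Subgroup G)
    (hT : T = inertia K Q (θ : ↥Q → ℂ)) (hD : D = inertia C Q (θ : ↥Q → ℂ)) (hQD : Q ≤ D)
    (hDT : D ≤ T) (hTK : T ≤ K) (hDC : D ≤ C)
    (θh : IrrCharacter ↥T) (hext : res (hQD.trans hDT) (θh : ↥T → ℂ) = (θ : ↥Q → ℂ))
    (χ : IrrCharacter ↥K) (β : IrrCharacter ↥T) (hβ : KerGE Q T β)
    (hχβ : ip (res hTK χ) ((θh : ↥T → ℂ) * (β : ↥T → ℂ)) ≠ 0)
    (ξ : IrrCharacter ↥C) (γ : IrrCharacter ↥D) (hγ : KerGE Q D γ)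
    (hξγ : ip (res hDC ξ) (res hDT (θh : ↥T → ℂ) * (γ : ↥D → ℂ)) ≠ 0) :
    ip (res h.hCK χ) (ξ : ↥C → ℂ) = ip (res hDT (β : ↥T → ℂ)) (γ : ↥D → ℂ) := by
  have hT' : ∀ g : G, g ∈ T ↔ g ∈ K ∧ ∀ q q' : ↥Q, (q' : G) = g * q * g⁻¹ →
      (θ : ↥Q → ℂ) q' = (θ : ↥Q → ℂ) q := by
    intro g
    rw [hT, mem_inertia]
    constructor
    · rintro ⟨h1, -, h3⟩
      exact ⟨h1, h3⟩
    · rintro ⟨h1, h3⟩
      exact ⟨h1, h.hKQ h1, h3⟩
  have hD' : ∀ g : G, g ∈ D ↔ g ∈ C ∧ ∀ q q' : ↥Q, (q' : G) = g * q * g⁻¹ →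
      (θ : ↥Q → ℂ) q' = (θ : ↥Q → ℂ) q := by
    intro g
    rw [hD, mem_inertia]
    constructor
    · rintro ⟨h1, -, h3⟩
      exact ⟨h1, h3⟩
    · rintro ⟨h1, h3⟩
      exact ⟨h1, h.hKQ (h.hCK h1), h3⟩
  exact mult_formula K C T D Q h.hCK h.hKQ θ hT' hD' hQD hDT hTK hDC θh hext χ β hβ hχβ ξ γ hγ hξγ

end Cfsg.Agent.Lib.Helper4.GNSM
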