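import Mathlib

set_option autoImplicit false
set_option linter.style.haveILetI false
set_option linter.unusedSectionVars false

/-! `p`-separated classes with a common normal defect group `D`: the hypotheses pass to `G ⧸ D`
(helper4; layer II of the theorem on `p`-separated classes, group-theoretic part). -/

namespace Cfsg.Agent.Lib.Helper4.PSepQuot

variable {G : Type*} [Group G] [Finite G]

theorem exists_orderOf_eq_of_pow (p : ℕ) [hp : Fact p.Prime] (y : G) (k : ℕ)
    (hy : y ^ (p ^ k) = 1) : ∃ m : ℕ, orderOf y = p ^ m := by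
  have := orderOf_dvd_of_pow_eq_one hy
  obtain ⟨j, -, hj⟩ := (Nat.dvd_prime_pow hp.out).mp this
  exact ⟨j, hj⟩

theorem exists_orderOf_eq_of_mem (p : ℕ) [hp : Fact p.Prime] (D : Subgroup G)
    (hDp : IsPGroup p D) (u : G) (hu : u ∈ D) : ∃ m : ℕ, orderOf u = p ^ m := by
  obtain ⟨k, hk⟩ := hDp ⟨u, hu⟩
  have hk' : u ^ (p ^ k) = 1 := by
    have := congrArg Subtype.val hk
    simpa using this
  exact exists_orderOf_eq_of_pow p u k hk'

section

variable (p : ℕ) [hp : Fact p.Prime] (D : Subgroup G) (hDp : IsPGroup p D)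
  {ι : Type*} (x : ι → G)
  (hD : ∀ i : ι, ∃ S : Sylow p ↥(Subgroup.centralizer ({x i} : Set G)),
    (S : Subgroup ↥(Subgroup.centralizer ({x i} : Set G))).map
      (Subgroup.centralizer ({x i} : Set G)).subtype = D)
  (hsep : ∀ i j : ι, ∀ g h : G, IsConj (x i) g → IsConj (x j) h → ∀ k : ℕ, 0 < k →
    orderOf (g * h⁻¹) ≠ p ^ k)

include hD in
theorem le_centralizer (i : ι) : D ≤ Subgroup.centralizer ({x i} : Set G) := by
  obtain ⟨S, hS⟩ := hD i
  rw [← hS]
  exact Subgroup.map_subtype_le _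

include hD in
theorem commute_of_mem (i : ι) (u : G) (hu : u ∈ D) : x i * u = u * x i := by
  have := le_centralizer p D x hD i hu
  rw [Subgroup.mem_centralizer_iff] at this
  exact this (x i) rfl

include hDp hD hsep in
/-- the key claim: a conjugate of `x i` in the coset `x j D` is `x j`. -/
theorem eq_one_of_conj_eq (i j : ι) (g u : G) (hu : u ∈ D)
    (h : g * x i * g⁻¹ = x j * u) : u = 1 := by
  have hc := commute_of_mem p D x hD j u hu
  have h1 : g * x i * g⁻¹ * (x j)⁻¹ = u := by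
    rw [h, hc, mul_inv_cancel_right]
  obtain ⟨m, hm⟩ := exists_orderOf_eq_of_mem p D hDp u hu
  rcases Nat.eq_zero_or_pos m with h0 | hpos
  · rw [h0, pow_zero, orderOf_eq_one_iff] at hm
    exact hm
  · exfalso
    have := hsep i j (g * x i * g⁻¹) (x j) (isConj_iff.mpr ⟨g, rfl⟩) (IsConj.refl _) m hpos
    rw [h1] at this
    exact this hm

variable [hDn : D.Normal]

include hDp hD hsep in
theorem conj_eq_of_mk_conj_eq (i j : ι) (c : G)
    (h : (c : G ⧸ D) * (x i : G ⧸ D) * (c : G ⧸ D)⁻¹ = (x j : G ⧸ D)) :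
    c * x i * c⁻¹ = x j := by
  have h1 : ((c * x i * c⁻¹ : G) : G ⧸ D) = (x j : G ⧸ D) := by
    rw [QuotientGroup.mk_mul, QuotientGroup.mk_mul, QuotientGroup.mk_inv]
    exact h
  have h2 : (x j)⁻¹ * (c * x i * c⁻¹) ∈ D := QuotientGroup.eq.mp h1.symm
  have h3 : c * x i * c⁻¹ = x j * ((x j)⁻¹ * (c * x i * c⁻¹)) := by group
  have h4 := eq_one_of_conj_eq p D hDp x hD hsep i j c _ h2 h3
  rw [h4, mul_one] at h3
  exact h3

include hDp hD hsep in
/-- non-conjugacy passes to the quotient -/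
theorem quot_nonconj (hx : ∀ i j : ι, IsConj (x i) (x j) → i = j) (i j : ι)
    (h : IsConj (x i : G ⧸ D) (x j : G ⧸ D)) : i = j := by
  obtain ⟨c', hc'⟩ := isConj_iff.mp h
  obtain ⟨c, rfl⟩ := QuotientGroup.mk_surjective c'
  have := conj_eq_of_mk_conj_eq p D hDp x hD hsep i j c hc'
  exact hx i j (isConj_iff.mpr ⟨c, this⟩)

include hDp hD hsep in
/-- the centralizers in the quotient have order prime to `p` -/
theorem quot_centralizer (i : ι) :
    ¬ p ∣ Nat.card (Subgroup.centralizer ({(x i : G ⧸ D)} : Set (G ⧸ D))) := by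
  intro hdvd
  obtain ⟨y', hy'⟩ := exists_prime_orderOf_dvd_card' p hdvd
  obtain ⟨y, hyq⟩ := QuotientGroup.mk_surjective (y' : G ⧸ D)
  have hy'c : (y' : G ⧸ D) * (x i : G ⧸ D) = (x i : G ⧸ D) * (y' : G ⧸ D) := by
    have := y'.2
    rw [Subgroup.mem_centralizer_iff] at this
    exact (this _ rfl).symm
  -- `y` centralizes `x i`
  have hyc : y * x i * y⁻¹ = x i := by
    apply conj_eq_of_mk_conj_eq p D hDp x hD hsep i i y
    rw [hyq, hy'c, mul_inv_cancel_right]
  have hyC : y ∈ Subgroup.centralizer ({x i} : Set G) := by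
    rw [Subgroup.mem_centralizer_iff]
    intro h hh
    rw [Set.mem_singleton_iff] at hh
    rw [hh]
    have : x i * y = y * x i * y⁻¹ * y := by rw [hyc]
    rw [this]; group
  have hyo : orderOf (y : G ⧸ D) = p := by
    rw [hyq, Subgroup.orderOf_coe]; exact hy'
  -- `y` is a `p`-element outside `D`
  have hyD : y ∉ D := by
    intro h
    have : (y : G ⧸ D) = 1 := (QuotientGroup.eq_one_iff y).mpr h
    rw [this, orderOf_one] at hyo
    exact hp.out.one_lt.ne hyo
  have hypD : y ^ p ∈ D := by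
    rw [← QuotientGroup.eq_one_iff, QuotientGroup.mk_pow, ← hyo]
    exact pow_orderOf_eq_one _
  obtain ⟨m, hm⟩ := exists_orderOf_eq_of_mem p D hDp _ hypD
  have hym : y ^ (p ^ (m + 1)) = 1 := by
    rw [pow_succ, mul_comm, pow_mul, ← hm]
    exact pow_orderOf_eq_one _
  have hyP : IsPGroup p (Subgroup.zpowers y) := by
    obtain ⟨n, hn⟩ := exists_orderOf_eq_of_pow p y (m + 1) hym
    apply IsPGroup.of_card (n := n)
    rw [Nat.card_zpowers, hn]
  -- the `p`-subgroup `D ⊔ ⟨y⟩` of the centralizer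
  have hQp : IsPGroup p (D ⊔ Subgroup.zpowers y : Subgroup G) :=
    IsPGroup.to_sup_of_normal_left hDp hyP
  have hDC := le_centralizer p D x hD i
  have hQC : (D ⊔ Subgroup.zpowers y : Subgroup G) ≤ Subgroup.centralizer ({x i} : Set G) := by
    apply sup_le hDC
    rw [Subgroup.zpowers_le]
    exact hyC
  obtain ⟨S, hS⟩ := hD i
  have hSQ : (S : Subgroup ↥(Subgroup.centralizer ({x i} : Set G))) ≤
      (D ⊔ Subgroup.zpowers y : Subgroup G).subgroupOf (Subgroup.centralizer ({x i} : Set G)) := by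
    intro s hs
    rw [Subgroup.mem_subgroupOf]
    apply (le_sup_left : D ≤ D ⊔ Subgroup.zpowers y)
    rw [← hS]
    exact Subgroup.mem_map_of_mem _ hs
  have hQp' : IsPGroup p ((D ⊔ Subgroup.zpowers y : Subgroup G).subgroupOf
      (Subgroup.centralizer ({x i} : Set G))) :=
    hQp.comap_subtype
  have hEq := S.is_maximal' hQp' hSQ
  have hyS : (⟨y, hyC⟩ : ↥(Subgroup.centralizer ({x i} : Set G))) ∈
      (S : Subgroup ↥(Subgroup.centralizer ({x i} : Set G))) := by
    rw [← hEq, Subgroup.mem_subgroupOf]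
    exact (le_sup_right : Subgroup.zpowers y ≤ D ⊔ Subgroup.zpowers y) (Subgroup.mem_zpowers y)
  apply hyD
  rw [← hS]
  exact ⟨⟨y, hyC⟩, hyS, rfl⟩

include hDp hsep in
/-- separation passes to the quotient -/
theorem quot_sep (i j : ι) (g h : G ⧸ D) (hg : IsConj (x i : G ⧸ D) g)
    (hh : IsConj (x j : G ⧸ D) h) (k : ℕ) (hk : 0 < k) : orderOf (g * h⁻¹) ≠ p ^ k := by
  intro ho
  obtain ⟨c', hc'⟩ := isConj_iff.mp hg
  obtain ⟨c, rfl⟩ := QuotientGroup.mk_surjective c'
  obtain ⟨e', he'⟩ := isConj_iff.mp hh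
  obtain ⟨e, rfl⟩ := QuotientGroup.mk_surjective e'
  set g₀ : G := c * x i * c⁻¹ with hg₀
  set h₀ : G := e * x j * e⁻¹ with hh₀
  have hgq : (g₀ : G ⧸ D) = g := by
    rw [hg₀, QuotientGroup.mk_mul, QuotientGroup.mk_mul, QuotientGroup.mk_inv]; exact hc'
  have hhq : (h₀ : G ⧸ D) = h := by
    rw [hh₀, QuotientGroup.mk_mul, QuotientGroup.mk_mul, QuotientGroup.mk_inv]; exact he'
  set y : G := g₀ * h₀⁻¹ with hy
  have hyq : (y : G ⧸ D) = g * h⁻¹ := by
    rw [hy, QuotientGroup.mk_mul, QuotientGroup.mk_inv, hgq, hhq]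
  have hypD : y ^ (p ^ k) ∈ D := by
    rw [← QuotientGroup.eq_one_iff, QuotientGroup.mk_pow, hyq, ← ho]
    exact pow_orderOf_eq_one _
  obtain ⟨m, hm⟩ := exists_orderOf_eq_of_mem p D hDp _ hypD
  have hym : y ^ (p ^ (k + m)) = 1 := by
    rw [pow_add, pow_mul, ← hm]
    exact pow_orderOf_eq_one _
  obtain ⟨n, hn⟩ := exists_orderOf_eq_of_pow p y (k + m) hym
  have hn0 : 0 < n := by
    rcases Nat.eq_zero_or_pos n with h0 | hpos
    · exfalso
      rw [h0, pow_zero, orderOf_eq_one_iff] at hn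
      have : (y : G ⧸ D) = 1 := by rw [hn]; rfl
      rw [hyq] at this
      rw [this, orderOf_one] at ho
      exact (Nat.one_lt_pow hk.ne' hp.out.one_lt).ne ho
    · exact hpos
  exact hsep i j g₀ h₀ (isConj_iff.mpr ⟨c, rfl⟩) (isConj_iff.mpr ⟨e, rfl⟩) n hn0 hn

end

end Cfsg.Agent.Lib.Helper4.PSepQuot
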