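import Mathlib

set_option autoImplicit false

namespace Cfsg.Agent.Lib.Helper4.SylowPrime

/-- `y` fixes the coset `gN` iff `g⁻¹ y g ∈ N`. -/
theorem smul_mk_eq_iff {G : Type*} [Group G] (N : Subgroup G) (y g : G) :
    y • (g : G ⧸ N) = (g : G ⧸ N) ↔ g⁻¹ * y * g ∈ N := by
  rw [MulAction.Quotient.smul_mk, eq_comm, QuotientGroup.eq, smul_eq_mul, ← mul_assoc]

/-- membership in a conjugate Sylow subgroup -/
theorem mem_smul_sylow_iff {G : Type*} [Group G] {p : ℕ} (P : Sylow p G) (g z : G) :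
    z ∈ g • P ↔ g⁻¹ * z * g ∈ P := by
  rw [← SetLike.mem_coe, Sylow.coe_smul, Set.mem_smul_set_iff_inv_smul_mem]
  simp

/-- a `p`-element of `N(P)` lies in `P`. -/
theorem mem_sylow_of_mem_normalizer {G : Type*} [Group G] {p : ℕ} [Fact p.Prime] (P : Sylow p G)
    (z : G) (hz : z ∈ Subgroup.normalizer ((P : Subgroup G) : Set G)) (Q : Subgroup G)
    (hQ : IsPGroup p Q) (hzQ : z ∈ Q) : z ∈ (P : Subgroup G) :=
  ((hQ.inf_normalizer_sylow P).le ⟨hzQ, hz⟩).2

/-- A Sylow subgroup of order `p` is generated by any of its non-identity elements. -/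
theorem sylow_eq_zpowers {G : Type*} [Group G] [Finite G] {p : ℕ} [hp : Fact p.Prime] (P : Sylow p G)
    (hP : Nat.card (P : Subgroup G) = p) (z : G) (hz : z ≠ 1) (hzP : z ∈ (P : Subgroup G)) :
    (P : Subgroup G) = Subgroup.zpowers z := by
  symm
  have hle : Subgroup.zpowers z ≤ (P : Subgroup G) := by
    rw [Subgroup.zpowers_le]; exact hzP
  apply Subgroup.eq_of_le_of_card_ge hle
  have h1 : Nat.card (Subgroup.zpowers z) ∣ p := hP ▸ Subgroup.card_dvd_of_le hle
  rcases (Nat.dvd_prime hp.out).mp h1 with h | h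
  · exfalso
    rw [Nat.card_zpowers, orderOf_eq_one_iff] at h
    exact hz h
  · rw [h, hP]

/-- Two Sylow subgroups of order `p` sharing a non-identity element are equal. -/
theorem sylow_eq_of_mem {G : Type*} [Group G] [Finite G] {p : ℕ} [hp : Fact p.Prime]
    (P Q : Sylow p G)
    (hP : Nat.card (P : Subgroup G) = p) (z : G) (hz : z ≠ 1) (hzP : z ∈ (P : Subgroup G))
    (hzQ : z ∈ (Q : Subgroup G)) : P = Q := by
  have hQ : Nat.card (Q : Subgroup G) = p :=
    (Q.card_eq_multiplicity).trans (P.card_eq_multiplicity.symm.trans hP)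
  apply Sylow.ext
  rw [sylow_eq_zpowers P hP z hz hzP, sylow_eq_zpowers Q hQ z hz hzQ]

/-- S1018, first part -/
theorem card_fixedBy_eq_one {G : Type*} [Group G] [Finite G] (p : ℕ) [hp : Fact p.Prime] (P : Sylow p G)
    (hP : Nat.card ↥(P : Subgroup G) = p) (y : G) (hy : orderOf y = p) :
    Nat.card (MulAction.fixedBy (G ⧸ Subgroup.normalizer ((P : Subgroup G) : Set G)) y) = 1 := by
  set N := Subgroup.normalizer ((P : Subgroup G) : Set G) with hN
  have hy1 : y ≠ 1 := by
    rintro rfl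
    rw [orderOf_one] at hy
    exact hp.out.one_lt.ne hy
  have hpg : IsPGroup p (Subgroup.zpowers y) := by
    apply IsPGroup.of_card (n := 1)
    rw [Nat.card_zpowers, hy, pow_one]
  rw [Nat.card_eq_one_iff_unique]
  constructor
  · constructor
    rintro ⟨a, ha⟩ ⟨b, hb⟩
    rw [MulAction.mem_fixedBy] at ha hb
    induction a using QuotientGroup.induction_on with
    | H g =>
    induction b using QuotientGroup.induction_on with
    | H h =>
    rw [smul_mk_eq_iff] at ha hb
    -- `y ∈ g • P` and `y ∈ h • P`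
    have hpg' : ∀ k : G, IsPGroup p (Subgroup.zpowers (k⁻¹ * y * k)) := by
      intro k
      apply IsPGroup.of_card (n := 1)
      have : k⁻¹ * y * k = MulAut.conj k⁻¹ y := by simp
      rw [Nat.card_zpowers, this, MulEquiv.orderOf_eq, hy, pow_one]
    have h1 : y ∈ g • P := by
      rw [mem_smul_sylow_iff]
      exact mem_sylow_of_mem_normalizer P _ ha _ (hpg' g) (Subgroup.mem_zpowers _)
    have h2 : y ∈ h • P := by
      rw [mem_smul_sylow_iff]
      exact mem_sylow_of_mem_normalizer P _ hb _ (hpg' h) (Subgroup.mem_zpowers _)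
    have hgP : Nat.card ((g • P : Sylow p G) : Subgroup G) = p :=
      ((g • P).card_eq_multiplicity).trans (P.card_eq_multiplicity.symm.trans hP)
    have h3 : g • P = h • P := sylow_eq_of_mem _ _ hgP y hy1 h1 h2
    have h4 : (g⁻¹ * h) • P = P := by
      rw [mul_smul, ← h3, inv_smul_smul]
    rw [Sylow.smul_eq_iff_mem_normalizer] at h4
    apply Subtype.ext
    exact QuotientGroup.eq.mpr h4
  · obtain ⟨Q, hQ⟩ := hpg.exists_le_sylow
    obtain ⟨g, rfl⟩ := MulAction.exists_smul_eq G P Q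
    have hyQ : y ∈ g • P := hQ (Subgroup.mem_zpowers y)
    rw [mem_smul_sylow_iff] at hyQ
    refine ⟨⟨(g : G ⧸ N), ?_⟩⟩
    rw [MulAction.mem_fixedBy, smul_mk_eq_iff]
    exact Subgroup.le_normalizer hyQ


/-- S1018, second part -/
theorem card_fixedBy_le_card_orbits {G : Type*} [Group G] [Finite G] (p : ℕ) [hp : Fact p.Prime] (P : Sylow p G)
    (hP : Nat.card ↥(P : Subgroup G) = p) (x : G)
    (hxN : x ∈ Subgroup.normalizer ((P : Subgroup G) : Set G))
    (hxC : x ∉ Subgroup.centralizer ((P : Subgroup G) : Set G)) :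
    Nat.card (MulAction.fixedBy (G ⧸ Subgroup.normalizer ((P : Subgroup G) : Set G)) x) ≤
      Nat.card (MulAction.orbitRel.Quotient ↥(P : Subgroup G)
        (G ⧸ Subgroup.normalizer ((P : Subgroup G) : Set G))) := by
  set N := Subgroup.normalizer ((P : Subgroup G) : Set G) with hN
  let f : MulAction.fixedBy (G ⧸ N) x → MulAction.orbitRel.Quotient ↥(P : Subgroup G) (G ⧸ N) :=
    fun a => Quotient.mk'' a.1
  apply Nat.card_le_card_of_injective f
  rintro ⟨a, ha⟩ ⟨b, hb⟩ hab
  apply Subtype.ext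
  show a = b
  have hab' : a ∈ MulAction.orbit ↥(P : Subgroup G) b := Quotient.eq''.mp hab
  obtain ⟨⟨u, hu⟩, hub⟩ := hab'
  have hub' : u • b = a := hub
  rw [MulAction.mem_fixedBy] at ha hb
  induction b using QuotientGroup.induction_on with
  | H g =>
  subst hub'
  rw [smul_mk_eq_iff] at hb
  rw [MulAction.Quotient.smul_mk, smul_mk_eq_iff, smul_eq_mul] at ha
  -- the commutator
  set c := x⁻¹ * u⁻¹ * x * u with hc
  have hcP : c ∈ (P : Subgroup G) := by
    have h1 : x⁻¹ * u⁻¹ * x ∈ (P : Subgroup G) := by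
      have := (Subgroup.mem_normalizer_iff''.mp hxN u⁻¹).mp (inv_mem hu)
      exact this
    exact mul_mem h1 hu
  have hcN : g⁻¹ * c * g ∈ N := by
    have h1 : g⁻¹ * c * g = (g⁻¹ * x * g)⁻¹ * ((u * g)⁻¹ * x * (u * g)) := by
      rw [hc]; group
    rw [h1]
    exact mul_mem (inv_mem hb) ha
  have hcgP : g⁻¹ * c * g ∈ (P : Subgroup G) := by
    have hpg : IsPGroup p ((g⁻¹ • P : Sylow p G) : Subgroup G) := (g⁻¹ • P).2
    apply mem_sylow_of_mem_normalizer P _ hcN _ hpg
    refine (mem_smul_sylow_iff P g⁻¹ _).mpr ?_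
    have h5 : g⁻¹⁻¹ * (g⁻¹ * c * g) * g⁻¹ = c := by group
    rw [h5]
    exact hcP
  by_cases hc1 : c = 1
  · -- `x` commutes with `u`
    by_cases hu1 : u = 1
    · subst hu1
      simp
    · exfalso
      apply hxC
      have hPu := sylow_eq_zpowers P hP u hu1 hu
      rw [Subgroup.mem_centralizer_iff]
      intro h hh
      have hh' : h ∈ Subgroup.zpowers u := by rw [← hPu]; exact hh
      obtain ⟨k, rfl⟩ := Subgroup.mem_zpowers_iff.mp hh'
      have hcomm : Commute x u := by
        have : x⁻¹ * u⁻¹ * x * u = 1 := hc1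
        have h2 : x * u = u * x := by
          have h3 : u * x * (x⁻¹ * u⁻¹ * x * u) = u * x * 1 := by rw [this]
          rw [mul_one] at h3
          rw [← h3]; group
        exact h2
      exact ((hcomm.zpow_right k).eq).symm
  · -- `g ∈ N`
    have h1 : c ∈ ((g • P : Sylow p G) : Subgroup G) :=
      (mem_smul_sylow_iff P g c).mpr hcgP
    have h2 : P = g • P := sylow_eq_of_mem P (g • P) hP c hc1 hcP h1
    have h3 : g ∈ N := Sylow.smul_eq_iff_mem_normalizer.mp h2.symm
    have h4 : u ∈ N := Subgroup.le_normalizer hu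
    rw [MulAction.Quotient.smul_mk, smul_eq_mul, eq_comm, QuotientGroup.eq]
    have : g⁻¹ * (u * g) = g⁻¹ * u * g := by group
    rw [this]
    exact mul_mem (mul_mem (inv_mem h3) h4) h3

end Cfsg.Agent.Lib.Helper4.SylowPrime
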