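import Mathlib
import Cfsg.Agent.Lib.Helper4.Sylow
import Cfsg.Agent.Lib.Helper4.SylowPrime

set_option autoImplicit false

namespace Cfsg.Agent.Lib.Helper4.PermSylow
open Cfsg.Agent.Lib.Helper4.Sylow Cfsg.Agent.Lib.Helper4.SylowPrime
open Equiv

/-- order of the Sylow p-subgroup of `S_p` or `S_{p+1}` -/
theorem card_sylow_perm {α : Type*} [Fintype α] [DecidableEq α] (p : ℕ) [hp : Fact p.Prime]
    (hα : Fintype.card α = p ∨ Fintype.card α = p + 1) (P : Sylow p (Equiv.Perm α)) :
    Nat.card (P : Subgroup (Perm α)) = p := by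
  have hp1 : ¬ p ∣ (p - 1).factorial := by
    rw [hp.out.dvd_factorial]
    have := hp.out.pos
    omega
  have hpp : p = (p - 1) + 1 := by have := hp.out.pos; omega
  rcases hα with h | h
  · have hG : Nat.card (Perm α) = p ^ 1 * (p - 1).factorial := by
      rw [Nat.card_perm, Nat.card_eq_fintype_card, h, pow_one]
      conv_lhs => rw [hpp, Nat.factorial_succ, ← hpp]
    simpa using card_sylow_of_card_eq hG hp1 P
  · have hG : Nat.card (Perm α) = p ^ 1 * ((p + 1) * (p - 1).factorial) := by
      rw [Nat.card_perm, Nat.card_eq_fintype_card, h, pow_one, Nat.factorial_succ]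
      conv_lhs => rw [hpp, Nat.factorial_succ, ← hpp]
      ring
    have h2 : ¬ p ∣ (p + 1) * (p - 1).factorial := by
      rw [hp.out.dvd_mul]
      push Not
      refine ⟨?_, hp1⟩
      intro h3
      have : p ∣ 1 := (Nat.dvd_add_right (dvd_refl p)).mp h3
      exact hp.out.one_lt.ne' (Nat.dvd_one.mp this)
    simpa using card_sylow_of_card_eq hG h2 P

/-- elements of order `p` in `S_p` or `S_{p+1}` are `p`-cycles -/
theorem cycleType_eq_of_orderOf_eq {α : Type*} [Fintype α] [DecidableEq α] (p : ℕ) [hp : Fact p.Prime]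
    (hα : Fintype.card α = p ∨ Fintype.card α = p + 1) (σ : Perm α) (hσ : orderOf σ = p) :
    σ.cycleType = {p} := by
  obtain ⟨n, hn⟩ := Equiv.Perm.cycleType_prime_order (σ := σ) (by rw [hσ]; exact hp.out)
  have h1 := σ.sum_cycleType_le
  rw [hn, hσ, Multiset.sum_replicate, smul_eq_mul] at h1
  have h2 : n = 0 := by
    by_contra h0
    have : 2 ≤ n + 1 := by omega
    have h3 : 2 * p ≤ (n + 1) * p := Nat.mul_le_mul_right p this
    have := hp.out.two_le
    rcases hα with h | h <;> omega
  rw [hn, h2, hσ]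
  rfl


/-- non-identity elements of a group of order `p` have order `p` -/
theorem orderOf_eq_of_mem {G : Type*} [Group G] [Finite G] (p : ℕ) [hp : Fact p.Prime]
    (P : Subgroup G) (hP : Nat.card P = p) (z : G) (hz : z ∈ P) (hz1 : z ≠ 1) : orderOf z = p := by
  have h1 : orderOf z ∣ p := by
    have := Subgroup.orderOf_dvd_natCard P hz
    rwa [hP] at this
  rcases (Nat.dvd_prime hp.out).mp h1 with h | h
  · exact absurd (orderOf_eq_one_iff.mp h) hz1
  · exact h

/-- S0989 -/
theorem card_normalizer_sylow_perm {α : Type*} [Fintype α] [DecidableEq α] (p : ℕ) [Fact p.Prime] (hα : Fintype.card α = p ∨ Fintype.card α = p + 1) (P : Sylow p (Equiv.Perm α)) : Nat.card ↥(Subgroup.normalizer ((P : Subgroup (Equiv.Perm α)) : Set (Equiv.Perm α))) = p * (p - 1) := by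
  have hp : p.Prime := Fact.out
  have hP := card_sylow_perm p hα P
  set N := Subgroup.normalizer ((P : Subgroup (Equiv.Perm α)) : Set (Equiv.Perm α)) with hN
  -- pick a generator
  have hnt : Nontrivial (P : Subgroup (Perm α)) := by
    rw [← Finite.one_lt_card_iff_nontrivial, hP]; exact hp.one_lt
  obtain ⟨⟨σ, hσP⟩, hσ1'⟩ := exists_ne (1 : (P : Subgroup (Perm α)))
  have hσ1 : σ ≠ 1 := fun h => hσ1' (Subtype.ext h)
  have hσo : orderOf σ = p := orderOf_eq_of_mem p _ hP σ hσP hσ1
  have hσc : σ.cycleType = {p} := cycleType_eq_of_orderOf_eq p hα σ hσo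
  -- conjugating `σ` into `P` means normalizing `P`
  have key : ∀ τ : Perm α, τ * σ * τ⁻¹ ∈ (P : Subgroup (Perm α)) → τ ∈ N := by
    intro τ hτ
    have h1 : τ * σ * τ⁻¹ ∈ ((τ • P : Sylow p (Perm α)) : Subgroup (Perm α)) := by
      refine (mem_smul_sylow_iff P τ _).mpr ?_
      have : τ⁻¹ * (τ * σ * τ⁻¹) * τ = σ := by group
      rw [this]; exact hσP
    have h2 : τ * σ * τ⁻¹ ≠ 1 := by
      intro h
      apply hσ1
      have : σ = τ⁻¹ * (τ * σ * τ⁻¹) * τ := by group
      rw [this, h]; group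
    have h3 : P = τ • P := sylow_eq_of_mem P (τ • P) hP _ h2 hτ h1
    exact Sylow.smul_eq_iff_mem_normalizer.mp h3.symm
  -- the centralizer of `σ`
  set C := Subgroup.centralizer ({σ} : Set (Perm α)) with hC
  have hCN : C ≤ N := by
    intro τ hτ
    apply key
    rw [Subgroup.mem_centralizer_singleton_iff] at hτ
    rw [hτ, mul_inv_cancel_right]
    exact hσP
  have hCcard : Nat.card C = p := by
    rw [hC, Equiv.Perm.nat_card_centralizer, hσc]
    have h1 : (Fintype.card α - p).factorial = 1 := by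
      rcases hα with h | h
      · rw [h, Nat.sub_self]; rfl
      · rw [h, Nat.add_sub_cancel_left]; rfl
    simp [h1]
  -- action of `N` on `Perm α` by conjugation
  let act : MulAction N (Perm α) := MulAction.compHom (Perm α) (MulAut.conj.comp N.subtype)
  have hsmul : ∀ (τ : N) (z : Perm α), τ • z = (τ : Perm α) * z * (τ : Perm α)⁻¹ := fun τ z => rfl
  have hstab : MulAction.stabilizer N σ = C.subgroupOf N := by
    ext τ
    rw [MulAction.mem_stabilizer_iff, hsmul, Subgroup.mem_subgroupOf, hC,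
      Subgroup.mem_centralizer_singleton_iff, mul_inv_eq_iff_eq_mul]
  have horb : MulAction.orbit N σ = ((P : Subgroup (Perm α)) : Set (Perm α)) \ {1} := by
    ext z
    constructor
    · rintro ⟨τ, rfl⟩
      show (τ • σ) ∈ _
      rw [hsmul]
      refine ⟨?_, ?_⟩
      · have := (Subgroup.mem_normalizer_iff.mp τ.2 σ).mp hσP
        exact this
      · intro h
        apply hσ1
        have h' : (τ : Perm α) * σ * (τ : Perm α)⁻¹ = 1 := h
        have : σ = (τ : Perm α)⁻¹ * ((τ : Perm α) * σ * (τ : Perm α)⁻¹) * (τ : Perm α) := by group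
        rw [this, h']; group
    · rintro ⟨hzP, hz1⟩
      have hz1' : z ≠ 1 := hz1
      have hzo : orderOf z = p := orderOf_eq_of_mem p _ hP z hzP hz1'
      have hzc : z.cycleType = {p} := cycleType_eq_of_orderOf_eq p hα z hzo
      have hconj : IsConj σ z := Equiv.Perm.isConj_iff_cycleType_eq.mpr (hσc.trans hzc.symm)
      obtain ⟨τ, hτ⟩ := isConj_iff.mp hconj
      have hτN : τ ∈ N := key τ (hτ ▸ hzP)
      exact ⟨⟨τ, hτN⟩, hτ⟩
  have h1 := MulAction.index_stabilizer N σ
  rw [hstab, horb, Set.ncard_sdiff_singleton_of_mem (one_mem _)] at h1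
  have h2 : (((P : Subgroup (Perm α)) : Set (Perm α))).ncard = p := hP
  rw [h2] at h1
  have h3 := (C.subgroupOf N).card_mul_index
  rw [h1, Nat.card_congr (Subgroup.subgroupOfEquivOfLe hCN).toEquiv, hCcard] at h3
  exact h3.symm

end Cfsg.Agent.Lib.Helper4.PermSylow
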