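import Mathlib
import Cfsg.Agent.Lib.Helper4.Sylow
import Cfsg.Agent.Lib.Helper4.PermSylow
import Cfsg.Agent.S0990

set_option autoImplicit false

namespace Cfsg.Agent.Lib.Helper4.AltEmbed

open Cfsg.Agent.Lib.Helper4.Sylow Cfsg.Agent.Lib.Helper4.PermSylow

/-- A simple group of order `> 2` acts faithfully and by even permutations on the cosets of a
proper subgroup. -/
theorem toPermHom_injective_and_range_le {G : Type*} [Group G] [Finite G] [IsSimpleGroup G]
    (hG : 2 < Nat.card G) (H : Subgroup G) (hH : H ≠ ⊤) [Fintype (G ⧸ H)] [DecidableEq (G ⧸ H)] :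
    Function.Injective (MulAction.toPermHom G (G ⧸ H)) ∧
      (MulAction.toPermHom G (G ⧸ H)).range ≤ alternatingGroup (G ⧸ H) := by
  set φ := MulAction.toPermHom G (G ⧸ H) with hφ
  have hker : φ.ker = ⊥ := by
    rcases φ.normal_ker.eq_bot_or_eq_top with h | h
    · exact h
    · exfalso
      apply hH
      rw [eq_top_iff]
      have hle : φ.ker ≤ H := by
        rw [← Subgroup.normalCore_eq_ker]
        exact Subgroup.normalCore_le H
      rw [h] at hle
      exact hle
  have hinj : Function.Injective φ := (MonoidHom.ker_eq_bot_iff φ).mp hker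
  refine ⟨hinj, ?_⟩
  let ψ : G →* ℤˣ := Equiv.Perm.sign.comp φ
  have hψ : ψ.ker = ⊤ := by
    rcases ψ.normal_ker.eq_bot_or_eq_top with h | h
    · exfalso
      have hinj' : Function.Injective ψ := (MonoidHom.ker_eq_bot_iff ψ).mp h
      have := Nat.card_le_card_of_injective ψ hinj'
      have h2 : Nat.card ℤˣ = 2 := by simp
      omega
    · exact h
  rintro _ ⟨g, rfl⟩
  rw [Equiv.Perm.mem_alternatingGroup]
  have : g ∈ ψ.ker := by rw [hψ]; trivial
  exact this

theorem card_subgroupOf_eq_card_inf {G : Type*} [Group G] (H K : Subgroup G) :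
    Nat.card (H.subgroupOf K) = Nat.card (H ⊓ K : Subgroup G) := by
  rw [← Subgroup.inf_subgroupOf_right]
  exact Nat.card_congr (Subgroup.subgroupOfEquivOfLe inf_le_right).toEquiv

/-- In a simple group with a subgroup of index `p` or `p + 1` (`p` an odd prime) whose Sylow
`p`-subgroups have order `p`, the order of a Sylow normalizer divides `p (p - 1) / 2`. -/
theorem two_mul_card_normalizer_dvd {G : Type*} [Group G] [Finite G] [IsSimpleGroup G]
    (hG : 2 < Nat.card G) (H : Subgroup G) (hH : H ≠ ⊤) (p : ℕ) [hp : Fact p.Prime] (hp2 : p ≠ 2)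
    (hidx : H.index = p ∨ H.index = p + 1) (P : Sylow p G) (hP : Nat.card (P : Subgroup G) = p) :
    2 * Nat.card (Subgroup.normalizer ((P : Subgroup G) : Set G)) ∣ p * (p - 1) := by
  classical
  have : Fintype (G ⧸ H) := Fintype.ofFinite _
  obtain ⟨hinj, hrange⟩ := toPermHom_injective_and_range_le hG H hH
  set φ := MulAction.toPermHom G (G ⧸ H) with hφ
  have hcardX : Fintype.card (G ⧸ H) = p ∨ Fintype.card (G ⧸ H) = p + 1 := by
    rw [← Nat.card_eq_fintype_card, ← Subgroup.index_eq_card]
    exact hidx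
  have hcardX2 : 2 ≤ Fintype.card (G ⧸ H) := by
    have := hp.out.two_le
    rcases hcardX with h | h <;> omega
  -- the image of `P` is a Sylow subgroup
  obtain ⟨P', hP'⟩ := (P.2.map φ).exists_le_sylow
  have hP'card := card_sylow_perm p hcardX P'
  have hPmap : (P : Subgroup G).map φ = (P' : Subgroup (Equiv.Perm (G ⧸ H))) := by
    apply Subgroup.eq_of_le_of_card_ge hP'
    rw [hP'card, Subgroup.card_map_of_injective hinj, hP]
  have h1 := card_normalizer_sylow_perm p hcardX P'
  obtain ⟨hle, h2⟩ := Cfsg.Agent.S0990.result hcardX2 p hp2 P'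
  rw [h1, ← Subgroup.subgroupOf_normalizer_eq hle, card_subgroupOf_eq_card_inf] at h2
  rw [← h2]
  apply Nat.mul_dvd_mul_left
  have h3 : (Subgroup.normalizer ((P : Subgroup G) : Set G)).map φ ≤
      Subgroup.normalizer ((P' : Subgroup (Equiv.Perm (G ⧸ H))) : Set (Equiv.Perm (G ⧸ H))) ⊓
        alternatingGroup (G ⧸ H) := by
    apply le_inf
    · rw [← hPmap]
      exact Subgroup.le_normalizer_map φ
    · exact (Subgroup.map_le_range φ _).trans hrange
  have h4 := Subgroup.card_dvd_of_le h3
  rwa [Subgroup.card_map_of_injective hinj] at h4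

end Cfsg.Agent.Lib.Helper4.AltEmbed
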