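import Mathlib

set_option autoImplicit false

namespace Cfsg.Agent.Helper4.Wreath

open scoped commutatorElement

section DerivedSub
variable {X : Type*} [Group X] {Y : Type*} [Group Y]

/-- the derived series of a subgroup, as subgroups of the ambient group -/
def Dsub (A : Subgroup X) : ℕ → Subgroup X
  | 0 => A
  | k + 1 => ⁅Dsub A k, Dsub A k⁆

@[simp] theorem Dsub_zero (A : Subgroup X) : Dsub A 0 = A := rfl

theorem Dsub_succ (A : Subgroup X) (k : ℕ) : Dsub A (k + 1) = ⁅Dsub A k, Dsub A k⁆ := rfl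

theorem Dsub_mono {A B : Subgroup X} (h : A ≤ B) (k : ℕ) : Dsub A k ≤ Dsub B k := by
  induction k with
  | zero => exact h
  | succ k ih => exact Subgroup.commutator_mono ih ih

theorem Dsub_map (f : X →* Y) (A : Subgroup X) (k : ℕ) :
    Dsub (A.map f) k = (Dsub A k).map f := by
  induction k with
  | zero => rfl
  | succ k ih => rw [Dsub_succ, Dsub_succ, ih, Subgroup.map_commutator]

theorem Dsub_eq_map (A : Subgroup X) (k : ℕ) :
    Dsub A k = (derivedSeries A k).map A.subtype := by
  induction k with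
  | zero =>
    rw [Dsub_zero, derivedSeries_zero]
    ext x
    simp
  | succ k ih => rw [Dsub_succ, derivedSeries_succ, Subgroup.map_commutator, ih]

theorem Dsub_ne_bot_iff (A : Subgroup X) (k : ℕ) :
    Dsub A k ≠ ⊥ ↔ derivedSeries A k ≠ ⊥ := by
  rw [Dsub_eq_map, Ne, Subgroup.map_eq_bot_iff_of_injective _ A.subtype_injective]

theorem Dsub_map_ne_bot (f : X →* Y) (hf : Function.Injective f) (A : Subgroup X) (k : ℕ)
    (h : Dsub A k ≠ ⊥) : Dsub (A.map f) k ≠ ⊥ := by
  rw [Dsub_map, Ne, Subgroup.map_eq_bot_iff_of_injective _ hf]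
  exact h

/-- the wreath step: if `A` and `A'` commute elementwise and meet trivially, and `s` conjugates
`A` into `A'`, then a group containing `A` and `s` has derived length one more than `A`. -/
theorem wreath_step {A A' T : Subgroup X} (s : X) (hAT : A ≤ T) (hs : s ∈ T)
    (hcomm : ∀ a ∈ A, ∀ b ∈ A', Commute a b) (hdisj : ∀ a ∈ A, a ∈ A' → a = 1)
    (hconj : ∀ a ∈ A, s * a * s⁻¹ ∈ A') (k : ℕ) (hk : Dsub A k ≠ ⊥) :
    Dsub T (k + 1) ≠ ⊥ := by
  -- the subgroups S_m
  have key : ∀ m : ℕ, ∀ a ∈ Dsub A m, a ∈ A ∧ ∃ a' ∈ A', a * a' ∈ Dsub T (m + 1) := by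
    intro m
    induction m with
    | zero =>
      intro a ha
      rw [Dsub_zero] at ha
      refine ⟨ha, s * a⁻¹ * s⁻¹, hconj _ (A.inv_mem ha), ?_⟩
      have h1 : a * (s * a⁻¹ * s⁻¹) = ⁅a, s⁆ := by
        rw [commutatorElement_def]; group
      rw [h1, Dsub_succ, Dsub_zero]
      exact Subgroup.commutator_mem_commutator (hAT ha) hs
    | succ m ih =>
      -- the set of good elements is a subgroup containing commutators
      let S : Subgroup X :=
        { carrier := {a | a ∈ A ∧ ∃ a' ∈ A', a * a' ∈ Dsub T (m + 2)}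
          one_mem' := ⟨A.one_mem, 1, A'.one_mem, by rw [mul_one]; exact Subgroup.one_mem _⟩
          mul_mem' := by
            rintro a b ⟨ha, a', ha', h1⟩ ⟨hb, b', hb', h2⟩
            refine ⟨A.mul_mem ha hb, a' * b', A'.mul_mem ha' hb', ?_⟩
            have e : a * b * (a' * b') = (a * a') * (b * b') := by
              have := (hcomm b hb a' ha').eq
              calc a * b * (a' * b') = a * (b * a') * b' := by group
                _ = a * (a' * b) * b' := by rw [this]
                _ = (a * a') * (b * b') := by group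
            rw [e]
            exact Subgroup.mul_mem _ h1 h2
          inv_mem' := by
            rintro a ⟨ha, a', ha', h1⟩
            refine ⟨A.inv_mem ha, a'⁻¹, A'.inv_mem ha', ?_⟩
            have e : a⁻¹ * a'⁻¹ = (a * a')⁻¹ := by
              rw [mul_inv_rev]
              exact ((hcomm a ha a' ha').inv_inv).eq
            rw [e]
            exact Subgroup.inv_mem _ h1 }
      have hS : Dsub A (m + 1) ≤ S := by
        rw [Dsub_succ, Subgroup.commutator_le]
        intro a ha b hb
        obtain ⟨haA, a', ha', h1⟩ := ih a ha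
        obtain ⟨hbA, b', hb', h2⟩ := ih b hb
        refine ⟨?_, ⁅a', b'⁆, ?_, ?_⟩
        · rw [commutatorElement_def]
          exact A.mul_mem (A.mul_mem (A.mul_mem haA hbA) (A.inv_mem haA)) (A.inv_mem hbA)
        · rw [commutatorElement_def]
          exact A'.mul_mem (A'.mul_mem (A'.mul_mem ha' hb') (A'.inv_mem ha')) (A'.inv_mem hb')
        · have e : ⁅a, b⁆ * ⁅a', b'⁆ = ⁅a * a', b * b'⁆ := by
            have c1 := (hcomm a haA a' ha').eq
            have c2 := (hcomm a haA b' hb').eq
            have c3 := (hcomm b hbA a' ha').eq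
            have c4 := (hcomm b hbA b' hb').eq
            have c1' := ((hcomm a haA a' ha').inv_inv).eq
            have c2' := ((hcomm a haA b' hb').inv_left).eq
            have c3' := ((hcomm b hbA a' ha').inv_left).eq
            have c4' := ((hcomm b hbA b' hb').inv_inv).eq
            have c5 := ((hcomm a haA a' ha').inv_left).eq
            have c6 := ((hcomm b hbA b' hb').inv_left).eq
            rw [commutatorElement_def, commutatorElement_def, commutatorElement_def]
            -- move a', b' pieces past a, b pieces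
            calc a * b * a⁻¹ * b⁻¹ * (a' * b' * a'⁻¹ * b'⁻¹)
                = a * b * a⁻¹ * (b⁻¹ * a') * b' * a'⁻¹ * b'⁻¹ := by group
              _ = a * b * a⁻¹ * (a' * b⁻¹) * b' * a'⁻¹ * b'⁻¹ := by rw [c3']
              _ = a * b * (a⁻¹ * a') * (b⁻¹ * b') * a'⁻¹ * b'⁻¹ := by group
              _ = a * b * (a' * a⁻¹) * (b' * b⁻¹) * a'⁻¹ * b'⁻¹ := by rw [c5, c6]
              _ = a * (b * a') * (a⁻¹ * b') * b⁻¹ * a'⁻¹ * b'⁻¹ := by group
              _ = a * (a' * b) * (b' * a⁻¹) * b⁻¹ * a'⁻¹ * b'⁻¹ := by rw [c3, c2']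
              _ = a * a' * (b * b') * a⁻¹ * (b⁻¹ * a'⁻¹) * b'⁻¹ := by group
              _ = a * a' * (b * b') * a⁻¹ * (a'⁻¹ * b⁻¹) * b'⁻¹ := by
                  rw [((hcomm b hbA a' ha').inv_inv).eq]
              _ = a * a' * (b * b') * (a⁻¹ * a'⁻¹) * (b⁻¹ * b'⁻¹) := by group
              _ = a * a' * (b * b') * (a * a')⁻¹ * (b * b')⁻¹ := by
                  rw [mul_inv_rev a a', mul_inv_rev b b', c1', c4']
          rw [e, Dsub_succ T (m + 1)]
          exact Subgroup.commutator_mem_commutator h1 h2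
      intro a ha
      exact hS ha
  obtain ⟨⟨a, ha⟩, ha1⟩ := (Subgroup.ne_bot_iff_exists_ne_one).1 hk
  have ha1' : a ≠ 1 := fun e => ha1 (Subtype.ext e)
  obtain ⟨haA, a', ha', h1⟩ := key k a ha
  intro hbot
  rw [hbot, Subgroup.mem_bot] at h1
  apply ha1'
  apply hdisj a haA
  have : a = a'⁻¹ := eq_inv_of_mul_eq_one_left h1
  rw [this]
  exact A'.inv_mem ha'

end DerivedSub

section PGroups
variable {X : Type*} [Group X] {p : ℕ}

theorem isPGroup_pi {ι : Type*} [Finite ι] {G : ι → Type*} [∀ i, Group (G i)]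
    (h : ∀ i, IsPGroup p (G i)) : IsPGroup p (∀ i, G i) := by
  intro f
  choose k hk using fun i => h i (f i)
  haveI := Fintype.ofFinite ι
  refine ⟨∑ i, k i, funext fun i => ?_⟩
  rw [Pi.pow_apply, Pi.one_apply]
  have hle : k i ≤ ∑ i, k i := Finset.single_le_sum (fun _ _ => Nat.zero_le _) (Finset.mem_univ i)
  obtain ⟨d, hd⟩ := Nat.exists_eq_add_of_le hle
  rw [hd, pow_add, pow_mul, hk i, one_pow]

theorem isPGroup_iSup {ι : Type*} [Fintype ι] (H : ι → Subgroup X)
    (hH : ∀ i, IsPGroup p (H i))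
    (hc : Pairwise fun i j => ∀ x y : X, x ∈ H i → y ∈ H j → Commute x y) :
    IsPGroup p (⨆ i, H i : Subgroup X) := by
  have h1 : IsPGroup p (∀ i, H i) := isPGroup_pi hH
  have h2 := h1.of_surjective (Subgroup.noncommPiCoprod hc).rangeRestrict
    (MonoidHom.rangeRestrict_surjective _)
  rwa [Subgroup.noncommPiCoprod_range] at h2

end PGroups

end Cfsg.Agent.Helper4.Wreath
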