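import Mathlib
import Cfsg.Agent.Lib.Helper4.WreathA

set_option autoImplicit false

namespace Cfsg.Agent.Helper4.Wreath

section Wr
variable (ι : Type*) (H : Type*) [Group H]

/-- the permutation action of `Perm ι` on `ι → H` -/
def permAut : Equiv.Perm ι →* MulAut (ι → H) where
  toFun σ :=
    { toFun := fun a i => a (σ.symm i)
      invFun := fun a i => a (σ i)
      left_inv := fun a => by funext i; simp
      right_inv := fun a => by funext i; simp
      map_mul' := fun _ _ => rfl }
  map_one' := by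
    apply MulEquiv.ext
    intro a
    rfl
  map_mul' σ τ := by
    apply MulEquiv.ext
    intro a
    rfl

/-- the permutational wreath product `H ≀ Perm ι` -/
abbrev Wr := (ι → H) ⋊[permAut ι H] Equiv.Perm ι

variable {ι H}

@[simp] theorem permAut_apply (σ : Equiv.Perm ι) (a : ι → H) (i : ι) :
    permAut ι H σ a i = a (σ.symm i) := rfl

/-- elements of the wreath product supported on a set `S` of coordinates -/
def supp (S : Set ι) : Subgroup (Wr ι H) where
  carrier := {w | (∀ i, i ∉ S → w.left i = 1) ∧ (∀ i, i ∉ S → w.right i = i)}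
  one_mem' := ⟨fun _ _ => rfl, fun _ _ => rfl⟩
  mul_mem' := by
    rintro w w' ⟨h1, h2⟩ ⟨h1', h2'⟩
    refine ⟨fun i hi => ?_, fun i hi => ?_⟩
    · rw [SemidirectProduct.mul_left, Pi.mul_apply, permAut_apply, h1 i hi, one_mul]
      have : w.right.symm i = i := by
        rw [Equiv.symm_apply_eq]; exact (h2 i hi).symm
      rw [this, h1' i hi]
    · rw [SemidirectProduct.mul_right, Equiv.Perm.mul_apply, h2' i hi, h2 i hi]
  inv_mem' := by
    rintro w ⟨h1, h2⟩
    refine ⟨fun i hi => ?_, fun i hi => ?_⟩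
    · rw [SemidirectProduct.inv_left, permAut_apply, Pi.inv_apply]
      have : (w.right⁻¹).symm i = i := by
        rw [Equiv.Perm.inv_def, Equiv.symm_symm]; exact (h2 i hi)
      rw [this, h1 i hi, inv_one]
    · rw [SemidirectProduct.inv_right, Equiv.Perm.inv_def, Equiv.symm_apply_eq]
      exact (h2 i hi).symm

theorem mem_supp {S : Set ι} {w : Wr ι H} :
    w ∈ supp S ↔ (∀ i, i ∉ S → w.left i = 1) ∧ (∀ i, i ∉ S → w.right i = i) := Iff.rfl

theorem supp_mono {S S' : Set ι} (h : S ⊆ S') : supp (H := H) S ≤ supp S' := by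
  rintro w ⟨h1, h2⟩
  exact ⟨fun i hi => h1 i (fun hi' => hi (h hi')), fun i hi => h2 i (fun hi' => hi (h hi'))⟩

theorem symm_mem_of_mem {S : Set ι} {w : Wr ι H} (hw : w ∈ supp S) {i : ι} (hi : i ∈ S) :
    w.right.symm i ∈ S := by
  by_contra hn
  have := hw.2 _ hn
  rw [Equiv.apply_symm_apply] at this
  exact hn (this ▸ hi)

theorem symm_eq_of_notMem {S : Set ι} {w : Wr ι H} (hw : w ∈ supp S) {i : ι} (hi : i ∉ S) :
    w.right.symm i = i := by
  rw [Equiv.symm_apply_eq]; exact (hw.2 i hi).symm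

theorem supp_commute {S S' : Set ι} (hd : Disjoint S S') {w w' : Wr ι H}
    (hw : w ∈ supp S) (hw' : w' ∈ supp S') : Commute w w' := by
  have hd' : ∀ i, i ∈ S → i ∉ S' := fun i hi hi' => Set.disjoint_left.1 hd hi hi'
  apply SemidirectProduct.ext
  · funext i
    rw [SemidirectProduct.mul_left, SemidirectProduct.mul_left, Pi.mul_apply, Pi.mul_apply,
      permAut_apply, permAut_apply]
    by_cases hi : i ∈ S
    · have hi' := hd' i hi
      rw [hw'.1 i hi', symm_eq_of_notMem hw' hi', hw'.1 _ (hd' _ (symm_mem_of_mem hw hi)),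
        one_mul, mul_one]
    · rw [hw.1 i hi, symm_eq_of_notMem hw hi, one_mul]
      have : w'.right.symm i ∉ S := by
        by_cases hi' : i ∈ S'
        · exact fun h => hd' _ h (symm_mem_of_mem hw' hi')
        · rw [symm_eq_of_notMem hw' hi']; exact hi
      rw [hw.1 _ this, mul_one]
  · rw [SemidirectProduct.mul_right, SemidirectProduct.mul_right]
    apply Equiv.Perm.Disjoint.commute
    intro i
    by_cases hi : i ∈ S
    · exact Or.inr (hw'.2 i (hd' i hi))
    · exact Or.inl (hw.2 i hi)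

theorem supp_disjoint {S S' : Set ι} (hd : Disjoint S S') {w : Wr ι H}
    (hw : w ∈ supp S) (hw' : w ∈ supp S') : w = 1 := by
  have hd' : ∀ i, i ∈ S → i ∉ S' := fun i hi hi' => Set.disjoint_left.1 hd hi hi'
  apply SemidirectProduct.ext
  · funext i
    by_cases hi : i ∈ S
    · exact hw'.1 i (hd' i hi)
    · exact hw.1 i hi
  · apply Equiv.ext
    intro i
    by_cases hi : i ∈ S
    · exact hw'.2 i (hd' i hi)
    · exact hw.2 i hi

theorem inr_mem_supp {S : Set ι} {τ : Equiv.Perm ι} (h : ∀ i, i ∉ S → τ i = i) :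
    (SemidirectProduct.inr τ : Wr ι H) ∈ supp S :=
  ⟨fun _ _ => rfl, h⟩

theorem conj_inr_mem_supp {S S' : Set ι} (τ : Equiv.Perm ι) (h : ∀ i, i ∈ S → τ i ∈ S')
    {w : Wr ι H} (hw : w ∈ supp S) :
    (SemidirectProduct.inr τ : Wr ι H) * w * (SemidirectProduct.inr τ)⁻¹ ∈ supp S' := by
  have hS : ∀ i, i ∉ S' → τ.symm i ∉ S := by
    intro i hi hn
    apply hi
    have := h _ hn
    rwa [Equiv.apply_symm_apply] at this
  refine ⟨fun i hi => ?_, fun i hi => ?_⟩
  · rw [SemidirectProduct.mul_left, SemidirectProduct.mul_left, SemidirectProduct.inv_left,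
      SemidirectProduct.left_inr, inv_one, map_one, map_one, mul_one, one_mul, permAut_apply,
      SemidirectProduct.right_inr]
    exact hw.1 _ (hS i hi)
  · rw [SemidirectProduct.mul_right, SemidirectProduct.mul_right, SemidirectProduct.inv_right,
      SemidirectProduct.right_inr, Equiv.Perm.mul_apply, Equiv.Perm.mul_apply,
      Equiv.Perm.inv_def, hw.2 _ (hS i hi), Equiv.apply_symm_apply]

variable [DecidableEq ι]

/-- the copy of `H` at the coordinate `i₀` -/
def single (i₀ : ι) : H →* Wr ι H :=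
  (SemidirectProduct.inl).comp (MonoidHom.mulSingle (fun _ : ι => H) i₀)

theorem single_injective (i₀ : ι) : Function.Injective (single (H := H) i₀) := by
  intro a b hab
  exact Pi.mulSingle_injective i₀ (SemidirectProduct.inl_injective hab)

theorem single_mem_supp (i₀ : ι) (h : H) {S : Set ι} (hi : i₀ ∈ S) :
    single i₀ h ∈ supp (H := H) S := by
  refine ⟨fun i hi' => ?_, fun _ _ => rfl⟩
  have : i ≠ i₀ := fun e => hi' (e ▸ hi)
  show (Pi.mulSingle i₀ h : ι → H) i = 1
  exact Pi.mulSingle_eq_of_ne (M := fun _ : ι => H) this h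

end Wr

end Cfsg.Agent.Helper4.Wreath
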