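import Mathlib
import Cfsg.Agent.Lib.Helper4.WreathB

set_option autoImplicit false

namespace Cfsg.Agent.Helper4.Wreath

section Shift
variable (p : ℕ) [hp : Fact p.Prime]

/-- adds `1` to the coordinate `0` -/
def shiftPerm (k : ℕ) : Equiv.Perm (Fin (k + 1) → ZMod p) :=
  Equiv.addRight (Pi.single 0 1)

theorem shiftPerm_pow_apply (k m : ℕ) (x : Fin (k + 1) → ZMod p) :
    (shiftPerm p k ^ m) x = x + m • Pi.single 0 1 := by
  induction m with
  | zero => simp
  | succ m ih =>
    rw [pow_succ', Equiv.Perm.mul_apply, ih, succ_nsmul, ← add_assoc]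
    rfl

theorem shiftPerm_pow_apply_zero (k m : ℕ) (x : Fin (k + 1) → ZMod p) :
    (shiftPerm p k ^ m) x 0 = x 0 + m := by
  rw [shiftPerm_pow_apply, Pi.add_apply, Pi.smul_apply, Pi.single_eq_same, nsmul_eq_mul, mul_one]

theorem shiftPerm_pow_p (k : ℕ) : shiftPerm p k ^ p = 1 := by
  apply Equiv.ext
  intro x
  rw [shiftPerm_pow_apply, Equiv.Perm.one_apply]
  have : p • (Pi.single 0 1 : Fin (k + 1) → ZMod p) = 0 := by
    funext i
    rw [Pi.smul_apply, nsmul_eq_mul, ZMod.natCast_self, zero_mul, Pi.zero_apply]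
  rw [this, add_zero]

end Shift

section Tower
variable {ι : Type*} [DecidableEq ι] {H : Type*} [Group H] (p : ℕ) [hp : Fact p.Prime]

theorem mem_normalizer_of_map_eq {X : Type*} [Group X] (N : Subgroup X) (s : X)
    (h : N.map (MulAut.conj s).toMonoidHom = N) : s ∈ Subgroup.normalizer (N : Set X) := by
  rw [Subgroup.mem_normalizer_iff]
  intro x
  constructor
  · intro hx
    rw [← h]
    exact ⟨x, hx, rfl⟩
  · intro hx
    rw [← h] at hx
    obtain ⟨y, hy, e⟩ := hx
    have : y = x := by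
      have e' : s * y * s⁻¹ = s * x * s⁻¹ := e
      exact mul_left_cancel (mul_right_cancel e')
    exact this ▸ hy

theorem tower (Q : Subgroup H) (hQ : IsPGroup p Q) (j : ℕ) (hj : Dsub Q j ≠ ⊥) :
    ∀ (k : ℕ) (f : (Fin k → ZMod p) ↪ ι), ∃ T : Subgroup (Wr ι H),
      T ≤ supp (Set.range f) ∧ IsPGroup p T ∧ Dsub T (j + k) ≠ ⊥ := by
  intro k
  induction k with
  | zero =>
    intro f
    refine ⟨Q.map (single (f default)), ?_, hQ.map _, ?_⟩
    · rintro _ ⟨h, _, rfl⟩
      exact single_mem_supp _ _ ⟨default, rfl⟩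
    · rw [add_zero]
      exact Dsub_map_ne_bot _ (single_injective _) Q j hj
  | succ k ih =>
    intro f
    -- the embedding of the block with first coordinate `0`
    let f₀ : (Fin k → ZMod p) ↪ ι :=
      ⟨fun x => f (Fin.cons 0 x), fun x y hxy => Fin.cons_right_injective _ (f.injective hxy)⟩
    obtain ⟨T₀, hT₀s, hT₀p, hT₀d⟩ := ih f₀
    -- the blocks
    let U : ZMod p → Set ι := fun c => {i | ∃ x : Fin (k + 1) → ZMod p, x 0 = c ∧ f x = i}
    have hUrange : ∀ c, U c ⊆ Set.range f := by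
      rintro c _ ⟨x, _, rfl⟩
      exact ⟨x, rfl⟩
    have hU0 : Set.range f₀ ⊆ U 0 := by
      rintro _ ⟨x, rfl⟩
      exact ⟨Fin.cons 0 x, rfl, rfl⟩
    have hUdisj : ∀ c c', c ≠ c' → Disjoint (U c) (U c') := by
      intro c c' hcc
      rw [Set.disjoint_left]
      rintro _ ⟨x, hx, rfl⟩ ⟨y, hy, hxy⟩
      have := f.injective hxy
      apply hcc
      rw [← hx, ← hy, this]
    -- the permutation
    let τ : Equiv.Perm ι := Equiv.Perm.viaEmbeddingHom f (shiftPerm p k)
    have hτpow : ∀ m : ℕ, ∀ x, (τ ^ m) (f x) = f ((shiftPerm p k ^ m) x) := by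
      intro m x
      show ((Equiv.Perm.viaEmbeddingHom f (shiftPerm p k)) ^ m) (f x) = _
      rw [← map_pow, Equiv.Perm.viaEmbeddingHom_apply, Equiv.Perm.viaEmbedding_apply]
    have hτfix : ∀ m : ℕ, ∀ i, i ∉ Set.range f → (τ ^ m) i = i := by
      intro m i hi
      show ((Equiv.Perm.viaEmbeddingHom f (shiftPerm p k)) ^ m) i = _
      rw [← map_pow, Equiv.Perm.viaEmbeddingHom_apply]
      exact Equiv.Perm.viaEmbedding_apply_of_notMem _ _ _ hi
    have hτU : ∀ (m : ℕ) (c : ZMod p), ∀ i ∈ U c, (τ ^ m) i ∈ U (c + m) := by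
      rintro m c _ ⟨x, hx, rfl⟩
      rw [hτpow]
      exact ⟨_, by rw [shiftPerm_pow_apply_zero, hx], rfl⟩
    have hτp : τ ^ p = 1 := by
      show (Equiv.Perm.viaEmbeddingHom f (shiftPerm p k)) ^ p = 1
      rw [← map_pow, shiftPerm_pow_p, map_one]
    let s : Wr ι H := SemidirectProduct.inr τ
    have hsp : s ^ p = 1 := by
      show (SemidirectProduct.inr τ : Wr ι H) ^ p = 1
      rw [← map_pow, hτp, map_one]
    have hspow : ∀ m : ℕ, s ^ m = SemidirectProduct.inr (τ ^ m) := by
      intro m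
      show (SemidirectProduct.inr τ : Wr ι H) ^ m = _
      rw [map_pow]
    -- the conjugates
    let N : ZMod p → Subgroup (Wr ι H) := fun c =>
      T₀.map (MulAut.conj (s ^ c.val)).toMonoidHom
    have hNsupp : ∀ c, N c ≤ supp (U c) := by
      rintro c _ ⟨w, hw, rfl⟩
      show s ^ c.val * w * (s ^ c.val)⁻¹ ∈ supp (U c)
      rw [hspow]
      refine conj_inr_mem_supp (τ ^ c.val) ?_ (supp_mono hU0 (hT₀s hw))
      intro i hi
      have := hτU c.val 0 i hi
      rwa [zero_add, ZMod.natCast_zmod_val] at this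
    have hN0 : N 0 = T₀ := by
      show T₀.map (MulAut.conj (s ^ (0 : ZMod p).val)).toMonoidHom = T₀
      rw [ZMod.val_zero, pow_zero, map_one]
      exact Subgroup.map_id T₀
    have hNp : ∀ c, IsPGroup p (N c) := fun c => hT₀p.map _
    have hNcomm : Pairwise fun c c' => ∀ x y : Wr ι H, x ∈ N c → y ∈ N c' → Commute x y := by
      intro c c' hcc x y hx hy
      exact supp_commute (hUdisj c c' hcc) (hNsupp c hx) (hNsupp c' hy)
    have hNsup : IsPGroup p (⨆ c, N c : Subgroup (Wr ι H)) := isPGroup_iSup N hNp hNcomm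
    -- `s` normalizes the product
    have hNshift : ∀ c, (N c).map (MulAut.conj s).toMonoidHom = N (c + 1) := by
      intro c
      show (T₀.map (MulAut.conj (s ^ c.val)).toMonoidHom).map (MulAut.conj s).toMonoidHom
        = T₀.map (MulAut.conj (s ^ (c + 1).val)).toMonoidHom
      rw [Subgroup.map_map]
      have : s ^ (c + 1).val = s * s ^ c.val := by
        rw [ZMod.val_add, ZMod.val_one, ← pow_succ', ← pow_eq_pow_mod _ hsp]
      rw [this, map_mul]
      rfl
    have hsnorm : s ∈ Subgroup.normalizer ((⨆ c, N c : Subgroup (Wr ι H)) : Set (Wr ι H)) := by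
      apply mem_normalizer_of_map_eq
      rw [Subgroup.map_iSup]
      simp_rw [hNshift]
      exact (Equiv.addRight (1 : ZMod p)).iSup_comp (g := N)
    have hzp : IsPGroup p (Subgroup.zpowers s) := by
      rintro ⟨x, hx⟩
      obtain ⟨m, rfl⟩ := Subgroup.mem_zpowers_iff.1 hx
      refine ⟨1, Subtype.ext ?_⟩
      show (s ^ m) ^ p ^ 1 = 1
      rw [pow_one, ← zpow_natCast, ← zpow_mul, mul_comm, zpow_mul, zpow_natCast, hsp, one_zpow]
    refine ⟨Subgroup.zpowers s ⊔ ⨆ c, N c, ?_, ?_, ?_⟩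
    · apply sup_le
      · rw [Subgroup.zpowers_le]
        exact inr_mem_supp (fun i hi => by simpa using hτfix 1 i hi)
      · apply iSup_le
        intro c
        exact le_trans (hNsupp c) (supp_mono (hUrange c))
    · exact IsPGroup.to_sup_of_normal_right' hzp hNsup (Subgroup.zpowers_le.2 hsnorm)
    · rw [← add_assoc]
      have h10 : (1 : ZMod p) ≠ 0 := one_ne_zero
      refine wreath_step (A := T₀) (A' := supp (U 1)) s ?_ ?_ ?_ ?_ ?_ (j + k) hT₀d
      · rw [← hN0]
        exact le_trans (le_iSup N 0) le_sup_right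
      · exact Subgroup.mem_sup_left (Subgroup.mem_zpowers s)
      · intro a ha b hb
        exact supp_commute (hUdisj 0 1 h10.symm) (supp_mono hU0 (hT₀s ha)) hb
      · intro a ha ha'
        exact supp_disjoint (hUdisj 0 1 h10.symm) (supp_mono hU0 (hT₀s ha)) ha'
      · intro a ha
        refine conj_inr_mem_supp τ ?_ (supp_mono hU0 (hT₀s ha))
        intro i hi
        have := hτU 1 0 i hi
        rwa [pow_one, zero_add, Nat.cast_one] at this

/-- the tower, for a coordinate set with at least `p ^ k` elements -/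
theorem exists_tower [Fintype ι] (Q : Subgroup H) (hQ : IsPGroup p Q) (j : ℕ) (hj : Dsub Q j ≠ ⊥)
    (k : ℕ) (hk : p ^ k ≤ Fintype.card ι) :
    ∃ T : Subgroup (Wr ι H), IsPGroup p T ∧ Dsub T (j + k) ≠ ⊥ := by
  have hcard : Fintype.card (Fin k → ZMod p) ≤ Fintype.card ι := by
    rw [Fintype.card_fun, ZMod.card, Fintype.card_fin]
    exact hk
  obtain ⟨f⟩ := Function.Embedding.nonempty_of_card_le hcard
  obtain ⟨T, _, h2, h3⟩ := tower p Q hQ j hj k f
  exact ⟨T, h2, h3⟩

end Tower

end Cfsg.Agent.Helper4.Wreath
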