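import Cfsg.Agent.Lib.Helper4.UniqSylC

/-!
# S4349, (C-a): the four combinatorial stubs of `notes/S4349_stubs.lean.txt`, verbatim.
-/

set_option autoImplicit false

namespace Cfsg.Agent.Lib.Helper4.UniqSyl

open Equiv Equiv.Perm

universe u

/-- (C0) the maximal cycle length is a power of two, at least 2 -/
theorem card_support_eq_pow {α : Type u} [Fintype α] [DecidableEq α] (x : Perm α)
    (hx : ∃ k : ℕ, orderOf x = 2 ^ k) (σ : Perm α) (hσ : σ ∈ x.cycleFactorsFinset) :
    ∃ j : ℕ, 1 ≤ j ∧ σ.support.card = 2 ^ j := by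
  obtain ⟨k, hk⟩ := hx
  have hcmem : σ.support.card ∈ x.cycleType := by
    rw [cycleType_def]
    exact Multiset.mem_map_of_mem _ hσ
  have hd := dvd_of_mem_cycleType hcmem
  rw [hk] at hd
  obtain ⟨j, -, hj⟩ := (Nat.dvd_prime_pow Nat.prime_two).1 hd
  refine ⟨j, ?_, hj⟩
  have h2 := two_le_of_mem_cycleType hcmem
  rcases Nat.eq_zero_or_pos j with h0 | h0
  · rw [hj, h0] at h2; norm_num at h2
  · exact h0

/-- (C2) -/
theorem invariant_pow_card {α : Type u} [Fintype α] [DecidableEq α] (x : Perm α)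
    (hx : ∃ k : ℕ, orderOf x = 2 ^ k) (h1 : Fintype.card α ≤ x.support.card + 2)
    (h2 : x.cycleType.Nodup) (σ : Perm α) (hσ : σ ∈ x.cycleFactorsFinset)
    (hmax : ∀ τ ∈ x.cycleFactorsFinset, τ.support.card ≤ σ.support.card)
    (O : Finset α) (hO : σ.support ⊆ O) (hinv : ∀ a, x a ∈ O ↔ a ∈ O) (hc : ∃ i : ℕ, O.card = 2 ^ i) :
    O = σ.support ∨ (O = Finset.univ ∧ Fintype.card α = 2 * σ.support.card) := by
  obtain ⟨a, -, hca⟩ := card_support_eq_pow x hx σ hσ
  obtain ⟨i, hi⟩ := hc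
  have hle : Fintype.card α ≤ 2 * σ.support.card := card_le_two_mul x hx ⟨h1, h2⟩ σ hσ hmax
  have hOle : O.card ≤ Fintype.card α := Finset.card_le_univ O
  have hcO : σ.support.card ≤ O.card := Finset.card_le_card hO
  have hb := two_pow_between a i (by rw [← hca, ← hi]; exact hcO)
    (by rw [← hca, ← hi]; exact hOle.trans hle)
  rcases hb with rfl | rfl
  · left
    exact (Finset.eq_of_subset_of_card_le hO (by rw [hi, hca])).symm
  · right
    have h2c : O.card = 2 * σ.support.card := by rw [hi, hca, pow_succ]; ring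
    have hα : Fintype.card α = 2 * σ.support.card := by omega
    refine ⟨?_, hα⟩
    rw [← Finset.card_eq_iff_eq_univ, h2c, hα]

/-- (C3) -/
theorem invariant_half {α : Type u} [Fintype α] [DecidableEq α] (x : Perm α)
    (σ : Perm α) (hσ : σ ∈ x.cycleFactorsFinset)
    (hα : Fintype.card α = 2 * σ.support.card)
    (H : Finset α) (hinv : ∀ a, x a ∈ H ↔ a ∈ H) (hH : H.card = σ.support.card) :
    H = σ.support ∨ H = σ.supportᶜ :=
  eq_support_or_compl x σ hσ H hinv hH hα

/-- (C6) -/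
theorem exists_fixed {α : Type u} [Fintype α] [DecidableEq α] (x : Perm α)
    (hx : ∃ k : ℕ, orderOf x = 2 ^ k) (h1 : Fintype.card α ≤ x.support.card + 2)
    (h2 : x.cycleType.Nodup) (σ : Perm α) (hσ : σ ∈ x.cycleFactorsFinset)
    (hmax : ∀ τ ∈ x.cycleFactorsFinset, τ.support.card ≤ σ.support.card)
    (hα : Fintype.card α = 2 * σ.support.card) : ∃ a, x a = a :=
  exists_fixed_of_card_eq x hx ⟨h1, h2⟩ σ hσ hmax hα

end Cfsg.Agent.Lib.Helper4.UniqSyl
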