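import Cfsg.Agent.Lib.Helper4.UniqSylC

/-!
# S4349, (C-b): `restrict_good` (C4) and `sq_full_cycle` (C5) of `notes/S4349_stubs.lean.txt`,
verbatim.
-/

set_option autoImplicit false

namespace Cfsg.Agent.Lib.Helper4.UniqSyl

open Equiv Equiv.Perm

universe u

/-- A permutation of the form `subtypeCongr y1 y2` preserves `p`, and `y1`, `y2` are its two
restrictions. -/
theorem eq_subtypePerm_of_congr {α : Type u} (y : Perm α) (p : α → Prop) [DecidablePred p]
    (y1 : Perm {a // p a}) (y2 : Perm {a // ¬ p a})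
    (h : Equiv.Perm.subtypeCongrHom p (y1, y2) = y) :
    ∃ (hp : ∀ a, p (y a) ↔ p a), y1 = y.subtypePerm hp ∧
      y2 = y.subtypePerm (p := fun a => ¬ p a) (fun a => not_congr (hp a)) := by
  have hl : ∀ a (ha : p a), y a = y1 ⟨a, ha⟩ := by
    intro a ha
    rw [← h]
    exact Equiv.Perm.subtypeCongr.left_apply y1 y2 ha
  have hr : ∀ a (ha : ¬ p a), y a = y2 ⟨a, ha⟩ := by
    intro a ha
    rw [← h]
    exact Equiv.Perm.subtypeCongr.right_apply y1 y2 ha
  have hp : ∀ a, p (y a) ↔ p a := by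
    intro a
    by_cases ha : p a
    · rw [hl a ha]
      exact ⟨fun _ => ha, fun _ => (y1 ⟨a, ha⟩).2⟩
    · rw [hr a ha]
      exact ⟨fun h' => absurd h' (y2 ⟨a, ha⟩).2, fun h' => absurd h' ha⟩
  refine ⟨hp, ?_, ?_⟩
  · ext ⟨a, ha⟩
    rw [subtypePerm_apply]
    exact (hl a ha).symm
  · ext ⟨a, ha⟩
    rw [subtypePerm_apply]
    exact (hr a ha).symm

/-- general form of (C4) -/
theorem restrict_gen {α : Type u} [Fintype α] [DecidableEq α] (x : Perm α) (p : α → Prop)
    [DecidablePred p] [Fintype {a // p a}] [Fintype {a // ¬ p a}]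
    (hx : ∃ k : ℕ, orderOf x = 2 ^ k) (h1 : Fintype.card α ≤ x.support.card + 2)
    (h2 : x.cycleType.Nodup)
    (x1 : Perm {a // p a}) (x2 : Perm {a // ¬ p a})
    (h : Equiv.Perm.subtypeCongrHom p (x1, x2) = x) :
    ((∃ k : ℕ, orderOf x1 = 2 ^ k) ∧ Fintype.card {a // p a} ≤ x1.support.card + 2 ∧
        x1.cycleType.Nodup) ∧
    ((∃ k : ℕ, orderOf x2 = 2 ^ k) ∧ Fintype.card {a // ¬ p a} ≤ x2.support.card + 2 ∧
        x2.cycleType.Nodup) := by
  obtain ⟨hp, e1, e2⟩ := eq_subtypePerm_of_congr x p x1 x2 h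
  rw [e1, e2]
  exact ⟨⟨orderOf_subtypePerm_pow2 x p hp hx, star_subtypePerm x p hp ⟨h1, h2⟩⟩,
    ⟨orderOf_subtypePerm_pow2 x (fun a => ¬ p a) _ hx,
      star_subtypePerm x (fun a => ¬ p a) _ ⟨h1, h2⟩⟩⟩

/-- (C4) the two restrictions of `x` (to the longest cycle and to the rest) satisfy (*) -/
theorem restrict_good {α : Type u} [Fintype α] [DecidableEq α] (x : Perm α)
    (hx : ∃ k : ℕ, orderOf x = 2 ^ k) (h1 : Fintype.card α ≤ x.support.card + 2)
    (h2 : x.cycleType.Nodup) (σ : Perm α) (hσ : σ ∈ x.cycleFactorsFinset)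
    (x1 : Perm {a // a ∈ σ.support}) (x2 : Perm {a // ¬ a ∈ σ.support})
    (h : Equiv.Perm.subtypeCongrHom (fun a => a ∈ σ.support) (x1, x2) = x) :
    ((∃ k : ℕ, orderOf x1 = 2 ^ k) ∧ Fintype.card {a // a ∈ σ.support} ≤ x1.support.card + 2 ∧
        x1.cycleType.Nodup) ∧
    ((∃ k : ℕ, orderOf x2 = 2 ^ k) ∧ Fintype.card {a // ¬ a ∈ σ.support} ≤ x2.support.card + 2 ∧
        x2.cycleType.Nodup) :=
  restrict_gen x (fun a => a ∈ σ.support) hx h1 h2 x1 x2 h

/-- a half swapped by `x` has exactly half the points -/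
theorem card_half (α : Type u) [Fintype α] [DecidableEq α] (x : Perm α) (H : Finset α)
    (hH : ∀ a, x a ∈ H ↔ a ∉ H) : 2 * H.card = Fintype.card α := by
  have himg : H.image x = Hᶜ := by
    ext b
    rw [Finset.mem_image, Finset.mem_compl]
    constructor
    · rintro ⟨a, ha, rfl⟩
      rw [hH]; exact not_not.2 ha
    · intro hb
      refine ⟨x⁻¹ b, ?_, ?_⟩
      · by_contra hcon
        have := (hH (x⁻¹ b)).2 hcon
        have e : x (x⁻¹ b) = b := Equiv.apply_symm_apply x b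
        rw [e] at this
        exact hb this
      · exact Equiv.apply_symm_apply x b
  have h1 : Hᶜ.card = H.card := by
    rw [← himg, Finset.card_image_of_injective _ x.injective]
  have h2 := Finset.card_add_card_compl H
  omega

/-- (C5) the square of a full cycle of even length `≥ 4` -/
theorem sq_full_cycle {α : Type u} [Fintype α] [DecidableEq α] (x : Perm α)
    (hx : ∃ k : ℕ, orderOf x = 2 ^ k) (hc : x.IsCycle) (hs : x.support = Finset.univ)
    (h4 : 4 ≤ Fintype.card α) :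
    ∃ H0 : Finset α, (∀ a, (x ^ 2) a ∈ H0 ↔ a ∈ H0) ∧ 2 * H0.card = Fintype.card α ∧
      (∀ H : Finset α, (∀ a, (x ^ 2) a ∈ H ↔ a ∈ H) → 2 * H.card = Fintype.card α →
        H = H0 ∨ H = H0ᶜ) ∧
      ∀ (y1 : Perm {a // a ∈ H0}) (y2 : Perm {a // ¬ a ∈ H0}),
        Equiv.Perm.subtypeCongrHom (fun a => a ∈ H0) (y1, y2) = x ^ 2 →
        ((∃ k : ℕ, orderOf y1 = 2 ^ k) ∧ Fintype.card {a // a ∈ H0} ≤ y1.support.card + 2 ∧
            y1.cycleType.Nodup) ∧
        ((∃ k : ℕ, orderOf y2 = 2 ^ k) ∧ Fintype.card {a // ¬ a ∈ H0} ≤ y2.support.card + 2 ∧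
            y2.cycleType.Nodup) := by
  classical
  have hmoved : ∀ a, x a ≠ a := fun a => Perm.mem_support.1 (hs ▸ Finset.mem_univ a)
  have htr : ∀ a b : α, ∃ i : ℕ, (x ^ i) a = b := fun a b =>
    (hc.sameCycle (hmoved a) (hmoved b)).exists_nat_pow_eq
  have hon : x.IsCycleOn ((Finset.univ : Finset α) : Set α) := by
    convert hc.isCycleOn using 1
    ext a
    simp [hmoved a]
  obtain ⟨k, hk⟩ := hx
  have hn : orderOf x = Fintype.card α := by
    rw [hc.orderOf, hs, Finset.card_univ]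
  have heven : 2 ∣ Fintype.card α := by
    rw [← hn, hk]
    rcases Nat.eq_zero_or_pos k with h0 | h0
    · rw [← hn, hk, h0] at h4; norm_num at h4
    · exact dvd_pow_self 2 (by omega)
  have hpar : ∀ (ω : α) (i j : ℕ), (x ^ i) ω = (x ^ j) ω → (Even i ↔ Even j) := by
    intro ω i j hij
    rw [hon.pow_apply_eq_pow_apply (Finset.mem_univ ω), Finset.card_univ] at hij
    have := Nat.ModEq.of_dvd heven hij
    rw [Nat.even_iff, Nat.even_iff]
    unfold Nat.ModEq at this
    rw [this]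
  have hne : Nonempty α := by
    rw [← Fintype.card_pos_iff]; omega
  obtain ⟨ω⟩ := hne
  set H0 : Finset α := Finset.univ.filter (fun b => ∃ i : ℕ, Even i ∧ (x ^ i) ω = b) with hH0def
  have hmem : ∀ i : ℕ, (x ^ i) ω ∈ H0 ↔ Even i := by
    intro i
    rw [hH0def, Finset.mem_filter]
    constructor
    · rintro ⟨-, j, hj, hji⟩
      exact (hpar ω j i hji).1 hj
    · intro hi
      exact ⟨Finset.mem_univ _, i, hi, rfl⟩
  have hH0 : ∀ a, x a ∈ H0 ↔ a ∉ H0 := by
    intro a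
    obtain ⟨i, rfl⟩ := htr ω a
    rw [← Perm.mul_apply, ← pow_succ', hmem, hmem, Nat.even_add_one]
  have hsqinv : ∀ a, (x ^ 2) a ∈ H0 ↔ a ∈ H0 := by
    intro a
    rw [pow_two]
    exact sq_mem_iff x H0 hH0 a
  have hcard0 : 2 * H0.card = Fintype.card α := card_half α x H0 hH0
  have hx2 : ∃ k : ℕ, orderOf (x ^ 2) = 2 ^ k := by
    have h1 : (x ^ 2) ^ (2 ^ k) = 1 := by
      rw [← pow_mul, mul_comm, pow_mul, ← hk, pow_orderOf_eq_one, one_pow]
    obtain ⟨j, -, hj⟩ := (Nat.dvd_prime_pow Nat.prime_two).1 (orderOf_dvd_of_pow_eq_one h1)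
    exact ⟨j, hj⟩
  refine ⟨H0, hsqinv, hcard0, ?_, ?_⟩
  · intro H hH hHc
    have hHpow : ∀ (i : ℕ) (a : α), ((x ^ 2) ^ i) a ∈ H ↔ a ∈ H := pow_mem_iff (x ^ 2) H hH
    by_cases hex : ∃ a, a ∈ H ∧ a ∈ H0
    · obtain ⟨a, haH, ha0⟩ := hex
      left
      symm
      apply Finset.eq_of_subset_of_card_le
      · intro b hb
        obtain ⟨i, hi⟩ := sq_transitive_on x htr H0 hH0 a ha0 b hb
        rw [← hi, ← pow_two, hHpow]
        exact haH
      · omega
    · right
      push_neg at hex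
      by_cases hex2 : ∃ a, a ∈ H ∧ a ∉ H0
      · obtain ⟨a, haH, ha0⟩ := hex2
        symm
        apply Finset.eq_of_subset_of_card_le
        · intro b hb
          obtain ⟨i, hi⟩ := sq_transitive_on x htr H0ᶜ (compl_swap x H0 hH0) a
            (Finset.mem_compl.2 ha0) b hb
          rw [← hi, ← pow_two, hHpow]
          exact haH
        · have := Finset.card_add_card_compl H0
          omega
      · push_neg at hex2
        have : H = ∅ := by
          ext a
          simp only [Finset.notMem_empty, iff_false]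
          intro ha
          exact hex a ha (hex2 a ha)
        rw [this, Finset.card_empty] at hHc
        omega
  · intro y1 y2 h
    obtain ⟨hp, e1, e2⟩ := eq_subtypePerm_of_congr (x ^ 2) (fun a => a ∈ H0) y1 y2 h
    refine ⟨⟨?_, ?_⟩, ⟨?_, ?_⟩⟩
    · rw [e1]
      exact orderOf_subtypePerm_pow2 (x ^ 2) (fun a => a ∈ H0) hp hx2
    · apply star_of_transitive
      rintro ⟨a, ha⟩ ⟨b, hb⟩
      obtain ⟨i, hi⟩ := sq_transitive_on x htr H0 hH0 a ha b hb
      refine ⟨i, ?_⟩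
      rw [e1, subtypePerm_pow]
      apply Subtype.ext
      change ((x ^ 2) ^ i) a = b
      rw [pow_two]
      exact hi
    · rw [e2]
      exact orderOf_subtypePerm_pow2 (x ^ 2) (fun a => ¬ a ∈ H0) _ hx2
    · apply star_of_transitive
      rintro ⟨a, ha⟩ ⟨b, hb⟩
      obtain ⟨i, hi⟩ := sq_transitive_on x htr H0ᶜ (compl_swap x H0 hH0) a
        (Finset.mem_compl.2 ha) b (Finset.mem_compl.2 hb)
      refine ⟨i, ?_⟩
      rw [e2, subtypePerm_pow]
      apply Subtype.ext
      change ((x ^ 2) ^ i) a = b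
      rw [pow_two]
      exact hi

end Cfsg.Agent.Lib.Helper4.UniqSyl
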