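import Mathlib
import Cfsg.Prelude.Def_SylowChains
import Cfsg.Agent.S0058
import Cfsg.Agent.S1965
import Cfsg.Agent.S1961

/-!
# Chain-connectedness of Sylow subgroups and generation by local normalizers

`Gam R` : the subgroup generated by the normalizers of the nontrivial subgroups of the Sylow subgroup `R`.
`gam_eq_top_of_chainConnected` : if the Sylow `p`-subgroups are chain-connected (and `R ≠ 1`) then `Gam R = ⊤`.
`dvd_card_inf_of_gam_ne_top` : if `Gam R ≠ ⊤`, the normal subgroups of order divisible by `p` are closed under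
intersection.
-/

set_option autoImplicit false
set_option linter.style.haveILetI false
set_option linter.unusedSectionVars false
set_option linter.unusedVariables false

namespace Cfsg.Agent.Lib.Helper4.SylChain

open Cfsg Cfsg.Agent.Lib.Lead.Conj Cfsg.Agent.S1963 Cfsg.Agent.S1965 Cfsg.Agent.S1961
open Cfsg.Agent.Lib.Helper7 (IsSylowIn exists_isSylowIn_ge IsSylowIn.conj IsSylowIn.isPGroup IsSylowIn.inf_normal IsSylowIn.of_sylow_top IsSylowIn.exists_sylow card_subgroupOf_of_le)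

variable {Q : Type*} [Group Q] [Finite Q] {p : ℕ} [hp : Fact p.Prime]

/-- the subgroup generated by the normalizers of the nontrivial subgroups of `R` -/
def Gam (R : Sylow p Q) : Subgroup Q :=
  ⨆ D : {D : Subgroup Q // D ≤ (R : Subgroup Q) ∧ D ≠ ⊥}, Subgroup.normalizer ((D : Subgroup Q) : Set Q)

theorem normalizer_le_gam (R : Sylow p Q) {D : Subgroup Q} (hDR : D ≤ (R : Subgroup Q)) (hD : D ≠ ⊥) :
    Subgroup.normalizer (D : Set Q) ≤ Gam R :=
  le_iSup (fun D : {D : Subgroup Q // D ≤ (R : Subgroup Q) ∧ D ≠ ⊥} =>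
    Subgroup.normalizer ((D : Subgroup Q) : Set Q)) ⟨D, hDR, hD⟩

theorem coe_smul_sylow (g : Q) (S : Sylow p Q) :
    ((g • S : Sylow p Q) : Subgroup Q) = cj g (S : Subgroup Q) := by
  rw [Sylow.coe_subgroup_smul]
  rfl

theorem mem_smul_sylow {g x : Q} {S : Sylow p Q} :
    x ∈ ((g • S : Sylow p Q) : Subgroup Q) ↔ g⁻¹ * x * g ∈ (S : Subgroup Q) := by
  rw [coe_smul_sylow, mem_cj]

theorem sylow_eq_of_le {S T : Sylow p Q} (h : (S : Subgroup Q) ≤ T) : T = S := by
  apply Sylow.ext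
  symm
  apply Subgroup.eq_of_le_of_card_ge h
  rw [S.card_eq_multiplicity, T.card_eq_multiplicity]

theorem card_sylow_eq (S T : Sylow p Q) : Nat.card ↥(S : Subgroup Q) = Nat.card ↥(T : Subgroup Q) := by
  rw [S.card_eq_multiplicity, T.card_eq_multiplicity]

/-- normalizers of nontrivial subgroups of `γ • R`, `γ ∈ Gam R`, lie in `Gam R` -/
theorem normalizer_le_gam' (R : Sylow p Q) {γ : Q} (hγ : γ ∈ Gam R) {D : Subgroup Q}
    (hDR : D ≤ ((γ • R : Sylow p Q) : Subgroup Q)) (hD : D ≠ ⊥) :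
    Subgroup.normalizer (D : Set Q) ≤ Gam R := by
  intro x hx
  have h1 : cj γ⁻¹ D ≤ (R : Subgroup Q) := by
    intro y hy
    rw [mem_cj, inv_inv] at hy
    have := hDR hy
    rw [mem_smul_sylow] at this
    have e : γ⁻¹ * (γ * y * γ⁻¹) * γ = y := by group
    rwa [e] at this
  have h2 : cj γ⁻¹ D ≠ ⊥ := by
    intro h
    apply hD
    have : Nat.card ↥(cj γ⁻¹ D) = 1 := by rw [h]; simp
    rw [card_cj] at this
    exact Subgroup.card_eq_one.mp this
  have h3 : γ⁻¹ * x * γ⁻¹⁻¹ ∈ Subgroup.normalizer ((cj γ⁻¹ D : Subgroup Q) : Set Q) :=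
    conj_mem_normalizer_cj hx
  have h4 := normalizer_le_gam R h1 h2 h3
  have e : x = γ * (γ⁻¹ * x * γ⁻¹⁻¹) * γ⁻¹ := by group
  rw [e]
  exact (Gam R).mul_mem ((Gam R).mul_mem hγ h4) ((Gam R).inv_mem hγ)

theorem lemmaL (R : Sylow p Q) : ∀ (d : ℕ) (γ₀ : Q), γ₀ ∈ Gam R → ∀ T : Sylow p Q,
    Nat.card ↥(R : Subgroup Q) - Nat.card ↥(((γ₀ • R : Sylow p Q) : Subgroup Q) ⊓ T) = d →
    ((γ₀ • R : Sylow p Q) : Subgroup Q) ⊓ T ≠ ⊥ → ∃ γ ∈ Gam R, T = γ • R := by
  intro d
  induction d using Nat.strong_induction_on with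
  | _ d ih =>
  intro γ₀ hγ₀ T hd hne
  set S' : Sylow p Q := γ₀ • R with hS'
  set D := (S' : Subgroup Q) ⊓ T with hD
  have hcS' : Nat.card ↥(S' : Subgroup Q) = Nat.card ↥(R : Subgroup Q) := card_sylow_eq _ _
  by_cases hDS : D = S'
  · have hle : (S' : Subgroup Q) ≤ T := by rw [← hDS]; exact inf_le_right
    exact ⟨γ₀, hγ₀, sylow_eq_of_le hle⟩
  · have hDT : D ≠ T := by
      intro h
      apply hDS
      have hle : (T : Subgroup Q) ≤ S' := by rw [← h]; exact inf_le_left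
      have := sylow_eq_of_le hle
      rw [hD, this, inf_idem]
    have h1 := exists_mem_normalizer_not_mem S' (inf_le_left : D ≤ S') hDS
    have h2 := exists_mem_normalizer_not_mem T (inf_le_right : D ≤ T) hDT
    set L := Subgroup.normalizer (D : Set Q) with hL
    have hLΓ : L ≤ Gam R := normalizer_le_gam' R hγ₀ inf_le_left hne
    obtain ⟨Q1, hQ1, hle1⟩ := exists_isSylowIn_ge (p := p) (Q := (S' : Subgroup Q) ⊓ L) (H := L)
      (S'.isPGroup'.to_le inf_le_left) inf_le_right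
    obtain ⟨Q2, hQ2, hle2⟩ := exists_isSylowIn_ge (p := p) (Q := (T : Subgroup Q) ⊓ L) (H := L)
      (T.isPGroup'.to_le inf_le_left) inf_le_right
    obtain ⟨l, hl, hconj⟩ := hQ1.conj hQ2
    obtain ⟨S2, hS2⟩ := hQ1.isPGroup.exists_le_sylow
    have hcard1 : Nat.card ↥D < Nat.card ↥((S' : Subgroup Q) ⊓ S2) := by
      have a1 : Nat.card ↥D < Nat.card ↥((S' : Subgroup Q) ⊓ L) :=
        Set.ncard_lt_ncard (SetLike.coe_ssubset_coe.mpr h1) (Set.toFinite _)
      have a2 : Nat.card ↥((S' : Subgroup Q) ⊓ L) ≤ Nat.card ↥((S' : Subgroup Q) ⊓ S2) :=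
        Subgroup.card_le_of_le (le_inf inf_le_left (hle1.trans hS2))
      omega
    have hle' : Nat.card ↥((S' : Subgroup Q) ⊓ S2) ≤ Nat.card ↥(R : Subgroup Q) := by
      rw [← hcS']; exact Subgroup.card_le_of_le inf_le_left
    have hDpos : 0 < Nat.card ↥D := Nat.card_pos
    have hne2 : (S' : Subgroup Q) ⊓ S2 ≠ ⊥ := by
      intro h
      rw [h] at hcard1
      simp at hcard1
      omega
    obtain ⟨γ₁, hγ₁, hS2eq⟩ := ih (Nat.card ↥(R : Subgroup Q) - Nat.card ↥((S' : Subgroup Q) ⊓ S2))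
      (by omega) γ₀ hγ₀ S2 rfl hne2
    -- the second step
    have hlγ : l * γ₁ ∈ Gam R := (Gam R).mul_mem (hLΓ hl) hγ₁
    have hS3 : ((l * γ₁) • R : Sylow p Q) = l • S2 := by rw [mul_smul, ← hS2eq]
    have hQ2le : Q2 ≤ (((l * γ₁) • R : Sylow p Q) : Subgroup Q) := by
      rw [hS3, coe_smul_sylow, hconj]
      exact cj_mono l hS2
    have hcard2 : Nat.card ↥D < Nat.card ↥((((l * γ₁) • R : Sylow p Q) : Subgroup Q) ⊓ T) := by
      have a1 : Nat.card ↥D < Nat.card ↥((T : Subgroup Q) ⊓ L) :=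
        Set.ncard_lt_ncard (SetLike.coe_ssubset_coe.mpr h2) (Set.toFinite _)
      have a2 : Nat.card ↥((T : Subgroup Q) ⊓ L) ≤
          Nat.card ↥((((l * γ₁) • R : Sylow p Q) : Subgroup Q) ⊓ T) :=
        Subgroup.card_le_of_le (le_inf (hle2.trans hQ2le) inf_le_left)
      omega
    have hle'' : Nat.card ↥((((l * γ₁) • R : Sylow p Q) : Subgroup Q) ⊓ T) ≤ Nat.card ↥(R : Subgroup Q) := by
      rw [card_sylow_eq R ((l * γ₁) • R)]; exact Subgroup.card_le_of_le inf_le_left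
    have hne3 : (((l * γ₁) • R : Sylow p Q) : Subgroup Q) ⊓ T ≠ ⊥ := by
      intro h
      rw [h] at hcard2
      simp at hcard2
      omega
    exact ih (Nat.card ↥(R : Subgroup Q) - Nat.card ↥((((l * γ₁) • R : Sylow p Q) : Subgroup Q) ⊓ T))
      (by omega) (l * γ₁) hlγ T rfl hne3

/-- chain-connected Sylow subgroups: the group is generated by the normalizers of the nontrivial subgroups of `R` -/
theorem gam_eq_top_of_chainConnected (R : Sylow p Q) (hR : (R : Subgroup Q) ≠ ⊥)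
    (h : Cfsg.IsSylowChainConnected p Q) : Gam R = ⊤ := by
  rw [eq_top_iff]
  intro g _
  obtain ⟨n, c, hc0, hcn, -, hstep⟩ := h R (g • R)
  have key : ∀ i : Fin (n + 1), ∃ γ ∈ Gam R, c i = γ • R := by
    intro i
    induction i using Fin.induction with
    | zero => exact ⟨1, one_mem _, by rw [hc0, one_smul]⟩
    | succ i ih =>
      obtain ⟨γ, hγ, hci⟩ := ih
      have h1 := (hstep i).2
      rw [hci] at h1
      exact lemmaL R _ γ hγ (c i.succ) rfl h1
  obtain ⟨γ, hγ, hlast⟩ := key (Fin.last n)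
  rw [hcn] at hlast
  have h2 : (γ⁻¹ * g) • R = R := by rw [mul_smul, hlast, inv_smul_smul]
  have h3 : γ⁻¹ * g ∈ Subgroup.normalizer ((R : Subgroup Q) : Set Q) := Sylow.smul_eq_iff_mem_normalizer.mp h2
  have h4 := normalizer_le_gam R le_rfl hR h3
  have e : g = γ * (γ⁻¹ * g) := by group
  rw [e]
  exact (Gam R).mul_mem hγ h4

end Cfsg.Agent.Lib.Helper4.SylChain
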