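import Mathlib
import Cfsg.Agent.Lib.Lead.AlperinGoldschmidt
import Cfsg.Agent.Lib.Helper4.SylChain

/-!
# Strong Alperin–Goldschmidt: ambient definitions and their transport under `N_G(P)`

`GammaA P H` : the subgroup of `N_G(H)` generated by the `N_G(H) ∩ N_G(D)`, `H < D ≤ N_P(H)`.
`YSet p H`   : the subgroups `H ≤ Y ≤ N_G(H)`, normal in `N_G(H)`, with `p ∣ |Y : H|`.
`XA p H`     : the intersection of `YSet p H`.
`OpA p X`    : the subgroup generated by the `p'`-elements of `X` (`O^p(X)` viewed in `G`).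
`EOK P H x`  : `(H, x)` is an admissible "essential" step.
-/

set_option autoImplicit false
set_option linter.style.haveILetI false
set_option linter.unusedSectionVars false
set_option linter.unusedVariables false

namespace Cfsg.Agent.Lib.Helper4.AGStrong

open Cfsg Cfsg.Agent.Lib.Lead.Conj Cfsg.Agent.Lib.Lead.ConjFamily Cfsg.Agent.S1963 Cfsg.Agent.S1965
  Cfsg.Agent.S1961 Cfsg.Agent.S1959 Cfsg.Agent.Lib.Lead.AlperinGoldschmidt
open Cfsg.Agent.Lib.Helper7 (IsSylowIn exists_isSylowIn_ge IsSylowIn.conj IsSylowIn.isPGroup IsSylowIn.inf_normal IsSylowIn.of_sylow_top IsSylowIn.exists_sylow card_subgroupOf_of_le)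

universe u
variable {G : Type u} [Group G] [Finite G] {p : ℕ} [hp : Fact p.Prime] (P : Sylow p G)

/-- the subgroup of `N_G(H)` generated by the `N_G(H) ∩ N_G(D)`, `H < D ≤ N_P(H)` -/
def GammaA (H : Subgroup G) : Subgroup G :=
  ⨆ D : {D : Subgroup G // H < D ∧ D ≤ (P : Subgroup G) ⊓ Subgroup.normalizer (H : Set G)},
    Subgroup.normalizer (H : Set G) ⊓ Subgroup.normalizer ((D : Subgroup G) : Set G)

theorem gammaA_le (H : Subgroup G) : GammaA P H ≤ Subgroup.normalizer (H : Set G) :=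
  iSup_le fun _ => inf_le_left

theorem le_gammaA {H D : Subgroup G} (h1 : H < D)
    (h2 : D ≤ (P : Subgroup G) ⊓ Subgroup.normalizer (H : Set G)) :
    Subgroup.normalizer (H : Set G) ⊓ Subgroup.normalizer (D : Set G) ≤ GammaA P H :=
  le_iSup (fun D : {D : Subgroup G // H < D ∧ D ≤ (P : Subgroup G) ⊓ Subgroup.normalizer (H : Set G)} =>
    Subgroup.normalizer (H : Set G) ⊓ Subgroup.normalizer ((D : Subgroup G) : Set G)) ⟨D, h1, h2⟩

theorem self_le_gammaA {H : Subgroup G} (hHP : H ≤ (P : Subgroup G)) (hne : H ≠ (P : Subgroup G)) :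
    H ≤ GammaA P H := by
  have h := exists_mem_normalizer_not_mem P hHP hne
  refine le_trans ?_ (le_gammaA P h le_rfl)
  exact le_inf Subgroup.le_normalizer (h.le.trans Subgroup.le_normalizer)

/-- the candidates for `X` -/
def YSet (p : ℕ) (H : Subgroup G) : Set (Subgroup G) :=
  {Y | H ≤ Y ∧ Y ≤ Subgroup.normalizer (H : Set G) ∧
    Subgroup.normalizer (H : Set G) ≤ Subgroup.normalizer (Y : Set G) ∧ p ∣ H.relIndex Y}

/-- the least candidate -/
def XA (p : ℕ) (H : Subgroup G) : Subgroup G := sInf (YSet p H)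

/-- `O^p(X)` in the ambient group -/
def OpA (p : ℕ) (X : Subgroup G) : Subgroup G :=
  Subgroup.closure {g : G | g ∈ X ∧ (orderOf g).Coprime p}

omit [Finite G] hp in
theorem opA_le (X : Subgroup G) : OpA p X ≤ X := by
  unfold OpA
  rw [Subgroup.closure_le]
  intro g hg
  exact hg.1

omit [Finite G] hp in
theorem opA_mono {X Y : Subgroup G} (h : X ≤ Y) : OpA p X ≤ OpA p Y :=
  Subgroup.closure_mono fun g hg => ⟨h hg.1, hg.2⟩

omit [Finite G] hp in
theorem opA_eq_map (X : Subgroup G) : OpA p X = (Cfsg.pResidual p ↥X).map X.subtype := by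
  unfold OpA Cfsg.pResidual
  rw [MonoidHom.map_closure]
  congr 1
  ext g
  constructor
  · rintro ⟨hgX, hg⟩
    refine ⟨⟨g, hgX⟩, ?_, rfl⟩
    show (orderOf (⟨g, hgX⟩ : ↥X)).Coprime p
    rw [← Subgroup.orderOf_coe]
    exact hg
  · rintro ⟨y, hy, rfl⟩
    refine ⟨y.2, ?_⟩
    have hy' : (orderOf y).Coprime p := hy
    rw [← Subgroup.orderOf_coe] at hy'
    exact hy'

omit [Finite G] hp in
theorem cj_opA_le (y : G) (X : Subgroup G) : cj y (OpA p X) ≤ OpA p (cj y X) := by
  unfold OpA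
  show (Subgroup.closure _).map _ ≤ _
  rw [MonoidHom.map_closure, Subgroup.closure_le]
  rintro _ ⟨g, ⟨hgX, hg⟩, rfl⟩
  apply Subgroup.subset_closure
  refine ⟨conj_mem_map_conj X y hgX, ?_⟩
  show (orderOf (y * g * y⁻¹)).Coprime p
  rw [orderOf_conj]
  exact hg

omit [Finite G] hp in
theorem relIndex_cj (y : G) (H Y : Subgroup G) : (cj y H).relIndex (cj y Y) = H.relIndex Y :=
  Subgroup.relIndex_map_map_of_injective H Y (MulAut.conj y).injective

omit [Finite G] hp in
theorem cj_inv_cj (y : G) (H : Subgroup G) : cj y⁻¹ (cj y H) = H := by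
  rw [cj_cj, inv_mul_cancel, cj_one]

omit [Finite G] hp in
theorem cj_cj_inv (y : G) (H : Subgroup G) : cj y (cj y⁻¹ H) = H := by
  rw [cj_cj, mul_inv_cancel, cj_one]

omit [Finite G] hp in
theorem cj_le_iff (y : G) (H K : Subgroup G) : cj y H ≤ K ↔ H ≤ cj y⁻¹ K := by
  constructor
  · intro h
    have := cj_mono y⁻¹ h
    rwa [cj_inv_cj] at this
  · intro h
    have := cj_mono y h
    rwa [cj_cj_inv] at this

omit [Finite G] hp in
theorem cj_injective (y : G) {H K : Subgroup G} (h : cj y H = cj y K) : H = K := by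
  have := congrArg (cj y⁻¹) h
  rwa [cj_inv_cj, cj_inv_cj] at this

omit [Finite G] hp in
theorem ySet_cj (y : G) {H Y : Subgroup G} (hY : Y ∈ YSet p H) : cj y Y ∈ YSet p (cj y H) := by
  obtain ⟨h1, h2, h3, h4⟩ := hY
  refine ⟨cj_mono y h1, ?_, ?_, ?_⟩
  · rw [← cj_normalizer]; exact cj_mono y h2
  · rw [← cj_normalizer, ← cj_normalizer]; exact cj_mono y h3
  · rw [relIndex_cj]; exact h4

omit [Finite G] hp in
theorem cj_xA_le (y : G) (H : Subgroup G) : cj y (XA p H) ≤ XA p (cj y H) := by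
  unfold XA
  apply le_sInf
  intro Y' hY'
  rw [cj_le_iff]
  apply sInf_le
  have := ySet_cj (p := p) y⁻¹ hY'
  rwa [cj_inv_cj] at this

/-- transport of the step condition -/
theorem conj_mem_opA_xA (y : G) {H : Subgroup G} {z : G} (hz : z ∈ OpA p (XA p H)) :
    y * z * y⁻¹ ∈ OpA p (XA p (cj y H)) := by
  have h1 : y * z * y⁻¹ ∈ cj y (OpA p (XA p H)) := conj_mem_map_conj _ y hz
  exact opA_mono (cj_xA_le y H) (cj_opA_le y _ h1)

omit [Finite G] in
theorem cj_P {y : G} (hy : y ∈ Subgroup.normalizer ((P : Subgroup G) : Set G)) :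
    cj y (P : Subgroup G) = (P : Subgroup G) := cj_eq_of_mem_normalizer hy

/-- transport of `GammaA` under `N_G(P)` -/
theorem cj_gammaA_le {y : G} (hy : y ∈ Subgroup.normalizer ((P : Subgroup G) : Set G)) (H : Subgroup G) :
    cj y (GammaA P H) ≤ GammaA P (cj y H) := by
  unfold GammaA
  unfold cj
  rw [Subgroup.map_iSup]
  apply iSup_le
  rintro ⟨D, hD1, hD2⟩
  have h1 : cj y H < cj y D := by
    refine lt_of_le_of_ne (cj_mono y hD1.le) ?_
    intro h
    exact hD1.ne (cj_injective y h)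
  have h2 : cj y D ≤ (P : Subgroup G) ⊓ Subgroup.normalizer ((cj y H : Subgroup G) : Set G) := by
    have := cj_mono y hD2
    rwa [cj_inf, cj_P P hy, cj_normalizer] at this
  refine le_trans ?_ (le_gammaA P h1 h2)
  show cj y (Subgroup.normalizer (H : Set G) ⊓ Subgroup.normalizer (D : Set G)) ≤ _
  rw [cj_inf, cj_normalizer, cj_normalizer]

theorem gammaA_cj_ne {y : G} (hy : y ∈ Subgroup.normalizer ((P : Subgroup G) : Set G)) {H : Subgroup G}
    (h : GammaA P H ≠ Subgroup.normalizer (H : Set G)) :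
    GammaA P (cj y H) ≠ Subgroup.normalizer ((cj y H : Subgroup G) : Set G) := by
  intro heq
  apply h
  apply le_antisymm (gammaA_le P H)
  have hy' : y⁻¹ ∈ Subgroup.normalizer ((P : Subgroup G) : Set G) := Subgroup.inv_mem _ hy
  have h1 := cj_gammaA_le P hy' (cj y H)
  rw [cj_inv_cj, heq, ← cj_normalizer, cj_inv_cj] at h1
  exact h1

/-- transport of `PModC` -/
theorem pModC_cj (y : G) {U L : Subgroup G} (h : PModC p U L) : PModC p (cj y U) (cj y L) := by
  obtain ⟨h1, h2, h3⟩ := h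
  refine ⟨?_, ?_, ?_⟩
  · rw [← cj_normalizer]; exact cj_mono y h1
  · intro n hn
    rw [← cj_normalizer, mem_cj] at hn
    have := h2 _ hn
    have e : cj n (cj y L) = cj y (cj (y⁻¹ * n * y) L) := by
      rw [cj_cj, cj_cj]
      congr 1
      group
    rw [e, this]
  · intro k hk
    rw [mem_cj] at hk
    obtain ⟨j, hj⟩ := h3 _ hk
    refine ⟨j, ?_⟩
    rw [Subgroup.mem_centralizer_iff] at hj ⊢
    intro u hu
    have hu' : y⁻¹ * u * y ∈ U := mem_cj.1 hu
    have := hj _ hu'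
    have e1 : (y⁻¹ * k * y) ^ p ^ j = y⁻¹ * k ^ p ^ j * y := by
      have := conj_pow (a := y⁻¹) (b := k) (i := p ^ j)
      rw [inv_inv] at this
      exact this
    rw [e1] at this
    calc u * k ^ p ^ j = y * ((y⁻¹ * u * y) * (y⁻¹ * k ^ p ^ j * y)) * y⁻¹ := by group
      _ = y * ((y⁻¹ * k ^ p ^ j * y) * (y⁻¹ * u * y)) * y⁻¹ := by rw [this]
      _ = k ^ p ^ j * u := by group

/-- transport of `CR` under `N_G(P)` -/
theorem cR_cj {y : G} (hy : y ∈ Subgroup.normalizer ((P : Subgroup G) : Set G)) {U : Subgroup G}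
    (hU : CR P U) : CR P (cj y U) := by
  obtain ⟨⟨hUP, hidx⟩, hrad⟩ := hU
  refine ⟨⟨?_, ?_⟩, ?_⟩
  · have := cj_mono y hUP
    rwa [cj_P P hy] at this
  · have e : NS P (cj y U) = cj y (NS P U) := by
      show (P : Subgroup G) ⊓ _ = cj y ((P : Subgroup G) ⊓ _)
      rw [cj_inf, cj_P P hy, cj_normalizer]
    rw [e, ← cj_normalizer, relIndex_cj]
    exact hidx
  · intro L hL
    have h1 := pModC_cj (p := p) y⁻¹ hL
    rw [cj_inv_cj] at h1
    have h2 := hrad _ h1
    have h3 := cj_mono y h2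
    rwa [cj_inf, cj_P P hy, cj_cj_inv] at h3

/-- an admissible essential step -/
def EOK (H : Subgroup G) (x : G) : Prop :=
  H ≠ (P : Subgroup G) ∧ GammaA P H ≠ Subgroup.normalizer (H : Set G) ∧ x ∈ OpA p (XA p H)

theorem eOK_cj {y : G} (hy : y ∈ Subgroup.normalizer ((P : Subgroup G) : Set G)) {H : Subgroup G} {x : G}
    (h : EOK P H x) : EOK P (cj y H) (y * x * y⁻¹) := by
  obtain ⟨h1, h2, h3⟩ := h
  refine ⟨?_, gammaA_cj_ne P hy h2, conj_mem_opA_xA y h3⟩
  intro heq
  apply h1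
  rw [← cj_P P hy] at heq
  exact cj_injective y heq

end Cfsg.Agent.Lib.Helper4.AGStrong
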