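import Mathlib
import Cfsg.Agent.Lib.Helper4.SylChain
import Cfsg.Agent.Lib.Lead.AlperinGoldschmidt

/-!
# Normal subgroups of order divisible by `p` in a `p`-isolated group

`dvd_card_inf_of_gam_ne_top` : if the normalizers of the nontrivial subgroups of a Sylow `p`-subgroup `R` do not
generate the group, then the intersection of two normal subgroups of order divisible by `p` has order divisible by `p`.
-/

set_option autoImplicit false
set_option linter.style.haveILetI false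
set_option linter.unusedSectionVars false
set_option linter.unusedVariables false

namespace Cfsg.Agent.Lib.Helper4.SylChain

open Cfsg Cfsg.Agent.Lib.Lead.Conj Cfsg.Agent.S1963 Cfsg.Agent.S1965 Cfsg.Agent.S1961
open Cfsg.Agent.Lib.Helper7 (IsSylowIn exists_isSylowIn_ge IsSylowIn.conj IsSylowIn.isPGroup IsSylowIn.inf_normal IsSylowIn.of_sylow_top IsSylowIn.exists_sylow card_subgroupOf_of_le)
open Cfsg.Agent.Lib.Lead.AlperinGoldschmidt (frattini_normal)
open Cfsg.Agent.Lib.Lead.AlperinTame (isSylowIn_of_le)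

variable {Q : Type*} [Group Q] [Finite Q] {p : ℕ} [hp : Fact p.Prime]

omit [Finite Q] hp in
theorem centralizer_le_normalizer_zpowers [Finite Q] (a : Q) :
    Subgroup.centralizer ({a} : Set Q) ≤ Subgroup.normalizer ((Subgroup.zpowers a : Subgroup Q) : Set Q) := by
  intro g hg
  apply mem_normalizer_of_conj_mem
  rintro _ ⟨k, rfl⟩
  have h1 : a * g = g * a := Subgroup.mem_centralizer_iff.1 hg a rfl
  have h2 : Commute g a := h1.symm
  have h3 : g * a ^ k * g⁻¹ = a ^ k := by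
    have := (h2.zpow_right k).eq
    rw [this]; group
  rw [h3]
  exact ⟨k, rfl⟩

/-- a group generated by two elements of order `p`, the second not a power of the first, is not cyclic -/
theorem not_isCyclic_of_two {E : Type*} [Group E] [Finite E] {a b : E} (ha : a ^ p = 1) (hb : b ^ p = 1)
    (hcard : Nat.card ↥(Subgroup.zpowers a) = p) (hba : b ∉ Subgroup.zpowers a) : ¬ IsCyclic E := by
  classical
  intro hcyc
  haveI : Fintype E := Fintype.ofFinite E
  have h1 := IsCyclic.card_pow_eq_one_le (α := E) hp.out.pos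
  set F : Finset E := Finset.univ.filter (fun x : E => x ^ p = 1) with hF
  have hsub : insert b ((Subgroup.zpowers a : Subgroup E) : Set E) ⊆ (F : Set E) := by
    intro x hx
    rw [Finset.mem_coe, hF, Finset.mem_filter]
    refine ⟨Finset.mem_univ _, ?_⟩
    rcases hx with rfl | hx
    · exact hb
    · obtain ⟨k, rfl⟩ := hx
      rw [← zpow_natCast, ← zpow_mul, mul_comm, zpow_mul, zpow_natCast, ha, one_zpow]
  have h2 := Set.ncard_le_ncard hsub (Finset.finite_toSet F)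
  rw [Set.ncard_insert_of_notMem hba (Set.toFinite _), Set.ncard_coe_finset] at h2
  have h3 : ((Subgroup.zpowers a : Subgroup E) : Set E).ncard = p := hcard
  rw [h3] at h2
  omega

theorem dvd_card_inf_of_gam_ne_top (R : Sylow p Q) (hG : Gam R ≠ ⊤)
    (Y₁ Y₂ : Subgroup Q) (hn₁ : Y₁.Normal) (hn₂ : Y₂.Normal)
    (h₁ : p ∣ Nat.card ↥Y₁) (h₂ : p ∣ Nat.card ↥Y₂) : p ∣ Nat.card ↥(Y₁ ⊓ Y₂) := by
  by_contra hnd
  apply hG
  set Z := Y₁ ⊓ Y₂ with hZ
  have hRtop : IsSylowIn p (R : Subgroup Q) ⊤ := IsSylowIn.of_sylow_top R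
  have hS : ∀ Y : Subgroup Q, Y.Normal → IsSylowIn p ((R : Subgroup Q) ⊓ Y) Y := by
    intro Y hY
    apply hRtop.inf_normal Y le_top
    rw [Subgroup.normalizer_eq_top]
  -- elements of order `p`
  have hex : ∀ Y : Subgroup Q, Y.Normal → p ∣ Nat.card ↥Y →
      ∃ a : Q, a ∈ (R : Subgroup Q) ∧ a ∈ Y ∧ orderOf a = p := by
    intro Y hY hdvd
    have h := (hS Y hY).2
    have hk : 0 < (Nat.card ↥Y).factorization p :=
      (hp.out.factorization_pos_of_dvd Nat.card_pos.ne' hdvd)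
    have hdvd' : p ∣ Nat.card ↥((R : Subgroup Q) ⊓ Y) := by
      rw [h]; exact dvd_pow_self p hk.ne'
    obtain ⟨a, ha⟩ := exists_prime_orderOf_dvd_card' p hdvd'
    refine ⟨(a : Q), a.2.1, a.2.2, ?_⟩
    rw [Subgroup.orderOf_coe]; exact ha
  obtain ⟨a₁, ha₁R, ha₁Y, ha₁o⟩ := hex Y₁ hn₁ h₁
  obtain ⟨a₂, ha₂R, ha₂Y, ha₂o⟩ := hex Y₂ hn₂ h₂
  have ha₁ne : a₁ ≠ 1 := by
    intro h; rw [h, orderOf_one] at ha₁o; exact hp.out.one_lt.ne ha₁o
  have ha₂ne : a₂ ≠ 1 := by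
    intro h; rw [h, orderOf_one] at ha₂o; exact hp.out.one_lt.ne ha₂o
  -- `R ∩ Z = 1`
  have hRZ : (R : Subgroup Q) ⊓ Z = ⊥ := by
    have hpg : IsPGroup p ↥((R : Subgroup Q) ⊓ Z) := R.isPGroup'.to_le inf_le_left
    obtain ⟨k, hk⟩ := IsPGroup.iff_card.mp hpg
    have hdvd : Nat.card ↥((R : Subgroup Q) ⊓ Z) ∣ Nat.card ↥Z := Subgroup.card_dvd_of_le inf_le_right
    rcases Nat.eq_zero_or_pos k with h0 | h0
    · rw [h0, pow_zero] at hk
      exact Subgroup.card_eq_one.mp hk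
    · exfalso
      apply hnd
      refine dvd_trans ?_ hdvd
      rw [hk]; exact dvd_pow_self p h0.ne'
  have hmemRZ : ∀ x : Q, x ∈ (R : Subgroup Q) → x ∈ Y₁ → x ∈ Y₂ → x = 1 := by
    intro x h1 h2 h3
    have : x ∈ (R : Subgroup Q) ⊓ Z := ⟨h1, h2, h3⟩
    rw [hRZ] at this
    exact Subgroup.mem_bot.1 this
  -- `a₁` and `a₂` commute
  have hcomm : a₁ * a₂ = a₂ * a₁ := by
    have hc := hmemRZ (a₁ * a₂ * a₁⁻¹ * a₂⁻¹)
      (Subgroup.mul_mem _ (Subgroup.mul_mem _ (Subgroup.mul_mem _ ha₁R ha₂R) (Subgroup.inv_mem _ ha₁R))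
        (Subgroup.inv_mem _ ha₂R))
      (by
        have e : a₁ * a₂ * a₁⁻¹ * a₂⁻¹ = a₁ * (a₂ * a₁⁻¹ * a₂⁻¹) := by group
        rw [e]
        exact Y₁.mul_mem ha₁Y (hn₁.conj_mem _ (Y₁.inv_mem ha₁Y) a₂))
      (Y₂.mul_mem (hn₂.conj_mem _ ha₂Y a₁) (Y₂.inv_mem ha₂Y))
    calc a₁ * a₂ = (a₁ * a₂ * a₁⁻¹ * a₂⁻¹) * (a₂ * a₁) := by group
      _ = a₂ * a₁ := by rw [hc, one_mul]
  -- the noncyclic abelian subgroup `E`
  set E := Subgroup.closure ({a₁, a₂} : Set Q) with hE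
  have hER : E ≤ (R : Subgroup Q) := by
    rw [hE, Subgroup.closure_le]
    rintro x (rfl | rfl)
    · exact ha₁R
    · exact ha₂R
  haveI hEc : IsMulCommutative ↥E := by
    apply Subgroup.isMulCommutative_closure
    rintro x (rfl | rfl) y (rfl | rfl)
    · rfl
    · exact hcomm
    · exact hcomm.symm
    · rfl
  have ha₁E : a₁ ∈ E := Subgroup.subset_closure (by simp)
  have ha₂E : a₂ ∈ E := Subgroup.subset_closure (by simp)
  have hEnc : ¬ IsCyclic ↥E := by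
    apply not_isCyclic_of_two (p := p) (a := (⟨a₁, ha₁E⟩ : ↥E)) (b := (⟨a₂, ha₂E⟩ : ↥E))
    · apply Subtype.ext
      rw [Subgroup.coe_pow, Subgroup.coe_one]
      show a₁ ^ p = 1
      rw [← ha₁o]; exact pow_orderOf_eq_one a₁
    · apply Subtype.ext
      rw [Subgroup.coe_pow, Subgroup.coe_one]
      show a₂ ^ p = 1
      rw [← ha₂o]; exact pow_orderOf_eq_one a₂
    · rw [Nat.card_zpowers, ← Subgroup.orderOf_coe]
      exact ha₁o
    · rintro ⟨k, hk⟩
      have hk' : a₁ ^ k = a₂ := by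
        have := congrArg Subtype.val hk
        simpa using this
      apply ha₂ne
      apply hmemRZ a₂ ha₂R _ ha₂Y
      rw [← hk']
      exact Y₁.zpow_mem ha₁Y k
  -- `Z ≤ Γ`
  have hEZ : E ≤ Subgroup.normalizer (Z : Set Q) := by
    haveI : Z.Normal := by rw [hZ]; infer_instance
    rw [Subgroup.normalizer_eq_top]
    exact le_top
  have hcop : (Nat.card ↥E).Coprime (Nat.card ↥Z) := by
    obtain ⟨k, hk⟩ := IsPGroup.iff_card.mp (R.isPGroup'.to_le hER)
    rw [hk]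
    exact Nat.Coprime.pow_left k ((Nat.Prime.coprime_iff_not_dvd hp.out).2 hnd)
  have hgen := Cfsg.Agent.S0058.result E Z hEnc hEZ hcop
  have hZΓ : Z ≤ Gam R := by
    rw [← hgen]
    apply iSup₂_le
    rintro a ⟨haE, hane⟩
    refine inf_le_right.trans ((centralizer_le_normalizer_zpowers a).trans ?_)
    apply normalizer_le_gam R
    · rw [Subgroup.zpowers_le]; exact hER haE
    · intro h
      apply hane
      have : a ∈ Subgroup.zpowers a := Subgroup.mem_zpowers a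
      rw [h] at this
      exact Subgroup.mem_bot.1 this
  have hRne : (R : Subgroup Q) ≠ ⊥ := by
    intro h
    rw [h] at ha₁R
    exact ha₁ne (Subgroup.mem_bot.1 ha₁R)
  have hRΓ : (R : Subgroup Q) ≤ Gam R := Subgroup.le_normalizer.trans (normalizer_le_gam R le_rfl hRne)
  -- `Y₁ ≤ Γ`
  set S₁ := (R : Subgroup Q) ⊓ Y₁ with hS₁
  set S₂ := (R : Subgroup Q) ⊓ Y₂ with hS₂
  have hS₂ne : S₂ ≠ ⊥ := by
    intro h
    have : a₂ ∈ S₂ := ⟨ha₂R, ha₂Y⟩
    rw [h] at this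
    exact ha₂ne (Subgroup.mem_bot.1 this)
  have hS₁ne : S₁ ≠ ⊥ := by
    intro h
    have : a₁ ∈ S₁ := ⟨ha₁R, ha₁Y⟩
    rw [h] at this
    exact ha₁ne (Subgroup.mem_bot.1 this)
  have hY₁Γ : Y₁ ≤ Gam R := by
    intro y hy
    set M := S₂ ⊔ Z with hM
    have hMY : M ≤ Y₂ := sup_le inf_le_right inf_le_right
    have hMΓ : M ≤ Gam R := sup_le (inf_le_left.trans hRΓ) hZΓ
    have hSyl : IsSylowIn p S₂ M := isSylowIn_of_le (hS Y₂ hn₂) le_sup_left hMY
    have hcjY : cj y Y₂ = Y₂ := by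
      apply cj_eq_of_mem_normalizer
      rw [Subgroup.normalizer_eq_top]; trivial
    have hcjle : cj y S₂ ≤ M := by
      rintro _ ⟨s, hs, rfl⟩
      show y * s * y⁻¹ ∈ M
      have e : y * s * y⁻¹ = s * (s⁻¹ * y * s * y⁻¹) := by group
      rw [e]
      apply Subgroup.mul_mem_sup hs
      refine ⟨?_, ?_⟩
      · have h5 : s⁻¹ * y * s⁻¹⁻¹ ∈ Y₁ := hn₁.conj_mem y hy s⁻¹
        rw [inv_inv] at h5
        exact Y₁.mul_mem h5 (Y₁.inv_mem hy)
      · have h5 : y * s * y⁻¹ ∈ Y₂ := hn₂.conj_mem s hs.2 y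
        have e2 : s⁻¹ * y * s * y⁻¹ = s⁻¹ * (y * s * y⁻¹) := by group
        rw [e2]
        exact Y₂.mul_mem (Y₂.inv_mem hs.2) h5
    have hSyl' : IsSylowIn p (cj y S₂) M := by
      have h5 := isSylowIn_cj y (hS Y₂ hn₂)
      rw [hcjY] at h5
      exact isSylowIn_of_le h5 hcjle hMY
    obtain ⟨m, hm, hconj⟩ := hSyl.conj hSyl'
    have hnorm : m⁻¹ * y ∈ Subgroup.normalizer (S₂ : Set Q) := by
      have h5 : cj (m⁻¹ * y) S₂ = S₂ := by
        rw [← cj_cj, hconj, cj_cj, inv_mul_cancel, cj_one]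
      apply mem_normalizer_of_conj_mem
      intro r hr
      have h7 : m⁻¹ * y * r * (m⁻¹ * y)⁻¹ ∈ cj (m⁻¹ * y) S₂ := conj_mem_map_conj S₂ (m⁻¹ * y) hr
      rw [h5] at h7
      exact h7
    have h6 := normalizer_le_gam R (inf_le_left : S₂ ≤ (R : Subgroup Q)) hS₂ne hnorm
    have e : y = m * (m⁻¹ * y) := by group
    rw [e]
    exact (Gam R).mul_mem (hMΓ hm) h6
  -- Frattini
  rw [eq_top_iff]
  intro x _
  have hinv : ∀ n ∈ (⊤ : Subgroup Q), cj n Y₁ = Y₁ := by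
    intro n _
    apply cj_eq_of_mem_normalizer
    rw [Subgroup.normalizer_eq_top]; trivial
  obtain ⟨l, hl, w, hw, hxlw⟩ := frattini_normal (hS Y₁ hn₁) le_top hinv (Subgroup.mem_top x)
  rw [hxlw]
  exact (Gam R).mul_mem (hY₁Γ hl) (normalizer_le_gam R inf_le_left hS₁ne hw.2)

end Cfsg.Agent.Lib.Helper4.SylChain
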