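import Mathlib
import Cfsg.Agent.Lib.Helper4.AGStrongA
import Cfsg.Agent.Lib.Helper4.SylChainQ2

/-!
# Strong Alperin–Goldschmidt: the quotient `N_G(H)/H`

`barS H Y` : the image of `Y` in `N_G(H)/H`.
`gammaA_eq_of_gam_eq_top` : if `N_G(H)/H` is generated by the normalizers of the nontrivial subgroups of its Sylow
subgroup `N_P(H)/H` then `GammaA P H = N_G(H)`.
`xA_mem_ySet` : if `GammaA P H ≠ N_G(H)` there is a least normal subgroup `X/H` of `N_G(H)/H` of order divisible by `p`.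
`not_chainConnected` : if `GammaA P H ≠ N_G(H)` the Sylow subgroups of `N_G(H)/H` are not chain-connected.
-/

set_option autoImplicit false
set_option linter.style.haveILetI false
set_option linter.unusedSectionVars false
set_option linter.unusedVariables false

namespace Cfsg.Agent.Lib.Helper4.AGStrong

open Cfsg Cfsg.Agent.Lib.Lead.Conj Cfsg.Agent.Lib.Lead.ConjFamily Cfsg.Agent.S1963 Cfsg.Agent.S1965
  Cfsg.Agent.S1961 Cfsg.Agent.S1959 Cfsg.Agent.Lib.Lead.AlperinGoldschmidt Cfsg.Agent.Lib.Helper4.SylChain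
open Cfsg.Agent.Lib.Helper7 (IsSylowIn exists_isSylowIn_ge IsSylowIn.conj IsSylowIn.isPGroup IsSylowIn.inf_normal IsSylowIn.of_sylow_top IsSylowIn.exists_sylow card_subgroupOf_of_le)

universe u
variable {G : Type u} [Group G] [Finite G] {p : ℕ} [hp : Fact p.Prime] (P : Sylow p G)

/-- the image of `Y` in `N_G(H)/H` -/
def barS (H Y : Subgroup G) :
    Subgroup (↥(Subgroup.normalizer (H : Set G)) ⧸ H.subgroupOf (Subgroup.normalizer (H : Set G))) :=
  (Y.subgroupOf (Subgroup.normalizer (H : Set G))).map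
    (QuotientGroup.mk' (H.subgroupOf (Subgroup.normalizer (H : Set G))))

omit [Finite G] hp in
theorem card_barS {H Y : Subgroup G} (hYN : Y ≤ Subgroup.normalizer (H : Set G)) :
    Nat.card ↥(barS H Y) = H.relIndex Y := by
  unfold barS
  rw [← Subgroup.relIndex_ker, QuotientGroup.ker_mk', Subgroup.relIndex_subgroupOf hYN]

omit [Finite G] hp in
theorem barS_inf {H Y₁ Y₂ : Subgroup G} (h₁ : H ≤ Y₁) (h₂ : H ≤ Y₂) :
    barS H Y₁ ⊓ barS H Y₂ = barS H (Y₁ ⊓ Y₂) := by
  set N := Subgroup.normalizer (H : Set G) with hN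
  set π := QuotientGroup.mk' (H.subgroupOf N) with hπ
  have hsurj : Function.Surjective π := QuotientGroup.mk'_surjective _
  have hc : ∀ Y : Subgroup G, H ≤ Y → (barS H Y).comap π = Y.subgroupOf N := by
    intro Y hY
    unfold barS
    rw [Subgroup.comap_map_eq, QuotientGroup.ker_mk']
    apply sup_eq_left.2
    intro x hx
    exact hY hx
  rw [← Subgroup.map_comap_eq_self_of_surjective hsurj (barS H Y₁ ⊓ barS H Y₂), Subgroup.comap_inf,
    hc Y₁ h₁, hc Y₂ h₂]
  rfl

theorem exists_sylow_bar {H : Subgroup G} (hF : H ∈ F0 P) :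
    ∃ Rb : Sylow p (↥(Subgroup.normalizer (H : Set G)) ⧸ H.subgroupOf (Subgroup.normalizer (H : Set G))),
      (Rb : Subgroup _) = barS H ((P : Subgroup G) ⊓ Subgroup.normalizer (H : Set G)) := by
  have hR : IsSylowIn p ((P : Subgroup G) ⊓ Subgroup.normalizer (H : Set G)) (Subgroup.normalizer (H : Set G)) :=
    isSylowIn_of_not_dvd_relIndex inf_le_right (P.isPGroup'.to_le inf_le_left) hF.2
  obtain ⟨R', hR'⟩ := hR.exists_sylow
  refine ⟨R'.mapSurjective (QuotientGroup.mk'_surjective _), ?_⟩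
  rw [Sylow.coe_mapSurjective, hR']
  rfl

/-- pulling back generation by local normalizers -/
theorem gammaA_eq_of_gam_eq_top {H : Subgroup G} (hHP : H ≤ (P : Subgroup G)) (hne : H ≠ (P : Subgroup G))
    (Rb : Sylow p (↥(Subgroup.normalizer (H : Set G)) ⧸ H.subgroupOf (Subgroup.normalizer (H : Set G))))
    (hRb : (Rb : Subgroup _) = barS H ((P : Subgroup G) ⊓ Subgroup.normalizer (H : Set G)))
    (h : Gam Rb = ⊤) : GammaA P H = Subgroup.normalizer (H : Set G) := by
  apply le_antisymm (gammaA_le P H)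
  set N := Subgroup.normalizer (H : Set G) with hN
  set π := QuotientGroup.mk' (H.subgroupOf N) with hπ
  have hsurj : Function.Surjective π := QuotientGroup.mk'_surjective _
  have hHN : H ≤ N := Subgroup.le_normalizer
  intro x hx
  have hmem : π ⟨x, hx⟩ ∈ Gam Rb := by rw [h]; trivial
  unfold Gam at hmem
  have key : ∃ n : ↥N, π n = π ⟨x, hx⟩ ∧ (n : G) ∈ GammaA P H := by
    refine Subgroup.iSup_induction (C := fun q => ∃ n : ↥N, π n = q ∧ (n : G) ∈ GammaA P H) _ hmem ?_ ?_ ?_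
    · rintro ⟨Db, hDb1, hDb2⟩ q hq
      obtain ⟨n, rfl⟩ := hsurj q
      refine ⟨n, rfl, ?_⟩
      set D := (Db.comap π).map N.subtype with hD
      have hmemD : ∀ d : ↥N, (d : G) ∈ D ↔ π d ∈ Db := by
        intro d
        constructor
        · rintro ⟨d', hd', hdd⟩
          have : d' = d := Subtype.ext hdd
          rw [← this]; exact hd'
        · intro hd
          exact ⟨d, hd, rfl⟩
      have hDN : D ≤ N := Subgroup.map_subtype_le _
      have hHD : H ≤ D := by
        intro y hy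
        have : (⟨y, hHN hy⟩ : ↥N) ∈ H.subgroupOf N := Subgroup.mem_subgroupOf.2 hy
        have h1 : π ⟨y, hHN hy⟩ = 1 := (QuotientGroup.eq_one_iff _).2 this
        have := (hmemD ⟨y, hHN hy⟩).2 (by rw [h1]; exact Db.one_mem)
        exact this
      have hlt : H < D := by
        refine lt_of_le_of_ne hHD ?_
        intro heq
        apply hDb2
        rw [eq_bot_iff]
        intro q hq'
        obtain ⟨d, rfl⟩ := hsurj q
        have := (hmemD d).2 hq'
        rw [← heq] at this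
        rw [Subgroup.mem_bot]
        exact (QuotientGroup.eq_one_iff _).2 (Subgroup.mem_subgroupOf.2 this)
      have hDle : D ≤ (P : Subgroup G) ⊓ N := by
        intro y hy
        have hyN : y ∈ N := hDN hy
        have h1 := (hmemD ⟨y, hyN⟩).1 hy
        have h2 := hDb1 h1
        rw [hRb] at h2
        obtain ⟨s, hs, hsy⟩ := h2
        have hs' : (s : G) ∈ (P : Subgroup G) ⊓ N := Subgroup.mem_subgroupOf.1 hs
        have h3 : s⁻¹ * ⟨y, hyN⟩ ∈ H.subgroupOf N := QuotientGroup.eq.1 hsy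
        have h4 : (s : G)⁻¹ * y ∈ H := Subgroup.mem_subgroupOf.1 h3
        have e : y = (s : G) * ((s : G)⁻¹ * y) := by group
        rw [e]
        exact Subgroup.mul_mem _ hs' (le_inf hHP hHN h4)
      have hnorm : (n : G) ∈ Subgroup.normalizer (D : Set G) := by
        apply mem_normalizer_of_conj_mem
        intro r hr
        have hrN : r ∈ N := hDN hr
        have h1 := (hmemD ⟨r, hrN⟩).1 hr
        have h2 : π (n * ⟨r, hrN⟩ * n⁻¹) ∈ Db := by
          rw [map_mul, map_mul, map_inv]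
          exact (Subgroup.mem_normalizer_iff.1 hq _).1 h1
        exact (hmemD (n * ⟨r, hrN⟩ * n⁻¹)).2 h2
      exact le_gammaA P hlt hDle ⟨n.2, hnorm⟩
    · exact ⟨1, map_one _, Subgroup.one_mem _⟩
    · rintro a b ⟨na, rfl, ha⟩ ⟨nb, rfl, hb⟩
      exact ⟨na * nb, map_mul _ _ _, Subgroup.mul_mem _ ha hb⟩
  obtain ⟨n, hn, hnΓ⟩ := key
  have h3 : n⁻¹ * ⟨x, hx⟩ ∈ H.subgroupOf N := QuotientGroup.eq.1 hn
  have h4 : (n : G)⁻¹ * x ∈ H := Subgroup.mem_subgroupOf.1 h3
  have e : x = (n : G) * ((n : G)⁻¹ * x) := by group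
  rw [e]
  exact Subgroup.mul_mem _ hnΓ (self_le_gammaA P hHP hne h4)

/-- `N_G(H)` is a candidate -/
theorem normalizer_mem_ySet {H : Subgroup G} (hHP : H ≤ (P : Subgroup G)) (hne : H ≠ (P : Subgroup G)) :
    Subgroup.normalizer (H : Set G) ∈ YSet p H := by
  refine ⟨Subgroup.le_normalizer, le_rfl, Subgroup.le_normalizer, ?_⟩
  have hlt := exists_mem_normalizer_not_mem P hHP hne
  set R := (P : Subgroup G) ⊓ Subgroup.normalizer (H : Set G) with hR
  have h1 := Subgroup.relIndex_mul_relIndex H R (Subgroup.normalizer (H : Set G)) hlt.le inf_le_right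
  rw [← h1]
  apply Dvd.dvd.mul_right
  have hRp : IsPGroup p ↥R := P.isPGroup'.to_le inf_le_left
  obtain ⟨n, hn⟩ := hRp.index (H.subgroupOf R)
  have hn' : H.relIndex R = p ^ n := hn
  rw [hn']
  rcases Nat.eq_zero_or_pos n with h0 | h0
  · exfalso
    rw [h0, pow_zero, Subgroup.relIndex_eq_one] at hn'
    exact absurd hn' (not_le_of_gt hlt)
  · exact dvd_pow_self p h0.ne'

/-- candidates are closed under intersection when `N_G(H)/H` is `p`-isolated -/
theorem ySet_inf {H : Subgroup G} (hF : H ∈ F0 P) (hne : H ≠ (P : Subgroup G))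
    (hΓ : GammaA P H ≠ Subgroup.normalizer (H : Set G)) {Y₁ Y₂ : Subgroup G}
    (h₁ : Y₁ ∈ YSet p H) (h₂ : Y₂ ∈ YSet p H) : Y₁ ⊓ Y₂ ∈ YSet p H := by
  obtain ⟨Rb, hRb⟩ := exists_sylow_bar P hF
  have hG : Gam Rb ≠ ⊤ := fun h => hΓ (gammaA_eq_of_gam_eq_top P hF.1 hne Rb hRb h)
  set N := Subgroup.normalizer (H : Set G) with hN
  have hsurj : Function.Surjective (QuotientGroup.mk' (H.subgroupOf N)) := QuotientGroup.mk'_surjective _
  have hnorm : ∀ Y ∈ YSet p H, (barS H Y).Normal := by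
    intro Y hY
    exact Subgroup.Normal.map ((Subgroup.normal_subgroupOf_iff_le_normalizer hY.2.1).2 hY.2.2.1) _ hsurj
  have hcard : ∀ Y ∈ YSet p H, p ∣ Nat.card ↥(barS H Y) := by
    intro Y hY
    rw [card_barS hY.2.1]
    exact hY.2.2.2
  have h := dvd_card_inf_of_gam_ne_top Rb hG (barS H Y₁) (barS H Y₂) (hnorm Y₁ h₁) (hnorm Y₂ h₂)
    (hcard Y₁ h₁) (hcard Y₂ h₂)
  rw [barS_inf h₁.1 h₂.1, card_barS (inf_le_left.trans h₁.2.1)] at h
  refine ⟨le_inf h₁.1 h₂.1, inf_le_left.trans h₁.2.1, ?_, h⟩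
  intro n hn
  have hn1 := Subgroup.mem_normalizer_iff.1 (h₁.2.2.1 hn)
  have hn2 := Subgroup.mem_normalizer_iff.1 (h₂.2.2.1 hn)
  rw [Subgroup.mem_normalizer_iff]
  intro y
  rw [Subgroup.mem_inf, Subgroup.mem_inf, ← hn1 y, ← hn2 y]

/-- the least candidate exists when `N_G(H)/H` is `p`-isolated -/
theorem xA_mem_ySet {H : Subgroup G} (hF : H ∈ F0 P) (hne : H ≠ (P : Subgroup G))
    (hΓ : GammaA P H ≠ Subgroup.normalizer (H : Set G)) : XA p H ∈ YSet p H := by
  obtain ⟨Y₀, hY₀⟩ := exists_minimal_of_wellFoundedLT (fun Y => Y ∈ YSet p H)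
    ⟨_, normalizer_mem_ySet P hF.1 hne⟩
  have e : XA p H = Y₀ := by
    apply le_antisymm (sInf_le hY₀.1)
    apply le_sInf
    intro Y hY
    have h1 := hY₀.2 (ySet_inf P hF hne hΓ hY₀.1 hY) inf_le_left
    exact h1.trans inf_le_right
  rw [e]
  exact hY₀.1

/-- the Sylow subgroups of a `p`-isolated `N_G(H)/H` are not chain-connected -/
theorem not_chainConnected {H : Subgroup G} (hF : H ∈ F0 P) (hne : H ≠ (P : Subgroup G))
    (hΓ : GammaA P H ≠ Subgroup.normalizer (H : Set G)) :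
    ¬ Cfsg.IsSylowChainConnected p
      (↥(Subgroup.normalizer (H : Set G)) ⧸ H.subgroupOf (Subgroup.normalizer (H : Set G))) := by
  intro hc
  obtain ⟨Rb, hRb⟩ := exists_sylow_bar P hF
  apply hΓ
  apply gammaA_eq_of_gam_eq_top P hF.1 hne Rb hRb
  apply gam_eq_top_of_chainConnected Rb ?_ hc
  intro hbot
  have hlt := exists_mem_normalizer_not_mem P hF.1 hne
  have h1 : Nat.card ↥(barS H ((P : Subgroup G) ⊓ Subgroup.normalizer (H : Set G))) = 1 := by
    rw [← hRb, hbot]; simp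
  rw [card_barS inf_le_right, Subgroup.relIndex_eq_one] at h1
  exact absurd h1 (not_le_of_gt hlt)

end Cfsg.Agent.Lib.Helper4.AGStrong
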