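import Mathlib
import Cfsg.Agent.Lib.Helper4.AGStrongB

/-!
# Strong Alperin–Goldschmidt: the induction

`Res2 P B g` : `g = c * prodL l` with `c ∈ C_G(B)` and `l` a `DecL {U | CR P U}`-chain for `B` all of whose steps are
either `P`-steps or essential steps `(H, x)` with `N_G(H)/H` `p`-isolated and `x ∈ O^p(X)`.
`alperin_goldschmidt2` : every conjugation of a subset of `P` into `P` has such a resolution.
`normalize` : the `P`-steps can be collected at the right end.
-/

set_option autoImplicit false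
set_option linter.style.haveILetI false
set_option linter.unusedSectionVars false
set_option linter.unusedVariables false

namespace Cfsg.Agent.Lib.Helper4.AGStrong

open Cfsg Cfsg.Agent.Lib.Lead.Conj Cfsg.Agent.Lib.Lead.ConjFamily Cfsg.Agent.S1963 Cfsg.Agent.S1965
  Cfsg.Agent.S1961 Cfsg.Agent.S1959 Cfsg.Agent.Lib.Lead.AlperinGoldschmidt Cfsg.Agent.Lib.Helper4.SylChain
  Cfsg.Agent.Lib.Lead.LocalControl
open Cfsg.Agent.Lib.Helper7 (IsSylowIn exists_isSylowIn_ge IsSylowIn.conj IsSylowIn.isPGroup IsSylowIn.inf_normal IsSylowIn.of_sylow_top IsSylowIn.exists_sylow card_subgroupOf_of_le)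

universe u
variable {G : Type u} [Group G] [Finite G] {p : ℕ} [hp : Fact p.Prime] (P : Sylow p G)

/-- admissible step: a `P`-step or an essential step -/
def StepOK (H : Subgroup G) (x : G) : Prop := H = (P : Subgroup G) ∨ EOK P H x

/-- resolutions with admissible steps -/
def Res2 (B : Set G) (g : G) : Prop :=
  ∃ c ∈ Subgroup.centralizer B, ∃ l : List (Subgroup G × G), g = c * prodL l ∧ DecL {U | CR P U} l B ∧
    ∀ a ∈ l, StepOK P a.1 a.2

theorem Res2.mono {B B' : Set G} {g : G} (hBB : B' ⊆ B) (h : Res2 P B g) : Res2 P B' g := by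
  obtain ⟨c, hc, l, hg, hd, hok⟩ := h
  exact ⟨c, Subgroup.centralizer_le hBB hc, l, hg, hd.mono hBB, hok⟩

theorem Res2.comp {B : Set G} {g₁ g₂ : G} (h₁ : Res2 P B g₁) (h₂ : Res2 P (rc g₁ B) g₂) :
    Res2 P B (g₁ * g₂) := by
  obtain ⟨c₁, hc₁, l₁, hg₁, hd₁, hok₁⟩ := h₁
  obtain ⟨c₂, hc₂, l₂, hg₂, hd₂, hok₂⟩ := h₂
  have e : rc g₁ B = rc (prodL l₁) B := by
    rw [hg₁, rc_mul, rc_centralizer hc₁]
  rw [e] at hc₂ hd₂
  refine ⟨c₁ * (prodL l₁ * c₂ * (prodL l₁)⁻¹), Subgroup.mul_mem _ hc₁ (conj_mem_centralizer hc₂),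
    l₁ ++ l₂, ?_, hd₁.append hd₂, ?_⟩
  · rw [prodL_append, hg₁, hg₂]; group
  · intro a ha
    rcases List.mem_append.1 ha with h | h
    · exact hok₁ a h
    · exact hok₂ a h

theorem Res2.of_centralizer {B : Set G} {c : G} (hc : c ∈ Subgroup.centralizer B) : Res2 P B c :=
  ⟨c, hc, [], by simp, trivial, by simp⟩

theorem Res2.of_step {B : Set G} {U : Subgroup G} {x : G} (hU : CR P U)
    (hx : x ∈ Subgroup.normalizer (U : Set G)) (hB : B ⊆ (U : Set G)) (hok : StepOK P U x) : Res2 P B x := by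
  refine ⟨1, Subgroup.one_mem _, [(U, x)], by simp, ⟨hU, hx, hB, trivial⟩, ?_⟩
  intro a ha
  rw [List.mem_singleton] at ha
  rw [ha]
  exact hok

theorem Res2.of_mem {B : Set G} {t : G} (ht : t ∈ (P : Subgroup G))
    (hB : B ⊆ ((P : Subgroup G) : Set G)) : Res2 P B t :=
  Res2.of_step P (CR_self P) (Subgroup.le_normalizer ht) hB (Or.inl rfl)

/-- the induction hypothesis -/
def IH2 (c : ℕ) : Prop :=
  ∀ W : Subgroup G, W ≤ (P : Subgroup G) → c < Nat.card ↥W → ∀ g : G,
    rc g (W : Set G) ⊆ ((P : Subgroup G) : Set G) → Res2 P (W : Set G) g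

omit [Finite G] hp in
theorem card_lt_of_lt [Finite G] {U D : Subgroup G} (h : U < D) : Nat.card ↥U < Nat.card ↥D :=
  Set.ncard_lt_ncard (SetLike.coe_ssubset_coe.mpr h) (Set.toFinite _)

/-- an element normalizing `U` and a larger subgroup `D` of `P` -/
theorem res2_of_normalizer_larger {U D : Subgroup G} (hIH : IH2 P (Nat.card ↥U)) (hUD : U < D)
    (hDP : D ≤ (P : Subgroup G)) {z : G} (hz : z ∈ Subgroup.normalizer (D : Set G)) :
    Res2 P (U : Set G) z := by
  have hrc : rc z (D : Set G) ⊆ ((P : Subgroup G) : Set G) := by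
    rw [rc_normalizer hz]
    exact hDP
  exact (hIH D hDP (card_lt_of_lt hUD) z hrc).mono P hUD.le

/-- the key step -/
theorem key2 {U : Subgroup G} (hU : U ∈ F0 P) (hIH : IH2 P (Nat.card ↥U))
    {x : G} (hx : x ∈ Subgroup.normalizer (U : Set G)) : Res2 P (U : Set G) x := by
  set N := Subgroup.normalizer (U : Set G) with hN
  have hUP : (U : Set G) ⊆ ((P : Subgroup G) : Set G) := hU.1
  have hRp : IsPGroup p ↥((P : Subgroup G) ⊓ N) := P.isPGroup'.to_le inf_le_left
  have hR : IsSylowIn p ((P : Subgroup G) ⊓ N) N := isSylowIn_of_not_dvd_relIndex inf_le_right hRp hU.2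
  by_cases hCR : ∀ L : Subgroup G, PModC p U L → (P : Subgroup G) ⊓ L ≤ U
  · have hCRU : CR P U := ⟨hU, hCR⟩
    by_cases hUeq : U = (P : Subgroup G)
    · exact Res2.of_step P hCRU hx subset_rfl (Or.inl hUeq)
    by_cases hΓ : GammaA P U = N
    · -- `x` is a product of elements normalizing larger subgroups
      have hxΓ : x ∈ GammaA P U := by rw [hΓ]; exact hx
      unfold GammaA at hxΓ
      have key : x ∈ N ∧ Res2 P (U : Set G) x := by
        refine Subgroup.iSup_induction (C := fun z => z ∈ N ∧ Res2 P (U : Set G) z) _ hxΓ ?_ ?_ ?_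
        · rintro ⟨D, hD1, hD2⟩ z hz
          exact ⟨hz.1, res2_of_normalizer_larger P hIH hD1 (hD2.trans inf_le_left) hz.2⟩
        · exact ⟨N.one_mem, Res2.of_centralizer P (Subgroup.one_mem _)⟩
        · rintro a b ⟨haN, ha⟩ ⟨hbN, hb⟩
          refine ⟨N.mul_mem haN hbN, ?_⟩
          apply Res2.comp P ha
          rw [rc_normalizer haN]
          exact hb
      exact key.2
    · -- the essential step
      have hX := xA_mem_ySet P hU hUeq hΓ
      set X := XA p U with hXdef
      obtain ⟨hUX, hXN, hNX, hdvd⟩ := hX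
      set U₁ := (P : Subgroup G) ⊓ X with hU₁
      have hT₁ : IsSylowIn p (((P : Subgroup G) ⊓ N) ⊓ X) X := hR.inf_normal X hXN hNX
      have hRX : ((P : Subgroup G) ⊓ N) ⊓ X = U₁ := by
        rw [hU₁, inf_assoc, inf_eq_right.2 hXN]
      rw [hRX] at hT₁
      have hUU₁ : U ≤ U₁ := le_inf hU.1 hUX
      have hlt : U < U₁ := by
        refine lt_of_le_of_ne hUU₁ ?_
        intro heq
        rw [← heq] at hT₁
        exact not_dvd_relIndex_of_isSylowIn hT₁ hdvd
      have hinv : ∀ n ∈ N, cj n X = X := fun n hn => cj_eq_of_mem_normalizer (hNX hn)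
      obtain ⟨l, hl, w, hw, hxlw⟩ := frattini_normal hT₁ hXN hinv hx
      have hidx : ¬ p ∣ (U₁.subgroupOf X).index := not_dvd_relIndex_of_isSylowIn hT₁
      obtain ⟨r, hr, m, hm, hrm⟩ := Cfsg.Agent.Lib.Lead.PResidual.exists_mul (U₁.subgroupOf X) hidx ⟨l, hl⟩
      have hrU₁ : (r : G) ∈ U₁ := Subgroup.mem_subgroupOf.1 hr
      have hmO : (m : G) ∈ OpA p X := by
        rw [opA_eq_map]
        exact ⟨m, hm, rfl⟩
      have hlrm : l = (r : G) * (m : G) := by
        have := congrArg Subtype.val hrm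
        simpa using this
      have hrN : (r : G) ∈ N := hXN r.2
      have hmN : (m : G) ∈ N := hXN m.2
      have h1 : Res2 P (U : Set G) (r : G) := Res2.of_mem P hrU₁.1 hUP
      have h2 : Res2 P (U : Set G) (m : G) :=
        Res2.of_step P hCRU hmN subset_rfl (Or.inr ⟨hUeq, hΓ, hmO⟩)
      have h3 : Res2 P (U : Set G) w := res2_of_normalizer_larger P hIH hlt inf_le_left hw.2
      have e : x = (r : G) * ((m : G) * w) := by rw [hxlw, hlrm]; group
      rw [e]
      apply Res2.comp P h1
      rw [rc_normalizer hrN]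
      apply Res2.comp P h2
      rw [rc_normalizer hmN]
      exact h3
  · push_neg at hCR
    obtain ⟨L, ⟨hLN, hinv, hLC⟩, hnot⟩ := hCR
    set R := (P : Subgroup G) ⊓ N with hRdef
    have hNL : N ≤ Subgroup.normalizer (L : Set G) := by
      intro n hn
      apply mem_normalizer_of_conj_mem
      intro r hr
      rw [← hinv n hn]
      exact conj_mem_map_conj L n hr
    have hT₁ : IsSylowIn p (R ⊓ L) L := hR.inf_normal L hLN hNL
    have hRL : R ⊓ L = (P : Subgroup G) ⊓ L := by
      rw [hRdef, inf_assoc, inf_eq_right.2 hLN]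
    rw [hRL] at hT₁
    set T₁ := (P : Subgroup G) ⊓ L with hT₁def
    obtain ⟨l, hl, m, hm, hxlm⟩ := frattini_normal hT₁ hLN hinv hx
    obtain ⟨t, ht, c, hc, hltc⟩ := decomp_PModC hLC hT₁ hl
    have htN : t ∈ N := hLN ht.2
    have hcN : c ∈ N := by
      have : c = t⁻¹ * l := by rw [hltc]; group
      rw [this]
      exact N.mul_mem (N.inv_mem htN) (hLN hl)
    have h1 : Res2 P (U : Set G) t := Res2.of_mem P ht.1 hUP
    have h2 : Res2 P (U : Set G) c := Res2.of_centralizer P hc
    have h3 : Res2 P (U : Set G) m := by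
      set T' := U ⊔ T₁ with hT'
      have hUT' : U ≤ T' := le_sup_left
      have hT'P : T' ≤ (P : Subgroup G) := sup_le hU.1 inf_le_left
      have hlt : U < T' := by
        refine lt_of_le_of_ne hUT' ?_
        intro heq
        apply hnot
        rw [heq]
        exact le_sup_right
      have hmT' : m ∈ Subgroup.normalizer (T' : Set G) := by
        apply mem_normalizer_of_conj_mem
        intro r hr
        have hm1 : cj m U = U := cj_eq_of_mem_normalizer hm.1
        have hm2 : cj m T₁ = T₁ := cj_eq_of_mem_normalizer hm.2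
        have h5 : cj m T' = T' := by
          show (U ⊔ T₁).map _ = _
          rw [Subgroup.map_sup]
          show cj m U ⊔ cj m T₁ = _
          rw [hm1, hm2]
        rw [← h5]
        exact conj_mem_map_conj T' m hr
      exact res2_of_normalizer_larger P hIH hlt hT'P hmT'
    have e : x = t * (c * m) := by rw [hxlm, hltc]; group
    rw [e]
    apply Res2.comp P h1
    rw [rc_normalizer htN]
    apply Res2.comp P h2
    rw [rc_normalizer hcN]
    exact h3

/-- conversion of a chain through fully normalized subgroups -/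
theorem convert2 (c : ℕ) (hIH : IH2 P c) :
    ∀ (l₀ : List (Subgroup G × G)) (V : Subgroup G), c ≤ Nat.card ↥V → DecL (F0 P) l₀ (V : Set G) →
      Res2 P (V : Set G) (prodL l₀) := by
  intro l₀
  induction l₀ with
  | nil =>
    intro V _ _
    exact Res2.of_centralizer P (by rw [prodL_nil]; exact Subgroup.one_mem _)
  | cons a l₀ ih =>
    obtain ⟨U, x⟩ := a
    rintro V hcV ⟨hU, hx, hVU, hdec⟩
    have hVU' : V ≤ U := hVU
    have hcU : c ≤ Nat.card ↥U := hcV.trans (Subgroup.card_le_of_le hVU')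
    have hIH' : IH2 P (Nat.card ↥U) := fun W hW hc => hIH W hW (lt_of_le_of_lt hcU hc)
    have h1 := (key2 P hU hIH' hx).mono P hVU
    rw [rc_coe] at hdec
    have h2 := ih (cj x⁻¹ V) (by rw [card_cj]; exact hcV) hdec
    rw [prodL_cons]
    apply Res2.comp P h1
    rw [rc_coe]
    exact h2

/-- the strong Alperin–Goldschmidt theorem for subgroups -/
theorem alperin_goldschmidt2_subgroup :
    ∀ (m : ℕ) (T : Subgroup G), T ≤ (P : Subgroup G) → Nat.card ↥(P : Subgroup G) - Nat.card ↥T = m →
      ∀ g : G, rc g (T : Set G) ⊆ ((P : Subgroup G) : Set G) → Res2 P (T : Set G) g := by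
  intro m
  induction m using Nat.strong_induction_on with
  | _ m ih =>
  intro T hT hm g hrc
  have hIH : IH2 P (Nat.card ↥T) := by
    intro W hW hc g' hrc'
    have hWle : Nat.card ↥W ≤ Nat.card ↥(P : Subgroup G) := Subgroup.card_le_of_le hW
    exact ih (Nat.card ↥(P : Subgroup G) - Nat.card ↥W) (by omega) W hW rfl g' hrc'
  obtain ⟨l₀, hl₀, hdec⟩ := alperin_F0 P (T : Set G) g hT hrc
  have := convert2 P (Nat.card ↥T) hIH l₀ T le_rfl hdec
  rwa [hl₀] at this

/-- **The strong Alperin–Goldschmidt fusion theorem**, list form -/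
theorem alperin_goldschmidt2 (A : Set G) (g : G) (hA : A ⊆ ((P : Subgroup G) : Set G))
    (hrc : rc g A ⊆ ((P : Subgroup G) : Set G)) : Res2 P A g := by
  set T := Subgroup.closure A with hT
  have hTP : T ≤ (P : Subgroup G) := (Subgroup.closure_le _).2 hA
  have hTg : T ≤ cj g (P : Subgroup G) := by
    rw [hT, Subgroup.closure_le]
    intro a ha
    rw [SetLike.mem_coe, mem_cj]
    exact hrc ⟨a, ha, rfl⟩
  have hrcT : rc g (T : Set G) ⊆ ((P : Subgroup G) : Set G) := by
    intro y hy
    rw [mem_rc] at hy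
    have := hTg hy
    rw [mem_cj] at this
    have e : g⁻¹ * (g * y * g⁻¹) * g = y := by group
    rwa [e] at this
  exact (alperin_goldschmidt2_subgroup P _ T hTP rfl g hrcT).mono P Subgroup.subset_closure

/-! ### collecting the `P`-steps at the right end -/

/-- the conjugated chain -/
def conjL (y : G) (l : List (Subgroup G × G)) : List (Subgroup G × G) :=
  l.map (fun a => (cj y a.1, y * a.2 * y⁻¹))

omit [Finite G] hp in
theorem prodL_conjL (y : G) (l : List (Subgroup G × G)) : y * prodL l = prodL (conjL y l) * y := by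
  induction l with
  | nil => simp [conjL, prodL]
  | cons a l ih =>
    obtain ⟨H, z⟩ := a
    have e : conjL y ((H, z) :: l) = (cj y H, y * z * y⁻¹) :: conjL y l := rfl
    rw [e, prodL_cons, prodL_cons]
    calc y * (z * prodL l) = y * z * y⁻¹ * (y * prodL l) := by group
      _ = y * z * y⁻¹ * (prodL (conjL y l) * y) := by rw [ih]
      _ = y * z * y⁻¹ * prodL (conjL y l) * y := by group

omit [Finite G] hp in
theorem decL_conjL {𝓕 : Set (Subgroup G)} {y : G} (h𝓕 : ∀ H ∈ 𝓕, cj y H ∈ 𝓕) :
    ∀ (l : List (Subgroup G × G)) (B : Set G), DecL 𝓕 l (rc y B) → DecL 𝓕 (conjL y l) B := by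
  intro l
  induction l with
  | nil => intro B _; trivial
  | cons a l ih =>
    obtain ⟨H, z⟩ := a
    rintro B ⟨hH, hz, hB, hd⟩
    have e : conjL y ((H, z) :: l) = (cj y H, y * z * y⁻¹) :: conjL y l := rfl
    rw [e]
    refine ⟨h𝓕 H hH, conj_mem_normalizer_cj hz, ?_, ?_⟩
    · intro b hb
      rw [SetLike.mem_coe, mem_cj]
      exact hB ⟨b, hb, rfl⟩
    · apply ih
      have e2 : rc y (rc (y * z * y⁻¹) B) = rc z (rc y B) := by
        rw [← rc_mul, ← rc_mul]
        congr 1
        group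
      rw [e2]
      exact hd

/-- the `P`-steps can be collected at the right end -/
theorem normalize : ∀ (l : List (Subgroup G × G)) (B : Set G), DecL {U | CR P U} l B →
    (∀ a ∈ l, StepOK P a.1 a.2) →
    ∃ (l' : List (Subgroup G × G)) (y : G), y ∈ Subgroup.normalizer ((P : Subgroup G) : Set G) ∧
      prodL l = prodL l' * y ∧ DecL {U | CR P U} l' B ∧ ∀ a ∈ l', EOK P a.1 a.2 := by
  intro l
  induction l with
  | nil =>
    intro B _ _
    exact ⟨[], 1, Subgroup.one_mem _, by simp, trivial, by simp⟩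
  | cons a l ih =>
    obtain ⟨T, x⟩ := a
    rintro B ⟨hT, hx, hBT, hd⟩ hok
    obtain ⟨l'', y'', hy'', hprod, hd'', hok''⟩ := ih (rc x B) hd (fun a ha => hok a (List.mem_cons_of_mem _ ha))
    by_cases hTP : T = (P : Subgroup G)
    · have hxP : x ∈ Subgroup.normalizer ((P : Subgroup G) : Set G) := by rw [← hTP]; exact hx
      refine ⟨conjL x l'', x * y'', Subgroup.mul_mem _ hxP hy'', ?_,
        decL_conjL (𝓕 := {U | CR P U}) (fun H hH => cR_cj P hxP hH) l'' B hd'', ?_⟩
      · rw [prodL_cons, hprod, ← mul_assoc, prodL_conjL, mul_assoc]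
      · intro a ha
        obtain ⟨b, hb, rfl⟩ := List.mem_map.1 ha
        exact eOK_cj P hxP (hok'' b hb)
    · have hE : EOK P T x := (hok (T, x) List.mem_cons_self).resolve_left hTP
      refine ⟨(T, x) :: l'', y'', hy'', ?_, ⟨hT, hx, hBT, hd''⟩, ?_⟩
      · rw [prodL_cons, prodL_cons, hprod, mul_assoc]
      · intro a ha
        rcases List.mem_cons.1 ha with h | h
        · rw [h]; exact hE
        · exact hok'' a h

end Cfsg.Agent.Lib.Helper4.AGStrong
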