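import Mathlib
import Cfsg.Agent.H1.Cores

/-! Kegel–Wielandt (coprime case), part A: generic lemmas on conjugates and on the
primary parts of a nilpotent subgroup (helper4). -/

set_option autoImplicit false
open scoped Pointwise

namespace Cfsg.Agent.Lib.Helper4.KW

variable {G : Type*} [Group G]

lemma mem_conj {g x : G} {H : Subgroup G} : x ∈ MulAut.conj g • H ↔ g⁻¹ * x * g ∈ H := by
  rw [Subgroup.mem_pointwise_smul_iff_inv_smul_mem, MulAut.smul_def, MulAut.conj_inv_apply]

lemma conj_mem_conj {g x : G} {H : Subgroup G} (hx : x ∈ H) :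
    g * x * g⁻¹ ∈ MulAut.conj g • H := by
  rw [mem_conj]
  have : g⁻¹ * (g * x * g⁻¹) * g = x := by group
  rwa [this]

lemma card_conj (g : G) (H : Subgroup G) :
    Nat.card (MulAut.conj g • H : Subgroup G) = Nat.card H :=
  (Nat.card_congr (Subgroup.equivSMul (MulAut.conj g) H).toEquiv).symm

lemma conj_eq_self_of_mem {g : G} {H : Subgroup G} (hg : g ∈ H) : MulAut.conj g • H = H :=
  Subgroup.conj_smul_eq_self_of_mem hg

lemma conj_le_iff {g : G} {A B : Subgroup G} :
    MulAut.conj g • A ≤ MulAut.conj g • B ↔ A ≤ B :=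
  Subgroup.pointwise_smul_le_pointwise_smul_iff

lemma conj_conj (g h : G) (A : Subgroup G) :
    MulAut.conj g • MulAut.conj h • A = MulAut.conj (g * h) • A := by
  rw [← mul_smul, ← map_mul]

lemma conj_inv_conj (g : G) (A : Subgroup G) :
    MulAut.conj g⁻¹ • MulAut.conj g • A = A := by
  rw [conj_conj, inv_mul_cancel, map_one, one_smul]

lemma conj_conj_inv (g : G) (A : Subgroup G) :
    MulAut.conj g • MulAut.conj g⁻¹ • A = A := by
  rw [conj_conj, mul_inv_cancel, map_one, one_smul]

lemma mem_normalizer_iff_conj {g : G} {A : Subgroup G} [Finite A] :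
    g ∈ Subgroup.normalizer (A : Set G) ↔ MulAut.conj g • A = A := by
  constructor
  · intro hg
    ext x
    rw [mem_conj]
    have := (Subgroup.mem_normalizer_iff'.1 (inv_mem hg)) 
    rw [Subgroup.mem_normalizer_iff] at hg
    have h2 := (Subgroup.mem_normalizer_iff.1 (inv_mem (Subgroup.mem_normalizer_iff.2 hg))) x
    rw [inv_inv] at h2
    exact h2.symm
  · intro h
    rw [Subgroup.mem_normalizer_iff]
    intro x
    constructor
    · intro hx
      have := conj_mem_conj (g := g) hx
      rwa [h] at this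
    · intro hx
      rw [← h, mem_conj] at hx
      have e : g⁻¹ * (g * x * g⁻¹) * g = x := by group
      rwa [e] at hx

/-- `conj g • A ≤ A` forces equality for finite `A`. -/
lemma conj_eq_of_le {g : G} {A : Subgroup G} [Finite A] (h : MulAut.conj g • A ≤ A) :
    MulAut.conj g • A = A := by
  apply Subgroup.eq_of_le_of_card_ge h
  rw [card_conj]

lemma conj_eq_of_ge {g : G} {A : Subgroup G} [Finite A] (h : A ≤ MulAut.conj g • A) :
    MulAut.conj g • A = A := by
  have : Finite (MulAut.conj g • A : Subgroup G) :=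
    Finite.of_equiv _ (Subgroup.equivSMul (MulAut.conj g) A).toEquiv
  symm
  apply Subgroup.eq_of_le_of_card_ge h
  rw [card_conj]

/-! ### primary parts -/

/-- the subgroup generated by the `s`-elements of `H` -/
def sPart (s : ℕ) (H : Subgroup G) : Subgroup G :=
  Subgroup.closure {x | x ∈ H ∧ ∃ n : ℕ, x ^ s ^ n = 1}

lemma sPart_le (s : ℕ) (H : Subgroup G) : sPart s H ≤ H :=
  (Subgroup.closure_le _).2 (fun _ hx => hx.1)

lemma le_sPart {s : ℕ} {H P : Subgroup G} (hP : IsPGroup s P) (hPH : P ≤ H) : P ≤ sPart s H := by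
  intro x hx
  obtain ⟨n, hn⟩ := hP ⟨x, hx⟩
  apply Subgroup.subset_closure
  refine ⟨hPH hx, n, ?_⟩
  simpa using congrArg Subtype.val hn

lemma sPart_mono {s : ℕ} {H H' : Subgroup G} (h : H ≤ H') : sPart s H ≤ sPart s H' :=
  Subgroup.closure_mono (fun _ hx => ⟨h hx.1, hx.2⟩)

lemma conj_sPart_le (g : G) (s : ℕ) (H : Subgroup G) :
    MulAut.conj g • sPart s H ≤ sPart s (MulAut.conj g • H) := by
  rw [Subgroup.pointwise_smul_subset_iff, sPart, Subgroup.closure_le]
  rintro x ⟨hx, n, hn⟩
  rw [SetLike.mem_coe, Subgroup.mem_inv_pointwise_smul_iff, MulAut.smul_def, MulAut.conj_apply]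
  apply Subgroup.subset_closure
  refine ⟨conj_mem_conj hx, n, ?_⟩
  rw [conj_pow, hn]; group

lemma conj_sPart (g : G) (s : ℕ) (H : Subgroup G) :
    MulAut.conj g • sPart s H = sPart s (MulAut.conj g • H) := by
  apply le_antisymm (conj_sPart_le g s H)
  have h := conj_sPart_le g⁻¹ s (MulAut.conj g • H)
  rw [conj_inv_conj] at h
  have h2 := conj_le_iff (g := g).2 h
  rwa [conj_conj_inv] at h2

lemma le_normalizer_sPart (s : ℕ) (H : Subgroup G) [Finite H] :
    H ≤ Subgroup.normalizer (sPart s H : Set G) := by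
  intro h hh
  have : Finite (sPart s H) := Finite.of_injective (Subgroup.inclusion (sPart_le s H))
    (Subgroup.inclusion_injective _)
  rw [mem_normalizer_iff_conj, conj_sPart, conj_eq_self_of_mem hh]

lemma normalizer_le_normalizer_sPart (s : ℕ) (H : Subgroup G) [Finite H] :
    Subgroup.normalizer (H : Set G) ≤ Subgroup.normalizer (sPart s H : Set G) := by
  intro g hg
  have : Finite (sPart s H) := Finite.of_injective (Subgroup.inclusion (sPart_le s H))
    (Subgroup.inclusion_injective _)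
  rw [mem_normalizer_iff_conj] at hg ⊢
  rw [conj_sPart, hg]

section nilp

variable [Finite G] {H : Subgroup G}

lemma sylow_map_eq (hH : Group.IsNilpotent H) (s : ℕ) [Fact s.Prime] (P : Sylow s H) :
    (P : Subgroup H).map H.subtype = sPart s H := by
  have hall : ∀ (p : ℕ), Fact (Nat.Prime p) → ∀ (P : Sylow p H), (P : Subgroup H).Normal :=
    ((Group.isNilpotent_of_finite_tfae (G := H)).out 0 3).1 hH
  have hPn : (P : Subgroup H).Normal := hall s inferInstance P
  refine le_antisymm ?_ ?_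
  · exact le_sPart (P.isPGroup'.map _) (Subgroup.map_subtype_le _)
  · rw [sPart, Subgroup.closure_le]
    rintro x ⟨hx, n, hn⟩
    have hz : IsPGroup s (Subgroup.zpowers (⟨x, hx⟩ : H)) := by
      apply IsPGroup.of_card (n := (Nat.card (Subgroup.zpowers (⟨x, hx⟩ : H))).factorization s)
      have hord : orderOf (⟨x, hx⟩ : H) ∣ s ^ n := by
        apply orderOf_dvd_of_pow_eq_one
        apply Subtype.ext
        simpa using hn
      obtain ⟨k, _, hk⟩ := (Nat.dvd_prime_pow (Fact.out : s.Prime)).1 hord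
      rw [Nat.card_zpowers, hk, Nat.Prime.factorization_pow (Fact.out : s.Prime)]
      simp
    obtain ⟨Q, hQ⟩ := hz.exists_le_sylow
    have := Sylow.unique_of_normal P hPn
    have hQP : Q = P := Subsingleton.elim _ _
    rw [hQP] at hQ
    exact ⟨⟨x, hx⟩, hQ (Subgroup.mem_zpowers _), rfl⟩

lemma exists_sylow_eq (hH : Group.IsNilpotent H) (s : ℕ) [Fact s.Prime] :
    ∃ P : Sylow s H, sPart s H = (P : Subgroup H).map H.subtype := by
  obtain ⟨P⟩ : Nonempty (Sylow s H) := inferInstance
  exact ⟨P, (sylow_map_eq hH s P).symm⟩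

lemma isPGroup_sPart (hH : Group.IsNilpotent H) (s : ℕ) [Fact s.Prime] : IsPGroup s (sPart s H) := by
  obtain ⟨P, hP⟩ := exists_sylow_eq hH s
  rw [hP]
  exact P.isPGroup'.map _

lemma card_sPart (hH : Group.IsNilpotent H) (s : ℕ) [Fact s.Prime] :
    Nat.card (sPart s H) = s ^ (Nat.card H).factorization s := by
  obtain ⟨P, hP⟩ := exists_sylow_eq hH s
  rw [hP, Nat.card_congr ((P : Subgroup H).equivMapOfInjective H.subtype
    (Subgroup.subtype_injective H)).symm.toEquiv]
  exact P.card_eq_multiplicity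

lemma sPart_ne_bot (hH : Group.IsNilpotent H) (s : ℕ) [Fact s.Prime] (hs : s ∣ Nat.card H) :
    sPart s H ≠ ⊥ := by
  intro h
  have hc := card_sPart hH s
  rw [h, Subgroup.card_bot] at hc
  have hpos : 0 < (Nat.card H).factorization s :=
    (Fact.out : s.Prime).factorization_pos_of_dvd Nat.card_pos.ne' hs
  have : 1 < s ^ (Nat.card H).factorization s :=
    Nat.one_lt_pow hpos.ne' (Fact.out : s.Prime).one_lt
  omega

lemma sPart_eq_bot_of_not_dvd (s : ℕ) [Fact s.Prime] (hs : ¬ s ∣ Nat.card H) :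
    sPart s H = ⊥ := by
  rw [sPart, Subgroup.closure_eq_bot_iff]
  rintro x ⟨hx, n, hn⟩
  have hord : orderOf x ∣ s ^ n := orderOf_dvd_of_pow_eq_one hn
  have h2 : orderOf x ∣ Nat.card H := by
    have := orderOf_dvd_natCard (⟨x, hx⟩ : H)
    rwa [Subgroup.orderOf_mk] at this
  have hcop : (s ^ n).Coprime (Nat.card H) :=
    Nat.Coprime.pow_left n ((Nat.Prime.coprime_iff_not_dvd (Fact.out : s.Prime)).2 hs)
  have : orderOf x = 1 := Nat.eq_one_of_dvd_coprimes hcop hord h2
  exact orderOf_eq_one_iff.1 this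

lemma sPart_commute (hH : Group.IsNilpotent H) {s t : ℕ} [Fact s.Prime] [Fact t.Prime] (hst : s ≠ t)
    {x y : G} (hx : x ∈ sPart s H) (hy : y ∈ sPart t H) : x * y = y * x := by
  have hxH := sPart_le s H hx
  have hyH := sPart_le t H hy
  have h1 : y⁻¹ * x * y ∈ sPart s H := by
    have := (Subgroup.mem_normalizer_iff.1 (le_normalizer_sPart s H (inv_mem hyH)) x).1 hx
    simpa using this
  have h2 : x⁻¹ * y⁻¹ * x ∈ sPart t H := by
    have := (Subgroup.mem_normalizer_iff.1 (le_normalizer_sPart t H (inv_mem hxH)) y⁻¹).1 (inv_mem hy)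
    simpa using this
  have hc1 : x⁻¹ * y⁻¹ * x * y ∈ sPart s H := by
    have := mul_mem (inv_mem hx) h1
    simpa [mul_assoc] using this
  have hc2 : x⁻¹ * y⁻¹ * x * y ∈ sPart t H := mul_mem h2 hy
  obtain ⟨n, hn⟩ := isPGroup_sPart hH s ⟨_, hc1⟩
  obtain ⟨m, hm⟩ := isPGroup_sPart hH t ⟨_, hc2⟩
  have hn' : (x⁻¹ * y⁻¹ * x * y) ^ s ^ n = 1 := by simpa using congrArg Subtype.val hn
  have hm' : (x⁻¹ * y⁻¹ * x * y) ^ t ^ m = 1 := by simpa using congrArg Subtype.val hm
  have hcop : (s ^ n).Coprime (t ^ m) :=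
    Nat.Coprime.pow _ _ ((Nat.coprime_primes (Fact.out : s.Prime) (Fact.out : t.Prime)).2 hst)
  have h1' : orderOf (x⁻¹ * y⁻¹ * x * y) = 1 :=
    Nat.eq_one_of_dvd_coprimes hcop (orderOf_dvd_of_pow_eq_one hn') (orderOf_dvd_of_pow_eq_one hm')
  have h3 : x⁻¹ * y⁻¹ * x * y = 1 := orderOf_eq_one_iff.1 h1'
  calc x * y = y * x * (x⁻¹ * y⁻¹ * x * y) := by group
    _ = y * x := by rw [h3, mul_one]

lemma le_of_sPart_le (hH : Group.IsNilpotent H) {X : Subgroup G}
    (h : ∀ s : ℕ, s.Prime → sPart s H ≤ X) : H ≤ X := by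
  have : X.subgroupOf H = ⊤ := by
    apply Cfsg.Agent.H1.eq_top_of_forall_sylow_le
    intro p hp
    obtain ⟨P, hP⟩ := exists_sylow_eq hH p
    refine ⟨P, ?_⟩
    intro x hx
    rw [Subgroup.mem_subgroupOf]
    apply h p hp.out
    rw [hP]
    exact ⟨x, hx, rfl⟩
  rwa [Subgroup.subgroupOf_eq_top] at this

/-- a nontrivial central element of `H` inside the `r`-part -/
lemma exists_central (hH : Group.IsNilpotent H) (r : ℕ) [Fact r.Prime] (hr : r ∣ Nat.card H) :
    ∃ a ∈ sPart r H, a ≠ 1 ∧ ∀ h ∈ H, h * a = a * h := by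
  have hne := sPart_ne_bot hH r hr
  have : Nontrivial (sPart r H) := (Subgroup.nontrivial_iff_ne_bot _).2 hne
  have : Finite (sPart r H) := inferInstance
  have : Nontrivial (Subgroup.center (sPart r H)) := (isPGroup_sPart hH r).center_nontrivial
  obtain ⟨⟨z, hz⟩, hz1⟩ := exists_ne (1 : Subgroup.center (sPart r H))
  refine ⟨z.1, z.2, ?_, ?_⟩
  · intro h
    apply hz1
    apply Subtype.ext
    apply Subtype.ext
    simpa using h
  · have hcent : H ≤ Subgroup.centralizer ({(z : G)} : Set G) := by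
      apply le_of_sPart_le hH
      intro t ht y hy
      rw [Subgroup.mem_centralizer_singleton_iff]
      have := Fact.mk ht
      by_cases htr : t = r
      · subst htr
        have := Subgroup.mem_center_iff.1 hz ⟨y, hy⟩
        have := congrArg Subtype.val this
        simpa using this
      · exact (sPart_commute hH htr hy z.2)
    intro h hh
    have := hcent hh
    rw [Subgroup.mem_centralizer_singleton_iff] at this
    exact this

end nilp

end Cfsg.Agent.Lib.Helper4.KW
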