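import Mathlib
import Cfsg.Agent.Lib.Helper4.KWA
import Cfsg.Agent.S0566

/-! Kegel's reduction, part A: permuting subgroups, Lemma K (a `p`-subgroup permuting with a
conjugation-invariant family of `p`-subgroups lies in a `p`-subgroup normalised by the family),
and normal `p`-subgroups of normal subgroups lie in `O_p` (helper4; Lemma K is due to lead). -/

set_option autoImplicit false
open scoped Pointwise

namespace Cfsg.Agent.Lib.Helper4.KW

variable {G : Type*} [Group G]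

/-- `Z X ⊆ X Z` elementwise (for finite groups: `X` and `Z` permute) -/
def Sw (X Z : Subgroup G) : Prop :=
  ∀ z ∈ Z, ∀ x ∈ X, ∃ x' ∈ X, ∃ z' ∈ Z, z * x = x' * z'

lemma Sw.of_eq {X Z S : Subgroup G} (hS : (S : Set G) = (X : Set G) * (Z : Set G)) : Sw X Z :=
  Cfsg.Agent.S0566.swap_of_eq X Z S hS

lemma Sw.sup {X Y Z : Subgroup G} (hX : Sw X Z) (hY : Sw Y Z) : Sw (X ⊔ Y) Z := by
  intro z hz w hw
  exact (Cfsg.Agent.S0566.sup_perm X Y Z hX hY w hw).1 z hz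

lemma Sw.conj {X Z : Subgroup G} (h : Sw X Z) (g : G) :
    Sw (MulAut.conj g • X) (MulAut.conj g • Z) := by
  intro z hz x hx
  rw [mem_conj] at hz hx
  obtain ⟨x', hx', z', hz', e⟩ := h _ hz _ hx
  refine ⟨g * x' * g⁻¹, conj_mem_conj hx', g * z' * g⁻¹, conj_mem_conj hz', ?_⟩
  calc z * x = g * ((g⁻¹ * z * g) * (g⁻¹ * x * g)) * g⁻¹ := by group
    _ = g * (x' * z') * g⁻¹ := by rw [e]
    _ = g * x' * g⁻¹ * (g * z' * g⁻¹) := by group

/-- the product set of permuting subgroups is the join -/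
lemma Sw.mem_sup {X Z : Subgroup G} (h : Sw X Z) {w : G} (hw : w ∈ X ⊔ Z) :
    ∃ x ∈ X, ∃ z ∈ Z, w = x * z := by
  rw [Subgroup.sup_eq_closure] at hw
  induction hw using Subgroup.closure_induction with
  | mem w hw =>
    rcases hw with hx | hz
    · exact ⟨w, hx, 1, Z.one_mem, by rw [mul_one]⟩
    · exact ⟨1, X.one_mem, w, hz, by rw [one_mul]⟩
  | one => exact ⟨1, X.one_mem, 1, Z.one_mem, by rw [mul_one]⟩
  | mul a b _ _ iha ihb =>
    obtain ⟨x1, hx1, z1, hz1, e1⟩ := iha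
    obtain ⟨x2, hx2, z2, hz2, e2⟩ := ihb
    obtain ⟨x', hx', z', hz', e⟩ := h z1 hz1 x2 hx2
    refine ⟨x1 * x', X.mul_mem hx1 hx', z' * z2, Z.mul_mem hz' hz2, ?_⟩
    calc a * b = x1 * (z1 * x2) * z2 := by rw [e1, e2]; group
      _ = x1 * x' * (z' * z2) := by rw [e]; group
  | inv a _ iha =>
    obtain ⟨x1, hx1, z1, hz1, e1⟩ := iha
    obtain ⟨x', hx', z', hz', e⟩ := h z1⁻¹ (Z.inv_mem hz1) x1⁻¹ (X.inv_mem hx1)
    exact ⟨x', hx', z', hz', by rw [e1, mul_inv_rev, e]⟩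

/-- the join of two permuting `p`-subgroups is a `p`-group -/
lemma Sw.isPGroup [Finite G] {p : ℕ} [Fact p.Prime] {X Z : Subgroup G} (h : Sw X Z)
    (hX : IsPGroup p X) (hZ : IsPGroup p Z) : IsPGroup p (X ⊔ Z : Subgroup G) := by
  -- the set `X * Z` has `|Z| * |orbit|` elements
  have hset : ((X ⊔ Z : Subgroup G) : Set G) = (X : Set G) * (Z : Set G) := by
    ext w
    constructor
    · intro hw
      obtain ⟨x, hx, z, hz, e⟩ := h.mem_sup hw
      exact Set.mem_mul.2 ⟨x, hx, z, hz, e.symm⟩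
    · intro hw
      obtain ⟨x, hx, z, hz, e⟩ := Set.mem_mul.1 hw
      rw [← e]
      exact mul_mem (Subgroup.mem_sup_left hx) (Subgroup.mem_sup_right hz)
  have hcard := Subgroup.card_mul_eq_card_subgroup_mul_card_quotient Z (X : Set G)
  -- the image of `X` in `G ⧸ Z` is the orbit of the base point under `X`
  have himg : ((X : Set G).image ((↑) : G → G ⧸ Z)) = MulAction.orbit X ((1 : G) : G ⧸ Z) := by
    ext q
    constructor
    · rintro ⟨x, hx, rfl⟩
      refine ⟨⟨x, hx⟩, ?_⟩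
      have h0 : (⟨x, hx⟩ : X) • ((1 : G) : G ⧸ Z) = (x : G) • ((1 : G) : G ⧸ Z) := rfl
      show (⟨x, hx⟩ : X) • ((1 : G) : G ⧸ Z) = _
      rw [h0, MulAction.Quotient.smul_mk, smul_eq_mul, mul_one]
    · rintro ⟨⟨x, hx⟩, rfl⟩
      refine ⟨x, hx, ?_⟩
      have h0 : (⟨x, hx⟩ : X) • ((1 : G) : G ⧸ Z) = (x : G) • ((1 : G) : G ⧸ Z) := rfl
      show _ = (⟨x, hx⟩ : X) • ((1 : G) : G ⧸ Z)
      rw [h0, MulAction.Quotient.smul_mk, smul_eq_mul, mul_one]
  have horb : Nat.card (MulAction.orbit X ((1 : G) : G ⧸ Z)) ∣ Nat.card X := by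
    rw [Nat.card_coe_set_eq, ← MulAction.index_stabilizer]
    exact Subgroup.index_dvd_card _
  obtain ⟨n, hn⟩ := (IsPGroup.iff_card (p := p)).1 hX
  obtain ⟨m, hm⟩ := (IsPGroup.iff_card (p := p)).1 hZ
  rw [hn] at horb
  obtain ⟨k, _, hk⟩ := (Nat.dvd_prime_pow (Fact.out : p.Prime)).1 horb
  have hc : Nat.card (X ⊔ Z : Subgroup G) = p ^ (m + k) := by
    have h1 : Nat.card (X ⊔ Z : Subgroup G) = Nat.card ((X : Set G) * (Z : Set G) : Set G) := by
      rw [← hset]; rfl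
    rw [h1, hcard, himg, hk, hm, pow_add]
  exact IsPGroup.of_card hc

/-- **Lemma K** (lead): a `p`-subgroup `X` permuting with every member of a conjugation-invariant
family of `p`-subgroups lies in a `p`-subgroup normalised by every member of the family. -/
theorem lemmaK [Finite G] {p : ℕ} [Fact p.Prime] (FB : Set (Subgroup G))
    (hconj : ∀ Y ∈ FB, ∀ g : G, MulAut.conj g • Y ∈ FB) (hp : ∀ Y ∈ FB, IsPGroup p Y)
    (X : Subgroup G) (hX : IsPGroup p X) (hperm : ∀ Y ∈ FB, Sw X Y) :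
    ∃ X' : Subgroup G, X ≤ X' ∧ IsPGroup p X' ∧
      ∀ Y ∈ FB, Y ≤ Subgroup.normalizer (X' : Set G) := by
  classical
  let 𝒮 : Set (Subgroup G) := {X' | IsPGroup p X' ∧ ∀ Y ∈ FB, Sw X' Y}
  have hmem : X ∈ 𝒮 := ⟨hX, hperm⟩
  obtain ⟨X', hXX', hmax⟩ := (Set.toFinite 𝒮).exists_le_maximal hmem
  refine ⟨X', hXX', hmax.prop.1, ?_⟩
  intro Y hY y hy
  have hX'p := hmax.prop.1
  have hX'sw := hmax.prop.2
  -- the conjugate permutes with the whole family
  have hsw2 : ∀ Y' ∈ FB, Sw (MulAut.conj y • X') Y' := by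
    intro Y' hY'
    have h1 := (hX'sw _ (hconj Y' hY' y⁻¹)).conj y
    rwa [conj_conj_inv] at h1
  have hsw3 : ∀ Y' ∈ FB, Sw (X' ⊔ MulAut.conj y • X') Y' :=
    fun Y' hY' => (hX'sw Y' hY').sup (hsw2 Y' hY')
  -- it is a `p`-group, being inside `X' ⊔ Y`
  have hle : X' ⊔ MulAut.conj y • X' ≤ X' ⊔ Y := by
    apply sup_le le_sup_left
    intro w hw
    rw [mem_conj] at hw
    have : w = y * (y⁻¹ * w * y) * y⁻¹ := by group
    rw [this]
    exact mul_mem (mul_mem (Subgroup.mem_sup_right hy) (Subgroup.mem_sup_left hw))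
      (inv_mem (Subgroup.mem_sup_right hy))
  have hp3 : IsPGroup p (X' ⊔ MulAut.conj y • X' : Subgroup G) :=
    ((hX'sw Y hY).isPGroup hX'p (hp Y hY)).to_le hle
  have heq : X' ⊔ MulAut.conj y • X' ≤ X' := hmax.le_of_ge ⟨hp3, hsw3⟩ le_sup_left
  have h4 : MulAut.conj y • X' ≤ X' := le_sup_right.trans heq
  rw [mem_normalizer_iff_conj]
  exact conj_eq_of_le h4

/-- a `p`-subgroup of a normal subgroup `M`, normalised by `M`, lies in `O_p(G)` -/
theorem le_pCore_of_normal_in_normal [Finite G] {p : ℕ} [Fact p.Prime] {M T : Subgroup G}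
    [hM : M.Normal] (hTM : T ≤ M) (hT : IsPGroup p T)
    (hn : M ≤ Subgroup.normalizer (T : Set G)) : T ≤ Cfsg.pCore p G := by
  classical
  let 𝒮 : Set (Subgroup G) :=
    {T' | T' ≤ M ∧ IsPGroup p T' ∧ M ≤ Subgroup.normalizer (T' : Set G)}
  have hbot : (⊥ : Subgroup G) ∈ 𝒮 := by
    refine ⟨bot_le, IsPGroup.of_bot, ?_⟩
    intro m _
    rw [mem_normalizer_iff_conj]
    simp
  have hsup : ∀ A ∈ 𝒮, ∀ B ∈ 𝒮, A ⊔ B ∈ 𝒮 := by
    rintro A ⟨hA1, hA2, hA3⟩ B ⟨hB1, hB2, hB3⟩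
    refine ⟨sup_le hA1 hB1, IsPGroup.to_sup_of_normal_left' hA2 hB2 (hB1.trans hA3), ?_⟩
    intro m hm
    have h1 := mem_normalizer_iff_conj.1 (hA3 hm)
    have h2 := mem_normalizer_iff_conj.1 (hB3 hm)
    rw [mem_normalizer_iff_conj, Subgroup.smul_sup, h1, h2]
  have hO' := Cfsg.Agent.H1.sSup_mem_of_sup_closed 𝒮 hbot hsup
  obtain ⟨O, hOdef⟩ : ∃ O : Subgroup G, O = sSup 𝒮 := ⟨_, rfl⟩
  have hO : O ∈ 𝒮 := hOdef ▸ hO'
  have hconj : ∀ g : G, MulAut.conj g • O ≤ O := by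
    intro g
    rw [hOdef]
    apply le_sSup
    rw [← hOdef]
    obtain ⟨h1, h2, h3⟩ := hO
    have hMg : MulAut.conj g • M = M := Subgroup.Normal.conj_smul_eq_self g M
    refine ⟨?_, ?_, ?_⟩
    · rw [← hMg]; exact conj_le_iff.2 h1
    · have e : O ≃* (MulAut.conj g • O : Subgroup G) :=
        Subgroup.equivSMul (MulAut.conj g) O
      exact h2.of_equiv e
    · intro m hm
      have hm' : g⁻¹ * m * g ∈ M := by
        have := hM.conj_mem m hm g⁻¹
        simpa using this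
      have h4 := mem_normalizer_iff_conj.1 (h3 hm')
      rw [mem_normalizer_iff_conj, conj_conj]
      have : m * g = g * (g⁻¹ * m * g) := by group
      rw [this, ← conj_conj, h4]
  have hnorm : O.Normal := by
    refine ⟨fun n hn g => ?_⟩
    exact hconj g (conj_mem_conj hn)
  have hTO : T ≤ O := by
    rw [hOdef]
    exact le_sSup (⟨hTM, hT, hn⟩ : T ∈ 𝒮)
  exact hTO.trans (Cfsg.Agent.H1.le_pCore hnorm hO.2.1)

end Cfsg.Agent.Lib.Helper4.KW
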