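import Mathlib
import Cfsg.Agent.Lib.Helper4.KegelA
import Cfsg.Agent.S0560

/-! Kegel's reduction, part B: the Kegel–Wielandt theorem from its coprime case (helper4;
the reduction via Lemma K is due to lead). -/

set_option autoImplicit false
open scoped Pointwise

namespace Cfsg.Agent.Lib.Helper4.KW

universe u

/-- the coprime case (Wielandt), as a hypothesis -/
def CoprimeThm : Prop :=
  ∀ (G : Type u) [Group G] [Finite G] (H K : Subgroup G), Group.IsNilpotent H →
    Group.IsNilpotent K → (Nat.card H).Coprime (Nat.card K) →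
    (∀ g : G, ∃ h ∈ H, ∃ k ∈ K, g = h * k) → Group.IsSolvable G

lemma isPGroup_conj {G : Type*} [Group G] {p : ℕ} {Y : Subgroup G} (hY : IsPGroup p Y) (g : G) :
    IsPGroup p (MulAut.conj g • Y : Subgroup G) :=
  hY.of_equiv (Subgroup.equivSMul (MulAut.conj g) Y)

theorem kegel_aux (hW : CoprimeThm.{u}) : ∀ (n : ℕ) (G : Type u) [Group G] [Finite G]
    (A B : Subgroup G), Nat.card G = n → Group.IsNilpotent A → Group.IsNilpotent B →
    (∀ g : G, ∃ a ∈ A, ∃ b ∈ B, g = a * b) → Group.IsSolvable G := by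
  intro n
  induction n using Nat.strong_induction_on with
  | _ n ih =>
  intro G _ _ A B hn hA hB hfac
  by_contra hns
  -- proper quotients are solvable
  have hquot : ∀ N : Subgroup G, ∀ _ : N.Normal, N ≠ ⊥ → Group.IsSolvable (G ⧸ N) := by
    intro N hN hNb
    have hlt : Nat.card (G ⧸ N) < n := by
      rw [← hn, ← Subgroup.index_eq_card]
      have h1 := N.card_mul_index
      have h2 : 1 < Nat.card N := by
        rw [Subgroup.one_lt_card_iff_ne_bot]; exact hNb
      have h3 : 0 < N.index := Nat.pos_of_ne_zero Subgroup.index_ne_zero_of_finite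
      nlinarith
    have := hA
    have := hB
    refine ih _ hlt (G ⧸ N) (A.map (QuotientGroup.mk' N)) (B.map (QuotientGroup.mk' N)) rfl
      (Group.nilpotent_of_surjective _ ((QuotientGroup.mk' N).subgroupMap_surjective A))
      (Group.nilpotent_of_surjective _ ((QuotientGroup.mk' N).subgroupMap_surjective B)) ?_
    intro g
    obtain ⟨g, rfl⟩ := QuotientGroup.mk'_surjective N g
    obtain ⟨a, ha, b, hb, e⟩ := hfac g
    exact ⟨_, ⟨a, ha, rfl⟩, _, ⟨b, hb, rfl⟩, by rw [e, map_mul]⟩
  -- no nontrivial solvable normal subgroup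
  have hsolvN : ∀ N : Subgroup G, N.Normal → Group.IsSolvable N → N = ⊥ := by
    intro N hN hNs
    by_contra hNb
    have := hquot N hN hNb
    exact hns (Group.isSolvable_of_ker_le_range N.subtype (QuotientGroup.mk' N) (by simp))
  by_cases hcop : (Nat.card A).Coprime (Nat.card B)
  · exact hns (hW G A B hA hB hcop hfac)
  obtain ⟨p, hp, hpA, hpB⟩ := Nat.Prime.not_coprime_iff_dvd.1 hcop
  have : Fact p.Prime := ⟨hp⟩
  have hApne : sPart p A ≠ ⊥ := sPart_ne_bot hA p hpA
  have hBpne : sPart p B ≠ ⊥ := sPart_ne_bot hB p hpB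
  have hApp : IsPGroup p (sPart p A) := isPGroup_sPart hA p
  have hBpp : IsPGroup p (sPart p B) := isPGroup_sPart hB p
  -- `A_p` and `B_p` permute
  have hsw0 : Sw (sPart p A) (sPart p B) := by
    obtain ⟨P, Q, R, hR⟩ := Cfsg.Agent.S0560.result A B hfac p
    rw [sylow_map_eq hA p P, sylow_map_eq hB p Q] at hR
    exact Sw.of_eq hR
  -- the family of conjugates of `B_p`
  let FB : Set (Subgroup G) := {Y | ∃ g : G, Y = MulAut.conj g • sPart p B}
  have hFBconj : ∀ Y ∈ FB, ∀ g : G, MulAut.conj g • Y ∈ FB := by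
    rintro Y ⟨g', rfl⟩ g
    exact ⟨g * g', conj_conj g g' _⟩
  have hFBp : ∀ Y ∈ FB, IsPGroup p Y := by
    rintro Y ⟨g', rfl⟩
    exact isPGroup_conj hBpp g'
  have hperm : ∀ Y ∈ FB, Sw (sPart p A) Y := by
    rintro Y ⟨g, rfl⟩
    obtain ⟨a, ha, b, hb, e⟩ := hfac g
    have h1 : MulAut.conj b • sPart p B = sPart p B :=
      mem_normalizer_iff_conj.1 (le_normalizer_sPart p B hb)
    have h2 : MulAut.conj a • sPart p A = sPart p A :=
      mem_normalizer_iff_conj.1 (le_normalizer_sPart p A ha)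
    have h3 := hsw0.conj a
    rw [h2] at h3
    rw [e, ← conj_conj, h1]
    exact h3
  obtain ⟨X', hAX', hX'p, hX'n⟩ := lemmaK FB hFBconj hFBp (sPart p A) hApp hperm
  -- the normal closure `V` of `B_p` normalises `X'`
  have hVn : Subgroup.normalClosure ((sPart p B : Subgroup G) : Set G) ≤
      Subgroup.normalizer (X' : Set G) := by
    rw [Subgroup.normalClosure, Subgroup.closure_le]
    intro x hx
    obtain ⟨b, hb, hconj⟩ := Group.mem_conjugatesOfSet_iff.1 hx
    obtain ⟨g, rfl⟩ := isConj_iff.1 hconj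
    exact hX'n _ ⟨g, rfl⟩ (conj_mem_conj hb)
  obtain ⟨V, hVdef⟩ : ∃ V : Subgroup G,
      V = Subgroup.normalClosure ((sPart p B : Subgroup G) : Set G) := ⟨_, rfl⟩
  rw [← hVdef] at hVn
  have hVnormal : V.Normal := hVdef ▸ Subgroup.normalClosure_normal
  have hBV : sPart p B ≤ V := hVdef ▸ Subgroup.le_normalClosure
  have hVne : V ≠ ⊥ := fun h => hBpne (le_bot_iff.1 (h ▸ hBV))
  -- `X' ⊓ V` is a normal `p`-subgroup of `V`, hence trivial
  have hT : X' ⊓ V = ⊥ := by
    have h1 : X' ⊓ V ≤ Cfsg.pCore p G := by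
      apply le_pCore_of_normal_in_normal (M := V) inf_le_right (hX'p.to_le inf_le_left)
      intro v hv
      have e1 := mem_normalizer_iff_conj.1 (hVn hv)
      have e2 : MulAut.conj v • V = V := Subgroup.Normal.conj_smul_eq_self v V
      have : Finite (X' ⊓ V : Subgroup G) := inferInstance
      rw [mem_normalizer_iff_conj]
      apply conj_eq_of_le
      intro w hw
      rw [mem_conj] at hw
      have hw1 : w ∈ MulAut.conj v • X' := mem_conj.2 hw.1
      have hw2 : w ∈ MulAut.conj v • V := mem_conj.2 hw.2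
      rw [e1] at hw1
      rw [e2] at hw2
      exact ⟨hw1, hw2⟩
    have h2 : Cfsg.pCore p G = ⊥ := by
      apply hsolvN _ inferInstance
      have := (Cfsg.Agent.H1.pCore_isPGroup (G := G) p).isNilpotent
      infer_instance
    rw [h2] at h1
    exact le_bot_iff.1 h1
  -- so `A_p` centralises `V`
  have hAC : sPart p A ≤ Subgroup.centralizer (V : Set G) := by
    intro x hx
    rw [Subgroup.mem_centralizer_iff]
    intro v hv
    have hxX : x ∈ X' := hAX' hx
    have h1 : v⁻¹ * x * v ∈ X' := by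
      have := (Subgroup.mem_normalizer_iff.1 (hVn (inv_mem hv)) x).1 hxX
      simpa using this
    have h2 : x⁻¹ * v⁻¹ * x ∈ V := by
      have := hVnormal.conj_mem v⁻¹ (inv_mem hv) x⁻¹
      simpa using this
    have h3 : x⁻¹ * v⁻¹ * x * v ∈ X' ⊓ V := by
      constructor
      · have := mul_mem (inv_mem hxX) h1
        simpa [mul_assoc] using this
      · exact mul_mem h2 hv
    rw [hT, Subgroup.mem_bot] at h3
    calc v * x = x * v * (x⁻¹ * v⁻¹ * x * v)⁻¹ := by group
      _ = x * v := by rw [h3, inv_one, mul_one]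
  obtain ⟨C, hCdef⟩ : ∃ C : Subgroup G, C = Subgroup.centralizer (V : Set G) := ⟨_, rfl⟩
  rw [← hCdef] at hAC
  have hCnormal : C.Normal := hCdef ▸ Subgroup.normal_centralizer
  have hCne : C ≠ ⊥ := fun h => hApne (le_bot_iff.1 (h ▸ hAC))
  -- `V ⊓ C` is abelian normal, hence trivial
  have hVC : V ⊓ C = ⊥ := by
    apply hsolvN _ inferInstance
    apply Group.isSolvable_of_comm
    rintro ⟨x, hx⟩ ⟨y, hy⟩
    apply Subtype.ext
    have hy' : y ∈ Subgroup.centralizer (V : Set G) := hCdef ▸ hy.2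
    have := Subgroup.mem_centralizer_iff.1 hy' x hx.1
    exact this
  have := hquot V hVnormal hVne
  have := hquot C hCnormal hCne
  apply hns
  apply Group.isSolvable_of_isSolvable_injective
    (f := (QuotientGroup.mk' V).prod (QuotientGroup.mk' C))
  rw [← MonoidHom.ker_eq_bot_iff, MonoidHom.ker_prod, QuotientGroup.ker_mk', QuotientGroup.ker_mk',
    hVC]

/-- the Kegel–Wielandt theorem, given its coprime case -/
theorem kegel (hW : CoprimeThm.{u}) (G : Type u) [Group G] [Finite G]
    (A B : Subgroup G) (hA : Group.IsNilpotent A) (hB : Group.IsNilpotent B)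
    (hfac : ∀ g : G, ∃ a ∈ A, ∃ b ∈ B, g = a * b) : Group.IsSolvable G :=
  kegel_aux hW _ G A B rfl hA hB hfac

end Cfsg.Agent.Lib.Helper4.KW
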