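import Mathlib
import Cfsg.Agent.S0572
import Cfsg.Agent.S0564

/-! Products `G = AB` of an abelian subgroup and a class-two subgroup: derived length bound
`2 (1 + Ω(|B'|))` (helper4).

Proof: with `X` the normal closure of `B'`, `G/X` is metabelian (Itô), `H = AX = A (B ∩ AX)` and
`(B ∩ AX)' ≤ X'`, because `A ∩ XB` centralizes `X/X'`; as `G` is solvable `X' < X`, so
`|(B ∩ AX)'|` has fewer prime factors and induction applies to `H`. -/

set_option autoImplicit false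
open scoped commutatorElement

namespace Cfsg.Agent.Lib.Helper4.AbClassTwo

universe u

/-- Itô's theorem modulo a normal subgroup containing `B'`. -/
lemma derivedSeries_two_le {G : Type*} [Group G] (A B X : Subgroup G) [hX : X.Normal]
    (hA : ∀ x ∈ A, ∀ y ∈ A, x * y = y * x) (hBX : ⁅B, B⁆ ≤ X)
    (hAB : ∀ g : G, ∃ a ∈ A, ∃ b ∈ B, g = a * b) : derivedSeries G 2 ≤ X := by
  have hA' : IsMulCommutative (A.map (QuotientGroup.mk' X)) := by
    refine ⟨⟨?_⟩⟩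
    rintro ⟨_, a, ha, rfl⟩ ⟨_, b, hb, rfl⟩
    apply Subtype.ext
    show QuotientGroup.mk' X a * QuotientGroup.mk' X b
      = QuotientGroup.mk' X b * QuotientGroup.mk' X a
    rw [← map_mul, ← map_mul, hA a ha b hb]
  have hB' : IsMulCommutative (B.map (QuotientGroup.mk' X)) := by
    refine ⟨⟨?_⟩⟩
    rintro ⟨_, a, ha, rfl⟩ ⟨_, b, hb, rfl⟩
    apply Subtype.ext
    show QuotientGroup.mk' X a * QuotientGroup.mk' X b
      = QuotientGroup.mk' X b * QuotientGroup.mk' X a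
    rw [← map_mul, ← map_mul, QuotientGroup.mk'_eq_mk']
    refine ⟨⁅b⁻¹, a⁻¹⁆, hBX (Subgroup.commutator_mem_commutator (B.inv_mem hb) (B.inv_mem ha)), ?_⟩
    rw [commutatorElement_def]; group
  have h := Cfsg.Agent.S0572.result (A.map (QuotientGroup.mk' X)) (B.map (QuotientGroup.mk' X)) (by
    intro g
    obtain ⟨g, rfl⟩ := QuotientGroup.mk'_surjective X g
    obtain ⟨a, ha, b, hb, e⟩ := hAB g
    exact ⟨_, ⟨a, ha, rfl⟩, _, ⟨b, hb, rfl⟩, by rw [e, map_mul]⟩)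
  have h2 := map_derivedSeries_le_derivedSeries (QuotientGroup.mk' X) 2
  rw [h, le_bot_iff, Subgroup.map_eq_bot_iff, QuotientGroup.ker_mk'] at h2
  exact h2

/-- the derived series of `G` below a subgroup `H` is bounded by the derived series of `H` -/
lemma derivedSeries_add_le {G : Type*} [Group G] (H : Subgroup G) (j : ℕ)
    (h : derivedSeries G j ≤ H) (m : ℕ) :
    derivedSeries G (j + m) ≤ (derivedSeries H m).map H.subtype := by
  induction m with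
  | zero =>
    rw [derivedSeries_zero, ← MonoidHom.range_eq_map, Subgroup.range_subtype]
    exact h
  | succ m ih =>
    rw [← add_assoc, derivedSeries_succ, derivedSeries_succ, Subgroup.map_commutator]
    exact Subgroup.commutator_mono ih ih

/-- the key step: `A ∩ XB` centralizes `X / X'`, where `X` is the normal closure of `B'` -/
lemma conj_mem_mul_commutator {G : Type*} [Group G] (A B : Subgroup G)
    (hA : ∀ x ∈ A, ∀ y ∈ A, x * y = y * x)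
    (hB : ∀ c ∈ ⁅B, B⁆, ∀ b ∈ B, b * c = c * b)
    (hAB : ∀ g : G, ∃ a ∈ A, ∃ b ∈ B, g = a * b)
    (X : Subgroup G) [hXn : X.Normal]
    (hXdef : X = Subgroup.normalClosure ((⁅B, B⁆ : Subgroup G) : Set G))
    (a0 : G) (ha0 : a0 ∈ A) (x0 b : G) (hx0 : x0 ∈ X) (hb : b ∈ B) (ha0e : a0 = x0 * b)
    (x : G) (hx : x ∈ X) :
    QuotientGroup.mk' ⁅X, X⁆ a0 * QuotientGroup.mk' ⁅X, X⁆ x
      = QuotientGroup.mk' ⁅X, X⁆ x * QuotientGroup.mk' ⁅X, X⁆ a0 := by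
  have hYn : (⁅X, X⁆ : Subgroup G).Normal := Subgroup.commutator_normal X X
  have hBX : ⁅B, B⁆ ≤ X := hXdef ▸ Subgroup.le_normalClosure
  -- the set of `x` commuting with `a0` modulo `X'` is a subgroup
  let T : Subgroup G :=
    (Subgroup.centralizer ({QuotientGroup.mk' ⁅X, X⁆ a0} : Set (G ⧸ ⁅X, X⁆))).comap
      (QuotientGroup.mk' ⁅X, X⁆)
  have hT : X ≤ T := by
    rw [hXdef, Subgroup.normalClosure, Subgroup.closure_le]
    intro y hy
    rw [Group.mem_conjugatesOfSet_iff] at hy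
    obtain ⟨c, hc, hcy⟩ := hy
    rw [isConj_iff] at hcy
    obtain ⟨g, rfl⟩ := hcy
    obtain ⟨a, ha, b', hb', rfl⟩ := hAB g
    have hc' : c ∈ ⁅B, B⁆ := hc
    have e1 : b' * c * b'⁻¹ = c := by rw [hB c hc' b' hb', mul_inv_cancel_right]
    have e2 : b * c * b⁻¹ = c := by rw [hB c hc' b hb, mul_inv_cancel_right]
    have e3 : a0 * a = a * a0 := hA a0 ha0 a ha
    have hy1 : a * b' * c * (a * b')⁻¹ = a * c * a⁻¹ := by
      have : a * b' * c * (a * b')⁻¹ = a * (b' * c * b'⁻¹) * a⁻¹ := by group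
      rw [this, e1]
    rw [hy1]
    have hd : ⁅c⁻¹, x0⁆ ∈ ⁅X, X⁆ :=
      Subgroup.commutator_mem_commutator (X.inv_mem (hBX hc')) hx0
    have hconj : a0 * (a * c * a⁻¹) * a0⁻¹ = a * c * a⁻¹ * (a * ⁅c⁻¹, x0⁆ * a⁻¹) := by
      have s1 : a0 * (a * c * a⁻¹) * a0⁻¹ = (a0 * a) * c * (a0 * a)⁻¹ := by group
      have s2 : (a * a0) * c * (a * a0)⁻¹ = a * (a0 * c * a0⁻¹) * a⁻¹ := by group
      have s3 : a0 * c * a0⁻¹ = x0 * (b * c * b⁻¹) * x0⁻¹ := by rw [ha0e]; group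
      rw [s1, e3, s2, s3, e2, commutatorElement_def]; group
    show QuotientGroup.mk' ⁅X, X⁆ (a * c * a⁻¹) ∈ Subgroup.centralizer _
    rw [Subgroup.mem_centralizer_iff]
    intro h hh
    rw [Set.mem_singleton_iff] at hh
    rw [hh]
    have h1 : QuotientGroup.mk' ⁅X, X⁆ (a0 * (a * c * a⁻¹) * a0⁻¹)
        = QuotientGroup.mk' ⁅X, X⁆ (a * c * a⁻¹) := by
      rw [hconj, QuotientGroup.mk'_eq_mk']
      exact ⟨(a * ⁅c⁻¹, x0⁆ * a⁻¹)⁻¹, Subgroup.inv_mem _ (hYn.conj_mem _ hd a),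
        by rw [mul_inv_cancel_right]⟩
    rw [map_mul, map_mul, map_inv] at h1
    exact mul_inv_eq_iff_eq_mul.1 h1
  have := hT hx
  have h2 : QuotientGroup.mk' ⁅X, X⁆ x ∈ Subgroup.centralizer
      ({QuotientGroup.mk' ⁅X, X⁆ a0} : Set (G ⧸ ⁅X, X⁆)) := this
  rw [Subgroup.mem_centralizer_iff] at h2
  exact h2 _ rfl

/-- `(B ∩ AX)' ≤ X'` -/
lemma commutator_inf_le {G : Type*} [Group G] (A B : Subgroup G)
    (hA : ∀ x ∈ A, ∀ y ∈ A, x * y = y * x)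
    (hB : ∀ c ∈ ⁅B, B⁆, ∀ b ∈ B, b * c = c * b)
    (hAB : ∀ g : G, ∃ a ∈ A, ∃ b ∈ B, g = a * b)
    (X : Subgroup G) [hXn : X.Normal]
    (hXdef : X = Subgroup.normalClosure ((⁅B, B⁆ : Subgroup G) : Set G)) :
    ⁅B ⊓ (A ⊔ X), B ⊓ (A ⊔ X)⁆ ≤ ⁅X, X⁆ := by
  have hYn : (⁅X, X⁆ : Subgroup G).Normal := Subgroup.commutator_normal X X
  -- decomposition of elements of `B ∩ AX`
  have hdec : ∀ b1 ∈ B ⊓ (A ⊔ X), ∃ a ∈ A, ∃ x ∈ X, b1 = a * x ∧
      ∃ x0 ∈ X, ∃ b ∈ B, a = x0 * b := by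
    intro b1 hb1'
    obtain ⟨hb1B, hb1⟩ := Subgroup.mem_inf.1 hb1'
    rw [Subgroup.mem_sup_of_normal_right] at hb1
    obtain ⟨a, ha, x, hx, e⟩ := hb1
    refine ⟨a, ha, x, hx, e.symm, b1 * x⁻¹ * b1⁻¹, hXn.conj_mem _ (X.inv_mem hx) b1, b1, hb1B, ?_⟩
    rw [← e]; group
  rw [Subgroup.commutator_le]
  intro b1 hb1 b2 hb2
  obtain ⟨a1, ha1, x1, hx1, e1, x01, hx01, c1, hc1, f1⟩ := hdec b1 hb1
  obtain ⟨a2, ha2, x2, hx2, e2, x02, hx02, c2, hc2, f2⟩ := hdec b2 hb2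
  have k11 : Commute (QuotientGroup.mk' ⁅X, X⁆ a1) (QuotientGroup.mk' ⁅X, X⁆ a2) := by
    show _ * _ = _ * _
    rw [← map_mul, ← map_mul, hA a1 ha1 a2 ha2]
  have k12 : Commute (QuotientGroup.mk' ⁅X, X⁆ a1) (QuotientGroup.mk' ⁅X, X⁆ x2) :=
    conj_mem_mul_commutator A B hA hB hAB X hXdef a1 ha1 x01 c1 hx01 hc1 f1 x2 hx2
  have k21 : Commute (QuotientGroup.mk' ⁅X, X⁆ x1) (QuotientGroup.mk' ⁅X, X⁆ a2) :=
    (conj_mem_mul_commutator A B hA hB hAB X hXdef a2 ha2 x02 c2 hx02 hc2 f2 x1 hx1).symm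
  have k22 : Commute (QuotientGroup.mk' ⁅X, X⁆ x1) (QuotientGroup.mk' ⁅X, X⁆ x2) := by
    show _ * _ = _ * _
    rw [← map_mul, ← map_mul, QuotientGroup.mk'_eq_mk']
    refine ⟨⁅x2⁻¹, x1⁻¹⁆, Subgroup.commutator_mem_commutator (X.inv_mem hx2) (X.inv_mem hx1), ?_⟩
    rw [commutatorElement_def]; group
  have hcomm : Commute (QuotientGroup.mk' ⁅X, X⁆ b1) (QuotientGroup.mk' ⁅X, X⁆ b2) := by
    rw [e1, e2, map_mul, map_mul]
    exact (k11.mul_right k12).mul_left (k21.mul_right k22)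
  rw [← QuotientGroup.ker_mk' ⁅X, X⁆, MonoidHom.mem_ker, map_commutatorElement,
    commutatorElement_eq_one_iff_commute]
  exact hcomm

end Cfsg.Agent.Lib.Helper4.AbClassTwo
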