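import Mathlib
import Cfsg.Agent.Lib.Helper4.AbClassTwoA

/-! Products `G = AB` of an abelian subgroup and a class-two subgroup: the induction (helper4). -/

set_option autoImplicit false
open scoped commutatorElement

namespace Cfsg.Agent.Lib.Helper4.AbClassTwo

universe u

lemma isNilpotent_of_comm {G : Type*} [Group G] (A : Subgroup G)
    (hA : ∀ x ∈ A, ∀ y ∈ A, x * y = y * x) : Group.IsNilpotent A := by
  have : IsMulCommutative A := ⟨⟨fun x y => Subtype.ext (hA x x.2 y y.2)⟩⟩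
  exact ⟨⟨1, Subgroup.upperCentralSeries_one_eq_top_iff.2 this⟩⟩

lemma isNilpotent_of_class_two {G : Type*} [Group G] (B : Subgroup G)
    (hB : ∀ c ∈ ⁅B, B⁆, ∀ b ∈ B, b * c = c * b) : Group.IsNilpotent B := by
  refine ⟨⟨2, ?_⟩⟩
  rw [eq_top_iff]
  intro x _
  rw [mem_upperCentralSeries_succ_iff]
  intro y
  rw [upperCentralSeries_one, Subgroup.mem_center_iff]
  intro z
  apply Subtype.ext
  have hc : ((x * y * x⁻¹ * y⁻¹ : B) : G) ∈ ⁅B, B⁆ := by
    have := Subgroup.commutator_mem_commutator x.2 y.2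
    simpa [commutatorElement_def] using this
  exact hB _ hc z z.2

lemma not_le_commutator_of_solvable {G : Type*} [Group G] [Group.IsSolvable G] (X : Subgroup G)
    (hX : X ≠ ⊥) : ¬ X ≤ ⁅X, X⁆ := by
  intro h
  exact absurd h (not_le_of_gt (Group.IsSolvable.commutator_lt_of_ne_bot hX))

lemma omega_lt {G : Type*} [Group G] [Finite G] {K L : Subgroup G} (hKL : K ≤ L) (hne : K ≠ L) :
    (Nat.card K).primeFactorsList.length < (Nat.card L).primeFactorsList.length := by
  obtain ⟨k, hk⟩ := Subgroup.card_dvd_of_le hKL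
  have hk1 : k ≠ 1 := by
    intro h; rw [h, mul_one] at hk
    exact hne (Subgroup.eq_of_le_of_card_ge hKL hk.le)
  have hk0 : k ≠ 0 := by
    intro h; rw [h, mul_zero] at hk; exact Nat.card_pos.ne' hk
  rw [hk]
  have hp := Nat.perm_primeFactorsList_mul (Nat.card_pos.ne' : Nat.card K ≠ 0) hk0
  rw [hp.length_eq, List.length_append]
  have : 0 < k.primeFactorsList.length := by
    rw [List.length_pos_iff]
    intro h
    rcases (Nat.primeFactorsList_eq_nil _).1 h with h | h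
    · exact hk0 h
    · exact hk1 h
  omega

theorem main_aux : ∀ (n : ℕ) (G : Type u) [Group G] [Finite G] (A B : Subgroup G),
    (∀ x ∈ A, ∀ y ∈ A, x * y = y * x) →
    (∀ c ∈ ⁅B, B⁆, ∀ b ∈ B, b * c = c * b) →
    (∀ g : G, ∃ a ∈ A, ∃ b ∈ B, g = a * b) →
    (Nat.card (⁅B, B⁆ : Subgroup G)).primeFactorsList.length ≤ n →
    derivedSeries G (2 * (1 + n)) = ⊥ := by
  intro n
  induction n with
  | zero =>
    intro G _ _ A B hA hB hAB hΩ
    have h1 : (Nat.card (⁅B, B⁆ : Subgroup G)).primeFactorsList = [] :=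
      List.length_eq_zero_iff.1 (Nat.le_zero.1 hΩ)
    have h2 : Nat.card (⁅B, B⁆ : Subgroup G) = 1 := by
      rcases (Nat.primeFactorsList_eq_nil _).1 h1 with h | h
      · exact absurd h Nat.card_pos.ne'
      · exact h
    have h3 : (⁅B, B⁆ : Subgroup G) = ⊥ := Subgroup.card_eq_one.1 h2
    have := derivedSeries_two_le A B ⊥ hA (h3 ▸ le_refl _) hAB
    simpa using le_bot_iff.1 this
  | succ n ih =>
    intro G _ _ A B hA hB hAB hΩ
    by_cases hle : (Nat.card (⁅B, B⁆ : Subgroup G)).primeFactorsList.length ≤ n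
    · have := ih G A B hA hB hAB hle
      rw [eq_bot_iff, ← this]
      exact derivedSeries_antitone G (by omega)
    push_neg at hle
    have hB'ne : (⁅B, B⁆ : Subgroup G) ≠ ⊥ := by
      intro h
      rw [h, Subgroup.card_bot] at hle
      simp at hle
    obtain ⟨X, hXdef⟩ : ∃ X : Subgroup G,
        X = Subgroup.normalClosure ((⁅B, B⁆ : Subgroup G) : Set G) := ⟨_, rfl⟩
    have hXn : X.Normal := hXdef ▸ Subgroup.normalClosure_normal
    have hBX : ⁅B, B⁆ ≤ X := hXdef ▸ Subgroup.le_normalClosure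
    have h2 : derivedSeries G 2 ≤ X := derivedSeries_two_le A B X hA hBX hAB
    have hsol : Group.IsSolvable G := Cfsg.Agent.S0564.result A B (isNilpotent_of_comm A hA)
      (isNilpotent_of_class_two B hB) hAB
    have hXne : X ≠ ⊥ := fun h => hB'ne (le_bot_iff.1 (h ▸ hBX))
    obtain ⟨H, hHdef⟩ : ∃ H : Subgroup G, H = A ⊔ X := ⟨_, rfl⟩
    obtain ⟨B1, hB1def⟩ : ∃ B1 : Subgroup G, B1 = B ⊓ H := ⟨_, rfl⟩
    have hB1le : ⁅B1, B1⁆ ≤ ⁅X, X⁆ := by
      rw [hB1def, hHdef]
      exact commutator_inf_le A B hA hB hAB X hXdef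
    have hB1B : ⁅B1, B1⁆ ≤ ⁅B, B⁆ := by
      rw [hB1def]; exact Subgroup.commutator_mono inf_le_left inf_le_left
    have hB1ne : ⁅B1, B1⁆ ≠ ⁅B, B⁆ := by
      intro h
      have h3 : ⁅B, B⁆ ≤ ⁅X, X⁆ := h ▸ hB1le
      have h4 : X ≤ ⁅X, X⁆ := by
        rw [hXdef] at h3 ⊢
        exact Subgroup.normalClosure_le_normal h3
      exact not_le_commutator_of_solvable X hXne h4
    have hΩ1 : (Nat.card (⁅B1, B1⁆ : Subgroup G)).primeFactorsList.length ≤ n := by
      have := omega_lt hB1B hB1ne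
      omega
    have hXH : X ≤ H := hHdef ▸ le_sup_right
    have hAH : A ≤ H := hHdef ▸ le_sup_left
    have hB1H : B1 ≤ H := hB1def ▸ inf_le_right
    have hcomm_eq : (⁅B1.subgroupOf H, B1.subgroupOf H⁆ : Subgroup H).map H.subtype
        = ⁅B1, B1⁆ := by
      rw [Subgroup.map_commutator, Subgroup.subgroupOf_map_subtype, inf_eq_left.2 hB1H]
    have hih := ih H (A.subgroupOf H) (B1.subgroupOf H) ?_ ?_ ?_ ?_
    · have h5 := derivedSeries_add_le H 2 (h2.trans hXH) (2 * (1 + n))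
      rw [hih, Subgroup.map_bot, le_bot_iff] at h5
      rw [show 2 * (1 + (n + 1)) = 2 + 2 * (1 + n) by ring]
      exact h5
    · intro x hx y hy
      exact Subtype.ext (hA _ (Subgroup.mem_subgroupOf.1 hx) _ (Subgroup.mem_subgroupOf.1 hy))
    · intro c hc b hb
      apply Subtype.ext
      have hc' : (c : G) ∈ ⁅B1, B1⁆ := by
        rw [← hcomm_eq]; exact Subgroup.mem_map_of_mem _ hc
      have hbB : (b : G) ∈ B := by
        have := Subgroup.mem_subgroupOf.1 hb
        rw [hB1def] at this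
        exact this.1
      exact hB _ (hB1B hc') _ hbB
    · intro h
      obtain ⟨a, ha, b, hb, e⟩ := hAB (h : G)
      have hbH : b ∈ H := by
        have : b = a⁻¹ * h := by rw [e]; group
        rw [this]; exact H.mul_mem (H.inv_mem (hAH ha)) h.2
      refine ⟨⟨a, hAH ha⟩, Subgroup.mem_subgroupOf.2 ha, ⟨b, hbH⟩, Subgroup.mem_subgroupOf.2 ?_,
        Subtype.ext e⟩
      rw [hB1def]
      exact ⟨hb, hbH⟩
    · have : Nat.card (⁅B1.subgroupOf H, B1.subgroupOf H⁆ : Subgroup H)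
          = Nat.card (⁅B1, B1⁆ : Subgroup G) := by
        rw [← hcomm_eq, Subgroup.card_map_of_injective H.subtype_injective]
      rw [this]; exact hΩ1

/-- `G = AB`, `A` abelian, `B' ≤ Z(B)`: the derived series of `G` reaches `1` after
`2 (1 + Ω(|B'|))` steps. -/
theorem main {G : Type u} [Group G] [Finite G] (A B : Subgroup G)
    (hA : ∀ x ∈ A, ∀ y ∈ A, x * y = y * x)
    (hB : ∀ c ∈ ⁅B, B⁆, ∀ b ∈ B, b * c = c * b)
    (hAB : ∀ g : G, ∃ a ∈ A, ∃ b ∈ B, g = a * b) :
    derivedSeries G (2 * (1 + (Nat.card (⁅B, B⁆ : Subgroup G)).primeFactorsList.length)) = ⊥ :=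
  main_aux _ G A B hA hB hAB le_rfl

end Cfsg.Agent.Lib.Helper4.AbClassTwo
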