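import Mathlib
import Cfsg.Agent.H1.CoprimeAction

/-!
# Groups with an abelian normal subgroup of prime index (helper4)

`index_center_eq` : if `A` is an abelian normal subgroup of prime index `p` in a finite
non-abelian group `P`, then `|P : Z(P)| = p * |P'|`.
-/

set_option autoImplicit false
set_option linter.style.haveILetI false

open scoped commutatorElement

namespace Cfsg.Agent.Lib.Helper4.AbelianIndexP

variable {P : Type*} [Group P]

/-- a subgroup of prime index is maximal: an element outside generates everything with it -/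
theorem sup_eq_top_of_index_prime [Finite P] (A B : Subgroup P) (hAi : A.index.Prime)
    (hB : ¬ B ≤ A) : A ⊔ B = ⊤ := by
  rw [← Subgroup.index_eq_one]
  have hd : (A ⊔ B).index ∣ A.index := Subgroup.index_dvd_of_le le_sup_left
  rcases (Nat.dvd_prime hAi).mp hd with h1 | h1
  · exact h1
  · exfalso
    have h2 := Subgroup.relIndex_mul_index (le_sup_left : A ≤ A ⊔ B)
    rw [h1] at h2
    have h3 : A.relIndex (A ⊔ B) = 1 :=
      Nat.eq_of_mul_eq_mul_right hAi.pos (by rw [h2, one_mul])
    exact hB (le_sup_right.trans (Subgroup.relIndex_eq_one.mp h3))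

theorem index_center_eq [Finite P] (A : Subgroup P) [hAn : A.Normal]
    (hA : ∀ a ∈ A, ∀ b ∈ A, a * b = b * a) (hAi : A.index.Prime)
    (hna : ¬ ∀ g h : P, g * h = h * g) :
    (Subgroup.center P).index = A.index * Nat.card (commutator P) := by
  classical
  -- an element outside `A`
  have hAtop : A ≠ ⊤ := by
    intro h
    rw [h, Subgroup.index_top] at hAi
    exact Nat.not_prime_one hAi
  obtain ⟨y, hy⟩ : ∃ y : P, y ∉ A := by
    by_contra h
    push Not at h
    exact hAtop (eq_top_iff.mpr (fun g _ => h g))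
  have htop : A ⊔ Subgroup.zpowers y = ⊤ :=
    sup_eq_top_of_index_prime A _ hAi (fun h => hy (h (Subgroup.mem_zpowers y)))
  -- the centre lies in `A`
  have hZA : Subgroup.center P ≤ A := by
    by_contra hZ
    have h1 : A ⊔ Subgroup.center P = ⊤ := sup_eq_top_of_index_prime A _ hAi hZ
    have h2 : (⊤ : Subgroup P) ≤ Subgroup.centralizer (A : Set P) := by
      rw [← h1]
      refine sup_le ?_ (Subgroup.center_le_centralizer _)
      intro a ha
      rw [Subgroup.mem_centralizer_iff]
      intro b hb
      exact hA b hb a ha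
    have h3 : A ≤ Subgroup.center P := by
      intro a ha
      rw [Subgroup.mem_center_iff]
      intro g
      exact (Subgroup.mem_centralizer_iff.mp (h2 (Subgroup.mem_top g))) a ha |>.symm
    rw [sup_eq_right.mpr h3] at h1
    apply hna
    intro g h
    exact (Subgroup.mem_center_iff.mp (h1 ▸ Subgroup.mem_top h)) g
  -- decomposition
  have hdec : ∀ g : P, ∃ a ∈ A, ∃ i : ℤ, g = a * y ^ i := by
    intro g
    have hg : g ∈ A ⊔ Subgroup.zpowers y := by rw [htop]; exact Subgroup.mem_top g
    obtain ⟨a, ha, t, ht, rfl⟩ := (Cfsg.Agent.H1.mem_sup_of_le_normalizer A _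
      (by rw [Subgroup.normalizer_eq_top]; exact le_top)).mp hg
    obtain ⟨i, rfl⟩ := Subgroup.mem_zpowers_iff.mp ht
    exact ⟨a, ha, i, rfl⟩
  -- the commutator map
  have hmemA : ∀ a : A, ⁅(a : P), y⁆ ∈ A := by
    intro a
    have : ⁅(a : P), y⁆ = (a : P) * (y * (a : P)⁻¹ * y⁻¹) := by
      rw [commutatorElement_def]; group
    rw [this]
    exact mul_mem a.2 (hAn.conj_mem _ (inv_mem a.2) y)
  let f : A →* A :=
    { toFun := fun a => ⟨⁅(a : P), y⁆, hmemA a⟩
      map_one' := by apply Subtype.ext; simp
      map_mul' := by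
        intro a b
        apply Subtype.ext
        show ⁅(a : P) * b, y⁆ = ⁅(a : P), y⁆ * ⁅(b : P), y⁆
        have e : ⁅(a : P) * b, y⁆ = (a : P) * ⁅(b : P), y⁆ * (a : P)⁻¹ * ⁅(a : P), y⁆ := by
          simp only [commutatorElement_def]; group
        rw [e, hA _ a.2 _ (hmemA b), mul_inv_cancel_right, hA _ (hmemA b) _ (hmemA a)] }
  have f_apply : ∀ a : A, ((f a : A) : P) = ⁅(a : P), y⁆ := fun _ => rfl
  -- the kernel is the centre
  have hker : f.ker = (Subgroup.center P).subgroupOf A := by
    ext a
    rw [MonoidHom.mem_ker, Subgroup.mem_subgroupOf]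
    constructor
    · intro h
      have h1 : ⁅(a : P), y⁆ = 1 := by rw [← f_apply, h]; rfl
      rw [commutatorElement_eq_one_iff_mul_comm] at h1
      have h2 : (⊤ : Subgroup P) ≤ Subgroup.centralizer ({(a : P)} : Set P) := by
        rw [← htop]
        refine sup_le ?_ ?_
        · intro b hb
          rw [Subgroup.mem_centralizer_singleton_iff]
          exact hA b hb a a.2
        · rw [Subgroup.zpowers_le, Subgroup.mem_centralizer_singleton_iff]
          exact h1.symm
      rw [Subgroup.mem_center_iff]
      intro g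
      exact Subgroup.mem_centralizer_singleton_iff.mp (h2 (Subgroup.mem_top g))
    · intro h
      apply Subtype.ext
      rw [f_apply]
      show ⁅(a : P), y⁆ = 1
      rw [commutatorElement_eq_one_iff_mul_comm]
      exact ((Subgroup.mem_center_iff.mp h) y).symm
  -- the image is the derived subgroup
  have hRle : f.range.map A.subtype ≤ commutator P := by
    rintro _ ⟨_, ⟨a, rfl⟩, rfl⟩
    rw [commutator_def]
    exact Subgroup.commutator_mem_commutator (Subgroup.mem_top _) (Subgroup.mem_top _)
  have hRA : f.range.map A.subtype ≤ A := by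
    rintro _ ⟨b, _, rfl⟩
    exact b.2
  have hRmem : ∀ a ∈ A, ⁅a, y⁆ ∈ f.range.map A.subtype :=
    fun a ha => ⟨f ⟨a, ha⟩, ⟨⟨a, ha⟩, rfl⟩, rfl⟩
  have hRmem' : ∀ a ∈ A, ⁅a, y⁻¹⁆ ∈ f.range.map A.subtype := by
    intro a ha
    have e : ⁅a, y⁻¹⁆ = (⁅y⁻¹ * a * y, y⁆)⁻¹ := by
      simp only [commutatorElement_def]; group
    rw [e]
    apply inv_mem
    apply hRmem
    have := hAn.conj_mem a ha y⁻¹
    rwa [inv_inv] at this
  have hRn : (f.range.map A.subtype).Normal := by
    rw [← Subgroup.normalizer_eq_top_iff]
    apply top_le_iff.mp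
    rw [← htop]
    refine sup_le ?_ ?_
    · intro a ha
      rw [Subgroup.mem_normalizer_iff]
      intro r
      have key : ∀ r ∈ f.range.map A.subtype, a * r * a⁻¹ = r := by
        intro r hr
        rw [hA a ha r (hRA hr), mul_inv_cancel_right]
      constructor
      · intro hr; rw [key r hr]; exact hr
      · intro hr
        have h1 := key _ hr
        have h2 : a * r * a⁻¹ ∈ A := hRA hr
        have h3 : r ∈ A := by
          have : r = a⁻¹ * (a * r * a⁻¹) * a := by group
          rw [this]; exact mul_mem (mul_mem (inv_mem ha) h2) ha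
        rw [hA a ha r h3, mul_inv_cancel_right] at hr
        exact hr
    · rw [Subgroup.zpowers_le, Subgroup.mem_normalizer_iff]
      have hy1 : ∀ r ∈ f.range.map A.subtype, y * r * y⁻¹ ∈ f.range.map A.subtype := by
        rintro _ ⟨_, ⟨a, rfl⟩, rfl⟩
        have e : y * (A.subtype (f a)) * y⁻¹ = ⁅y * (a : P) * y⁻¹, y⁆ := by
          show y * ⁅(a : P), y⁆ * y⁻¹ = _
          simp only [commutatorElement_def]; group
        rw [e]
        exact hRmem _ (hAn.conj_mem _ a.2 y)
      have hy2 : ∀ r ∈ f.range.map A.subtype, y⁻¹ * r * y ∈ f.range.map A.subtype := by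
        rintro _ ⟨_, ⟨a, rfl⟩, rfl⟩
        have e : y⁻¹ * (A.subtype (f a)) * y = ⁅y⁻¹ * (a : P) * y, y⁆ := by
          show y⁻¹ * ⁅(a : P), y⁆ * y = _
          simp only [commutatorElement_def]; group
        rw [e]
        apply hRmem
        have := hAn.conj_mem _ a.2 y⁻¹
        rwa [inv_inv] at this
      intro r
      constructor
      · exact hy1 r
      · intro hr
        have := hy2 _ hr
        have e : y⁻¹ * (y * r * y⁻¹) * y = r := by group
        rwa [e] at this
  have hle : commutator P ≤ f.range.map A.subtype := by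
    have hcomm : ∀ g h : P, ⁅g, h⁆ ∈ f.range.map A.subtype := by
      intro g h
      rw [← QuotientGroup.eq_one_iff (N := f.range.map A.subtype)]
      show (QuotientGroup.mk' _) ⁅g, h⁆ = 1
      rw [map_commutatorElement, commutatorElement_eq_one_iff_commute]
      obtain ⟨a, ha, i, rfl⟩ := hdec g
      obtain ⟨b, hb, j, rfl⟩ := hdec h
      have hay : ∀ a ∈ A, Commute ((QuotientGroup.mk' (f.range.map A.subtype)) a)
          ((QuotientGroup.mk' (f.range.map A.subtype)) y) := by
        intro a ha
        rw [← commutatorElement_eq_one_iff_commute, ← map_commutatorElement]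
        exact (QuotientGroup.eq_one_iff _).mpr (hRmem a ha)
      have hab : Commute ((QuotientGroup.mk' (f.range.map A.subtype)) a)
          ((QuotientGroup.mk' (f.range.map A.subtype)) b) := by
        show _ * _ = _ * _
        rw [← map_mul, ← map_mul, hA a ha b hb]
      rw [map_mul, map_mul, map_zpow, map_zpow]
      have c2 := (hay a ha).zpow_right j
      have c3 := ((hay b hb).symm).zpow_left i
      have c4 : Commute ((QuotientGroup.mk' (f.range.map A.subtype)) y ^ i)
          ((QuotientGroup.mk' (f.range.map A.subtype)) y ^ j) :=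
        (Commute.refl _).zpow_zpow i j
      exact (hab.mul_right c2).mul_left (c3.mul_right c4)
    intro x hx
    rw [commutator_def] at hx
    exact (Subgroup.commutator_le.mpr (fun g _ h _ => hcomm g h)) hx
  have hReq : commutator P = f.range.map A.subtype := le_antisymm hle hRle
  -- counting
  have h1 : Nat.card f.ker * Nat.card f.range = Nat.card A := by
    rw [← Subgroup.index_ker]; exact Subgroup.card_mul_index _
  have h2 : Nat.card f.ker = Nat.card (Subgroup.center P) := by
    rw [hker]
    exact Nat.card_congr (Subgroup.subgroupOfEquivOfLe hZA).toEquiv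
  have h3 : Nat.card (commutator P) = Nat.card f.range := by
    rw [hReq]
    exact (Nat.card_congr
      (Subgroup.equivMapOfInjective _ _ A.subtype_injective).toEquiv).symm
  have h4 := Subgroup.card_mul_index A
  have h5 := Subgroup.card_mul_index (Subgroup.center P)
  have hZpos : 0 < Nat.card (Subgroup.center P) := Nat.card_pos
  apply Nat.eq_of_mul_eq_mul_left hZpos
  rw [h5, ← h4, ← h1, h2, h3]
  ring

/-- For an abelian normal subgroup `A` of prime index and `y ∉ A`:
`|P'| * |C_A(y)| = |A|`. -/
theorem card_commutator_mul [Finite P] (A : Subgroup P) [hAn : A.Normal]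
    (hA : ∀ a ∈ A, ∀ b ∈ A, a * b = b * a) (hAi : A.index.Prime) (y : P) (hy : y ∉ A) :
    Nat.card (commutator P) * Nat.card ↥(A ⊓ Subgroup.centralizer ({y} : Set P)) =
      Nat.card A := by
  classical
  have htop : A ⊔ Subgroup.zpowers y = ⊤ :=
    sup_eq_top_of_index_prime A _ hAi (fun h => hy (h (Subgroup.mem_zpowers y)))
  -- decomposition
  have hdec : ∀ g : P, ∃ a ∈ A, ∃ i : ℤ, g = a * y ^ i := by
    intro g
    have hg : g ∈ A ⊔ Subgroup.zpowers y := by rw [htop]; exact Subgroup.mem_top g
    obtain ⟨a, ha, t, ht, rfl⟩ := (Cfsg.Agent.H1.mem_sup_of_le_normalizer A _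
      (by rw [Subgroup.normalizer_eq_top]; exact le_top)).mp hg
    obtain ⟨i, rfl⟩ := Subgroup.mem_zpowers_iff.mp ht
    exact ⟨a, ha, i, rfl⟩
  -- the commutator map
  have hmemA : ∀ a : A, ⁅(a : P), y⁆ ∈ A := by
    intro a
    have : ⁅(a : P), y⁆ = (a : P) * (y * (a : P)⁻¹ * y⁻¹) := by
      rw [commutatorElement_def]; group
    rw [this]
    exact mul_mem a.2 (hAn.conj_mem _ (inv_mem a.2) y)
  let f : A →* A :=
    { toFun := fun a => ⟨⁅(a : P), y⁆, hmemA a⟩
      map_one' := by apply Subtype.ext; simp
      map_mul' := by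
        intro a b
        apply Subtype.ext
        show ⁅(a : P) * b, y⁆ = ⁅(a : P), y⁆ * ⁅(b : P), y⁆
        have e : ⁅(a : P) * b, y⁆ = (a : P) * ⁅(b : P), y⁆ * (a : P)⁻¹ * ⁅(a : P), y⁆ := by
          simp only [commutatorElement_def]; group
        rw [e, hA _ a.2 _ (hmemA b), mul_inv_cancel_right, hA _ (hmemA b) _ (hmemA a)] }
  have f_apply : ∀ a : A, ((f a : A) : P) = ⁅(a : P), y⁆ := fun _ => rfl
  -- the kernel is the centralizer of `y` in `A`
  have hker : Nat.card f.ker = Nat.card ↥(A ⊓ Subgroup.centralizer ({y} : Set P)) := by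
    apply Nat.card_congr
    refine ⟨fun a => ⟨a.1.1, Subgroup.mem_inf.mpr ⟨a.1.2, ?_⟩⟩,
      fun a => ⟨⟨a.1, (Subgroup.mem_inf.mp a.2).1⟩, ?_⟩, fun a => rfl, fun a => rfl⟩
    · have h := a.2
      rw [MonoidHom.mem_ker] at h
      have h1 : ⁅(a.1 : P), y⁆ = 1 := by rw [← f_apply, h]; rfl
      rw [commutatorElement_eq_one_iff_mul_comm] at h1
      rw [Subgroup.mem_centralizer_singleton_iff]
      exact h1
    · rw [MonoidHom.mem_ker]
      apply Subtype.ext
      rw [f_apply]
      show ⁅(a : P), y⁆ = 1
      rw [commutatorElement_eq_one_iff_mul_comm]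
      exact Subgroup.mem_centralizer_singleton_iff.mp (Subgroup.mem_inf.mp a.2).2
  -- the image is the derived subgroup
  have hRle : f.range.map A.subtype ≤ commutator P := by
    rintro _ ⟨_, ⟨a, rfl⟩, rfl⟩
    rw [commutator_def]
    exact Subgroup.commutator_mem_commutator (Subgroup.mem_top _) (Subgroup.mem_top _)
  have hRA : f.range.map A.subtype ≤ A := by
    rintro _ ⟨b, _, rfl⟩
    exact b.2
  have hRmem : ∀ a ∈ A, ⁅a, y⁆ ∈ f.range.map A.subtype :=
    fun a ha => ⟨f ⟨a, ha⟩, ⟨⟨a, ha⟩, rfl⟩, rfl⟩
  have hRmem' : ∀ a ∈ A, ⁅a, y⁻¹⁆ ∈ f.range.map A.subtype := by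
    intro a ha
    have e : ⁅a, y⁻¹⁆ = (⁅y⁻¹ * a * y, y⁆)⁻¹ := by
      simp only [commutatorElement_def]; group
    rw [e]
    apply inv_mem
    apply hRmem
    have := hAn.conj_mem a ha y⁻¹
    rwa [inv_inv] at this
  have hRn : (f.range.map A.subtype).Normal := by
    rw [← Subgroup.normalizer_eq_top_iff]
    apply top_le_iff.mp
    rw [← htop]
    refine sup_le ?_ ?_
    · intro a ha
      rw [Subgroup.mem_normalizer_iff]
      intro r
      have key : ∀ r ∈ f.range.map A.subtype, a * r * a⁻¹ = r := by
        intro r hr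
        rw [hA a ha r (hRA hr), mul_inv_cancel_right]
      constructor
      · intro hr; rw [key r hr]; exact hr
      · intro hr
        have h1 := key _ hr
        have h2 : a * r * a⁻¹ ∈ A := hRA hr
        have h3 : r ∈ A := by
          have : r = a⁻¹ * (a * r * a⁻¹) * a := by group
          rw [this]; exact mul_mem (mul_mem (inv_mem ha) h2) ha
        rw [hA a ha r h3, mul_inv_cancel_right] at hr
        exact hr
    · rw [Subgroup.zpowers_le, Subgroup.mem_normalizer_iff]
      have hy1 : ∀ r ∈ f.range.map A.subtype, y * r * y⁻¹ ∈ f.range.map A.subtype := by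
        rintro _ ⟨_, ⟨a, rfl⟩, rfl⟩
        have e : y * (A.subtype (f a)) * y⁻¹ = ⁅y * (a : P) * y⁻¹, y⁆ := by
          show y * ⁅(a : P), y⁆ * y⁻¹ = _
          simp only [commutatorElement_def]; group
        rw [e]
        exact hRmem _ (hAn.conj_mem _ a.2 y)
      have hy2 : ∀ r ∈ f.range.map A.subtype, y⁻¹ * r * y ∈ f.range.map A.subtype := by
        rintro _ ⟨_, ⟨a, rfl⟩, rfl⟩
        have e : y⁻¹ * (A.subtype (f a)) * y = ⁅y⁻¹ * (a : P) * y, y⁆ := by
          show y⁻¹ * ⁅(a : P), y⁆ * y = _
          simp only [commutatorElement_def]; group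
        rw [e]
        apply hRmem
        have := hAn.conj_mem _ a.2 y⁻¹
        rwa [inv_inv] at this
      intro r
      constructor
      · exact hy1 r
      · intro hr
        have := hy2 _ hr
        have e : y⁻¹ * (y * r * y⁻¹) * y = r := by group
        rwa [e] at this
  have hle : commutator P ≤ f.range.map A.subtype := by
    have hcomm : ∀ g h : P, ⁅g, h⁆ ∈ f.range.map A.subtype := by
      intro g h
      rw [← QuotientGroup.eq_one_iff (N := f.range.map A.subtype)]
      show (QuotientGroup.mk' _) ⁅g, h⁆ = 1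
      rw [map_commutatorElement, commutatorElement_eq_one_iff_commute]
      obtain ⟨a, ha, i, rfl⟩ := hdec g
      obtain ⟨b, hb, j, rfl⟩ := hdec h
      have hay : ∀ a ∈ A, Commute ((QuotientGroup.mk' (f.range.map A.subtype)) a)
          ((QuotientGroup.mk' (f.range.map A.subtype)) y) := by
        intro a ha
        rw [← commutatorElement_eq_one_iff_commute, ← map_commutatorElement]
        exact (QuotientGroup.eq_one_iff _).mpr (hRmem a ha)
      have hab : Commute ((QuotientGroup.mk' (f.range.map A.subtype)) a)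
          ((QuotientGroup.mk' (f.range.map A.subtype)) b) := by
        show _ * _ = _ * _
        rw [← map_mul, ← map_mul, hA a ha b hb]
      rw [map_mul, map_mul, map_zpow, map_zpow]
      have c2 := (hay a ha).zpow_right j
      have c3 := ((hay b hb).symm).zpow_left i
      have c4 : Commute ((QuotientGroup.mk' (f.range.map A.subtype)) y ^ i)
          ((QuotientGroup.mk' (f.range.map A.subtype)) y ^ j) :=
        (Commute.refl _).zpow_zpow i j
      exact (hab.mul_right c2).mul_left (c3.mul_right c4)
    intro x hx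
    rw [commutator_def] at hx
    exact (Subgroup.commutator_le.mpr (fun g _ h _ => hcomm g h)) hx
  have hReq : commutator P = f.range.map A.subtype := le_antisymm hle hRle
  -- counting
  have h1 : Nat.card f.ker * Nat.card f.range = Nat.card A := by
    rw [← Subgroup.index_ker]; exact Subgroup.card_mul_index _
  have h3 : Nat.card (commutator P) = Nat.card f.range := by
    rw [hReq]
    exact (Nat.card_congr
      (Subgroup.equivMapOfInjective _ _ A.subtype_injective).toEquiv).symm
  rw [h3, ← hker, mul_comm]; exact h1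

/-- a subgroup of index `p` in a finite `p`-group is normal -/
theorem normal_of_index_eq_prime {S : Type*} [Group S] [Finite S] (p : ℕ) [Fact p.Prime]
    (hS : IsPGroup p S) (Q : Subgroup S) (hQi : Q.index = p) : Q.Normal := by
  have hpp : p.Prime := Fact.out
  obtain ⟨k, hk⟩ := hS.exists_card_eq
  have hk0 : k ≠ 0 := by
    rintro rfl
    have h1 : Q.index ∣ Nat.card S := Subgroup.index_dvd_card Q
    rw [hk, hQi, pow_zero] at h1
    exact hpp.one_lt.ne' (Nat.dvd_one.mp h1)
  apply Subgroup.normal_of_index_eq_minFac_card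
  rw [hQi, hk, hpp.pow_minFac hk0]

/-- for a non-central `x` in a finite `p`-group, the centre of `C(x)` is at least `p` times as
large as the centre of the group -/
theorem card_center_centralizer [Finite P] (p : ℕ) [Fact p.Prime] (hP : IsPGroup p P) (x : P)
    (hx : x ∉ Subgroup.center P) :
    p * Nat.card (Subgroup.center P) ≤
      Nat.card (Subgroup.center ↥(Subgroup.centralizer ({x} : Set P))) := by
  have hpp : p.Prime := Fact.out
  have hcardW : Nat.card (Subgroup.center ↥(Subgroup.centralizer ({x} : Set P))) =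
      Nat.card ↥((Subgroup.center ↥(Subgroup.centralizer ({x} : Set P))).map
        (Subgroup.centralizer ({x} : Set P)).subtype) :=
    Nat.card_congr (Subgroup.equivMapOfInjective _ _ (Subgroup.subtype_injective _)).toEquiv
  rw [hcardW]
  have hZW : Subgroup.center P ≤ (Subgroup.center ↥(Subgroup.centralizer ({x} : Set P))).map
      (Subgroup.centralizer ({x} : Set P)).subtype := by
    intro z hz
    have hzM : z ∈ Subgroup.centralizer ({x} : Set P) := Subgroup.center_le_centralizer _ hz
    refine ⟨⟨z, hzM⟩, ?_, rfl⟩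
    show (⟨z, hzM⟩ : ↥(Subgroup.centralizer ({x} : Set P))) ∈ Subgroup.center _
    rw [Subgroup.mem_center_iff]
    intro m
    apply Subtype.ext
    exact (Subgroup.mem_center_iff.mp hz) m
  have hxW : x ∈ (Subgroup.center ↥(Subgroup.centralizer ({x} : Set P))).map
      (Subgroup.centralizer ({x} : Set P)).subtype := by
    have hxM : x ∈ Subgroup.centralizer ({x} : Set P) := by
      rw [Subgroup.mem_centralizer_singleton_iff]
    refine ⟨⟨x, hxM⟩, ?_, rfl⟩
    show (⟨x, hxM⟩ : ↥(Subgroup.centralizer ({x} : Set P))) ∈ Subgroup.center _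
    rw [Subgroup.mem_center_iff]
    intro m
    apply Subtype.ext
    exact Subgroup.mem_centralizer_singleton_iff.mp m.2
  obtain ⟨a, ha⟩ := (hP.to_subgroup (Subgroup.center P)).exists_card_eq
  obtain ⟨b, hb⟩ := (hP.to_subgroup ((Subgroup.center ↥(Subgroup.centralizer ({x} : Set P))).map
      (Subgroup.centralizer ({x} : Set P)).subtype)).exists_card_eq
  have hlt : a < b := by
    by_contra h
    push Not at h
    have hge : Nat.card ↥((Subgroup.center ↥(Subgroup.centralizer ({x} : Set P))).map
        (Subgroup.centralizer ({x} : Set P)).subtype) ≤ Nat.card (Subgroup.center P) := by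
      rw [ha, hb]; exact Nat.pow_le_pow_right hpp.pos h
    have := Subgroup.eq_of_le_of_card_ge hZW hge
    exact hx (this ▸ hxW)
  rw [ha, hb, ← pow_succ']
  exact Nat.pow_le_pow_right hpp.pos hlt

/-- a subgroup of a finite `p`-group whose centre has index at most `p` is abelian -/
theorem comm_of_card_le_mul_center [Finite P] (p : ℕ) [Fact p.Prime] (hP : IsPGroup p P)
    (M : Subgroup P) (hW : Nat.card ↥M ≤ p * Nat.card (Subgroup.center ↥M)) :
    ∀ a ∈ M, ∀ b ∈ M, a * b = b * a := by
  have hpp : p.Prime := Fact.out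
  have hq := Subgroup.card_eq_card_quotient_mul_card_subgroup (Subgroup.center ↥M)
  have hQle : Nat.card (↥M ⧸ Subgroup.center ↥M) ≤ p := by
    have hpos : 0 < Nat.card (Subgroup.center ↥M) := Nat.card_pos
    rw [hq] at hW
    exact Nat.le_of_mul_le_mul_right hW hpos
  have hQp : IsPGroup p (↥M ⧸ Subgroup.center ↥M) := (hP.to_subgroup _).to_quotient _
  haveI hcyc : IsCyclic (↥M ⧸ Subgroup.center ↥M) := by
    obtain ⟨c, hc⟩ := hQp.exists_card_eq
    have hc1 : c ≤ 1 := by
      by_contra h
      push Not at h
      have h2 : p ^ 2 ≤ p ^ c := Nat.pow_le_pow_right hpp.pos h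
      rw [← hc] at h2
      nlinarith [hpp.two_le]
    interval_cases c
    · rw [pow_zero] at hc
      haveI : Subsingleton (↥M ⧸ Subgroup.center ↥M) := (Nat.card_eq_one_iff_unique.mp hc).1
      exact isCyclic_of_subsingleton
    · rw [pow_one] at hc
      exact isCyclic_of_prime_card hc
  have hMab := commutative_of_cyclic_center_quotient
    (QuotientGroup.mk' (Subgroup.center ↥M)) (by rw [QuotientGroup.ker_mk'])
  intro a ha b hb
  exact congrArg Subtype.val (hMab ⟨a, ha⟩ ⟨b, hb⟩)

end Cfsg.Agent.Lib.Helper4.AbelianIndexP
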