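import Mathlib

set_option autoImplicit false
set_option linter.style.haveILetI false
set_option linter.unusedSectionVars false
set_option maxHeartbeats 1000000

/-!
# Twisted Burnside counting for multiply transitive groups (helper4, for S4560)

For a finite group `H` acting on `Ω` such that the action on the embeddings `ι ↪ Ω` is transitive,
and any permutation `ρ` of `ι`,  `∑_{g ∈ H} #{x : ι ↪ Ω | g • x = x ∘ ρ} = |H|`.
-/

namespace Cfsg.Agent.Lib.Helper4.AltCh

open MulAction

variable {H : Type*} [Group H] [Fintype H] {Ω : Type*} [Fintype Ω] [DecidableEq Ω]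
  [MulAction H Ω] {ι : Type*} [Fintype ι] [DecidableEq ι]

/-- the number of injective `ι`-tuples `x` with `g • x = x ∘ ρ` -/
noncomputable def tw (ρ : Equiv.Perm ι) (g : H) : ℕ :=
  Nat.card {x : ι ↪ Ω // g • x = ρ.toEmbedding.trans x}

theorem card_smul_eq {E : Type*} [Fintype E] [DecidableEq E] [MulAction H E]
    [IsPretransitive H E] (x y : E) :
    (Finset.univ.filter (fun g : H => g • x = y)).card * Fintype.card E = Fintype.card H := by
  classical
  obtain ⟨g₀, hg₀⟩ := exists_smul_eq H x y
  have h1 : (Finset.univ.filter (fun g : H => g • x = y)).card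
      = Fintype.card (stabilizer H x) := by
    rw [Fintype.card_subtype]
    apply Finset.card_bij (fun g _ => g₀⁻¹ * g)
    · intro g hg
      rw [Finset.mem_filter] at hg ⊢
      refine ⟨Finset.mem_univ _, ?_⟩
      rw [mem_stabilizer_iff, mul_smul, hg.2, ← hg₀, inv_smul_smul]
    · intro a _ b _ hab
      exact mul_left_cancel hab
    · intro s hs
      rw [Finset.mem_filter] at hs
      refine ⟨g₀ * s, ?_, by group⟩
      rw [Finset.mem_filter]
      refine ⟨Finset.mem_univ _, ?_⟩
      rw [mul_smul, mem_stabilizer_iff.1 hs.2, hg₀]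
  rw [h1]
  have h2 := card_orbit_mul_card_stabilizer_eq_card_group H x
  have h3 : Fintype.card (orbit H x) = Fintype.card E := by
    apply Fintype.card_congr
    rw [orbit_eq_univ]
    exact Equiv.Set.univ E
  rw [h3] at h2
  rw [mul_comm]
  exact h2

/-- **twisted Burnside**. -/
theorem sum_tw [IsPretransitive H (ι ↪ Ω)] [Nonempty (ι ↪ Ω)]
    (ρ : Equiv.Perm ι) : ∑ g : H, tw (Ω := Ω) ρ g = Fintype.card H := by
  classical
  have h1 : ∀ g : H, tw (Ω := Ω) ρ g
      = ∑ x : ι ↪ Ω, if g • x = ρ.toEmbedding.trans x then 1 else 0 := by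
    intro g
    unfold tw
    rw [Nat.card_eq_fintype_card, Fintype.card_subtype, Finset.card_filter]
  rw [Finset.sum_congr rfl (fun g _ => h1 g), Finset.sum_comm]
  have h2 : ∀ x : ι ↪ Ω, (∑ g : H, if g • x = ρ.toEmbedding.trans x then 1 else 0)
      * Fintype.card (ι ↪ Ω) = Fintype.card H := by
    intro x
    rw [← Finset.card_filter]
    exact card_smul_eq x _
  have hE : 0 < Fintype.card (ι ↪ Ω) := Fintype.card_pos
  obtain ⟨x₀⟩ := ‹Nonempty (ι ↪ Ω)›
  have hs : ∀ x : ι ↪ Ω, (∑ g : H, if g • x = ρ.toEmbedding.trans x then 1 else 0)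
      = (∑ g : H, if g • x₀ = ρ.toEmbedding.trans x₀ then 1 else 0) := by
    intro x
    exact Nat.eq_of_mul_eq_mul_right hE ((h2 x).trans (h2 x₀).symm)
  rw [Finset.sum_congr rfl (fun x _ => hs x), Finset.sum_const, Finset.card_univ, smul_eq_mul]
  rw [← h2 x₀, mul_comm]

/-- transitivity on `ι`-tuples from multiple transitivity -/
theorem isPretransitive_embedding (j : ℕ) [IsMultiplyPretransitive H Ω j] (e : ι ≃ Fin j) :
    IsPretransitive H (ι ↪ Ω) := by
  constructor
  intro x y
  obtain ⟨g, hg⟩ := exists_smul_eq H (e.symm.toEmbedding.trans x) (e.symm.toEmbedding.trans y)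
  refine ⟨g, ?_⟩
  ext i
  have := congrArg (fun z : Fin j ↪ Ω => z (e i)) hg
  simpa using this

theorem nonempty_embedding (h : Fintype.card ι ≤ Fintype.card Ω) : Nonempty (ι ↪ Ω) :=
  Function.Embedding.nonempty_of_card_le h

end Cfsg.Agent.Lib.Helper4.AltCh
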