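import Mathlib
import Cfsg.Agent.Lib.Helper4.AltCh1

set_option autoImplicit false
set_option linter.style.haveILetI false
set_option linter.unusedSectionVars false
set_option maxHeartbeats 1000000

/-!
# Pointwise identities for the twisted fixed point counts (helper4, for S4560)
-/

namespace Cfsg.Agent.Lib.Helper4.AltCh

open MulAction

variable {H : Type*} [Group H] {Ω : Type*} [Fintype Ω] [DecidableEq Ω]
  [MulAction H Ω]

/-- number of fixed points -/
noncomputable def fixC (g : H) : ℕ := Nat.card {a : Ω // g • a = a}

/-- number of points on `2`-cycles -/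
noncomputable def twoC (g : H) : ℕ := Nat.card {a : Ω // g • a ≠ a ∧ g • g • a = a}

section one

variable {ι : Type*} [Fintype ι] [DecidableEq ι]

/-- (A) the untwisted count is a falling factorial of the number of fixed points. -/
theorem tw_one (g : H) :
    tw (Ω := Ω) (1 : Equiv.Perm ι) g = (fixC (Ω := Ω) g).descFactorial (Fintype.card ι) := by
  classical
  unfold tw fixC
  letI : Fintype {a : Ω // g • a = a} := Fintype.ofFinite _
  rw [Nat.card_eq_fintype_card (α := {a : Ω // g • a = a}), ← Fintype.card_embedding_eq,
    ← Nat.card_eq_fintype_card]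
  apply Nat.card_congr
  refine
    { toFun := fun x => ⟨fun i => ⟨x.1 i, ?_⟩, ?_⟩
      invFun := fun y => ⟨y.trans (Function.Embedding.subtype _), ?_⟩
      left_inv := ?_
      right_inv := ?_ }
  · have := congrArg (fun z : ι ↪ Ω => z i) x.2
    simpa using this
  · intro i k hik
    have : x.1 i = x.1 k := congrArg Subtype.val hik
    exact x.1.injective this
  · ext i
    simp only [Function.Embedding.smul_apply, Function.Embedding.trans_apply,
      Function.Embedding.subtype_apply, Equiv.toEmbedding_apply, Equiv.Perm.coe_one, id_eq]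
    exact (y i).2
  · intro x
    apply Subtype.ext
    ext i
    rfl
  · intro y
    ext i
    rfl

end one

theorem smul_eq_trans_iff {ι : Type*} (ρ : Equiv.Perm ι) (g : H) (x : ι ↪ Ω) :
    g • x = ρ.toEmbedding.trans x ↔ ∀ i, g • x i = x (ρ i) := by
  constructor
  · intro h i
    have := congrArg (fun z : ι ↪ Ω => z i) h
    simpa using this
  · intro h
    ext i
    simpa using h i

/-- (B) the swap-twisted count on pairs is the number of points on `2`-cycles. -/
theorem tw_swap (g : H) :
    tw (Ω := Ω) (Equiv.swap (0 : Fin 2) 1) g = twoC (Ω := Ω) g := by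
  classical
  unfold tw twoC
  apply Nat.card_congr
  refine
    { toFun := fun x => ⟨x.1 0, ?_, ?_⟩
      invFun := fun a => ⟨⟨![a.1, g • a.1], ?_⟩, ?_⟩
      left_inv := ?_
      right_inv := ?_ }
  · have h := (smul_eq_trans_iff _ g x.1).1 x.2 0
    rw [Equiv.swap_apply_left] at h
    rw [h]
    intro h01
    have := x.1.injective h01
    exact absurd this (by decide)
  · have h0 := (smul_eq_trans_iff _ g x.1).1 x.2 0
    have h1 := (smul_eq_trans_iff _ g x.1).1 x.2 1
    rw [Equiv.swap_apply_left] at h0
    rw [Equiv.swap_apply_right] at h1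
    rw [h0, h1]
  · intro i j hij
    fin_cases i <;> fin_cases j
    · rfl
    · exact absurd hij.symm a.2.1
    · exact absurd hij a.2.1
    · rfl
  · rw [smul_eq_trans_iff]
    intro i
    fin_cases i
    · show g • a.1 = g • a.1
      rfl
    · show g • g • a.1 = a.1
      exact a.2.2
  · intro x
    apply Subtype.ext
    ext i
    have h0 := (smul_eq_trans_iff _ g x.1).1 x.2 0
    rw [Equiv.swap_apply_left] at h0
    fin_cases i
    · rfl
    · show g • x.1 0 = x.1 1
      exact h0
  · intro a
    rfl

end Cfsg.Agent.Lib.Helper4.AltCh
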