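import Mathlib
import Cfsg.Agent.Lib.Helper4.AltCh2

set_option autoImplicit false
set_option linter.style.haveILetI false
set_option linter.unusedSectionVars false
set_option maxHeartbeats 1000000

/-!
# Twisted counts on disjoint unions of index sets (helper4, for S4560)
-/

namespace Cfsg.Agent.Lib.Helper4.AltCh

open MulAction

variable {H : Type*} [Group H] {Ω : Type*} [Fintype Ω] [DecidableEq Ω]
  [MulAction H Ω]

theorem swap_ne (j : Fin 2) : Equiv.swap (0 : Fin 2) 1 j ≠ j := by
  revert j
  decide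

section sum

variable {ι₁ ι₂ : Type*} [Fintype ι₁] [DecidableEq ι₁] [Fintype ι₂] [DecidableEq ι₂]

theorem tw_sumCongr (ρ₁ : Equiv.Perm ι₁) (ρ₂ : Equiv.Perm ι₂) (g : H) :
    tw (Ω := Ω) (Equiv.sumCongr ρ₁ ρ₂) g
      = Nat.card {p : {x : ι₁ ↪ Ω // g • x = ρ₁.toEmbedding.trans x} ×
          {y : ι₂ ↪ Ω // g • y = ρ₂.toEmbedding.trans y} //
          Disjoint (Set.range p.1.1) (Set.range p.2.1)} := by
  classical
  unfold tw
  apply Nat.card_congr
  refine
    { toFun := fun x => ⟨(⟨Function.Embedding.inl.trans x.1, ?_⟩,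
        ⟨Function.Embedding.inr.trans x.1, ?_⟩), ?_⟩
      invFun := fun p => ⟨Equiv.sumEmbeddingEquivProdEmbeddingDisjoint.symm
        ⟨(p.1.1.1, p.1.2.1), p.2⟩, ?_⟩
      left_inv := ?_
      right_inv := ?_ }
  · rw [smul_eq_trans_iff]
    intro i
    have := (smul_eq_trans_iff _ g x.1).1 x.2 (Sum.inl i)
    simpa using this
  · rw [smul_eq_trans_iff]
    intro i
    have := (smul_eq_trans_iff _ g x.1).1 x.2 (Sum.inr i)
    simpa using this
  · exact (Equiv.sumEmbeddingEquivProdEmbeddingDisjoint x.1).2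
  · rw [smul_eq_trans_iff]
    intro i
    have h1 := (smul_eq_trans_iff _ g p.1.1.1).1 p.1.1.2
    have h2 := (smul_eq_trans_iff _ g p.1.2.1).1 p.1.2.2
    cases i with
    | inl a => exact h1 a
    | inr b => exact h2 b
  · intro x
    apply Subtype.ext
    ext i
    cases i <;> rfl
  · intro p
    rfl

/-- disjointness is automatic when the first part consists of fixed points and the second of
points on `2`-cycles -/
theorem tw_sumCongr_one_swap (g : H) :
    tw (Ω := Ω) (Equiv.sumCongr (1 : Equiv.Perm ι₁) (Equiv.swap (0 : Fin 2) 1)) g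
      = tw (Ω := Ω) (1 : Equiv.Perm ι₁) g * twoC (Ω := Ω) g := by
  classical
  rw [tw_sumCongr, ← tw_swap]
  unfold tw
  rw [← Nat.card_prod]
  apply Nat.card_congr
  apply Equiv.subtypeUnivEquiv
  intro p
  rw [Set.disjoint_left]
  rintro _ ⟨i, rfl⟩ ⟨j, hj⟩
  have h1 := (smul_eq_trans_iff _ g p.1.1).1 p.1.2 i
  have h2 := (smul_eq_trans_iff _ g p.2.1).1 p.2.2 j
  rw [hj] at h2
  rw [Equiv.Perm.one_apply, h2] at h1
  have h3 := p.2.1.injective (h1.trans hj.symm)
  exact swap_ne j h3

end sum

section swapswap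

/-- the solutions of the swap-twisted equation are the points on `2`-cycles -/
noncomputable def solSwapEquiv (g : H) :
    {x : Fin 2 ↪ Ω // g • x = (Equiv.swap (0 : Fin 2) 1).toEmbedding.trans x}
      ≃ {a : Ω // g • a ≠ a ∧ g • g • a = a} := by
  classical
  refine
    { toFun := fun x => ⟨x.1 0, ?_, ?_⟩
      invFun := fun a => ⟨⟨![a.1, g • a.1], ?_⟩, ?_⟩
      left_inv := ?_
      right_inv := ?_ }
  · have h := (smul_eq_trans_iff _ g x.1).1 x.2 0
    rw [Equiv.swap_apply_left] at h
    rw [h]
    intro h01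
    have := x.1.injective h01
    exact absurd this (by decide)
  · have h0 := (smul_eq_trans_iff _ g x.1).1 x.2 0
    have h1 := (smul_eq_trans_iff _ g x.1).1 x.2 1
    rw [Equiv.swap_apply_left] at h0
    rw [Equiv.swap_apply_right] at h1
    rw [h0, h1]
  · intro i j hij
    fin_cases i <;> fin_cases j
    · rfl
    · exact absurd hij.symm a.2.1
    · exact absurd hij a.2.1
    · rfl
  · rw [smul_eq_trans_iff]
    intro i
    fin_cases i
    · show g • a.1 = g • a.1
      rfl
    · show g • g • a.1 = a.1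
      exact a.2.2
  · intro x
    apply Subtype.ext
    ext i
    have h0 := (smul_eq_trans_iff _ g x.1).1 x.2 0
    rw [Equiv.swap_apply_left] at h0
    fin_cases i
    · rfl
    · show g • x.1 0 = x.1 1
      exact h0
  · intro a
    rfl

theorem solSwapEquiv_zero (g : H)
    (x : {x : Fin 2 ↪ Ω // g • x = (Equiv.swap (0 : Fin 2) 1).toEmbedding.trans x}) :
    x.1 0 = (solSwapEquiv g x).1 := rfl

theorem solSwapEquiv_one (g : H)
    (x : {x : Fin 2 ↪ Ω // g • x = (Equiv.swap (0 : Fin 2) 1).toEmbedding.trans x}) :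
    x.1 1 = g • (solSwapEquiv g x).1 := by
  have h0 := (smul_eq_trans_iff _ g x.1).1 x.2 0
  rw [Equiv.swap_apply_left] at h0
  rw [← h0]
  rfl

theorem disjoint_iff_of_swap (g : H)
    (x y : {x : Fin 2 ↪ Ω // g • x = (Equiv.swap (0 : Fin 2) 1).toEmbedding.trans x}) :
    Disjoint (Set.range x.1) (Set.range y.1) ↔
      ((solSwapEquiv g y).1 ≠ (solSwapEquiv g x).1 ∧
        (solSwapEquiv g y).1 ≠ g • (solSwapEquiv g x).1) := by
  have hx0 := solSwapEquiv_zero g x
  have hx1 := solSwapEquiv_one g x
  have hy0 := solSwapEquiv_zero g y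
  have hy1 := solSwapEquiv_one g y
  set a := solSwapEquiv g x with ha
  set b := solSwapEquiv g y with hb
  constructor
  · intro hd
    rw [Set.disjoint_left] at hd
    constructor
    · intro hab
      exact hd ⟨0, rfl⟩ ⟨0, by rw [hx0, hy0, hab]⟩
    · intro hab
      exact hd ⟨1, rfl⟩ ⟨0, by rw [hx1, hy0, hab]⟩
  · rintro ⟨h1, h2⟩
    rw [Set.disjoint_left]
    have key : ∀ i j : Fin 2, y.1 j ≠ x.1 i := by
      rw [Fin.forall_fin_two]
      constructor
      · rw [Fin.forall_fin_two]
        constructor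
        · rw [hx0, hy0]
          exact h1
        · rw [hx0, hy1]
          intro h
          apply h2
          rw [← h, b.2.2]
      · rw [Fin.forall_fin_two]
        constructor
        · rw [hx1, hy0]
          exact h2
        · rw [hx1, hy1]
          intro h
          apply h1
          exact MulAction.injective g h
    rintro _ ⟨i, rfl⟩ ⟨j, hj⟩
    exact key i j hj

/-- (vi) the count for two disjoint `2`-cycles. -/
theorem tw_swap_swap (g : H) :
    tw (Ω := Ω) (Equiv.sumCongr (Equiv.swap (0 : Fin 2) 1) (Equiv.swap (0 : Fin 2) 1)) g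
      + 2 * twoC (Ω := Ω) g = twoC (Ω := Ω) g * twoC (Ω := Ω) g := by
  classical
  rw [tw_sumCongr]
  set T := {a : Ω // g • a ≠ a ∧ g • g • a = a} with hT
  have e1 : {p : {x : Fin 2 ↪ Ω // g • x = (Equiv.swap (0 : Fin 2) 1).toEmbedding.trans x} ×
          {y : Fin 2 ↪ Ω // g • y = (Equiv.swap (0 : Fin 2) 1).toEmbedding.trans y} //
          Disjoint (Set.range p.1.1) (Set.range p.2.1)}
      ≃ {q : T × T // q.2.1 ≠ q.1.1 ∧ q.2.1 ≠ g • q.1.1} :=
    Equiv.subtypeEquiv (Equiv.prodCongr (solSwapEquiv g) (solSwapEquiv g))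
      (fun p => disjoint_iff_of_swap g p.1 p.2)
  rw [Nat.card_congr e1]
  have htw : twoC (Ω := Ω) g = Fintype.card T := by
    unfold twoC
    rw [Nat.card_eq_fintype_card]
  rw [htw, Nat.card_eq_fintype_card, Fintype.card_subtype]
  have htot : Fintype.card T * Fintype.card T = (Finset.univ : Finset (T × T)).card := by
    rw [Finset.card_univ, Fintype.card_prod]
  have hsplit := Finset.card_filter_add_card_filter_not (s := (Finset.univ : Finset (T × T)))
    (fun q : T × T => q.2.1 ≠ q.1.1 ∧ q.2.1 ≠ g • q.1.1)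
  -- the bad pairs
  let g' : T → T := fun a => ⟨g • a.1, by rw [a.2.2]; exact fun h => a.2.1 h.symm, by rw [a.2.2]⟩
  have hg' : ∀ a : T, g' a ≠ a := fun a h => a.2.1 (congrArg Subtype.val h)
  have hbad : (Finset.univ.filter (fun q : T × T => ¬(q.2.1 ≠ q.1.1 ∧ q.2.1 ≠ g • q.1.1))).card
      = 2 * Fintype.card T := by
    rw [Finset.card_filter, Fintype.sum_prod_type]
    have hrow : ∀ a : T, (∑ b : T, if ¬((a, b).2.1 ≠ (a, b).1.1 ∧ (a, b).2.1 ≠ g • (a, b).1.1)
        then 1 else 0) = 2 := by
      intro a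
      rw [← Finset.card_filter]
      have : (Finset.univ.filter (fun b : T => ¬((a, b).2.1 ≠ (a, b).1.1 ∧
          (a, b).2.1 ≠ g • (a, b).1.1))) = {a, g' a} := by
        ext b
        simp only [Finset.mem_filter, Finset.mem_univ, true_and, Finset.mem_insert,
          Finset.mem_singleton, not_and_or, not_not]
        constructor
        · rintro (h | h)
          · left; exact Subtype.ext h
          · right; exact Subtype.ext h
        · rintro (h | h)
          · left; exact congrArg Subtype.val h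
          · right; exact congrArg Subtype.val h
      rw [this, Finset.card_pair (hg' a).symm]
    rw [Finset.sum_congr rfl (fun a _ => hrow a), Finset.sum_const, Finset.card_univ,
      smul_eq_mul, mul_comm]
  rw [htot, ← hsplit, hbad]

end swapswap

end Cfsg.Agent.Lib.Helper4.AltCh
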