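import Mathlib
import Cfsg.Agent.Lib.Helper4.AltCh3

set_option autoImplicit false
set_option linter.style.haveILetI false
set_option linter.unusedSectionVars false
set_option maxHeartbeats 1000000

/-!
# The permutation character on `2`-subsets (helper4, for S4560)
-/

namespace Cfsg.Agent.Lib.Helper4.AltCh

open MulAction

variable {H : Type*} [Group H] {Ω : Type*} [Fintype Ω] [DecidableEq Ω]
  [MulAction H Ω]

theorem df_i (f : ℕ) : f * f = f.descFactorial 2 + f := by
  rcases f with _ | k
  · rfl
  · simp only [Nat.succ_descFactorial_succ, Nat.descFactorial_one]; ring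

theorem df_ii (f : ℕ) : f * f.descFactorial 2 = f.descFactorial 3 + 2 * f.descFactorial 2 := by
  rcases f with _ | _ | k
  · rfl
  · rfl
  · simp only [Nat.succ_descFactorial_succ, Nat.descFactorial_one, Nat.descFactorial_zero]; ring

theorem df_iii (f : ℕ) : f.descFactorial 2 * f.descFactorial 2
    = f.descFactorial 4 + 4 * f.descFactorial 3 + 2 * f.descFactorial 2 := by
  rcases f with _ | _ | _ | k
  · rfl
  · rfl
  · rfl
  · simp only [Nat.succ_descFactorial_succ, Nat.descFactorial_one, Nat.descFactorial_zero]; ring

theorem range_fin_two (x : Fin 2 ↪ Ω) : Set.range x = {x 0, x 1} := by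
  ext a
  simp only [Set.mem_range, Fin.exists_fin_two, Set.mem_insert_iff, Set.mem_singleton_iff, eq_comm]

theorem swap_trans_ne (x : Fin 2 ↪ Ω) : (Equiv.swap (0 : Fin 2) 1).toEmbedding.trans x ≠ x := by
  intro h
  have := congrArg (fun z : Fin 2 ↪ Ω => z 0) h
  simp only [Function.Embedding.trans_apply, Equiv.toEmbedding_apply, Equiv.swap_apply_left] at this
  exact absurd (x.injective this) (by decide)

theorem ofFinEmb_eq_iff (x y : Fin 2 ↪ Ω) :
    Set.powersetCard.ofFinEmb 2 Ω x = Set.powersetCard.ofFinEmb 2 Ω y ↔
      y = x ∨ y = (Equiv.swap (0 : Fin 2) 1).toEmbedding.trans x := by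
  rw [← SetLike.coe_injective.eq_iff, Set.powersetCard.coe_ofFinEmb,
    Set.powersetCard.coe_ofFinEmb, range_fin_two, range_fin_two, Set.pair_eq_pair_iff]
  constructor
  · rintro (⟨h0, h1⟩ | ⟨h0, h1⟩)
    · left
      ext i
      fin_cases i
      · exact h0.symm
      · exact h1.symm
    · right
      ext i
      fin_cases i
      · show y 0 = x (Equiv.swap (0 : Fin 2) 1 0)
        rw [Equiv.swap_apply_left]
        exact h1.symm
      · show y 1 = x (Equiv.swap (0 : Fin 2) 1 1)
        rw [Equiv.swap_apply_right]
        exact h0.symm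
  · rintro (rfl | rfl)
    · left
      exact ⟨rfl, rfl⟩
    · right
      constructor
      · show x 0 = x (Equiv.swap (0 : Fin 2) 1 1)
        rw [Equiv.swap_apply_right]
      · show x 1 = x (Equiv.swap (0 : Fin 2) 1 0)
        rw [Equiv.swap_apply_left]

/-- (vii) twice the number of fixed `2`-subsets. -/
theorem two_mul_card_fixedBy_powersetCard (g : H) :
    2 * Nat.card (fixedBy (Set.powersetCard Ω 2) g)
      = tw (Ω := Ω) (1 : Equiv.Perm (Fin 2)) g + twoC (Ω := Ω) g := by
  classical
  rw [← tw_swap]
  set σ := Equiv.swap (0 : Fin 2) 1 with hσ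
  have hp : ∀ x : Fin 2 ↪ Ω, Set.powersetCard.ofFinEmb 2 Ω (g • x)
      = g • Set.powersetCard.ofFinEmb 2 Ω x :=
    fun x => map_smul (Set.powersetCard.mulActionHom_of_embedding H Ω 2) g x
  -- the set of embeddings whose image is fixed
  set A : Finset (Fin 2 ↪ Ω) := Finset.univ.filter
    (fun x => g • Set.powersetCard.ofFinEmb 2 Ω x = Set.powersetCard.ofFinEmb 2 Ω x) with hA
  have h1 : A.card = tw (Ω := Ω) (1 : Equiv.Perm (Fin 2)) g + tw (Ω := Ω) σ g := by
    unfold tw
    rw [Nat.card_eq_fintype_card, Nat.card_eq_fintype_card, Fintype.card_subtype,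
      Fintype.card_subtype, ← Finset.card_union_of_disjoint]
    · congr 1
      ext x
      simp only [hA, Finset.mem_filter, Finset.mem_univ, true_and, Finset.mem_union]
      rw [← hp, eq_comm, ofFinEmb_eq_iff]
      constructor
      · rintro (h | h)
        · left
          rw [h]
          ext i
          rfl
        · right
          exact h
      · rintro (h | h)
        · left
          rw [h]
          ext i
          rfl
        · right
          exact h
    · rw [Finset.disjoint_left]
      intro x hx1 hx2
      rw [Finset.mem_filter] at hx1 hx2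
      have h1 : (Equiv.toEmbedding (1 : Equiv.Perm (Fin 2))).trans x = x := by
        ext i
        rfl
      exact swap_trans_ne x (hx2.2.symm.trans (hx1.2.trans h1))
  have h2 : A.card = 2 * Nat.card (fixedBy (Set.powersetCard Ω 2) g) := by
    rw [Nat.card_eq_fintype_card]
    have hfix : Fintype.card (fixedBy (Set.powersetCard Ω 2) g)
        = (Finset.univ.filter (fun s : Set.powersetCard Ω 2 => g • s = s)).card := by
      rw [← Fintype.card_subtype]
      rfl
    rw [hfix, Finset.card_eq_sum_card_fiberwise (f := Set.powersetCard.ofFinEmb 2 Ω)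
      (s := A) (t := Finset.univ.filter (fun s : Set.powersetCard Ω 2 => g • s = s))]
    · rw [mul_comm, ← smul_eq_mul, ← Finset.sum_const]
      apply Finset.sum_congr rfl
      intro s hs
      rw [Finset.mem_filter] at hs
      obtain ⟨x₀, rfl⟩ := Set.powersetCard.ofFinEmb_surjective 2 Ω s
      have : A.filter (fun x => Set.powersetCard.ofFinEmb 2 Ω x = Set.powersetCard.ofFinEmb 2 Ω x₀)
          = {x₀, σ.toEmbedding.trans x₀} := by
        ext x
        simp only [hA, Finset.mem_filter, Finset.mem_univ, true_and, Finset.mem_insert,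
          Finset.mem_singleton]
        constructor
        · rintro ⟨-, h⟩
          exact (ofFinEmb_eq_iff x₀ x).1 h.symm
        · intro h
          have h' := ((ofFinEmb_eq_iff x₀ x).2 h).symm
          refine ⟨?_, h'⟩
          rw [h']
          exact hs.2
      rw [this, Finset.card_pair (swap_trans_ne x₀).symm]
    · intro x hx
      rw [Finset.mem_coe, hA, Finset.mem_filter] at hx
      rw [Finset.mem_coe, Finset.mem_filter]
      exact ⟨Finset.mem_univ _, hx.2⟩
  rw [← h2, h1]

end Cfsg.Agent.Lib.Helper4.AltCh
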