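import Mathlib
import Cfsg.Agent.Lib.Helper4.AltCh4

set_option autoImplicit false
set_option linter.style.haveILetI false
set_option linter.unusedSectionVars false
set_option maxHeartbeats 1000000

/-!
# Moments of the fixed point counts for a `4`-transitive group (helper4, for S4560)
-/

namespace Cfsg.Agent.Lib.Helper4.AltCh

open MulAction

variable {H : Type*} [Group H] [Fintype H] {Ω : Type*} [Fintype Ω] [DecidableEq Ω]
  [MulAction H Ω]

theorem sum_tw4 [IsMultiplyPretransitive H Ω 4] (hΩ : 4 ≤ Fintype.card Ω)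
    {ι : Type*} [Fintype ι] [DecidableEq ι] (hι : Fintype.card ι ≤ 4) (ρ : Equiv.Perm ι) :
    ∑ g : H, tw (Ω := Ω) ρ g = Fintype.card H := by
  haveI : IsMultiplyPretransitive H Ω (Fintype.card ι) :=
    isMultiplyPretransitive_of_le hι (by rw [Nat.card_eq_fintype_card]; exact hΩ)
  haveI := isPretransitive_embedding (H := H) (Ω := Ω) (Fintype.card ι) (Fintype.equivFin ι)
  haveI := nonempty_embedding (ι := ι) (Ω := Ω) (hι.trans hΩ)
  exact sum_tw ρ

variable [IsMultiplyPretransitive H Ω 4]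

theorem sum_F (hΩ : 4 ≤ Fintype.card Ω) (k : ℕ) (hk : k ≤ 4) :
    ∑ g : H, (fixC (Ω := Ω) g).descFactorial k = Fintype.card H := by
  have h := sum_tw4 (H := H) hΩ (ι := Fin k) (by rw [Fintype.card_fin]; exact hk) 1
  rw [← h]
  apply Finset.sum_congr rfl
  intro g _
  rw [tw_one, Fintype.card_fin]

theorem sum_f (hΩ : 4 ≤ Fintype.card Ω) :
    ∑ g : H, fixC (Ω := Ω) g = Fintype.card H := by
  rw [← sum_F (H := H) hΩ 1 (by norm_num)]
  apply Finset.sum_congr rfl
  intro g _
  rw [Nat.descFactorial_one]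

theorem sum_t (hΩ : 4 ≤ Fintype.card Ω) :
    ∑ g : H, twoC (Ω := Ω) g = Fintype.card H := by
  have h := sum_tw4 (H := H) hΩ (ι := Fin 2) (by rw [Fintype.card_fin]; norm_num)
    (Equiv.swap 0 1)
  rw [← h]
  apply Finset.sum_congr rfl
  intro g _
  rw [tw_swap]

theorem sum_ft (hΩ : 4 ≤ Fintype.card Ω) :
    ∑ g : H, fixC (Ω := Ω) g * twoC (Ω := Ω) g = Fintype.card H := by
  have h := sum_tw4 (H := H) hΩ (ι := Fin 1 ⊕ Fin 2)
    (by rw [Fintype.card_sum, Fintype.card_fin, Fintype.card_fin]; norm_num)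
    (Equiv.sumCongr 1 (Equiv.swap 0 1))
  rw [← h]
  apply Finset.sum_congr rfl
  intro g _
  rw [tw_sumCongr_one_swap, tw_one, Fintype.card_fin, Nat.descFactorial_one]

theorem sum_Ft (hΩ : 4 ≤ Fintype.card Ω) :
    ∑ g : H, (fixC (Ω := Ω) g).descFactorial 2 * twoC (Ω := Ω) g = Fintype.card H := by
  have h := sum_tw4 (H := H) hΩ (ι := Fin 2 ⊕ Fin 2)
    (by rw [Fintype.card_sum, Fintype.card_fin])
    (Equiv.sumCongr 1 (Equiv.swap 0 1))
  rw [← h]
  apply Finset.sum_congr rfl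
  intro g _
  rw [tw_sumCongr_one_swap, tw_one, Fintype.card_fin]

theorem sum_tt (hΩ : 4 ≤ Fintype.card Ω) :
    ∑ g : H, twoC (Ω := Ω) g * twoC (Ω := Ω) g = 3 * Fintype.card H := by
  have h := sum_tw4 (H := H) hΩ (ι := Fin 2 ⊕ Fin 2)
    (by rw [Fintype.card_sum, Fintype.card_fin])
    (Equiv.sumCongr (Equiv.swap 0 1) (Equiv.swap 0 1))
  have h2 := sum_t (H := H) hΩ
  calc ∑ g : H, twoC (Ω := Ω) g * twoC (Ω := Ω) g
      = ∑ g : H, (tw (Ω := Ω) (Equiv.sumCongr (Equiv.swap (0 : Fin 2) 1)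
          (Equiv.swap (0 : Fin 2) 1)) g + 2 * twoC (Ω := Ω) g) := by
        apply Finset.sum_congr rfl
        intro g _
        rw [tw_swap_swap]
    _ = 3 * Fintype.card H := by
        rw [Finset.sum_add_distrib, ← Finset.mul_sum, h, h2]
        ring

theorem sum_ff (hΩ : 4 ≤ Fintype.card Ω) :
    ∑ g : H, fixC (Ω := Ω) g * fixC (Ω := Ω) g = 2 * Fintype.card H := by
  calc ∑ g : H, fixC (Ω := Ω) g * fixC (Ω := Ω) g
      = ∑ g : H, ((fixC (Ω := Ω) g).descFactorial 2 + fixC (Ω := Ω) g) := by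
        apply Finset.sum_congr rfl
        intro g _
        exact df_i _
    _ = 2 * Fintype.card H := by
        rw [Finset.sum_add_distrib, sum_F hΩ 2 (by norm_num), sum_f hΩ]
        ring

theorem sum_fF (hΩ : 4 ≤ Fintype.card Ω) :
    ∑ g : H, fixC (Ω := Ω) g * (fixC (Ω := Ω) g).descFactorial 2 = 3 * Fintype.card H := by
  calc ∑ g : H, fixC (Ω := Ω) g * (fixC (Ω := Ω) g).descFactorial 2
      = ∑ g : H, ((fixC (Ω := Ω) g).descFactorial 3
          + 2 * (fixC (Ω := Ω) g).descFactorial 2) := by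
        apply Finset.sum_congr rfl
        intro g _
        exact df_ii _
    _ = 3 * Fintype.card H := by
        rw [Finset.sum_add_distrib, ← Finset.mul_sum, sum_F hΩ 2 (by norm_num),
          sum_F hΩ 3 (by norm_num)]
        ring

theorem sum_FF (hΩ : 4 ≤ Fintype.card Ω) :
    ∑ g : H, (fixC (Ω := Ω) g).descFactorial 2 * (fixC (Ω := Ω) g).descFactorial 2
      = 7 * Fintype.card H := by
  calc ∑ g : H, (fixC (Ω := Ω) g).descFactorial 2 * (fixC (Ω := Ω) g).descFactorial 2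
      = ∑ g : H, ((fixC (Ω := Ω) g).descFactorial 4 + 4 * (fixC (Ω := Ω) g).descFactorial 3
          + 2 * (fixC (Ω := Ω) g).descFactorial 2) := by
        apply Finset.sum_congr rfl
        intro g _
        exact df_iii _
    _ = 7 * Fintype.card H := by
        rw [Finset.sum_add_distrib, Finset.sum_add_distrib, ← Finset.mul_sum, ← Finset.mul_sum,
          sum_F hΩ 2 (by norm_num), sum_F hΩ 3 (by norm_num), sum_F hΩ 4 (by norm_num)]
        ring

end Cfsg.Agent.Lib.Helper4.AltCh
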