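import Mathlib
import Cfsg.Agent.Lib.Helper4.AltCh5
import Cfsg.Agent.Lib.Helper8.AD7
import Cfsg.Agent.Lib.helper3.TwoTrans

set_option autoImplicit false
set_option linter.style.haveILetI false
set_option linter.unusedSectionVars false
set_option maxHeartbeats 1000000

/-!
# Three irreducible characters of a `4`-transitive group (helper4, for S4560)
-/

namespace Cfsg.Agent.Lib.Helper4.AltCh

open MulAction Cfsg Cfsg.Agent.Lib.Helper8.AD Cfsg.Agent.Lib.helper3.PermChar
  Cfsg.Agent.Lib.helper3.Irr Cfsg.Agent.Lib.helper3.IndFun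
open scoped ComplexConjugate

universe u

variable {H : Type u} [Group H] [Fintype H] (Ω : Type*) [Fintype Ω] [DecidableEq Ω]
  [MulAction H Ω]

/-- value `f - 1` -/
noncomputable def phi1 (g : H) : ℂ := (fixC (Ω := Ω) g : ℂ) - 1

/-- value `(F + t)/2 - f` -/
noncomputable def phi2 (g : H) : ℂ :=
  (((fixC (Ω := Ω) g).descFactorial 2 : ℂ) + (twoC (Ω := Ω) g : ℂ)) / 2 - (fixC (Ω := Ω) g : ℂ)

/-- value `(F - t)/2 - f + 1` -/
noncomputable def phi3 (g : H) : ℂ :=
  (((fixC (Ω := Ω) g).descFactorial 2 : ℂ) - (twoC (Ω := Ω) g : ℂ)) / 2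
    - (fixC (Ω := Ω) g : ℂ) + 1

theorem fixC_one : fixC (Ω := Ω) (1 : H) = Fintype.card Ω := by
  unfold fixC
  rw [Nat.card_congr (Equiv.subtypeUnivEquiv (fun a => one_smul H a)), Nat.card_eq_fintype_card]

theorem twoC_one : twoC (Ω := Ω) (1 : H) = 0 := by
  unfold twoC
  haveI : IsEmpty {a : Ω // (1 : H) • a ≠ a ∧ (1 : H) • (1 : H) • a = a} :=
    ⟨fun a => a.2.1 (one_smul _ _)⟩
  exact Nat.card_of_isEmpty

variable [IsMultiplyPretransitive H Ω 4]

section chars

theorem isCharacter_f (hΩ : 4 ≤ Fintype.card Ω) :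
    IsCharacter H (fun g : H => (fixC (Ω := Ω) g : ℂ)) := by
  haveI : IsMultiplyPretransitive H Ω 1 :=
    isMultiplyPretransitive_of_le (n := 4) (by norm_num)
      (by rw [Nat.card_eq_fintype_card]; exact hΩ)
  haveI : IsPretransitive H Ω := is_one_pretransitive_iff.1 inferInstance
  haveI : Nonempty Ω := by
    rw [← Fintype.card_pos_iff]; omega
  exact isCharacter_permChar (G := H) Ω

theorem isCharacter_F (hΩ : 4 ≤ Fintype.card Ω) :
    IsCharacter H (fun g : H => ((fixC (Ω := Ω) g).descFactorial 2 : ℂ)) := by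
  haveI : IsMultiplyPretransitive H Ω 2 :=
    isMultiplyPretransitive_of_le (n := 4) (by norm_num)
      (by rw [Nat.card_eq_fintype_card]; exact hΩ)
  haveI : IsPretransitive H (Fin 2 ↪ Ω) := inferInstanceAs (IsMultiplyPretransitive H Ω 2)
  haveI : Nonempty (Fin 2 ↪ Ω) :=
    nonempty_embedding (by rw [Fintype.card_fin]; omega)
  have h := isCharacter_permChar (G := H) (Fin 2 ↪ Ω)
  convert h using 2 with g
  congr 1
  have h1 := tw_one (Ω := Ω) (ι := Fin 2) g
  rw [Fintype.card_fin] at h1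
  rw [← h1]
  unfold tw
  apply Nat.card_congr
  apply Equiv.subtypeEquivRight
  intro x
  rw [mem_fixedBy]
  have : (Equiv.toEmbedding (1 : Equiv.Perm (Fin 2))).trans x = x := by
    ext i
    rfl
  rw [this]

theorem isCharacter_pi2 (hΩ : 4 ≤ Fintype.card Ω) :
    IsCharacter H (fun g : H => (Nat.card (fixedBy (Set.powersetCard Ω 2) g) : ℂ)) := by
  haveI h2 : IsMultiplyPretransitive H Ω 2 :=
    isMultiplyPretransitive_of_le (n := 4) (by norm_num)
      (by rw [Nat.card_eq_fintype_card]; exact hΩ)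
  haveI : IsPretransitive H (Set.powersetCard Ω 2) :=
    Set.powersetCard.isPretransitive_of_isMultiplyPretransitive H h2
  haveI : Nonempty (Set.powersetCard Ω 2) := by
    obtain ⟨x⟩ := nonempty_embedding (ι := Fin 2) (Ω := Ω) (by rw [Fintype.card_fin]; omega)
    exact ⟨Set.powersetCard.ofFinEmb 2 Ω x⟩
  exact isCharacter_permChar (G := H) (Set.powersetCard Ω 2)

theorem pi2_eq (g : H) :
    (Nat.card (fixedBy (Set.powersetCard Ω 2) g) : ℂ)
      = (((fixC (Ω := Ω) g).descFactorial 2 : ℂ) + (twoC (Ω := Ω) g : ℂ)) / 2 := by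
  have h := two_mul_card_fixedBy_powersetCard (Ω := Ω) g
  rw [tw_one, Fintype.card_fin] at h
  have h' := congrArg (Nat.cast : ℕ → ℂ) h
  push_cast at h'
  rw [← h']
  ring

theorem isZIrr_phi1 (hΩ : 4 ≤ Fintype.card Ω) : IsZIrr (phi1 (H := H) Ω) := by
  have h := isZIrr_add (isZIrr_of_isCharacter (isCharacter_f (H := H) Ω hΩ))
    (isZIrr_zsmul (-1) (isZIrr_of_isCharacter (isCharacter_one (G := H))))
  convert h using 1
  funext g
  simp only [phi1, Pi.add_apply, Pi.smul_apply, smul_eq_mul]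
  push_cast
  ring

theorem isZIrr_phi2 (hΩ : 4 ≤ Fintype.card Ω) : IsZIrr (phi2 (H := H) Ω) := by
  have h := isZIrr_add (isZIrr_of_isCharacter (isCharacter_pi2 (H := H) Ω hΩ))
    (isZIrr_zsmul (-1) (isZIrr_of_isCharacter (isCharacter_f (H := H) Ω hΩ)))
  convert h using 1
  funext g
  simp only [phi2, Pi.add_apply, Pi.smul_apply, smul_eq_mul]
  rw [pi2_eq]
  push_cast
  ring

theorem isZIrr_phi3 (hΩ : 4 ≤ Fintype.card Ω) : IsZIrr (phi3 (H := H) Ω) := by
  have h := isZIrr_add (isZIrr_add (isZIrr_add (isZIrr_of_isCharacter (isCharacter_F (H := H) Ω hΩ))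
    (isZIrr_zsmul (-1) (isZIrr_of_isCharacter (isCharacter_pi2 (H := H) Ω hΩ))))
    (isZIrr_zsmul (-1) (isZIrr_of_isCharacter (isCharacter_f (H := H) Ω hΩ))))
    (isZIrr_of_isCharacter (isCharacter_one (G := H)))
  convert h using 1
  funext g
  simp only [phi3, Pi.add_apply, Pi.smul_apply, smul_eq_mul]
  rw [pi2_eq]
  push_cast
  ring

end chars

end Cfsg.Agent.Lib.Helper4.AltCh
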