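import Mathlib
import Cfsg.Agent.Lib.Helper4.AltCh6

set_option autoImplicit false
set_option linter.style.haveILetI false
set_option linter.unusedSectionVars false
set_option maxHeartbeats 1000000

/-!
# Norms of the three class functions (helper4, for S4560)
-/

namespace Cfsg.Agent.Lib.Helper4.AltCh

open MulAction Cfsg Cfsg.Agent.Lib.Helper8.AD Cfsg.Agent.Lib.helper3.PermChar
  Cfsg.Agent.Lib.helper3.Irr Cfsg.Agent.Lib.helper3.IndFun
open scoped ComplexConjugate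

universe u

variable {H : Type u} [Group H] [Fintype H] (Ω : Type*) [Fintype Ω] [DecidableEq Ω]
  [MulAction H Ω]

theorem conj_phi1 (g : H) : conj (phi1 Ω g) = phi1 Ω g := by
  unfold phi1
  simp

theorem conj_phi2 (g : H) : conj (phi2 Ω g) = phi2 Ω g := by
  unfold phi2
  simp only [map_sub, map_add, map_div₀, Complex.conj_natCast, map_ofNat]

theorem conj_phi3 (g : H) : conj (phi3 Ω g) = phi3 Ω g := by
  unfold phi3
  simp only [map_sub, map_add, map_div₀, Complex.conj_natCast, map_ofNat, map_one]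

variable [IsMultiplyPretransitive H Ω 4]

theorem classInner_phi1 (hΩ : 4 ≤ Fintype.card Ω) :
    classInner (phi1 (H := H) Ω) (phi1 Ω) = 1 := by
  rw [classInner_apply]
  have hpt : ∀ g : H, phi1 Ω g * conj (phi1 Ω g)
      = ((fixC (Ω := Ω) g * fixC (Ω := Ω) g : ℕ) : ℂ) - 2 * ((fixC (Ω := Ω) g : ℕ) : ℂ) + 1 := by
    intro g
    rw [conj_phi1]
    unfold phi1
    push_cast
    ring
  rw [Finset.sum_congr rfl (fun g _ => hpt g), Finset.sum_add_distrib, Finset.sum_sub_distrib,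
    ← Finset.mul_sum, ← Nat.cast_sum, ← Nat.cast_sum, sum_ff hΩ, sum_f hΩ, Finset.sum_const,
    Finset.card_univ, Nat.card_eq_fintype_card]
  have hne : (Fintype.card H : ℂ) ≠ 0 := by
    rw [Nat.cast_ne_zero]; exact Fintype.card_ne_zero
  push_cast
  rw [nsmul_eq_mul]
  field_simp
  ring

theorem classInner_phi2 (hΩ : 4 ≤ Fintype.card Ω) :
    classInner (phi2 (H := H) Ω) (phi2 Ω) = 1 := by
  rw [classInner_apply]
  have hpt : ∀ g : H, phi2 Ω g * conj (phi2 Ω g)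
      = (1 / 4 : ℂ) * ((((fixC (Ω := Ω) g).descFactorial 2 * (fixC (Ω := Ω) g).descFactorial 2 : ℕ) : ℂ)
        + ((twoC (Ω := Ω) g * twoC (Ω := Ω) g : ℕ) : ℂ)
        + 4 * ((fixC (Ω := Ω) g * fixC (Ω := Ω) g : ℕ) : ℂ)
        + 2 * (((fixC (Ω := Ω) g).descFactorial 2 * twoC (Ω := Ω) g : ℕ) : ℂ)
        - 4 * ((fixC (Ω := Ω) g * (fixC (Ω := Ω) g).descFactorial 2 : ℕ) : ℂ)
        - 4 * ((fixC (Ω := Ω) g * twoC (Ω := Ω) g : ℕ) : ℂ)) := by
    intro g
    rw [conj_phi2]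
    unfold phi2
    push_cast
    ring
  rw [Finset.sum_congr rfl (fun g _ => hpt g), ← Finset.mul_sum]
  simp only [Finset.sum_add_distrib, Finset.sum_sub_distrib, ← Finset.mul_sum, ← Nat.cast_sum]
  rw [sum_FF hΩ, sum_tt hΩ, sum_ff hΩ, sum_Ft hΩ, sum_fF hΩ, sum_ft hΩ, Nat.card_eq_fintype_card]
  have hne : (Fintype.card H : ℂ) ≠ 0 := by
    rw [Nat.cast_ne_zero]; exact Fintype.card_ne_zero
  push_cast
  field_simp
  ring

theorem classInner_phi3 (hΩ : 4 ≤ Fintype.card Ω) :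
    classInner (phi3 (H := H) Ω) (phi3 Ω) = 1 := by
  rw [classInner_apply]
  have hpt : ∀ g : H, phi3 Ω g * conj (phi3 Ω g)
      = (1 / 4 : ℂ) * ((((fixC (Ω := Ω) g).descFactorial 2 * (fixC (Ω := Ω) g).descFactorial 2 : ℕ) : ℂ)
        + ((twoC (Ω := Ω) g * twoC (Ω := Ω) g : ℕ) : ℂ)
        + 4 * ((fixC (Ω := Ω) g * fixC (Ω := Ω) g : ℕ) : ℂ)
        + 4
        - 2 * (((fixC (Ω := Ω) g).descFactorial 2 * twoC (Ω := Ω) g : ℕ) : ℂ)
        - 4 * ((fixC (Ω := Ω) g * (fixC (Ω := Ω) g).descFactorial 2 : ℕ) : ℂ)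
        + 4 * (((fixC (Ω := Ω) g).descFactorial 2 : ℕ) : ℂ)
        + 4 * ((fixC (Ω := Ω) g * twoC (Ω := Ω) g : ℕ) : ℂ)
        - 4 * ((twoC (Ω := Ω) g : ℕ) : ℂ)
        - 8 * ((fixC (Ω := Ω) g : ℕ) : ℂ)) := by
    intro g
    rw [conj_phi3]
    unfold phi3
    push_cast
    ring
  rw [Finset.sum_congr rfl (fun g _ => hpt g), ← Finset.mul_sum]
  simp only [Finset.sum_add_distrib, Finset.sum_sub_distrib, ← Finset.mul_sum, ← Nat.cast_sum]
  rw [sum_FF hΩ, sum_tt hΩ, sum_ff hΩ, sum_Ft hΩ, sum_fF hΩ, sum_ft hΩ, sum_F hΩ 2 (by norm_num),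
    sum_t hΩ, sum_f hΩ, Finset.sum_const, Finset.card_univ, Nat.card_eq_fintype_card]
  have hne : (Fintype.card H : ℂ) ≠ 0 := by
    rw [Nat.cast_ne_zero]; exact Fintype.card_ne_zero
  push_cast
  rw [nsmul_eq_mul]
  field_simp
  ring

end Cfsg.Agent.Lib.Helper4.AltCh
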