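import Mathlib
import Cfsg.Agent.Lib.Helper4.AltCh7

set_option autoImplicit false
set_option linter.style.haveILetI false
set_option linter.unusedSectionVars false
set_option maxHeartbeats 1000000

/-!
# The three irreducible characters (helper4, for S4560)
-/

namespace Cfsg.Agent.Lib.Helper4.AltCh

open MulAction Cfsg Cfsg.Agent.Lib.Helper8.AD Cfsg.Agent.Lib.helper3.PermChar
  Cfsg.Agent.Lib.helper3.Irr Cfsg.Agent.Lib.helper3.IndFun
open scoped ComplexConjugate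

universe u

variable {H : Type u} [Group H] [Fintype H] (Ω : Type*) [Fintype Ω] [DecidableEq Ω]
  [MulAction H Ω] [IsMultiplyPretransitive H Ω 4]

theorem choose_two_gt (n : ℕ) (hn : 4 ≤ n) : n < n.choose 2 := by
  rw [Nat.choose_two_right]
  obtain ⟨m, rfl⟩ := Nat.exists_eq_add_of_le hn
  rw [show 4 + m - 1 = 3 + m by omega]
  have : (4 + m + 1) * 2 ≤ (4 + m) * (3 + m) := by nlinarith
  have := (Nat.le_div_iff_mul_le (by norm_num : 0 < 2)).2 this
  omega

theorem exists_irr_phi1 (hΩ : 4 ≤ Fintype.card Ω) :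
    ∃ χ : IrrCharacter H, ∀ g, (χ : H → ℂ) g = phi1 Ω g := by
  apply exists_irr_of_isZIrr _ (isZIrr_phi1 Ω hΩ) (classInner_phi1 Ω hΩ)
  refine ⟨Fintype.card Ω - 1, by omega, ?_⟩
  unfold phi1
  rw [fixC_one, Nat.cast_sub (by omega)]
  simp

theorem exists_irr_phi2 (hΩ : 4 ≤ Fintype.card Ω) :
    ∃ χ : IrrCharacter H, ∀ g, (χ : H → ℂ) g = phi2 Ω g := by
  apply exists_irr_of_isZIrr _ (isZIrr_phi2 Ω hΩ) (classInner_phi2 Ω hΩ)
  have hlt := choose_two_gt _ hΩ
  refine ⟨(Fintype.card Ω).choose 2 - Fintype.card Ω, by omega, ?_⟩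
  unfold phi2
  rw [fixC_one, twoC_one, Nat.cast_sub hlt.le, Nat.cast_choose_two, Nat.cast_descFactorial_two]
  push_cast
  ring

theorem exists_irr_phi3 (hΩ : 4 ≤ Fintype.card Ω) :
    ∃ χ : IrrCharacter H, ∀ g, (χ : H → ℂ) g = phi3 Ω g := by
  apply exists_irr_of_isZIrr _ (isZIrr_phi3 Ω hΩ) (classInner_phi3 Ω hΩ)
  have hlt := choose_two_gt _ hΩ
  refine ⟨(Fintype.card Ω).choose 2 - Fintype.card Ω + 1, by omega, ?_⟩
  unfold phi3
  rw [fixC_one, twoC_one, Nat.cast_add, Nat.cast_sub hlt.le, Nat.cast_choose_two,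
    Nat.cast_descFactorial_two]
  push_cast
  ring

end Cfsg.Agent.Lib.Helper4.AltCh
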