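import Mathlib
import Cfsg.Agent.Lib.Helper4.AltCh2

set_option autoImplicit false
set_option linter.style.haveILetI false
set_option linter.unusedSectionVars false
set_option maxHeartbeats 1000000

/-!
# Explicit even permutations with prescribed fixed point data (helper4, for S4560)
-/

namespace Cfsg.Agent.Lib.Helper4.AltCh

open Equiv

variable {n : ℕ}

theorem fixC_perm (σ : Perm (Fin n)) :
    fixC (H := Perm (Fin n)) (Ω := Fin n) σ = n - σ.cycleType.sum := by
  unfold fixC
  have h := Equiv.Perm.card_fixedPoints σ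
  rw [Fintype.card_fin, ← Nat.card_eq_fintype_card] at h
  rw [← h]
  apply Nat.card_congr
  exact Equiv.subtypeEquivRight (fun a => Iff.rfl)

theorem twoC_perm_eq_zero (σ : Perm (Fin n)) (h : 2 ∉ σ.cycleType) :
    twoC (H := Perm (Fin n)) (Ω := Fin n) σ = 0 := by
  unfold twoC
  haveI : IsEmpty {a : Fin n // σ • a ≠ a ∧ σ • σ • a = a} := by
    constructor
    rintro ⟨a, ha1, ha2⟩
    apply h
    have ha1' : σ a ≠ a := ha1
    have ha2' : σ (σ a) = a := ha2
    have hcyc : (σ.cycleOf a).IsCycle := Equiv.Perm.isCycle_cycleOf σ ha1'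
    have hmem : σ.cycleOf a ∈ σ.cycleFactorsFinset :=
      Equiv.Perm.cycleOf_mem_cycleFactorsFinset_iff.2 (Equiv.Perm.mem_support.2 ha1')
    rw [Equiv.Perm.cycleType_def, Multiset.mem_map]
    refine ⟨σ.cycleOf a, hmem, ?_⟩
    rw [Function.comp_apply, ← hcyc.orderOf]
    apply orderOf_eq_prime
    · have hx : σ.cycleOf a a ≠ a := by
        rw [Equiv.Perm.cycleOf_apply_self]; exact ha1'
      rw [hcyc.pow_eq_one_iff' hx, Equiv.Perm.cycleOf_pow_apply_self, sq, Equiv.Perm.mul_apply]
      exact ha2'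
    · exact hcyc.ne_one
  exact Nat.card_of_isEmpty

theorem twoC_eq_zero_of_pow_three {H : Type*} [Group H] {Ω : Type*} [Fintype Ω] [DecidableEq Ω]
    [MulAction H Ω] (g : H) (h3 : g ^ 3 = 1) : twoC (Ω := Ω) g = 0 := by
  unfold twoC
  haveI : IsEmpty {a : Ω // g • a ≠ a ∧ g • g • a = a} := by
    constructor
    rintro ⟨a, ha1, ha2⟩
    apply ha1
    have : g ^ 3 • a = g • a := by
      rw [pow_succ, mul_smul, sq, mul_smul]
      rw [ha2]
    rw [h3, one_smul] at this
    exact this.symm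
  exact Nat.card_of_isEmpty

/-- a multiset of `c ≥ 2` "units" `u`, two of them possibly merged, with an even number of parts -/
theorem exists_mset (u c : ℕ) (hc : 2 ≤ c) :
    ∃ m : Multiset ℕ, m.sum = c * u ∧ Even (Multiset.card m) ∧ ∀ a ∈ m, a = u ∨ a = 2 * u := by
  rcases Nat.even_or_odd c with he | ho
  · refine ⟨Multiset.replicate c u, ?_, ?_, ?_⟩
    · rw [Multiset.sum_replicate, smul_eq_mul]
    · rw [Multiset.card_replicate]; exact he
    · intro a ha
      left
      exact Multiset.eq_of_mem_replicate ha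
  · have hc3 : 3 ≤ c := by
      rcases ho with ⟨k, hk⟩
      omega
    refine ⟨(2 * u) ::ₘ Multiset.replicate (c - 2) u, ?_, ?_, ?_⟩
    · rw [Multiset.sum_cons, Multiset.sum_replicate, smul_eq_mul]
      obtain ⟨d, rfl⟩ := Nat.exists_eq_add_of_le hc
      rw [Nat.add_sub_cancel_left]
      ring
    · rw [Multiset.card_cons, Multiset.card_replicate]
      rcases ho with ⟨k, hk⟩
      exact ⟨k, by omega⟩
    · intro a ha
      rw [Multiset.mem_cons] at ha
      rcases ha with rfl | ha
      · right; rfl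
      · left; exact Multiset.eq_of_mem_replicate ha

/-- even permutations of `2`-power order from such multisets -/
theorem exists_perm_of_mset (u c : ℕ) (hu : u = 2 ∨ u = 4) (hc : 2 ≤ c) (hn : c * u ≤ n) :
    ∃ σ : Perm (Fin n), σ ∈ alternatingGroup (Fin n) ∧ (∃ j : ℕ, orderOf σ = 2 ^ j) ∧
      σ.cycleType.sum = c * u ∧ (u = 4 → 2 ∉ σ.cycleType) := by
  obtain ⟨m, hsum, hcard, hm⟩ := exists_mset u c hc
  have h2 : ∀ a ∈ m, 2 ≤ a := by
    intro a ha
    rcases hm a ha with rfl | rfl <;> rcases hu with rfl | rfl <;> norm_num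
  obtain ⟨σ, hσ⟩ := (Equiv.Perm.exists_with_cycleType_iff (Fin n)).mpr
    ⟨by rw [hsum, Fintype.card_fin]; exact hn, h2⟩
  refine ⟨σ, ?_, ?_, ?_, ?_⟩
  · rw [Equiv.Perm.mem_alternatingGroup, Equiv.Perm.sign_of_cycleType, hσ, hsum]
    have : Even (c * u + Multiset.card m) := by
      apply Even.add _ hcard
      rcases hu with rfl | rfl
      · exact ⟨c, by ring⟩
      · exact ⟨2 * c, by ring⟩
    exact Even.neg_one_pow this
  · rw [← Equiv.Perm.lcm_cycleType, hσ]
    have hdvd : m.lcm ∣ 2 ^ 3 := by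
      rw [Multiset.lcm_dvd]
      intro a ha
      rcases hm a ha with rfl | rfl <;> rcases hu with rfl | rfl <;> norm_num
    obtain ⟨j, -, hj⟩ := (Nat.dvd_prime_pow Nat.prime_two).1 hdvd
    exact ⟨j, hj⟩
  · rw [hσ, hsum]
  · intro hu4 hmem
    rw [hσ] at hmem
    rcases hm 2 hmem with h | h <;> omega

/-- even permutations of order three with `n % 3` fixed points -/
theorem exists_perm_three (hn : 3 ≤ n) :
    ∃ σ : Perm (Fin n), σ ∈ alternatingGroup (Fin n) ∧ orderOf σ = 3 ∧
      σ.cycleType.sum = 3 * (n / 3) := by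
  have hc : 1 ≤ n / 3 := Nat.div_pos hn (by norm_num)
  obtain ⟨σ, hσ⟩ := (Equiv.Perm.exists_with_cycleType_iff (Fin n)).mpr
    (⟨by rw [Multiset.sum_replicate, smul_eq_mul, Fintype.card_fin, mul_comm]
         exact Nat.mul_div_le n 3,
      fun a ha => by rw [Multiset.eq_of_mem_replicate ha]; norm_num⟩ :
      (Multiset.replicate (n / 3) 3).sum ≤ Fintype.card (Fin n) ∧
        ∀ a ∈ Multiset.replicate (n / 3) 3, 2 ≤ a)
  refine ⟨σ, ?_, ?_, ?_⟩
  · rw [Equiv.Perm.mem_alternatingGroup, Equiv.Perm.sign_of_cycleType, hσ,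
      Multiset.sum_replicate, Multiset.card_replicate, smul_eq_mul]
    exact Even.neg_one_pow ⟨2 * (n / 3), by ring⟩
  · have hdvd : orderOf σ ∣ 3 := by
      rw [← Equiv.Perm.lcm_cycleType, hσ, Multiset.lcm_dvd]
      intro a ha
      rw [Multiset.eq_of_mem_replicate ha]
    rcases (Nat.dvd_prime Nat.prime_three).1 hdvd with h1 | h3
    · exfalso
      rw [orderOf_eq_one_iff] at h1
      rw [h1, Equiv.Perm.cycleType_one] at hσ
      have := congrArg Multiset.card hσ
      rw [Multiset.card_replicate, Multiset.card_zero] at this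
      omega
    · exact h3
  · rw [hσ, Multiset.sum_replicate, smul_eq_mul, mul_comm]

end Cfsg.Agent.Lib.Helper4.AltCh
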