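import Mathlib
import Cfsg.Agent.Lib.Helper4.BG14M
import Cfsg.Agent.Lib.Helper8.BG15A

/-!
Bender–Glauberman §14/§15, helper4: S1364 from the normal Sylow subgroup `Q` of S1437.
-/

set_option autoImplicit false
set_option linter.unusedSectionVars false
set_option linter.unusedVariables false
set_option linter.style.haveILetI false
set_option maxHeartbeats 1000000
open Cfsg
open scoped commutatorElement Pointwise

namespace Cfsg.Agent.Lib.Helper4.BG14

open Cfsg.Agent.Lib.Helper8.BGTen Cfsg.Agent.Lib.Helper4.BGTrans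

universe u

variable {G : Type u} [Group G] [Finite G]

/-- the part of S1437 needed for S1364: if `M_F ≠ M_σ` there is a normal Sylow `q`-subgroup
`Q ≤ M_F` of `M_σ`, `q = |K*|` -/
def HypQ (M K : Subgroup G) : Prop :=
  Cfsg.fittingHallOf M ≠ Cfsg.sigmaCore M →
    ∃ Q : Subgroup G, Q ≤ Cfsg.fittingHallOf M ∧ M ≤ Subgroup.normalizer (Q : Set G) ∧
      IsPGroup (Nat.card ↥(star M K)) Q ∧ ¬ Nat.card ↥(star M K) ∣ Q.relIndex (Cfsg.sigmaCore M)

/-- `K* ≤ M_F` -/
theorem Mem.star_le_fittingHallOf (hG : Cfsg.IsMinSimpleOddOrder G) {Z N K : Subgroup G}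
    (h : Mem Z N K) (hQ : HypQ N K) : star N K ≤ Cfsg.fittingHallOf N := by
  by_cases hnil : Group.IsNilpotent ↥(Cfsg.sigmaCore N)
  · exact h.star_le_fittingHallOf_of_nilpotent hG hnil
  have hne : Cfsg.fittingHallOf N ≠ Cfsg.sigmaCore N := by
    intro h0
    apply hnil
    rw [← h0]
    exact Cfsg.Agent.Lib.Helper4.TypeP.fittingHallOf_nilpotent N
  obtain ⟨Q, hQF, hQn, hQp, hQi⟩ := hQ hne
  have hq : (Nat.card ↥(star N K)).Prime :=
    card_star_prime_of_P1 hG h.coatom h.hall h.ne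
      (card_of_not_nilpotent hG h.coatom h.hall h.ne hnil)
  have hQσ : Q ≤ Cfsg.sigmaCore N :=
    hQF.trans (Cfsg.Agent.Lib.Helper8.BG15.fittingHallOf_le_sigmaCore hG h.coatom)
  have hle : star N K ≤ Q :=
    Cfsg.Agent.H2.BG11.pgroup_le_of_relIndex hq inf_le_left hQσ
      ((Cfsg.Agent.H2.BG11.sigmaCore_le N).trans hQn)
      (IsPGroup.of_card (n := 1) (by rw [pow_one])) hQi
  exact hle.trans hQF

/-- **S1364** from `HypQ` -/
theorem s1364_of (hG : Cfsg.IsMinSimpleOddOrder G) {M K : Subgroup G} (hM : IsCoatom M)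
    (hK : Cfsg.IsPiHallOf (Cfsg.kappa M) K M) (hK1 : K ≠ ⊥) (hQ : HypQ M K) :
    IsCyclic ↥(star M K) ∧ star M K ≠ ⊥ ∧ star M K ≤ Cfsg.fittingHallOf M ∧
      ¬ IsCyclic ↥(Cfsg.fittingHallOf M) := by
  have hm0 : Mem (K ⊔ star M K) M K := ⟨hM, hK, hK1, rfl⟩
  have hle := hm0.star_le_fittingHallOf hG hQ
  exact ⟨hm0.isCyclic_star hG, hm0.star_ne hG, hle, hm0.not_isCyclic_fittingHallOf hG hle⟩

end Cfsg.Agent.Lib.Helper4.BG14
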