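import Mathlib
import Cfsg.Agent.Lib.Helper4.BG16B
import Cfsg.Agent.Lib.Helper4.BG14N
import Cfsg.Agent.Lib.helper3.BG14D

/-!
Bender–Glauberman §16, helper4: Types I and II and the standard factorisation (for S1390).
-/

set_option autoImplicit false
set_option linter.unusedSectionVars false
set_option linter.unusedVariables false
set_option linter.style.haveILetI false
set_option maxHeartbeats 1000000
open Cfsg
open scoped commutatorElement Pointwise

namespace Cfsg.Agent.Lib.Helper4.BG16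

open Cfsg.Agent.Lib.Helper7 (IsSylowIn)
open Cfsg.Agent.Lib.Helper8.BGTen Cfsg.Agent.Lib.Helper4.BGTrans

universe u

variable {G : Type u} [Group G] [Finite G]

/-- a standard factorisation is transported by conjugation with an element of `M` -/
theorem isSigmaDecomposition_cj {M K U : Subgroup G} (hKU : Cfsg.IsSigmaDecomposition M K U)
    {g : G} (hg : g ∈ M) : Cfsg.IsSigmaDecomposition M (cj g K) (cj g U) := by
  have hgM : cj g M = M :=
    Subgroup.mem_normalizer_iff_map_conj_eq.mp (Subgroup.le_normalizer hg)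
  have hgσ : cj g (Cfsg.sigmaCore M) = Cfsg.sigmaCore M :=
    Subgroup.mem_normalizer_iff_map_conj_eq.mp (Cfsg.Agent.H2.BG11.le_normalizer_sigmaCore M hg)
  refine ⟨?_, ?_, ?_, ?_⟩
  · haveI := hKU.cyclic
    exact isCyclic_of_surjective
      (K.equivMapOfInjective (MulAut.conj g).toMonoidHom (MulAut.conj g).injective).toMonoidHom
      (K.equivMapOfInjective (MulAut.conj g).toMonoidHom (MulAut.conj g).injective).surjective
  · exact Cfsg.Agent.H1.isPiHallOf_map_conj _ K M hKU.hall g (Subgroup.le_normalizer hg)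
  · have h := Cfsg.Agent.Lib.helper3.BG14.isComplIn_cj hKU.compl g
    rw [hgM] at h
    have e : cj g (K ⊔ Cfsg.sigmaCore M) = cj g K ⊔ Cfsg.sigmaCore M := by
      show (K ⊔ Cfsg.sigmaCore M).map (MulAut.conj g).toMonoidHom = _
      rw [Subgroup.map_sup]
      show cj g K ⊔ cj g (Cfsg.sigmaCore M) = _
      rw [hgσ]
    rw [e] at h
    exact h
  · have h := Subgroup.map_mono (f := (MulAut.conj g).toMonoidHom) hKU.normal
    have e := Subgroup.map_equiv_normalizer_eq U (MulAut.conj g)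
    intro x hx
    have h1 := h hx
    rw [e] at h1
    exact h1

/-- **Type I ⇒ K = 1** (given `K* ≤ M_F`, i.e. `HypQ`) -/
theorem hall_kappa_eq_bot_of_typeI (hG : Cfsg.IsMinSimpleOddOrder G) {M K : Subgroup G}
    (hM : IsCoatom M) (hI : Cfsg.IsOfTypeI M) (hK : Cfsg.IsPiHallOf (Cfsg.kappa M) K M)
    (hQ : Cfsg.Agent.Lib.Helper4.BG14.HypQ M K) : K = ⊥ := by
  by_contra hK1
  obtain ⟨-, -, -, -, UF, -, hcompl, -, U₀, hU₀le, hexp, hreg⟩ := hI.1
  have hm0 : Cfsg.Agent.Lib.Helper4.BG14.Mem (K ⊔ Cfsg.Agent.Lib.Helper4.BG14.star M K) M K :=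
    ⟨hM, hK, hK1, rfl⟩
  have hcK : Nat.card ↥K ≠ 1 := fun h0 => hK1 (Subgroup.card_eq_one.mp h0)
  obtain ⟨p, hp, hpK⟩ := Nat.exists_prime_and_dvd hcK
  haveI : Fact p.Prime := ⟨hp⟩
  have hpκ := hK.2.1 p hp hpK
  have hpσ : p ∉ Cfsg.sigma M := hpκ.2.2.1
  -- `p ∤ |M_F|`
  have hpF : ¬ p ∣ Nat.card ↥(Cfsg.fittingHall ↥M) := by
    intro h0
    rw [← Cfsg.Agent.Lib.Helper4.TypeP.card_fittingHallOf] at h0
    exact hpσ (Cfsg.Agent.H2.BG11.mem_sigma_of_dvd_sigmaCore hG hM hp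
      (h0.trans (Subgroup.card_dvd_of_le
        (Cfsg.Agent.Lib.Helper8.BG15.fittingHallOf_le_sigmaCore hG hM))))
  have hcard := hcompl.card_mul
  have hpUF : p ∣ Nat.card ↥UF := by
    have : p ∣ Nat.card ↥(Cfsg.fittingHall ↥M) * Nat.card ↥UF := by
      rw [hcard]; exact hpκ.2.1
    exact ((Nat.Prime.dvd_mul hp).mp this).resolve_left hpF
  -- an element of order `p` of `U₀`
  have hpU₀ : p ∣ Nat.card ↥U₀ := by
    obtain ⟨v, hv⟩ := exists_prime_orderOf_dvd_card' (G := ↥UF) p hpUF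
    have h1 : p ∣ Monoid.exponent ↥UF := hv ▸ Monoid.order_dvd_exponent v
    rw [← hexp] at h1
    exact h1.trans Group.exponent_dvd_nat_card
  obtain ⟨u, hu⟩ := exists_prime_orderOf_dvd_card' (G := ↥U₀) p hpU₀
  have huo : orderOf ((u : ↥M) : G) = p := by
    rw [Subgroup.orderOf_coe, Subgroup.orderOf_coe, hu]
  have hu1 : (u : ↥M) ≠ 1 := by
    intro h0
    have : ((u : ↥M) : G) = 1 := by rw [h0]; rfl
    rw [this, orderOf_one] at huo
    exact hp.one_lt.ne huo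
  -- conjugate `u` into `K`
  have hTp : IsPGroup p ↥(Subgroup.zpowers ((u : ↥M) : G)) :=
    IsPGroup.of_card (n := 1) (by rw [Nat.card_zpowers, huo, pow_one])
  have hTM : Subgroup.zpowers ((u : ↥M) : G) ≤ M := by
    rw [Subgroup.zpowers_le]; exact (u : ↥M).2
  obtain ⟨S', hS', hTS'⟩ := Cfsg.Agent.Lib.Helper7.exists_isSylowIn_ge hTp hTM
  obtain ⟨S, hS, -⟩ := Cfsg.Agent.Lib.Helper7.exists_isSylowIn_ge (p := p) (Q := ⊥) (H := K)
    IsPGroup.of_bot bot_le
  have hr0 : K.relIndex M ≠ 0 := fun h0 => hK.2.2 p hp hpκ (by rw [h0]; exact dvd_zero p)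
  have hSM : IsSylowIn p S M := by
    refine ⟨hS.1.trans hK.1, ?_⟩
    rw [hS.2, Cfsg.Agent.H1.card_eq_relIndex_mul_card hK.1,
      Nat.factorization_mul hr0 Nat.card_pos.ne']
    simp only [Finsupp.coe_add, Pi.add_apply]
    rw [Nat.factorization_eq_zero_of_not_dvd (hK.2.2 p hp hpκ), zero_add]
  obtain ⟨m, hm, hmS⟩ := hSM.conj hS'
  have hum : ((u : ↥M) : G) ∈ S.map (MulAut.conj m).toMonoidHom :=
    hmS ▸ hTS' (Subgroup.mem_zpowers _)
  obtain ⟨s, hsS, hse⟩ := hum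
  have hse' : m * s * m⁻¹ = ((u : ↥M) : G) := hse
  -- a fixed point in `M_F`
  obtain ⟨y, hy, hy1⟩ := Cfsg.Agent.Lib.Helper4.BG14.exists_ne_one_of_ne_bot (hm0.star_ne hG)
  have hyF : y ∈ Cfsg.fittingHallOf M := hm0.star_le_fittingHallOf hG hQ hy
  have hsy : s * y = y * s := Subgroup.mem_centralizer_iff.mp hy.2 s (hS.1 hsS)
  have hxF : m * y * m⁻¹ ∈ Cfsg.fittingHallOf M :=
    (Subgroup.mem_normalizer_iff.mp
      (Cfsg.Agent.Lib.Helper4.TypeP.le_normalizer_fittingHallOf M hm) y).mp hyF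
  obtain ⟨x', hx', hx'e⟩ := hxF
  have hx'e' : ((x' : ↥M) : G) = m * y * m⁻¹ := hx'e
  have hcomm : (u : ↥M) * x' = x' * (u : ↥M) := by
    apply Subtype.ext
    rw [Subgroup.coe_mul, Subgroup.coe_mul, hx'e', ← hse']
    calc m * s * m⁻¹ * (m * y * m⁻¹) = m * (s * y) * m⁻¹ := by group
      _ = m * (y * s) * m⁻¹ := by rw [hsy]
      _ = m * y * m⁻¹ * (m * s * m⁻¹) := by group
  have h1 := hreg (u : ↥M) u.2 hu1 x' hx' hcomm
  apply hy1
  have h2 : m * y * m⁻¹ = 1 := by rw [← hx'e', h1]; rfl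
  have : y = m⁻¹ * (m * y * m⁻¹) * m := by group
  rw [this, h2]; group

/-- swapping the factors of a complement when the first factor is normalized by `M` -/
theorem isComplIn_swap {A B M : Subgroup G} (h : Cfsg.IsComplIn A B M)
    (hn : M ≤ Subgroup.normalizer (A : Set G)) : Cfsg.IsComplIn B A M := by
  obtain ⟨hA, hB, hAB, hprod⟩ := h
  refine ⟨hB, hA, by rw [inf_comm]; exact hAB, ?_⟩
  intro m hm
  obtain ⟨a, ha, b, hb, rfl⟩ := hprod m hm
  refine ⟨b, hb, b⁻¹ * a * b, ?_, by group⟩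
  have := (Subgroup.mem_normalizer_iff.mp (hn (M.inv_mem (hB hb))) a).mp ha
  rwa [inv_inv] at this

/-- if the Hall `κ(M)`-subgroups are trivial then `κ(M) = ∅` -/
theorem kappa_eq_empty_of_hall_bot {M : Subgroup G}
    (hK : Cfsg.IsPiHallOf (Cfsg.kappa M) ⊥ M) : ∀ p : ℕ, p ∉ Cfsg.kappa M := by
  intro p hp
  have h1 := hK.2.2 p hp.1 hp
  rw [Subgroup.relIndex_bot_left] at h1
  exact h1 hp.2.1

/-- **Type I**: `M_F = M_σ` and `(⊥, U)` is a standard factorisation for every complement `U`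
of `M_F` in `M` (given `HypQ`) -/
theorem typeI_facts (hG : Cfsg.IsMinSimpleOddOrder G) {M U : Subgroup G}
    (hM : IsCoatom M) (hI : Cfsg.IsOfTypeI M)
    (hQ : ∀ K : Subgroup G, Cfsg.IsPiHallOf (Cfsg.kappa M) K M →
      Cfsg.Agent.Lib.Helper4.BG14.HypQ M K)
    (hU : Cfsg.IsComplIn (Cfsg.fittingHallOf M) U M) :
    Cfsg.fittingHallOf M = Cfsg.sigmaCore M ∧ Cfsg.IsSigmaDecomposition M ⊥ U := by
  obtain ⟨⟨K, hK⟩, -⟩ := Cfsg.Agent.S1351.result hG M hM
  have hK0 := hall_kappa_eq_bot_of_typeI hG hM hI hK (hQ K hK)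
  rw [hK0] at hK
  have hκ := kappa_eq_empty_of_hall_bot hK
  -- a prime outside `σ(M)`
  have hσc : Cfsg.sigmaCore M ≤ ⁅M, M⁆ :=
    Cfsg.Agent.Lib.Helper5.BGBeta.sigmaCore_le_commutator hG (Cfsg.Agent.H2.BG11.uniq hG) hM
  have hlt := Cfsg.Agent.Lib.Helper8.BG15.commutator_lt hG hM
  have hr1 : (Cfsg.sigmaCore M).relIndex M ≠ 1 := by
    intro h0
    have h1 := Cfsg.Agent.H1.card_eq_relIndex_mul_card (Cfsg.Agent.H2.BG11.sigmaCore_le M)
    rw [h0, one_mul] at h1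
    have h2 : Cfsg.sigmaCore M = M :=
      Subgroup.eq_of_le_of_card_ge (Cfsg.Agent.H2.BG11.sigmaCore_le M) h1.le
    rw [h2] at hσc
    exact absurd hlt (not_lt_of_ge hσc)
  obtain ⟨t, ht, htd⟩ := Nat.exists_prime_and_dvd hr1
  haveI : Fact t.Prime := ⟨ht⟩
  have htσ : t ∉ Cfsg.sigma M := fun h0 =>
    (Cfsg.Agent.H2.BG11.sigmaCore_hallOf hG hM).2.2 t ht h0 htd
  have htM : t ∣ Nat.card ↥M := by
    rw [Cfsg.Agent.H1.card_eq_relIndex_mul_card (Cfsg.Agent.H2.BG11.sigmaCore_le M)]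
    exact htd.mul_right _
  obtain ⟨S⟩ : Nonempty (Sylow t ↥M) := inferInstance
  have hnil := (Cfsg.Agent.S1429.result hG M hM (fun h0 => hκ t (h0 t ht htM htσ)) t htM
    (by rintro (h0 | h0); exact htσ h0; exact hκ t h0) S).2.2
  have hF := (Cfsg.Agent.Lib.helper3.BG14.sigmaCore_eq_fittingHallOf hG hM hnil).symm
  refine ⟨hF, ?_, hK, ?_, bot_le⟩
  · infer_instance
  · rw [bot_sup_eq, ← hF]
    exact isComplIn_swap hU (Cfsg.Agent.Lib.Helper4.TypeP.le_normalizer_fittingHallOf M)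

end Cfsg.Agent.Lib.Helper4.BG16
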