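import Mathlib
import Cfsg.Agent.Lib.Helper4.BG16C
import Cfsg.Agent.Lib.Helper7.BG14PF
import Cfsg.Agent.S1358
import Cfsg.Agent.S1361
import Cfsg.Agent.S1362
import Cfsg.Agent.H1.FFX3

/-!
Bender–Glauberman §16, helper4: Type II and the standard factorisation, exclusivity of the
types, and S1390 (given `HypQ`).
-/

set_option autoImplicit false
set_option linter.unusedSectionVars false
set_option linter.unusedVariables false
set_option linter.style.haveILetI false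
set_option maxHeartbeats 1000000
open Cfsg
open scoped commutatorElement Pointwise

namespace Cfsg.Agent.Lib.Helper4.BG16

open Cfsg.Agent.Lib.Helper7 (IsSylowIn)
open Cfsg.Agent.Lib.Helper8.BGTen Cfsg.Agent.Lib.Helper4.BGTrans

universe u

variable {G : Type u} [Group G] [Finite G]

/-- **(L-N)**: a nontrivial nilpotent Hall subgroup `V` of `M` inside `M_σ` has `N_G(V) ≤ M` -/
theorem normalizer_le_of_nilpotent_hall (hG : Cfsg.IsMinSimpleOddOrder G) {M V : Subgroup G}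
    (hM : IsCoatom M) (hVσ : V ≤ Cfsg.sigmaCore M) (hnil : Group.IsNilpotent ↥V) (hV1 : V ≠ ⊥)
    (hcop : (Nat.card ↥V).Coprime (V.relIndex M)) :
    Subgroup.normalizer (V : Set G) ≤ M := by
  have hc1 : Nat.card ↥V ≠ 1 := fun h0 => hV1 (Subgroup.card_eq_one.mp h0)
  obtain ⟨p, hp, hpV⟩ := Nat.exists_prime_and_dvd hc1
  haveI : Fact p.Prime := ⟨hp⟩
  obtain ⟨P⟩ : Nonempty (Sylow p ↥V) := inferInstance
  have hP1 : (P : Subgroup ↥V) ≠ ⊥ := P.ne_bot_of_dvd_card hpV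
  have h1 := (hall_le_sigmaCore_facts hG hM hVσ hcop).1 p hp P hP1
  haveI : (P : Subgroup ↥V).Characteristic := Sylow.characteristic_of_normal P inferInstance
  exact (Cfsg.Agent.H1.FFX.char_map_normalizer V (P : Subgroup ↥V)).trans h1

/-- two complements of `M_σ` in `U M_σ` are conjugate -/
theorem exists_conj_of_compl (hG : Cfsg.IsMinSimpleOddOrder G) {M K U U₂ : Subgroup G}
    (hM : IsCoatom M) (hKU : Cfsg.IsSigmaDecomposition M K U)
    (hc : Cfsg.IsComplIn (Cfsg.sigmaCore M) U₂ (U ⊔ Cfsg.sigmaCore M)) :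
    ∃ g ∈ U ⊔ Cfsg.sigmaCore M, U₂ = cj g U := by
  have hcard1 := Cfsg.Agent.Lib.BG127H7.card_of_isComplIn hc
  have hcard2 := Cfsg.Agent.H1.card_sup_mul_card_inf U (Cfsg.sigmaCore M)
    (hKU.compl.1.trans (Cfsg.Agent.H2.BG11.le_normalizer_sigmaCore M))
  rw [Cfsg.Agent.Lib.Helper5.BG14Z.U_inf_sigmaCore hKU, Subgroup.card_bot, mul_one] at hcard2
  have hσpos : 0 < Nat.card ↥(Cfsg.sigmaCore M) := Nat.card_pos
  have hUU₂ : Nat.card ↥U₂ = Nat.card ↥U := by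
    have : Nat.card ↥(Cfsg.sigmaCore M) * Nat.card ↥U₂ =
        Nat.card ↥(Cfsg.sigmaCore M) * Nat.card ↥U := by rw [← hcard1, hcard2, mul_comm]
    exact Nat.eq_of_mul_eq_mul_left hσpos this
  have hUhall := Cfsg.Agent.Lib.Helper5.BG14Z.isPiHallOf_U_N hG hM hKU
  have hU₂hall : Cfsg.IsPiHallOf (Cfsg.sigma M)ᶜ U₂ (U ⊔ Cfsg.sigmaCore M) := by
    refine ⟨hc.2.1, fun q hq hd => hUhall.2.1 q hq (hUU₂ ▸ hd), fun q hq hqσ hd => ?_⟩
    have h1 := Cfsg.Agent.H1.card_eq_relIndex_mul_card hc.2.1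
    have h2 : U₂.relIndex (U ⊔ Cfsg.sigmaCore M) = Nat.card ↥(Cfsg.sigmaCore M) := by
      have hpos : 0 < Nat.card ↥U₂ := Nat.card_pos
      have : U₂.relIndex (U ⊔ Cfsg.sigmaCore M) * Nat.card ↥U₂ =
          Nat.card ↥(Cfsg.sigmaCore M) * Nat.card ↥U₂ := by rw [← h1, hcard1]
      exact Nat.eq_of_mul_eq_mul_right hpos this
    rw [h2] at hd
    exact hqσ (Cfsg.Agent.H2.BG11.mem_sigma_of_dvd_sigmaCore hG hM hq hd)
  have hNM : U ⊔ Cfsg.sigmaCore M ≤ M := sup_le hKU.compl.1 (Cfsg.Agent.H2.BG11.sigmaCore_le M)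
  have hsolv : Group.IsSolvable ↥(U ⊔ Cfsg.sigmaCore M) :=
    Cfsg.Agent.Lib.Helper4.BG14.isSolvable_of_le_coatom hG hM hNM
  exact Cfsg.Agent.H1.isPiHallOf_conj _ U U₂ _ hsolv hUhall hU₂hall

/-- **Type II**: for every complement `U` of `M_F` in `M'` there is a Hall `κ(M)`-subgroup
`K ≠ 1` with `(K, U)` a standard factorisation; moreover `M_F = M_σ`, `M' = U M_σ`, `U ≠ 1` -/
theorem typeII_facts (hG : Cfsg.IsMinSimpleOddOrder G) {M U : Subgroup G}
    (hM : IsCoatom M) (hII : Cfsg.IsOfTypeII M)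
    (hU : Cfsg.IsComplIn (Cfsg.fittingHallOf M) U ⁅M, M⁆) :
    ∃ K : Subgroup G, K ≠ ⊥ ∧ Cfsg.IsSigmaDecomposition M K U ∧
      Cfsg.fittingHallOf M = Cfsg.sigmaCore M ∧ (⁅M, M⁆ : Subgroup G) = U ⊔ Cfsg.sigmaCore M ∧
      U ≠ ⊥ := by
  obtain ⟨W₁, U₂, W₂, h, hU₂1, -, -, -, hN, -, -⟩ := hII
  obtain ⟨K, hK, hK1, hKc⟩ := exists_hall_kappa_of_typeP hG hM h
  obtain ⟨U', hKU'⟩ := (Cfsg.Agent.S1352.result hG M hM K hKc hK).1
  have h65 := (Cfsg.Agent.S1365.result hG M hM K U' hKU' hK1).1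
  have hFσ := Cfsg.Agent.Lib.Helper8.BG15.fittingHallOf_le_sigmaCore hG hM
  have hU'1 : U' ≠ ⊥ := by
    intro h0
    rw [h0, bot_sup_eq] at h65
    apply hN
    have hc := h.U_compl
    rw [h65] at hc
    -- `U₂` is a Hall subgroup of `M` inside `M_σ`
    have hcard := Cfsg.Agent.Lib.BG127H7.card_of_isComplIn hc
    have hσM := Cfsg.Agent.H1.card_eq_relIndex_mul_card (Cfsg.Agent.H2.BG11.sigmaCore_le M)
    have hU₂M := Cfsg.Agent.H1.card_eq_relIndex_mul_card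
      (hc.2.1.trans (Cfsg.Agent.H2.BG11.sigmaCore_le M))
    have hFM := Cfsg.Agent.H1.card_eq_relIndex_mul_card (Cfsg.Agent.Lib.Helper4.TypeP.fittingHallOf_le M)
    have hFcop := Cfsg.Agent.Lib.Helper4.TypeP.fittingHallOf_coprime M
    have hσcop : (Nat.card ↥(Cfsg.sigmaCore M)).Coprime ((Cfsg.sigmaCore M).relIndex M) := by
      apply Nat.Coprime.symm
      rw [Nat.coprime_comm]
      apply Nat.coprime_of_dvd
      intro q hq hqd hqi
      exact (Cfsg.Agent.H2.BG11.sigmaCore_hallOf hG hM).2.2 q hq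
        ((Cfsg.Agent.H2.BG11.sigmaCore_hallOf hG hM).2.1 q hq hqd) hqi
    have hpos : 0 < Nat.card ↥U₂ := Nat.card_pos
    have hrel : U₂.relIndex M =
        (Cfsg.sigmaCore M).relIndex M * Nat.card ↥(Cfsg.fittingHallOf M) := by
      have : U₂.relIndex M * Nat.card ↥U₂ =
          (Cfsg.sigmaCore M).relIndex M * Nat.card ↥(Cfsg.fittingHallOf M) * Nat.card ↥U₂ := by
        rw [← hU₂M, hσM, hcard]; ring
      exact Nat.eq_of_mul_eq_mul_right hpos this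
    have hcop : (Nat.card ↥U₂).Coprime (U₂.relIndex M) := by
      rw [hrel]
      apply Nat.Coprime.mul_right
      · exact Nat.Coprime.coprime_dvd_left (Dvd.intro_left _ hcard.symm) hσcop
      · -- `|U₂|` divides `|M : M_F|`
        have hd : Nat.card ↥U₂ ∣ (Cfsg.fittingHallOf M).relIndex M := by
          have hFpos : 0 < Nat.card ↥(Cfsg.fittingHallOf M) := Nat.card_pos
          have : (Cfsg.fittingHallOf M).relIndex M * Nat.card ↥(Cfsg.fittingHallOf M) =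
              (Cfsg.sigmaCore M).relIndex M * Nat.card ↥U₂ *
                Nat.card ↥(Cfsg.fittingHallOf M) := by
            rw [← hFM, hσM, hcard]; ring
          have h2 := Nat.eq_of_mul_eq_mul_right hFpos this
          rw [h2]; exact Dvd.intro_left _ rfl
        exact (Nat.Coprime.coprime_dvd_right hd hFcop).symm
    exact normalizer_le_of_nilpotent_hall hG hM hc.2.1 h.U_nilpotent hU₂1 hcop
  have hnil := Cfsg.Agent.Lib.Helper7.BG14P.nilpotent_of_U_ne_bot hG hM hKU' hU'1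
  have hF := Cfsg.Agent.Lib.helper3.BG14.sigmaCore_eq_fittingHallOf hG hM hnil
  have hc := hU
  rw [← hF, h65] at hc
  obtain ⟨g, hg, hgU⟩ := exists_conj_of_compl hG hM hKU' hc
  have hNM : U' ⊔ Cfsg.sigmaCore M ≤ M :=
    sup_le hKU'.compl.1 (Cfsg.Agent.H2.BG11.sigmaCore_le M)
  have hdec := isSigmaDecomposition_cj hKU' (hNM hg)
  rw [← hgU] at hdec
  have hU1 : U ≠ ⊥ := by
    intro h0
    have h1 := Cfsg.Agent.Lib.BG127H7.card_of_isComplIn hc
    have h2 := Cfsg.Agent.H1.card_sup_mul_card_inf U' (Cfsg.sigmaCore M)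
      (hKU'.compl.1.trans (Cfsg.Agent.H2.BG11.le_normalizer_sigmaCore M))
    rw [Cfsg.Agent.Lib.Helper5.BG14Z.U_inf_sigmaCore hKU', Subgroup.card_bot, mul_one] at h2
    rw [h0, Subgroup.card_bot, mul_one] at h1
    have hσpos : 0 < Nat.card ↥(Cfsg.sigmaCore M) := Nat.card_pos
    have h3 : Nat.card ↥U' = 1 := by
      have : Nat.card ↥U' * Nat.card ↥(Cfsg.sigmaCore M) = 1 * Nat.card ↥(Cfsg.sigmaCore M) := by
        rw [one_mul, ← h2]; exact h1
      exact Nat.eq_of_mul_eq_mul_right hσpos this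
    exact hU'1 (Subgroup.card_eq_one.mp h3)
  refine ⟨cj g K, ?_, hdec, hF.symm, ?_, hU1⟩
  · intro h0
    apply hK1
    rw [eq_bot_iff]
    intro k hk
    have : g * k * g⁻¹ ∈ cj g K := ⟨k, hk, rfl⟩
    rw [h0, Subgroup.mem_bot] at this
    rw [Subgroup.mem_bot]
    have e : k = g⁻¹ * (g * k * g⁻¹) * g := by group
    rw [e, this]; group
  · rw [h65]
    apply le_antisymm
    · -- `U' M_σ = U M_σ` as `U` is a complement
      intro x hx
      obtain ⟨a, ha, b, hb, rfl⟩ := hc.2.2.2 x hx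
      exact Subgroup.mul_mem _ (Subgroup.mem_sup_right ha) (Subgroup.mem_sup_left hb)
    · exact sup_le hc.2.1 le_sup_right

/-- type-`𝒫` data is incompatible with Type I (given `HypQ`) -/
theorem not_typeI_of_typeP (hG : Cfsg.IsMinSimpleOddOrder G) {M W₁ U₂ W₂ : Subgroup G}
    (hM : IsCoatom M) (hQ : ∀ K : Subgroup G, Cfsg.IsPiHallOf (Cfsg.kappa M) K M →
      Cfsg.Agent.Lib.Helper4.BG14.HypQ M K)
    (h : Cfsg.IsTypePWith M W₁ U₂ W₂) : ¬ Cfsg.IsOfTypeI M := by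
  intro hI
  obtain ⟨K, hK, hK1, -⟩ := exists_hall_kappa_of_typeP hG hM h
  exact hK1 (hall_kappa_eq_bot_of_typeI hG hM hI hK (hQ K hK))

/-- Types III and IV have `M' ≤ M_σ` -/
theorem commutator_le_sigmaCore_of_typeIII_IV (hG : Cfsg.IsMinSimpleOddOrder G) {M : Subgroup G}
    (hM : IsCoatom M) (h34 : Cfsg.IsOfTypeIII M ∨ Cfsg.IsOfTypeIV M) :
    (⁅M, M⁆ : Subgroup G) ≤ Cfsg.sigmaCore M := by
  have h63 : ∀ K U : Subgroup G, Cfsg.IsSigmaDecomposition M K U → K ≠ ⊥ →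
      ¬ Subgroup.normalizer (U : Set G) ≤ M := fun K U hKU hK1 =>
    (Cfsg.Agent.Lib.Helper7.BG14P.s1363 hG hM hKU hK1).2
  rcases h34 with ⟨W₁, U₂, W₂, h, -, -, -, -, hN⟩ | ⟨W₁, U₂, W₂, h, -, -, -, -, hN⟩
  · exact commutator_le_sigmaCore_of_normalizer_le hG hM h63 h hN
  · exact commutator_le_sigmaCore_of_normalizer_le hG hM h63 h hN

/-- Type II excludes Types III and IV -/
theorem not_typeIII_IV_of_typeII (hG : Cfsg.IsMinSimpleOddOrder G) {M : Subgroup G}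
    (hM : IsCoatom M) (hII : Cfsg.IsOfTypeII M) : ¬ (Cfsg.IsOfTypeIII M ∨ Cfsg.IsOfTypeIV M) := by
  intro h34
  have hle := commutator_le_sigmaCore_of_typeIII_IV hG hM h34
  obtain ⟨W₁, U₂, W₂, h, hrest⟩ := id hII
  obtain ⟨K, hK1, hKU, hF, h65, hU1⟩ := typeII_facts hG hM hII h.U_compl
  apply hU1
  rw [eq_bot_iff, ← Cfsg.Agent.Lib.Helper5.BG14Z.U_inf_sigmaCore hKU]
  exact le_inf le_rfl ((le_sup_left.trans h65.ge).trans hle)

/-- Type I excludes Types III and IV (given `HypQ`) -/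
theorem not_typeIII_IV_of_typeI (hG : Cfsg.IsMinSimpleOddOrder G) {M : Subgroup G}
    (hM : IsCoatom M) (hQ : ∀ K : Subgroup G, Cfsg.IsPiHallOf (Cfsg.kappa M) K M →
      Cfsg.Agent.Lib.Helper4.BG14.HypQ M K)
    (hI : Cfsg.IsOfTypeI M) : ¬ (Cfsg.IsOfTypeIII M ∨ Cfsg.IsOfTypeIV M) := by
  rintro (⟨W₁, U₂, W₂, h, -⟩ | ⟨W₁, U₂, W₂, h, -⟩)
  · exact not_typeI_of_typeP hG hM hQ h hI
  · exact not_typeI_of_typeP hG hM hQ h hI

/-- the common part of S1390 -/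
theorem s1390_aux (hG : Cfsg.IsMinSimpleOddOrder G) {M K U : Subgroup G} (hM : IsCoatom M)
    (hKU : Cfsg.IsSigmaDecomposition M K U)
    (hF : Cfsg.fittingHallOf M = Cfsg.sigmaCore M)
    (hA : Cfsg.typeA M \ Cfsg.typeA1 M = Cfsg.sigmaA M U \ (Cfsg.sigmaCore M : Set G)) :
    (∀ (p : ℕ), p.Prime → ∀ P : Sylow p U,
        IsMulCommutative (P : Subgroup U) ∧ Cfsg.PRankLE p 2 (P : Subgroup U)) ∧
      (∀ X : Set G, X ⊆ (U : Set G) \ {1} → X.Nonempty →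
        Cfsg.fittingHallOf M ⊓ Subgroup.centralizer X ≠ ⊥ →
        Subgroup.centralizer X ≤ M ∧
          ∀ L : Subgroup G, IsCoatom L → Subgroup.centralizer X ≤ L → L = M) ∧
      Cfsg.IsTISubset (Cfsg.typeA M \ Cfsg.typeA1 M) := by
  refine ⟨Cfsg.Agent.S1358.result hG M hM K U hKU, ?_, ?_⟩
  · intro X hXU hXne hXc
    have hle : Subgroup.closure X ≤ U := by
      rw [Subgroup.closure_le]
      exact fun x hx => (hXU hx).1
    have hne : Subgroup.closure X ≠ ⊥ := by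
      obtain ⟨x, hx⟩ := hXne
      intro h0
      have h1 : x ∈ Subgroup.closure X := Subgroup.subset_closure hx
      rw [h0, Subgroup.mem_bot] at h1
      exact (hXU hx).2 h1
    have hcen : Subgroup.centralizer ((Subgroup.closure X : Subgroup G) : Set G) =
        Subgroup.centralizer X := Subgroup.centralizer_closure X
    have := Cfsg.Agent.S1361.result hG M hM K U hKU (Subgroup.closure X) hle hne
      (by rw [hcen, ← hF]; exact hXc)
    rw [hcen] at this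
    exact this
  · rw [hA]
    exact Cfsg.Agent.S1362.result hG M hM K U hKU

/-- S1390, given `HypQ` for `M` -/
theorem s1390_of (hG : Cfsg.IsMinSimpleOddOrder G) {M U : Subgroup G} (hM : IsCoatom M)
    (hQ : ∀ K : Subgroup G, Cfsg.IsPiHallOf (Cfsg.kappa M) K M →
      Cfsg.Agent.Lib.Helper4.BG14.HypQ M K)
    (hU : (Cfsg.IsOfTypeI M ∧ Cfsg.IsComplIn (Cfsg.fittingHallOf M) U M) ∨
      (Cfsg.IsOfTypeII M ∧ Cfsg.IsComplIn (Cfsg.fittingHallOf M) U ⁅M, M⁆)) :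
    (∀ (p : ℕ), p.Prime → ∀ P : Sylow p U,
        IsMulCommutative (P : Subgroup U) ∧ Cfsg.PRankLE p 2 (P : Subgroup U)) ∧
      (∀ X : Set G, X ⊆ (U : Set G) \ {1} → X.Nonempty →
        Cfsg.fittingHallOf M ⊓ Subgroup.centralizer X ≠ ⊥ →
        Subgroup.centralizer X ≤ M ∧
          ∀ L : Subgroup G, IsCoatom L → Subgroup.centralizer X ≤ L → L = M) ∧
      Cfsg.IsTISubset (Cfsg.typeA M \ Cfsg.typeA1 M) := by
  rcases hU with ⟨hI, hU⟩ | ⟨hII, hU⟩
  · obtain ⟨hF, hKU⟩ := typeI_facts hG hM hI hQ hU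
    have h34 := not_typeIII_IV_of_typeI hG hM hQ hI
    have hUM : U ⊔ Cfsg.sigmaCore M = M := by
      apply le_antisymm (sup_le hKU.compl.1 (Cfsg.Agent.H2.BG11.sigmaCore_le M))
      intro m hm
      obtain ⟨a, ha, b, hb, rfl⟩ := hKU.compl.2.2.2 m hm
      rw [bot_sup_eq] at hb
      exact Subgroup.mul_mem _ (Subgroup.mem_sup_left ha) (Subgroup.mem_sup_right hb)
    refine s1390_aux hG hM hKU hF ?_
    ext a
    simp only [Cfsg.typeA, Cfsg.typeA1, Cfsg.typeCore, if_pos hI, if_neg h34, Cfsg.sigmaA,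
      Cfsg.sigmaHat, hUM, hF, Set.mem_diff, Set.mem_setOf_eq, Set.mem_inter_iff, SetLike.mem_coe,
      Set.mem_singleton_iff]
    constructor
    · rintro ⟨⟨haM, ha1, x, hx, hx1, hax⟩, hn⟩
      exact ⟨⟨⟨haM, x, hx, hx1, hax⟩, haM⟩, fun h0 => hn ⟨h0, ha1⟩⟩
    · rintro ⟨⟨⟨haM, x, hx, hx1, hax⟩, -⟩, hn⟩
      have ha1 : a ≠ 1 := fun h0 => hn (h0 ▸ Subgroup.one_mem _)
      exact ⟨⟨haM, ha1, x, hx, hx1, hax⟩, fun h0 => hn h0.1⟩
  · obtain ⟨K, hK1, hKU, hF, h65, hU1⟩ := typeII_facts hG hM hII hU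
    have h34 := not_typeIII_IV_of_typeII hG hM hII
    have hnI : ¬ Cfsg.IsOfTypeI M := by
      obtain ⟨W₁, U₂, W₂, h, -⟩ := id hII
      exact not_typeI_of_typeP hG hM hQ h
    have hcM : (⁅M, M⁆ : Subgroup G) ≤ M := Subgroup.commutator_le_self M
    refine s1390_aux hG hM hKU hF ?_
    ext a
    simp only [Cfsg.typeA, Cfsg.typeA1, Cfsg.typeCore, if_neg hnI, if_neg h34, Cfsg.sigmaA,
      Cfsg.sigmaHat, ← h65, hF, Set.mem_diff, Set.mem_setOf_eq, Set.mem_inter_iff,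
      SetLike.mem_coe, Set.mem_singleton_iff]
    constructor
    · rintro ⟨⟨haM, ha1, x, hx, hx1, hax⟩, hn⟩
      exact ⟨⟨⟨hcM haM, x, hx, hx1, hax⟩, haM⟩, fun h0 => hn ⟨h0, ha1⟩⟩
    · rintro ⟨⟨⟨-, x, hx, hx1, hax⟩, haM⟩, hn⟩
      have ha1 : a ≠ 1 := fun h0 => hn (h0 ▸ Subgroup.one_mem _)
      exact ⟨⟨haM, ha1, x, hx, hx1, hax⟩, fun h0 => hn h0.1⟩

/-- `HypQ` for all Hall `κ(M)`-subgroups from (the relevant part of) the statement of S1437 -/
theorem hypQ_of (hG : Cfsg.IsMinSimpleOddOrder G) {M : Subgroup G} (hM : IsCoatom M)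
    (h37 : ∀ K U : Subgroup G, Cfsg.IsSigmaDecomposition M K U →
      Cfsg.fittingHallOf M ≠ Cfsg.sigmaCore M →
      ∃ Q : Subgroup G, Q ≤ Cfsg.fittingHallOf M ∧ M ≤ Subgroup.normalizer (Q : Set G) ∧
        IsPGroup (Nat.card ↥(Cfsg.sigmaCore M ⊓ Subgroup.centralizer (K : Set G))) Q ∧
        ¬ Nat.card ↥(Cfsg.sigmaCore M ⊓ Subgroup.centralizer (K : Set G)) ∣
          Q.relIndex (Cfsg.sigmaCore M)) :
    ∀ K : Subgroup G, Cfsg.IsPiHallOf (Cfsg.kappa M) K M →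
      Cfsg.Agent.Lib.Helper4.BG14.HypQ M K := by
  intro K hK hne
  have hKc := (Cfsg.Agent.S1351.result hG M hM).2 K hK
  obtain ⟨U, hKU⟩ := (Cfsg.Agent.S1352.result hG M hM K hKc hK).1
  exact h37 K U hKU hne

end Cfsg.Agent.Lib.Helper4.BG16
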