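import Mathlib
import Cfsg.Agent.Lib.Helper4.BG16D
import Cfsg.Agent.H2.BGU.Fit
import Cfsg.Agent.Lib.Helper5.Grp.QuatDirect

/-!
Bender–Glauberman §16 / Peterfalvi §8, helper4: for `M` of Type II the sets `A₀(M)`, `A(M)`,
`A₁(M)` are TI-subsets with normaliser `M` (S1538).
-/

set_option autoImplicit false
set_option linter.unusedSectionVars false
set_option linter.unusedVariables false
set_option linter.style.haveILetI false
set_option maxHeartbeats 1000000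
open Cfsg
open scoped commutatorElement Pointwise

namespace Cfsg.Agent.Lib.Helper4.BG16

open Cfsg.Agent.Lib.Helper7 (IsSylowIn)
open Cfsg.Agent.Lib.Helper8.BGTen Cfsg.Agent.Lib.Helper4.BGTrans

universe u

variable {G : Type u} [Group G] [Finite G]

/-- the set normaliser of an `M`-invariant subset of `M` with a non-identity element is `M` -/
theorem set_normalizer_eq (hG : Cfsg.IsMinSimpleOddOrder G) {M : Subgroup G} (hM : IsCoatom M)
    {A : Set G} (hAM : A ⊆ (M : Set G)) (hinv : ∀ m ∈ M, ∀ a ∈ A, m * a * m⁻¹ ∈ A)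
    (hne : ∃ a ∈ A, a ≠ 1) : Subgroup.normalizer A = M := by
  have h1 : M ≤ Subgroup.normalizer A := by
    intro m hm
    rw [Subgroup.mem_set_normalizer_iff]
    intro x
    refine ⟨hinv m hm x, fun hx => ?_⟩
    have := hinv m⁻¹ (M.inv_mem hm) _ hx
    have e : m⁻¹ * (m * x * m⁻¹) * m⁻¹⁻¹ = x := by group
    rwa [e] at this
  have h2 : Subgroup.normalizer A ≤ Subgroup.normalizer ((Subgroup.closure A : Subgroup G) : Set G) := by
    have key : ∀ g ∈ Subgroup.normalizer A, ∀ x ∈ Subgroup.closure A,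
        g * x * g⁻¹ ∈ Subgroup.closure A := by
      intro g hg x hx
      induction hx using Subgroup.closure_induction with
      | mem y hy =>
        exact Subgroup.subset_closure ((Subgroup.mem_set_normalizer_iff.mp hg y).mp hy)
      | one => simp
      | mul y z _ _ hy hz =>
        have e : g * (y * z) * g⁻¹ = (g * y * g⁻¹) * (g * z * g⁻¹) := by group
        rw [e]; exact Subgroup.mul_mem _ hy hz
      | inv y _ hy =>
        have e : g * y⁻¹ * g⁻¹ = (g * y * g⁻¹)⁻¹ := by group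
        rw [e]; exact Subgroup.inv_mem _ hy
    intro g hg
    rw [Subgroup.mem_normalizer_iff]
    intro x
    refine ⟨key g hg x, fun hx => ?_⟩
    have := key g⁻¹ (Subgroup.inv_mem _ hg) _ hx
    have e : g⁻¹ * (g * x * g⁻¹) * g⁻¹⁻¹ = x := by group
    rwa [e] at this
  have hcM : Subgroup.closure A ≤ M := (Subgroup.closure_le M).mpr hAM
  have hc1 : Subgroup.closure A ≠ ⊥ := by
    obtain ⟨a, ha, ha1⟩ := hne
    intro h0
    have : a ∈ Subgroup.closure A := Subgroup.subset_closure ha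
    rw [h0, Subgroup.mem_bot] at this
    exact ha1 this
  have h3 := Cfsg.Agent.H2.BGU.normalizer_eq_coatom hG hM hc1 hcM (h1.trans h2)
  exact le_antisymm (h3 ▸ h2) h1

/-- an element whose power by a number prime to its order lies in a subgroup lies in it -/
theorem mem_of_pow_mem_of_coprime {N : Subgroup G} {x : G} {n : ℕ} (hx : x ^ n ∈ N)
    (hc : (orderOf x).Coprime n) : x ∈ N := by
  obtain ⟨m, hm⟩ := exists_pow_eq_self_of_coprime hc.symm
  rw [← hm]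
  exact N.pow_mem hx m

/-- a conjugate in `M` of an element of `M_σ` lies in `M_σ` -/
theorem conj_mem_sigmaCore (hG : Cfsg.IsMinSimpleOddOrder G) {M : Subgroup G} (hM : IsCoatom M)
    {a g : G} (ha : a ∈ Cfsg.sigmaCore M) (hga : g * a * g⁻¹ ∈ M) :
    g * a * g⁻¹ ∈ Cfsg.sigmaCore M := by
  set n := (Cfsg.sigmaCore M).relIndex M with hn
  haveI : ((Cfsg.sigmaCore M).subgroupOf M).Normal :=
    (Subgroup.normal_subgroupOf_iff_le_normalizer (Cfsg.Agent.H2.BG11.sigmaCore_le M)).mpr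
      (Cfsg.Agent.H2.BG11.le_normalizer_sigmaCore M)
  have hpow : (g * a * g⁻¹) ^ n ∈ Cfsg.sigmaCore M := by
    have := Subgroup.pow_index_mem ((Cfsg.sigmaCore M).subgroupOf M) (⟨g * a * g⁻¹, hga⟩ : ↥M)
    rw [Subgroup.mem_subgroupOf] at this
    exact this
  apply mem_of_pow_mem_of_coprime hpow
  have ho : orderOf (g * a * g⁻¹) = orderOf a := by
    have := orderOf_injective (MulAut.conj g).toMonoidHom (MulAut.conj g).injective a
    simpa using this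
  rw [ho]
  apply Nat.Coprime.coprime_dvd_left (Subgroup.orderOf_dvd_natCard _ ha)
  apply Nat.coprime_of_dvd'
  intro q hq hqd hqi
  exact absurd hqi ((Cfsg.Agent.H2.BG11.sigmaCore_hallOf hG hM).2.2 q hq
    ((Cfsg.Agent.H2.BG11.sigmaCore_hallOf hG hM).2.1 q hq hqd))

section offdiag

variable {M W₁ U₂ W₂ : Subgroup G}

/-- `w = w₁ w₂` for `w ∈ W₁ W₂` -/
theorem exists_mul_of_typeP (h : Cfsg.IsTypePWith M W₁ U₂ W₂) {w : G} (hw : w ∈ W₁ ⊔ W₂) :
    ∃ a ∈ W₁, ∃ b ∈ W₂, w = a * b ∧ a * b = b * a := by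
  obtain ⟨a, ha, b, hb, e⟩ :=
    Cfsg.Agent.Lib.Helper5.QDir.exists_mul_of_mem_sup h.selfNormalizing.2.2.2.1 hw
  exact ⟨a, ha, b, hb, e, h.selfNormalizing.2.2.2.1 a ha b hb⟩

theorem W₂_le_commutator (h : Cfsg.IsTypePWith M W₁ U₂ W₂) : W₂ ≤ ⁅M, M⁆ :=
  (h.W₂_le.trans inf_le_left).trans h.U_compl.1

theorem coprime_W₁_commutator (h : Cfsg.IsTypePWith M W₁ U₂ W₂) :
    (Nat.card ↥W₁).Coprime (Nat.card ↥⁅M, M⁆) := by
  rw [← relIndex_W₁_of_typeP h]; exact h.W₁_hall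

/-- an element of `W₁ W₂` killed by `|M'|` lies in `W₂` -/
theorem mem_W₂_of_pow_eq_one (h : Cfsg.IsTypePWith M W₁ U₂ W₂) {w : G} (hw : w ∈ W₁ ⊔ W₂)
    (hpow : w ^ Nat.card ↥⁅M, M⁆ = 1) : w ∈ W₂ := by
  obtain ⟨a, ha, b, hb, rfl, hab⟩ := exists_mul_of_typeP h hw
  have hbn : b ^ Nat.card ↥⁅M, M⁆ = 1 :=
    orderOf_dvd_iff_pow_eq_one.mp (Subgroup.orderOf_dvd_natCard _ (W₂_le_commutator h hb))
  rw [(show Commute a b from hab).mul_pow, hbn, mul_one] at hpow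
  have h1 : orderOf a ∣ Nat.card ↥⁅M, M⁆ := orderOf_dvd_iff_pow_eq_one.mpr hpow
  have h2 : orderOf a ∣ Nat.card ↥W₁ := Subgroup.orderOf_dvd_natCard _ ha
  have h3 : orderOf a = 1 := Nat.eq_one_of_dvd_coprimes (coprime_W₁_commutator h) h2 h1
  rw [orderOf_eq_one_iff.mp h3, one_mul]
  exact hb

/-- the `|W₁|`-th power of an element of `W₁ W₂ ∖ W₁` is a non-identity element of `W₂` -/
theorem pow_card_W₁_mem (h : Cfsg.IsTypePWith M W₁ U₂ W₂) {w : G} (hw : w ∈ W₁ ⊔ W₂) :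
    w ^ Nat.card ↥W₁ ∈ W₂ ∧ (w ∉ W₁ → w ^ Nat.card ↥W₁ ≠ 1) := by
  obtain ⟨a, ha, b, hb, rfl, hab⟩ := exists_mul_of_typeP h hw
  have han : a ^ Nat.card ↥W₁ = 1 :=
    orderOf_dvd_iff_pow_eq_one.mp (Subgroup.orderOf_dvd_natCard _ ha)
  rw [(show Commute a b from hab).mul_pow, han, one_mul]
  refine ⟨W₂.pow_mem hb _, fun hnot hpow => hnot ?_⟩
  have h1 : orderOf b ∣ Nat.card ↥W₁ := orderOf_dvd_iff_pow_eq_one.mpr hpow
  have h2 : orderOf b ∣ Nat.card ↥⁅M, M⁆ :=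
    Subgroup.orderOf_dvd_natCard _ (W₂_le_commutator h hb)
  have h3 : orderOf b = 1 := Nat.eq_one_of_dvd_coprimes (coprime_W₁_commutator h) h1 h2
  rw [orderOf_eq_one_iff.mp h3, mul_one]
  exact ha

end offdiag

/-- conjugation facts used repeatedly -/
theorem conj_ne_one {g a : G} (ha : a ≠ 1) : g * a * g⁻¹ ≠ 1 := by
  intro h0
  apply ha
  have e : a = g⁻¹ * (g * a * g⁻¹) * g := by group
  rw [e, h0]; group

theorem conj_comm {g a x : G} (h : a * x = x * a) :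
    g * a * g⁻¹ * (g * x * g⁻¹) = g * x * g⁻¹ * (g * a * g⁻¹) := by
  calc g * a * g⁻¹ * (g * x * g⁻¹) = g * (a * x) * g⁻¹ := by group
    _ = g * (x * a) * g⁻¹ := by rw [h]
    _ = g * x * g⁻¹ * (g * a * g⁻¹) := by group

theorem mem_of_conj_mem_of_le_normalizer {N M : Subgroup G}
    (hn : M ≤ Subgroup.normalizer (N : Set G)) {m a : G} (hm : m ∈ M) (h : m * a * m⁻¹ ∈ N) :
    a ∈ N := (Subgroup.mem_normalizer_iff.mp (hn hm) a).mpr h

theorem conj_mem_of_le_normalizer {N M : Subgroup G}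
    (hn : M ≤ Subgroup.normalizer (N : Set G)) {m a : G} (hm : m ∈ M) (h : a ∈ N) :
    m * a * m⁻¹ ∈ N := (Subgroup.mem_normalizer_iff.mp (hn hm) a).mp h

/-- **S1538** (given `HypQ`): for `M` of Type II, `A₀(M)`, `A(M)`, `A₁(M)` are TI-subsets with
normaliser `M` -/
theorem s1538_of (hG : Cfsg.IsMinSimpleOddOrder G) {M : Subgroup G} (hM : IsCoatom M)
    (hQ : ∀ K : Subgroup G, Cfsg.IsPiHallOf (Cfsg.kappa M) K M →
      Cfsg.Agent.Lib.Helper4.BG14.HypQ M K)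
    (hII : Cfsg.IsOfTypeII M) :
    (Cfsg.IsTISubset (Cfsg.typeA0 M) ∧ Subgroup.normalizer (Cfsg.typeA0 M) = M) ∧
      (Cfsg.IsTISubset (Cfsg.typeA M) ∧ Subgroup.normalizer (Cfsg.typeA M) = M) ∧
      (Cfsg.IsTISubset (Cfsg.typeA1 M) ∧ Subgroup.normalizer (Cfsg.typeA1 M) = M) := by
  obtain ⟨W₁, U₂, W₂, h, hU₂1, hW₁p, hTI, hU₂ab, hN, hF', hFF⟩ := id hII
  obtain ⟨K, hK1, hKU, hF, h65, hU1⟩ := typeII_facts hG hM hII h.U_compl
  have hnI : ¬ Cfsg.IsOfTypeI M := not_typeI_of_typeP hG hM hQ h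
  have h34 := not_typeIII_IV_of_typeII hG hM hII
  have hcM : (⁅M, M⁆ : Subgroup G) ≤ M := Subgroup.commutator_le_self M
  have hcn := Cfsg.Agent.H2.BG13.le_normalizer_commutator M
  have hFn := Cfsg.Agent.Lib.Helper4.TypeP.le_normalizer_fittingHallOf M
  have hσn := Cfsg.Agent.H2.BG11.le_normalizer_sigmaCore M
  have hFM' : Cfsg.fittingHallOf M ≤ ⁅M, M⁆ := h.U_compl.1
  have hFFit : Cfsg.fittingHallOf M ≤ Cfsg.fittingOf M := by
    rw [← h.fitting_eq]; exact le_sup_left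
  have hF1 : Cfsg.fittingHallOf M ≠ ⊥ := by
    intro h0
    apply h.H_not_cyclic
    rw [h0]
    infer_instance
  obtain ⟨y₀, hy₀, hy₀1⟩ := Cfsg.Agent.Lib.Helper4.BG14.exists_ne_one_of_ne_bot hF1
  have hFit1 : Cfsg.fittingOf M ≠ ⊥ := by
    intro h0
    apply hy₀1
    have := hFFit hy₀
    rwa [h0, Subgroup.mem_bot] at this
  have hNFit : Subgroup.normalizer (Cfsg.fittingOf M : Set G) = M :=
    Cfsg.Agent.H2.BGU.normalizer_eq_coatom hG hM hFit1 (Cfsg.Agent.H2.BGU.fittingOf_le M)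
      (Cfsg.Agent.H2.BGU.le_normalizer_fittingOf M)
  -- the TI property of `F(M)`
  have T : ∀ g : G, g ∉ M → ∀ x ∈ Cfsg.fittingOf M, g * x * g⁻¹ ∈ Cfsg.fittingOf M → x = 1 := by
    intro g hg x hx hgx
    exact hTI g (by rw [hNFit]; exact hg) x hx hgx
  -- membership in the three sets
  have memA1 : ∀ a : G, a ∈ Cfsg.typeA1 M ↔ a ∈ Cfsg.fittingHallOf M ∧ a ≠ 1 := by
    intro a
    simp only [Cfsg.typeA1, Cfsg.typeCore, if_neg h34, Set.mem_diff, SetLike.mem_coe,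
      Set.mem_singleton_iff]
  have memA : ∀ a : G, a ∈ Cfsg.typeA M ↔
      a ∈ ⁅M, M⁆ ∧ a ≠ 1 ∧ ∃ x ∈ Cfsg.fittingHallOf M, x ≠ 1 ∧ a * x = x * a := by
    intro a
    simp only [Cfsg.typeA, Cfsg.typeCore, if_neg hnI, if_neg h34, Set.mem_setOf_eq]
  have hy₀A : y₀ ∈ Cfsg.typeA M := (memA y₀).mpr ⟨hFM' hy₀, hy₀1, y₀, hy₀, hy₀1, rfl⟩
  -- invariance of `A(M)`
  have invA : ∀ m ∈ M, ∀ a ∈ Cfsg.typeA M, m * a * m⁻¹ ∈ Cfsg.typeA M := by
    intro m hm a ha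
    obtain ⟨ha', ha1, x, hx, hx1, hax⟩ := (memA a).mp ha
    exact (memA _).mpr ⟨conj_mem_of_le_normalizer hcn hm ha', conj_ne_one ha1, m * x * m⁻¹,
      conj_mem_of_le_normalizer hFn hm hx, conj_ne_one hx1, conj_comm hax⟩
  have hAM : Cfsg.typeA M ⊆ (M : Set G) := fun a ha => hcM ((memA a).mp ha).1
  have NA : Subgroup.normalizer (Cfsg.typeA M) = M :=
    set_normalizer_eq hG hM hAM invA ⟨y₀, hy₀A, hy₀1⟩
  -- `A₁(M)`
  have invA1 : ∀ m ∈ M, ∀ a ∈ Cfsg.typeA1 M, m * a * m⁻¹ ∈ Cfsg.typeA1 M := by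
    intro m hm a ha
    obtain ⟨ha', ha1⟩ := (memA1 a).mp ha
    exact (memA1 _).mpr ⟨conj_mem_of_le_normalizer hFn hm ha', conj_ne_one ha1⟩
  have NA1 : Subgroup.normalizer (Cfsg.typeA1 M) = M :=
    set_normalizer_eq hG hM
      (fun a ha => (Cfsg.Agent.Lib.Helper4.TypeP.fittingHallOf_le M) ((memA1 a).mp ha).1)
      invA1 ⟨y₀, (memA1 y₀).mpr ⟨hy₀, hy₀1⟩, hy₀1⟩
  have tiA1 : Cfsg.IsTISubset (Cfsg.typeA1 M) := by
    intro g hg x hx hgx
    rw [NA1] at hg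
    exact T g hg x (hFFit ((memA1 x).mp hx).1) (hFFit ((memA1 _).mp hgx).1)
  -- the set `B = A(M) ∖ M_σ` of S1362
  have h62 := Cfsg.Agent.S1362.result hG M hM K U₂ hKU
  have memB : ∀ a : G, a ∈ Cfsg.sigmaA M U₂ \ (Cfsg.sigmaCore M : Set G) ↔
      ((a ∈ M ∧ ∃ y ∈ Cfsg.sigmaCore M, y ≠ 1 ∧ a * y = y * a) ∧ a ∈ ⁅M, M⁆) ∧
        a ∉ Cfsg.sigmaCore M := by
    intro a
    simp only [Cfsg.sigmaA, Cfsg.sigmaHat, ← h65, Set.mem_diff, Set.mem_inter_iff,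
      Set.mem_setOf_eq, SetLike.mem_coe]
  have invB : ∀ m ∈ M, ∀ a ∈ Cfsg.sigmaA M U₂ \ (Cfsg.sigmaCore M : Set G),
      m * a * m⁻¹ ∈ Cfsg.sigmaA M U₂ \ (Cfsg.sigmaCore M : Set G) := by
    intro m hm a ha
    obtain ⟨⟨⟨haM, y, hy, hy1, hay⟩, ha'⟩, hn⟩ := (memB a).mp ha
    exact (memB _).mpr ⟨⟨⟨M.mul_mem (M.mul_mem hm haM) (M.inv_mem hm), m * y * m⁻¹,
      conj_mem_of_le_normalizer hσn hm hy, conj_ne_one hy1, conj_comm hay⟩,
      conj_mem_of_le_normalizer hcn hm ha'⟩,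
      fun h0 => hn (mem_of_conj_mem_of_le_normalizer hσn hm h0)⟩
  -- TI for `A(M)`, in the form `g ∉ M`
  have tiA' : ∀ g : G, g ∉ M → ∀ a ∈ Cfsg.typeA M, g * a * g⁻¹ ∈ Cfsg.typeA M → False := by
    intro g hg a ha hga
    obtain ⟨ha', ha1, x, hx, hx1, hax⟩ := (memA a).mp ha
    obtain ⟨hga', hga1, x', hx', hx'1, hgax⟩ := (memA _).mp hga
    by_cases haσ : a ∈ Cfsg.sigmaCore M
    · have h1 := conj_mem_sigmaCore hG hM haσ (hcM hga')
      rw [← hF] at haσ h1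
      exact ha1 (T g hg a (hFFit haσ) (hFFit h1))
    · by_cases hgaσ : g * a * g⁻¹ ∈ Cfsg.sigmaCore M
      · apply haσ
        have e : g⁻¹ * (g * a * g⁻¹) * g⁻¹⁻¹ = a := by group
        have h1 := conj_mem_sigmaCore hG hM (g := g⁻¹) hgaσ (by rw [e]; exact hcM ha')
        rwa [e] at h1
      · have haB : a ∈ Cfsg.sigmaA M U₂ \ (Cfsg.sigmaCore M : Set G) :=
          (memB a).mpr ⟨⟨⟨hcM ha', x, hF ▸ hx, hx1, hax⟩, ha'⟩, haσ⟩
        have hgaB : g * a * g⁻¹ ∈ Cfsg.sigmaA M U₂ \ (Cfsg.sigmaCore M : Set G) :=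
          (memB _).mpr ⟨⟨⟨hcM hga', x', hF ▸ hx', hx'1, hgax⟩, hga'⟩, hgaσ⟩
        have NB : Subgroup.normalizer (Cfsg.sigmaA M U₂ \ (Cfsg.sigmaCore M : Set G)) = M :=
          set_normalizer_eq hG hM (fun b hb => ((memB b).mp hb).1.1.1) invB ⟨a, haB, ha1⟩
        exact ha1 (h62 g (by rw [NB]; exact hg) a haB hgaB)
  have tiA : Cfsg.IsTISubset (Cfsg.typeA M) := by
    intro g hg a ha hga
    rw [NA] at hg
    exact (tiA' g hg a ha hga).elim
  -- `A₀(M)`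
  have memD : ∀ v : G, v ∈ Cfsg.typeA0 M ↔ v ∈ Cfsg.typeA M ∨
      ∃ W₁ U W₂ : Subgroup G, Cfsg.IsTypePWith M W₁ U W₂ ∧
        ∃ m ∈ M, ∃ w ∈ W₁ ⊔ W₂, w ∉ W₁ ∧ w ∉ W₂ ∧ v = m * w * m⁻¹ := by
    intro v
    simp only [Cfsg.typeA0, Set.mem_union, Set.mem_setOf_eq]
    constructor
    · rintro (h1 | ⟨-, h1⟩)
      · exact Or.inl h1
      · exact Or.inr h1
    · rintro (h1 | h1)
      · exact Or.inl h1
      · exact Or.inr ⟨hnI, h1⟩
  have hA0M : Cfsg.typeA0 M ⊆ (M : Set G) := by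
    intro v hv
    rcases (memD v).mp hv with h1 | ⟨W₁', U', W₂', h', m, hm, w, hw, -, -, rfl⟩
    · exact hAM h1
    · have hwM : w ∈ M :=
        (sup_le h'.W₁_compl.2.1 ((W₂_le_commutator h').trans hcM)) hw
      exact M.mul_mem (M.mul_mem hm hwM) (M.inv_mem hm)
  have invA0 : ∀ m ∈ M, ∀ a ∈ Cfsg.typeA0 M, m * a * m⁻¹ ∈ Cfsg.typeA0 M := by
    intro m hm v hv
    rcases (memD v).mp hv with h1 | ⟨W₁', U', W₂', h', m', hm', w, hw, hw1, hw2, rfl⟩
    · exact (memD _).mpr (Or.inl (invA m hm v h1))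
    · refine (memD _).mpr (Or.inr ⟨W₁', U', W₂', h', m * m', M.mul_mem hm hm', w, hw, hw1, hw2, ?_⟩)
      group
  have NA0 : Subgroup.normalizer (Cfsg.typeA0 M) = M :=
    set_normalizer_eq hG hM hA0M invA0 ⟨y₀, (memD y₀).mpr (Or.inl hy₀A), hy₀1⟩
  have powM' : ∀ a ∈ (⁅M, M⁆ : Subgroup G), a ^ Nat.card ↥⁅M, M⁆ = 1 := fun a ha =>
    orderOf_dvd_iff_pow_eq_one.mp (Subgroup.orderOf_dvd_natCard _ ha)
  have conj_pow : ∀ (g a : G) (n : ℕ), (g * a * g⁻¹) ^ n = g * a ^ n * g⁻¹ := by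
    intro g a n
    exact (map_pow (MulAut.conj g) a n).symm
  have tiA0 : Cfsg.IsTISubset (Cfsg.typeA0 M) := by
    intro g hg v hv hgv
    rw [NA0] at hg
    exfalso
    rcases (memD v).mp hv with h1 | ⟨W₁', U', W₂', h', m, hm, w, hw, hw1, hw2, rfl⟩
    · rcases (memD _).mp hgv with h2 | ⟨W₁'', U'', W₂'', h'', m', hm', w', hw', hw'1, hw'2, e⟩
      · exact tiA' g hg v h1 h2
      · -- `v ∈ M'` but `g v g⁻¹` is an off-diagonal element
        apply hw'2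
        apply mem_W₂_of_pow_eq_one h'' hw'
        have h3 := powM' v ((memA v).mp h1).1
        have h4 : (m' * w' * m'⁻¹) ^ Nat.card ↥⁅M, M⁆ = 1 := by
          rw [← e, conj_pow, h3]; group
        rw [conj_pow] at h4
        have e2 : w' ^ Nat.card ↥⁅M, M⁆ =
            m'⁻¹ * (m' * w' ^ Nat.card ↥⁅M, M⁆ * m'⁻¹) * m' := by group
        rw [e2, h4]; group
    · rcases (memD _).mp hgv with h2 | ⟨W₁'', U'', W₂'', h'', m', hm', w', hw', hw'1, hw'2, e⟩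
      · apply hw2
        apply mem_W₂_of_pow_eq_one h' hw
        have h3 := powM' _ ((memA _).mp h2).1
        rw [conj_pow, conj_pow] at h3
        have e2 : w ^ Nat.card ↥⁅M, M⁆ =
            m⁻¹ * (g⁻¹ * (g * (m * w ^ Nat.card ↥⁅M, M⁆ * m⁻¹) * g⁻¹) * g) * m := by group
        rw [e2, h3]; group
      · -- both off-diagonal
        set g' := m'⁻¹ * g * m with hg'
        have hg'M : g' ∉ M := by
          intro h0
          apply hg
          have e3 : g = m' * g' * m⁻¹ := by rw [hg']; group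
          rw [e3]
          exact M.mul_mem (M.mul_mem hm' h0) (M.inv_mem hm)
        have hgw : g' * w * g'⁻¹ = w' := by
          have e3 : g' * w * g'⁻¹ = m'⁻¹ * (g * (m * w * m⁻¹) * g⁻¹) * m' := by
            rw [hg']; group
          rw [e3, e]; group
        have hcard : Nat.card ↥W₁'' = Nat.card ↥W₁' := by
          have h3 := card_of_typeP h'
          have h4 := card_of_typeP h''
          have hpos : 0 < Nat.card ↥⁅M, M⁆ := Nat.card_pos
          have : Nat.card ↥⁅M, M⁆ * Nat.card ↥W₁'' = Nat.card ↥⁅M, M⁆ * Nat.card ↥W₁' := by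
            rw [← h3, ← h4]
          exact Nat.eq_of_mul_eq_mul_left hpos this
        obtain ⟨hx2, hx1⟩ := pow_card_W₁_mem h' hw
        obtain ⟨hx2', -⟩ := pow_card_W₁_mem h'' hw'
        rw [hcard] at hx2'
        have hle' : W₂' ≤ Cfsg.fittingOf M := (h'.W₂_le.trans inf_le_left).trans hFFit
        have hle'' : W₂'' ≤ Cfsg.fittingOf M := (h''.W₂_le.trans inf_le_left).trans hFFit
        apply hx1 hw1
        apply T g' hg'M _ (hle' hx2)
        rw [← conj_pow, hgw]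
        exact hle'' hx2'
  exact ⟨⟨tiA0, NA0⟩, ⟨tiA, NA⟩, ⟨tiA1, NA1⟩⟩

end Cfsg.Agent.Lib.Helper4.BG16
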