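import Mathlib
import Cfsg.Agent.Lib.Helper7.PQLemma
import Cfsg.Agent.H2.PPrimeCore
import Cfsg.Agent.H1.Cores
import Cfsg.Agent.S3800

/-!
# `p'`-subgroups normalized by the centralizer of a `p`-subgroup

* `map_le_centralizer_pCore` : if `Y` is a `p'`-subgroup with `Y ≤ C(R) ≤ N(Y)` for a `p`-subgroup `R`,
  then the image of `Y` in `Γ / O_{p'}(Γ)` centralizes `O_p(Γ / O_{p'}(Γ))`.
* `le_pPrimeCore_of_le_pCore` : if moreover `R ≤ O_p(Γ)`, then `Y ≤ O_{p'}(Γ)`.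
-/

set_option autoImplicit false
set_option linter.style.haveILetI false
set_option linter.unusedVariables false
set_option linter.unusedSectionVars false

open scoped commutatorElement Pointwise

namespace Cfsg.Agent.Lib.Helper4.PLocalCore

open Cfsg

universe u

variable {Γ : Type u} [Group Γ] [Finite Γ] {p : ℕ} [hp : Fact p.Prime]

theorem map_le_centralizer_pCore (R Y : Subgroup Γ) (hR : IsPGroup p ↥R)
    (hY : (Nat.card ↥Y).Coprime p) (hYR : Y ≤ Subgroup.centralizer (R : Set Γ))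
    (hN : Subgroup.centralizer (R : Set Γ) ≤ Subgroup.normalizer (Y : Set Γ)) :
    Y.map (QuotientGroup.mk' (Cfsg.pPrimeCore p Γ)) ≤
      Subgroup.centralizer (Cfsg.pCore p (Γ ⧸ Cfsg.pPrimeCore p Γ) : Set (Γ ⧸ Cfsg.pPrimeCore p Γ)) := by
  have hpp : p.Prime := hp.out
  have hOc : (Nat.card ↥(Cfsg.pPrimeCore p Γ)).Coprime p := Cfsg.Agent.H1.pPrimeCore_coprime p
  set O := Cfsg.pPrimeCore p Γ with hO
  set π := QuotientGroup.mk' O with hπ
  set U := Cfsg.pCore p (Γ ⧸ O) with hU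
  haveI hUn : U.Normal := Cfsg.Agent.H1.pCore_normal p
  have hUp : IsPGroup p ↥U := Cfsg.Agent.H1.pCore_isPGroup p
  have hPp : IsPGroup p ↥(R.map π) := hR.map π
  have hQc : (Nat.card ↥(Y.map π)).Coprime p :=
    Nat.Coprime.coprime_dvd_left (Subgroup.card_map_dvd Y π) hY
  have hPQ : R.map π ≤ Subgroup.centralizer ((Y.map π : Subgroup (Γ ⧸ O)) : Set (Γ ⧸ O)) := by
    rintro _ ⟨r, hr, rfl⟩
    rw [Subgroup.mem_centralizer_iff]
    rintro _ ⟨y, hy, rfl⟩
    have h1 : r * y = y * r := (Subgroup.mem_centralizer_iff.mp (hYR hy) r hr)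
    rw [← map_mul, ← map_mul, h1]
  have htop : Subgroup.normalizer (U : Set (Γ ⧸ O)) = ⊤ := Subgroup.normalizer_eq_top U
  have hdisj : U ⊓ Y.map π = ⊥ := by
    apply (Subgroup.disjoint_of_coprime_natCard ?_).eq_bot
    obtain ⟨n, hn⟩ := IsPGroup.iff_card.mp hUp
    rw [hn]
    exact (hQc.pow_right n).symm
  have hcen := (Cfsg.Agent.S3800.result O hOc R hR).2
  apply Cfsg.Agent.Lib.Helper7.pq_lemma p (R.map π) (Y.map π) hPp hQc hPQ (Nat.card ↥U) U rfl hUp
    (htop ▸ le_top) (htop ▸ le_top)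
  rintro u ⟨huU, huP⟩
  have huP' : u ∈ (Subgroup.centralizer (R : Set Γ)).map π := by
    rw [← hcen]; exact huP
  obtain ⟨c, hc, rfl⟩ := huP'
  rw [Subgroup.mem_centralizer_iff]
  rintro _ ⟨y, hy, rfl⟩
  have hcy : c * y * c⁻¹ ∈ Y := (Subgroup.mem_normalizer_iff.mp (hN hc) y).mp hy
  have hw : c * y * c⁻¹ * y⁻¹ ∈ Y := Y.mul_mem hcy (Y.inv_mem hy)
  have hwU : π (c * y * c⁻¹ * y⁻¹) ∈ U := by
    have h1 : π (c * y * c⁻¹ * y⁻¹) = π c * (π y * (π c)⁻¹ * (π y)⁻¹) := by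
      simp only [map_mul, map_inv]; group
    rw [h1]
    exact U.mul_mem huU (hUn.conj_mem _ (U.inv_mem huU) _)
  have h2 : π (c * y * c⁻¹ * y⁻¹) ∈ U ⊓ Y.map π := ⟨hwU, Subgroup.mem_map_of_mem π hw⟩
  rw [hdisj, Subgroup.mem_bot] at h2
  have h3 : π c * π y * (π c)⁻¹ * (π y)⁻¹ = 1 := by
    simpa only [map_mul, map_inv] using h2
  have h4 : π c * π y = π y * π c := by
    have := congrArg (fun t => t * π y * π c) h3
    simpa [mul_assoc] using this
  exact h4.symm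

theorem le_pPrimeCore_of_le_pCore (R Y : Subgroup Γ) (hR : IsPGroup p ↥R)
    (hY : (Nat.card ↥Y).Coprime p) (hYR : Y ≤ Subgroup.centralizer (R : Set Γ))
    (hN : Subgroup.centralizer (R : Set Γ) ≤ Subgroup.normalizer (Y : Set Γ))
    (hRO : R ≤ Cfsg.pCore p Γ) :
    Y ≤ Cfsg.pPrimeCore p Γ := by
  have hpp : p.Prime := hp.out
  have hOc : (Nat.card ↥(Cfsg.pPrimeCore p Γ)).Coprime p := Cfsg.Agent.H1.pPrimeCore_coprime p
  have key := map_le_centralizer_pCore R Y hR hY hYR hN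
  set O := Cfsg.pPrimeCore p Γ with hO
  set π := QuotientGroup.mk' O with hπ
  set U := Cfsg.pCore p (Γ ⧸ O) with hU
  haveI hUn : U.Normal := Cfsg.Agent.H1.pCore_normal p
  have hQc : (Nat.card ↥(Y.map π)).Coprime p :=
    Nat.Coprime.coprime_dvd_left (Subgroup.card_map_dvd Y π) hY
  have hcen := (Cfsg.Agent.S3800.result O hOc R hR).2
  -- `R̄ ≤ U`
  have hRU : R.map π ≤ U := by
    have h1 : R.map π ≤ (Cfsg.pCore p Γ).map π := Subgroup.map_mono hRO
    refine h1.trans ?_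
    haveI : (Cfsg.pCore p Γ).Normal := Cfsg.Agent.H1.pCore_normal p
    have hn : ((Cfsg.pCore p Γ).map π).Normal :=
      Subgroup.Normal.map inferInstance π (QuotientGroup.mk'_surjective O)
    exact Cfsg.Agent.H1.le_pCore hn ((Cfsg.Agent.H1.pCore_isPGroup p).map π)
  set C := Subgroup.centralizer (U : Set (Γ ⧸ O)) with hC
  haveI hCn : C.Normal := Subgroup.normal_centralizer
  -- `Ȳ` is normal in `C`
  have hYC : Y.map π ≤ C := key
  have hnorm : C ≤ Subgroup.normalizer ((Y.map π : Subgroup (Γ ⧸ O)) : Set (Γ ⧸ O)) := by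
    intro c hc
    have h1 : c ∈ Subgroup.centralizer ((R.map π : Subgroup (Γ ⧸ O)) : Set (Γ ⧸ O)) :=
      Subgroup.centralizer_le (by exact_mod_cast hRU) hc
    rw [hcen] at h1
    obtain ⟨c0, hc0, rfl⟩ := h1
    exact Subgroup.le_normalizer_map π (Subgroup.mem_map_of_mem π (hN hc0))
  have hsub : (Y.map π).IsSubnormal :=
    Subgroup.IsSubnormal.step _ C hYC hCn.isSubnormal
      ((Subgroup.normal_subgroupOf_iff_le_normalizer hYC).2 hnorm)
  have h5 := Cfsg.Agent.H2.le_pPrimeCore_of_isSubnormal p hsub hQc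
  rw [Cfsg.Agent.H2.pPrimeCore_quotient_eq_bot p] at h5
  intro y hy
  have h6 : π y ∈ (⊥ : Subgroup (Γ ⧸ O)) := h5 (Subgroup.mem_map_of_mem π hy)
  rw [Subgroup.mem_bot] at h6
  exact (QuotientGroup.eq_one_iff y).mp h6

end Cfsg.Agent.Lib.Helper4.PLocalCore
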