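import Mathlib
import Cfsg.Agent.Lib.Helper4.PLocalCoreA
import Cfsg.Agent.Lib.Helper4.BGTransD
import Cfsg.Agent.Lib.Lead.Conj
import Cfsg.Agent.H2.PComponentSylow
import Cfsg.Agent.H2.PLayerEquiv
import Cfsg.Agent.S0026

/-!
# `O_{p'}` of a `p`-local subgroup normalizes every `p`-component

* `le_normalizer_pComponent` : if `R` is a `p`-subgroup of the finite group `X` and `D` is a `p'`-subgroup
  with `D ≤ N_X(R) ≤ N_X(D)`, then `D` normalizes every `p`-component of `X`.
-/

set_option autoImplicit false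
set_option linter.style.haveILetI false
set_option linter.unusedVariables false
set_option linter.unusedSectionVars false

open scoped commutatorElement Pointwise

namespace Cfsg.Agent.Lib.Helper4.PLocalCore

open Cfsg Cfsg.Agent.Lib.Lead.Conj

universe u

variable {X : Type u} [Group X] [Finite X] {p : ℕ} [hp : Fact p.Prime]

/-- a `p'`-subgroup `D` with `D ≤ N(R) ≤ N(D)` centralizes the `p`-subgroup `R` -/
theorem le_centralizer_of_normal_coprime (R D : Subgroup X) (hR : IsPGroup p ↥R)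
    (hD : (Nat.card ↥D).Coprime p) (hDR : D ≤ Subgroup.normalizer (R : Set X))
    (hRD : Subgroup.normalizer (R : Set X) ≤ Subgroup.normalizer (D : Set X)) :
    D ≤ Subgroup.centralizer (R : Set X) := by
  have hdisj : R ⊓ D = ⊥ := by
    apply (Subgroup.disjoint_of_coprime_natCard ?_).eq_bot
    obtain ⟨n, hn⟩ := IsPGroup.iff_card.mp hR
    rw [hn]
    exact (hD.pow_right n).symm
  intro d hd
  rw [Subgroup.mem_centralizer_iff]
  intro r hr
  have h1 : d * r * d⁻¹ ∈ R := (Subgroup.mem_normalizer_iff.mp (hDR hd) r).mp hr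
  have h2 : r * d⁻¹ * r⁻¹ ∈ D :=
    (Subgroup.mem_normalizer_iff.mp (hRD (Subgroup.le_normalizer hr)) d⁻¹).mp (D.inv_mem hd)
  have h3 : d * r * d⁻¹ * r⁻¹ ∈ R ⊓ D := by
    refine ⟨R.mul_mem h1 (R.inv_mem hr), ?_⟩
    have e : d * r * d⁻¹ * r⁻¹ = d * (r * d⁻¹ * r⁻¹) := by group
    rw [e]
    exact D.mul_mem hd h2
  rw [hdisj, Subgroup.mem_bot] at h3
  have := congrArg (fun t => t * r * d) h3
  simpa [mul_assoc] using this.symm

theorem le_normalizer_pComponent_aux : ∀ n : ℕ, ∀ R : Subgroup X, Nat.card X - Nat.card ↥R = n →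
    IsPGroup p ↥R → ∀ D : Subgroup X, (Nat.card ↥D).Coprime p →
    D ≤ Subgroup.normalizer (R : Set X) →
    Subgroup.normalizer (R : Set X) ≤ Subgroup.normalizer (D : Set X) →
    ∀ K : Subgroup X, Cfsg.IsPComponent p K → D ≤ Subgroup.normalizer (K : Set X) := by
  intro n
  induction n using Nat.strong_induction_on with
  | _ n ih =>
  intro R hn hR D hD hDR hRD K hK
  have hpp : p.Prime := hp.out
  have hDcR := le_centralizer_of_normal_coprime R D hR hD hDR hRD
  obtain ⟨T, hT⟩ := hR.exists_le_sylow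
  haveI hEn : (Cfsg.pLayer p X).Normal := Cfsg.Agent.H2.pLayer_normal p
  set E := Cfsg.pLayer p X with hE
  set T' := (T : Subgroup X) ⊓ (E ⊔ R) with hT'
  have hRT' : R ≤ T' := le_inf hT le_sup_right
  set R₁ := T' ⊓ Subgroup.normalizer (R : Set X) with hR₁
  have hRR₁ : R ≤ R₁ := le_inf hRT' Subgroup.le_normalizer
  by_cases h : R₁ ≤ R
  · -- base case: `T' = R`
    have hT'R : T' ≤ R := by
      by_contra hne
      have hT'p : IsPGroup p ↥T' := T.2.to_le inf_le_left
      haveI hnil : Group.IsNilpotent ↥T' := hT'p.isNilpotent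
      have hnc : NormalizerCondition ↥T' := Group.normalizerCondition_of_isNilpotent
      have hlt : R.subgroupOf T' < ⊤ :=
        lt_top_iff_ne_top.mpr (fun h => hne (Subgroup.subgroupOf_eq_top.mp h))
      have h2 := hnc _ hlt
      rw [← Subgroup.subgroupOf_normalizer_eq hRT'] at h2
      obtain ⟨x, hx1, hx2⟩ := SetLike.exists_of_lt h2
      exact hx2 (Subgroup.mem_subgroupOf.mpr (h ⟨x.2, Subgroup.mem_subgroupOf.mp hx1⟩))
    intro d hd
    rw [← Cfsg.Agent.H2.map_conj_eq_self_iff_mem_normalizer]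
    apply Cfsg.Agent.H2.pComponent_map_conj_eq_of_centralizes p hK T d
    intro t ht
    have htR : t ∈ R :=
      hT'R ⟨ht.1, Subgroup.mem_sup_left (Cfsg.Agent.H2.pComponent_le_pLayer p hK ht.2)⟩
    exact (Subgroup.mem_centralizer_iff.mp (hDcR hd) t htR).symm
  · -- inductive step
    have hR₁p : IsPGroup p ↥R₁ := T.2.to_le (inf_le_left.trans inf_le_left)
    have hcard : Nat.card ↥R < Nat.card ↥R₁ := by
      have h1 : Nat.card ↥R ∣ Nat.card ↥R₁ := Subgroup.card_dvd_of_le hRR₁
      have h2 : Nat.card ↥R ≠ Nat.card ↥R₁ := by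
        intro he
        exact h (Subgroup.eq_of_le_of_card_ge hRR₁ he.ge).ge
      exact lt_of_le_of_ne (Nat.le_of_dvd Nat.card_pos h1) h2
    have hcardX : Nat.card ↥R₁ ≤ Nat.card X := Subgroup.card_le_card_group R₁
    set Γ := Subgroup.normalizer (R₁ : Set X) with hΓ
    set D₁ := (Cfsg.pPrimeCore p ↥Γ).map Γ.subtype with hD₁
    have hD₁c : (Nat.card ↥D₁).Coprime p := by
      rw [hD₁, Subgroup.card_map_of_injective Γ.subtype_injective]
      exact Cfsg.Agent.H1.pPrimeCore_coprime p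
    have hD₁le : D₁ ≤ Γ := by
      rintro _ ⟨x, -, rfl⟩
      exact x.2
    have hD₁n : Γ ≤ Subgroup.normalizer (D₁ : Set X) := by
      intro g hg
      apply mem_normalizer_of_conj_mem
      rintro _ ⟨x, hx, rfl⟩
      haveI : (Cfsg.pPrimeCore p ↥Γ).Normal := Cfsg.Agent.H1.pPrimeCore_normal p
      refine ⟨(⟨g, hg⟩ : ↥Γ) * x * (⟨g, hg⟩ : ↥Γ)⁻¹, ?_, ?_⟩
      · exact Subgroup.Normal.conj_mem inferInstance x hx _
      · simp
    have hIH : D₁ ≤ Subgroup.normalizer (K : Set X) :=
      ih (Nat.card X - Nat.card ↥R₁) (by omega) R₁ rfl hR₁p D₁ hD₁c hD₁le hD₁n K hK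
    -- `Y = C_D(R₁) ≤ D₁`
    set Y := D ⊓ Subgroup.centralizer (R₁ : Set X) with hY
    have hYΓ : Y ≤ Γ := inf_le_right.trans (Subgroup.centralizer_le_normalizer _)
    have hRΓ : R ≤ Γ := hRR₁.trans Subgroup.le_normalizer
    have hYD₁ : Y ≤ D₁ := by
      have hR' : IsPGroup p ↥(R.subgroupOf Γ) := hR.comap_of_injective Γ.subtype Γ.subtype_injective
      have hY' : (Nat.card ↥(Y.subgroupOf Γ)).Coprime p := by
        rw [Nat.card_congr (Subgroup.subgroupOfEquivOfLe hYΓ).toEquiv]
        exact Nat.Coprime.coprime_dvd_left (Subgroup.card_dvd_of_le inf_le_left) hD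
      have hYR' : Y.subgroupOf Γ ≤ Subgroup.centralizer ((R.subgroupOf Γ : Subgroup ↥Γ) : Set ↥Γ) := by
        intro y hy
        rw [Subgroup.mem_centralizer_iff]
        intro r hr
        apply Subtype.ext
        have h1 := Subgroup.mem_centralizer_iff.mp (hDcR (Subgroup.mem_subgroupOf.mp hy).1) (r : X)
          (Subgroup.mem_subgroupOf.mp hr)
        simpa using h1
      have hN' : Subgroup.centralizer ((R.subgroupOf Γ : Subgroup ↥Γ) : Set ↥Γ) ≤
          Subgroup.normalizer ((Y.subgroupOf Γ : Subgroup ↥Γ) : Set ↥Γ) := by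
        intro c hc
        rw [← Subgroup.subgroupOf_normalizer_eq hYΓ, Subgroup.mem_subgroupOf]
        have hcR : (c : X) ∈ Subgroup.centralizer (R : Set X) := by
          rw [Subgroup.mem_centralizer_iff]
          intro r hr
          have h1 := Subgroup.mem_centralizer_iff.mp hc (⟨r, hRΓ hr⟩ : ↥Γ)
            (Subgroup.mem_subgroupOf.mpr hr)
          exact congrArg Subtype.val h1
        have hcD : (c : X) ∈ Subgroup.normalizer (D : Set X) :=
          hRD (Subgroup.centralizer_le_normalizer _ hcR)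
        have hcC : (c : X) ∈ Subgroup.normalizer
            ((Subgroup.centralizer (R₁ : Set X) : Subgroup X) : Set X) :=
          Cfsg.Agent.Lib.Helper4.BGTrans.normalizer_le_normalizer_centralizer R₁ c.2
        apply mem_normalizer_of_conj_mem
        intro y hy
        exact ⟨(Subgroup.mem_normalizer_iff.mp hcD y).mp hy.1,
          (Subgroup.mem_normalizer_iff.mp hcC y).mp hy.2⟩
      have hRO' : R.subgroupOf Γ ≤ Cfsg.pCore p ↥Γ := by
        have h1 : R.subgroupOf Γ ≤ R₁.subgroupOf Γ := fun x hx => hRR₁ hx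
        refine h1.trans ?_
        have hn : (R₁.subgroupOf Γ).Normal := Subgroup.normal_in_normalizer
        exact Cfsg.Agent.H1.le_pCore hn (hR₁p.comap_of_injective Γ.subtype Γ.subtype_injective)
      have hkey := le_pPrimeCore_of_le_pCore (p := p) (R.subgroupOf Γ) (Y.subgroupOf Γ) hR' hY' hYR'
        hN' hRO'
      intro y hy
      exact ⟨⟨y, hYΓ hy⟩, hkey (Subgroup.mem_subgroupOf.mpr hy), rfl⟩
    -- coprime decomposition `D = [D, R₁] C_D(R₁)`
    have hR₁D : R₁ ≤ Subgroup.normalizer (D : Set X) := inf_le_right.trans hRD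
    have hcop : (Nat.card ↥R₁).Coprime (Nat.card ↥D) := by
      obtain ⟨k, hk⟩ := IsPGroup.iff_card.mp hR₁p
      rw [hk]
      exact (hD.pow_right k).symm
    haveI : Group.IsNilpotent ↥R₁ := hR₁p.isNilpotent
    have hsol : Group.IsSolvable ↥R₁ := inferInstance
    have hdec := Cfsg.Agent.S0026.result R₁ D hR₁D hcop (Or.inl hsol)
    have hcomm : ⁅D, R₁⁆ ≤ E := by
      rw [Subgroup.commutator_le]
      intro d hd r₁ hr₁
      have hr₁' : r₁ ∈ E ⊔ R := hr₁.1.2
      have hmul : r₁ ∈ (E : Set X) * (R : Set X) := by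
        rw [← Subgroup.normal_mul]; exact hr₁'
      obtain ⟨e, he, r, hr, rfl⟩ := hmul
      have hdr : r * d = d * r := Subgroup.mem_centralizer_iff.mp (hDcR hd) r hr
      have hdr' : r * d⁻¹ * r⁻¹ = d⁻¹ := by
        have : r * d⁻¹ = d⁻¹ * r := by
          have := congrArg (fun t => d⁻¹ * t * d⁻¹) hdr
          simpa [mul_assoc] using this.symm
        rw [this]; group
      have e1 : ⁅d, e * r⁆ = d * e * d⁻¹ * e⁻¹ := by
        rw [commutatorElement_def]
        have : d * (e * r) * d⁻¹ * (e * r)⁻¹ = d * e * (r * d⁻¹ * r⁻¹) * e⁻¹ := by group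
        rw [this, hdr']
      rw [e1]
      exact E.mul_mem (hEn.conj_mem e he d) (E.inv_mem he)
    have hEK : E ≤ Subgroup.normalizer (K : Set X) := Cfsg.Agent.H2.pLayer_le_normalizer p hK
    rw [← hdec]
    exact sup_le (hcomm.trans hEK) (hYD₁.trans hIH)

/-- If `R` is a `p`-subgroup and `D` a `p'`-subgroup with `D ≤ N(R) ≤ N(D)` (for instance
`D = O_{p'}(N(R))`), then `D` normalizes every `p`-component. -/
theorem le_normalizer_pComponent (R D : Subgroup X) (hR : IsPGroup p ↥R)
    (hD : (Nat.card ↥D).Coprime p) (hDR : D ≤ Subgroup.normalizer (R : Set X))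
    (hRD : Subgroup.normalizer (R : Set X) ≤ Subgroup.normalizer (D : Set X))
    (K : Subgroup X) (hK : Cfsg.IsPComponent p K) : D ≤ Subgroup.normalizer (K : Set X) :=
  le_normalizer_pComponent_aux _ R rfl hR D hD hDR hRD K hK

end Cfsg.Agent.Lib.Helper4.PLocalCore
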