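import Mathlib
import Cfsg.Prelude.Def_Local
import Cfsg.Agent.H1.Cores
import Cfsg.Agent.H2.Quasisimple
import Cfsg.Agent.H2.Components
import Cfsg.Agent.H2.PComponent

/-!
# `O_{p'}(H / C_H(K)) = 1` for a normal quasisimple subgroup `K` of order divisible by `p`
-/

set_option autoImplicit false
set_option linter.style.haveILetI false
set_option linter.unusedVariables false
set_option linter.unusedSectionVars false

open scoped commutatorElement Pointwise

namespace Cfsg.Agent.Lib.Helper4.BalQuot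

open Cfsg

theorem pPrimeCore_quotient_eq_bot_of_quasisimple {Γ : Type*} [Group Γ] [Finite Γ] (p : ℕ)
    [Fact p.Prime] (K C : Subgroup Γ) [hKn : K.Normal] [hCn : C.Normal]
    (hq : Cfsg.IsQuasisimple ↥K) (hnc : ¬ (Nat.card ↥K).Coprime p)
    (hC : ∀ x : Γ, x ∈ C ↔ ∀ k ∈ K, x * k = k * x) :
    Cfsg.pPrimeCore p (Γ ⧸ C) = ⊥ := by
  have hpp : p.Prime := Fact.out
  obtain ⟨Ob, hObdef⟩ : ∃ Ob : Subgroup (Γ ⧸ C), Ob = Cfsg.pPrimeCore p (Γ ⧸ C) := ⟨_, rfl⟩
  rw [← hObdef]
  haveI hObn : Ob.Normal := by rw [hObdef]; exact Cfsg.Agent.H1.pPrimeCore_normal p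
  have hObc : (Nat.card ↥Ob).Coprime p := by rw [hObdef]; exact Cfsg.Agent.H1.pPrimeCore_coprime p
  obtain ⟨O, hOdef⟩ : ∃ O : Subgroup Γ, O = Ob.comap (QuotientGroup.mk' C) := ⟨_, rfl⟩
  haveI hOn : O.Normal := by rw [hOdef]; exact Subgroup.Normal.comap hObn _
  have hsuff : O ≤ C → Ob = ⊥ := by
    intro hOC
    rw [eq_bot_iff]
    intro y hy
    obtain ⟨x, rfl⟩ := QuotientGroup.mk'_surjective C y
    have hx : x ∈ O := by rw [hOdef, Subgroup.mem_comap]; exact hy
    rw [Subgroup.mem_bot]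
    exact (QuotientGroup.eq_one_iff x).mpr (hOC hx)
  apply hsuff
  haveI hn : (O.subgroupOf K).Normal := inferInstance
  rcases Cfsg.Agent.H2.IsQuasisimple.eq_top_or_le_center hq (O.subgroupOf K) hn.isSubnormal
    with htop | hcen
  · exfalso
    have hKO : K ≤ O := Subgroup.subgroupOf_eq_top.mp htop
    let f : ↥K →* Γ ⧸ C := (QuotientGroup.mk' C).comp K.subtype
    have hrange : f.range ≤ Ob := by
      rintro _ ⟨k, rfl⟩
      have : (k : Γ) ∈ O := hKO k.2
      rw [hOdef, Subgroup.mem_comap] at this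
      exact this
    have hker : f.ker ≤ Subgroup.center ↥K := by
      intro k hk
      rw [MonoidHom.mem_ker] at hk
      have hkC : (k : Γ) ∈ C := (QuotientGroup.eq_one_iff (k : Γ)).mp hk
      rw [Subgroup.mem_center_iff]
      intro g
      apply Subtype.ext
      exact ((hC _).mp hkC g g.2).symm
    have h1 : (Subgroup.center ↥K).index ∣ f.ker.index := Subgroup.index_dvd_of_le hker
    have h2 : f.ker.index = Nat.card ↥f.range := Subgroup.index_ker f
    have h3 : Nat.card ↥f.range ∣ Nat.card ↥Ob := Subgroup.card_dvd_of_le hrange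
    have h4 : ((Subgroup.center ↥K).index).Coprime p :=
      Nat.Coprime.coprime_dvd_left (h1.trans (h2 ▸ h3)) hObc
    have h5 : ¬ p ∣ (Subgroup.center ↥K).index := by
      intro hdiv
      exact hpp.one_lt.ne' (Nat.Coprime.eq_one_of_dvd h4.symm hdiv)
    exact hnc (Cfsg.Agent.H2.quasisimple_coprime_of_not_dvd_index_center ↥K hq p h5)
  · -- `K ∩ O ≤ Z(K)`
    have hcentral : ∀ x ∈ O, x ∈ K → ∀ k ∈ K, x * k = k * x := by
      intro x hxO hxK k hk
      have h1 : (⟨x, hxK⟩ : ↥K) ∈ Subgroup.center ↥K := hcen (Subgroup.mem_subgroupOf.mpr hxO)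
      have h2 := (Subgroup.mem_center_iff.mp h1) ⟨k, hk⟩
      exact (congrArg Subtype.val h2).symm
    have hKO_le : ⁅K, O⁆ ≤ K ⊓ O :=
      le_inf (Subgroup.commutator_le_left K O) (Subgroup.commutator_le_right K O)
    have e1 : ⁅⁅K, O⁆, K⁆ = ⊥ := by
      rw [Subgroup.commutator_eq_bot_iff_le_centralizer]
      intro x hx
      have hx' := hKO_le hx
      rw [Subgroup.mem_centralizer_iff]
      intro k hk
      exact (hcentral x hx'.2 hx'.1 k hk).symm
    have e2 : ⁅⁅O, K⁆, K⁆ = ⊥ := by rw [Subgroup.commutator_comm O K]; exact e1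
    have e3 : ⁅⁅K, K⁆, O⁆ = ⊥ := Subgroup.commutator_commutator_eq_bot_of_rotate e1 e2
    rw [Cfsg.Agent.H2.quasisimple_commutator_eq hq] at e3
    have h6 : K ≤ Subgroup.centralizer (O : Set Γ) :=
      Subgroup.commutator_eq_bot_iff_le_centralizer.mp e3
    intro x hx
    rw [hC]
    intro k hk
    exact Subgroup.mem_centralizer_iff.mp (h6 hk) x hx

end Cfsg.Agent.Lib.Helper4.BalQuot
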