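import Mathlib
import Cfsg.Prelude.Def_OddOrderLocal
import Cfsg.Prelude.Def_OddOrder
import Cfsg.Agent.Lib.Helper4.CNMaxD

/-!
# Maximal nilpotent subgroups of a minimal simple CN-group of odd order, IV: the product formula
-/

set_option autoImplicit false
set_option linter.style.haveILetI false
set_option linter.unusedVariables false
set_option linter.unusedSectionVars false

open scoped commutatorElement Pointwise

namespace Cfsg.Agent.Lib.Helper4.CNMax

open Cfsg Cfsg.Agent.Lib.Helper4.ThreeStep Cfsg.Agent.Lib.Lead.Conj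

universe u

variable {G : Type u} [Group G] [Finite G]

theorem fittingHallOf_coatom (hG : Cfsg.IsMinSimpleOddOrder G) (hCN : Cfsg.IsCNGroup G)
    {M : Subgroup G} (hM : IsCoatom M) :
    IsMaxNil (Cfsg.fittingHallOf M) ∧
      Subgroup.normalizer ((Cfsg.fittingHallOf M : Subgroup G) : Set G) = M := by
  obtain ⟨H, hH, hNM⟩ := coatom_eq_normalizer hG hCN hM
  have h1 := (maxNil_normalizer hG hCN hH).1
  rw [hNM] at h1
  rw [h1]
  exact ⟨hH, hNM⟩

theorem normalizer_map_conj (H : Subgroup G) (g : G) :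
    Subgroup.normalizer ((H.map (MulAut.conj g).toMonoidHom : Subgroup G) : Set G) =
      (Subgroup.normalizer (H : Set G)).map (MulAut.conj g).toMonoidHom :=
  (Subgroup.map_equiv_normalizer_eq H (MulAut.conj g)).symm

/-- a maximal nilpotent subgroup is determined by its normalizer -/
theorem maxNil_eq_of_normalizer_eq (hG : Cfsg.IsMinSimpleOddOrder G) (hCN : Cfsg.IsCNGroup G)
    {H₁ H₂ : Subgroup G} (h₁ : IsMaxNil H₁) (h₂ : IsMaxNil H₂)
    (h : Subgroup.normalizer (H₁ : Set G) = Subgroup.normalizer (H₂ : Set G)) : H₁ = H₂ := by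
  have e1 := (maxNil_normalizer hG hCN h₁).1
  have e2 := (maxNil_normalizer hG hCN h₂).1
  rw [← e1, ← e2, h]

variable {k : ℕ} (Mrep : Fin k → Subgroup G)

/-- every maximal nilpotent subgroup is conjugate to some `(M_i)_F` -/
theorem exists_conj_eq_fittingHallOf (hG : Cfsg.IsMinSimpleOddOrder G) (hCN : Cfsg.IsCNGroup G)
    (hmax : ∀ i, IsCoatom (Mrep i))
    (hall : ∀ M : Subgroup G, IsCoatom M → ∃ i, ∃ g : G, M = (Mrep i).map (MulAut.conj g).toMonoidHom)
    {H : Subgroup G} (hH : IsMaxNil H) :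
    ∃ i, ∃ g : G, H = (Cfsg.fittingHallOf (Mrep i)).map (MulAut.conj g).toMonoidHom := by
  obtain ⟨i, g, hig⟩ := hall _ (maxNil_normalizer_isCoatom hG hCN hH)
  refine ⟨i, g, ?_⟩
  obtain ⟨hi, hNi⟩ := fittingHallOf_coatom hG hCN (hmax i)
  apply maxNil_eq_of_normalizer_eq hG hCN hH (hi.conj g)
  rw [normalizer_map_conj, hNi, hig]

theorem result_aux (hG : Cfsg.IsMinSimpleOddOrder G) (hCN : Cfsg.IsCNGroup G)
    (hmax : ∀ i, IsCoatom (Mrep i))
    (hnc : ∀ i j, i ≠ j → ∀ g : G, Mrep j ≠ (Mrep i).map (MulAut.conj g).toMonoidHom)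
    (hall : ∀ M : Subgroup G, IsCoatom M → ∃ i, ∃ g : G, M = (Mrep i).map (MulAut.conj g).toMonoidHom) :
    (∀ i j, i ≠ j → (Nat.card (Cfsg.fittingHallOf (Mrep i))).Coprime
        (Nat.card (Cfsg.fittingHallOf (Mrep j)))) ∧
      ∏ i, Nat.card (Cfsg.fittingHallOf (Mrep i)) = Nat.card G ∧
      ∀ x : G, ∃ i, ∃ g : G, g * x * g⁻¹ ∈ Cfsg.fittingHallOf (Mrep i) := by
  haveI : IsSimpleGroup G := hG.2.1
  have hcop : ∀ i j, i ≠ j → (Nat.card (Cfsg.fittingHallOf (Mrep i))).Coprime
      (Nat.card (Cfsg.fittingHallOf (Mrep j))) := by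
    intro i j hij
    obtain ⟨hi, hNi⟩ := fittingHallOf_coatom hG hCN (hmax i)
    obtain ⟨hj, hNj⟩ := fittingHallOf_coatom hG hCN (hmax j)
    rcases maxNil_conj_or_coprime hG hCN hi hj with ⟨g, hg⟩ | h
    · exfalso
      apply hnc i j hij g
      rw [← hNj, hg, normalizer_map_conj, hNi]
    · exact h
  -- every element is conjugate into some `(M_i)_F`
  have hconj : ∀ K : Subgroup G, Group.IsNilpotent K → ∃ i, ∃ g : G,
      K ≤ (Cfsg.fittingHallOf (Mrep i)).map (MulAut.conj g).toMonoidHom := by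
    intro K hK
    obtain ⟨H, hH, hKH⟩ := exists_maxNil_ge K hK
    obtain ⟨i, g, hig⟩ := exists_conj_eq_fittingHallOf Mrep hG hCN hmax hall hH
    exact ⟨i, g, hig ▸ hKH⟩
  refine ⟨hcop, ?_, ?_⟩
  · apply Nat.dvd_antisymm
    · apply Fintype.prod_dvd_of_isRelPrime
      · intro i j hij
        exact Nat.coprime_iff_isRelPrime.mp (hcop i j hij)
      · intro i
        exact Subgroup.card_subgroup_dvd_card _
    · rw [Nat.dvd_iff_prime_pow_dvd_dvd]
      intro p e hp hpe
      haveI : Fact p.Prime := ⟨hp⟩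
      obtain ⟨S⟩ : Nonempty (Sylow p G) := inferInstance
      obtain ⟨i, g, hig⟩ := hconj (S : Subgroup G) S.isPGroup'.isNilpotent
      have h1 : p ^ e ∣ Nat.card ↥(S : Subgroup G) := by
        rw [Sylow.card_eq_multiplicity]
        by_cases he : e = 0
        · subst he
          simp
        · exact pow_dvd_pow p ((hp.pow_dvd_iff_le_factorization Nat.card_pos.ne').mp hpe)
      have h2 : Nat.card ↥(S : Subgroup G) ∣ Nat.card ↥(Cfsg.fittingHallOf (Mrep i)) := by
        rw [← card_map_conj (Cfsg.fittingHallOf (Mrep i)) g]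
        exact Subgroup.card_dvd_of_le hig
      exact (h1.trans h2).trans (Finset.dvd_prod_of_mem _ (Finset.mem_univ i))
  · intro x
    have hx : Group.IsNilpotent ↥(Subgroup.zpowers x) := by
      letI : CommGroup ↥(Subgroup.zpowers x) := IsCyclic.commGroup
      exact CommGroup.isNilpotent
    obtain ⟨i, g, hig⟩ := hconj _ hx
    refine ⟨i, g⁻¹, ?_⟩
    have := hig (Subgroup.mem_zpowers x)
    rw [mem_map_conj] at this
    rwa [inv_inv]

end Cfsg.Agent.Lib.Helper4.CNMax
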