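import Mathlib
import Cfsg.Prelude.Def_OddOrderLocal
import Cfsg.Prelude.Def_OddOrder
import Cfsg.Agent.Lib.Helper4.CNMaxE
import Cfsg.Agent.S1526

/-!
# The CN-theorem for odd order: a minimal simple CN-group of odd order does not exist
-/

set_option autoImplicit false
set_option linter.style.haveILetI false
set_option linter.unusedVariables false
set_option linter.unusedSectionVars false

open scoped commutatorElement Pointwise

namespace Cfsg.Agent.Lib.Helper4.CNFinal

open Cfsg Cfsg.Agent.Lib.Helper4.ThreeStep Cfsg.Agent.Lib.Lead.Conj Cfsg.Agent.Lib.Helper4.CNMax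

universe u

variable {G : Type u} [Group G] [Finite G]

/-- the type of maximal nilpotent subgroups -/
abbrev MaxNil (G : Type u) [Group G] [Finite G] : Type u := {H : Subgroup G // IsMaxNil H}

/-- conjugacy of maximal nilpotent subgroups -/
def conjSetoid (G : Type u) [Group G] [Finite G] : Setoid (MaxNil G) where
  r H₁ H₂ := ∃ g : G, (H₂ : Subgroup G) = (H₁ : Subgroup G).map (MulAut.conj g).toMonoidHom
  iseqv := by
    refine ⟨fun H => ⟨1, ?_⟩, ?_, ?_⟩
    · ext x
      rw [mem_map_conj]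
      simp
    · rintro H₁ H₂ ⟨g, hg⟩
      refine ⟨g⁻¹, ?_⟩
      ext x
      rw [mem_map_conj, hg, mem_map_conj, inv_inv]
      have e : g⁻¹ * (g * x * g⁻¹) * g = x := by group
      rw [e]
    · rintro H₁ H₂ H₃ ⟨g, hg⟩ ⟨k, hk⟩
      refine ⟨k * g, ?_⟩
      ext x
      rw [hk, mem_map_conj, hg, mem_map_conj, mem_map_conj]
      have e : g⁻¹ * (k⁻¹ * x * k) * g = (k * g)⁻¹ * x * (k * g) := by group
      rw [e]

/-- the conjugacy classes of maximal nilpotent subgroups -/
abbrev Cls (G : Type u) [Group G] [Finite G] : Type u := Quotient (conjSetoid G)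

noncomputable instance : Fintype (Cls G) := Fintype.ofFinite _

/-- a representative of each class -/
noncomputable def rep (i : Cls G) : Subgroup G := ((Quotient.out i : MaxNil G) : Subgroup G)

theorem rep_maxNil (i : Cls G) : IsMaxNil (rep i) := (Quotient.out i : MaxNil G).2

theorem exists_conj_rep {K : Subgroup G} (hK : IsMaxNil K) :
    ∃ i : Cls G, ∃ g : G, K = (rep i).map (MulAut.conj g).toMonoidHom := by
  refine ⟨Quotient.mk (conjSetoid G) ⟨K, hK⟩, ?_⟩
  have h := Quotient.exact (Quotient.out_eq (Quotient.mk (conjSetoid G) ⟨K, hK⟩))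
  obtain ⟨g, hg⟩ := h
  exact ⟨g, hg⟩

theorem rep_inj {i j : Cls G} (g : G) (h : rep j = (rep i).map (MulAut.conj g).toMonoidHom) :
    i = j := by
  letI := conjSetoid G
  have h1 : (Quotient.out i : MaxNil G) ≈ (Quotient.out j : MaxNil G) := ⟨g, h⟩
  have h2 := Quotient.sound h1
  rwa [Quotient.out_eq, Quotient.out_eq] at h2

theorem nilpotent_zpowers (g : G) : Group.IsNilpotent ↥(Subgroup.zpowers g) := by
  letI : CommGroup ↥(Subgroup.zpowers g) := IsCyclic.commGroup
  exact CommGroup.isNilpotent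

/-- every element lies in a conjugate of a representative -/
theorem exists_conj_mem_rep (g : G) : ∃ i : Cls G, ∃ x : G, x * g * x⁻¹ ∈ rep i := by
  obtain ⟨K, hK, hle⟩ := exists_maxNil_ge (Subgroup.zpowers g) (nilpotent_zpowers g)
  obtain ⟨i, x, hx⟩ := exists_conj_rep hK
  refine ⟨i, x⁻¹, ?_⟩
  have h1 : g ∈ K := hle (Subgroup.mem_zpowers g)
  rw [hx, mem_map_conj] at h1
  rwa [inv_inv]

theorem two_le_card (hG : Cfsg.IsMinSimpleOddOrder G) (hCN : Cfsg.IsCNGroup G) :
    2 ≤ Fintype.card (Cls G) := by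
  by_contra hlt
  push_neg at hlt
  have hms := hG.2
  haveI : IsSimpleGroup G := hms.1
  have hsub : ∀ i j : Cls G, i = j := by
    have : Fintype.card (Cls G) ≤ 1 := by omega
    exact fun i j => Fintype.card_le_one_iff.mp this i j
  obtain ⟨i₀, -, -⟩ := exists_conj_mem_rep (1 : G)
  have h0 := rep_maxNil i₀
  have hcop := maxNil_coprime hCN h0
  have hidx : (rep i₀).index ≠ 1 := fun h => h0.ne_top hms (Subgroup.index_eq_one.mp h)
  obtain ⟨p, hp, hpd⟩ := Nat.exists_prime_and_dvd hidx
  haveI : Fact p.Prime := ⟨hp⟩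
  have hpG : p ∣ Nat.card G := hpd.trans (Subgroup.index_dvd_card _)
  obtain ⟨y, hy⟩ := exists_prime_orderOf_dvd_card' p hpG
  obtain ⟨i, x, hx⟩ := exists_conj_mem_rep y
  rw [hsub i i₀] at hx
  have h1 : orderOf (x * y * x⁻¹) ∣ Nat.card ↥(rep i₀) := by
    have := Subgroup.orderOf_dvd_natCard (rep i₀) hx
    exact this
  rw [orderOf_conj, hy] at h1
  have := Nat.dvd_gcd h1 hpd
  rw [hcop.gcd_eq_one] at this
  exact hp.one_lt.ne' (Nat.dvd_one.mp this)

/-- no minimal simple CN-group of odd order exists -/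
theorem no_minSimple (hG : Cfsg.IsMinSimpleOddOrder G) (hCN : Cfsg.IsCNGroup G) : False := by
  have hms := hG.2
  haveI : IsSimpleGroup G := hms.1
  refine Cfsg.Agent.S1526.result hG.1 (two_le_card hG hCN)
    (fun i : Cls G => Subgroup.normalizer ((rep i : Subgroup G) : Set G)) (fun i => rep i)
    ?_ ?_ ?_ ?_ ?_ ?_ ?_
  · intro i
    exact lt_of_le_of_ne Subgroup.le_normalizer (maxNil_normalizer_ne hG hCN (rep_maxNil i)).symm
  · intro i
    exact (rep_maxNil i).ne_bot
  · intro i x hx h hh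
    exact (Subgroup.mem_normalizer_iff.mp hx h).mp hh
  · intro i h hh h1
    exact inf_le_right.trans (maxNil_centralizer_le hG hCN (rep_maxNil i) hh h1)
  · intro i j hij
    rcases maxNil_conj_or_coprime hG hCN (rep_maxNil i) (rep_maxNil j) with ⟨g, hg⟩ | h
    · exact absurd (rep_inj g hg) hij
    · exact h
  · intro i
    refine ⟨?_, rfl⟩
    intro g hg x hx hgx
    have hne : (rep i).map (MulAut.conj g).toMonoidHom ≠ rep i := fun h =>
      hg (mem_normalizer_of_map_conj_eq h)
    have hTI := maxNil_TI hG hCN (rep_maxNil i) g hne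
    have h1 : g * x * g⁻¹ ∈ rep i ⊓ (rep i).map (MulAut.conj g).toMonoidHom :=
      ⟨hgx, conj_mem_map_conj (rep i) g hx⟩
    rw [hTI, Subgroup.mem_bot] at h1
    have e : x = g⁻¹ * (g * x * g⁻¹) * g := by group
    rw [e, h1]
    group
  · intro g _
    exact exists_conj_mem_rep g

end Cfsg.Agent.Lib.Helper4.CNFinal
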