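import Mathlib
import Cfsg.Prelude.Def_OddOrderLocal
import Cfsg.Prelude.Def_OddOrder
import Cfsg.Agent.Lib.Helper4.CNFinalA
import Cfsg.Agent.S1473

/-!
# The CN-theorem for odd order: the induction
-/

set_option autoImplicit false
set_option linter.style.haveILetI false
set_option linter.unusedVariables false
set_option linter.unusedSectionVars false

namespace Cfsg.Agent.Lib.Helper4.CNFinal

open Cfsg Cfsg.Agent.Lib.Helper4.ThreeStep

universe u

theorem odd_solvable_aux : ∀ (n : ℕ) (G : Type u) [Group G] [Finite G], Nat.card G = n →
    Odd (Nat.card G) → Cfsg.IsCNGroup G → Group.IsSolvable G := by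
  intro n
  induction n using Nat.strong_induction_on with
  | _ n ih =>
    intro G _ _ hn hodd hCN
    by_cases hsub : Subsingleton G
    · infer_instance
    rw [not_subsingleton_iff_nontrivial] at hsub
    have hsubgrp : ∀ H : Subgroup G, H ≠ ⊤ → Group.IsSolvable ↥H := by
      intro H hH
      have hlt : Nat.card ↥H < n := by
        rw [← hn]
        apply lt_of_le_of_ne (Subgroup.card_le_card_group H)
        intro h
        exact hH (Subgroup.card_eq_iff_eq_top H |>.mp h)
      have hoddH : Odd (Nat.card ↥H) :=
        Odd.of_dvd_nat hodd (Subgroup.card_subgroup_dvd_card H)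
      exact ih _ hlt ↥H rfl hoddH (cn_of_injective H.subtype H.subtype_injective hCN)
    by_cases hsimple : IsSimpleGroup G
    · by_cases hcomm : IsMulCommutative G
      · letI : CommGroup G := { (inferInstance : Group G) with mul_comm := hcomm.is_comm.comm }
        infer_instance
      · exact (no_minSimple ⟨hodd, hsimple, hcomm, hsubgrp⟩ hCN).elim
    · have hex : ∃ N : Subgroup G, N.Normal ∧ N ≠ ⊥ ∧ N ≠ ⊤ := by
        by_contra hne
        push_neg at hne
        apply hsimple
        refine ⟨fun N hN => ?_⟩
        by_cases h : N = ⊥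
        · exact Or.inl h
        · exact Or.inr (hne N hN h)
      obtain ⟨N, hNn, hNbot, hNtop⟩ := hex
      haveI := hNn
      have hNs : Group.IsSolvable ↥N := hsubgrp N hNtop
      have hQcard : Nat.card (G ⧸ N) < n := by
        rw [← hn, ← Subgroup.index_eq_card, ← Subgroup.card_mul_index N]
        have h1 : 1 < Nat.card ↥N := by
          rw [Subgroup.one_lt_card_iff_ne_bot]
          exact hNbot
        have h2 : 0 < N.index := Nat.pos_of_ne_zero Subgroup.index_ne_zero_of_finite
        nlinarith
      have hQodd : Odd (Nat.card (G ⧸ N)) := by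
        rw [← Subgroup.index_eq_card]
        exact Odd.of_dvd_nat hodd (Subgroup.index_dvd_card N)
      have hQ : Group.IsSolvable (G ⧸ N) :=
        ih _ hQcard (G ⧸ N) rfl hQodd (Cfsg.Agent.S1473.result hCN N hNs)
      exact solvable_of_ker_le_range N.subtype (QuotientGroup.mk' N)
        (by rw [QuotientGroup.ker_mk', Subgroup.range_subtype])

end Cfsg.Agent.Lib.Helper4.CNFinal
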