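import Mathlib

set_option autoImplicit false

/-!
# Chain (Jordan) bases for nilpotent endomorphisms

For a nilpotent endomorphism `N` of a finite-dimensional vector space `V` there are a finite type
`ι`, lengths `d : ι → ℕ` and a basis `b` of `V` indexed by `Σ i, Fin (d i + 1)` with
`N (b ⟨i, j⟩) = b ⟨i, j + 1⟩` (and `= 0` at the end of each chain).
-/

namespace Cfsg.Agent.Lib.Helper4.Chain

open Module

universe u v

variable {K : Type v} [Field K]

theorem sumExtend_inl {V : Type u} {ι : Type*} [AddCommGroup V] [Module K V] {w : ι → V}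
    (hs : LinearIndependent K w) (i : ι) : Basis.sumExtend hs (Sum.inl i) = w i := by
  simp only [Basis.sumExtend, Basis.reindex_apply, Basis.coe_extend]
  rfl

/-- `b` is a chain basis for `N` with chain lengths `d i + 1` -/
def IsChainBasis {V : Type u} [AddCommGroup V] [Module K V] (N : V →ₗ[K] V) {ι : Type*}
    (d : ι → ℕ) (b : Basis (Σ i, Fin (d i + 1)) K V) : Prop :=
  ∀ (i : ι) (j : Fin (d i + 1)),
    N (b ⟨i, j⟩) = if h : (j : ℕ) + 1 < d i + 1 then b ⟨i, ⟨(j : ℕ) + 1, h⟩⟩ else 0

theorem exists_chain_basis_aux : ∀ (n : ℕ) (V : Type u) [AddCommGroup V] [Module K V]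
    [FiniteDimensional K V] (N : V →ₗ[K] V), IsNilpotent N → finrank K V = n →
    ∃ (ι : Type u) (_ : Fintype ι) (d : ι → ℕ) (b : Basis (Σ i, Fin (d i + 1)) K V),
      IsChainBasis N d b := by
  intro n
  induction n using Nat.strong_induction_on with
  | _ n ih =>
  intro V _ _ _ N hN hn
  classical
  by_cases h0 : n = 0
  · subst h0
    haveI : Subsingleton V := Module.finrank_zero_iff.1 hn
    refine ⟨PEmpty, inferInstance, PEmpty.elim, Basis.empty V, ?_⟩
    intro i; exact i.elim
  · have hnpos : 0 < finrank K V := by omega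
    haveI : Nontrivial V := Module.finrank_pos_iff.1 hnpos
    have hker : LinearMap.ker N ≠ ⊥ := by
      obtain ⟨k, hk⟩ := hN
      intro hbot
      have hinj : Function.Injective N := LinearMap.ker_eq_bot.1 hbot
      have h1 : Function.Injective (N ^ k) := by
        rw [Module.End.coe_pow]
        exact hinj.iterate k
      rw [hk] at h1
      obtain ⟨x, hx⟩ := exists_ne (0 : V)
      exact hx (h1 (by simp))
    have hWlt : finrank K (LinearMap.range N) < n := by
      have h1 := LinearMap.finrank_range_add_finrank_ker N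
      have h2 : 0 < finrank K (LinearMap.ker N) :=
        Module.finrank_pos_iff.2 (Submodule.nontrivial_iff_ne_bot.2 hker)
      omega
    have hNW : ∀ x ∈ LinearMap.range N, N x ∈ LinearMap.range N :=
      fun x _ => LinearMap.mem_range_self N x
    have hNWnil : IsNilpotent (N.restrict hNW) := by
      obtain ⟨k, hk⟩ := hN
      refine ⟨k, ?_⟩
      rw [Module.End.pow_restrict k hNW]
      ext w
      simp [LinearMap.restrict_apply, hk]
    obtain ⟨ι, hι, d, b', hb'⟩ := ih (finrank K (LinearMap.range N)) hWlt (LinearMap.range N)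
      (N.restrict hNW) hNWnil rfl
    have hb'V : ∀ (i : ι) (j : Fin (d i + 1)), N ((b' ⟨i, j⟩ : LinearMap.range N) : V) =
        if h : (j : ℕ) + 1 < d i + 1 then ((b' ⟨i, ⟨(j : ℕ) + 1, h⟩⟩ : LinearMap.range N) : V)
        else 0 := by
      intro i j
      have h1 := congrArg Subtype.val (hb' i j)
      rw [LinearMap.restrict_coe_apply] at h1
      rw [h1]
      split_ifs <;> rfl
    have hv : ∀ i : ι, ∃ y : V, N y = ((b' ⟨i, 0⟩ : LinearMap.range N) : V) :=
      fun i => LinearMap.mem_range.1 (b' ⟨i, 0⟩).2
    choose v hv using hv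
    have hlast : ∀ i : ι, ((b' ⟨i, Fin.last (d i)⟩ : LinearMap.range N) : V) ∈ LinearMap.ker N := by
      intro i
      rw [LinearMap.mem_ker, hb'V i (Fin.last (d i)), dif_neg (by simp)]
    set lastK : ι → LinearMap.ker N := fun i => ⟨_, hlast i⟩ with hlastKdef
    have hlastK : LinearIndependent K lastK := by
      have h1 : LinearIndependent K (fun i : ι => b' ⟨i, Fin.last (d i)⟩) :=
        b'.linearIndependent.comp (fun i : ι => (⟨i, Fin.last (d i)⟩ : Σ i, Fin (d i + 1)))
          (by intro i j h; exact (Sigma.mk.inj_iff.1 h).1)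
      have h2 : LinearIndependent K
          (fun i : ι => ((b' ⟨i, Fin.last (d i)⟩ : LinearMap.range N) : V)) :=
        h1.map' (LinearMap.range N).subtype (Submodule.ker_subtype _)
      exact LinearIndependent.of_comp (LinearMap.ker N).subtype h2
    set bK := Basis.sumExtend hlastK with hbK
    haveI : Finite (ι ⊕ ↑(Basis.sumExtendIndex hlastK)) := Module.Finite.finite_basis bK
    haveI : Finite ↑(Basis.sumExtendIndex hlastK) :=
      Finite.of_injective (Sum.inr : _ → ι ⊕ ↑(Basis.sumExtendIndex hlastK)) Sum.inr_injective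
    haveI : Fintype ↑(Basis.sumExtendIndex hlastK) := Fintype.ofFinite _
    -- the new chains
    let d' : ι ⊕ ↑(Basis.sumExtendIndex hlastK) → ℕ := Sum.elim (fun i => d i + 1) (fun _ => 0)
    let Bi : ι → ℕ → V := fun i j =>
      match j with
      | 0 => v i
      | j' + 1 => if h : j' < d i + 1 then ((b' ⟨i, ⟨j', h⟩⟩ : LinearMap.range N) : V) else 0
    have hBi : ∀ i j, N (Bi i j) = Bi i (j + 1) := by
      intro i j
      rcases j with _ | j
      · show N (v i) = if h : 0 < d i + 1 then _ else 0
        rw [dif_pos (Nat.succ_pos _), hv]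
        rfl
      · show N (if h : j < d i + 1 then _ else 0) = if h : j + 1 < d i + 1 then _ else 0
        by_cases hj : j < d i + 1
        · rw [dif_pos hj, hb'V]
        · rw [dif_neg hj, dif_neg (by omega), map_zero]
    let B : (Σ x : ι ⊕ ↑(Basis.sumExtendIndex hlastK), Fin (d' x + 1)) → V := fun x =>
      Sum.elim (fun i => Bi i x.2.val) (fun c => ((bK (Sum.inr c) : LinearMap.ker N) : V)) x.1
    let A : (Σ i, Fin (d i + 1)) ⊕ (ι ⊕ ↑(Basis.sumExtendIndex hlastK)) → V :=
      Sum.elim (fun x => Bi x.1 x.2.val) (fun y => ((bK y : LinearMap.ker N) : V))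
    have hNa : ∀ x : Σ i, Fin (d i + 1), N (Bi x.1 x.2.val) = ((b' x : LinearMap.range N) : V) := by
      rintro ⟨i, j⟩
      rw [hBi]
      show (if h : (j : ℕ) < d i + 1 then _ else 0) = _
      rw [dif_pos j.2]
    have hA : LinearIndependent K A := by
      refine LinearIndependent.sum_type ?_ ?_ ?_
      · apply LinearIndependent.of_comp N
        have h1 : (N ∘ fun x : Σ i, Fin (d i + 1) => Bi x.1 x.2.val) =
            fun x => ((b' x : LinearMap.range N) : V) := by
          funext x; exact hNa x
        rw [h1]
        exact b'.linearIndependent.map' (LinearMap.range N).subtype (Submodule.ker_subtype _)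
      · exact bK.linearIndependent.map' (LinearMap.ker N).subtype (Submodule.ker_subtype _)
      · rw [Submodule.disjoint_def]
        intro x hx1 hx2
        have hxker : x ∈ LinearMap.ker N := by
          refine (Submodule.span_le (p := LinearMap.ker N)).2 ?_ hx2
          rintro _ ⟨y, rfl⟩
          exact (bK y).2
        obtain ⟨c, rfl⟩ := Finsupp.mem_span_range_iff_exists_finsupp.1 hx1
        rw [LinearMap.mem_ker, map_finsuppSum] at hxker
        simp only [map_smul, hNa] at hxker
        have h3 : (LinearMap.range N).subtype (c.sum fun x r => r • b' x) = 0 := by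
          rw [map_finsuppSum]
          simpa using hxker
        have h4 : (c.sum fun x r => r • b' x) = 0 :=
          (Submodule.injective_subtype _) (by rw [h3, map_zero])
        have hc : c = 0 := linearIndependent_iff.1 b'.linearIndependent c h4
        simp [hc]
    -- the index map
    let φ : (Σ x : ι ⊕ ↑(Basis.sumExtendIndex hlastK), Fin (d' x + 1)) →
        (Σ i, Fin (d i + 1)) ⊕ (ι ⊕ ↑(Basis.sumExtendIndex hlastK)) := fun x =>
      match x with
      | ⟨Sum.inl i, j⟩ => if h : j.val < d i + 1 then Sum.inl ⟨i, ⟨j.val, h⟩⟩ else Sum.inr (Sum.inl i)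
      | ⟨Sum.inr c, _⟩ => Sum.inr (Sum.inr c)
    have hφ : Function.Injective φ := by
      rintro ⟨x1, x2⟩ ⟨y1, y2⟩ h
      rcases x1 with i | c <;> rcases y1 with i' | c'
      · simp only [φ] at h
        have hx2 : x2.val < d i + 1 + 1 := x2.2
        have hy2 : y2.val < d i' + 1 + 1 := y2.2
        by_cases h1 : x2.val < d i + 1 <;> by_cases h2 : y2.val < d i' + 1
        · rw [dif_pos h1, dif_pos h2] at h
          have h5 := Sum.inl.inj h
          obtain ⟨rfl, h6⟩ := Sigma.mk.inj_iff.1 h5
          have h7 := eq_of_heq h6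
          have h8 : x2.val = y2.val := Fin.mk.inj_iff.1 h7
          rw [Sigma.mk.inj_iff]
          exact ⟨rfl, heq_of_eq (Fin.ext h8)⟩
        · rw [dif_pos h1, dif_neg h2] at h
          exact absurd h (by simp)
        · rw [dif_neg h1, dif_pos h2] at h
          exact absurd h (by simp)
        · rw [dif_neg h1, dif_neg h2] at h
          have h5 : i = i' := Sum.inl.inj (Sum.inr.inj h)
          subst h5
          have h8 : x2.val = y2.val := by omega
          rw [Sigma.mk.inj_iff]
          exact ⟨rfl, heq_of_eq (Fin.ext h8)⟩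
      · simp only [φ] at h
        split_ifs at h <;> exact absurd h (by simp)
      · simp only [φ] at h
        split_ifs at h <;> exact absurd h (by simp)
      · simp only [φ] at h
        have h5 : c = c' := Sum.inr.inj (Sum.inr.inj h)
        subst h5
        rw [Sigma.mk.inj_iff]
        refine ⟨rfl, heq_of_eq ?_⟩
        have hx2 : x2.val < 0 + 1 := x2.2
        have hy2 : y2.val < 0 + 1 := y2.2
        exact Fin.ext (by omega)
    have hBA : B = A ∘ φ := by
      funext x
      rcases x with ⟨x1, x2⟩
      rcases x1 with i | c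
      · have hx2 : x2.val < d i + 1 + 1 := x2.2
        show Bi i x2.val = A (if h : x2.val < d i + 1 then Sum.inl ⟨i, ⟨x2.val, h⟩⟩
          else Sum.inr (Sum.inl i))
        by_cases h : x2.val < d i + 1
        · rw [dif_pos h]
          rfl
        · rw [dif_neg h]
          have h9 : x2.val = d i + 1 := by omega
          rw [h9]
          show (if h : d i < d i + 1 then _ else 0) = ((bK (Sum.inl i) : LinearMap.ker N) : V)
          rw [dif_pos (Nat.lt_succ_self _), hbK, sumExtend_inl]
          rfl
      · rfl
    have hB : LinearIndependent K B := by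
      rw [hBA]
      exact hA.comp φ hφ
    have hcard : Fintype.card (Σ x : ι ⊕ ↑(Basis.sumExtendIndex hlastK), Fin (d' x + 1)) =
        finrank K V := by
      have h1 := LinearMap.finrank_range_add_finrank_ker N
      have h2 : finrank K (LinearMap.range N) = Fintype.card (Σ i, Fin (d i + 1)) :=
        Module.finrank_eq_card_basis b'
      have h3 : finrank K (LinearMap.ker N) =
          Fintype.card (ι ⊕ ↑(Basis.sumExtendIndex hlastK)) :=
        Module.finrank_eq_card_basis bK
      rw [← h1, h2, h3]
      simp only [Fintype.card_sigma, Fintype.card_fin, Fintype.sum_sum_type, Fintype.card_sum, d',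
        Sum.elim_inl, Sum.elim_inr, Finset.sum_add_distrib, Finset.sum_const, Finset.card_univ,
        smul_eq_mul, mul_one]
      ring
    haveI : Nonempty (Σ x : ι ⊕ ↑(Basis.sumExtendIndex hlastK), Fin (d' x + 1)) := by
      rw [← Fintype.card_pos_iff, hcard]; exact hnpos
    refine ⟨ι ⊕ ↑(Basis.sumExtendIndex hlastK), inferInstance, d',
      basisOfLinearIndependentOfCardEqFinrank hB hcard, ?_⟩
    intro x j
    rw [coe_basisOfLinearIndependentOfCardEqFinrank]
    rcases x with i | c
    · have hj : j.val < d i + 1 + 1 := j.2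
      show N (Bi i j.val) = if h : (j : ℕ) + 1 < d i + 1 + 1 then Bi i (j.val + 1) else 0
      rw [hBi]
      by_cases h : (j : ℕ) + 1 < d i + 1 + 1
      · rw [dif_pos h]
      · rw [dif_neg h]
        show (if h : j.val < d i + 1 then _ else 0) = 0
        rw [dif_neg (by omega)]
    · have hj : j.val < 0 + 1 := j.2
      show N ((bK (Sum.inr c) : LinearMap.ker N) : V) = if h : (j : ℕ) + 1 < 0 + 1 then _ else 0
      rw [dif_neg (by omega)]
      exact (bK (Sum.inr c)).2

/-- **Chain basis theorem** (Jordan normal form of a nilpotent endomorphism). -/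
theorem exists_chain_basis {V : Type u} [AddCommGroup V] [Module K V] [FiniteDimensional K V]
    (N : V →ₗ[K] V) (hN : IsNilpotent N) :
    ∃ (ι : Type u) (_ : Fintype ι) (d : ι → ℕ) (b : Basis (Σ i, Fin (d i + 1)) K V),
      IsChainBasis N d b :=
  exists_chain_basis_aux _ V N hN rfl

end Cfsg.Agent.Lib.Helper4.Chain
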