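import Mathlib
import Cfsg.Agent.Lib.Helper4.ChainBasis

set_option autoImplicit false

/-!
# Chain bases for nilpotent matrices: conjugating into a subfield with prescribed determinant
-/

namespace Cfsg.Agent.Lib.Helper4.Chain

open Module Matrix

universe u

section Pow

variable {K : Type*} [Field K] {V : Type u} [AddCommGroup V] [Module K V]

theorem IsChainBasis.pow_apply {N : V →ₗ[K] V} {ι : Type*} {d : ι → ℕ}
    {b : Basis (Σ i, Fin (d i + 1)) K V} (hb : IsChainBasis N d b) (i : ι) :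
    ∀ (j : ℕ) (h : j < d i + 1), (N ^ j) (b ⟨i, 0⟩) = b ⟨i, ⟨j, h⟩⟩ := by
  intro j
  induction j with
  | zero => intro h; rfl
  | succ j ih =>
    intro h
    rw [pow_succ', Module.End.mul_apply, ih (by omega), hb i ⟨j, by omega⟩, dif_pos h]

theorem IsChainBasis.le_of_pow_eq_zero {N : V →ₗ[K] V} {ι : Type*} {d : ι → ℕ}
    {b : Basis (Σ i, Fin (d i + 1)) K V} (hb : IsChainBasis N d b) {m : ℕ} (hm : N ^ m = 0)
    (i : ι) : d i + 1 ≤ m := by
  by_contra hlt
  have h1 := hb.pow_apply i m (by omega)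
  rw [hm, LinearMap.zero_apply] at h1
  exact b.ne_zero _ h1.symm

end Pow

section Mat

variable {F : Type u} [Field F] (F₀ : Subfield F) {n : ℕ}

/-- **conjugating a chain basis into the subfield**: columns `γ x • b x` -/
theorem chain_matrix (A : Matrix (Fin n) (Fin n) F) {ι : Type u} [Fintype ι] {d : ι → ℕ}
    (b : Basis (Σ i, Fin (d i + 1)) F (Fin n → F)) (hb : IsChainBasis (Matrix.toLin' A) d b)
    (e : (Σ i, Fin (d i + 1)) ≃ Fin n) (γ : (Σ i, Fin (d i + 1)) → F) (hγ : ∀ x, γ x ≠ 0)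
    (hγ₀ : ∀ x x' : (Σ i, Fin (d i + 1)), x.1 = x'.1 → γ x / γ x' ∈ F₀) :
    (Matrix.of fun i j => b (e.symm j) i).det ≠ 0 ∧
    (Matrix.of fun i j => γ (e.symm j) * b (e.symm j) i).det =
      (∏ x, γ x) * (Matrix.of fun i j => b (e.symm j) i).det ∧
    ∀ i j, ((Matrix.of fun i j => γ (e.symm j) * b (e.symm j) i)⁻¹ * A *
      (Matrix.of fun i j => γ (e.symm j) * b (e.symm j) i)) i j ∈ F₀ := by
  classical
  set P₁ : Matrix (Fin n) (Fin n) F := Matrix.of fun i j => b (e.symm j) i with hP₁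
  set P : Matrix (Fin n) (Fin n) F := Matrix.of fun i j => γ (e.symm j) * b (e.symm j) i with hP
  have hdet1 : P₁.det ≠ 0 := by
    have h1 := (Pi.basisFun F (Fin n)).isUnit_det (b.reindex e)
    rw [Basis.det_apply] at h1
    have h2 : (Pi.basisFun F (Fin n)).toMatrix (b.reindex e) = P₁ := by
      ext i j
      rw [Basis.toMatrix_apply, Pi.basisFun_repr, Basis.reindex_apply]
      rfl
    rw [h2] at h1
    exact h1.ne_zero
  have hdet : P.det = (∏ x, γ x) * P₁.det := by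
    have h1 := Matrix.det_mul_row (fun j => γ (e.symm j)) P₁
    have h2 : (Matrix.of fun i j => (fun j => γ (e.symm j)) j * P₁ i j) = P := rfl
    rw [h2] at h1
    rw [h1]
    congr 1
    exact Equiv.prod_comp e.symm γ
  refine ⟨hdet1, hdet, ?_⟩
  have hPdet : IsUnit P.det := by
    rw [hdet, isUnit_iff_ne_zero]
    exact mul_ne_zero (Finset.prod_ne_zero_iff.2 fun x _ => hγ x) hdet1
  have hcol : ∀ j, P *ᵥ (Pi.single j 1) = γ (e.symm j) • b (e.symm j) := by
    intro j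
    rw [Matrix.mulVec_single_one]
    rfl
  have hcol' : ∀ x, b x = (γ x)⁻¹ • P *ᵥ (Pi.single (e x) 1) := by
    intro x
    rw [hcol, Equiv.symm_apply_apply, smul_smul, inv_mul_cancel₀ (hγ x), one_smul]
  have hinv : ∀ v, P⁻¹ *ᵥ (P *ᵥ v) = v := by
    intro v
    rw [Matrix.mulVec_mulVec, Matrix.nonsing_inv_mul _ hPdet, Matrix.one_mulVec]
  intro i j
  have h1 : (P⁻¹ * A * P) i j = (P⁻¹ *ᵥ (A *ᵥ (P *ᵥ (Pi.single j 1)))) i := by
    rw [Matrix.mulVec_mulVec, Matrix.mulVec_mulVec, Matrix.mulVec_single_one]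
    rfl
  rw [h1, hcol, Matrix.mulVec_smul]
  generalize e.symm j = x
  obtain ⟨i₀, j₀⟩ := x
  have h2 := hb i₀ j₀
  rw [Matrix.toLin'_apply] at h2
  rw [h2]
  by_cases hc : (j₀ : ℕ) + 1 < d i₀ + 1
  · rw [dif_pos hc, hcol', Matrix.mulVec_smul, Matrix.mulVec_smul, hinv, smul_smul]
    have h3 := hγ₀ ⟨i₀, j₀⟩ ⟨i₀, ⟨(j₀ : ℕ) + 1, hc⟩⟩ rfl
    rw [div_eq_mul_inv] at h3
    rw [Pi.smul_apply, smul_eq_mul]
    refine F₀.mul_mem h3 ?_
    rw [Pi.single_apply]
    split_ifs
    · exact F₀.one_mem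
    · exact F₀.zero_mem
  · rw [dif_neg hc, smul_zero, Matrix.mulVec_zero]
    exact F₀.zero_mem

/-- a matrix with `A ^ 3 = 0` can be conjugated into the subfield by a matrix of determinant one,
given enough cube roots (and enough square roots modulo the subfield when `n` is even) -/
theorem exists_det_one_conj (hn : 0 < n) (A : Matrix (Fin n) (Fin n) F) (hA : A ^ 3 = 0)
    (h3 : ∀ δ : F, ∃ a : F, a ^ 3 = δ)
    (h2 : Even n → ∀ δ : F, δ ≠ 0 → ∃ a β : F, β ∈ F₀ ∧ a ^ 2 * β = δ) :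
    ∃ P : Matrix (Fin n) (Fin n) F, P.det = 1 ∧ ∀ i j, (P⁻¹ * A * P) i j ∈ F₀ := by
  classical
  have hpow : (Matrix.toLin' A) ^ 3 = 0 := by rw [← Matrix.toLin'_pow, hA, map_zero]
  have hnil : IsNilpotent (Matrix.toLin' A) := ⟨3, hpow⟩
  obtain ⟨ι, hι, d, b, hb⟩ := exists_chain_basis (Matrix.toLin' A) hnil
  have hcard : Fintype.card (Σ i, Fin (d i + 1)) = n := by
    rw [← Module.finrank_eq_card_basis b, Module.finrank_fin_fun]
  let e : (Σ i, Fin (d i + 1)) ≃ Fin n := Fintype.equivFinOfCardEq hcard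
  have hd : ∀ i, d i + 1 ≤ 3 := fun i => hb.le_of_pow_eq_zero hpow i
  haveI : Nonempty ι := by
    by_contra hne
    rw [not_nonempty_iff] at hne
    have h0 : Fintype.card (Σ i, Fin (d i + 1)) = 0 := Fintype.card_eq_zero
    omega
  have hP₁ : (Matrix.of fun i j => b (e.symm j) i).det ≠ 0 :=
    (chain_matrix F₀ A b hb e (fun _ => 1) (by simp) (by simp [F₀.one_mem])).1
  set P₁ : Matrix (Fin n) (Fin n) F := Matrix.of fun i j => b (e.symm j) i with hP₁def
  have key : ∃ (i₀ : ι) (a β : F), β ∈ F₀ ∧ a ^ (d i₀ + 1) * β = (P₁.det)⁻¹ := by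
    by_cases hall : ∀ i, d i = 1
    · have heven : Even n := by
        rw [← hcard, Fintype.card_sigma]
        simp only [hall, Fintype.card_fin, Finset.sum_const, Finset.card_univ, smul_eq_mul]
        exact even_two.mul_left _
      obtain ⟨a, β, hβ, hab⟩ := h2 heven _ (inv_ne_zero hP₁)
      obtain ⟨i₀⟩ := ‹Nonempty ι›
      exact ⟨i₀, a, β, hβ, by rw [hall i₀]; exact hab⟩
    · push_neg at hall
      obtain ⟨i₀, hi₀⟩ := hall
      have h4 := hd i₀
      have h01 : d i₀ = 0 ∨ d i₀ = 2 := by omega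
      rcases h01 with h | h
      · exact ⟨i₀, (P₁.det)⁻¹, 1, F₀.one_mem, by rw [h]; simp⟩
      · obtain ⟨a, ha⟩ := h3 (P₁.det)⁻¹
        exact ⟨i₀, a, 1, F₀.one_mem, by rw [h, mul_one]; exact ha⟩
  obtain ⟨i₀, a, β, hβ, hab⟩ := key
  have hne : a ^ (d i₀ + 1) * β ≠ 0 := by rw [hab]; exact inv_ne_zero hP₁
  have ha : a ≠ 0 := by
    rintro rfl
    rw [zero_pow (Nat.succ_ne_zero _), zero_mul] at hne
    exact hne rfl
  have hβ0 : β ≠ 0 := by
    rintro rfl
    rw [mul_zero] at hne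
    exact hne rfl
  let γ : (Σ i, Fin (d i + 1)) → F := fun x =>
    (if x.1 = i₀ then a else 1) * (if x = ⟨i₀, 0⟩ then β else 1)
  have hγ : ∀ x, γ x ≠ 0 := by
    intro x
    apply mul_ne_zero
    · split_ifs
      · exact ha
      · exact one_ne_zero
    · split_ifs
      · exact hβ0
      · exact one_ne_zero
  have hγ₀ : ∀ x x' : (Σ i, Fin (d i + 1)), x.1 = x'.1 → γ x / γ x' ∈ F₀ := by
    intro x x' hxx
    have hc : (if x.1 = i₀ then a else 1) = (if x'.1 = i₀ then a else 1) := by rw [hxx]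
    have hc0 : (if x'.1 = i₀ then a else (1 : F)) ≠ 0 := by
      split_ifs
      · exact ha
      · exact one_ne_zero
    show (if x.1 = i₀ then a else 1) * _ / ((if x'.1 = i₀ then a else 1) * _) ∈ F₀
    rw [hc, mul_div_mul_left _ _ hc0]
    apply F₀.div_mem
    · split_ifs
      · exact hβ
      · exact F₀.one_mem
    · split_ifs
      · exact hβ
      · exact F₀.one_mem
  have hprod : ∏ x, γ x = a ^ (d i₀ + 1) * β := by
    simp only [γ]
    rw [Finset.prod_mul_distrib]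
    congr 1
    · rw [Fintype.prod_sigma]
      rw [Finset.prod_eq_single i₀]
      · simp
      · intro i _ hi
        simp [hi]
      · simp
    · rw [Finset.prod_ite_eq']
      simp
  obtain ⟨-, h5, h6⟩ := chain_matrix F₀ A b hb e γ hγ hγ₀
  refine ⟨_, ?_, h6⟩
  rw [h5, hprod, hab]
  exact inv_mul_cancel₀ hP₁

end Mat

end Cfsg.Agent.Lib.Helper4.Chain
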