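import Mathlib
import Cfsg.Prelude.Def_Characters
import Cfsg.Prelude.Def_Blocks
import Cfsg.Agent.Lib.Helper4.Codegree
import Cfsg.Agent.Lib.helper3.AlgInt

set_option autoImplicit false
set_option linter.style.haveILetI false
set_option linter.unusedSectionVars false

/-! Class products avoiding a subgroup: a divisibility lemma (helper4). -/

namespace Cfsg.Agent.Lib.Helper4.ClassProd

open Cfsg Module Cfsg.Agent.Lib.helper3.IndFun Cfsg.Agent.Lib.helper3.CharBasic
open Cfsg.Agent.Lib.helper3.Irr Cfsg.Agent.Lib.helper3.Central Cfsg.Agent.Lib.Helper4.CharExtra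
open Cfsg.Agent.Lib.Helper4.InflateEquiv Cfsg.Agent.Lib.Helper4.Codegree
open Cfsg.Agent.Lib.helper3.AlgInt
open scoped ComplexConjugate
open Classical

lemma isIntegral_nat (n : ℕ) : IsIntegral ℤ (n : ℂ) := by
  have : (n : ℂ) = algebraMap ℤ ℂ (n : ℤ) := by simp
  rw [this]
  exact isIntegral_algebraMap

/-- a divisor `d` of `N` not divisible by `p ^ (k + 1)` divides `p ^ k * ordCompl[p] N` -/
lemma dvd_of_not_pow_dvd {p d N k : ℕ} (hp : p.Prime) (hN : N ≠ 0) (hd : d ∣ N)
    (hk : ¬ p ^ (k + 1) ∣ d) : d ∣ p ^ k * (N / p ^ N.factorization p) := by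
  have hd0 : d ≠ 0 := fun h => hN (by rw [h] at hd; exact zero_dvd_iff.mp hd)
  obtain ⟨j, d', hd', rfl⟩ := Nat.exists_eq_pow_mul_and_not_dvd hd0 p hp.ne_one
  have hj : j ≤ k := by
    by_contra hcon
    push Not at hcon
    exact hk ((pow_dvd_pow p hcon).trans (Dvd.intro _ rfl))
  have h1 : d' ∣ N := (Dvd.intro_left _ rfl).trans hd
  have h2 : N = p ^ N.factorization p * (N / p ^ N.factorization p) :=
    (Nat.ordProj_mul_ordCompl_eq_self N p).symm
  have hcop : Nat.Coprime d' (p ^ N.factorization p) :=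
    Nat.Coprime.pow_right _ ((Nat.Prime.coprime_iff_not_dvd hp).mpr hd').symm
  have h3 : d' ∣ N / p ^ N.factorization p := by
    rw [h2] at h1
    exact hcop.dvd_of_dvd_mul_left h1
  exact Nat.mul_dvd_mul (pow_dvd_pow p hj) h3

variable {G : Type*} [Group G] [Fintype G]

theorem card_cls_inv (x : G) : (cls x⁻¹).card = (cls x).card := by
  apply Finset.card_bij (fun g _ => g⁻¹)
  · intro g hg
    rw [mem_cls] at hg ⊢
    obtain ⟨c, hc⟩ := isConj_iff.mp hg
    apply isConj_iff.mpr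
    refine ⟨c, ?_⟩
    rw [← hc]; group
  · intro a _ b _ h
    exact inv_injective h
  · intro g hg
    rw [mem_cls] at hg
    obtain ⟨c, hc⟩ := isConj_iff.mp hg
    refine ⟨g⁻¹, ?_, inv_inv g⟩
    rw [mem_cls]
    apply isConj_iff.mpr
    refine ⟨c, ?_⟩
    rw [← hc]; group

/-- the number of ways to write `1` as a product of a conjugate of `x` and a conjugate of `x⁻¹` -/
theorem mulCount_inv_one (x : G) : mulCount x x⁻¹ (1 : G) = ((cls x).card : ℂ) := by
  unfold mulCount
  congr 1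
  rw [show (cls x).card = Fintype.card {u : G // IsConj x u} by
    rw [Fintype.card_subtype]; rfl, ← Nat.card_eq_fintype_card]
  apply Nat.card_congr
  refine ⟨fun q => ⟨q.1.1, q.2.1⟩, fun u => ⟨(u.1, u.1⁻¹), u.2, ?_, ?_⟩, ?_, ?_⟩
  · obtain ⟨g, hg⟩ := isConj_iff.mp u.2
    apply isConj_iff.mpr
    refine ⟨g, ?_⟩
    show g * x⁻¹ * g⁻¹ = u.1⁻¹
    rw [← hg]; group
  · show u.1 * u.1⁻¹ = 1
    exact mul_inv_cancel _
  · rintro ⟨⟨u, v⟩, hu, hv, huv⟩
    apply Subtype.ext
    simp only at hu hv huv ⊢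
    have : v = u⁻¹ := (inv_eq_of_mul_eq_one_right huv).symm
    rw [this]
  · intro u
    rfl

/-- **Divisibility lemma.** If no non-identity element of the subgroup `P` is a product of a
conjugate of `x` and a conjugate of `x⁻¹`, and all irreducible character degrees divide `L`,
then `|P|` divides `L * |C_G(x)|`. -/
theorem card_dvd_of_mulCount_eq_zero (x : G) (P : Subgroup G) (L : ℕ)
    (hL : ∀ χ : IrrCharacter G, charDegree (χ : G → ℂ) ∣ L)
    (h0 : ∀ u ∈ P, u ≠ 1 → mulCount x x⁻¹ u = 0) :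
    Nat.card P ∣ L * Nat.card (Subgroup.centralizer ({x} : Set G)) := by
  haveI : Fintype P := Fintype.ofFinite P
  set N := Nat.card G with hN
  have hN0 : N ≠ 0 := Nat.card_pos.ne'
  -- multiplicities of the trivial character of `P`
  have hm : ∀ χ : IrrCharacter G, ∃ m : ℕ, ∑ z : P, (χ : G → ℂ) z = (Nat.card P : ℂ) * m := by
    intro χ
    obtain ⟨m, hm⟩ := exists_nat_classInner_of_isCharacter_of_isCharacter
      (isCharacter_restrict (isCharacter_of_isIrrCharacter χ.2) P) (isCharacter_one (G := P))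
    refine ⟨m, ?_⟩
    rw [classInner_apply] at hm
    have hP0 : (Nat.card P : ℂ) ≠ 0 := card_ne_zero_complex P
    have h1 : ∑ z : P, (χ : G → ℂ) z * conj ((fun _ : P => (1 : ℂ)) z) =
        ∑ z : P, (χ : G → ℂ) z := by
      apply Finset.sum_congr rfl
      intro z _
      simp
    rw [h1] at hm
    field_simp at hm
    rw [hm]
  choose m hm using hm
  have hsumβ : ∑ z : P, mulCount x x⁻¹ (z : G) = ((cls x).card : ℂ) := by
    rw [Finset.sum_eq_single (1 : P)]
    · exact mulCount_inv_one x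
    · intro z _ hz
      exact h0 z z.2 (fun h => hz (Subtype.ext h))
    · intro h
      exact absurd (Finset.mem_univ _) h
  have hK0 : ((cls x).card : ℂ) ≠ 0 := by
    have : x ∈ cls x := mem_cls.mpr (IsConj.refl x)
    exact_mod_cast (Finset.card_pos.mpr ⟨x, this⟩).ne'
  have hNC : (N : ℂ) ≠ 0 := by exact_mod_cast hN0
  have hP0 : (Nat.card P : ℂ) ≠ 0 := card_ne_zero_complex P
  have hsum2 : ∑ z : P, mulCount x x⁻¹ (z : G) =
      ((cls x).card : ℂ) * ((cls x).card : ℂ) / (N : ℂ) *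
        ∑ χ : IrrCharacter G, (χ : G → ℂ) x * (χ : G → ℂ) x⁻¹ * ((Nat.card P : ℂ) * (m χ : ℂ)) /
          (χ : G → ℂ) 1 := by
    simp_rw [mulCount_eq x x⁻¹, card_cls_inv x]
    rw [← Finset.mul_sum, Finset.sum_comm]
    congr 1
    apply Finset.sum_congr rfl
    intro χ _
    rw [← Finset.sum_div, ← Finset.mul_sum, ← map_sum, hm χ]
    simp
  rw [hsumβ] at hsum2
  have hKC : (cls x).card * Nat.card (Subgroup.centralizer ({x} : Set G)) = N :=
    card_cls_mul_card_centralizer x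
  set CG := Nat.card (Subgroup.centralizer ({x} : Set G)) with hCG
  have hKC' : ((cls x).card : ℂ) * (CG : ℂ) = (N : ℂ) := by exact_mod_cast hKC
  set w : ℂ := ∑ χ : IrrCharacter G, (χ : G → ℂ) x * (χ : G → ℂ) x⁻¹ * (m χ : ℂ) *
      ((L / charDegree (χ : G → ℂ) : ℕ) : ℂ) with hw
  have hwint : IsIntegral ℤ w := by
    apply IsIntegral.sum
    intro χ _
    have h1 := Cfsg.Agent.Lib.helper3.Lin.isIntegral_of_isCharacter
      (isCharacter_of_isIrrCharacter χ.2) x
    have h2 := Cfsg.Agent.Lib.helper3.Lin.isIntegral_of_isCharacter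
      (isCharacter_of_isIrrCharacter χ.2) x⁻¹
    exact ((h1.mul h2).mul (isIntegral_nat _)).mul (isIntegral_nat _)
  have hmain : ((L * CG : ℕ) : ℂ) = (Nat.card P : ℂ) * w := by
    rw [hw, Finset.mul_sum]
    have h3 : ∀ χ : IrrCharacter G, (Nat.card P : ℂ) * ((χ : G → ℂ) x * (χ : G → ℂ) x⁻¹ *
        (m χ : ℂ) * ((L / charDegree (χ : G → ℂ) : ℕ) : ℂ)) = (L : ℂ) * ((χ : G → ℂ) x *
          (χ : G → ℂ) x⁻¹ * ((Nat.card P : ℂ) * (m χ : ℂ)) / (χ : G → ℂ) 1) := by
      intro χ
      have h10 : (χ : G → ℂ) 1 ≠ 0 := apply_one_ne_zero χ.2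
      have hdc : ((L / charDegree (χ : G → ℂ) : ℕ) : ℂ) = (L : ℂ) / (χ : G → ℂ) 1 := by
        rw [Nat.cast_div (hL χ), charDegree_cast (isCharacter_of_isIrrCharacter χ.2)]
        rw [charDegree_cast (isCharacter_of_isIrrCharacter χ.2)]
        exact h10
      rw [hdc]
      field_simp
    rw [Finset.sum_congr rfl (fun χ _ => h3 χ), ← Finset.mul_sum]
    have h4 : ∑ χ : IrrCharacter G, (χ : G → ℂ) x * (χ : G → ℂ) x⁻¹ *
        ((Nat.card P : ℂ) * (m χ : ℂ)) / (χ : G → ℂ) 1 = (CG : ℂ) := by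
      set S : ℂ := ∑ χ : IrrCharacter G, (χ : G → ℂ) x * (χ : G → ℂ) x⁻¹ *
        ((Nat.card P : ℂ) * (m χ : ℂ)) / (χ : G → ℂ) 1 with hS
      have h5 : ((cls x).card : ℂ) = ((cls x).card : ℂ) * ((cls x).card : ℂ) / (N : ℂ) * S :=
        hsum2
      have h6 : ((cls x).card : ℂ) * (N : ℂ) = ((cls x).card : ℂ) * ((cls x).card : ℂ) * S := by
        have h7 : ((cls x).card : ℂ) * (N : ℂ) =
            (((cls x).card : ℂ) * ((cls x).card : ℂ) / (N : ℂ) * S) * (N : ℂ) := by rw [← h5]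
        rw [h7]
        field_simp
      rw [← hKC'] at h6
      have h8 : ((cls x).card : ℂ) * ((cls x).card : ℂ) * (CG : ℂ) =
          ((cls x).card : ℂ) * ((cls x).card : ℂ) * S := by
        rw [← h6]; ring
      exact (mul_left_cancel₀ (mul_ne_zero hK0 hK0) h8).symm
    rw [h4]
    push_cast
    ring
  have hdvd : ((Nat.card P : ℕ) : ℤ) ∣ ((L * CG : ℕ) : ℤ) := by
    apply int_dvd_of_eq_mul_isIntegral hwint
    · push_cast
      push_cast at hmain
      exact hmain
    · exact_mod_cast (Nat.card_pos (α := P)).ne'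
  exact_mod_cast hdvd

/-- if no irreducible character has `p`-defect zero, all degrees divide
`p ^ (e - 1) * ordCompl[p] |G|` -/
theorem degree_dvd_of_no_defect_zero {p : ℕ} (hp : p.Prime) (hpG : p ∣ Nat.card G)
    (hno : ∀ χ : IrrCharacter G,
      (charDegree (χ : G → ℂ)).factorization p ≠ (Nat.card G).factorization p)
    (χ : IrrCharacter G) :
    charDegree (χ : G → ℂ) ∣ p ^ ((Nat.card G).factorization p - 1) *
      (Nat.card G / p ^ (Nat.card G).factorization p) := by
  have hN0 : Nat.card G ≠ 0 := Nat.card_pos.ne'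
  obtain ⟨n, hn1, hn2, hn3⟩ := irr_degree_dvd_card χ.2
  have hdeg : charDegree (χ : G → ℂ) = n := charDegree_eq hn1
  have he : 1 ≤ (Nat.card G).factorization p :=
    (hp.dvd_iff_one_le_factorization hN0).mp hpG
  apply dvd_of_not_pow_dvd hp hN0
  · rw [hdeg]; exact hn2
  · intro hdiv
    have h1 : (Nat.card G).factorization p - 1 + 1 = (Nat.card G).factorization p := by omega
    rw [h1, hdeg] at hdiv
    have h2 := (hp.pow_dvd_iff_le_factorization hn3.ne').mp hdiv
    have h3 : n.factorization p ≤ (Nat.card G).factorization p :=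
      (Nat.factorization_le_iff_dvd hn3.ne' hN0).mpr hn2 p
    exact hno χ (by rw [hdeg]; omega)

end Cfsg.Agent.Lib.Helper4.ClassProd
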