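import Mathlib
import Cfsg.Prelude.Def_Characters
import Cfsg.Prelude.Def_OddOrderLocal
import Cfsg.Prelude.Def_OddOrderChar
import Cfsg.Agent.Lib.helper3.CycTI4

set_option autoImplicit false
set_option linter.style.haveILetI false
set_option linter.unusedSectionVars false

/-!
# Character sums on `W = W₁ × W₂` and the values of a cyclic TI family on `W ∖ (W₁ ∪ W₂)`
-/

namespace Cfsg.Agent.Lib.Helper4.CycEx

open Cfsg Cfsg.Agent.Lib.helper3.CycTI Cfsg.Agent.Lib.helper3.IndFun Cfsg.Agent.Lib.helper3.Irr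
open scoped ComplexConjugate

variable {G : Type*} [Group G]

/-- characters trivial on `U` separate the elements outside `U` -/
theorem sep_char [Finite G] (W₁ W₂ U : Subgroup G) (hcyc : IsCyclic ↥(W₁ ⊔ W₂))
    (x : ↥(W₁ ⊔ W₂)) (hx : (x : G) ∉ U) : ∃ φ ∈ trivOn W₁ W₂ U, φ x ≠ 1 := by
  letI : CommGroup ↥(W₁ ⊔ W₂) := IsCyclic.commGroup
  set N : Subgroup ↥(W₁ ⊔ W₂) := U.subgroupOf (W₁ ⊔ W₂) with hN
  have ha : (QuotientGroup.mk x : ↥(W₁ ⊔ W₂) ⧸ N) ≠ 1 := by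
    intro h
    rw [QuotientGroup.eq_one_iff] at h
    exact hx (Subgroup.mem_subgroupOf.mp h)
  haveI : NeZero ((Monoid.exponent (↥(W₁ ⊔ W₂) ⧸ N) : ℕ) : ℂ) :=
    ⟨Nat.cast_ne_zero.mpr Monoid.exponent_ne_zero_of_finite⟩
  obtain ⟨φ', hφ'⟩ :=
    CommGroup.exists_apply_ne_one_of_hasEnoughRootsOfUnity (↥(W₁ ⊔ W₂) ⧸ N) ℂ ha
  refine ⟨φ'.comp (QuotientGroup.mk' N), ?_, hφ'⟩
  intro w hw
  have : (QuotientGroup.mk' N w) = 1 := by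
    rw [QuotientGroup.mk'_apply, QuotientGroup.eq_one_iff]
    exact Subgroup.mem_subgroupOf.mpr hw
  rw [MonoidHom.comp_apply, this, map_one]

open Classical in
theorem sum_trivOn [Finite G] (W₁ W₂ U : Subgroup G) (hcyc : IsCyclic ↥(W₁ ⊔ W₂))
    [Fintype (trivOn W₁ W₂ U)] (x : ↥(W₁ ⊔ W₂)) :
    ∑ φ : trivOn W₁ W₂ U, (((φ : ↥(W₁ ⊔ W₂) →* ℂˣ) x : ℂˣ) : ℂ)
      = if (x : G) ∈ U then (Nat.card (trivOn W₁ W₂ U) : ℂ) else 0 := by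
  split_ifs with h
  · have : ∀ φ : trivOn W₁ W₂ U, (((φ : ↥(W₁ ⊔ W₂) →* ℂˣ) x : ℂˣ) : ℂ) = 1 := fun φ => by
      rw [φ.2 x h]; rfl
    simp only [this, Finset.sum_const, Finset.card_univ, nsmul_eq_mul, mul_one,
      Nat.card_eq_fintype_card]
  · obtain ⟨φ₀, hφ₀, hne⟩ := sep_char W₁ W₂ U hcyc x h
    let f : ↥(trivOn W₁ W₂ U) →* ℂ :=
      (Units.coeHom ℂ).comp ((MonoidHom.eval x).comp (trivOn W₁ W₂ U).subtype)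
    have hf : f ≠ 1 := by
      intro h1
      have := DFunLike.congr_fun h1 ⟨φ₀, hφ₀⟩
      change ((φ₀ x : ℂˣ) : ℂ) = 1 at this
      exact hne (Units.ext this)
    exact sum_hom_units_eq_zero f hf

theorem conj_char [Finite G] (W₁ W₂ : Subgroup G) (φ : ↥(W₁ ⊔ W₂) →* ℂˣ) (v : ↥(W₁ ⊔ W₂)) :
    conj ((φ v : ℂˣ) : ℂ) = ((φ v⁻¹ : ℂˣ) : ℂ) := by
  have hn : ‖((φ v : ℂˣ) : ℂ)‖ = 1 := by
    apply Complex.norm_eq_one_of_pow_eq_one (n := Nat.card ↥(W₁ ⊔ W₂)) _ Nat.card_pos.ne'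
    rw [← Units.val_pow_eq_pow_val, ← map_pow, pow_card_eq_one', map_one, Units.val_one]
  rw [map_inv, Units.val_inv_eq_inv_val, Complex.inv_eq_conj hn]

open Classical in
theorem sum_conj_one_sub [Finite G] (W₁ W₂ U : Subgroup G) (hcyc : IsCyclic ↥(W₁ ⊔ W₂))
    [Fintype (trivOn W₁ W₂ U)] (v u : ↥(W₁ ⊔ W₂)) (hv : (v : G) ∉ U) :
    ∑ φ : trivOn W₁ W₂ U, conj (((φ : ↥(W₁ ⊔ W₂) →* ℂˣ) v : ℂˣ) : ℂ)
        * (1 - (((φ : ↥(W₁ ⊔ W₂) →* ℂˣ) u : ℂˣ) : ℂ))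
      = - (if ((v⁻¹ * u : ↥(W₁ ⊔ W₂)) : G) ∈ U then (Nat.card (trivOn W₁ W₂ U) : ℂ) else 0) := by
  have hterm : ∀ φ : trivOn W₁ W₂ U, conj (((φ : ↥(W₁ ⊔ W₂) →* ℂˣ) v : ℂˣ) : ℂ)
        * (1 - (((φ : ↥(W₁ ⊔ W₂) →* ℂˣ) u : ℂˣ) : ℂ))
      = (((φ : ↥(W₁ ⊔ W₂) →* ℂˣ) v⁻¹ : ℂˣ) : ℂ)
        - (((φ : ↥(W₁ ⊔ W₂) →* ℂˣ) (v⁻¹ * u) : ℂˣ) : ℂ) := by
    intro φ
    rw [conj_char, map_mul, Units.val_mul]
    ring
  simp only [hterm, Finset.sum_sub_distrib]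
  rw [sum_trivOn W₁ W₂ U hcyc, sum_trivOn W₁ W₂ U hcyc]
  have hv' : ((v⁻¹ : ↥(W₁ ⊔ W₂)) : G) ∉ U := by
    intro h
    apply hv
    have := U.inv_mem h
    simpa using this
  rw [if_neg hv', zero_sub]

end Cfsg.Agent.Lib.Helper4.CycEx
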