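import Mathlib
import Cfsg.Agent.Lib.Helper4.CycExA
import Cfsg.Agent.Lib.helper3.IndLin

set_option autoImplicit false
set_option linter.style.haveILetI false
set_option linter.unusedSectionVars false

/-!
# The values on `W ∖ (W₁ ∪ W₂)` follow from the other properties of a cyclic TI family
-/

namespace Cfsg.Agent.Lib.Helper4.CycEx

open Cfsg Cfsg.Agent.Lib.helper3.CycTI Cfsg.Agent.Lib.helper3.IndFun Cfsg.Agent.Lib.helper3.Irr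
open scoped ComplexConjugate

variable {G : Type*} [Group G]

open Classical in
theorem eq_on_of [Fintype G] (W₁ W₂ : Subgroup G) (hW : IsSelfNormalizingCyclic W₁ W₂)
    (χ : (↥(W₁ ⊔ W₂) →* ℂˣ) → (G → ℂ))
    (hcf : ∀ ω, IsClassFunction G (χ ω))
    (horth : ∀ ω ω', classInner (χ ω) (χ ω') = @ite ℂ (ω = ω') (Classical.propDecidable _) 1 0)
    (hone : χ 1 = fun _ => 1)
    (hind : ∀ φ ψ : ↥(W₁ ⊔ W₂) →* ℂˣ, φ ≠ 1 → ψ ≠ 1 →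
      (∀ w : ↥(W₁ ⊔ W₂), (w : G) ∈ W₂ → φ w = 1) → (∀ w : ↥(W₁ ⊔ W₂), (w : G) ∈ W₁ → ψ w = 1) →
      indFun (W₁ ⊔ W₂) (alphaFun φ ψ) = fun g => 1 - χ φ g - χ ψ g + χ (φ * ψ) g)
    (ω : ↥(W₁ ⊔ W₂) →* ℂˣ) (v : ↥(W₁ ⊔ W₂)) (hv₁ : (v : G) ∉ W₁) (hv₂ : (v : G) ∉ W₂) :
    χ ω v = (ω v : ℂ) := by
  obtain ⟨hW1, hW2, hinf, hcomm, hcyc, hnorm⟩ := hW
  letI : Fintype ↥(W₁ ⊔ W₂) := Fintype.ofFinite _
  haveI : Finite (↥(W₁ ⊔ W₂) →* ℂˣ) :=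
    Nat.finite_of_card_ne_zero (by rw [card_dual_sup W₁ W₂ hcyc]; exact Nat.card_pos.ne')
  letI : Fintype (trivOn W₁ W₂ W₂) := Fintype.ofFinite _
  letI : Fintype (trivOn W₁ W₂ W₁) := Fintype.ofFinite _
  set ρ : ↥(W₁ ⊔ W₂) → ℂ := (fun u : ↥(W₁ ⊔ W₂) => χ ω u) - linFun ω with hρ
  -- step 1: `ρ` is orthogonal to all the functions `(1 - φ)(1 - ψ)`
  have key0 : ∀ φ ψ : ↥(W₁ ⊔ W₂) →* ℂˣ, (∀ w : ↥(W₁ ⊔ W₂), (w : G) ∈ W₂ → φ w = 1) →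
      (∀ w : ↥(W₁ ⊔ W₂), (w : G) ∈ W₁ → ψ w = 1) → classInner (alphaFun φ ψ) ρ = 0 := by
    intro φ ψ hφ hψ
    by_cases h1 : φ = 1
    · have hz : alphaFun φ ψ = 0 := by
        funext w
        simp [alphaFun, h1]
      rw [hz, classInner_zero_left]
    by_cases h2 : ψ = 1
    · have hz : alphaFun φ ψ = 0 := by
        funext w
        simp [alphaFun, h2]
      rw [hz, classInner_zero_left]
    rw [hρ, classInner_sub_right,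
      ← frobenius_reciprocity (W₁ ⊔ W₂) (alphaFun φ ψ) (χ ω) (hcf ω), hind φ ψ h1 h2 hφ hψ]
    have hfun : (fun g => 1 - χ φ g - χ ψ g + χ (φ * ψ) g) = χ 1 - χ φ - χ ψ + χ (φ * ψ) := by
      funext g
      rw [hone]
      simp
    rw [hfun, classInner_add_left, classInner_sub_left, classInner_sub_left, horth, horth, horth,
      horth, alphaFun_eq, classInner_add_left, classInner_sub_left, classInner_sub_left,
      classInner_linFun, classInner_linFun, classInner_linFun, classInner_linFun]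
    ring
  -- step 2: the kernel
  have hA := fun u => sum_conj_one_sub W₁ W₂ W₂ hcyc v u hv₂
  have hB := fun u => sum_conj_one_sub W₁ W₂ W₁ hcyc v u hv₁
  have hK : ∀ u : ↥(W₁ ⊔ W₂),
      ∑ φ : trivOn W₁ W₂ W₂, ∑ ψ : trivOn W₁ W₂ W₁,
        (conj (((φ : ↥(W₁ ⊔ W₂) →* ℂˣ) v : ℂˣ) : ℂ) * conj (((ψ : ↥(W₁ ⊔ W₂) →* ℂˣ) v : ℂˣ) : ℂ))
          * alphaFun (φ : ↥(W₁ ⊔ W₂) →* ℂˣ) (ψ : ↥(W₁ ⊔ W₂) →* ℂˣ) u
      = if u = v then (Nat.card (trivOn W₁ W₂ W₂) : ℂ) * (Nat.card (trivOn W₁ W₂ W₁) : ℂ)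
        else 0 := by
    intro u
    have hprod : ∑ φ : trivOn W₁ W₂ W₂, ∑ ψ : trivOn W₁ W₂ W₁,
        (conj (((φ : ↥(W₁ ⊔ W₂) →* ℂˣ) v : ℂˣ) : ℂ) * conj (((ψ : ↥(W₁ ⊔ W₂) →* ℂˣ) v : ℂˣ) : ℂ))
          * alphaFun (φ : ↥(W₁ ⊔ W₂) →* ℂˣ) (ψ : ↥(W₁ ⊔ W₂) →* ℂˣ) u
        = (∑ φ : trivOn W₁ W₂ W₂, conj (((φ : ↥(W₁ ⊔ W₂) →* ℂˣ) v : ℂˣ) : ℂ)
            * (1 - (((φ : ↥(W₁ ⊔ W₂) →* ℂˣ) u : ℂˣ) : ℂ)))
          * (∑ ψ : trivOn W₁ W₂ W₁, conj (((ψ : ↥(W₁ ⊔ W₂) →* ℂˣ) v : ℂˣ) : ℂ)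
            * (1 - (((ψ : ↥(W₁ ⊔ W₂) →* ℂˣ) u : ℂˣ) : ℂ))) := by
      rw [Finset.sum_mul_sum]
      apply Finset.sum_congr rfl
      intro φ _
      apply Finset.sum_congr rfl
      intro ψ _
      simp only [alphaFun]
      ring
    rw [hprod, hA u, hB u]
    by_cases huv : u = v
    · subst huv
      have e1 : ((u⁻¹ * u : ↥(W₁ ⊔ W₂)) : G) ∈ W₂ := by
        rw [inv_mul_cancel]; exact W₂.one_mem
      have e2 : ((u⁻¹ * u : ↥(W₁ ⊔ W₂)) : G) ∈ W₁ := by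
        rw [inv_mul_cancel]; exact W₁.one_mem
      rw [if_pos e1, if_pos e2, if_pos rfl]
      ring
    · rw [if_neg huv]
      by_cases e1 : ((v⁻¹ * u : ↥(W₁ ⊔ W₂)) : G) ∈ W₂
      · by_cases e2 : ((v⁻¹ * u : ↥(W₁ ⊔ W₂)) : G) ∈ W₁
        · exfalso
          have hmem : ((v⁻¹ * u : ↥(W₁ ⊔ W₂)) : G) ∈ W₁ ⊓ W₂ := ⟨e2, e1⟩
          rw [hinf, Subgroup.mem_bot] at hmem
          have h1 : v⁻¹ * u = 1 := Subtype.ext hmem
          exact huv (inv_mul_eq_one.mp h1).symm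
        · rw [if_neg e2]
          ring
      · rw [if_neg e1]
        ring
  -- step 3: conclusion
  have hzero : ∑ u : ↥(W₁ ⊔ W₂),
      (∑ φ : trivOn W₁ W₂ W₂, ∑ ψ : trivOn W₁ W₂ W₁,
        (conj (((φ : ↥(W₁ ⊔ W₂) →* ℂˣ) v : ℂˣ) : ℂ) * conj (((ψ : ↥(W₁ ⊔ W₂) →* ℂˣ) v : ℂˣ) : ℂ))
          * alphaFun (φ : ↥(W₁ ⊔ W₂) →* ℂˣ) (ψ : ↥(W₁ ⊔ W₂) →* ℂˣ) u) * conj (ρ u) = 0 := by
    simp only [Finset.sum_mul]
    rw [Finset.sum_comm]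
    apply Finset.sum_eq_zero
    intro φ _
    rw [Finset.sum_comm]
    apply Finset.sum_eq_zero
    intro ψ _
    have h := key0 (φ : ↥(W₁ ⊔ W₂) →* ℂˣ) (ψ : ↥(W₁ ⊔ W₂) →* ℂˣ) φ.2 ψ.2
    rw [classInner_apply] at h
    have hcard : (Nat.card ↥(W₁ ⊔ W₂) : ℂ)⁻¹ ≠ 0 :=
      inv_ne_zero (card_ne_zero_complex _)
    have h' := (mul_eq_zero.mp h).resolve_left hcard
    simp only [mul_assoc]
    rw [← Finset.mul_sum, ← Finset.mul_sum, h', mul_zero, mul_zero]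
  simp only [hK] at hzero
  rw [Finset.sum_eq_single v] at hzero
  · rw [if_pos rfl] at hzero
    have hΦ : (Nat.card (trivOn W₁ W₂ W₂) : ℂ) ≠ 0 := card_ne_zero_complex _
    have hΨ : (Nat.card (trivOn W₁ W₂ W₁) : ℂ) ≠ 0 := card_ne_zero_complex _
    have h0 : conj (ρ v) = 0 := by
      rcases mul_eq_zero.mp hzero with h | h
      · exact absurd h (mul_ne_zero hΦ hΨ)
      · exact h
    have h1 : ρ v = 0 := by
      have := congrArg conj h0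
      simpa using this
    have h2 : χ ω v - linFun ω v = 0 := h1
    have h3 := sub_eq_zero.mp h2
    rw [h3]
    rfl
  · intro u _ hu
    rw [if_neg hu, zero_mul]
  · intro h
    exact absurd (Finset.mem_univ v) h

end Cfsg.Agent.Lib.Helper4.CycEx
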