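import Mathlib

set_option autoImplicit false

/-!
# Integer vectors of norm three: the local lemmas for the cyclic TI lattice theorem
-/

namespace Cfsg.Agent.Lib.Helper4.CycLat

open Finset

variable {B : Type*} [Fintype B] [DecidableEq B]

/-- integer inner product of two integer vectors -/
def ip (u v : B → ℤ) : ℤ := ∑ b, u b * v b

theorem ip_comm (u v : B → ℤ) : ip u v = ip v u := by
  unfold ip
  exact Finset.sum_congr rfl (fun b _ => mul_comm _ _)

theorem ip_add_left (u v w : B → ℤ) : ip (u + v) w = ip u w + ip v w := by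
  unfold ip
  rw [← Finset.sum_add_distrib]
  exact Finset.sum_congr rfl (fun b _ => by simp [add_mul])

theorem ip_add_right (u v w : B → ℤ) : ip u (v + w) = ip u v + ip u w := by
  rw [ip_comm, ip_add_left, ip_comm v, ip_comm w]

theorem ip_sub_left (u v w : B → ℤ) : ip (u - v) w = ip u w - ip v w := by
  unfold ip
  rw [← Finset.sum_sub_distrib]
  exact Finset.sum_congr rfl (fun b _ => by simp [sub_mul])

theorem ip_sub_right (u v w : B → ℤ) : ip u (v - w) = ip u v - ip u w := by
  rw [ip_comm, ip_sub_left, ip_comm v, ip_comm w]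

theorem ip_single_right (u : B → ℤ) (q : B) : ip u (Pi.single q 1) = u q := by
  unfold ip
  rw [Finset.sum_eq_single q]
  · simp
  · intro b _ hb
    simp [Pi.single_apply, hb]
  · intro h
    exact absurd (mem_univ q) h

theorem ip_single_left (u : B → ℤ) (q : B) : ip (Pi.single q 1) u = u q := by
  rw [ip_comm, ip_single_right]

theorem ip_zero_right (u : B → ℤ) : ip u 0 = 0 := by
  unfold ip
  simp

theorem ip_sum_right {ι : Type*} (s : Finset ι) (u : B → ℤ) (f : ι → B → ℤ) :
    ip u (∑ i ∈ s, f i) = ∑ i ∈ s, ip u (f i) := by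
  classical
  induction s using Finset.induction_on with
  | empty => simp [ip_zero_right]
  | insert a s ha ih => rw [Finset.sum_insert ha, Finset.sum_insert ha, ip_add_right, ih]

/-- two distinct terms of a nonnegative sum -/
theorem two_le_sum {f : B → ℤ} (hf : ∀ b, 0 ≤ f b) {b b' : B} (hne : b ≠ b') :
    f b + f b' ≤ ∑ x, f x := by
  have h := Finset.sum_le_sum_of_subset_of_nonneg (Finset.subset_univ ({b, b'} : Finset B))
    (fun i _ _ => hf i)
  rwa [Finset.sum_pair hne] at h

/-- entries of a vector of norm three -/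
theorem entry_of_norm3 {v : B → ℤ} (h : ip v v = 3) (b : B) : v b = -1 ∨ v b = 0 ∨ v b = 1 := by
  have h1 : v b * v b ≤ 3 := by
    rw [← h]
    unfold ip
    exact Finset.single_le_sum (f := fun b => v b * v b) (fun i _ => mul_self_nonneg _)
      (Finset.mem_univ b)
  have h2 : -1 ≤ v b := by nlinarith
  have h3 : v b ≤ 1 := by nlinarith
  omega

/-- Two vectors of norm three with inner product one never disagree at a common point, provided
some vector has odd inner product with their sum. -/
theorem no_disagree {u v w : B → ℤ} (hu : ip u u = 3) (hv : ip v v = 3) (huv : ip u v = 1)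
    (hw : Odd (ip w u + ip w v)) (b : B) : 0 ≤ u b * v b := by
  by_contra hneg
  push_neg at hneg
  have eu := entry_of_norm3 hu b
  have ev := entry_of_norm3 hv b
  have hsum : u b + v b = 0 := by
    rcases eu with h | h | h <;> rcases ev with h' | h' | h' <;> rw [h, h'] at hneg ⊢ <;>
      omega
  have hdiff : (u b - v b) * (u b - v b) = 4 := by
    rcases eu with h | h | h <;> rcases ev with h' | h' | h' <;> rw [h, h'] at hneg ⊢ <;>
      omega
  have hn : ip (u - v) (u - v) = 4 := by
    rw [ip_sub_left, ip_sub_right, ip_sub_right, hu, hv, ip_comm v u, huv]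
    norm_num
  have hothers : ∀ b' : B, b' ≠ b → u b' = v b' := by
    intro b' hb'
    have hz : ∑ x ∈ univ.erase b, (u x - v x) * (u x - v x) = 0 := by
      have h1 := Finset.add_sum_erase univ (fun x => (u x - v x) * (u x - v x)) (mem_univ b)
      unfold ip at hn
      simp only [Pi.sub_apply] at hn
      linarith
    have h0 := (Finset.sum_eq_zero_iff_of_nonneg (fun x _ => mul_self_nonneg _)).mp hz b'
      (mem_erase.mpr ⟨hb', mem_univ _⟩)
    have := mul_self_eq_zero.mp h0
    linarith
  have hpar : ip w u + ip w v = 2 * ∑ x ∈ univ.erase b, w x * u x := by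
    unfold ip
    rw [← Finset.sum_add_distrib, ← Finset.add_sum_erase univ _ (mem_univ b), Finset.mul_sum]
    have h0 : w b * u b + w b * v b = 0 := by rw [← mul_add, hsum, mul_zero]
    rw [h0, zero_add]
    apply Finset.sum_congr rfl
    intro x hx
    rw [← hothers x (ne_of_mem_erase hx)]
    ring
  rw [hpar] at hw
  exact (Int.not_odd_iff_even.mpr (even_two_mul _)) hw

/-- The unique common point of two compatible vectors with inner product one. -/
theorem exists_common {u v : B → ℤ} (hu : ∀ b, u b = -1 ∨ u b = 0 ∨ u b = 1)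
    (hv : ∀ b, v b = -1 ∨ v b = 0 ∨ v b = 1) (hdis : ∀ b, 0 ≤ u b * v b) (huv : ip u v = 1) :
    ∃ b, u b ≠ 0 ∧ v b ≠ 0 ∧ u b = v b ∧ ∀ b', u b' ≠ 0 → v b' ≠ 0 → b' = b := by
  have hterm : ∀ b, u b ≠ 0 → v b ≠ 0 → u b * v b = 1 ∧ u b = v b := by
    intro b h1 h2
    have := hdis b
    rcases hu b with h | h | h <;> rcases hv b with h' | h' | h' <;> rw [h, h'] at this ⊢ <;>
      simp_all
  have hex : ∃ b, u b * v b ≠ 0 := by
    by_contra hcon
    push_neg at hcon
    unfold ip at huv
    rw [Finset.sum_eq_zero (fun b _ => hcon b)] at huv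
    exact zero_ne_one huv
  obtain ⟨b, hb⟩ := hex
  have hb1 : u b ≠ 0 := left_ne_zero_of_mul hb
  have hb2 : v b ≠ 0 := right_ne_zero_of_mul hb
  refine ⟨b, hb1, hb2, (hterm b hb1 hb2).2, ?_⟩
  intro b' h1 h2
  by_contra hne
  have h := two_le_sum (f := fun x => u x * v x) hdis (Ne.symm hne)
  unfold ip at huv
  rw [huv, (hterm b hb1 hb2).1, (hterm b' h1 h2).1] at h
  norm_num at h


/-- the third point of the support of a vector of norm three -/
theorem third_point {v : B → ℤ} (hn : ip v v = 3) {q1 q2 : B} (hne : q1 ≠ q2) (h1 : v q1 ≠ 0)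
    (h2 : v q2 ≠ 0) :
    ∃ q3, q3 ≠ q1 ∧ q3 ≠ q2 ∧ v q3 ≠ 0 ∧ ∀ b, b ≠ q1 → b ≠ q2 → b ≠ q3 → v b = 0 := by
  have hsq : ∀ b, v b ≠ 0 → v b * v b = 1 := by
    intro b hb
    rcases entry_of_norm3 hn b with h | h | h
    · rw [h]; norm_num
    · exact absurd h hb
    · rw [h]; norm_num
  have hsum : v q1 * v q1 + (v q2 * v q2 + ∑ x ∈ (univ.erase q1).erase q2, v x * v x) = 3 := by
    have e1 := Finset.add_sum_erase univ (fun x => v x * v x) (mem_univ q1)
    have e2 := Finset.add_sum_erase (univ.erase q1) (fun x => v x * v x)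
      (mem_erase.mpr ⟨hne.symm, mem_univ q2⟩)
    unfold ip at hn
    linarith
  rw [hsq q1 h1, hsq q2 h2] at hsum
  have hrest : ∑ x ∈ (univ.erase q1).erase q2, v x * v x = 1 := by linarith
  have hex : ∃ q3 ∈ (univ.erase q1).erase q2, v q3 * v q3 ≠ 0 := by
    by_contra hcon
    push_neg at hcon
    rw [Finset.sum_eq_zero hcon] at hrest
    exact zero_ne_one hrest
  obtain ⟨q3, hq3m, hq3⟩ := hex
  have hq3' : v q3 ≠ 0 := left_ne_zero_of_mul hq3
  refine ⟨q3, (mem_erase.mp (mem_erase.mp hq3m).2).1, (mem_erase.mp hq3m).1, hq3', ?_⟩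
  intro b hb1 hb2 hb3
  by_contra hb
  have hbm : b ∈ (univ.erase q1).erase q2 :=
    mem_erase.mpr ⟨hb2, mem_erase.mpr ⟨hb1, mem_univ _⟩⟩
  have hsub : ({q3, b} : Finset B) ⊆ (univ.erase q1).erase q2 := by
    intro x hx
    rw [Finset.mem_insert, Finset.mem_singleton] at hx
    rcases hx with rfl | rfl
    · exact hq3m
    · exact hbm
  have h := Finset.sum_le_sum_of_subset_of_nonneg (f := fun x => v x * v x) hsub
    (fun i _ _ => mul_self_nonneg _)
  rw [Finset.sum_pair (Ne.symm hb3), hsq q3 hq3', hsq b hb, hrest] at h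
  norm_num at h

/-- a zero-one vector of norm three is the sum of three unit vectors -/
theorem cell_eq_singles {c : B → ℤ} (h01 : ∀ b, c b = 0 ∨ c b = 1) (hn : ip c c = 3)
    {q1 q2 q3 : B} (h12 : q1 ≠ q2) (h13 : q1 ≠ q3) (h23 : q2 ≠ q3) (h1 : c q1 = 1) (h2 : c q2 = 1)
    (h3 : c q3 = 1) : c = Pi.single q1 1 + Pi.single q2 1 + Pi.single q3 1 := by
  obtain ⟨q, hq1, hq2, -, hq⟩ := third_point hn h12 (by rw [h1]; norm_num) (by rw [h2]; norm_num)
  have hqq : q3 = q := by
    by_contra hne
    have := hq q3 (Ne.symm h13) (Ne.symm h23) hne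
    rw [h3] at this
    exact one_ne_zero this
  subst hqq
  funext b
  simp only [Pi.add_apply, Pi.single_apply]
  by_cases e1 : b = q1
  · subst e1
    rw [if_pos rfl, if_neg h12, if_neg h13, h1]; norm_num
  by_cases e2 : b = q2
  · subst e2
    rw [if_neg e1, if_pos rfl, if_neg h23, h2]; norm_num
  by_cases e3 : b = q3
  · subst e3
    rw [if_neg e1, if_neg e2, if_pos rfl, h3]; norm_num
  rw [if_neg e1, if_neg e2, if_neg e3, hq b e1 e2 e3]; norm_num

/-- a third point of a zero-one cell -/
theorem cell_third {c : B → ℤ} (h01 : ∀ b, c b = 0 ∨ c b = 1) (hn : ip c c = 3)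
    {q1 q2 : B} (h12 : q1 ≠ q2) (h1 : c q1 = 1) (h2 : c q2 = 1) :
    ∃ q3, q3 ≠ q1 ∧ q3 ≠ q2 ∧ c q3 = 1 ∧ c = Pi.single q1 1 + Pi.single q2 1 + Pi.single q3 1 := by
  obtain ⟨q, hq1, hq2, hq0, -⟩ := third_point hn h12 (by rw [h1]; norm_num) (by rw [h2]; norm_num)
  have hq : c q = 1 := by
    rcases h01 q with h | h
    · exact absurd h hq0
    · exact h
  exact ⟨q, hq1, hq2, hq, cell_eq_singles h01 hn h12 (Ne.symm hq1) (Ne.symm hq2) h1 h2 hq⟩

/-- the common point of two zero-one cells with inner product one -/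
theorem common01 {u v : B → ℤ} (hu : ∀ b, u b = 0 ∨ u b = 1) (hv : ∀ b, v b = 0 ∨ v b = 1)
    (huv : ip u v = 1) :
    ∃ b, u b = 1 ∧ v b = 1 ∧ ∀ b', u b' = 1 → v b' = 1 → b' = b := by
  obtain ⟨b, h1, h2, -, h3⟩ := exists_common (u := u) (v := v)
    (fun b => by rcases hu b with h | h <;> simp [h])
    (fun b => by rcases hv b with h | h <;> simp [h])
    (fun b => by rcases hu b with h | h <;> rcases hv b with h' | h' <;> simp [h, h']) huv
  refine ⟨b, ?_, ?_, ?_⟩
  · rcases hu b with h | h
    · exact absurd h h1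
    · exact h
  · rcases hv b with h | h
    · exact absurd h h2
    · exact h
  · intro b' e1 e2
    exact h3 b' (by rw [e1]; norm_num) (by rw [e2]; norm_num)

/-- No "complete quadrilateral": four zero-one cells pairwise meeting in one point, no three of
them concurrent, cannot have a vector with inner products `1, 0, 0, 0` against them. -/
theorem k4_kill (c : Fin 4 → B → ℤ) (d : B → ℤ)
    (h01 : ∀ t b, c t b = 0 ∨ c t b = 1)
    (hcc : ∀ t l, ip (c t) (c l) = if t = l then 3 else 1)
    (hdc : ∀ l, ip d (c l) = if l = 0 then 1 else 0)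
    (hno3 : ∀ b, c 0 b + c 1 b + c 2 b + c 3 b ≤ 2) : False := by
  have hsq : ∀ t b, c t b * c t b = c t b := by
    intro t b
    rcases h01 t b with h | h <;> rw [h] <;> norm_num
  have hsum1 : ∀ t, ∑ b, c t b = 3 := by
    intro t
    have := hcc t t
    rw [if_pos rfl] at this
    unfold ip at this
    rw [← this]
    exact Finset.sum_congr rfl (fun b _ => (hsq t b).symm)
  set s : B → ℤ := c 0 + c 1 + c 2 + c 3 with hs
  have hs0 : ∀ b, 0 ≤ s b := by
    intro b
    simp only [hs, Pi.add_apply]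
    rcases h01 0 b with h0 | h0 <;> rcases h01 1 b with h1 | h1 <;> rcases h01 2 b with h2 | h2 <;>
      rcases h01 3 b with h3 | h3 <;> rw [h0, h1, h2, h3] <;> norm_num
  have hs2 : ∀ b, s b ≤ 2 := by
    intro b
    simp only [hs, Pi.add_apply]
    exact hno3 b
  have hS1 : ∑ b, s b = 12 := by
    simp only [hs, Pi.add_apply, Finset.sum_add_distrib, hsum1]
    norm_num
  have hS2 : ∑ b, s b * s b = 24 := by
    have : ip s s = 24 := by
      simp only [hs, ip_add_left, ip_add_right, hcc]
      norm_num [Fin.ext_iff]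
    exact this
  have hz : ∑ b, s b * (2 - s b) = 0 := by
    have : ∀ b, s b * (2 - s b) = 2 * s b - s b * s b := fun b => by ring
    simp only [this, Finset.sum_sub_distrib, ← Finset.mul_sum, hS1, hS2]
    norm_num
  have hterm := (Finset.sum_eq_zero_iff_of_nonneg
    (fun b _ => mul_nonneg (hs0 b) (by linarith [hs2 b]))).mp hz
  have heven : ∀ b, (2 : ℤ) ∣ d b * s b := by
    intro b
    have h := hterm b (mem_univ b)
    rcases mul_eq_zero.mp h with h | h
    · rw [h, mul_zero]; exact dvd_zero _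
    · have : s b = 2 := by linarith
      rw [this]
      exact Dvd.intro_left _ rfl
  have hds : ip d s = 1 := by
    simp only [hs, ip_add_right, hdc]
    norm_num [Fin.ext_iff]
  have hdvd : (2 : ℤ) ∣ ip d s := Finset.dvd_sum (fun b _ => heven b)
  rw [hds] at hdvd
  norm_num at hdvd

end Cfsg.Agent.Lib.Helper4.CycLat
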