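import Mathlib
import Cfsg.Agent.Lib.Helper4.CycLatA

set_option autoImplicit false

/-!
# The finite analysis of the "three concurrent cells and a transversal" configuration
-/

namespace Cfsg.Agent.Lib.Helper4.CycLat

open Finset

/-- inner product of two vectors with seven coordinates -/
def dot7 (x y : Fin 7 → ℤ) : ℤ :=
  x 0 * y 0 + x 1 * y 1 + x 2 * y 2 + x 3 * y 3 + x 4 * y 4 + x 5 * y 5 + x 6 * y 6

/-- compatibility of the restrictions of two cells of the second row -/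
def Compat7 (x y : Fin 7 → ℤ) : Prop :=
  (0 ≤ x 0 * y 0 ∧ 0 ≤ x 1 * y 1 ∧ 0 ≤ x 2 * y 2 ∧ 0 ≤ x 3 * y 3 ∧ 0 ≤ x 4 * y 4 ∧ 0 ≤ x 5 * y 5 ∧
    0 ≤ x 6 * y 6) ∧
  (dot7 x y = 1 ∨ (dot7 x y = 0 ∧ dot7 x x ≤ 2 ∧ dot7 y y ≤ 2))

instance (x y : Fin 7 → ℤ) : Decidable (Compat7 x y) := by
  unfold Compat7
  infer_instance

/-- the sums over the four cells `{0,1,2}`, `{0,3,4}`, `{0,5,6}`, `{1,3,5}` -/
def cellSum (l : Fin 4) (x : Fin 7 → ℤ) : ℤ :=
  match l with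
  | 0 => x 0 + x 1 + x 2
  | 1 => x 0 + x 3 + x 4
  | 2 => x 0 + x 5 + x 6
  | 3 => x 1 + x 3 + x 5

/-- the candidate restrictions -/
def cand31 : Fin 4 → List (Fin 7 → ℤ) := ![
  [![0,0,1,0,0,0,0], ![0,1,0,-1,1,0,0], ![0,1,0,0,0,-1,1], ![1,0,0,0,-1,0,-1]],
  [![0,-1,1,1,0,0,0], ![0,0,0,0,1,0,0], ![0,0,0,1,0,-1,1], ![1,0,-1,0,0,0,-1]],
  [![0,-1,1,0,0,1,0], ![0,0,0,-1,1,1,0], ![0,0,0,0,0,0,1], ![1,0,-1,0,-1,0,0]],
  [![0,0,0,0,0,1,-1], ![0,0,0,1,-1,0,0], ![0,1,-1,0,0,0,0]]]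

set_option maxRecDepth 100000 in
theorem stage2 : ∀ x0 ∈ cand31 0, ∀ x1 ∈ cand31 1, ∀ x2 ∈ cand31 2, ∀ x3 ∈ cand31 3,
    ¬ (Compat7 x0 x1 ∧ Compat7 x0 x2 ∧ Compat7 x0 x3 ∧ Compat7 x1 x2 ∧ Compat7 x1 x3 ∧
      Compat7 x2 x3) := by
  decide


theorem vec7_ext (x : Fin 7 → ℤ) (a0 a1 a2 a3 a4 a5 a6 : ℤ) (h0 : x 0 = a0) (h1 : x 1 = a1)
    (h2 : x 2 = a2) (h3 : x 3 = a3) (h4 : x 4 = a4) (h5 : x 5 = a5) (h6 : x 6 = a6) :
    x = ![a0, a1, a2, a3, a4, a5, a6] := by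
  funext q
  fin_cases q
  · exact h0
  · exact h1
  · exact h2
  · exact h3
  · exact h4
  · exact h5
  · exact h6

/-- a restriction is determined by four of its coordinates -/
def mk31 (t : Fin 4) (k0 k1 k3 k5 : ℤ) : Fin 7 → ℤ :=
  ![k0, k1, (if t = 0 then 1 else 0) - k0 - k1, k3, (if t = 1 then 1 else 0) - k0 - k3, k5,
    (if t = 2 then 1 else 0) - k0 - k5]

/-- validity of a restriction -/
def Valid31 (t : Fin 4) (x : Fin 7 → ℤ) : Prop :=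
  (∀ q, x q = -1 ∨ x q = 0 ∨ x q = 1) ∧ dot7 x x ≤ 3 ∧ cellSum 3 x = if t = 3 then 1 else 0

instance (t : Fin 4) (x : Fin 7 → ℤ) : Decidable (Valid31 t x) := by
  unfold Valid31
  infer_instance

set_option maxRecDepth 100000 in
theorem stage1_fin : ∀ t : Fin 4, ∀ k0 ∈ ([-1, 0, 1] : List ℤ), ∀ k1 ∈ ([-1, 0, 1] : List ℤ),
    ∀ k3 ∈ ([-1, 0, 1] : List ℤ), ∀ k5 ∈ ([-1, 0, 1] : List ℤ),
    Valid31 t (mk31 t k0 k1 k3 k5) → mk31 t k0 k1 k3 k5 ∈ cand31 t := by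
  decide

theorem stage1 (t : Fin 4) (x : Fin 7 → ℤ) (hb : ∀ q, x q = -1 ∨ x q = 0 ∨ x q = 1)
    (hn : dot7 x x ≤ 3) (he : ∀ l, cellSum l x = if t = l then 1 else 0) : x ∈ cand31 t := by
  have e0 := he 0
  have e1 := he 1
  have e2 := he 2
  have e3 := he 3
  simp only [cellSum] at e0 e1 e2
  have hx : x = mk31 t (x 0) (x 1) (x 3) (x 5) := by
    unfold mk31
    apply vec7_ext x _ _ _ _ _ _ _ rfl rfl _ rfl _ rfl _
    · rw [← e0]; ring
    · rw [← e1]; ring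
    · rw [← e2]; ring
  have hmem : ∀ q, x q ∈ ([-1, 0, 1] : List ℤ) := by
    intro q
    simp only [List.mem_cons, List.not_mem_nil, or_false]
    exact hb q
  rw [hx]
  apply stage1_fin t _ (hmem 0) _ (hmem 1) _ (hmem 3) _ (hmem 5)
  rw [← hx]
  exact ⟨hb, hn, e3⟩


/-- the finite contradiction -/
theorem fin_kill (r : Fin 4 → Fin 7 → ℤ)
    (hb : ∀ t q, r t q = -1 ∨ r t q = 0 ∨ r t q = 1)
    (hn : ∀ t, dot7 (r t) (r t) ≤ 3)
    (he : ∀ t l, cellSum l (r t) = if t = l then 1 else 0)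
    (hc : ∀ t l, t ≠ l → Compat7 (r t) (r l)) : False :=
  stage2 _ (stage1 0 (r 0) (hb 0) (hn 0) (he 0)) _ (stage1 1 (r 1) (hb 1) (hn 1) (he 1))
    _ (stage1 2 (r 2) (hb 2) (hn 2) (he 2)) _ (stage1 3 (r 3) (hb 3) (hn 3) (he 3))
    ⟨hc 0 1 (by decide), hc 0 2 (by decide), hc 0 3 (by decide), hc 1 2 (by decide),
      hc 1 3 (by decide), hc 2 3 (by decide)⟩

section restrict

variable {B : Type*} [Fintype B] [DecidableEq B]

theorem sum_split {k : ℕ} (pt : Fin k → B) (hpt : Function.Injective pt) (f : B → ℤ) :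
    ∑ b, f b = ∑ q, f (pt q) + ∑ b ∈ univ.filter (fun b => b ∉ univ.image pt), f b := by
  rw [← Finset.sum_image (f := f) (s := univ) (g := pt) (fun a _ b _ h => hpt h),
    ← Finset.sum_filter_add_sum_filter_not univ (fun b => b ∈ univ.image pt) f]
  congr 1
  apply Finset.sum_congr _ (fun _ _ => rfl)
  ext b
  simp

theorem res_sq_le {k : ℕ} (pt : Fin k → B) (hpt : Function.Injective pt) (v : B → ℤ) :
    ∑ q, v (pt q) * v (pt q) ≤ ip v v := by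
  unfold ip
  rw [sum_split pt hpt (fun b => v b * v b)]
  have : 0 ≤ ∑ b ∈ univ.filter (fun b => b ∉ univ.image pt), v b * v b :=
    Finset.sum_nonneg (fun b _ => mul_self_nonneg _)
  linarith

theorem compat_of {k : ℕ} (pt : Fin k → B) (hpt : Function.Injective pt) {v v' : B → ℤ}
    (hdis : ∀ b, 0 ≤ v b * v' b) (hvv' : ip v v' = 1) (hv : ip v v = 3) (hv' : ip v' v' = 3) :
    (∑ q, v (pt q) * v' (pt q) = 1) ∨ (∑ q, v (pt q) * v' (pt q) = 0 ∧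
      ∑ q, v (pt q) * v (pt q) ≤ 2 ∧ ∑ q, v' (pt q) * v' (pt q) ≤ 2) := by
  have hs := sum_split pt hpt (fun b => v b * v' b)
  have hin : 0 ≤ ∑ q, v (pt q) * v' (pt q) := Finset.sum_nonneg (fun q _ => hdis _)
  have hout : 0 ≤ ∑ b ∈ univ.filter (fun b => b ∉ univ.image pt), v b * v' b :=
    Finset.sum_nonneg (fun b _ => hdis _)
  unfold ip at hvv'
  rw [hvv'] at hs
  by_cases h1 : ∑ q, v (pt q) * v' (pt q) = 1
  · left; exact h1
  right
  have h0 : ∑ q, v (pt q) * v' (pt q) = 0 := by omega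
  have hout1 : ∑ b ∈ univ.filter (fun b => b ∉ univ.image pt), v b * v' b = 1 := by omega
  have hex : ∃ b ∈ univ.filter (fun b => b ∉ univ.image pt), v b * v' b ≠ 0 := by
    by_contra hcon
    push_neg at hcon
    rw [Finset.sum_eq_zero hcon] at hout1
    exact zero_ne_one hout1
  obtain ⟨b, hbm, hb⟩ := hex
  have hvb : v b ≠ 0 := left_ne_zero_of_mul hb
  have hvb' : v' b ≠ 0 := right_ne_zero_of_mul hb
  have key : ∀ u : B → ℤ, ip u u = 3 → u b ≠ 0 → ∑ q, u (pt q) * u (pt q) ≤ 2 := by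
    intro u hu hub
    have hs' := sum_split pt hpt (fun x => u x * u x)
    unfold ip at hu
    rw [hu] at hs'
    have h1le : 1 ≤ ∑ x ∈ univ.filter (fun x => x ∉ univ.image pt), u x * u x := by
      have h2 := Finset.single_le_sum (f := fun x => u x * u x)
        (s := univ.filter (fun x => x ∉ univ.image pt)) (fun i _ => mul_self_nonneg _) hbm
      have h3 : 1 ≤ u b * u b := by
        have : 0 < u b * u b := mul_self_pos.mpr hub
        omega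
      exact le_trans h3 h2
    omega
  exact ⟨h0, key v hv hvb, key v' hv' hvb'⟩

end restrict

end Cfsg.Agent.Lib.Helper4.CycLat
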