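import Mathlib
import Cfsg.Agent.Lib.Helper4.CycLatB

set_option autoImplicit false

/-!
# No three concurrent cells and a transversal
-/

namespace Cfsg.Agent.Lib.Helper4.CycLat

open Finset

variable {B : Type*} [Fintype B] [DecidableEq B]

theorem inj7 (p0 p1 p2 p3 p4 p5 p6 : B)
    (h01 : p0 ≠ p1) (h02 : p0 ≠ p2) (h03 : p0 ≠ p3) (h04 : p0 ≠ p4) (h05 : p0 ≠ p5) (h06 : p0 ≠ p6)
    (h12 : p1 ≠ p2) (h13 : p1 ≠ p3) (h14 : p1 ≠ p4) (h15 : p1 ≠ p5) (h16 : p1 ≠ p6)
    (h23 : p2 ≠ p3) (h24 : p2 ≠ p4) (h25 : p2 ≠ p5) (h26 : p2 ≠ p6)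
    (h34 : p3 ≠ p4) (h35 : p3 ≠ p5) (h36 : p3 ≠ p6)
    (h45 : p4 ≠ p5) (h46 : p4 ≠ p6) (h56 : p5 ≠ p6) :
    Function.Injective ![p0, p1, p2, p3, p4, p5, p6] := by
  intro i j h
  fin_cases i <;> fin_cases j <;> first | rfl | (exfalso; simp at h; first | exact absurd h (by assumption) | exact absurd h.symm (by assumption))

/-- Three cells through a common point and a fourth cell missing it are impossible. -/
theorem tp1_kill (c d : Fin 4 → B → ℤ)
    (h01 : ∀ t b, c t b = 0 ∨ c t b = 1)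
    (hcc : ∀ t l, ip (c t) (c l) = if t = l then 3 else 1)
    (hdd : ∀ t l, ip (d t) (d l) = if t = l then 3 else 1)
    (hdc : ∀ t l, ip (d t) (c l) = if t = l then 1 else 0)
    (hdis : ∀ t l b, 0 ≤ d t b * d l b)
    (p : B) (hp0 : c 0 p = 1) (hp1 : c 1 p = 1) (hp2 : c 2 p = 1) (hp3 : c 3 p = 0) : False := by
  have hn : ∀ t, ip (c t) (c t) = 3 := fun t => by rw [hcc, if_pos rfl]
  have h1 : ∀ t l, t ≠ l → ip (c t) (c l) = 1 := fun t l h => by rw [hcc, if_neg h]
  obtain ⟨a1, ha1, ha1', -⟩ := common01 (h01 0) (h01 3) (h1 0 3 (by decide))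
  obtain ⟨b1, hb1, hb1', -⟩ := common01 (h01 1) (h01 3) (h1 1 3 (by decide))
  obtain ⟨d1, hd1, hd1', -⟩ := common01 (h01 2) (h01 3) (h1 2 3 (by decide))
  obtain ⟨p01, -, -, u01⟩ := common01 (h01 0) (h01 1) (h1 0 1 (by decide))
  obtain ⟨p02, -, -, u02⟩ := common01 (h01 0) (h01 2) (h1 0 2 (by decide))
  obtain ⟨p12, -, -, u12⟩ := common01 (h01 1) (h01 2) (h1 1 2 (by decide))
  have e01 : ∀ b, c 0 b = 1 → c 1 b = 1 → b = p :=
    fun b h h' => (u01 b h h').trans (u01 p hp0 hp1).symm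
  have e02 : ∀ b, c 0 b = 1 → c 2 b = 1 → b = p :=
    fun b h h' => (u02 b h h').trans (u02 p hp0 hp2).symm
  have e12 : ∀ b, c 1 b = 1 → c 2 b = 1 → b = p :=
    fun b h h' => (u12 b h h').trans (u12 p hp1 hp2).symm
  have hpa1 : p ≠ a1 := by
    rintro rfl
    rw [hp3] at ha1'
    exact zero_ne_one ha1'
  have hpb1 : p ≠ b1 := by
    rintro rfl
    rw [hp3] at hb1'
    exact zero_ne_one hb1'
  have hpd1 : p ≠ d1 := by
    rintro rfl
    rw [hp3] at hd1'
    exact zero_ne_one hd1'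
  have hab : a1 ≠ b1 := by
    rintro rfl
    exact hpa1 (e01 a1 ha1 hb1).symm
  have had : a1 ≠ d1 := by
    rintro rfl
    exact hpa1 (e02 a1 ha1 hd1).symm
  have hbd : b1 ≠ d1 := by
    rintro rfl
    exact hpb1 (e12 b1 hb1 hd1).symm
  obtain ⟨a2, ha2p, ha2a, ha2, dec0⟩ := cell_third (h01 0) (hn 0) hpa1 hp0 ha1
  obtain ⟨b2, hb2p, hb2b, hb2, dec1⟩ := cell_third (h01 1) (hn 1) hpb1 hp1 hb1
  obtain ⟨d2, hd2p, hd2d, hd2, dec2⟩ := cell_third (h01 2) (hn 2) hpd1 hp2 hd1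
  have dec3 : c 3 = Pi.single a1 1 + Pi.single b1 1 + Pi.single d1 1 :=
    cell_eq_singles (h01 3) (hn 3) hab had hbd ha1' hb1' hd1'
  have hinj : Function.Injective ![p, a1, a2, b1, b2, d1, d2] := by
    apply inj7
    · exact hpa1
    · exact Ne.symm ha2p
    · exact hpb1
    · exact Ne.symm hb2p
    · exact hpd1
    · exact Ne.symm hd2p
    · exact Ne.symm ha2a
    · exact hab
    · rintro rfl
      exact hpa1 (e01 a1 ha1 hb2).symm
    · exact had
    · rintro rfl
      exact hpa1 (e02 a1 ha1 hd2).symm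
    · rintro rfl
      exact ha2p (e01 a2 ha2 hb1)
    · rintro rfl
      exact ha2p (e01 a2 ha2 hb2)
    · rintro rfl
      exact ha2p (e02 a2 ha2 hd1)
    · rintro rfl
      exact ha2p (e02 a2 ha2 hd2)
    · exact Ne.symm hb2b
    · exact hbd
    · rintro rfl
      exact hpb1 (e12 b1 hb1 hd2).symm
    · rintro rfl
      exact hb2p (e12 b2 hb2 hd1)
    · rintro rfl
      exact hb2p (e12 b2 hb2 hd2)
    · exact Ne.symm hd2d
  set pt : Fin 7 → B := ![p, a1, a2, b1, b2, d1, d2] with hpt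
  have hdn : ∀ t, ip (d t) (d t) = 3 := fun t => by rw [hdd, if_pos rfl]
  refine fin_kill (fun t q => d t (pt q)) ?_ ?_ ?_ ?_
  · intro t q
    exact entry_of_norm3 (hdn t) _
  · intro t
    have := res_sq_le pt hinj (d t)
    rw [hdn t, Fin.sum_univ_seven] at this
    exact this
  · intro t l
    rw [← hdc t l]
    fin_cases l
    · show d t (pt 0) + d t (pt 1) + d t (pt 2) = ip (d t) (c 0)
      rw [dec0, ip_add_right, ip_add_right, ip_single_right, ip_single_right, ip_single_right]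
      rfl
    · show d t (pt 0) + d t (pt 3) + d t (pt 4) = ip (d t) (c 1)
      rw [dec1, ip_add_right, ip_add_right, ip_single_right, ip_single_right, ip_single_right]
      rfl
    · show d t (pt 0) + d t (pt 5) + d t (pt 6) = ip (d t) (c 2)
      rw [dec2, ip_add_right, ip_add_right, ip_single_right, ip_single_right, ip_single_right]
      rfl
    · show d t (pt 1) + d t (pt 3) + d t (pt 5) = ip (d t) (c 3)
      rw [dec3, ip_add_right, ip_add_right, ip_single_right, ip_single_right, ip_single_right]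
      rfl
  · intro t l htl
    refine ⟨⟨hdis t l _, hdis t l _, hdis t l _, hdis t l _, hdis t l _, hdis t l _, hdis t l _⟩, ?_⟩
    have := compat_of pt hinj (hdis t l) (by rw [hdd, if_neg htl]) (hdn t) (hdn l)
    simp only [Fin.sum_univ_seven] at this
    exact this

end Cfsg.Agent.Lib.Helper4.CycLat
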