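import Mathlib
import Cfsg.Agent.Lib.Helper4.CycLatC

set_option autoImplicit false

/-!
# The row lemma: with at least four columns and a second row, the cells of a row are concurrent
-/

namespace Cfsg.Agent.Lib.Helper4.CycLat

open Finset

variable {B : Type*} [Fintype B] [DecidableEq B]

theorem inj4 {J : Type*} (j0 j1 j2 j3 : J) (h01 : j0 ≠ j1) (h02 : j0 ≠ j2) (h03 : j0 ≠ j3)
    (h12 : j1 ≠ j2) (h13 : j1 ≠ j3) (h23 : j2 ≠ j3) : Function.Injective ![j0, j1, j2, j3] := by
  intro i j h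
  fin_cases i <;> fin_cases j <;> first | rfl | (exfalso; simp at h; first | exact absurd h (by assumption) | exact absurd h.symm (by assumption))

section cols

variable {J : Type*} [DecidableEq J] (c d : J → B → ℤ)
  (h01 : ∀ j b, c j b = 0 ∨ c j b = 1)
  (hcc : ∀ j l, ip (c j) (c l) = if j = l then 3 else 1)
  (hdd : ∀ j l, ip (d j) (d l) = if j = l then 3 else 1)
  (hdc : ∀ j l, ip (d j) (c l) = if j = l then 1 else 0)
  (hdis : ∀ j l b, 0 ≤ d j b * d l b)

include h01 hcc hdd hdc hdis in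
theorem tp1_kill_col (col : Fin 4 → J) (hcol : Function.Injective col) (p : B)
    (hp0 : c (col 0) p = 1) (hp1 : c (col 1) p = 1) (hp2 : c (col 2) p = 1)
    (hp3 : c (col 3) p = 0) : False := by
  refine tp1_kill (fun t => c (col t)) (fun t => d (col t)) (fun t b => h01 _ b) ?_ ?_ ?_
    (fun t l b => hdis _ _ b) p hp0 hp1 hp2 hp3
  · intro t l
    rw [hcc]
    simp only [hcol.eq_iff]
  · intro t l
    rw [hdd]
    simp only [hcol.eq_iff]
  · intro t l
    rw [hdc]
    simp only [hcol.eq_iff]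

include h01 hcc hdc in
theorem k4_kill_col (col : Fin 4 → J) (hcol : Function.Injective col)
    (hno3 : ∀ b, c (col 0) b + c (col 1) b + c (col 2) b + c (col 3) b ≤ 2) : False := by
  refine k4_kill (fun t => c (col t)) (d (col 0)) (fun t b => h01 _ b) ?_ ?_ hno3
  · intro t l
    rw [hcc]
    simp only [hcol.eq_iff]
  · intro l
    rw [hdc]
    simp only [hcol.eq_iff, eq_comm]

include h01 hcc hdd hdc hdis in
/-- the row lemma for a zero-one row -/
theorem row_common01 [Fintype J] (hJ : 4 ≤ Fintype.card J) :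
    ∃ b, ∀ j, c j b = 1 := by
  obtain ⟨j1, j2, h12⟩ := Fintype.exists_pair_of_one_lt_card (α := J) (by omega)
  have hpair : ∀ j l, j ≠ l → ip (c j) (c l) = 1 := fun j l h => by rw [hcc, if_neg h]
  obtain ⟨a, ha1, ha2, ua⟩ := common01 (h01 j1) (h01 j2) (hpair j1 j2 h12)
  refine ⟨a, ?_⟩
  by_contra hcon
  push_neg at hcon
  obtain ⟨j3, hj3⟩ := hcon
  have hj3a : c j3 a = 0 := by
    rcases h01 j3 a with h | h
    · exact h
    · exact absurd h hj3
  have h13 : j1 ≠ j3 := by
    rintro rfl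
    exact hj3 ha1
  have h23 : j2 ≠ j3 := by
    rintro rfl
    exact hj3 ha2
  obtain ⟨j4, hj4⟩ : ∃ j4, j4 ∉ ({j1, j2, j3} : Finset J) := by
    by_contra hcon
    push_neg at hcon
    have hsub : (univ : Finset J) ⊆ {j1, j2, j3} := fun x _ => hcon x
    have := Finset.card_le_card hsub
    have h3 : ({j1, j2, j3} : Finset J).card ≤ 3 := Finset.card_le_three
    rw [Finset.card_univ] at this
    omega
  simp only [Finset.mem_insert, Finset.mem_singleton, not_or] at hj4
  obtain ⟨h41, h42, h43⟩ := hj4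
  obtain ⟨b, hb1, hb3, ub⟩ := common01 (h01 j1) (h01 j3) (hpair j1 j3 h13)
  obtain ⟨e, he2, he3, ue⟩ := common01 (h01 j2) (h01 j3) (hpair j2 j3 h23)
  by_cases h4a : c j4 a = 1
  · exact tp1_kill_col c d h01 hcc hdd hdc hdis ![j1, j2, j4, j3]
      (inj4 j1 j2 j4 j3 h12 (Ne.symm h41) h13 (Ne.symm h42) h23 h43) a ha1 ha2 h4a hj3a
  have h4a0 : c j4 a = 0 := by
    rcases h01 j4 a with h | h
    · exact h
    · exact absurd h h4a
  by_cases h4b : c j4 b = 1
  · have hb2 : c j2 b = 0 := by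
      rcases h01 j2 b with h | h
      · exact h
      · exfalso
        have := ua b hb1 h
        rw [this] at hb3
        rw [hb3] at hj3a
        exact one_ne_zero hj3a
    exact tp1_kill_col c d h01 hcc hdd hdc hdis ![j1, j3, j4, j2]
      (inj4 j1 j3 j4 j2 h13 (Ne.symm h41) h12 (Ne.symm h43) (Ne.symm h23) h42) b hb1 hb3 h4b hb2
  have h4b0 : c j4 b = 0 := by
    rcases h01 j4 b with h | h
    · exact h
    · exact absurd h h4b
  by_cases h4e : c j4 e = 1
  · have he1 : c j1 e = 0 := by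
      rcases h01 j1 e with h | h
      · exact h
      · exfalso
        have := ua e h he2
        rw [this] at he3
        rw [he3] at hj3a
        exact one_ne_zero hj3a
    exact tp1_kill_col c d h01 hcc hdd hdc hdis ![j2, j3, j4, j1]
      (inj4 j2 j3 j4 j1 h23 (Ne.symm h42) (Ne.symm h12) (Ne.symm h43) (Ne.symm h13) h41)
      e he2 he3 h4e he1
  have h4e0 : c j4 e = 0 := by
    rcases h01 j4 e with h | h
    · exact h
    · exact absurd h h4e
  refine k4_kill_col c d h01 hcc hdc ![j1, j2, j3, j4]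
    (inj4 j1 j2 j3 j4 h12 h13 (Ne.symm h41) h23 (Ne.symm h42) (Ne.symm h43)) ?_
  intro x
  show c j1 x + c j2 x + c j3 x + c j4 x ≤ 2
  have k123 : ¬ (c j1 x = 1 ∧ c j2 x = 1 ∧ c j3 x = 1) := by
    rintro ⟨u1, u2, u3⟩
    have := ua x u1 u2
    rw [this, hj3a] at u3
    exact zero_ne_one u3
  have k124 : ¬ (c j1 x = 1 ∧ c j2 x = 1 ∧ c j4 x = 1) := by
    rintro ⟨u1, u2, u3⟩
    have := ua x u1 u2
    rw [this, h4a0] at u3
    exact zero_ne_one u3
  have k134 : ¬ (c j1 x = 1 ∧ c j3 x = 1 ∧ c j4 x = 1) := by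
    rintro ⟨u1, u2, u3⟩
    have := ub x u1 u2
    rw [this, h4b0] at u3
    exact zero_ne_one u3
  have k234 : ¬ (c j2 x = 1 ∧ c j3 x = 1 ∧ c j4 x = 1) := by
    rintro ⟨u1, u2, u3⟩
    have := ue x u1 u2
    rw [this, h4e0] at u3
    exact zero_ne_one u3
  rcases h01 j1 x with g1 | g1 <;> rcases h01 j2 x with g2 | g2 <;>
    rcases h01 j3 x with g3 | g3 <;> rcases h01 j4 x with g4 | g4 <;> omega

end cols

end Cfsg.Agent.Lib.Helper4.CycLat
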