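import Mathlib
import Cfsg.Agent.Lib.Helper4.CycLatD

set_option autoImplicit false

/-!
# Grids of integer vectors with the cyclic TI Gram relations: rows are concurrent
-/

namespace Cfsg.Agent.Lib.Helper4.CycLat

open Finset

variable {B : Type*} [Fintype B] [DecidableEq B]

section grid

variable {I J : Type*} [DecidableEq I] [DecidableEq J]

/-- the Gram relations of the family `β i j = Ind α i j - 1` -/
def IsGrid (β : I → J → B → ℤ) : Prop :=
  ∀ i j k l, ip (β i j) (β k l) =
    (if i = k then 1 else 0) + (if j = l then 1 else 0) + (if i = k ∧ j = l then 1 else 0)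

variable {β : I → J → B → ℤ}

theorem IsGrid.norm (hβ : IsGrid β) (i : I) (j : J) : ip (β i j) (β i j) = 3 := by
  rw [hβ]
  simp

theorem IsGrid.entry (hβ : IsGrid β) (i : I) (j : J) (b : B) :
    β i j b = -1 ∨ β i j b = 0 ∨ β i j b = 1 :=
  entry_of_norm3 (hβ.norm i j) b

theorem IsGrid.transpose (hβ : IsGrid β) : IsGrid (fun j i => β i j) := by
  intro j i l k
  rw [hβ i j k l]
  by_cases h1 : i = k <;> by_cases h2 : j = l <;> simp [h1, h2]

theorem IsGrid.row_nodis (hβ : IsGrid β) {i k : I} (hik : k ≠ i) (j l : J) (b : B) :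
    0 ≤ β i j b * β i l b := by
  by_cases hjl : j = l
  · subst hjl
    exact mul_self_nonneg _
  · refine no_disagree (w := β k j) (hβ.norm i j) (hβ.norm i l) ?_ ?_ b
    · rw [hβ]
      simp [hjl]
    · rw [hβ, hβ]
      simp [hik, hjl]

theorem IsGrid.col_nodis (hβ : IsGrid β) {j l : J} (hjl : l ≠ j) (i k : I) (b : B) :
    0 ≤ β i j b * β k j b :=
  hβ.transpose.row_nodis hjl i k b

theorem eq_of_nodis {a a' : ℤ} (ha : a = -1 ∨ a = 0 ∨ a = 1) (ha' : a' = -1 ∨ a' = 0 ∨ a' = 1)
    (h : 0 ≤ a * a') (hne : a ≠ 0) (hne' : a' ≠ 0) : a = a' := by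
  rcases ha with h1 | h1 | h1 <;> rcases ha' with h2 | h2 | h2 <;> rw [h1, h2] at h ⊢ <;>
    first | rfl | exact absurd h1 hne | exact absurd h2 hne' | (norm_num at h)

theorem IsGrid.row_unique (hβ : IsGrid β) {i k : I} (hik : k ≠ i) {j l : J} (hjl : j ≠ l) {b b' : B}
    (h1 : β i j b ≠ 0) (h2 : β i l b ≠ 0) (h3 : β i j b' ≠ 0) (h4 : β i l b' ≠ 0) : b = b' := by
  obtain ⟨q, -, -, -, hq⟩ := exists_common (hβ.entry i j) (hβ.entry i l) (hβ.row_nodis hik j l)
    (by rw [hβ]; simp [hjl])
  rw [hq b h1 h2, hq b' h3 h4]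

theorem IsGrid.col_unique (hβ : IsGrid β) {j l : J} (hjl : l ≠ j) {i k : I} (hik : i ≠ k) {b b' : B}
    (h1 : β i j b ≠ 0) (h2 : β k j b ≠ 0) (h3 : β i j b' ≠ 0) (h4 : β k j b' ≠ 0) : b = b' :=
  hβ.transpose.row_unique hjl hik h1 h2 h3 h4

/-- the common point of two cells in a column -/
theorem IsGrid.col_common (hβ : IsGrid β) {j l : J} (hjl : l ≠ j) {i k : I} (hik : i ≠ k) :
    ∃ b, β i j b ≠ 0 ∧ β k j b ≠ 0 := by
  obtain ⟨q, h1, h2, -, -⟩ := exists_common (hβ.entry i j) (hβ.entry k j) (hβ.col_nodis hjl i k)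
    (by rw [hβ]; simp [hik])
  exact ⟨q, h1, h2⟩

theorem ip_twist (ε u v : B → ℤ) (hε : ∀ b, ε b * ε b = 1) :
    ip (fun b => ε b * u b) (fun b => ε b * v b) = ip u v := by
  unfold ip
  apply Finset.sum_congr rfl
  intro b _
  have : ε b * u b * (ε b * v b) = (ε b * ε b) * (u b * v b) := by ring
  rw [this, hε, one_mul]

/-- The row lemma: with a second row and at least four columns the cells of a row have a common
point. -/
theorem IsGrid.row_common [Fintype J] (hβ : IsGrid β) {i k : I} (hik : k ≠ i)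
    (hJ : 4 ≤ Fintype.card J) : ∃ b, ∀ j, β i j b ≠ 0 := by
  classical
  set ε : B → ℤ := fun b => if ∃ j, β i j b = -1 then -1 else 1 with hε
  have hεsq : ∀ b, ε b * ε b = 1 := by
    intro b
    simp only [hε]
    split_ifs <;> norm_num
  have h01 : ∀ j b, ε b * β i j b = 0 ∨ ε b * β i j b = 1 := by
    intro j b
    rcases hβ.entry i j b with h | h | h
    · right
      have : ε b = -1 := by
        simp only [hε]
        rw [if_pos ⟨j, h⟩]
      rw [this, h]
      norm_num
    · left
      rw [h, mul_zero]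
    · right
      have : ε b = 1 := by
        simp only [hε]
        rw [if_neg]
        rintro ⟨l, hl⟩
        have := hβ.row_nodis hik j l b
        rw [h, hl] at this
        norm_num at this
      rw [this, h]
      norm_num
  obtain ⟨b, hb⟩ := row_common01 (fun j b => ε b * β i j b) (fun j b => ε b * β k j b) h01
    (fun j l => by
      rw [ip_twist _ _ _ hεsq, hβ]
      by_cases h : j = l <;> simp [h])
    (fun j l => by
      rw [ip_twist _ _ _ hεsq, hβ]
      by_cases h : j = l <;> simp [h])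
    (fun j l => by
      rw [ip_twist _ _ _ hεsq, hβ]
      by_cases h : j = l <;> simp [h, hik])
    (fun j l b => by
      have := hβ.row_nodis (Ne.symm hik) j l b
      have e : ε b * β k j b * (ε b * β k l b) = (ε b * ε b) * (β k j b * β k l b) := by ring
      rw [e, hεsq, one_mul]
      exact this) hJ
  refine ⟨b, fun j h => ?_⟩
  have := hb j
  rw [h, mul_zero] at this
  exact zero_ne_one this

end grid

end Cfsg.Agent.Lib.Helper4.CycLat
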