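import Mathlib
import Cfsg.Agent.Lib.Helper4.CycLatE

set_option autoImplicit false

/-!
# From common points of rows and columns to the orthonormal decomposition
-/

namespace Cfsg.Agent.Lib.Helper4.CycLat

open Finset

variable {B : Type*} [Fintype B] [DecidableEq B]

theorem exists_notMem_of_card_lt {J : Type*} [Fintype J] [DecidableEq J] (s : Finset J)
    (h : s.card < Fintype.card J) : ∃ x, x ∉ s := by
  by_contra hcon
  push_neg at hcon
  have hsub : (univ : Finset J) ⊆ s := fun x _ => hcon x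
  have := Finset.card_le_card hsub
  rw [Finset.card_univ] at this
  omega

theorem ip_single_left' (q : B) (s : ℤ) (u : B → ℤ) : ip (Pi.single q s) u = s * u q := by
  unfold ip
  rw [Finset.sum_eq_single q]
  · simp
  · intro b _ hb
    simp [Pi.single_apply, hb]
  · intro h
    exact absurd (mem_univ q) h

theorem sq_one_of_entry {a : ℤ} (ha : a = -1 ∨ a = 0 ∨ a = 1) (hne : a ≠ 0) : a * a = 1 := by
  rcases ha with h | h | h
  · rw [h]; norm_num
  · exact absurd h hne
  · rw [h]; norm_num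

section grid

variable {I J : Type*} [DecidableEq I] [DecidableEq J] {β : I → J → B → ℤ}

/-- the common point of a row is not in two cells of another row in the same column -/
theorem IsGrid.center_ne [Fintype J] (hβ : IsGrid β) {i k : I} (hik : k ≠ i)
    (hJ : 4 ≤ Fintype.card J) {x : B} (hx : ∀ l, β i l x ≠ 0) {j : J} (hy : β k j x ≠ 0) :
    False := by
  have hstep : ∀ l, l ≠ j → ∃ b, b ≠ x ∧ β k j b ≠ 0 ∧ β i l b ≠ 0 := by
    intro l hl
    have h0 : ip (β k j) (β i l) = 0 := by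
      rw [hβ]
      simp [hik, Ne.symm hl]
    have e1 : β k j x = β i j x :=
      eq_of_nodis (hβ.entry k j x) (hβ.entry i j x) (hβ.col_nodis hl k i x) hy (hx j)
    have e2 : β i l x = β i j x :=
      eq_of_nodis (hβ.entry i l x) (hβ.entry i j x) (hβ.row_nodis hik l j x) (hx l) (hx j)
    have hterm : β k j x * β i l x = 1 := by
      rw [e1, e2]
      exact sq_one_of_entry (hβ.entry i j x) (hx j)
    unfold ip at h0
    rw [← Finset.add_sum_erase univ _ (mem_univ x), hterm] at h0
    have hex : ∃ b ∈ univ.erase x, β k j b * β i l b ≠ 0 := by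
      by_contra hcon
      push_neg at hcon
      rw [Finset.sum_eq_zero hcon] at h0
      norm_num at h0
    obtain ⟨b, hbm, hb⟩ := hex
    exact ⟨b, ne_of_mem_erase hbm, left_ne_zero_of_mul hb, right_ne_zero_of_mul hb⟩
  obtain ⟨l1, hl1⟩ := exists_notMem_of_card_lt ({j} : Finset J) (by rw [Finset.card_singleton]; omega)
  obtain ⟨l2, hl2⟩ := exists_notMem_of_card_lt ({j, l1} : Finset J)
    (lt_of_le_of_lt Finset.card_le_two (by omega))
  obtain ⟨l3, hl3⟩ := exists_notMem_of_card_lt ({j, l1, l2} : Finset J)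
    (lt_of_le_of_lt Finset.card_le_three (by omega))
  simp only [Finset.mem_insert, Finset.mem_singleton, not_or] at hl1 hl2 hl3
  obtain ⟨b1, hb1x, hb1u, hb1⟩ := hstep l1 hl1
  obtain ⟨b2, hb2x, hb2u, hb2⟩ := hstep l2 hl2.1
  obtain ⟨b3, hb3x, hb3u, hb3⟩ := hstep l3 hl3.1
  have h12 : b1 ≠ b2 := by
    rintro rfl
    exact hb1x (hβ.row_unique hik (Ne.symm hl2.2) hb1 hb2 (hx l1) (hx l2))
  have h13 : b1 ≠ b3 := by
    rintro rfl
    exact hb1x (hβ.row_unique hik (Ne.symm hl3.2.1) hb1 hb3 (hx l1) (hx l3))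
  have h23 : b2 ≠ b3 := by
    rintro rfl
    exact hb2x (hβ.row_unique hik (Ne.symm hl3.2.2) hb2 hb3 (hx l2) (hx l3))
  obtain ⟨q, -, -, -, hq⟩ := third_point (hβ.norm k j) (Ne.symm hb1x) hy hb1u
  have e2 : b2 = q := by
    by_contra hne
    exact hb2u (hq b2 hb2x (Ne.symm h12) hne)
  have e3 : b3 = q := by
    by_contra hne
    exact hb3u (hq b3 hb3x (Ne.symm h13) hne)
  exact h23 (e2.trans e3.symm)

/-- the decomposition, given a common point for every row and every column -/
theorem IsGrid.decomp_of_centers [Fintype I] [Fintype J] (hβ : IsGrid β)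
    (hI : 2 ≤ Fintype.card I) (hJ : 4 ≤ Fintype.card J)
    (x : I → B) (hx : ∀ i j, β i j (x i) ≠ 0) (y : J → B) (hy : ∀ i j, β i j (y j) ≠ 0) :
    ∃ (X : I → B → ℤ) (Y : J → B → ℤ) (Z : I → J → B → ℤ),
      (∀ i j, β i j = X i + Y j + Z i j) ∧
      (∀ i k, ip (X i) (X k) = if i = k then 1 else 0) ∧
      (∀ j l, ip (Y j) (Y l) = if j = l then 1 else 0) ∧
      (∀ i j k l, ip (Z i j) (Z k l) = if i = k ∧ j = l then 1 else 0) ∧
      (∀ i j, ip (X i) (Y j) = 0) ∧ (∀ i k l, ip (X i) (Z k l) = 0) ∧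
      (∀ j k l, ip (Y j) (Z k l) = 0) ∧
      (∀ b, (∀ i j, β i j b = 0) → (∀ i, X i b = 0) ∧ (∀ j, Y j b = 0) ∧ ∀ i j, Z i j b = 0) := by
  have hoI : ∀ i : I, ∃ k, k ≠ i := fun i => Fintype.exists_ne_of_one_lt_card (by omega) i
  have hoJ : ∀ j : J, ∃ l, l ≠ j := fun j => Fintype.exists_ne_of_one_lt_card (by omega) j
  haveI : Nonempty I := Fintype.card_pos_iff.mp (by omega)
  haveI : Nonempty J := Fintype.card_pos_iff.mp (by omega)
  obtain ⟨i₀⟩ := ‹Nonempty I›
  obtain ⟨j₀⟩ := ‹Nonempty J›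
  have hxy : ∀ i j, x i ≠ y j := by
    intro i j h
    obtain ⟨k, hk⟩ := hoI i
    have := hy k j
    rw [← h] at this
    exact hβ.center_ne hk hJ (hx i) this
  have hxx : ∀ i k, i ≠ k → x i ≠ x k := by
    intro i k hik h
    obtain ⟨l, hl⟩ := hoJ j₀
    have h2 := hx k j₀
    rw [← h] at h2
    exact hxy i j₀ (hβ.col_unique hl hik (hx i j₀) h2 (hy i j₀) (hy k j₀))
  have hyy : ∀ j l, j ≠ l → y j ≠ y l := by
    intro j l hjl h
    obtain ⟨k, hk⟩ := hoI i₀
    have h2 := hy i₀ l
    rw [← h] at h2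
    exact hxy i₀ j (hβ.row_unique hk hjl (hx i₀ j) (hx i₀ l) (hy i₀ j) h2)
  have hsX : ∀ i j, β i j (x i) = β i j₀ (x i) := by
    intro i j
    obtain ⟨k, hk⟩ := hoI i
    exact eq_of_nodis (hβ.entry i j _) (hβ.entry i j₀ _) (hβ.row_nodis hk j j₀ _) (hx i j) (hx i j₀)
  have hsY : ∀ i j, β i j (y j) = β i₀ j (y j) := by
    intro i j
    obtain ⟨l, hl⟩ := hoJ j
    exact eq_of_nodis (hβ.entry i j _) (hβ.entry i₀ j _) (hβ.col_nodis hl i i₀ _) (hy i j) (hy i₀ j)
  have hX1 : ∀ i, β i j₀ (x i) * β i j₀ (x i) = 1 := fun i =>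
    sq_one_of_entry (hβ.entry i j₀ _) (hx i j₀)
  have hY1 : ∀ j, β i₀ j (y j) * β i₀ j (y j) = 1 := fun j =>
    sq_one_of_entry (hβ.entry i₀ j _) (hy i₀ j)
  -- vanishing of cells at foreign centers
  have hβx : ∀ i k l, k ≠ i → β k l (x i) = 0 := by
    intro i k l hki
    by_contra h
    obtain ⟨l', hl'⟩ := hoJ l
    exact hxy i l (hβ.col_unique hl' (Ne.symm hki) (hx i l) h (hy i l) (hy k l))
  have hβy : ∀ j k l, l ≠ j → β k l (y j) = 0 := by
    intro j k l hlj
    by_contra h
    obtain ⟨k', hk'⟩ := hoI k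
    exact hxy k j ((hβ.row_unique hk' hlj (hx k l) (hx k j) h (hy k j)))
  set X : I → B → ℤ := fun i => Pi.single (x i) (β i j₀ (x i)) with hX
  set Y : J → B → ℤ := fun j => Pi.single (y j) (β i₀ j (y j)) with hY
  set Z : I → J → B → ℤ := fun i j => β i j - X i - Y j with hZ
  have hdec : ∀ i j, β i j = X i + Y j + Z i j := by
    intro i j
    simp only [hZ]
    abel
  have hXX : ∀ i k, ip (X i) (X k) = if i = k then 1 else 0 := by
    intro i k
    simp only [hX]
    rw [ip_single_left']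
    by_cases hik : i = k
    · subst hik
      rw [if_pos rfl, Pi.single_eq_same, hX1]
    · rw [if_neg hik, Pi.single_eq_of_ne (hxx i k hik), mul_zero]
  have hYY : ∀ j l, ip (Y j) (Y l) = if j = l then 1 else 0 := by
    intro j l
    simp only [hY]
    rw [ip_single_left']
    by_cases hjl : j = l
    · subst hjl
      rw [if_pos rfl, Pi.single_eq_same, hY1]
    · rw [if_neg hjl, Pi.single_eq_of_ne (hyy j l hjl), mul_zero]
  have hXY : ∀ i j, ip (X i) (Y j) = 0 := by
    intro i j
    simp only [hX, hY]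
    rw [ip_single_left', Pi.single_eq_of_ne (hxy i j), mul_zero]
  have hXZ : ∀ i k l, ip (X i) (Z k l) = 0 := by
    intro i k l
    simp only [hX]
    rw [ip_single_left']
    have hYl : Y l (x i) = 0 := by
      simp only [hY]
      rw [Pi.single_eq_of_ne (hxy i l)]
    have : Z k l (x i) = 0 := by
      simp only [hZ, Pi.sub_apply, hYl]
      by_cases hki : k = i
      · subst hki
        simp only [hX, Pi.single_eq_same]
        rw [hsX]
        ring
      · have : X k (x i) = 0 := by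
          simp only [hX]
          rw [Pi.single_eq_of_ne (hxx i k (Ne.symm hki))]
        rw [this, hβx i k l hki]
        ring
    rw [this, mul_zero]
  have hYZ : ∀ j k l, ip (Y j) (Z k l) = 0 := by
    intro j k l
    simp only [hY]
    rw [ip_single_left']
    have hXk : X k (y j) = 0 := by
      simp only [hX]
      rw [Pi.single_eq_of_ne (Ne.symm (hxy k j))]
    have : Z k l (y j) = 0 := by
      simp only [hZ, Pi.sub_apply, hXk]
      by_cases hlj : l = j
      · subst hlj
        simp only [hY, Pi.single_eq_same]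
        rw [hsY]
        ring
      · have : Y l (y j) = 0 := by
          simp only [hY]
          rw [Pi.single_eq_of_ne (hyy j l (Ne.symm hlj))]
        rw [this, hβy j k l hlj]
        ring
    rw [this, mul_zero]
  have hZZ : ∀ i j k l, ip (Z i j) (Z k l) = if i = k ∧ j = l then 1 else 0 := by
    intro i j k l
    have h := hβ i j k l
    rw [hdec i j, hdec k l] at h
    simp only [ip_add_left, ip_add_right, hXX, hYY, hXY, hXZ, hYZ, ip_comm (Y _) (X _),
      ip_comm (Z _ _) (X _), ip_comm (Z _ _) (Y _)] at h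
    linarith
  refine ⟨X, Y, Z, hdec, hXX, hYY, hZZ, hXY, hXZ, hYZ, ?_⟩
  intro b hb
  have hXb : ∀ i, X i b = 0 := by
    intro i
    simp only [hX]
    by_cases h : b = x i
    · exact absurd (hb i j₀) (by rw [h]; exact hx i j₀)
    · rw [Pi.single_eq_of_ne h]
  have hYb : ∀ j, Y j b = 0 := by
    intro j
    simp only [hY]
    by_cases h : b = y j
    · exact absurd (hb i₀ j) (by rw [h]; exact hy i₀ j)
    · rw [Pi.single_eq_of_ne h]
  refine ⟨hXb, hYb, ?_⟩
  intro i j
  simp only [hZ, Pi.sub_apply, hXb, hYb, hb]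
  ring

end grid

end Cfsg.Agent.Lib.Helper4.CycLat
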