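import Mathlib
import Cfsg.Agent.Lib.Helper4.CycLatF

set_option autoImplicit false

/-!
# The lattice theorem behind the existence of the cyclic TI isometry
-/

namespace Cfsg.Agent.Lib.Helper4.CycLat

open Finset

variable {B : Type*} [Fintype B] [DecidableEq B]

section grid

variable {I J : Type*} [DecidableEq I] [DecidableEq J] {β : I → J → B → ℤ}

theorem IsGrid.decomp_aux [Fintype I] [Fintype J] (hβ : IsGrid β)
    (hI : Fintype.card I = 2 ∨ 4 ≤ Fintype.card I) (hJ : 4 ≤ Fintype.card J) :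
    ∃ (X : I → B → ℤ) (Y : J → B → ℤ) (Z : I → J → B → ℤ),
      (∀ i j, β i j = X i + Y j + Z i j) ∧
      (∀ i k, ip (X i) (X k) = if i = k then 1 else 0) ∧
      (∀ j l, ip (Y j) (Y l) = if j = l then 1 else 0) ∧
      (∀ i j k l, ip (Z i j) (Z k l) = if i = k ∧ j = l then 1 else 0) ∧
      (∀ i j, ip (X i) (Y j) = 0) ∧ (∀ i k l, ip (X i) (Z k l) = 0) ∧
      (∀ j k l, ip (Y j) (Z k l) = 0) ∧
      (∀ b, (∀ i j, β i j b = 0) → (∀ i, X i b = 0) ∧ (∀ j, Y j b = 0) ∧ ∀ i j, Z i j b = 0) := by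
  have hI2 : 2 ≤ Fintype.card I := by omega
  have hoI : ∀ i : I, ∃ k, k ≠ i := fun i => Fintype.exists_ne_of_one_lt_card (by omega) i
  have hoJ : ∀ j : J, ∃ l, l ≠ j := fun j => Fintype.exists_ne_of_one_lt_card (by omega) j
  have hrow : ∀ i, ∃ b, ∀ j, β i j b ≠ 0 := by
    intro i
    obtain ⟨k, hk⟩ := hoI i
    exact hβ.row_common hk hJ
  choose x hx using hrow
  have hcol : ∀ j, ∃ b, ∀ i, β i j b ≠ 0 := by
    intro j
    obtain ⟨l, hl⟩ := hoJ j
    rcases hI with h2 | h4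
    · have h2' : Nat.card I = 2 := by rw [Nat.card_eq_fintype_card]; exact h2
      obtain ⟨i, k, hik, huniv⟩ := Nat.card_eq_two_iff.mp h2'
      obtain ⟨b, hb1, hb2⟩ := hβ.col_common hl hik
      refine ⟨b, fun i' => ?_⟩
      have : i' ∈ ({i, k} : Set I) := by rw [huniv]; exact Set.mem_univ _
      rcases this with rfl | h
      · exact hb1
      · rw [Set.mem_singleton_iff] at h
        rw [h]
        exact hb2
    · exact hβ.transpose.row_common hl h4
  choose y hy using hcol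
  exact hβ.decomp_of_centers hI2 hJ x hx y (fun i j => hy j i)

/-- **The lattice theorem.**  A grid of integer vectors with the Gram relations
`⟨β i j, β k l⟩ = δ_ik + δ_jl + δ_ik δ_jl`, whose numbers of rows and columns are `2` or at least
`4` and not both `2`, decomposes as `β i j = X i + Y j + Z i j` with `X`, `Y`, `Z` orthonormal. -/
theorem IsGrid.decomp [Fintype I] [Fintype J] (hβ : IsGrid β)
    (hI : Fintype.card I = 2 ∨ 4 ≤ Fintype.card I) (hJ : Fintype.card J = 2 ∨ 4 ≤ Fintype.card J)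
    (hne : ¬ (Fintype.card I = 2 ∧ Fintype.card J = 2)) :
    ∃ (X : I → B → ℤ) (Y : J → B → ℤ) (Z : I → J → B → ℤ),
      (∀ i j, β i j = X i + Y j + Z i j) ∧
      (∀ i k, ip (X i) (X k) = if i = k then 1 else 0) ∧
      (∀ j l, ip (Y j) (Y l) = if j = l then 1 else 0) ∧
      (∀ i j k l, ip (Z i j) (Z k l) = if i = k ∧ j = l then 1 else 0) ∧
      (∀ i j, ip (X i) (Y j) = 0) ∧ (∀ i k l, ip (X i) (Z k l) = 0) ∧
      (∀ j k l, ip (Y j) (Z k l) = 0) ∧
      (∀ b, (∀ i j, β i j b = 0) → (∀ i, X i b = 0) ∧ (∀ j, Y j b = 0) ∧ ∀ i j, Z i j b = 0) := by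
  rcases hJ with hJ2 | hJ4
  · have hI4 : 4 ≤ Fintype.card I := by
      rcases hI with h | h
      · exact absurd ⟨h, hJ2⟩ hne
      · exact h
    obtain ⟨X, Y, Z, h1, h2, h3, h4, h5, h6, h7, h8⟩ :=
      hβ.transpose.decomp_aux (Or.inl hJ2) hI4
    refine ⟨Y, X, fun i j => Z j i, ?_, h3, h2, ?_, ?_, fun i k l => h7 i l k, fun j k l => h6 j l k, ?_⟩
    · intro i j
      rw [h1 j i]
      abel
    · intro i j k l
      rw [h4 j i l k]
      by_cases e1 : i = k <;> by_cases e2 : j = l <;> simp [e1, e2]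
    · intro i j
      rw [ip_comm, h5]
    · intro b hb
      obtain ⟨g1, g2, g3⟩ := h8 b (fun j i => hb i j)
      exact ⟨g2, g1, fun i j => g3 j i⟩
  · exact hβ.decomp_aux hI hJ4

end grid

end Cfsg.Agent.Lib.Helper4.CycLat
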