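import Mathlib
import Cfsg.Prelude.Def_OddOrderChar
import Cfsg.Agent.Lib.helper3.Dade3
import Cfsg.Agent.Lib.helper3.CoprimeConj

set_option autoImplicit false
set_option linter.unusedSectionVars false
open Cfsg

/-!
# Group theory behind the expansion of the Dade map

For a nonempty finite set `B ⊆ A`: `HB B = ⋂ H b`, `NB B = N_L(B)`, `HB B ⋊ NB B`, the projection onto
`L`, and the count of the elements of a coprime coset conjugating into the centralizer coset.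
-/

namespace Cfsg.Agent.Lib.Helper4.Dade

open Cfsg.Agent.Lib.helper3.Dade

variable {G : Type*} [Group G] [Finite G] {A : Set G} {L : Subgroup G} {H : G → Subgroup G}

theorem H_inf_L (hD : DadeHypothesis A L H) {a u : G} (ha : a ∈ A) (hu : u ∈ H a)
    (huL : u ∈ L) : u = 1 := by
  have h1 : u ∈ H a ⊓ (L ⊓ Subgroup.centralizer ({a} : Set G)) :=
    ⟨hu, huL, hD.le_centralizer a ha hu⟩
  rw [hD.inf_eq_bot a ha] at h1
  exact Subgroup.mem_bot.mp h1

/-- A subgroup of `C_G(a)` of order prime to `|C_L(a)|` lies in `H a`. -/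
theorem hall_le (hD : DadeHypothesis A L H) {a : G} (ha : a ∈ A) (K : Subgroup G)
    (hKC : K ≤ Subgroup.centralizer ({a} : Set G))
    (hcop : Nat.Coprime (Nat.card K) (Nat.card ↥(L ⊓ Subgroup.centralizer ({a} : Set G)))) :
    K ≤ H a := by
  have hQN : (L ⊓ Subgroup.centralizer ({a} : Set G)) ≤
      Subgroup.normalizer ((H a : Subgroup G) : Set G) := by
    rw [Subgroup.le_normalizer_iff]
    intro q hq n hn
    exact hD.conj_mem_H a ha q hq.2 n hn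
  intro k hk
  have hkC := hKC hk
  rw [← hD.sup_eq a ha] at hkC
  have hk2 : k ∈ (↑(H a ⊔ (L ⊓ Subgroup.centralizer ({a} : Set G))) : Set G) := hkC
  rw [Subgroup.coe_mul_of_right_le_normalizer_left _ _ hQN] at hk2
  obtain ⟨n, hn, q, hq, hnq⟩ := hk2
  have hnq' : n * q = k := hnq
  subst hnq'
  have hq1 : q = 1 := by
    have h1 := Cfsg.Agent.Lib.helper3.CoprimeConj.zpow_congr (H a) q (n * q) (hQN hq)
      (by simpa using hn) (Nat.card K)
    have h2 : (n * q) ^ (Nat.card K) = 1 := by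
      have : (⟨n * q, hk⟩ : K) ^ (Nat.card K) = 1 := pow_card_eq_one'
      have h := congrArg Subtype.val this
      rw [Subgroup.coe_pow, Subgroup.coe_one] at h
      exact h
    rw [zpow_natCast, zpow_natCast, h2, one_mul] at h1
    have h3 : q ^ (Nat.card K) ∈ H a := by
      have := (H a).inv_mem h1
      rwa [inv_inv] at this
    have h4 : q ^ (Nat.card K) ∈ L ⊓ Subgroup.centralizer ({a} : Set G) :=
      Subgroup.pow_mem _ hq _
    have h5 : q ^ (Nat.card K) = 1 := by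
      have : q ^ (Nat.card K) ∈ H a ⊓ (L ⊓ Subgroup.centralizer ({a} : Set G)) := ⟨h3, h4⟩
      rw [hD.inf_eq_bot a ha] at this
      exact Subgroup.mem_bot.mp this
    have h6 : q ^ (Nat.card ↥(L ⊓ Subgroup.centralizer ({a} : Set G))) = 1 := by
      have : (⟨q, hq⟩ : ↥(L ⊓ Subgroup.centralizer ({a} : Set G))) ^
          (Nat.card ↥(L ⊓ Subgroup.centralizer ({a} : Set G))) = 1 := pow_card_eq_one'
      have h := congrArg Subtype.val this
      rw [Subgroup.coe_pow, Subgroup.coe_one] at h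
      exact h
    have h7 : orderOf q ∣ Nat.gcd (Nat.card K)
        (Nat.card ↥(L ⊓ Subgroup.centralizer ({a} : Set G))) :=
      Nat.dvd_gcd (orderOf_dvd_of_pow_eq_one h5) (orderOf_dvd_of_pow_eq_one h6)
    rw [Nat.Coprime.gcd_eq_one hcop] at h7
    exact orderOf_eq_one_iff.mp (Nat.dvd_one.mp h7)
  rw [hq1, mul_one]; exact hn

theorem H_inf_centralizer_le (hD : DadeHypothesis A L H) {a b : G} (ha : a ∈ A) (hb : b ∈ A) :
    H b ⊓ Subgroup.centralizer ({a} : Set G) ≤ H a := by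
  apply hall_le hD ha _ inf_le_right
  have h1 : Nat.card ↥(H b ⊓ Subgroup.centralizer ({a} : Set G)) ∣ Nat.card (H b) :=
    Subgroup.card_dvd_of_le inf_le_left
  exact Nat.Coprime.coprime_dvd_left h1 (hD.coprime b hb a ha)

/-- `H(B) = ⋂_{b ∈ B} H b`. -/
def HB (H : G → Subgroup G) (B : Finset G) : Subgroup G := ⨅ b ∈ B, H b

theorem mem_HB {B : Finset G} {u : G} : u ∈ HB H B ↔ ∀ b ∈ B, u ∈ H b := by
  unfold HB
  simp [Subgroup.mem_iInf]

/-- `N_L(B)`. -/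
def NB (L : Subgroup G) (B : Finset G) : Subgroup G := L ⊓ Subgroup.normalizer ((B : Set G))

theorem mem_NB {B : Finset G} {l : G} :
    l ∈ NB L B ↔ l ∈ L ∧ ∀ x, x ∈ B ↔ l * x * l⁻¹ ∈ B := by
  unfold NB
  rw [Subgroup.mem_inf, Subgroup.mem_set_normalizer_iff]
  simp

theorem HB_le {B : Finset G} {b : G} (hb : b ∈ B) : HB H B ≤ H b := fun _ hu => mem_HB.mp hu b hb

theorem HB_inf_centralizer_le (hD : DadeHypothesis A L H) {B : Finset G} (hBA : ∀ b ∈ B, b ∈ A)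
    (hne : B.Nonempty) {a : G} (ha : a ∈ A) :
    HB H B ⊓ Subgroup.centralizer ({a} : Set G) ≤ H a := by
  obtain ⟨b, hb⟩ := hne
  exact le_trans (inf_le_inf_right _ (HB_le hb)) (H_inf_centralizer_le hD ha (hBA b hb))

theorem NB_le_normalizer_HB (hD : DadeHypothesis A L H) {B : Finset G} (hBA : ∀ b ∈ B, b ∈ A) :
    NB L B ≤ Subgroup.normalizer ((HB H B : Subgroup G) : Set G) := by
  rw [Subgroup.le_normalizer_iff]
  intro l hl u hu
  rw [mem_HB] at hu ⊢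
  intro b' hb'
  obtain ⟨hlL, hlN⟩ := mem_NB.mp hl
  have e : l * (l⁻¹ * b' * l) * l⁻¹ = b' := by group
  have hb : l⁻¹ * b' * l ∈ B := by
    rw [hlN (l⁻¹ * b' * l), e]
    exact hb'
  have := mem_H_conj hD (hBA _ hb) hlL (hu _ hb)
  rwa [e] at this

theorem HB_inf_L (hD : DadeHypothesis A L H) {B : Finset G} (hBA : ∀ b ∈ B, b ∈ A)
    (hne : B.Nonempty) {u : G} (hu : u ∈ HB H B) (huL : u ∈ L) : u = 1 := by
  obtain ⟨b, hb⟩ := hne
  exact H_inf_L hD (hBA b hb) (HB_le hb hu) huL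

theorem mem_MB_iff (hD : DadeHypothesis A L H) {B : Finset G} (hBA : ∀ b ∈ B, b ∈ A) {m : G} :
    m ∈ HB H B ⊔ NB L B ↔ ∃ h ∈ HB H B, ∃ n ∈ NB L B, m = h * n := by
  have key := Subgroup.coe_mul_of_right_le_normalizer_left (HB H B) (NB L B)
    (NB_le_normalizer_HB hD hBA)
  constructor
  · intro hm
    have hm' : m ∈ (↑(HB H B ⊔ NB L B) : Set G) := hm
    rw [key] at hm'
    obtain ⟨h, hh, n, hn, e⟩ := hm'
    exact ⟨h, hh, n, hn, e.symm⟩
  · rintro ⟨h, hh, n, hn, rfl⟩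
    exact Subgroup.mul_mem _ (Subgroup.mem_sup_left hh) (Subgroup.mem_sup_right hn)

theorem decomp_unique (hD : DadeHypothesis A L H) {B : Finset G} (hBA : ∀ b ∈ B, b ∈ A)
    (hne : B.Nonempty) {h h' n n' : G} (hh : h ∈ HB H B) (hh' : h' ∈ HB H B)
    (hn : n ∈ NB L B) (hn' : n' ∈ NB L B) (e : h * n = h' * n') : h = h' ∧ n = n' := by
  have h1 : h'⁻¹ * h = n' * n⁻¹ := by
    calc h'⁻¹ * h = h'⁻¹ * (h * n) * n⁻¹ := by group
      _ = h'⁻¹ * (h' * n') * n⁻¹ := by rw [e]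
      _ = n' * n⁻¹ := by group
  have h2 : h'⁻¹ * h ∈ HB H B := mul_mem (inv_mem hh') hh
  have h3 : h'⁻¹ * h ∈ L := by
    rw [h1]; exact L.mul_mem (mem_NB.mp hn').1 (L.inv_mem (mem_NB.mp hn).1)
  have h4 := HB_inf_L hD hBA hne h2 h3
  have h5 : h' = h := inv_mul_eq_one.mp h4
  refine ⟨h5.symm, ?_⟩
  rw [h5] at e
  exact mul_left_cancel e

theorem exists_proj (hD : DadeHypothesis A L H) {B : Finset G} (hBA : ∀ b ∈ B, b ∈ A)
    (m : ↥(HB H B ⊔ NB L B)) :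
    ∃ n : ↥L, (n : G) ∈ NB L B ∧ (m : G) * (n : G)⁻¹ ∈ HB H B := by
  obtain ⟨h, hh, n, hn, e⟩ := (mem_MB_iff hD hBA).mp m.2
  refine ⟨⟨n, (mem_NB.mp hn).1⟩, hn, ?_⟩
  rw [e]
  simpa using hh

theorem proj_unique (hD : DadeHypothesis A L H) {B : Finset G} (hBA : ∀ b ∈ B, b ∈ A)
    (hne : B.Nonempty) (m : ↥(HB H B ⊔ NB L B)) {n n' : ↥L}
    (hn : (n : G) ∈ NB L B ∧ (m : G) * (n : G)⁻¹ ∈ HB H B)
    (hn' : (n' : G) ∈ NB L B ∧ (m : G) * (n' : G)⁻¹ ∈ HB H B) : n = n' := by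
  have e : ((m : G) * (n : G)⁻¹) * (n : G) = ((m : G) * (n' : G)⁻¹) * (n' : G) := by group
  exact Subtype.ext (decomp_unique hD hBA hne hn.2 hn'.2 hn.1 hn'.1 e).2

/-- The projection of `H(B) ⋊ N_L(B)` onto its second factor, as a map into `L`. -/
noncomputable def proj (hD : DadeHypothesis A L H) {B : Finset G} (hBA : ∀ b ∈ B, b ∈ A)
    (hne : B.Nonempty) : ↥(HB H B ⊔ NB L B) →* ↥L :=
  MonoidHom.mk' (fun m => Classical.choose (exists_proj hD hBA m)) (by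
    intro m m'
    have h1 := Classical.choose_spec (exists_proj hD hBA m)
    have h2 := Classical.choose_spec (exists_proj hD hBA m')
    have h3 := Classical.choose_spec (exists_proj hD hBA (m * m'))
    apply proj_unique hD hBA hne (m * m') h3
    set n₁ := Classical.choose (exists_proj hD hBA m)
    set n₂ := Classical.choose (exists_proj hD hBA m')
    refine ⟨?_, ?_⟩
    · rw [Subgroup.coe_mul]; exact mul_mem h1.1 h2.1
    · have hnorm := NB_le_normalizer_HB (H := H) hD hBA h1.1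
      have h4 : (n₁ : G) * ((m' : G) * (n₂ : G)⁻¹) * (n₁ : G)⁻¹ ∈ HB H B :=
        (Subgroup.mem_normalizer_iff.mp hnorm _).mp h2.2
      have e : ((m * m' : ↥(HB H B ⊔ NB L B)) : G) * ((n₁ * n₂ : ↥L) : G)⁻¹ =
          ((m : G) * (n₁ : G)⁻¹) * ((n₁ : G) * ((m' : G) * (n₂ : G)⁻¹) * (n₁ : G)⁻¹) := by
        rw [Subgroup.coe_mul, Subgroup.coe_mul]; group
      rw [e]
      exact mul_mem h1.2 h4)

theorem proj_spec (hD : DadeHypothesis A L H) {B : Finset G} (hBA : ∀ b ∈ B, b ∈ A)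
    (hne : B.Nonempty) (m : ↥(HB H B ⊔ NB L B)) :
    ((proj hD hBA hne m : ↥L) : G) ∈ NB L B ∧
      (m : G) * ((proj hD hBA hne m : ↥L) : G)⁻¹ ∈ HB H B :=
  Classical.choose_spec (exists_proj hD hBA m)

theorem proj_eq (hD : DadeHypothesis A L H) {B : Finset G} (hBA : ∀ b ∈ B, b ∈ A)
    (hne : B.Nonempty) {h n : G} (hh : h ∈ HB H B) (hn : n ∈ NB L B)
    (hm : h * n ∈ HB H B ⊔ NB L B) :
    ((proj hD hBA hne ⟨h * n, hm⟩ : ↥L) : G) = n := by
  have h1 := proj_spec hD hBA hne ⟨h * n, hm⟩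
  have : proj hD hBA hne ⟨h * n, hm⟩ = ⟨n, (mem_NB.mp hn).1⟩ := by
    apply proj_unique hD hBA hne ⟨h * n, hm⟩ h1
    refine ⟨hn, ?_⟩
    simpa using hh
  rw [this]

theorem card_MB (hD : DadeHypothesis A L H) {B : Finset G} (hBA : ∀ b ∈ B, b ∈ A)
    (hne : B.Nonempty) :
    Nat.card ↥(HB H B ⊔ NB L B) = Nat.card (HB H B) * Nat.card (NB L B) := by
  rw [← Nat.card_prod]
  symm
  apply Nat.card_congr
  refine Equiv.ofBijective (fun p : ↥(HB H B) × ↥(NB L B) =>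
    (⟨(p.1 : G) * (p.2 : G), Subgroup.mul_mem _ (Subgroup.mem_sup_left p.1.2)
      (Subgroup.mem_sup_right p.2.2)⟩ : ↥(HB H B ⊔ NB L B))) ⟨?_, ?_⟩
  · rintro ⟨⟨h, hh⟩, ⟨n, hn⟩⟩ ⟨⟨h', hh'⟩, ⟨n', hn'⟩⟩ e
    have e' : h * n = h' * n' := congrArg Subtype.val e
    obtain ⟨e1, e2⟩ := decomp_unique hD hBA hne hh hh' hn hn' e'
    subst e1; subst e2; rfl
  · rintro ⟨m, hm⟩
    obtain ⟨h, hh, n, hn, e⟩ := (mem_MB_iff hD hBA).mp hm
    exact ⟨(⟨h, hh⟩, ⟨n, hn⟩), Subtype.ext e.symm⟩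

/-- In a coset `K n` with `n` normalising `K` and of order prime to `|K|`, the elements of `K`
conjugating a given element of the coset into `n C_K(n)` form a coset of `C_K(n)`. -/
theorem card_conj_into_cent_coset (K : Subgroup G) (n : G)
    (hn : n ∈ Subgroup.normalizer ((K : Subgroup G) : Set G))
    (hcop : Nat.Coprime (orderOf n) (Nat.card K)) (h₀ : G) (hh₀ : h₀ ∈ K) :
    Nat.card {h : G // h ∈ K ∧
        n⁻¹ * (h⁻¹ * (h₀ * n) * h) ∈ K ⊓ Subgroup.centralizer ({n} : Set G)} =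
      Nat.card ↥(K ⊓ Subgroup.centralizer ({n} : Set G)) := by
  obtain ⟨x₀, hx₀, c₀, hc₀, hc₀n, hx₀c⟩ :=
    Cfsg.Agent.Lib.helper3.CoprimeConj.exists_conj_eq_cent_mul K n hn hcop h₀ hh₀
  have hbez : (1 : ℤ) = (orderOf n : ℤ) * Nat.gcdA (orderOf n) (Nat.card K) +
      (Nat.card K : ℤ) * Nat.gcdB (orderOf n) (Nat.card K) := by
    have := Nat.gcd_eq_gcd_ab (orderOf n) (Nat.card K)
    rw [Nat.Coprime.gcd_eq_one hcop] at this
    exact_mod_cast this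
  have hpowK : ∀ c ∈ K, c ^ Nat.card K = 1 := by
    intro c hc
    have : (⟨c, hc⟩ : K) ^ (Nat.card K) = 1 := pow_card_eq_one'
    have h := congrArg Subtype.val this
    rw [Subgroup.coe_pow, Subgroup.coe_one] at h
    exact h
  -- the power trick: `(n c) ^ e = n` for `c ∈ C_K(n)`
  have hpow : ∀ c ∈ K, n * c = c * n →
      (n * c) ^ ((Nat.card K : ℤ) * Nat.gcdB (orderOf n) (Nat.card K)) = n := by
    intro c hc hcn
    exact power_trick n c (orderOf n) (Nat.card K) _ _ hcn (pow_orderOf_eq_one n) (hpowK c hc) hbez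
  have hmemC : ∀ k : G, k ∈ K ⊓ Subgroup.centralizer ({n} : Set G) ↔ k ∈ K ∧ n * k = k * n := by
    intro k
    rw [Subgroup.mem_inf, mem_centralizer_singleton]
  have hconj : ∀ h : G, h⁻¹ * (h₀ * n) * h = (x₀ * h)⁻¹ * (c₀ * n) * (x₀ * h) := by
    intro h
    rw [← hx₀c]; group
  have hc₀' : Commute n c₀ := hc₀n.symm
  have hmem : ∀ k : ↥(K ⊓ Subgroup.centralizer ({n} : Set G)),
      x₀⁻¹ * (k : G) ∈ K ∧ n⁻¹ * ((x₀⁻¹ * (k : G))⁻¹ * (h₀ * n) * (x₀⁻¹ * (k : G))) ∈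
        K ⊓ Subgroup.centralizer ({n} : Set G) := by
    rintro ⟨k, hk⟩
    obtain ⟨hkK, hkn⟩ := (hmemC k).mp hk
    have hkn' : Commute n k := hkn
    refine ⟨K.mul_mem (K.inv_mem hx₀) hkK, ?_⟩
    show n⁻¹ * ((x₀⁻¹ * k)⁻¹ * (h₀ * n) * (x₀⁻¹ * k)) ∈ _
    rw [hconj]
    have e1 : x₀ * (x₀⁻¹ * k) = k := by group
    rw [e1]
    have hd : Commute n (k⁻¹ * c₀ * k) := (hkn'.inv_right.mul_right hc₀').mul_right hkn'
    have e2 : k⁻¹ * (c₀ * n) * k = (k⁻¹ * c₀ * k) * n := by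
      calc k⁻¹ * (c₀ * n) * k = k⁻¹ * c₀ * (n * k) := by group
        _ = k⁻¹ * c₀ * (k * n) := by rw [hkn'.eq]
        _ = (k⁻¹ * c₀ * k) * n := by group
    have e3 : n⁻¹ * (k⁻¹ * (c₀ * n) * k) = k⁻¹ * c₀ * k := by
      rw [e2, ← hd.eq]; group
    rw [e3, hmemC]
    exact ⟨K.mul_mem (K.mul_mem (K.inv_mem hkK) hc₀) hkK, hd.eq⟩
  symm
  apply Nat.card_congr
  refine Equiv.ofBijective (fun k : ↥(K ⊓ Subgroup.centralizer ({n} : Set G)) =>
    (⟨x₀⁻¹ * (k : G), hmem k⟩ : {h : G // h ∈ K ∧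
        n⁻¹ * (h⁻¹ * (h₀ * n) * h) ∈ K ⊓ Subgroup.centralizer ({n} : Set G)})) ⟨?_, ?_⟩
  · rintro ⟨k, hk⟩ ⟨k', hk'⟩ e
    have e' : x₀⁻¹ * k = x₀⁻¹ * k' := congrArg Subtype.val e
    exact Subtype.ext (mul_left_cancel e')
  · rintro ⟨h, hhK, hh⟩
    obtain ⟨hcK, hcn⟩ := (hmemC _).mp hh
    set c' := n⁻¹ * (h⁻¹ * (h₀ * n) * h) with hc'
    set k := x₀ * h with hk
    have hkK : k ∈ K := K.mul_mem hx₀ hhK
    have e1 : k⁻¹ * (n * c₀) * k = n * c' := by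
      rw [hc', hconj, ← hk, hc₀'.eq]; group
    have e2 : k⁻¹ * n * k = n := by
      have h1 := hpow c₀ hc₀ hc₀'.eq
      have h2 := hpow c' hcK hcn
      have h3 := conj_zpow (a := k⁻¹) (b := n * c₀)
        (i := (Nat.card K : ℤ) * Nat.gcdB (orderOf n) (Nat.card K))
      rw [inv_inv, e1, h2, h1] at h3
      exact h3.symm
    have hkn : n * k = k * n := by
      calc n * k = k * (k⁻¹ * n * k) := by group
        _ = k * n := by rw [e2]
    refine ⟨⟨k, (hmemC k).mpr ⟨hkK, hkn⟩⟩, ?_⟩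
    apply Subtype.ext
    show x₀⁻¹ * k = h
    rw [hk]; group

end Cfsg.Agent.Lib.Helper4.Dade
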