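import Mathlib
import Cfsg.Agent.Lib.Helper4.DadeA
import Cfsg.Agent.Lib.helper3.IndFun

set_option autoImplicit false
set_option linter.unusedSectionVars false
open Cfsg

/-!
# The inflated function on `H(B) ⋊ N_L(B)` and its centralizer-coset weights
-/

namespace Cfsg.Agent.Lib.Helper4.Dade

open Cfsg.Agent.Lib.helper3.Dade Cfsg.Agent.Lib.helper3.IndFun

variable {G : Type*} [Group G] [Fintype G] {A : Set G} {L : Subgroup G} {H : G → Subgroup G}

/-- The function `α ∘ proj` on `H(B) ⋊ N_L(B)`. -/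
noncomputable def alphaB (hD : DadeHypothesis A L H) (α : ↥L → ℂ) {B : Finset G}
    (hBA : ∀ b ∈ B, b ∈ A) (hne : B.Nonempty) : ↥(HB H B ⊔ NB L B) → ℂ :=
  fun m => α (proj hD hBA hne m)

/-- Its extension by zero to `G`. -/
noncomputable def phiB (hD : DadeHypothesis A L H) (α : ↥L → ℂ) {B : Finset G}
    (hBA : ∀ b ∈ B, b ∈ A) (hne : B.Nonempty) : G → ℂ :=
  extendByZero (HB H B ⊔ NB L B) (alphaB hD α hBA hne)

theorem phiB_mul (hD : DadeHypothesis A L H) (α : ↥L → ℂ) {B : Finset G}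
    (hBA : ∀ b ∈ B, b ∈ A) (hne : B.Nonempty) {h n : G} (hh : h ∈ HB H B) (hn : n ∈ NB L B) :
    phiB hD α hBA hne (h * n) = extendByZero L α n := by
  have hm : h * n ∈ HB H B ⊔ NB L B :=
    Subgroup.mul_mem _ (Subgroup.mem_sup_left hh) (Subgroup.mem_sup_right hn)
  unfold phiB alphaB
  rw [extendByZero_mem _ _ hm, extendByZero_mem L α (mem_NB.mp hn).1]
  congr 1
  exact Subtype.ext (proj_eq hD hBA hne hh hn hm)

theorem phiB_not_mem (hD : DadeHypothesis A L H) (α : ↥L → ℂ) {B : Finset G}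
    (hBA : ∀ b ∈ B, b ∈ A) (hne : B.Nonempty) {m : G} (hm : m ∉ HB H B ⊔ NB L B) :
    phiB hD α hBA hne m = 0 :=
  extendByZero_not_mem _ _ hm

open Classical in
/-- The weight of the base point `a` at `m` relative to `B`. -/
noncomputable def wB (A : Set G) (L : Subgroup G) (H : G → Subgroup G) (α : ↥L → ℂ)
    (B : Finset G) (m a : G) : ℂ :=
  if (a ∈ A ∧ a ∈ NB L B ∧ a⁻¹ * m ∈ HB H B ∧ a⁻¹ * m ∈ H a) then
    extendByZero L α a / (Nat.card ↥(HB H B ⊓ H a) : ℂ) else 0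

theorem wB_ne_zero {α : ↥L → ℂ} {B : Finset G} {m a : G} (h : wB A L H α B m a ≠ 0) :
    a ∈ A ∧ a ∈ NB L B ∧ a⁻¹ * m ∈ HB H B ∧ a⁻¹ * m ∈ H a := by
  classical
  by_contra hc
  apply h
  unfold wB
  rw [if_neg hc]

theorem HB_inf_H_eq (hD : DadeHypothesis A L H) {B : Finset G} (hBA : ∀ b ∈ B, b ∈ A)
    (hne : B.Nonempty) {a : G} (ha : a ∈ A) :
    HB H B ⊓ H a = HB H B ⊓ Subgroup.centralizer ({a} : Set G) := by
  apply le_antisymm
  · exact inf_le_inf_left _ (hD.le_centralizer a ha)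
  · exact le_inf inf_le_left (HB_inf_centralizer_le hD hBA hne ha)

theorem conj_decomp (hD : DadeHypothesis A L H) {B : Finset G} (hBA : ∀ b ∈ B, b ∈ A)
    {h a c : G} (hh : h ∈ HB H B) (ha : a ∈ NB L B) (hc : c ∈ HB H B) :
    ∃ h' ∈ HB H B, h * (a * c) * h⁻¹ = h' * a := by
  have hnorm := NB_le_normalizer_HB (H := H) hD hBA ha
  have h1 : a * c * a⁻¹ ∈ HB H B := (Subgroup.mem_normalizer_iff.mp hnorm _).mp hc
  have h2 : a * h⁻¹ * a⁻¹ ∈ HB H B :=
    (Subgroup.mem_normalizer_iff.mp hnorm _).mp ((HB H B).inv_mem hh)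
  refine ⟨h * (a * c * a⁻¹) * (a * h⁻¹ * a⁻¹), (HB H B).mul_mem ((HB H B).mul_mem hh h1) h2, ?_⟩
  group

theorem coprime_orderOf_card_HB (hD : DadeHypothesis A L H) {B : Finset G}
    (hBA : ∀ b ∈ B, b ∈ A) (hne : B.Nonempty) {a : G} (ha : a ∈ A) :
    Nat.Coprime (orderOf a) (Nat.card (HB H B)) := by
  obtain ⟨b, hb⟩ := hne
  have h1 : Nat.card (HB H B) ∣ Nat.card (H b) := Subgroup.card_dvd_of_le (HB_le hb)
  exact Nat.Coprime.coprime_dvd_right h1 (coprime_order hD ha (hBA b hb))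

open Classical in
/-- Summing the centralizer-coset weights over the `H(B)`-conjugates recovers the inflated
function. -/
theorem sum_wB_conj (hD : DadeHypothesis A L H) (α : ↥L → ℂ)
    (hαA : ∀ x : ↥L, (x : G) ∉ A → α x = 0) {B : Finset G} (hBA : ∀ b ∈ B, b ∈ A)
    (hne : B.Nonempty) (m : G) :
    ∑ h : G, (if h ∈ HB H B then ∑ a : G, wB A L H α B (h⁻¹ * m * h) a else 0) =
      phiB hD α hBA hne m := by
  classical
  -- a nonzero weight forces `m ∈ H(B) a`
  have key : ∀ h ∈ HB H B, ∀ a : G, wB A L H α B (h⁻¹ * m * h) a ≠ 0 →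
      ∃ h' ∈ HB H B, m = h' * a ∧ a ∈ NB L B := by
    intro h hh a hw
    obtain ⟨_, haN, hc, _⟩ := wB_ne_zero hw
    obtain ⟨h', hh', e⟩ := conj_decomp hD hBA hh haN hc
    refine ⟨h', hh', ?_, haN⟩
    rw [← e]; group
  by_cases hm : m ∈ HB H B ⊔ NB L B
  · obtain ⟨h₀, hh₀, n₀, hn₀, rfl⟩ := (mem_MB_iff hD hBA).mp hm
    rw [phiB_mul hD α hBA hne hh₀ hn₀]
    have hn₀L : n₀ ∈ L := (mem_NB.mp hn₀).1
    -- only `a = n₀` contributes
    have hsingle : ∀ h : G, (if h ∈ HB H B then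
        ∑ a : G, wB A L H α B (h⁻¹ * (h₀ * n₀) * h) a else 0) =
        (if h ∈ HB H B then wB A L H α B (h⁻¹ * (h₀ * n₀) * h) n₀ else 0) := by
      intro h
      by_cases hh : h ∈ HB H B
      · rw [if_pos hh, if_pos hh]
        apply Finset.sum_eq_single n₀
        · intro a _ han
          by_contra hw
          obtain ⟨h', hh', e, haN⟩ := key h hh a hw
          exact han (decomp_unique hD hBA hne hh₀ hh' hn₀ haN e).2.symm
        · intro h'; exact absurd (Finset.mem_univ _) h'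
      · rw [if_neg hh, if_neg hh]
    rw [Finset.sum_congr rfl (fun h _ => hsingle h)]
    by_cases hn₀A : n₀ ∈ A
    · -- count via `card_conj_into_cent_coset`
      have hnorm := NB_le_normalizer_HB (H := H) hD hBA hn₀
      have hcop := coprime_orderOf_card_HB hD hBA hne hn₀A
      have hcnt := card_conj_into_cent_coset (HB H B) n₀ hnorm hcop h₀ hh₀
      have heq := HB_inf_H_eq hD hBA hne hn₀A
      set c : ℂ := extendByZero L α n₀ / (Nat.card ↥(HB H B ⊓ H n₀) : ℂ) with hc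
      have hw : ∀ h : G, wB A L H α B (h⁻¹ * (h₀ * n₀) * h) n₀ =
          (if n₀⁻¹ * (h⁻¹ * (h₀ * n₀) * h) ∈
            HB H B ⊓ Subgroup.centralizer ({n₀} : Set G) then c else 0) := by
        intro h
        unfold wB
        by_cases hP : n₀⁻¹ * (h⁻¹ * (h₀ * n₀) * h) ∈
            HB H B ⊓ Subgroup.centralizer ({n₀} : Set G)
        · have hP' := hP
          rw [← heq] at hP'
          have hQ : n₀ ∈ A ∧ n₀ ∈ NB L B ∧ n₀⁻¹ * (h⁻¹ * (h₀ * n₀) * h) ∈ HB H B ∧
              n₀⁻¹ * (h⁻¹ * (h₀ * n₀) * h) ∈ H n₀ := ⟨hn₀A, hn₀, hP'.1, hP'.2⟩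
          rw [if_pos hP, if_pos hQ]
        · have hQ : ¬ (n₀ ∈ A ∧ n₀ ∈ NB L B ∧ n₀⁻¹ * (h⁻¹ * (h₀ * n₀) * h) ∈ HB H B ∧
              n₀⁻¹ * (h⁻¹ * (h₀ * n₀) * h) ∈ H n₀) := by
            rintro ⟨_, _, h1, h2⟩
            apply hP
            rw [← heq]
            exact ⟨h1, h2⟩
          rw [if_neg hP, if_neg hQ]
      have hterm : ∀ h : G, (if h ∈ HB H B then
          wB A L H α B (h⁻¹ * (h₀ * n₀) * h) n₀ else 0) =
          (if (h ∈ HB H B ∧ n₀⁻¹ * (h⁻¹ * (h₀ * n₀) * h) ∈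
            HB H B ⊓ Subgroup.centralizer ({n₀} : Set G)) then c else 0) := by
        intro h
        rw [hw h]
        by_cases hh : h ∈ HB H B
        · simp only [hh, true_and, if_true]
        · simp only [hh, false_and, if_false]
      rw [Finset.sum_congr rfl (fun h _ => hterm h), ← Finset.sum_filter, Finset.sum_const,
        nsmul_eq_mul]
      have hcard : (Finset.univ.filter (fun h : G => h ∈ HB H B ∧
          n₀⁻¹ * (h⁻¹ * (h₀ * n₀) * h) ∈ HB H B ⊓ Subgroup.centralizer ({n₀} : Set G))).card =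
          Nat.card ↥(HB H B ⊓ H n₀) := by
        rw [heq, ← hcnt]
        symm
        apply Nat.subtype_card
        intro x
        simp
      rw [hcard, hc]
      have hne0 : (Nat.card ↥(HB H B ⊓ H n₀) : ℂ) ≠ 0 := card_ne_zero_complex _
      field_simp
    · -- `n₀ ∉ A`: both sides vanish
      have h0 : extendByZero L α n₀ = 0 := by
        rw [extendByZero_mem L α hn₀L]
        exact hαA ⟨n₀, hn₀L⟩ hn₀A
      rw [h0]
      apply Finset.sum_eq_zero
      intro h _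
      split_ifs with hh
      · unfold wB
        rw [if_neg (fun h' => hn₀A h'.1)]
      · rfl
  · rw [phiB_not_mem hD α hBA hne hm]
    apply Finset.sum_eq_zero
    intro h _
    split_ifs with hh
    · apply Finset.sum_eq_zero
      intro a _
      by_contra hw
      obtain ⟨h', hh', e, haN⟩ := key h hh a hw
      apply hm
      rw [e]
      exact Subgroup.mul_mem _ (Subgroup.mem_sup_left hh') (Subgroup.mem_sup_right haN)
    · rfl

end Cfsg.Agent.Lib.Helper4.Dade
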