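import Mathlib
import Cfsg.Agent.Lib.Helper4.DadeB

set_option autoImplicit false
set_option linter.unusedSectionVars false
open Cfsg

/-!
# The inclusion–exclusion over the nonempty subsets `B ⊆ A`
-/

namespace Cfsg.Agent.Lib.Helper4.Dade

open Cfsg.Agent.Lib.helper3.Dade Cfsg.Agent.Lib.helper3.IndFun

variable {G : Type*} [Group G] [Fintype G] {A : Set G} {L : Subgroup G} {H : G → Subgroup G}

open Classical in
/-- The nonempty subsets of `A`. -/
noncomputable def famP (A : Set G) : Finset (Finset G) :=
  ((Finset.univ.filter (fun x : G => x ∈ A)).powerset).filter (fun B => B.Nonempty)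

theorem mem_famP {B : Finset G} : B ∈ famP A ↔ (∀ b ∈ B, b ∈ A) ∧ B.Nonempty := by
  classical
  unfold famP
  rw [Finset.mem_filter, Finset.mem_powerset]
  constructor
  · rintro ⟨h1, h2⟩
    refine ⟨fun b hb => ?_, h2⟩
    have := h1 hb
    simpa using this
  · rintro ⟨h1, h2⟩
    refine ⟨fun b hb => ?_, h2⟩
    simpa using h1 b hb

/-- The sign `(-1)^{|B|+1}`. -/
noncomputable def sgn (B : Finset G) : ℂ := (-1) ^ (B.card + 1)

open Classical in
theorem HB_insert (a : G) (B : Finset G) : HB H (insert a B) = H a ⊓ HB H B := by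
  ext u
  rw [Subgroup.mem_inf, mem_HB, mem_HB]
  constructor
  · intro h
    exact ⟨h a (Finset.mem_insert_self a B), fun b hb => h b (Finset.mem_insert_of_mem hb)⟩
  · rintro ⟨h1, h2⟩ b hb
    rcases Finset.mem_insert.mp hb with rfl | hb
    · exact h1
    · exact h2 b hb

theorem HB_singleton (a : G) : HB H ({a} : Finset G) = H a := by
  ext u
  rw [mem_HB]
  constructor
  · intro h; exact h a (Finset.mem_singleton_self a)
  · intro h b hb
    rw [Finset.mem_singleton] at hb
    rw [hb]; exact h

open Classical in
theorem mem_NB_insert {a : G} {B : Finset G} (haB : a ∉ B) :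
    a ∈ NB L (insert a B) ↔ a ∈ NB L B := by
  rw [mem_NB, mem_NB]
  have hconj : ∀ x : G, a * x * a⁻¹ = a ↔ x = a := by
    intro x
    constructor
    · intro h
      have : x = a⁻¹ * (a * x * a⁻¹) * a := by group
      rw [this, h]; group
    · intro h; rw [h]; group
  constructor
  · rintro ⟨hL, hN⟩
    refine ⟨hL, fun x => ?_⟩
    by_cases hx : x = a
    · subst hx
      have : x * x * x⁻¹ = x := by group
      rw [this]
    · have := hN x
      rw [Finset.mem_insert, Finset.mem_insert, hconj x] at this
      constructor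
      · intro hxB
        rcases this.mp (Or.inr hxB) with h | h
        · exact absurd h hx
        · exact h
      · intro hxB
        rcases this.mpr (Or.inr hxB) with h | h
        · exact absurd h hx
        · exact h
  · rintro ⟨hL, hN⟩
    refine ⟨hL, fun x => ?_⟩
    rw [Finset.mem_insert, Finset.mem_insert, hconj x, hN x]

open Classical in
theorem wB_insert (α : ↥L → ℂ) {a : G} {B : Finset G} (haB : a ∉ B) (m : G) :
    wB A L H α (insert a B) m a = wB A L H α B m a := by
  unfold wB
  have hsub : HB H (insert a B) ⊓ H a = HB H B ⊓ H a := by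
    rw [HB_insert, inf_comm (H a), inf_assoc, inf_idem]
  have hiff : (a ∈ A ∧ a ∈ NB L (insert a B) ∧ a⁻¹ * m ∈ HB H (insert a B) ∧ a⁻¹ * m ∈ H a) ↔
      (a ∈ A ∧ a ∈ NB L B ∧ a⁻¹ * m ∈ HB H B ∧ a⁻¹ * m ∈ H a) := by
    rw [mem_NB_insert haB, HB_insert, Subgroup.mem_inf]
    tauto
  by_cases hc : (a ∈ A ∧ a ∈ NB L B ∧ a⁻¹ * m ∈ HB H B ∧ a⁻¹ * m ∈ H a)
  · rw [if_pos hc, if_pos (hiff.mpr hc), hsub]
  · rw [if_neg hc, if_neg (fun h => hc (hiff.mp h))]

open Classical in
theorem sgn_insert {a : G} {B : Finset G} (haB : a ∉ B) : sgn (insert a B) = - sgn B := by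
  unfold sgn
  rw [Finset.card_insert_of_notMem haB, pow_succ]
  ring

open Classical in
/-- The toggling involution. -/
noncomputable def toggle (a : G) (B : Finset G) : Finset G :=
  if a ∈ B then B.erase a else insert a B

open Classical in
theorem toggle_toggle (a : G) (B : Finset G) : toggle a (toggle a B) = B := by
  unfold toggle
  by_cases h : a ∈ B
  · rw [if_pos h, if_neg (Finset.notMem_erase a B), Finset.insert_erase h]
  · rw [if_neg h, if_pos (Finset.mem_insert_self a B), Finset.erase_insert h]

open Classical in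
theorem toggle_ne (a : G) (B : Finset G) : toggle a B ≠ B := by
  unfold toggle
  by_cases h : a ∈ B
  · rw [if_pos h]
    intro e
    have := Finset.notMem_erase a B
    rw [e] at this
    exact this h
  · rw [if_neg h]
    intro e
    apply h
    rw [← e]
    exact Finset.mem_insert_self a B

open Classical in
theorem sgn_wB_toggle (α : ↥L → ℂ) (a : G) (B : Finset G) (m : G) :
    sgn B * wB A L H α B m a + sgn (toggle a B) * wB A L H α (toggle a B) m a = 0 := by
  unfold toggle
  by_cases h : a ∈ B
  · rw [if_pos h]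
    have h1 : a ∉ B.erase a := Finset.notMem_erase a B
    have h2 : insert a (B.erase a) = B := Finset.insert_erase h
    have h3 := wB_insert (A := A) (L := L) (H := H) α h1 m
    have h4 := sgn_insert h1
    rw [h2] at h3 h4
    rw [h3, h4]; ring
  · rw [if_neg h, wB_insert α h m, sgn_insert h]; ring

open Classical in
theorem toggle_mem_famP {a : G} (ha : a ∈ A) {B : Finset G} (hB : B ∈ (famP A).erase {a}) :
    toggle a B ∈ (famP A).erase {a} := by
  rw [Finset.mem_erase] at hB ⊢
  obtain ⟨hBa, hBP⟩ := hB
  obtain ⟨hBA, hBne⟩ := mem_famP.mp hBP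
  unfold toggle
  by_cases h : a ∈ B
  · rw [if_pos h]
    refine ⟨?_, mem_famP.mpr ⟨fun b hb => hBA b (Finset.mem_of_mem_erase hb), ?_⟩⟩
    · intro e
      have := Finset.notMem_erase a B
      rw [e] at this
      exact this (Finset.mem_singleton_self a)
    · by_contra hemp
      rw [Finset.not_nonempty_iff_eq_empty] at hemp
      apply hBa
      rw [← Finset.insert_erase h, hemp]
      rfl
  · rw [if_neg h]
    refine ⟨?_, mem_famP.mpr ⟨fun b hb => ?_, Finset.insert_nonempty a B⟩⟩
    · intro e
      obtain ⟨b, hb⟩ := hBne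
      have hb' : b ∈ insert a B := Finset.mem_insert_of_mem hb
      rw [e, Finset.mem_singleton] at hb'
      rw [hb'] at hb
      exact h hb
    · rcases Finset.mem_insert.mp hb with rfl | hb
      · exact ha
      · exact hBA b hb

open Classical in
/-- The alternating sum of the weights over all nonempty `B ⊆ A` collapses to `B = {a}`. -/
theorem sum_sgn_wB (hD : DadeHypothesis A L H) (α : ↥L → ℂ) (m a : G) :
    ∑ B ∈ famP A, sgn B * wB A L H α B m a =
      if (a ∈ A ∧ a⁻¹ * m ∈ H a) then extendByZero L α a / (Nat.card (H a) : ℂ) else 0 := by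
  by_cases hc : a ∈ A ∧ a⁻¹ * m ∈ H a
  · rw [if_pos hc]
    obtain ⟨ha, hv⟩ := hc
    have hmem : ({a} : Finset G) ∈ famP A := by
      rw [mem_famP]
      refine ⟨fun b hb => ?_, Finset.singleton_nonempty a⟩
      rw [Finset.mem_singleton] at hb
      rw [hb]; exact ha
    rw [← Finset.add_sum_erase _ _ hmem]
    have hzero : ∑ B ∈ (famP A).erase {a}, sgn B * wB A L H α B m a = 0 := by
      apply Finset.sum_involution (fun B _ => toggle a B)
      · intro B _
        exact sgn_wB_toggle α a B m
      · intro B _ _
        exact toggle_ne a B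
      · intro B hB
        exact toggle_mem_famP ha hB
      · intro B _
        exact toggle_toggle a B
    rw [hzero, add_zero]
    have hsg : sgn ({a} : Finset G) = 1 := by
      unfold sgn
      rw [Finset.card_singleton]
      norm_num
    rw [hsg, one_mul]
    unfold wB
    have haN : a ∈ NB L ({a} : Finset G) := by
      rw [mem_NB]
      refine ⟨hD.subset ha, fun x => ?_⟩
      rw [Finset.mem_singleton, Finset.mem_singleton]
      constructor
      · intro h; rw [h]; group
      · intro h
        have : x = a⁻¹ * (a * x * a⁻¹) * a := by group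
        rw [this, h]; group
    have hcond : a ∈ A ∧ a ∈ NB L ({a} : Finset G) ∧ a⁻¹ * m ∈ HB H ({a} : Finset G) ∧
        a⁻¹ * m ∈ H a := by
      refine ⟨ha, haN, ?_, hv⟩
      rw [HB_singleton]; exact hv
    rw [if_pos hcond, HB_singleton, inf_idem]
  · rw [if_neg hc]
    apply Finset.sum_eq_zero
    intro B _
    unfold wB
    rw [if_neg (fun h => hc ⟨h.1, h.2.2.2⟩), mul_zero]

end Cfsg.Agent.Lib.Helper4.Dade
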