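import Mathlib
import Cfsg.Agent.Lib.Helper4.DadeC

set_option autoImplicit false
set_option linter.unusedSectionVars false
open Cfsg

/-!
# The expansion of the Dade map, pointwise
-/

namespace Cfsg.Agent.Lib.Helper4.Dade

open Cfsg.Agent.Lib.helper3.Dade Cfsg.Agent.Lib.helper3.IndFun

variable {G : Type*} [Group G] [Fintype G] {A : Set G} {L : Subgroup G} {H : G → Subgroup G}

/-- The function induced from `H(B) ⋊ N_L(B)`, in terms of the centralizer-coset weights. -/
theorem indFun_alphaB (hD : DadeHypothesis A L H) (α : ↥L → ℂ)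
    (hαA : ∀ x : ↥L, (x : G) ∉ A → α x = 0) {B : Finset G} (hBA : ∀ b ∈ B, b ∈ A)
    (hne : B.Nonempty) (g : G) :
    indFun (HB H B ⊔ NB L B) (alphaB hD α hBA hne) g =
      (Nat.card (NB L B) : ℂ)⁻¹ * ∑ x : G, ∑ a : G, wB A L H α B (x⁻¹ * g * x) a := by
  classical
  rw [indFun_apply]
  have h0 : ∀ x : G, extendByZero (HB H B ⊔ NB L B) (alphaB hD α hBA hne) (x⁻¹ * g * x) =
      ∑ h : G, (if h ∈ HB H B then ∑ a : G, wB A L H α B (h⁻¹ * (x⁻¹ * g * x) * h) a else 0) := by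
    intro x
    rw [sum_wB_conj hD α hαA hBA hne]
    rfl
  rw [Finset.sum_congr rfl (fun x _ => h0 x), Finset.sum_comm]
  have h1 : ∀ h : G, ∑ x : G, (if h ∈ HB H B then
      ∑ a : G, wB A L H α B (h⁻¹ * (x⁻¹ * g * x) * h) a else 0) =
      (if h ∈ HB H B then ∑ x : G, ∑ a : G, wB A L H α B (x⁻¹ * g * x) a else 0) := by
    intro h
    by_cases hh : h ∈ HB H B
    · simp only [if_pos hh]
      apply Fintype.sum_equiv (Equiv.mulRight h)
      intro x
      apply Finset.sum_congr rfl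
      intro a _
      congr 1
      simp only [Equiv.coe_mulRight]
      group
    · simp only [if_neg hh]
      exact Finset.sum_const_zero
  rw [Finset.sum_congr rfl (fun h _ => h1 h), sum_ite_mem_const, card_MB hD hBA hne]
  have hH : (Nat.card (HB H B) : ℂ) ≠ 0 := card_ne_zero_complex _
  have hN : (Nat.card (NB L B) : ℂ) ≠ 0 := card_ne_zero_complex _
  push_cast
  field_simp

open Classical in
/-- The total weight `∑_x ∑_a α(a) [x⁻¹ g x ∈ a H(a)] / |H(a)|` is `|L|` times the Dade image. -/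
theorem sum_base_weights (hD : DadeHypothesis A L H) (α : ↥L → ℂ) (hα : IsClassFunction ↥L α)
    (g : G) :
    ∑ x : G, ∑ a : G, (if (a ∈ A ∧ a⁻¹ * (x⁻¹ * g * x) ∈ H a) then
      extendByZero L α a / (Nat.card (H a) : ℂ) else 0) =
      (Nat.card L : ℂ) * dadeIsometry A L H α g := by
  have h1 : ∀ x a : G, (if (a ∈ A ∧ a⁻¹ * (x⁻¹ * g * x) ∈ H a) then
      extendByZero L α a / (Nat.card (H a) : ℂ) else 0) =
      dadeIsometry A L H α g * wt A H ℂ x⁻¹ g a := by
    intro x a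
    unfold wt
    by_cases hc : a ∈ A ∧ a⁻¹ * (x⁻¹ * g * x) ∈ H a
    · obtain ⟨ha, hu⟩ := hc
      have hc' : a ∈ A ∧ ∃ u ∈ H a, x⁻¹ * g * x⁻¹⁻¹ = a * u := by
        refine ⟨ha, a⁻¹ * (x⁻¹ * g * x), hu, ?_⟩
        group
      rw [if_pos ⟨ha, hu⟩, if_pos hc']
      have haL : a ∈ L := hD.subset ha
      have hval : dadeIsometry A L H α g = α ⟨a, haL⟩ := by
        apply dade_apply hD α hα ⟨a, haL⟩ ha hu (x := x⁻¹)
        show x⁻¹ * g * x⁻¹⁻¹ = a * (a⁻¹ * (x⁻¹ * g * x))
        group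
      rw [hval, extendByZero_mem L α haL, div_eq_mul_inv]
    · have hc' : ¬ (a ∈ A ∧ ∃ u ∈ H a, x⁻¹ * g * x⁻¹⁻¹ = a * u) := by
        rintro ⟨ha, u, hu, e⟩
        apply hc
        refine ⟨ha, ?_⟩
        have : a⁻¹ * (x⁻¹ * g * x) = u := by
          rw [inv_inv] at e
          rw [e]; group
        rw [this]; exact hu
      rw [if_neg hc, if_neg hc', mul_zero]
  simp_rw [h1, ← Finset.mul_sum]
  have h2 : ∑ x : G, ∑ a : G, wt A H ℂ x⁻¹ g a = wsum A H ℂ g := by
    unfold wsum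
    apply Fintype.sum_equiv (Equiv.inv G)
    intro x
    rfl
  rw [h2, wsum_eq hD g]
  by_cases hg : inD A H g
  · rw [if_pos hg]; ring
  · rw [if_neg hg, dade_zero' hD α hg]; ring

open Classical in
/-- The `B`-term of the expansion. -/
noncomputable def termB (hD : DadeHypothesis A L H) (α : ↥L → ℂ) (B : Finset G) : G → ℂ :=
  if h : (∀ b ∈ B, b ∈ A) ∧ B.Nonempty then
    indFun (HB H B ⊔ NB L B) (alphaB hD α h.1 h.2) else 0

/-- The coefficient of the `B`-term. -/
noncomputable def coefB (L : Subgroup G) (B : Finset G) : ℂ :=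
  sgn B * ((Nat.card (NB L B) : ℂ) / (Nat.card L : ℂ))

/-- The expansion. -/
noncomputable def expansion (hD : DadeHypothesis A L H) (α : ↥L → ℂ) : G → ℂ :=
  ∑ B ∈ famP A, coefB L B • termB hD α B

/-- **The expansion of the Dade map** (pointwise form). -/
theorem expansion_eq (hD : DadeHypothesis A L H) (α : ↥L → ℂ) (hα : IsClassFunction ↥L α)
    (hαA : ∀ x : ↥L, (x : G) ∉ A → α x = 0) :
    expansion hD α = dadeIsometry A L H α := by
  classical
  funext g
  unfold expansion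
  rw [Finset.sum_apply]
  have h1 : ∀ B ∈ famP A, (coefB L B • termB hD α B) g =
      (Nat.card L : ℂ)⁻¹ * ∑ x : G, ∑ a : G, sgn B * wB A L H α B (x⁻¹ * g * x) a := by
    intro B hB
    have hB' := mem_famP.mp hB
    rw [Pi.smul_apply, smul_eq_mul]
    unfold termB coefB
    rw [dif_pos hB', indFun_alphaB hD α hαA hB'.1 hB'.2 g]
    have hN : (Nat.card (NB L B) : ℂ) ≠ 0 := card_ne_zero_complex _
    have hL : (Nat.card L : ℂ) ≠ 0 := card_ne_zero_complex _
    simp_rw [← Finset.mul_sum]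
    field_simp
  rw [Finset.sum_congr rfl h1, ← Finset.mul_sum]
  have h2 : ∑ B ∈ famP A, ∑ x : G, ∑ a : G, sgn B * wB A L H α B (x⁻¹ * g * x) a =
      ∑ x : G, ∑ a : G, ∑ B ∈ famP A, sgn B * wB A L H α B (x⁻¹ * g * x) a := by
    rw [Finset.sum_comm]
    apply Finset.sum_congr rfl
    intro x _
    rw [Finset.sum_comm]
  rw [h2]
  simp_rw [sum_sgn_wB hD α]
  rw [sum_base_weights hD α hα g]
  have hL : (Nat.card L : ℂ) ≠ 0 := card_ne_zero_complex _
  field_simp

end Cfsg.Agent.Lib.Helper4.Dade
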