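import Mathlib
import Cfsg.Agent.Lib.Helper4.DadeD
import Cfsg.Agent.Lib.helper3.IndLin
import Cfsg.Agent.Lib.helper3.Irr8
import Cfsg.Agent.Lib.helper3.GenChar
import Cfsg.Agent.Lib.helper3.Dade4

set_option autoImplicit false
set_option linter.unusedSectionVars false
open Cfsg

/-!
# The expansion of the Dade map is a generalized character
-/

namespace Cfsg.Agent.Lib.Helper4.Dade

open Cfsg.Agent.Lib.helper3.Dade Cfsg.Agent.Lib.helper3.IndFun Cfsg.Agent.Lib.helper3.Irr

theorem isCharacter_comp_hom {M N : Type*} [Group M] [Group N] (f : M →* N) {χ : N → ℂ}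
    (h : IsCharacter N χ) : IsCharacter M (fun m => χ (f m)) := by
  obtain ⟨n, ρ, rfl⟩ := h
  exact ⟨n, ρ.comp f, rfl⟩

theorem isGeneralizedCharacter_comp_hom {M N : Type*} [Group M] [Group N] (f : M →* N)
    {θ : N → ℂ} (h : IsGeneralizedCharacter N θ) :
    IsGeneralizedCharacter M (fun m => θ (f m)) := by
  obtain ⟨χ, ψ, hχ, hψ, rfl⟩ := h
  exact ⟨_, _, isCharacter_comp_hom f hχ, isCharacter_comp_hom f hψ, rfl⟩

theorem isClassFunction_of_isGeneralizedCharacter {M : Type*} [Group M] {θ : M → ℂ}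
    (h : IsGeneralizedCharacter M θ) : IsClassFunction M θ := by
  obtain ⟨χ, ψ, hχ, hψ, rfl⟩ := h
  intro g x
  rw [Pi.sub_apply, Pi.sub_apply, isClassFunction_of_isCharacter hχ g x,
    isClassFunction_of_isCharacter hψ g x]

variable {G : Type*} [Group G] [Fintype G] {A : Set G} {L : Subgroup G} {H : G → Subgroup G}

theorem isGeneralizedCharacter_indFun (M : Subgroup G) {θ : M → ℂ}
    (h : IsGeneralizedCharacter M θ) : IsGeneralizedCharacter G (indFun M θ) := by
  obtain ⟨χ, ψ, hχ, hψ, rfl⟩ := h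
  have h1 : χ - ψ = χ + (-1 : ℂ) • ψ := by
    funext x; simp [sub_eq_add_neg]
  have h2 : indFun M (χ - ψ) = indFun M χ - indFun M ψ := by
    rw [h1, indFun_add, indFun_smul]
    funext x; simp [sub_eq_add_neg]
  rw [h2]
  exact ⟨_, _, isCharacter_indFun M χ hχ, isCharacter_indFun M ψ hψ, rfl⟩

theorem termB_isGeneralizedCharacter (hD : DadeHypothesis A L H) {α : ↥L → ℂ}
    (hα : IsGeneralizedCharacter ↥L α) (B : Finset G) :
    IsGeneralizedCharacter G (termB hD α B) := by
  classical
  unfold termB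
  split_ifs with h
  · apply isGeneralizedCharacter_indFun
    exact isGeneralizedCharacter_comp_hom (proj hD h.1 h.2) hα
  · exact Cfsg.Agent.Lib.helper3.GenChar.zero

/-! ### Conjugating `B` by elements of `L` -/

open Classical in
/-- The conjugate `l B l⁻¹`. -/
noncomputable def conjF (l : G) (B : Finset G) : Finset G := B.image (fun b => l * b * l⁻¹)

theorem mem_conjF {l x : G} {B : Finset G} : x ∈ conjF l B ↔ l⁻¹ * x * l ∈ B := by
  classical
  unfold conjF
  rw [Finset.mem_image]
  constructor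
  · rintro ⟨b, hb, rfl⟩
    have : l⁻¹ * (l * b * l⁻¹) * l = b := by group
    rw [this]; exact hb
  · intro h
    exact ⟨_, h, by group⟩

theorem conjF_mul (l l' : G) (B : Finset G) : conjF l (conjF l' B) = conjF (l * l') B := by
  ext x
  rw [mem_conjF, mem_conjF, mem_conjF]
  have : l'⁻¹ * (l⁻¹ * x * l) * l' = (l * l')⁻¹ * x * (l * l') := by group
  rw [this]

theorem conjF_one (B : Finset G) : conjF 1 B = B := by
  ext x
  rw [mem_conjF]
  simp

theorem card_conjF (l : G) (B : Finset G) : (conjF l B).card = B.card := by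
  classical
  unfold conjF
  apply Finset.card_image_of_injective
  intro x y h
  have h' : l * x * l⁻¹ = l * y * l⁻¹ := h
  have : x = l⁻¹ * (l * x * l⁻¹) * l := by group
  rw [this, h']; group

theorem conjF_eq_self_iff {l : G} {B : Finset G} :
    conjF l B = B ↔ l ∈ Subgroup.normalizer ((B : Set G)) := by
  rw [Subgroup.mem_set_normalizer_iff'', Finset.ext_iff]
  simp only [Finset.mem_coe, mem_conjF]
  constructor
  · intro h x; exact (h x).symm
  · intro h x; exact (h x).symm

theorem conjF_injective (l : G) : Function.Injective (conjF l : Finset G → Finset G) := by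
  intro B B' h
  have := congrArg (conjF l⁻¹) h
  rwa [conjF_mul, conjF_mul, inv_mul_cancel, conjF_one, conjF_one] at this

theorem conjF_mem_famP (hD : DadeHypothesis A L H) {l : G} (hl : l ∈ L) {B : Finset G}
    (hB : B ∈ famP A) : conjF l B ∈ famP A := by
  classical
  obtain ⟨hBA, hne⟩ := mem_famP.mp hB
  rw [mem_famP]
  refine ⟨fun x hx => ?_, ?_⟩
  · rw [mem_conjF] at hx
    have := hD.conj_mem l hl _ (hBA _ hx)
    have e : l * (l⁻¹ * x * l) * l⁻¹ = x := by group
    rwa [e] at this
  · unfold conjF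
    exact hne.image _

theorem mem_HB_conjF (hD : DadeHypothesis A L H) {l : G} (hl : l ∈ L) {B : Finset G}
    (hBA : ∀ b ∈ B, b ∈ A) {u : G} : u ∈ HB H (conjF l B) ↔ l⁻¹ * u * l ∈ HB H B := by
  rw [mem_HB, mem_HB]
  constructor
  · intro h b hb
    have hx : l * b * l⁻¹ ∈ conjF l B := by
      rw [mem_conjF]
      have : l⁻¹ * (l * b * l⁻¹) * l = b := by group
      rw [this]; exact hb
    have h1 := h _ hx
    have h2 := mem_H_conj hD (hD.conj_mem l hl b (hBA b hb)) (L.inv_mem hl) h1
    have e : l⁻¹ * (l * b * l⁻¹) * l⁻¹⁻¹ = b := by group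
    rw [e, inv_inv] at h2
    exact h2
  · intro h x hx
    rw [mem_conjF] at hx
    have h1 := h _ hx
    have h2 := mem_H_conj hD (hBA _ hx) hl h1
    have e1 : l * (l⁻¹ * u * l) * l⁻¹ = u := by group
    have e2 : l * (l⁻¹ * x * l) * l⁻¹ = x := by group
    rwa [e1, e2] at h2

theorem mem_NB_conjF {l : G} (hl : l ∈ L) {B : Finset G} {n : G} :
    n ∈ NB L (conjF l B) ↔ l⁻¹ * n * l ∈ NB L B := by
  unfold NB
  rw [Subgroup.mem_inf, Subgroup.mem_inf, ← conjF_eq_self_iff, ← conjF_eq_self_iff, conjF_mul]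
  have hL : n ∈ L ↔ l⁻¹ * n * l ∈ L := by
    constructor
    · intro h; exact L.mul_mem (L.mul_mem (L.inv_mem hl) h) hl
    · intro h
      have := L.mul_mem (L.mul_mem hl h) (L.inv_mem hl)
      have e : l * (l⁻¹ * n * l) * l⁻¹ = n := by group
      rwa [e] at this
  have hN : conjF (n * l) B = conjF l B ↔ conjF (l⁻¹ * n * l) B = B := by
    constructor
    · intro h
      have := congrArg (conjF l⁻¹) h
      rw [conjF_mul, conjF_mul, inv_mul_cancel, conjF_one] at this
      rw [← this]
      congr 1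
      group
    · intro h
      have := congrArg (conjF l) h
      rw [conjF_mul] at this
      rw [← this]
      congr 1
      group
  rw [hL, hN]

theorem HB_conjF_eq_map (hD : DadeHypothesis A L H) {l : G} (hl : l ∈ L) {B : Finset G}
    (hBA : ∀ b ∈ B, b ∈ A) :
    HB H (conjF l B) = (HB H B).map (MulAut.conj l).toMonoidHom := by
  ext u
  rw [mem_HB_conjF hD hl hBA, Subgroup.mem_map]
  constructor
  · intro h
    refine ⟨_, h, ?_⟩
    simp only [MulEquiv.coe_toMonoidHom, MulAut.conj_apply]
    group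
  · rintro ⟨v, hv, rfl⟩
    simp only [MulEquiv.coe_toMonoidHom, MulAut.conj_apply]
    have : l⁻¹ * (l * v * l⁻¹) * l = v := by group
    rw [this]; exact hv

theorem NB_conjF_eq_map {l : G} (hl : l ∈ L) (B : Finset G) :
    NB L (conjF l B) = (NB L B).map (MulAut.conj l).toMonoidHom := by
  ext u
  rw [mem_NB_conjF hl, Subgroup.mem_map]
  constructor
  · intro h
    refine ⟨_, h, ?_⟩
    simp only [MulEquiv.coe_toMonoidHom, MulAut.conj_apply]
    group
  · rintro ⟨v, hv, rfl⟩
    simp only [MulEquiv.coe_toMonoidHom, MulAut.conj_apply]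
    have : l⁻¹ * (l * v * l⁻¹) * l = v := by group
    rw [this]; exact hv

theorem card_HB_conjF (hD : DadeHypothesis A L H) {l : G} (hl : l ∈ L) {B : Finset G}
    (hBA : ∀ b ∈ B, b ∈ A) : Nat.card (HB H (conjF l B)) = Nat.card (HB H B) := by
  rw [HB_conjF_eq_map hD hl hBA]
  exact Subgroup.card_map_of_injective (MulAut.conj l).injective

theorem card_NB_conjF {l : G} (hl : l ∈ L) (B : Finset G) :
    Nat.card (NB L (conjF l B)) = Nat.card (NB L B) := by
  rw [NB_conjF_eq_map hl]
  exact Subgroup.card_map_of_injective (MulAut.conj l).injective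

theorem coefB_conjF {l : G} (hl : l ∈ L) (B : Finset G) : coefB L (conjF l B) = coefB L B := by
  unfold coefB sgn
  rw [card_conjF, card_NB_conjF hl]

theorem phiB_conjF (hD : DadeHypothesis A L H) (α : ↥L → ℂ) (hα : IsClassFunction ↥L α)
    {l : G} (hl : l ∈ L) {B : Finset G} (hBA : ∀ b ∈ B, b ∈ A) (hne : B.Nonempty)
    (hBA' : ∀ b ∈ conjF l B, b ∈ A) (hne' : (conjF l B).Nonempty) (m : G) :
    phiB hD α hBA' hne' (l * m * l⁻¹) = phiB hD α hBA hne m := by
  by_cases hm : m ∈ HB H B ⊔ NB L B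
  · obtain ⟨h, hh, n, hn, rfl⟩ := (mem_MB_iff hD hBA).mp hm
    have e : l * (h * n) * l⁻¹ = (l * h * l⁻¹) * (l * n * l⁻¹) := by group
    have hh' : l * h * l⁻¹ ∈ HB H (conjF l B) := by
      rw [mem_HB_conjF hD hl hBA]
      have : l⁻¹ * (l * h * l⁻¹) * l = h := by group
      rw [this]; exact hh
    have hn' : l * n * l⁻¹ ∈ NB L (conjF l B) := by
      rw [mem_NB_conjF hl]
      have : l⁻¹ * (l * n * l⁻¹) * l = n := by group
      rw [this]; exact hn
    rw [e, phiB_mul hD α hBA' hne' hh' hn', phiB_mul hD α hBA hne hh hn]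
    have hnL : n ∈ L := (mem_NB.mp hn).1
    have hnL' : l * n * l⁻¹ ∈ L := (mem_NB.mp hn').1
    rw [extendByZero_mem L α hnL, extendByZero_mem L α hnL']
    have := hα ⟨n, hnL⟩ ⟨l, hl⟩
    rw [← this]
    rfl
  · rw [phiB_not_mem hD α hBA hne hm]
    apply phiB_not_mem
    intro hm'
    apply hm
    obtain ⟨h', hh', n', hn', e⟩ := (mem_MB_iff hD hBA').mp hm'
    rw [mem_HB_conjF hD hl hBA] at hh'
    rw [mem_NB_conjF hl] at hn'
    have : m = (l⁻¹ * h' * l) * (l⁻¹ * n' * l) := by
      have : m = l⁻¹ * (l * m * l⁻¹) * l := by group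
      rw [this, e]; group
    rw [this]
    exact Subgroup.mul_mem _ (Subgroup.mem_sup_left hh') (Subgroup.mem_sup_right hn')

theorem termB_conjF (hD : DadeHypothesis A L H) (α : ↥L → ℂ) (hα : IsClassFunction ↥L α)
    {l : G} (hl : l ∈ L) {B : Finset G} (hB : B ∈ famP A) :
    termB hD α (conjF l B) = termB hD α B := by
  classical
  have hB' := conjF_mem_famP hD hl hB
  have h1 := mem_famP.mp hB
  have h2 := mem_famP.mp hB'
  funext g
  unfold termB
  rw [dif_pos h1, dif_pos h2, indFun_apply, indFun_apply, card_MB hD h1.1 h1.2,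
    card_MB hD h2.1 h2.2, card_HB_conjF hD hl h1.1, card_NB_conjF hl]
  congr 1
  have e : ∀ x : G, extendByZero (HB H (conjF l B) ⊔ NB L (conjF l B))
      (alphaB hD α h2.1 h2.2) (x⁻¹ * g * x) =
      extendByZero (HB H B ⊔ NB L B) (alphaB hD α h1.1 h1.2) ((x * l)⁻¹ * g * (x * l)) := by
    intro x
    have := phiB_conjF hD α hα hl h1.1 h1.2 h2.1 h2.2 ((x * l)⁻¹ * g * (x * l))
    unfold phiB at this
    rw [← this]
    congr 1
    group
  rw [Finset.sum_congr rfl (fun x _ => e x)]
  exact Fintype.sum_equiv (Equiv.mulRight l) _ _ (fun x => rfl)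

open Classical in
/-- Orbit–stabilizer for the conjugation action of `L` on the subsets of `A`. -/
theorem card_class_mul (hD : DadeHypothesis A L H) {B : Finset G} (hB : B ∈ famP A) :
    ((famP A).filter (fun B' => ∃ l ∈ L, conjF l B = B')).card * Nat.card (NB L B) =
      Nat.card L := by
  rw [← card_filter_mem L]
  rw [Finset.card_eq_sum_card_fiberwise (f := fun l : G => conjF l B)
    (t := (famP A).filter (fun B' => ∃ l ∈ L, conjF l B = B'))]
  · have hfib : ∀ b ∈ (famP A).filter (fun B' => ∃ l ∈ L, conjF l B = B'),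
        ((Finset.univ.filter (fun u : G => u ∈ L)).filter (fun l => conjF l B = b)).card =
          Nat.card (NB L B) := by
      intro b hb
      obtain ⟨_, l₀, hl₀, rfl⟩ := Finset.mem_filter.mp hb
      rw [← card_filter_mem (NB L B)]
      apply Finset.card_bij (fun l _ => l₀⁻¹ * l)
      · intro l hl
        rw [Finset.mem_filter, Finset.mem_filter] at hl
        obtain ⟨⟨_, hlL⟩, hlc⟩ := hl
        rw [Finset.mem_filter]
        refine ⟨Finset.mem_univ _, ?_⟩
        unfold NB
        rw [Subgroup.mem_inf, ← conjF_eq_self_iff]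
        refine ⟨L.mul_mem (L.inv_mem hl₀) hlL, ?_⟩
        rw [← conjF_mul, hlc, conjF_mul, inv_mul_cancel, conjF_one]
      · intro l _ l' _ e
        exact mul_left_cancel e
      · intro n hn
        rw [Finset.mem_filter] at hn
        have hn' := hn.2
        unfold NB at hn'
        rw [Subgroup.mem_inf, ← conjF_eq_self_iff] at hn'
        refine ⟨l₀ * n, ?_, by group⟩
        rw [Finset.mem_filter, Finset.mem_filter]
        refine ⟨⟨Finset.mem_univ _, L.mul_mem hl₀ hn'.1⟩, ?_⟩
        rw [← conjF_mul, hn'.2]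
    rw [Finset.sum_congr rfl hfib, Finset.sum_const, smul_eq_mul]
  · intro l hl
    have hl' : l ∈ L := by simpa using hl
    have hmem : conjF l B ∈ (famP A).filter (fun B' => ∃ l ∈ L, conjF l B = B') := by
      rw [Finset.mem_filter]
      exact ⟨conjF_mem_famP hD hl' hB, l, hl', rfl⟩
    exact_mod_cast hmem

/-- The conjugacy relation on finite subsets under `L`. -/
def conjSetoid (L : Subgroup G) : Setoid (Finset G) where
  r B B' := ∃ l ∈ L, conjF l B = B'
  iseqv := by
    refine ⟨fun B => ⟨1, L.one_mem, conjF_one B⟩, ?_, ?_⟩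
    · rintro B B' ⟨l, hl, rfl⟩
      refine ⟨l⁻¹, L.inv_mem hl, ?_⟩
      rw [conjF_mul, inv_mul_cancel, conjF_one]
    · rintro B B' B'' ⟨l, hl, rfl⟩ ⟨l', hl', rfl⟩
      exact ⟨l' * l, L.mul_mem hl' hl, (conjF_mul l' l B).symm⟩

/-- **The expansion of the Dade map is a generalized character.** -/
theorem expansion_isGeneralizedCharacter (hD : DadeHypothesis A L H) {α : ↥L → ℂ}
    (hα : IsGeneralizedCharacter ↥L α) : IsGeneralizedCharacter G (expansion hD α) := by
  classical
  have hcf := isClassFunction_of_isGeneralizedCharacter hα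
  unfold expansion
  rw [Finset.sum_partition (conjSetoid L)]
  apply Cfsg.Agent.Lib.helper3.GenChar.sum
  intro c hc
  obtain ⟨B₀, hB₀, rfl⟩ := Finset.mem_image.mp hc
  have hconst : ∀ y ∈ (famP A).filter (fun y => (⟦y⟧ : Quotient (conjSetoid L)) = ⟦B₀⟧),
      coefB L y • termB hD α y = coefB L B₀ • termB hD α B₀ := by
    intro y hy
    obtain ⟨hyP, hyq⟩ := Finset.mem_filter.mp hy
    obtain ⟨l, hl, e⟩ : ∃ l ∈ L, conjF l y = B₀ := Quotient.exact hyq
    rw [← e, coefB_conjF hl, termB_conjF hD α hcf hl hyP]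
  rw [Finset.sum_congr rfl hconst, Finset.sum_const]
  have hfilter : (famP A).filter (fun y => (⟦y⟧ : Quotient (conjSetoid L)) = ⟦B₀⟧) =
      (famP A).filter (fun B' => ∃ l ∈ L, conjF l B₀ = B') := by
    apply Finset.filter_congr
    intro y _
    constructor
    · intro h
      exact (conjSetoid L).symm (Quotient.exact h)
    · intro h
      exact Quotient.sound ((conjSetoid L).symm h)
  rw [hfilter]
  have hcount := card_class_mul hD hB₀
  set k := ((famP A).filter (fun B' => ∃ l ∈ L, conjF l B₀ = B')).card with hk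
  have hval : (k : ℂ) * coefB L B₀ = (((-1 : ℤ) ^ (B₀.card + 1) : ℤ) : ℂ) := by
    unfold coefB sgn
    have hL : (Nat.card L : ℂ) ≠ 0 := card_ne_zero_complex _
    have hc' : (k : ℂ) * (Nat.card (NB L B₀) : ℂ) = (Nat.card L : ℂ) := by
      exact_mod_cast hcount
    push_cast
    field_simp
    linear_combination hc'
  have : k • (coefB L B₀ • termB hD α B₀) =
      (((-1 : ℤ) ^ (B₀.card + 1) : ℤ) : ℂ) • termB hD α B₀ := by
    rw [← hval, ← Nat.cast_smul_eq_nsmul ℂ, smul_smul]
  rw [this]
  exact Cfsg.Agent.Lib.helper3.GenChar.smul_intCast (termB_isGeneralizedCharacter hD hα B₀) _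

/-- **Dade's theorem**: the Dade map sends generalized characters of `L` vanishing off `A` to
generalized characters of `G`. -/
theorem dade_isGeneralizedCharacter (hD : DadeHypothesis A L H) {α : ↥L → ℂ}
    (hα : IsGeneralizedCharacter ↥L α) (hαA : ∀ x : ↥L, (x : G) ∉ A → α x = 0) :
    IsGeneralizedCharacter G (dadeIsometry A L H α) := by
  rw [← expansion_eq hD α (isClassFunction_of_isGeneralizedCharacter hα) hαA]
  exact expansion_isGeneralizedCharacter hD hα

end Cfsg.Agent.Lib.Helper4.Dade
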