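import Mathlib
import Cfsg.Agent.Lib.Helper4.CycLatG
import Cfsg.Agent.Lib.Helper4.CycExB
import Cfsg.Agent.Lib.Helper4.DadeE
import Cfsg.Agent.Lib.helper3.Irr11
import Cfsg.Agent.S1505

set_option autoImplicit false
set_option linter.style.haveILetI false
set_option linter.unusedSectionVars false

/-!
# Integer vectors of irreducible characters and the grid of a self-normalizing cyclic subgroup
-/

namespace Cfsg.Agent.Lib.Helper4.CycEx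

open Cfsg Cfsg.Agent.Lib.helper3.CycTI Cfsg.Agent.Lib.helper3.IndFun Cfsg.Agent.Lib.helper3.Irr
open Cfsg.Agent.Lib.Helper4.CycLat
open scoped ComplexConjugate

variable {G : Type*} [Group G] [Fintype G]

/-- the generalized character with a given vector of multiplicities -/
noncomputable def toFun (v : IrrCharacter G → ℤ) : G → ℂ :=
  ∑ ψ : IrrCharacter G, (v ψ : ℂ) • (ψ : G → ℂ)

theorem toFun_add (v w : IrrCharacter G → ℤ) : toFun (v + w) = toFun v + toFun w := by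
  unfold toFun
  rw [← Finset.sum_add_distrib]
  apply Finset.sum_congr rfl
  intro ψ _
  rw [Pi.add_apply, Int.cast_add, add_smul]

theorem toFun_neg (v : IrrCharacter G → ℤ) : toFun (-v) = - toFun v := by
  unfold toFun
  rw [← Finset.sum_neg_distrib]
  apply Finset.sum_congr rfl
  intro ψ _
  rw [Pi.neg_apply, Int.cast_neg, neg_smul]

theorem toFun_single [DecidableEq (IrrCharacter G)] (a : IrrCharacter G) :
    toFun (Pi.single a 1) = (a : G → ℂ) := by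
  unfold toFun
  rw [Finset.sum_eq_single a]
  · simp
  · intro b _ hb
    simp [Pi.single_apply, hb]
  · intro h
    exact absurd (Finset.mem_univ a) h

theorem classInner_toFun (v w : IrrCharacter G → ℤ) :
    classInner (toFun v) (toFun w) = ((ip v w : ℤ) : ℂ) :=
  classInner_int_decomposition v w

theorem isGeneralizedCharacter_toFun (v : IrrCharacter G → ℤ) :
    IsGeneralizedCharacter G (toFun v) :=
  Cfsg.Agent.Lib.helper3.GenChar.of_int_decomposition v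

theorem irr_or_neg_toFun (v : IrrCharacter G → ℤ) (h : ip v v = 1) :
    IsIrrCharacter G (toFun v) ∨ IsIrrCharacter G (- toFun v) := by
  have hn : classInner (toFun v) (toFun v) = 1 := by
    rw [classInner_toFun, h]
    norm_num
  obtain ⟨a, ha | ha⟩ := exists_irr_of_norm_one (isGeneralizedCharacter_toFun v) hn
  · left
    rw [ha]
    exact a.2
  · right
    rw [ha, neg_neg]
    exact a.2

/-- the principal character -/
noncomputable def triv : IrrCharacter G := ⟨fun _ => 1, isIrrCharacter_one⟩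

theorem toFun_eq_zero_at_triv [DecidableEq (IrrCharacter G)] (v : IrrCharacter G → ℤ) :
    classInner (toFun v) (fun _ => 1) = ((v triv : ℤ) : ℂ) := by
  have h1 : (fun _ : G => (1 : ℂ)) = toFun (Pi.single triv 1) := by
    rw [toFun_single]
    rfl
  rw [h1, classInner_toFun]
  congr 1
  unfold ip
  rw [Finset.sum_eq_single triv]
  · simp
  · intro b _ hb
    simp [Pi.single_apply, hb]
  · intro h
    exact absurd (Finset.mem_univ _) h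

section grid

variable (W₁ W₂ : Subgroup G)

/-- the nontrivial characters of `W` trivial on `W₂` -/
abbrev IdxL : Type _ := {x : ↥(trivOn W₁ W₂ W₂) // x ≠ 1}

/-- the nontrivial characters of `W` trivial on `W₁` -/
abbrev IdxR : Type _ := {x : ↥(trivOn W₁ W₂ W₁) // x ≠ 1}

variable {W₁ W₂}

theorem IdxL.ne_one (i : IdxL W₁ W₂) : (i.1 : ↥(W₁ ⊔ W₂) →* ℂˣ) ≠ 1 := by
  intro h
  exact i.2 (Subtype.ext h)

theorem IdxR.ne_one (j : IdxR W₁ W₂) : (j.1 : ↥(W₁ ⊔ W₂) →* ℂˣ) ≠ 1 := by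
  intro h
  exact j.2 (Subtype.ext h)

theorem isGeneralizedCharacter_alpha (φ ψ : ↥(W₁ ⊔ W₂) →* ℂˣ) :
    IsGeneralizedCharacter ↥(W₁ ⊔ W₂) (alphaFun φ ψ) := by
  letI : Fintype ↥(W₁ ⊔ W₂) := Fintype.ofFinite _
  rw [alphaFun_eq]
  have h : ∀ ω : ↥(W₁ ⊔ W₂) →* ℂˣ, IsGeneralizedCharacter ↥(W₁ ⊔ W₂) (linFun ω) := fun ω =>
    Cfsg.Agent.Lib.helper3.GenChar.of_isCharacter (Cfsg.Agent.Lib.helper3.Lin.isCharacter_of_hom ω)
  exact Cfsg.Agent.Lib.helper3.GenChar.add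
    (Cfsg.Agent.Lib.helper3.GenChar.sub (Cfsg.Agent.Lib.helper3.GenChar.sub (h 1) (h φ)) (h ψ))
    (h (φ * ψ))

open Classical in
/-- the grid of multiplicity vectors of `Ind α - 1` -/
theorem exists_grid (hW : IsSelfNormalizingCyclic W₁ W₂) :
    ∃ z : IdxL W₁ W₂ → IdxR W₁ W₂ → (IrrCharacter G → ℤ),
      (∀ i j, toFun (z i j) = indFun (W₁ ⊔ W₂)
        (alphaFun (i.1 : ↥(W₁ ⊔ W₂) →* ℂˣ) (j.1 : ↥(W₁ ⊔ W₂) →* ℂˣ)) - fun _ => 1) ∧
      IsGrid z ∧ ∀ i j, z i j triv = 0 := by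
  have hgen : ∀ (i : IdxL W₁ W₂) (j : IdxR W₁ W₂), IsGeneralizedCharacter G
      (indFun (W₁ ⊔ W₂) (alphaFun (i.1 : ↥(W₁ ⊔ W₂) →* ℂˣ) (j.1 : ↥(W₁ ⊔ W₂) →* ℂˣ))
        - fun _ => 1) := by
    intro i j
    apply Cfsg.Agent.Lib.helper3.GenChar.sub
    · exact Cfsg.Agent.Lib.Helper4.Dade.isGeneralizedCharacter_indFun _
        (isGeneralizedCharacter_alpha _ _)
    · exact Cfsg.Agent.Lib.helper3.GenChar.of_isIrrCharacter isIrrCharacter_one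
  have hex : ∀ (i : IdxL W₁ W₂) (j : IdxR W₁ W₂), ∃ v : IrrCharacter G → ℤ,
      toFun v = indFun (W₁ ⊔ W₂)
        (alphaFun (i.1 : ↥(W₁ ⊔ W₂) →* ℂˣ) (j.1 : ↥(W₁ ⊔ W₂) →* ℂˣ)) - fun _ => 1 := by
    intro i j
    obtain ⟨v, hv⟩ := exists_int_decomposition (hgen i j)
    exact ⟨v, hv.symm⟩
  choose z hz using hex
  have h1505 : ∀ (i k : IdxL W₁ W₂) (j l : IdxR W₁ W₂),
      classInner (indFun (W₁ ⊔ W₂)
        (alphaFun (i.1 : ↥(W₁ ⊔ W₂) →* ℂˣ) (j.1 : ↥(W₁ ⊔ W₂) →* ℂˣ))) (fun _ => 1) = 1 ∧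
      classInner (indFun (W₁ ⊔ W₂)
        (alphaFun (i.1 : ↥(W₁ ⊔ W₂) →* ℂˣ) (j.1 : ↥(W₁ ⊔ W₂) →* ℂˣ)))
        (indFun (W₁ ⊔ W₂) (alphaFun (k.1 : ↥(W₁ ⊔ W₂) →* ℂˣ) (l.1 : ↥(W₁ ⊔ W₂) →* ℂˣ)))
        = 1 + (if (i.1 : ↥(W₁ ⊔ W₂) →* ℂˣ) = (k.1 : ↥(W₁ ⊔ W₂) →* ℂˣ) then 1 else 0)
          + (if (j.1 : ↥(W₁ ⊔ W₂) →* ℂˣ) = (l.1 : ↥(W₁ ⊔ W₂) →* ℂˣ) then 1 else 0)
          + (if (i.1 : ↥(W₁ ⊔ W₂) →* ℂˣ) = (k.1 : ↥(W₁ ⊔ W₂) →* ℂˣ) then 1 else 0)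
            * (if (j.1 : ↥(W₁ ⊔ W₂) →* ℂˣ) = (l.1 : ↥(W₁ ⊔ W₂) →* ℂˣ) then 1 else 0) :=
    fun i k j l => Cfsg.Agent.S1505.result W₁ W₂ hW (i.1 : ↥(W₁ ⊔ W₂) →* ℂˣ)
      (k.1 : ↥(W₁ ⊔ W₂) →* ℂˣ) (j.1 : ↥(W₁ ⊔ W₂) →* ℂˣ) (l.1 : ↥(W₁ ⊔ W₂) →* ℂˣ)
      i.ne_one k.ne_one j.ne_one l.ne_one (fun w hw => ⟨i.1.2 w hw, k.1.2 w hw⟩)
      (fun w hw => ⟨j.1.2 w hw, l.1.2 w hw⟩)
  have hone : ∀ (i : IdxL W₁ W₂) (j : IdxR W₁ W₂), classInner (indFun (W₁ ⊔ W₂)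
      (alphaFun (i.1 : ↥(W₁ ⊔ W₂) →* ℂˣ) (j.1 : ↥(W₁ ⊔ W₂) →* ℂˣ))) (fun _ => 1) = 1 :=
    fun i j => (h1505 i i j j).1
  have hone' : ∀ (i : IdxL W₁ W₂) (j : IdxR W₁ W₂), classInner (fun _ : G => (1 : ℂ))
      (indFun (W₁ ⊔ W₂)
      (alphaFun (i.1 : ↥(W₁ ⊔ W₂) →* ℂˣ) (j.1 : ↥(W₁ ⊔ W₂) →* ℂˣ))) = 1 := by
    intro i j
    rw [← classInner_conj_symm, hone, map_one]
  have h11 : classInner (fun _ : G => (1 : ℂ)) (fun _ => 1) = 1 :=
    irr_classInner_self isIrrCharacter_one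
  refine ⟨z, hz, ?_, ?_⟩
  · intro i j k l
    have hc : ((ip (z i j) (z k l) : ℤ) : ℂ) = (((if i = k then 1 else 0) + (if j = l then 1 else 0)
        + (if i = k ∧ j = l then 1 else 0) : ℤ) : ℂ) := by
      rw [← classInner_toFun, hz, hz, classInner_sub_left, classInner_sub_right,
        classInner_sub_right, (h1505 i k j l).2, hone, hone', h11]
      have e1 : ((i.1 : ↥(W₁ ⊔ W₂) →* ℂˣ) = (k.1 : ↥(W₁ ⊔ W₂) →* ℂˣ)) ↔ i = k := by
        rw [Subtype.ext_iff, Subtype.ext_iff]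
      have e2 : ((j.1 : ↥(W₁ ⊔ W₂) →* ℂˣ) = (l.1 : ↥(W₁ ⊔ W₂) →* ℂˣ)) ↔ j = l := by
        rw [Subtype.ext_iff, Subtype.ext_iff]
      simp only [e1, e2]
      by_cases h1 : i = k <;> by_cases h2 : j = l <;> simp [h1, h2] <;> norm_num
    exact_mod_cast hc
  · intro i j
    have h := toFun_eq_zero_at_triv (z i j)
    rw [hz, classInner_sub_left, hone, h11, sub_self] at h
    exact_mod_cast h.symm

end grid

end Cfsg.Agent.Lib.Helper4.CycEx
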