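import Mathlib
import Cfsg.Agent.Lib.Helper4.CycExC

set_option autoImplicit false
set_option linter.style.haveILetI false
set_option linter.unusedSectionVars false

/-!
# The numbers of rows and columns of the grid
-/

namespace Cfsg.Agent.Lib.Helper4.CycEx

open Cfsg Cfsg.Agent.Lib.helper3.CycTI

variable {G : Type*} [Group G]

theorem natCard_ne_one {A : Type*} [Group A] [Finite A] :
    Nat.card {x : A // x ≠ 1} = Nat.card A - 1 := by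
  classical
  letI : Fintype A := Fintype.ofFinite A
  rw [Nat.card_eq_fintype_card, Nat.card_eq_fintype_card,
    Fintype.card_subtype_compl (fun x : A => x = 1), Fintype.card_subtype_eq]

/-- all elements of `W₁ ⊔ W₂` are killed by an exponent killing `W₁` and `W₂` -/
theorem pow_eq_one_of_sup [Finite G] (W₁ W₂ : Subgroup G) (hcyc : IsCyclic ↥(W₁ ⊔ W₂)) (n : ℕ)
    (h1 : ∀ a ∈ W₁, a ^ n = 1) (h2 : ∀ b ∈ W₂, b ^ n = 1) (w : ↥(W₁ ⊔ W₂)) : w ^ n = 1 := by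
  letI : CommGroup ↥(W₁ ⊔ W₂) := IsCyclic.commGroup
  have hle1 : W₁.subgroupOf (W₁ ⊔ W₂) ≤ (powMonoidHom n : ↥(W₁ ⊔ W₂) →* ↥(W₁ ⊔ W₂)).ker := by
    intro x hx
    rw [MonoidHom.mem_ker, powMonoidHom_apply]
    apply Subtype.ext
    rw [Subgroup.coe_pow, Subgroup.coe_one]
    exact h1 _ (Subgroup.mem_subgroupOf.mp hx)
  have hle2 : W₂.subgroupOf (W₁ ⊔ W₂) ≤ (powMonoidHom n : ↥(W₁ ⊔ W₂) →* ↥(W₁ ⊔ W₂)).ker := by
    intro x hx
    rw [MonoidHom.mem_ker, powMonoidHom_apply]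
    apply Subtype.ext
    rw [Subgroup.coe_pow, Subgroup.coe_one]
    exact h2 _ (Subgroup.mem_subgroupOf.mp hx)
  have htop : (powMonoidHom n : ↥(W₁ ⊔ W₂) →* ↥(W₁ ⊔ W₂)).ker = ⊤ := by
    rw [eq_top_iff, ← Subgroup.subgroupOf_self (W₁ ⊔ W₂),
      Subgroup.subgroupOf_sup le_sup_left le_sup_right]
    exact sup_le hle1 hle2
  have : w ∈ (powMonoidHom n : ↥(W₁ ⊔ W₂) →* ↥(W₁ ⊔ W₂)).ker := by
    rw [htop]; exact Subgroup.mem_top w
  rw [MonoidHom.mem_ker, powMonoidHom_apply] at this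
  exact this

theorem card_conditions [Finite G] (W₁ W₂ : Subgroup G) (hW : IsSelfNormalizingCyclic W₁ W₂)
    (hodd : Odd (Nat.card ↥(W₁ ⊔ W₂))) :
    (Nat.card (IdxL W₁ W₂) = 2 ∨ 4 ≤ Nat.card (IdxL W₁ W₂)) ∧
    (Nat.card (IdxR W₁ W₂) = 2 ∨ 4 ≤ Nat.card (IdxR W₁ W₂)) ∧
    ¬ (Nat.card (IdxL W₁ W₂) = 2 ∧ Nat.card (IdxR W₁ W₂) = 2) := by
  have hcyc : IsCyclic ↥(W₁ ⊔ W₂) := hW.2.2.2.2.1
  obtain ⟨-, hΦ, hΨ⟩ := isComplement_trivOn W₁ W₂ hW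
  have hsup := card_sup W₁ W₂ hW
  haveI : Finite (↥(W₁ ⊔ W₂) →* ℂˣ) :=
    Nat.finite_of_card_ne_zero (by rw [card_dual_sup W₁ W₂ hcyc]; exact Nat.card_pos.ne')
  have hL : Nat.card (IdxL W₁ W₂) = Nat.card W₁ - 1 := by
    rw [← hΦ]; exact natCard_ne_one
  have hR : Nat.card (IdxR W₁ W₂) = Nat.card W₂ - 1 := by
    rw [← hΨ]; exact natCard_ne_one
  rw [hsup] at hodd
  obtain ⟨o1, o2⟩ := Nat.odd_mul.mp hodd
  have p1 : 0 < Nat.card W₁ := Nat.card_pos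
  have p2 : 0 < Nat.card W₂ := Nat.card_pos
  have n1 : Nat.card W₁ ≠ 1 := fun h => hW.1 (Subgroup.card_eq_one.mp h)
  have n2 : Nat.card W₂ ≠ 1 := fun h => hW.2.1 (Subgroup.card_eq_one.mp h)
  obtain ⟨k1, hk1⟩ := o1
  obtain ⟨k2, hk2⟩ := o2
  refine ⟨by omega, by omega, ?_⟩
  rintro ⟨e1, e2⟩
  have c1 : Nat.card W₁ = 3 := by omega
  have c2 : Nat.card W₂ = 3 := by omega
  have hexp : Monoid.exponent ↥(W₁ ⊔ W₂) ∣ 3 := by
    rw [Monoid.exponent_dvd_iff_forall_pow_eq_one]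
    apply pow_eq_one_of_sup W₁ W₂ hcyc 3
    · intro a ha
      have := pow_card_eq_one' (G := W₁) (x := ⟨a, ha⟩)
      rw [c1] at this
      exact congrArg Subtype.val this
    · intro b hb
      have := pow_card_eq_one' (G := W₂) (x := ⟨b, hb⟩)
      rw [c2] at this
      exact congrArg Subtype.val this
  rw [IsCyclic.exponent_eq_card, hsup, c1, c2] at hexp
  norm_num at hexp

end Cfsg.Agent.Lib.Helper4.CycEx
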