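import Mathlib
import Cfsg.Agent.Lib.Helper4.CycLatG

set_option autoImplicit false

/-!
# The orthonormal family indexed by pairs of optional indices
-/

namespace Cfsg.Agent.Lib.Helper4.CycLat

open Finset

variable {B : Type*} [Fintype B] [DecidableEq B]

theorem ip_neg_left (u v : B → ℤ) : ip (-u) v = - ip u v := by
  unfold ip
  rw [← Finset.sum_neg_distrib]
  exact Finset.sum_congr rfl (fun b _ => by simp)

theorem ip_neg_right (u v : B → ℤ) : ip u (-v) = - ip u v := by
  rw [ip_comm, ip_neg_left, ip_comm]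

/-- an element of a group as an optional nontrivial element -/
noncomputable def optOf {A : Type*} [One A] (x : A) : Option {y : A // y ≠ 1} := by
  classical
  exact if h : x = 1 then none else some ⟨x, h⟩

theorem optOf_one {A : Type*} [One A] : optOf (1 : A) = none := by
  unfold optOf
  rw [dif_pos rfl]

theorem optOf_ne {A : Type*} [One A] (x : {y : A // y ≠ 1}) : optOf (x : A) = some x := by
  unfold optOf
  rw [dif_neg x.2]

theorem optOf_injective {A : Type*} [One A] : Function.Injective (optOf (A := A)) := by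
  intro x y h
  unfold optOf at h
  by_cases hx : x = 1 <;> by_cases hy : y = 1
  · rw [hx, hy]
  · rw [dif_pos hx, dif_neg hy] at h
    exact absurd h (by simp)
  · rw [dif_neg hx, dif_pos hy] at h
    exact absurd h (by simp)
  · rw [dif_neg hx, dif_neg hy] at h
    have := Option.some.inj h
    exact congrArg Subtype.val this

section vec

variable {I J : Type*}

/-- the vector attached to a pair of optional indices -/
def vec (X : I → B → ℤ) (Y : J → B → ℤ) (Z : I → J → B → ℤ) (t : B) :
    Option I × Option J → (B → ℤ)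
  | (none, none) => Pi.single t 1
  | (some i, none) => - X i
  | (none, some j) => - Y j
  | (some i, some j) => Z i j

variable [DecidableEq I] [DecidableEq J]

theorem vec_orthonormal (X : I → B → ℤ) (Y : J → B → ℤ) (Z : I → J → B → ℤ) (t : B)
    (hXX : ∀ i k, ip (X i) (X k) = if i = k then 1 else 0)
    (hYY : ∀ j l, ip (Y j) (Y l) = if j = l then 1 else 0)
    (hZZ : ∀ i j k l, ip (Z i j) (Z k l) = if i = k ∧ j = l then 1 else 0)
    (hXY : ∀ i j, ip (X i) (Y j) = 0) (hXZ : ∀ i k l, ip (X i) (Z k l) = 0)
    (hYZ : ∀ j k l, ip (Y j) (Z k l) = 0)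
    (hXt : ∀ i, X i t = 0) (hYt : ∀ j, Y j t = 0) (hZt : ∀ i j, Z i j t = 0)
    (a b : Option I × Option J) :
    ip (vec X Y Z t a) (vec X Y Z t b) = if a = b then 1 else 0 := by
  have htt : ip (Pi.single t (1 : ℤ)) (Pi.single t 1) = 1 := by
    rw [ip_single_left]
    simp
  rcases a with ⟨_ | i, _ | j⟩ <;> rcases b with ⟨_ | k, _ | l⟩
  · simp [vec, htt]
  · simp [vec, ip_single_left, ip_neg_right, hYt]
  · simp [vec, ip_single_left, ip_neg_right, hXt]
  · simp [vec, ip_single_left, hZt]
  · simp [vec, ip_single_right, ip_neg_left, hYt]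
  · simp [vec, ip_neg_left, ip_neg_right, hYY]
  · simp [vec, ip_neg_left, ip_neg_right, ip_comm (Y _) (X _), hXY]
  · simp [vec, ip_neg_left, hYZ]
  · simp [vec, ip_single_right, ip_neg_left, hXt]
  · simp [vec, ip_neg_left, ip_neg_right, hXY]
  · simp [vec, ip_neg_left, ip_neg_right, hXX]
  · simp [vec, ip_neg_left, hXZ]
  · simp [vec, ip_single_right, hZt]
  · simp [vec, ip_neg_right, ip_comm (Z _ _) (Y _), hYZ]
  · simp [vec, ip_neg_right, ip_comm (Z _ _) (X _), hXZ]
  · simp [vec, hZZ]

end vec

end Cfsg.Agent.Lib.Helper4.CycLat
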