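import Mathlib
import Cfsg.Agent.Lib.Helper4.CycLatH
import Cfsg.Agent.Lib.Helper4.CycExD

set_option autoImplicit false
set_option linter.style.haveILetI false
set_option linter.unusedSectionVars false

/-!
# Existence of the cyclic TI family
-/

namespace Cfsg.Agent.Lib.Helper4.CycEx

open Cfsg Cfsg.Agent.Lib.helper3.CycTI Cfsg.Agent.Lib.helper3.IndFun Cfsg.Agent.Lib.helper3.Irr
open Cfsg.Agent.Lib.Helper4.CycLat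
open scoped ComplexConjugate

variable {G : Type*} [Group G] [Fintype G]

open Classical in
theorem exists_family (W₁ W₂ : Subgroup G) (hW : IsSelfNormalizingCyclic W₁ W₂)
    (hodd : Odd (Nat.card ↥(W₁ ⊔ W₂))) :
    ∃ χ : (↥(W₁ ⊔ W₂) →* ℂˣ) → (G → ℂ), IsCyclicTIFamily W₁ W₂ χ := by
  have hcyc : IsCyclic ↥(W₁ ⊔ W₂) := hW.2.2.2.2.1
  haveI : Finite (↥(W₁ ⊔ W₂) →* ℂˣ) :=
    Nat.finite_of_card_ne_zero (by rw [card_dual_sup W₁ W₂ hcyc]; exact Nat.card_pos.ne')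
  letI : Fintype (IdxL W₁ W₂) := Fintype.ofFinite _
  letI : Fintype (IdxR W₁ W₂) := Fintype.ofFinite _
  obtain ⟨z, hz, hgrid, hzt⟩ := exists_grid hW
  obtain ⟨c1, c2, c3⟩ := card_conditions W₁ W₂ hW hodd
  simp only [Nat.card_eq_fintype_card] at c1 c2 c3
  obtain ⟨X, Y, Z, hdec, hXX, hYY, hZZ, hXY, hXZ, hYZ, hsupp⟩ := hgrid.decomp c1 c2 c3
  obtain ⟨hXt, hYt, hZt⟩ := hsupp triv (fun i j => hzt i j)
  -- decomposition of the characters of `W`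
  obtain ⟨hcompl, -, -⟩ := isComplement_trivOn W₁ W₂ hW
  have hsurj : ∀ ω : ↥(W₁ ⊔ W₂) →* ℂˣ, ∃ p : ↥(trivOn W₁ W₂ W₂) × ↥(trivOn W₁ W₂ W₁),
      (p.1 : ↥(W₁ ⊔ W₂) →* ℂˣ) * (p.2 : ↥(W₁ ⊔ W₂) →* ℂˣ) = ω := fun ω => hcompl.2 ω
  choose dec hdecω using hsurj
  have hdec_unique : ∀ (φ : ↥(trivOn W₁ W₂ W₂)) (ψ : ↥(trivOn W₁ W₂ W₁)),
      dec ((φ : ↥(W₁ ⊔ W₂) →* ℂˣ) * (ψ : ↥(W₁ ⊔ W₂) →* ℂˣ)) = (φ, ψ) := by
    intro φ ψ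
    have h1 := hdecω ((φ : ↥(W₁ ⊔ W₂) →* ℂˣ) * (ψ : ↥(W₁ ⊔ W₂) →* ℂˣ))
    have h2 := (mul_eq_mul_iff W₁ W₂ _ _ _ _
      (fun w hw => ⟨(dec ((φ : ↥(W₁ ⊔ W₂) →* ℂˣ) * (ψ : ↥(W₁ ⊔ W₂) →* ℂˣ))).1.2 w hw, φ.2 w hw⟩)
      (fun w hw => ⟨(dec ((φ : ↥(W₁ ⊔ W₂) →* ℂˣ) * (ψ : ↥(W₁ ⊔ W₂) →* ℂˣ))).2.2 w hw,
        ψ.2 w hw⟩)).mp h1
    exact Prod.ext (Subtype.ext h2.1) (Subtype.ext h2.2)
  set cls : (↥(W₁ ⊔ W₂) →* ℂˣ) → Option (IdxL W₁ W₂) × Option (IdxR W₁ W₂) :=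
    fun ω => (optOf (dec ω).1, optOf (dec ω).2) with hcls
  have hcls_inj : Function.Injective cls := by
    intro ω ω' h
    have h1 := optOf_injective (congrArg Prod.fst h)
    have h2 := optOf_injective (congrArg Prod.snd h)
    rw [← hdecω ω, ← hdecω ω', h1, h2]
  have hcls_mul : ∀ (φ : ↥(trivOn W₁ W₂ W₂)) (ψ : ↥(trivOn W₁ W₂ W₁)),
      cls ((φ : ↥(W₁ ⊔ W₂) →* ℂˣ) * (ψ : ↥(W₁ ⊔ W₂) →* ℂˣ)) = (optOf φ, optOf ψ) := by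
    intro φ ψ
    simp only [hcls]
    rw [hdec_unique]
  set χ : (↥(W₁ ⊔ W₂) →* ℂˣ) → (G → ℂ) := fun ω => toFun (vec X Y Z triv (cls ω)) with hχ
  have horth_vec := vec_orthonormal X Y Z triv hXX hYY hZZ hXY hXZ hYZ hXt hYt hZt
  have hcls_one : cls 1 = (none, none) := by
    have := hcls_mul 1 1
    rw [optOf_one, optOf_one] at this
    rw [← this]
    congr 1
    simp
  have hcls_L : ∀ i : IdxL W₁ W₂, cls ((i.1 : ↥(trivOn W₁ W₂ W₂)) : ↥(W₁ ⊔ W₂) →* ℂˣ)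
      = (some i, none) := by
    intro i
    have := hcls_mul i.1 1
    rw [optOf_ne, optOf_one] at this
    rw [← this]
    congr 1
    simp
  have hcls_R : ∀ j : IdxR W₁ W₂, cls ((j.1 : ↥(trivOn W₁ W₂ W₁)) : ↥(W₁ ⊔ W₂) →* ℂˣ)
      = (none, some j) := by
    intro j
    have := hcls_mul 1 j.1
    rw [optOf_ne, optOf_one] at this
    rw [← this]
    congr 1
    simp
  have hcls_LR : ∀ (i : IdxL W₁ W₂) (j : IdxR W₁ W₂),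
      cls (((i.1 : ↥(trivOn W₁ W₂ W₂)) : ↥(W₁ ⊔ W₂) →* ℂˣ)
        * ((j.1 : ↥(trivOn W₁ W₂ W₁)) : ↥(W₁ ⊔ W₂) →* ℂˣ)) = (some i, some j) := by
    intro i j
    have := hcls_mul i.1 j.1
    rw [optOf_ne, optOf_ne] at this
    exact this
  have horth : ∀ ω ω', classInner (χ ω) (χ ω')
      = @ite ℂ (ω = ω') (Classical.propDecidable _) 1 0 := by
    intro ω ω'
    simp only [hχ]
    rw [classInner_toFun, horth_vec]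
    by_cases h : ω = ω'
    · subst h
      simp
    · rw [if_neg h, if_neg (fun h' => h (hcls_inj h'))]
      simp
  have hone : χ 1 = fun _ => 1 := by
    simp only [hχ]
    rw [hcls_one]
    simp only [vec]
    rw [toFun_single]
    rfl
  have hind : ∀ φ ψ : ↥(W₁ ⊔ W₂) →* ℂˣ, φ ≠ 1 → ψ ≠ 1 →
      (∀ w : ↥(W₁ ⊔ W₂), (w : G) ∈ W₂ → φ w = 1) → (∀ w : ↥(W₁ ⊔ W₂), (w : G) ∈ W₁ → ψ w = 1) →
      indFun (W₁ ⊔ W₂) (alphaFun φ ψ) = fun g => 1 - χ φ g - χ ψ g + χ (φ * ψ) g := by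
    intro φ ψ h1 h2 hφ hψ
    obtain ⟨i, hi⟩ : ∃ i : IdxL W₁ W₂, ((i.1 : ↥(trivOn W₁ W₂ W₂)) : ↥(W₁ ⊔ W₂) →* ℂˣ) = φ :=
      ⟨⟨⟨φ, hφ⟩, fun h => h1 (congrArg Subtype.val h)⟩, rfl⟩
    obtain ⟨j, hj⟩ : ∃ j : IdxR W₁ W₂, ((j.1 : ↥(trivOn W₁ W₂ W₁)) : ↥(W₁ ⊔ W₂) →* ℂˣ) = ψ :=
      ⟨⟨⟨ψ, hψ⟩, fun h => h2 (congrArg Subtype.val h)⟩, rfl⟩
    subst hi hj
    have e1 : χ ((i.1 : ↥(trivOn W₁ W₂ W₂)) : ↥(W₁ ⊔ W₂) →* ℂˣ) = - toFun (X i) := by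
      simp only [hχ]
      rw [hcls_L]
      simp only [vec]
      rw [toFun_neg]
    have e2 : χ ((j.1 : ↥(trivOn W₁ W₂ W₁)) : ↥(W₁ ⊔ W₂) →* ℂˣ) = - toFun (Y j) := by
      simp only [hχ]
      rw [hcls_R]
      simp only [vec]
      rw [toFun_neg]
    have e3 : χ (((i.1 : ↥(trivOn W₁ W₂ W₂)) : ↥(W₁ ⊔ W₂) →* ℂˣ)
        * ((j.1 : ↥(trivOn W₁ W₂ W₁)) : ↥(W₁ ⊔ W₂) →* ℂˣ)) = toFun (Z i j) := by
      simp only [hχ]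
      rw [hcls_LR]
      rfl
    have h := hz i j
    rw [hdec i j, toFun_add, toFun_add] at h
    funext g
    have hg := congrFun h g
    simp only [Pi.add_apply, Pi.sub_apply] at hg
    rw [e1, e2, e3]
    simp only [Pi.neg_apply]
    linear_combination -hg
  refine ⟨χ, ⟨?_, horth, hone, ?_, hind⟩⟩
  · intro ω
    exact irr_or_neg_toFun _ (by rw [horth_vec, if_pos rfl])
  · exact eq_on_of W₁ W₂ hW χ
      (fun ω => Cfsg.Agent.Lib.Helper4.Dade.isClassFunction_of_isGeneralizedCharacter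
        (isGeneralizedCharacter_toFun _)) horth hone hind

end Cfsg.Agent.Lib.Helper4.CycEx
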