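import Mathlib
import Cfsg.Prelude.Def_Characters
import Cfsg.Agent.Lib.helper3.Central
import Cfsg.Agent.Lib.helper3.RepEquiv

/-!
# Extension of invariant irreducible representations over a cyclic quotient

If `N ⊴ G` with `G ⧸ N` cyclic and `ρ` is an irreducible complex representation of `N` whose
character is `G`-invariant, then `ρ` extends to an (irreducible) representation of `G` on the
same space.
-/

namespace Cfsg.Agent.Lib.Helper4.CyclicExt

open Cfsg Module

section rel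

variable {N : Type*} [Group N] {V : Type*} [AddCommGroup V] [Module ℂ V]

/-- Pairs `(φ, S)` of an automorphism of `N` and an invertible operator with
`ρ (φ x) S = S ρ x`. -/
def relSubgroup (ρu : N →* (Module.End ℂ V)ˣ) : Subgroup (MulAut N × (Module.End ℂ V)ˣ) where
  carrier := {p | ∀ x, ρu (p.1 x) * p.2 = p.2 * ρu x}
  mul_mem' := by
    intro p q hp hq x
    simp only [Set.mem_setOf_eq] at hp hq
    simp only [Prod.fst_mul, Prod.snd_mul, MulAut.mul_apply]
    rw [← mul_assoc, hp, mul_assoc, hq, mul_assoc]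
  one_mem' := by
    intro x
    simp
  inv_mem' := by
    intro p hp x
    simp only [Set.mem_setOf_eq] at hp
    simp only [Prod.fst_inv, Prod.snd_inv]
    have h := hp (p.1⁻¹ x)
    rw [MulAut.apply_inv_self] at h
    rw [eq_inv_mul_iff_mul_eq, ← mul_assoc, ← h, mul_assoc, mul_inv_cancel, mul_one]

theorem mem_relSubgroup (ρu : N →* (Module.End ℂ V)ˣ) (p : MulAut N × (Module.End ℂ V)ˣ) :
    p ∈ relSubgroup ρu ↔ ∀ x, ρu (p.1 x) * p.2 = p.2 * ρu x := Iff.rfl

end rel

/-- An irreducible representation of a normal subgroup `N` with cyclic quotient whose character is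
`G`-invariant extends to a representation of `G` on the same space. -/
theorem exists_extension {G : Type*} [Group G] [Finite G] (N : Subgroup G) [hN : N.Normal]
    (hcyc : IsCyclic (G ⧸ N)) {d : ℕ} (ρ : Representation ℂ N (Fin d → ℂ))
    (hirr : ρ.IsIrreducible)
    (hinv : ∀ (g : G) (n : N),
      ρ.character ⟨g * n * g⁻¹, hN.conj_mem (n : G) n.2 g⟩ = ρ.character n) :
    ∃ σ : Representation ℂ G (Fin d → ℂ), σ.IsIrreducible ∧ ∀ n : N, σ (n : G) = ρ n := by
  classical
  haveI : Fintype G := Fintype.ofFinite G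
  haveI : Fintype N := Fintype.ofFinite N
  haveI := hirr
  obtain ⟨q, hq⟩ := hcyc.exists_generator
  obtain ⟨g0, rfl⟩ := QuotientGroup.mk_surjective q
  let c : G →* MulAut N := MulAut.conjNormal
  let ρu : N →* (Module.End ℂ (Fin d → ℂ))ˣ := MonoidHom.toHomUnits ρ
  have hρu : ∀ x : N, ((ρu x : Module.End ℂ (Fin d → ℂ))) = ρ x := fun x => rfl
  -- Step a: the intertwiner `T`
  let ρ' : Representation ℂ N (Fin d → ℂ) := ρ.comp (c g0).toMonoidHom
  have hρ' : ∀ x : N, ρ' x = ρ (c g0 x) := fun x => rfl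
  have hchar : ρ.character = ρ'.character := by
    funext x
    have h1 := hinv g0 x
    have h2 : c g0 x = ⟨g0 * x * g0⁻¹, hN.conj_mem (x : G) x.2 g0⟩ := by
      apply Subtype.ext
      exact MulAut.conjNormal_apply g0 x
    show ρ.character x = LinearMap.trace ℂ _ (ρ' x)
    rw [hρ', h2, ← h1]
    rfl
  obtain ⟨e⟩ := Cfsg.Agent.Lib.helper3.Irr.nonempty_equiv_of_character_eq d (Fin d → ℂ)
    (Fin d → ℂ) ρ ρ' (by simp) hchar
  have heint : ∀ (x : N) (v : Fin d → ℂ), e (ρ x v) = ρ' x (e v) := fun x v =>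
    Representation.IntertwiningMap.isIntertwining _ _ e.toIntertwiningMap x v
  let T : (Module.End ℂ (Fin d → ℂ))ˣ :=
    ⟨e.toLinearEquiv.toLinearMap, e.toLinearEquiv.symm.toLinearMap,
      LinearMap.ext fun v => e.toLinearEquiv.apply_symm_apply v,
      LinearMap.ext fun v => e.toLinearEquiv.symm_apply_apply v⟩
  have hTv : ∀ v, (T : Module.End ℂ (Fin d → ℂ)) v = e v := fun v => rfl
  have hT : (c g0, T) ∈ relSubgroup ρu := by
    rw [mem_relSubgroup]
    intro x
    apply Units.ext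
    apply LinearMap.ext
    intro v
    show (ρu (c g0 x) : Module.End ℂ (Fin d → ℂ)) ((T : Module.End ℂ (Fin d → ℂ)) v) =
      (T : Module.End ℂ (Fin d → ℂ)) ((ρu x : Module.End ℂ (Fin d → ℂ)) v)
    rw [hρu, hρu, hTv, hTv, heint, hρ']
  -- Step c: normalise `T` so that `T ^ n = ρ (g0 ^ n)`
  set n : ℕ := orderOf (g0 : G ⧸ N) with hn
  have hnpos : 0 < n := orderOf_pos _
  have hmem : g0 ^ n ∈ N := by
    rw [← QuotientGroup.eq_one_iff, QuotientGroup.mk_pow, hn]
    exact pow_orderOf_eq_one _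
  let a : N := ⟨g0 ^ n, hmem⟩
  have hca : (c g0 ^ n, ρu a) ∈ relSubgroup ρu := by
    rw [mem_relSubgroup]
    intro x
    have h1 : (c g0 ^ n) x = a * x * a⁻¹ := by
      rw [← map_pow]
      apply Subtype.ext
      rw [MulAut.conjNormal_apply]
      rfl
    show ρu ((c g0 ^ n) x) * ρu a = ρu a * ρu x
    rw [h1, ← map_mul, ← map_mul]
    congr 1
    group
  have hTn : (c g0 ^ n, T ^ n) ∈ relSubgroup ρu := by
    have := (relSubgroup ρu).pow_mem hT n
    simpa using this
  obtain ⟨Z, hZ⟩ : ∃ Z : (Module.End ℂ (Fin d → ℂ))ˣ, Z = (T ^ n)⁻¹ * ρu a := ⟨_, rfl⟩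
  have hZrel : ((1 : MulAut N), Z) ∈ relSubgroup ρu := by
    have := (relSubgroup ρu).mul_mem ((relSubgroup ρu).inv_mem hTn) hca
    simpa [hZ] using this
  have hZcomm : ∀ x : N, ρu x * Z = Z * ρu x := by
    intro x
    have := (mem_relSubgroup ρu _).mp hZrel x
    simpa using this
  obtain ⟨lam, hlam⟩ := Cfsg.Agent.Lib.helper3.Central.exists_eq_smul_id ρ
    (Z : Module.End ℂ (Fin d → ℂ)) (by
      intro x v
      have h1 := congrArg (fun u : (Module.End ℂ (Fin d → ℂ))ˣ =>
        (u : Module.End ℂ (Fin d → ℂ)) v) (hZcomm x)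
      exact h1.symm)
  have hlam0 : lam ≠ 0 := by
    intro h0
    rw [h0, zero_smul] at hlam
    haveI := Cfsg.Agent.Lib.helper3.Central.nontrivial_of_irreducible ρ
    obtain ⟨v, hv⟩ := exists_ne (0 : Fin d → ℂ)
    apply hv
    have h1 : ((Z⁻¹ * Z : (Module.End ℂ (Fin d → ℂ))ˣ) : Module.End ℂ (Fin d → ℂ)) v = v := by
      rw [inv_mul_cancel]
      rfl
    rw [Units.val_mul, hlam, mul_zero] at h1
    exact h1.symm
  obtain ⟨mu, hmu⟩ := IsAlgClosed.exists_pow_nat_eq lam hnpos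
  have hmu0 : mu ≠ 0 := by
    intro h0
    rw [h0, zero_pow hnpos.ne'] at hmu
    exact hlam0 hmu.symm
  let U : (Module.End ℂ (Fin d → ℂ))ˣ :=
    Units.map (algebraMap ℂ (Module.End ℂ (Fin d → ℂ))).toMonoidHom (Units.mk0 mu hmu0)
  have hUc : ∀ S : (Module.End ℂ (Fin d → ℂ))ˣ, U * S = S * U := by
    intro S
    apply Units.ext
    exact Algebra.commutes mu (S : Module.End ℂ (Fin d → ℂ))
  have hUn : U ^ n = Z := by
    apply Units.ext
    rw [hlam, Units.val_pow_eq_pow_val]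
    show (algebraMap ℂ (Module.End ℂ (Fin d → ℂ)) mu) ^ n = _
    rw [← map_pow, hmu, Algebra.algebraMap_eq_smul_one]
    rfl
  have hUrel : ((1 : MulAut N), U) ∈ relSubgroup ρu := by
    rw [mem_relSubgroup]
    intro x
    exact (hUc _).symm
  obtain ⟨T', hT'⟩ : ∃ T' : (Module.End ℂ (Fin d → ℂ))ˣ, T' = T * U := ⟨_, rfl⟩
  have hT'rel : (c g0, T') ∈ relSubgroup ρu := by
    have := (relSubgroup ρu).mul_mem hT hUrel
    simpa [hT'] using this
  have hT'n : T' ^ n = ρu a := by
    rw [hT', (show Commute T U from (hUc T).symm).mul_pow, hUn, hZ, mul_inv_cancel_left]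
  have hT'z : ∀ j : ℤ, (c g0 ^ j, T' ^ j) ∈ relSubgroup ρu := by
    intro j
    have := (relSubgroup ρu).zpow_mem hT'rel j
    simpa using this
  -- Step d: the extension
  have hex : ∀ g : G, ∃ p : ℤ × N, g = g0 ^ p.1 * (p.2 : G) := by
    intro g
    obtain ⟨i, hi⟩ := Subgroup.mem_zpowers_iff.mp (hq (g : G ⧸ N))
    have h1 : (g0 ^ i)⁻¹ * g ∈ N := by
      rw [← QuotientGroup.eq, QuotientGroup.mk_zpow]
      exact hi
    exact ⟨(i, ⟨(g0 ^ i)⁻¹ * g, h1⟩), by simp⟩
  choose pf hpf using hex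
  have key : ∀ (i : ℤ) (x : N) (j : ℤ) (y : N), g0 ^ i * (x : G) = g0 ^ j * (y : G) →
      T' ^ i * ρu x = T' ^ j * ρu y := by
    intro i x j y h
    have h1 : g0 ^ (i - j) = (y : G) * (x : G)⁻¹ := by
      have hy : (y : G) = (g0 ^ j)⁻¹ * (g0 ^ i * x) := by rw [h]; group
      rw [hy]
      group
    have h2 : ((g0 : G ⧸ N)) ^ (i - j) = 1 := by
      rw [← QuotientGroup.mk_zpow, QuotientGroup.eq_one_iff, h1]
      exact N.mul_mem y.2 (N.inv_mem x.2)
    obtain ⟨k, hk⟩ := orderOf_dvd_iff_zpow_eq_one.mpr h2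
    have hi : i = j + (n : ℤ) * k := by rw [← hn] at hk; omega
    have hy : y = a ^ k * x := by
      apply Subtype.ext
      have : (y : G) = g0 ^ (i - j) * x := by rw [h1]; group
      rw [this, hi]
      simp only [Subgroup.coe_mul, Subgroup.coe_zpow]
      show _ = (g0 ^ n) ^ k * (x : G)
      rw [add_sub_cancel_left, zpow_mul, zpow_natCast]
    rw [hi, zpow_add, zpow_mul, zpow_natCast, hT'n, hy, map_mul, map_zpow, mul_assoc]
  let F : G → (Module.End ℂ (Fin d → ℂ))ˣ := fun g => T' ^ (pf g).1 * ρu (pf g).2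
  have hF : ∀ (i : ℤ) (x : N), F (g0 ^ i * (x : G)) = T' ^ i * ρu x := by
    intro i x
    exact key _ _ _ _ (hpf _).symm
  have hFmul : ∀ g h : G, F (g * h) = F g * F h := by
    intro g h
    obtain ⟨i, x, hg⟩ : ∃ (i : ℤ) (x : N), g = g0 ^ i * (x : G) := ⟨_, _, hpf g⟩
    obtain ⟨j, y, hh⟩ : ∃ (j : ℤ) (y : N), h = g0 ^ j * (y : G) := ⟨_, _, hpf h⟩
    have h1 : g * h = g0 ^ (i + j) * (((c g0 ^ (-j)) x * y : N) : G) := by
      rw [hg, hh, ← map_zpow, Subgroup.coe_mul, MulAut.conjNormal_apply]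
      group
    have h2 := (mem_relSubgroup ρu _).mp (hT'z (-j)) x
    simp only at h2
    have h3 : ρu ((c g0 ^ (-j)) x) = T' ^ (-j) * ρu x * (T' ^ (-j))⁻¹ := by
      rw [eq_mul_inv_iff_mul_eq, h2]
    rw [h1, hF, hg, hh, hF, hF, map_mul, h3]
    group
  let σu : G →* (Module.End ℂ (Fin d → ℂ))ˣ := MonoidHom.mk' F hFmul
  let σ : Representation ℂ G (Fin d → ℂ) :=
    (Units.coeHom (Module.End ℂ (Fin d → ℂ))).comp σu
  have hσ : ∀ x : N, σ (x : G) = ρ x := by
    intro x
    show ((F (x : G) : (Module.End ℂ (Fin d → ℂ))ˣ) : Module.End ℂ (Fin d → ℂ)) = ρ x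
    have := hF 0 x
    rw [zpow_zero, one_mul, zpow_zero, one_mul] at this
    rw [this]
    rfl
  refine ⟨σ, ?_, hσ⟩
  let R : Subrepresentation σ → Subrepresentation ρ := fun U =>
    { toSubmodule := U.toSubmodule
      apply_mem_toSubmodule := by
        intro x v hv
        rw [← hσ x]
        exact U.apply_mem_toSubmodule (x : G) hv }
  have hR : ∀ U : Subrepresentation σ, (R U).toSubmodule = U.toSubmodule := fun U => rfl
  refine { exists_pair_ne := ⟨⊥, ⊤, ?_⟩, eq_bot_or_eq_top := ?_ }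
  · intro h
    have h1 : (⊥ : Submodule ℂ (Fin d → ℂ)) = ⊤ := congrArg Subrepresentation.toSubmodule h
    have h2 : (⊥ : Subrepresentation ρ) = ⊤ := by
      apply Subrepresentation.toSubmodule_injective
      exact h1
    exact bot_ne_top h2
  · intro U
    rcases eq_bot_or_eq_top (R U) with h | h
    · left
      apply Subrepresentation.toSubmodule_injective
      have h1 : (R U).toSubmodule = ⊥ := congrArg Subrepresentation.toSubmodule h
      rw [hR] at h1
      exact h1
    · right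
      apply Subrepresentation.toSubmodule_injective
      have h1 : (R U).toSubmodule = ⊤ := congrArg Subrepresentation.toSubmodule h
      rw [hR] at h1
      exact h1

/-- Character form: a `G`-invariant irreducible character of a normal subgroup `N` with `G ⧸ N`
cyclic extends to an irreducible character of `G`. -/
theorem exists_irr_extension {G : Type*} [Group G] [Finite G] (N : Subgroup G) [hN : N.Normal]
    (hcyc : IsCyclic (G ⧸ N)) (ϑ : N → ℂ) (hϑ : IsIrrCharacter N ϑ)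
    (hinv : ∀ (g : G) (n : N), ϑ ⟨g * n * g⁻¹, hN.conj_mem (n : G) n.2 g⟩ = ϑ n) :
    ∃ χ : G → ℂ, IsIrrCharacter G χ ∧ ∀ n : N, χ n = ϑ n := by
  obtain ⟨d, ρ, hirr, hρ⟩ := hϑ
  subst hρ
  obtain ⟨σ, hσirr, hσ⟩ := exists_extension N hcyc ρ hirr hinv
  refine ⟨σ.character, ⟨d, σ, hσirr, rfl⟩, ?_⟩
  intro x
  show LinearMap.trace ℂ _ (σ (x : G)) = LinearMap.trace ℂ _ (ρ x)
  rw [hσ]

end Cfsg.Agent.Lib.Helper4.CyclicExt
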