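import Mathlib

set_option autoImplicit false

namespace Cfsg.Agent.Lib.Helper4.PrimeDegInv

variable {p : ℕ} [hp : Fact p.Prime]

/-- a permutation of order `p` of a set with `p` elements becomes the translation by one under a
suitable labelling -/
theorem labelling_of_order {α : Type*} [Fintype α] [DecidableEq α] (hα : Fintype.card α = p)
    (g₀ : Equiv.Perm α) (hord : orderOf g₀ = p) :
    ∃ e : α ≃ ZMod p, ∀ a, e (g₀ a) = e a + 1 := by
  classical
  have hpp := hp.out
  have hne : Nonempty α := by
    rw [← Fintype.card_pos_iff, hα]; exact hpp.pos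
  obtain ⟨a₀⟩ := hne
  have hcyc : g₀.IsCycle := by
    apply Equiv.Perm.isCycle_of_prime_order' (by rw [hord]; exact hpp)
    rw [hord, hα]; have := hpp.pos; omega
  have hsupp : g₀.support = Finset.univ := by
    apply Finset.eq_univ_of_card
    rw [← hcyc.orderOf, hord, hα]
  have hmove : ∀ a : α, g₀ a ≠ a := by
    intro a
    rw [← Equiv.Perm.mem_support, hsupp]; exact Finset.mem_univ a
  let f : ZMod p → α := fun i => (g₀ ^ i.val) a₀
  have hpow : ∀ n : ℕ, (g₀ ^ (n % p)) a₀ = (g₀ ^ n) a₀ := by
    intro n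
    conv_rhs => rw [← pow_mod_orderOf, hord]
  have hsurj : Function.Surjective f := by
    intro b
    obtain ⟨i, hi⟩ := hcyc.exists_pow_eq (hmove a₀) (hmove b)
    refine ⟨(i : ZMod p), ?_⟩
    show (g₀ ^ ((i : ZMod p)).val) a₀ = b
    rw [ZMod.val_natCast, hpow, hi]
  have hbij : Function.Bijective f := by
    rw [Fintype.bijective_iff_surjective_and_card]
    exact ⟨hsurj, by rw [ZMod.card, hα]⟩
  let e₀ : ZMod p ≃ α := Equiv.ofBijective f hbij
  refine ⟨e₀.symm, ?_⟩
  intro a
  obtain ⟨i, rfl⟩ := e₀.surjective a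
  rw [Equiv.symm_apply_apply, Equiv.symm_apply_eq]
  show g₀ ((g₀ ^ i.val) a₀) = (g₀ ^ (i + 1).val) a₀
  rw [ZMod.val_add, hpow, ZMod.val_one'' (by have := hpp.two_le; omega), pow_succ']
  rfl

/-- a function on `ZMod p` with constant increments is affine -/
theorem affine_of_step (F : ZMod p → ZMod p) (k : ZMod p) (h : ∀ i, F (i + 1) = F i + k) :
    ∀ i, F i = F 0 + k * i := by
  have h2 : ∀ n : ℕ, F (n : ZMod p) = F 0 + k * n := by
    intro n
    induction n with
    | zero => simp
    | succ n ih => rw [Nat.cast_succ, h, ih]; ring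
  intro i
  have := h2 i.val
  rwa [ZMod.natCast_zmod_val] at this

/-- the `p`-part of the order of a permutation group of degree `p` -/
theorem not_sq_dvd_card {α : Type*} [Fintype α] [DecidableEq α] (hα : Fintype.card α = p)
    (G : Subgroup (Equiv.Perm α)) : ¬ p ^ 2 ∣ Nat.card G := by
  intro h
  have h1 : Nat.card G ∣ Nat.card (Equiv.Perm α) := Subgroup.card_subgroup_dvd_card G
  rw [Nat.card_eq_fintype_card (α := Equiv.Perm α), Fintype.card_perm, hα] at h1
  have h2 := h.trans h1
  have hpp := hp.out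
  have h3 : p ^ 2 ∣ p * (p - 1).factorial := by
    have : p.factorial = p * (p - 1).factorial := (Nat.mul_factorial_pred hpp.pos.ne').symm
    rwa [this] at h2
  rw [pow_two] at h3
  have h4 : p ∣ (p - 1).factorial := Nat.dvd_of_mul_dvd_mul_left hpp.pos h3
  rw [hpp.dvd_factorial] at h4
  have := hpp.pos
  omega



theorem two_ne_zero_zmod (hp2 : p ≠ 2) : (2 : ZMod p) ≠ 0 := by
  intro h
  have h2 : ((2 : ℕ) : ZMod p) = 0 := by exact_mod_cast h
  rw [ZMod.natCast_eq_zero_iff] at h2
  have := (Nat.prime_dvd_prime_iff_eq hp.out Nat.prime_two).mp h2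
  exact hp2 this

/-- from an even Sylow normaliser: a labelling by `ZMod p` for which `G` contains the translation
by one and the negation -/
theorem exists_inverting {α : Type*} [Fintype α] [DecidableEq α] (hα : Fintype.card α = p)
    (hp2 : p ≠ 2) (G : Subgroup (Equiv.Perm α)) [MulAction.IsPretransitive G α] (P : Sylow p G)
    (heven : Even (Nat.card (Subgroup.normalizer ((P : Subgroup G) : Set G)))) :
    ∃ (e : α ≃ ZMod p) (g₀ t : Equiv.Perm α), g₀ ∈ G ∧ t ∈ G ∧ (∀ a, e (g₀ a) = e a + 1) ∧
      (∀ a, e (t a) = - e a) := by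
  classical
  have hpp := hp.out
  have hne : Nonempty α := by
    rw [← Fintype.card_pos_iff, hα]; exact hpp.pos
  obtain ⟨a₀⟩ := hne
  have hdvd : p ∣ Nat.card G := by
    have h1 := MulAction.index_stabilizer_of_transitive G a₀
    rw [Nat.card_eq_fintype_card, hα] at h1
    rw [← h1]
    exact Subgroup.index_dvd_card _
  have hfac : (Nat.card G).factorization p = 1 := by
    have h1 : 1 ≤ (Nat.card G).factorization p :=
      (hpp.dvd_iff_one_le_factorization Nat.card_pos.ne').mp hdvd
    have h2 : ¬ 2 ≤ (Nat.card G).factorization p := by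
      intro h
      apply not_sq_dvd_card hα G
      exact (Nat.Prime.pow_dvd_iff_le_factorization hpp Nat.card_pos.ne').mpr h
    omega
  have hPcard : Nat.card (P : Subgroup G) = p := by
    rw [Sylow.card_eq_multiplicity, hfac, pow_one]
  -- a generator of `P`
  have hPne : (P : Subgroup G) ≠ ⊥ := by
    intro h
    rw [h, Subgroup.card_bot] at hPcard
    exact hpp.one_lt.ne hPcard
  obtain ⟨x, hxP, hx1⟩ := ((P : Subgroup G).bot_or_exists_ne_one).resolve_left hPne
  have hxord : orderOf x = p := by
    have h1 : orderOf (⟨x, hxP⟩ : (P : Subgroup G)) ∣ p := by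
      have := orderOf_dvd_natCard (⟨x, hxP⟩ : (P : Subgroup G))
      rwa [hPcard] at this
    rw [Subgroup.orderOf_mk] at h1
    rcases (Nat.dvd_prime hpp).mp h1 with h | h
    · exact absurd (orderOf_eq_one_iff.mp h) hx1
    · exact h
  -- `P` consists of the powers of `x`
  have hPpow : ∀ y ∈ (P : Subgroup G), ∃ k : ℕ, x ^ k = y := by
    intro y hy
    have htop : Subgroup.zpowers (⟨x, hxP⟩ : (P : Subgroup G)) = ⊤ := by
      apply Subgroup.eq_top_of_card_eq
      rw [Nat.card_zpowers, Subgroup.orderOf_mk, hxord, hPcard]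
    have hmem : (⟨y, hy⟩ : (P : Subgroup G)) ∈ Subgroup.zpowers (⟨x, hxP⟩ : (P : Subgroup G)) := by
      rw [htop]; trivial
    rw [← mem_powers_iff_mem_zpowers] at hmem
    obtain ⟨k, hk⟩ := hmem
    exact ⟨k, congrArg Subtype.val hk⟩
  -- an involution in the normaliser
  have : Fact (Nat.Prime 2) := ⟨Nat.prime_two⟩
  obtain ⟨t₀, ht₀⟩ := exists_prime_orderOf_dvd_card'
    (G := Subgroup.normalizer ((P : Subgroup G) : Set G)) 2 (even_iff_two_dvd.mp heven)
  have ht₀G : orderOf (t₀ : G) = 2 := by rw [Subgroup.orderOf_coe, ht₀]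
  obtain ⟨k, hk⟩ := hPpow ((t₀ : G) * x * (t₀ : G)⁻¹)
    ((Subgroup.mem_normalizer_iff.mp t₀.2 x).mp hxP)
  -- pass to permutations
  set g₀ : Equiv.Perm α := (x : Equiv.Perm α) with hg₀
  set t : Equiv.Perm α := ((t₀ : G) : Equiv.Perm α) with ht
  have hg₀ord : orderOf g₀ = p := by rw [hg₀, Subgroup.orderOf_coe, hxord]
  have htord : orderOf t = 2 := by rw [ht, Subgroup.orderOf_coe, ht₀G]
  have hconj : t * g₀ * t⁻¹ = g₀ ^ k := by
    have := congrArg (fun z : G => (z : Equiv.Perm α)) hk
    simp only [Subgroup.coe_pow, Subgroup.coe_mul, Subgroup.coe_inv] at this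
    exact this.symm
  have ht2 : t * t = 1 := by
    rw [← pow_two, ← htord]; exact pow_orderOf_eq_one t
  obtain ⟨e, he⟩ := labelling_of_order hα g₀ hg₀ord
  have hepow : ∀ (n : ℕ) (a : α), e ((g₀ ^ n) a) = e a + n := by
    intro n
    induction n with
    | zero => intro a; simp
    | succ n ih =>
      intro a
      rw [pow_succ', Equiv.Perm.mul_apply, he, ih]
      push_cast
      ring
  obtain ⟨F, hFdef⟩ : ∃ F : ZMod p → ZMod p, ∀ i, F i = e (t (e.symm i)) := ⟨_, fun _ => rfl⟩
  have hF : ∀ a, F (e a) = e (t a) := fun a => by rw [hFdef, Equiv.symm_apply_apply]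
  have htg : ∀ b, t (g₀ b) = (g₀ ^ k) (t b) := by
    intro b
    rw [← hconj]
    simp only [Equiv.Perm.mul_apply]
    have : t⁻¹ (t b) = b := t.symm_apply_apply b
    rw [this]
  have hstep : ∀ i, F (i + 1) = F i + (k : ZMod p) := by
    intro i
    obtain ⟨a, rfl⟩ := e.surjective i
    rw [← he, hF, hF, htg, hepow]
  have haff := affine_of_step F (k : ZMod p) hstep
  have hFF : ∀ i, F (F i) = i := by
    intro i
    obtain ⟨a, rfl⟩ := e.surjective i
    rw [hF, hF]
    have : t (t a) = a := by
      have := congrArg (fun z : Equiv.Perm α => z a) ht2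
      simpa using this
    rw [this]
  set c := F 0 with hc
  set κ : ZMod p := (k : ZMod p) with hκ
  have h0 : c + κ * c = 0 := by
    have := hFF 0
    rw [haff (F 0), ← hc] at this
    exact this
  have h1 : κ * κ = 1 := by
    have := hFF 1
    rw [haff (F 1), haff 1, mul_one] at this
    linear_combination this - h0
  have hκ' : κ = 1 ∨ κ = -1 := by
    have : (κ - 1) * (κ + 1) = 0 := by linear_combination h1
    rcases mul_eq_zero.mp this with h | h
    · left; exact sub_eq_zero.mp h
    · right; exact eq_neg_of_add_eq_zero_left h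
  have h2ne := two_ne_zero_zmod (p := p) hp2
  rcases hκ' with hκ1 | hκ1
  · -- impossible: `t` would be trivial
    exfalso
    rw [hκ1, one_mul] at h0
    have hc0 : c = 0 := by
      have : (2 : ZMod p) * c = 0 := by linear_combination h0
      exact (mul_eq_zero.mp this).resolve_left h2ne
    have htriv : t = 1 := by
      ext a
      apply e.injective
      rw [← hF, haff (e a), hc0, hκ1, one_mul, zero_add]
      rfl
    rw [htriv, orderOf_one] at htord
    omega
  · -- the inverting case; recentre
    refine ⟨e.trans (Equiv.subRight (c / 2)), g₀, t, x.2, (t₀ : G).2, ?_, ?_⟩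
    · intro a
      simp only [Equiv.trans_apply, Equiv.subRight_apply]
      rw [he]; ring
    · intro a
      simp only [Equiv.trans_apply, Equiv.subRight_apply]
      rw [← hF, haff (e a), hκ1]
      field_simp
      ring

end Cfsg.Agent.Lib.Helper4.PrimeDegInv
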