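import Mathlib

set_option autoImplicit false

namespace Cfsg.Agent.Lib.Helper4.PrimeDegLabel

variable {p : ℕ} [hp : Fact p.Prime]

/-- a transitive group of prime degree `p` contains a `p`-cycle, which becomes the translation
by one under a suitable labelling of the points by `ZMod p` -/
theorem exists_labelling {α : Type*} [Fintype α] [DecidableEq α] (hα : Fintype.card α = p)
    (G : Subgroup (Equiv.Perm α)) [MulAction.IsPretransitive G α] :
    ∃ (e : α ≃ ZMod p) (g₀ : Equiv.Perm α), g₀ ∈ G ∧ ∀ a, e (g₀ a) = e a + 1 := by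
  classical
  have hpp := hp.out
  have hne : Nonempty α := by
    rw [← Fintype.card_pos_iff, hα]; exact hpp.pos
  obtain ⟨a₀⟩ := hne
  have hdvd : p ∣ Nat.card G := by
    have h1 := MulAction.index_stabilizer_of_transitive G a₀
    rw [Nat.card_eq_fintype_card, hα] at h1
    rw [← h1]
    exact Subgroup.index_dvd_card _
  obtain ⟨x, hx⟩ := exists_prime_orderOf_dvd_card' p hdvd
  set g₀ : Equiv.Perm α := (x : Equiv.Perm α) with hg₀
  have hord : orderOf g₀ = p := by rw [hg₀, Subgroup.orderOf_coe, hx]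
  have hcyc : g₀.IsCycle := by
    apply Equiv.Perm.isCycle_of_prime_order' (by rw [hord]; exact hpp)
    rw [hord, hα]; have := hpp.pos; omega
  have hsupp : g₀.support = Finset.univ := by
    apply Finset.eq_univ_of_card
    rw [← hcyc.orderOf, hord, hα]
  have hmove : ∀ a : α, g₀ a ≠ a := by
    intro a
    rw [← Equiv.Perm.mem_support, hsupp]; exact Finset.mem_univ a
  let f : ZMod p → α := fun i => (g₀ ^ i.val) a₀
  have hpow : ∀ n : ℕ, (g₀ ^ (n % p)) a₀ = (g₀ ^ n) a₀ := by
    intro n
    conv_rhs => rw [← pow_mod_orderOf, hord]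
  have hsurj : Function.Surjective f := by
    intro b
    obtain ⟨i, hi⟩ := hcyc.exists_pow_eq (hmove a₀) (hmove b)
    refine ⟨(i : ZMod p), ?_⟩
    show (g₀ ^ ((i : ZMod p)).val) a₀ = b
    rw [ZMod.val_natCast, hpow, hi]
  have hbij : Function.Bijective f := by
    rw [Fintype.bijective_iff_surjective_and_card]
    exact ⟨hsurj, by rw [ZMod.card, hα]⟩
  let e₀ : ZMod p ≃ α := Equiv.ofBijective f hbij
  refine ⟨e₀.symm, g₀, x.2, ?_⟩
  intro a
  obtain ⟨i, rfl⟩ := e₀.surjective a
  rw [Equiv.symm_apply_apply, Equiv.symm_apply_eq]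
  show g₀ ((g₀ ^ i.val) a₀) = (g₀ ^ (i + 1).val) a₀
  rw [ZMod.val_add, hpow, ZMod.val_one'' (by have := hpp.two_le; omega), pow_succ']
  rfl

end Cfsg.Agent.Lib.Helper4.PrimeDegLabel
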