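import Cfsg.Agent.Lib.Helper4.PrimeDeg
import Cfsg.Agent.Lib.Helper4.PrimeDegLabel

set_option autoImplicit false
set_option linter.unusedSectionVars false

namespace Cfsg.Agent.Lib.Helper4.PrimeDegT

open Cfsg.Agent.Lib.Helper4.PrimeDeg Cfsg.Agent.Lib.Helper4.PrimeDegLabel

variable {p : ℕ} [hp : Fact p.Prime]

/-- transport of a permutation group along a labelling -/
noncomputable def transport {α : Type*} (e : α ≃ ZMod p) (G : Subgroup (Equiv.Perm α)) :
    Subgroup (Equiv.Perm (ZMod p)) := G.map (e.permCongrHom : Equiv.Perm α ≃* Equiv.Perm (ZMod p)).toMonoidHom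

theorem mem_transport {α : Type*} (e : α ≃ ZMod p) (G : Subgroup (Equiv.Perm α))
    (x' : Equiv.Perm (ZMod p)) : x' ∈ transport e G ↔ ∃ x ∈ G, ∀ a, x' (e a) = e (x a) := by
  unfold transport
  rw [Subgroup.mem_map]
  constructor
  · rintro ⟨x, hx, rfl⟩
    refine ⟨x, hx, fun a => ?_⟩
    simp [Equiv.permCongrHom]
  · rintro ⟨x, hx, h⟩
    refine ⟨x, hx, ?_⟩
    ext j
    have := h (e.symm j)
    rw [Equiv.apply_symm_apply] at this
    rw [this]
    simp [Equiv.permCongrHom]

theorem tau_mem_transport {α : Type*} (e : α ≃ ZMod p) (G : Subgroup (Equiv.Perm α))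
    (g₀ : Equiv.Perm α) (hg₀ : g₀ ∈ G) (he : ∀ a, e (g₀ a) = e a + 1) : tau p ∈ transport e G := by
  rw [mem_transport]
  exact ⟨g₀, hg₀, fun a => by rw [tau_apply, he]⟩

theorem solvable_of_transport {α : Type*} (e : α ≃ ZMod p) (G : Subgroup (Equiv.Perm α))
    (h : Group.IsSolvable (transport e G)) : Group.IsSolvable G := by
  let ψ := G.equivMapOfInjective (e.permCongrHom : Equiv.Perm α ≃* Equiv.Perm (ZMod p)).toMonoidHom
    (e.permCongrHom : Equiv.Perm α ≃* Equiv.Perm (ZMod p)).injective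
  have : Group.IsSolvable ↥(Subgroup.map (e.permCongrHom : Equiv.Perm α ≃* Equiv.Perm (ZMod p)).toMonoidHom G) := h
  exact Group.isSolvable_of_isSolvable_injective (f := ψ.toMonoidHom) ψ.injective

end Cfsg.Agent.Lib.Helper4.PrimeDegT
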