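import Cfsg.Agent.Lib.Helper4.PrimeDegComm
import Cfsg.Agent.Lib.Helper4.PrimeDegT

set_option autoImplicit false
set_option linter.unusedSectionVars false

namespace Cfsg.Agent.Lib.Helper4.PrimeDegBurnside

open Cfsg.Agent.Lib.Helper4.PrimeDeg Cfsg.Agent.Lib.Helper4.PrimeDegComm

theorem aff3 : ∀ x : Equiv.Perm (ZMod 3), ∀ ξ : ZMod 3, x ξ = (x 1 - x 0) * ξ + x 0 := by
  decide

theorem aff2 : ∀ x : Equiv.Perm (ZMod 2), ∀ ξ : ZMod 2, x ξ = (x 1 - x 0) * ξ + x 0 := by
  decide

/-- Burnside's theorem for groups containing the translation -/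
theorem core {p : ℕ} [hp : Fact p.Prime] (G : Subgroup (Equiv.Perm (ZMod p))) (hτ : tau p ∈ G)
    (hns : ¬ Group.IsSolvable G) {a b c d : ZMod p} (hab : a ≠ b) (hcd : c ≠ d) :
    ∃ g ∈ G, g a = c ∧ g b = d := by
  by_contra hno
  have hpp := hp.out
  rcases Nat.lt_or_ge p 5 with h5 | h5
  · have h23 : p = 2 ∨ p = 3 := by
      have := hpp.two_le
      have h4 : p ≠ 4 := by
        rintro rfl
        norm_num at hpp
      omega
    apply hns
    rcases h23 with rfl | rfl
    · exact solvable_of_affine G (fun x _ => aff2 x)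
    · exact solvable_of_affine G (fun x _ => aff3 x)
  · obtain ⟨W, hW, h2, hle⟩ := exists_inv h5 G hτ hab hcd hno
    have := finrank_of_inv (K := ZMod p) G hτ hns W hW
    omega

end Cfsg.Agent.Lib.Helper4.PrimeDegBurnside
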