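import Mathlib
import Cfsg.Agent.Lib.Helper4.PermSylow
import Cfsg.Agent.Lib.Helper4.PrimeDegInv
import Cfsg.Agent.Lib.Helper4.Simple
import Cfsg.Agent.S0675

set_option autoImplicit false
set_option linter.unusedSectionVars false
set_option linter.style.haveILetI false

/-!
# Tools for transitive groups of small prime degree
-/

namespace Cfsg.Agent.Lib.Helper4.DegSeven

open Equiv

/-- the order of a multiply transitive group -/
theorem descFactorial_dvd_card {α : Type*} [Fintype α] [DecidableEq α] (G : Subgroup (Perm α))
    (n : ℕ) (hn : n ≤ Fintype.card α) (hG : MulAction.IsMultiplyPretransitive G α n) :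
    (Fintype.card α).descFactorial n ∣ Nat.card G := by
  have hne : Nonempty (Fin n ↪ α) := by
    apply Function.Embedding.nonempty_of_card_le
    rwa [Fintype.card_fin]
  obtain ⟨x⟩ := hne
  have h1 := @MulAction.index_stabilizer_of_transitive G (Fin n ↪ α) _ _ x hG
  have h2 : Nat.card (Fin n ↪ α) = (Fintype.card α).descFactorial n := by
    rw [Nat.card_eq_fintype_card, Fintype.card_embedding_eq, Fintype.card_fin]
  rw [← h2, ← h1]
  exact Subgroup.index_dvd_card _

/-- the order of a Sylow `p`-subgroup of a transitive group of degree `p` -/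
theorem card_sylow {p : ℕ} [hp : Fact p.Prime] {α : Type*} [Fintype α] [DecidableEq α]
    (hα : Fintype.card α = p) (G : Subgroup (Perm α)) [MulAction.IsPretransitive G α]
    (P : Sylow p G) : Nat.card (P : Subgroup G) = p := by
  have hpp := hp.out
  have hne : Nonempty α := by
    rw [← Fintype.card_pos_iff, hα]; exact hpp.pos
  obtain ⟨a₀⟩ := hne
  have hdvd : p ∣ Nat.card G := by
    have h1 := MulAction.index_stabilizer_of_transitive G a₀
    rw [Nat.card_eq_fintype_card, hα] at h1
    rw [← h1]
    exact Subgroup.index_dvd_card _
  have hfac : (Nat.card G).factorization p = 1 := by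
    have h1 : 1 ≤ (Nat.card G).factorization p :=
      (hpp.dvd_iff_one_le_factorization Nat.card_pos.ne').mp hdvd
    have h2 : ¬ 2 ≤ (Nat.card G).factorization p := by
      intro h
      apply Cfsg.Agent.Lib.Helper4.PrimeDegInv.not_sq_dvd_card hα G
      exact (Nat.Prime.pow_dvd_iff_le_factorization hpp Nat.card_pos.ne').mpr h
    omega
  rw [Sylow.card_eq_multiplicity, hfac, pow_one]

/-- the Sylow normaliser of a transitive group of prime degree has order dividing `p (p - 1)` -/
theorem card_normalizer_dvd {p : ℕ} [hp : Fact p.Prime] {α : Type*} [Fintype α] [DecidableEq α]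
    (hα : Fintype.card α = p) (G : Subgroup (Perm α)) [MulAction.IsPretransitive G α]
    (P : Sylow p G) :
    Nat.card (Subgroup.normalizer ((P : Subgroup G) : Set G)) ∣ p * (p - 1) := by
  have hPcard := card_sylow hα G P
  set P' : Subgroup (Perm α) := (P : Subgroup G).map G.subtype with hP'
  have hP'card : Nat.card P' = p := by
    rw [hP', Subgroup.card_map_of_injective (Subgroup.subtype_injective G), hPcard]
  have hP'p : IsPGroup p P' := by
    apply IsPGroup.of_card (n := 1)
    rw [hP'card, pow_one]
  obtain ⟨Q, hQ⟩ := hP'p.exists_le_sylow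
  have hQcard := Cfsg.Agent.Lib.Helper4.PermSylow.card_sylow_perm p (Or.inl hα) Q
  have hPQ : P' = (Q : Subgroup (Perm α)) := by
    apply Subgroup.eq_of_le_of_card_ge hQ
    rw [hQcard, hP'card]
  have hle : (Subgroup.normalizer ((P : Subgroup G) : Set G)).map G.subtype ≤
      Subgroup.normalizer ((Q : Subgroup (Perm α)) : Set (Perm α)) := by
    rintro _ ⟨g, hg, rfl⟩
    rw [← hPQ]
    rw [Subgroup.mem_normalizer_iff]
    intro x
    constructor
    · rintro ⟨y, hy, rfl⟩
      refine ⟨g * y * g⁻¹, (Subgroup.mem_normalizer_iff.mp hg y).mp hy, ?_⟩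
      simp
    · rintro ⟨y, hy, hyx⟩
      have hxG : x ∈ G := by
        have h1 : G.subtype g * x * (G.subtype g)⁻¹ ∈ G := by
          rw [← hyx]
          exact y.2
        have h2 := G.mul_mem (G.mul_mem (G.inv_mem g.2) h1) g.2
        simpa [mul_assoc] using h2
      refine ⟨⟨x, hxG⟩, ?_, rfl⟩
      apply (Subgroup.mem_normalizer_iff.mp hg ⟨x, hxG⟩).mpr
      have : g * ⟨x, hxG⟩ * g⁻¹ = y := by
        apply Subtype.ext
        simpa using hyx.symm
      rw [this]
      exact hy
  have h1 := Subgroup.card_dvd_of_le hle
  rw [Subgroup.card_map_of_injective (Subgroup.subtype_injective G),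
    Cfsg.Agent.Lib.Helper4.PermSylow.card_normalizer_sylow_perm p (Or.inl hα) Q] at h1
  exact h1

/-- a nontrivial normal subgroup of a transitive group of prime degree is transitive -/
theorem isPretransitive_of_normal {p : ℕ} [hp : Fact p.Prime] {α : Type*} [Fintype α]
    [DecidableEq α] (hα : Fintype.card α = p) (G : Subgroup (Perm α))
    [MulAction.IsPretransitive G α] (M : Subgroup G) [M.Normal] (hM : M ≠ ⊥) :
    MulAction.IsPretransitive M α := by
  haveI : MulAction.IsPreprimitive G α := by
    apply MulAction.IsPreprimitive.of_prime_card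
    rw [Nat.card_eq_fintype_card, hα]
    exact hp.out
  apply MulAction.IsQuasiPreprimitive.isPretransitive_of_normal (G := G)
  intro h
  apply hM
  rw [eq_bot_iff]
  intro g hg
  rw [Subgroup.mem_bot]
  apply Subtype.ext
  ext a
  have ha : a ∈ MulAction.fixedPoints M α := by rw [h]; trivial
  have := ha ⟨g, hg⟩
  exact this

/-- a group of order twice an odd number has a normal subgroup of index two -/
theorem exists_normal_index_two {G : Type*} [Group G] [Finite G] (m : ℕ) (hm : Odd m)
    (hG : Nat.card G = 2 * m) : ∃ M : Subgroup G, M.Normal ∧ M.index = 2 := by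
  haveI : Fact (Nat.Prime 2) := ⟨Nat.prime_two⟩
  let S : Sylow 2 G := default
  have hfac : (Nat.card G).factorization 2 = 1 := by
    rw [hG]
    have hm0 : m ≠ 0 := by rintro rfl; simp at hm
    rw [Nat.factorization_mul (by norm_num) hm0]
    have h2 : m.factorization 2 = 0 := by
      apply Nat.factorization_eq_zero_of_not_dvd
      rw [← even_iff_two_dvd, Nat.not_even_iff_odd]
      exact hm
    simp [h2, Nat.prime_two.factorization_self]
  have hScard : Nat.card (S : Subgroup G) = 2 := by
    rw [Sylow.card_eq_multiplicity, hfac, pow_one]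
  have hcent : Subgroup.normalizer ((S : Subgroup G) : Set G) ≤
      Subgroup.centralizer ((S : Subgroup G) : Set G) := by
    intro g hg
    rw [Subgroup.mem_centralizer_iff]
    intro s hs
    by_cases hs1 : s = 1
    · rw [hs1, one_mul, mul_one]
    · have hgs : g * s * g⁻¹ ∈ (S : Subgroup G) := (Subgroup.mem_normalizer_iff.mp hg s).mp hs
      have hgs1 : g * s * g⁻¹ ≠ 1 := by
        intro h
        apply hs1
        have : s = g⁻¹ * (g * s * g⁻¹) * g := by group
        rw [this, h]
        group
      -- a group of order two has only one non-identity element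
      have hcard2 : Nat.card (S : Subgroup G) = 2 := hScard
      have huniq : ∀ x y : (S : Subgroup G), x ≠ 1 → y ≠ 1 → x = y := by
        intro x y hx hy
        by_contra hxy
        classical
        have h3 : 3 ≤ Nat.card (S : Subgroup G) := by
          have : ({1, x, y} : Finset (S : Subgroup G)).card = 3 := by
            rw [Finset.card_insert_of_notMem, Finset.card_insert_of_notMem,
              Finset.card_singleton]
            · simpa using hxy
            · simp only [Finset.mem_insert, Finset.mem_singleton, not_or]
              exact ⟨Ne.symm hx, Ne.symm hy⟩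
          rw [← this]
          haveI : Fintype (S : Subgroup G) := Fintype.ofFinite _
          rw [Nat.card_eq_fintype_card]
          exact Finset.card_le_univ _
        omega
      have := huniq ⟨g * s * g⁻¹, hgs⟩ ⟨s, hs⟩
        (fun h => hgs1 (congrArg Subtype.val h)) (fun h => hs1 (congrArg Subtype.val h))
      have h2 : g * s * g⁻¹ = s := congrArg Subtype.val this
      calc s * g = (g * s * g⁻¹) * g := by rw [h2]
        _ = g * s := by group
  have hcompl := MonoidHom.ker_transferSylow_isComplement' S hcent
  refine ⟨(MonoidHom.transferSylow S hcent).ker, MonoidHom.normal_ker _, ?_⟩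
  have h1 := hcompl.card_mul_card
  have h2 := ((MonoidHom.transferSylow S hcent).ker).card_mul_index
  rw [hScard] at h1
  have hpos : 0 < Nat.card (MonoidHom.transferSylow S hcent).ker := Nat.card_pos
  nlinarith

end Cfsg.Agent.Lib.Helper4.DegSeven
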