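import Cfsg.Agent.Lib.Helper4.PairModule2
import Cfsg.Agent.Lib.Helper4.PrimeDegInv
import Cfsg.Agent.S0674

set_option autoImplicit false
set_option linter.unusedSectionVars false

namespace Cfsg.Agent.Lib.Helper4.PrimeDegThree

open Cfsg Cfsg.Agent.Lib.Helper4.PermModule Cfsg.Agent.Lib.Helper4.PairModule
open scoped Pointwise

variable {p : ℕ} [hp : Fact p.Prime]

theorem sum_zmod_eq_zero (hp2 : p ≠ 2) : ∑ i : ZMod p, i = 0 := by
  have h1 : ∑ i : ZMod p, i = ∑ i : ZMod p, -i :=
    (Equiv.sum_comp (Equiv.neg (ZMod p)) (fun i => i)).symm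
  rw [Finset.sum_neg_distrib] at h1
  have h2 : (2 : ZMod p) * ∑ i : ZMod p, i = 0 := by linear_combination h1
  exact (mul_eq_zero.mp h2).resolve_left (Cfsg.Agent.Lib.Helper4.PrimeDegInv.two_ne_zero_zmod hp2)

/-- the hypothesis of the triple transitivity criterion, from the negation -/
theorem hom_eq_zero {α : Type*} [Fintype α] [DecidableEq α] (hα : Fintype.card α = p) (hp2 : p ≠ 2)
    (G : Subgroup (Equiv.Perm α)) [MulAction.IsPretransitive G α] (hG : ¬ Group.IsSolvable G)
    (e : α ≃ ZMod p) (g₀ t : Equiv.Perm α) (hg₀ : g₀ ∈ G) (ht : t ∈ G)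
    (he : ∀ a, e (g₀ a) = e a + 1) (het : ∀ a, e (t a) = - e a)
    (f : Representation.IntertwiningMap (Cfsg.permSumZero (ZMod p) G α).toRepresentation
      (Cfsg.permRep (ZMod p) G (Set.powersetCard α 2)))
    (hf : ∀ v : (Cfsg.permSumZero (ZMod p) G α).toSubmodule,
      (v : α → ZMod p) ∈ (Cfsg.permConstants (ZMod p) G α).toSubmodule → f v = 0) : f = 0 := by
  classical
  -- the kernel as a subrepresentation
  let W : Subrepresentation (Cfsg.permRep (ZMod p) G α) :=
    { toSubmodule := (LinearMap.ker f.toLinearMap).map (Cfsg.permSumZero (ZMod p) G α).toSubmodule.subtype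
      apply_mem_toSubmodule := by
        rintro g _ ⟨v, hv, rfl⟩
        refine ⟨(Cfsg.permSumZero (ZMod p) G α).toRepresentation g v, ?_, rfl⟩
        have hv' : f v = 0 := hv
        show f ((Cfsg.permSumZero (ZMod p) G α).toRepresentation g v) = 0
        have := Representation.IntertwiningMap.isIntertwining _ _ f g v
        rw [this, hv', map_zero] }
  have hWmem : ∀ φ : α → ZMod p, φ ∈ W.toSubmodule ↔ ∃ h : φ ∈ (Cfsg.permSumZero (ZMod p) G α).toSubmodule, f ⟨φ, h⟩ = 0 := by
    intro φ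
    constructor
    · rintro ⟨v, hv, rfl⟩
      exact ⟨v.2, hv⟩
    · rintro ⟨h, h0⟩
      exact ⟨⟨φ, h⟩, h0, rfl⟩
  have hone_S : (fun _ : α => (1 : ZMod p)) ∈ (Cfsg.permSumZero (ZMod p) G α).toSubmodule := by
    rw [mem_sumZero]
    simp [hα]
  have h₁ : (Cfsg.permConstants (ZMod p) G α).toSubmodule ≤ W.toSubmodule := by
    intro φ hφ
    have hφS : φ ∈ (Cfsg.permSumZero (ZMod p) G α).toSubmodule := by
      have h' : φ ∈ Submodule.span (ZMod p) {fun _ : α => (1 : ZMod p)} := hφ
      rw [Submodule.mem_span_singleton] at h'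
      obtain ⟨r, rfl⟩ := h'
      exact (Cfsg.permSumZero (ZMod p) G α).toSubmodule.smul_mem r hone_S
    rw [hWmem]
    exact ⟨hφS, hf ⟨φ, hφS⟩ hφ⟩
  have h₂ : W.toSubmodule ≤ (Cfsg.permSumZero (ZMod p) G α).toSubmodule := by
    rintro _ ⟨v, -, rfl⟩
    exact v.2
  rcases Cfsg.Agent.S0674.result hα G hG W h₁ h₂ with hW | hW
  · -- impossible
    exfalso
    set ι : α → ZMod p := fun a => e a with hι
    have hιS : ι ∈ (Cfsg.permSumZero (ZMod p) G α).toSubmodule := by
      rw [mem_sumZero]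
      show ∑ a, e a = 0
      rw [Equiv.sum_comp e (fun i => i)]
      exact sum_zmod_eq_zero hp2
    set ψ := f (⟨ι, hιS⟩ : (Cfsg.permSumZero (ZMod p) G α).toSubmodule) with hψ
    -- invariance under `g₀`
    have hg₀inv : ∀ a, e (g₀⁻¹ a) = e a - 1 := by
      intro a
      have := he (g₀⁻¹ a)
      rw [show g₀ (g₀⁻¹ a) = a from g₀.apply_symm_apply a] at this
      rw [this]; ring
    have hψ1 : ∀ s : Set.powersetCard α 2, ψ ((⟨g₀, hg₀⟩ : G)⁻¹ • s) = ψ s := by
      intro s
      have h1 := Representation.IntertwiningMap.isIntertwining _ _ f (⟨g₀, hg₀⟩ : G) (⟨ι, hιS⟩ : (Cfsg.permSumZero (ZMod p) G α).toSubmodule)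
      have h2 : (Cfsg.permSumZero (ZMod p) G α).toRepresentation (⟨g₀, hg₀⟩ : G) (⟨ι, hιS⟩ : (Cfsg.permSumZero (ZMod p) G α).toSubmodule) =
          (⟨ι, hιS⟩ : (Cfsg.permSumZero (ZMod p) G α).toSubmodule) - (⟨fun _ => 1, hone_S⟩ : (Cfsg.permSumZero (ZMod p) G α).toSubmodule) := by
        apply Subtype.ext
        funext a
        show ι ((⟨g₀, hg₀⟩ : G)⁻¹ • a) = ι a - 1
        exact hg₀inv a
      rw [h2, map_sub, hf (⟨fun _ => 1, hone_S⟩ : (Cfsg.permSumZero (ZMod p) G α).toSubmodule) one_mem_constants, sub_zero] at h1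
      have := congrFun h1 s
      rw [permRep_apply] at this
      exact this.symm
    have hψ1' : ∀ s : Set.powersetCard α 2, ψ ((⟨g₀, hg₀⟩ : G) • s) = ψ s := by
      intro s
      have := hψ1 ((⟨g₀, hg₀⟩ : G) • s)
      rw [inv_smul_smul] at this
      exact this.symm
    have hψpow : ∀ (n : ℕ) (s : Set.powersetCard α 2), ψ ((⟨g₀, hg₀⟩ : G) ^ n • s) = ψ s := by
      intro n
      induction n with
      | zero => intro s; simp
      | succ n ih =>
        intro s
        rw [pow_succ', mul_smul, hψ1', ih]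
    -- the sign under `t`
    have htinv : ∀ a, e (t⁻¹ a) = - e a := by
      intro a
      have := het (t⁻¹ a)
      rw [show t (t⁻¹ a) = a from t.apply_symm_apply a] at this
      rw [this, neg_neg]
    have hψt : ∀ s : Set.powersetCard α 2, ψ s = - ψ ((⟨t, ht⟩ : G) • s) := by
      intro s
      have h1 := Representation.IntertwiningMap.isIntertwining _ _ f (⟨t, ht⟩ : G) (⟨ι, hιS⟩ : (Cfsg.permSumZero (ZMod p) G α).toSubmodule)
      have h2 : (Cfsg.permSumZero (ZMod p) G α).toRepresentation (⟨t, ht⟩ : G) (⟨ι, hιS⟩ : (Cfsg.permSumZero (ZMod p) G α).toSubmodule) = - (⟨ι, hιS⟩ : (Cfsg.permSumZero (ZMod p) G α).toSubmodule) := by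
        apply Subtype.ext
        funext a
        show ι ((⟨t, ht⟩ : G)⁻¹ • a) = - ι a
        exact htinv a
      rw [h2, map_neg] at h1
      have := congrFun h1 ((⟨t, ht⟩ : G) • s)
      rw [permRep_apply, inv_smul_smul, Pi.neg_apply] at this
      exact this.symm
    have hepow : ∀ (n : ℕ) (a : α), e ((g₀ ^ n) a) = e a + n := by
      intro n
      induction n with
      | zero => intro a; simp
      | succ n ih =>
        intro a
        rw [pow_succ', Equiv.Perm.mul_apply, he, ih]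
        push_cast
        ring
    have hψ0 : ∀ s : Set.powersetCard α 2, ψ s = 0 := by
      intro s
      obtain ⟨a, b, hab, hs⟩ := Finset.card_eq_two.mp s.2
      have hs' : s = mkPair hab := Subtype.ext hs
      set n : ℕ := (-(e a + e b)).val with hn
      have hncast : (n : ZMod p) = -(e a + e b) := ZMod.natCast_zmod_val _
      have hta : (⟨t, ht⟩ : G) • a = ((⟨g₀, hg₀⟩ : G) ^ n) • b := by
        apply e.injective
        show e (t a) = e ((g₀ ^ n) b)
        rw [het, hepow, hncast]; ring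
      have htb : (⟨t, ht⟩ : G) • b = ((⟨g₀, hg₀⟩ : G) ^ n) • a := by
        apply e.injective
        show e (t b) = e ((g₀ ^ n) a)
        rw [het, hepow, hncast]; ring
      have heq : (⟨t, ht⟩ : G) • s = ((⟨g₀, hg₀⟩ : G) ^ n) • s := by
        rw [hs']
        have h1 : (⟨t, ht⟩ : G) • a ≠ (⟨t, ht⟩ : G) • b := fun h => hab (MulAction.injective _ h)
        have h2 : ((⟨g₀, hg₀⟩ : G) ^ n) • a ≠ ((⟨g₀, hg₀⟩ : G) ^ n) • b :=
          fun h => hab (MulAction.injective _ h)
        have e1 := smul_mkPair hab (⟨t, ht⟩ : G) h1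
        have e2 := smul_mkPair hab ((⟨g₀, hg₀⟩ : G) ^ n) h2
        have e3 : (mkPair h1 : Set.powersetCard α 2) = mkPair h2 := by
          apply Subtype.ext
          rw [coe_mkPair, coe_mkPair, hta, htb, Finset.pair_comm]
        exact e1.trans (e3.trans e2.symm)
      have h3 := hψt s
      rw [heq, hψpow] at h3
      have h4 : (2 : ZMod p) * ψ s = 0 := by linear_combination h3
      exact (mul_eq_zero.mp h4).resolve_left
        (Cfsg.Agent.Lib.Helper4.PrimeDegInv.two_ne_zero_zmod hp2)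
    have hιW : ι ∈ W.toSubmodule := by
      rw [hWmem]
      exact ⟨hιS, funext hψ0⟩
    rw [hW] at hιW
    have h' : ι ∈ Submodule.span (ZMod p) {fun _ : α => (1 : ZMod p)} := hιW
    rw [Submodule.mem_span_singleton] at h'
    obtain ⟨r, hr⟩ := h'
    have e0 := congrFun hr (e.symm 0)
    have e1 := congrFun hr (e.symm 1)
    simp only [hι, Pi.smul_apply, smul_eq_mul, mul_one, Equiv.apply_symm_apply] at e0 e1
    rw [e0] at e1
    exact zero_ne_one e1
  · -- `f` vanishes
    ext v : 2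
    have hv : (v : α → ZMod p) ∈ W.toSubmodule := by rw [hW]; exact v.2
    rw [hWmem] at hv
    obtain ⟨h, h0⟩ := hv
    exact h0

end Cfsg.Agent.Lib.Helper4.PrimeDegThree
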