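import Cfsg.Agent.Lib.Helper4.PairModule

set_option autoImplicit false
set_option linter.unusedSectionVars false

namespace Cfsg.Agent.Lib.Helper4.PairModule

open Cfsg Cfsg.Agent.Lib.Helper4.PermModule
open scoped Pointwise

variable {G : Type*} [Group G] {K : Type*} [Field K] {Ω : Type*} [Fintype Ω] [DecidableEq Ω]
  [MulAction G Ω]

local notation "Pairs" => (Set.powersetCard Ω 2)

/-- the pair `{u, v}` -/
def mkPair {u v : Ω} (h : u ≠ v) : Pairs := ⟨{u, v}, Set.powersetCard.mem_iff.mpr (Finset.card_pair h)⟩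

theorem coe_mkPair {u v : Ω} (h : u ≠ v) : ((mkPair h : Pairs) : Finset Ω) = {u, v} := rfl

theorem smul_mkPair {u v : Ω} (h : u ≠ v) (g : G) (h' : g • u ≠ g • v) :
    g • (mkPair h : Pairs) = mkPair h' := by
  apply Subtype.ext
  rw [Set.powersetCard.coe_smul, coe_mkPair, coe_mkPair, Finset.smul_finset_insert,
    Finset.smul_finset_singleton]

theorem mkPair_comm {u v : Ω} (h : u ≠ v) : (mkPair h : Pairs) = mkPair (Ne.symm h) := by
  apply Subtype.ext
  rw [coe_mkPair, coe_mkPair, Finset.pair_comm]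

/-- from a flag orbit containing every flag, ordered triples are conjugate to a fixed one, given an
element swapping the pair and fixing the point -/
theorem exists_of_flag {b c a₀ : Ω} (hbc : b ≠ c) {t : G} (htb : t • b = c) (htc : t • c = b)
    (hta : t • a₀ = a₀) {u v w : Ω} (huv : u ≠ v)
    (hR : Flag G (mkPair hbc) a₀ (mkPair huv) w) : ∃ g : G, g • b = u ∧ g • c = v ∧ g • a₀ = w := by
  obtain ⟨g, hg, hgw⟩ := hR
  have hgbc : g • b ≠ g • c := fun e => hbc (MulAction.injective g e)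
  rw [smul_mkPair hbc g hgbc] at hg
  have hg' := congrArg (fun s : Pairs => (s : Finset Ω)) hg
  simp only [coe_mkPair] at hg'
  have h1 : g • b ∈ ({u, v} : Finset Ω) := by rw [← hg']; simp
  have h2 : g • c ∈ ({u, v} : Finset Ω) := by rw [← hg']; simp
  rw [Finset.mem_insert, Finset.mem_singleton] at h1 h2
  rcases h1 with h1 | h1
  · rcases h2 with h2 | h2
    · exact absurd (h1.trans h2.symm) hgbc
    · exact ⟨g, h1, h2, hgw⟩
  · rcases h2 with h2 | h2
    · refine ⟨g * t, ?_, ?_, ?_⟩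
      · rw [mul_smul, htb, h2]
      · rw [mul_smul, htc, h1]
      · rw [mul_smul, hta, hgw]
    · exact absurd (h1.trans h2.symm) hgbc



/-- the combined operator as an intertwining map on the sum-zero functions -/
noncomputable def combo (c₁ c₂ : K) (s₁ s₂ : Pairs) (w₁ w₂ : Ω) :
    Representation.IntertwiningMap (Cfsg.permSumZero K G Ω).toRepresentation
      (Cfsg.permRep K G (Set.powersetCard Ω 2)) where
  toLinearMap := (c₁ • flagT G K s₁ w₁ + c₂ • flagT G K s₂ w₂) ∘ₗ
    (Cfsg.permSumZero K G Ω).toSubmodule.subtype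
  isIntertwining' g := by
    ext v : 1
    simp only [LinearMap.comp_apply, Submodule.subtype_apply, LinearMap.add_apply,
      LinearMap.smul_apply]
    have h1 : (((Cfsg.permSumZero K G Ω).toRepresentation g v :
        (Cfsg.permSumZero K G Ω).toSubmodule) : Ω → K) = Cfsg.permRep K G Ω g (v : Ω → K) := rfl
    rw [h1, flagT_comm, flagT_comm, map_add, map_smul, map_smul]

theorem combo_apply (c₁ c₂ : K) (s₁ s₂ : Pairs) (w₁ w₂ : Ω)
    (v : (Cfsg.permSumZero K G Ω).toSubmodule) (s : Pairs) :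
    combo (G := G) c₁ c₂ s₁ s₂ w₁ w₂ v s =
      c₁ * flagT G K s₁ w₁ (v : Ω → K) s + c₂ * flagT G K s₂ w₂ (v : Ω → K) s := rfl

/-- the main theorem: no equivariant map to the pair module vanishing on constants forces triple
transitivity -/
theorem three_trans [Finite G] [FaithfulSMul G Ω] (h2 : MulAction.IsMultiplyPretransitive G Ω 2)
    (heven : ∀ a : Ω, Even (Nat.card (MulAction.stabilizer G a)))
    (h : ∀ f : Representation.IntertwiningMap (Cfsg.permSumZero K G Ω).toRepresentation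
        (Cfsg.permRep K G (Set.powersetCard Ω 2)),
      (∀ v : (Cfsg.permSumZero K G Ω).toSubmodule,
        (v : Ω → K) ∈ (Cfsg.permConstants K G Ω).toSubmodule → f v = 0) → f = 0) :
    MulAction.IsMultiplyPretransitive G Ω 3 := by
  classical
  by_contra h3
  rw [MulAction.isMultiplyPretransitive_iff] at h3
  push Not at h3
  obtain ⟨x, y, hxy⟩ := h3
  set a₀ := x 0 with ha₀
  -- an involution fixing `a₀`
  have : Fact (Nat.Prime 2) := ⟨Nat.prime_two⟩
  obtain ⟨t₀, ht₀⟩ := exists_prime_orderOf_dvd_card' (G := MulAction.stabilizer G a₀) 2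
    (even_iff_two_dvd.mp (heven a₀))
  set t : G := (t₀ : G) with ht
  have hta : t • a₀ = a₀ := t₀.2
  have ht2 : t * t = 1 := by
    have h1 : t₀ ^ 2 = 1 := by rw [← ht₀]; exact pow_orderOf_eq_one t₀
    have h2' := congrArg (fun z : MulAction.stabilizer G a₀ => (z : G)) h1
    simpa [pow_two] using h2'
  have ht1 : t ≠ 1 := by
    intro e
    have : t₀ = 1 := Subtype.ext e
    rw [this, orderOf_one] at ht₀
    omega
  obtain ⟨b, hb⟩ : ∃ b : Ω, t • b ≠ b := by
    by_contra hcon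
    push Not at hcon
    apply ht1
    apply FaithfulSMul.eq_of_smul_eq_smul (α := Ω)
    intro z
    rw [hcon z, one_smul]
  have hba : b ≠ a₀ := by
    intro e
    apply hb
    rw [e]; exact hta
  set c := t • b with hc
  have htc : t • c = b := by rw [hc, ← mul_smul, ht2, one_smul]
  have hbc : b ≠ c := fun e => hb e.symm
  have hca : c ≠ a₀ := by
    intro e
    apply hba
    rw [← htc, e, hta]
  have ha_nmem : a₀ ∉ ((mkPair hbc : Pairs) : Finset Ω) := by
    rw [coe_mkPair, Finset.mem_insert, Finset.mem_singleton]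
    rintro (e | e)
    · exact hba e.symm
    · exact hca e.symm
  -- a second flag orbit
  obtain ⟨s₂, w₂, hw₂, hnR⟩ : ∃ (s₂ : Pairs) (w₂ : Ω), w₂ ∉ (s₂ : Finset Ω) ∧
      ¬ Flag G (mkPair hbc) a₀ s₂ w₂ := by
    by_contra hcon
    push Not at hcon
    have hxi : ∀ i j : Fin 3, i ≠ j → x i ≠ x j := fun i j hij e => hij (x.injective e)
    have hyi : ∀ i j : Fin 3, i ≠ j → y i ≠ y j := fun i j hij e => hij (y.injective e)
    have key : ∀ u v w : Ω, u ≠ v → u ≠ w → v ≠ w →
        ∃ g : G, g • b = u ∧ g • c = v ∧ g • a₀ = w := by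
      intro u v w huv huw hvw
      apply exists_of_flag hbc rfl htc hta huv
      apply hcon
      rw [coe_mkPair, Finset.mem_insert, Finset.mem_singleton]
      rintro (e | e)
      · exact huw e.symm
      · exact hvw e.symm
    obtain ⟨g₁, h10, h11, h12⟩ := key (x 0) (x 1) (x 2) (hxi _ _ (by decide)) (hxi _ _ (by decide))
      (hxi _ _ (by decide))
    obtain ⟨g₂, h20, h21, h22⟩ := key (y 0) (y 1) (y 2) (hyi _ _ (by decide)) (hyi _ _ (by decide))
      (hyi _ _ (by decide))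
    apply hxy (g₂ * g₁⁻¹)
    ext i
    show (g₂ * g₁⁻¹) • x i = y i
    fin_cases i
    · show (g₂ * g₁⁻¹) • x 0 = y 0
      rw [mul_smul, ← h10, inv_smul_smul, h20]
    · show (g₂ * g₁⁻¹) • x 1 = y 1
      rw [mul_smul, ← h11, inv_smul_smul, h21]
    · show (g₂ * g₁⁻¹) • x 2 = y 2
      rw [mul_smul, ← h12, inv_smul_smul, h22]
  have htp : MulAction.IsPretransitive G Pairs :=
    Set.powersetCard.isPretransitive_of_isMultiplyPretransitive G h2
  set s₁ : Pairs := mkPair hbc with hs₁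
  -- an element of the second pair
  obtain ⟨u₂, hu₂⟩ : ∃ u₂ : Ω, u₂ ∈ (s₂ : Finset Ω) := by
    have : (s₂ : Finset Ω).Nonempty := by
      rw [← Finset.card_pos, Set.powersetCard.card_eq]; norm_num
    exact this
  -- the two orbits are disjoint
  have hdisj : ∀ (s : Pairs) (w : Ω), Flag G s₁ a₀ s w → ¬ Flag G s₂ w₂ s w := by
    rintro s w ⟨g₁, rfl, rfl⟩ ⟨g₂, h1, h2'⟩
    apply hnR
    refine ⟨g₂⁻¹ * g₁, ?_, ?_⟩
    · rw [mul_smul, ← h1, inv_smul_smul]
    · rw [mul_smul, ← h2', inv_smul_smul]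
  set m₁ : K := flagT G K s₁ a₀ (fun _ => 1) s₁ with hm₁
  set m₂ : K := flagT G K s₂ w₂ (fun _ => 1) s₁ with hm₂
  have hT1 : ∀ s : Pairs, flagT G K s₁ a₀ (fun _ => 1) s = m₁ := fun s => flagT_one_const _ _ _ _
  have hT2 : ∀ s : Pairs, flagT G K s₂ w₂ (fun _ => 1) s = m₂ := fun s => flagT_one_const _ _ _ _
  -- the coefficients
  obtain ⟨c₁, c₂, hc0, hcne⟩ : ∃ c₁ c₂ : K, c₁ * m₁ + c₂ * m₂ = 0 ∧ (c₁ ≠ 0 ∨ c₂ ≠ 0) := by
    by_cases hm : m₁ = 0 ∧ m₂ = 0
    · exact ⟨1, 0, by rw [hm.1]; ring, Or.inl one_ne_zero⟩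
    · refine ⟨m₂, -m₁, by ring, ?_⟩
      by_contra hcon
      push Not at hcon
      exact hm ⟨neg_eq_zero.mp hcon.2, hcon.1⟩
  have hf0 := h (combo (G := G) c₁ c₂ s₁ s₂ a₀ w₂) (by
    intro v hv
    have hv' : (v : Ω → K) ∈ Submodule.span K {fun _ : Ω => (1 : K)} := hv
    rw [Submodule.mem_span_singleton] at hv'
    obtain ⟨r, hr⟩ := hv'
    funext s
    rw [combo_apply, ← hr, map_smul, map_smul, Pi.smul_apply, Pi.smul_apply, hT1, hT2]
    simp only [smul_eq_mul, Pi.zero_apply]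
    linear_combination r * hc0)
  -- evaluation on the two test functions
  have he1 := congrFun (congrArg (fun f => f ⟨_, single_sub_mem_sumZero (G := G) (K := K) a₀ b⟩) hf0) s₁
  have he2 := congrFun (congrArg (fun f => f ⟨_, single_sub_mem_sumZero (G := G) (K := K) w₂ u₂⟩) hf0) s₂
  simp only [combo_apply, map_sub, Pi.sub_apply, flagT_single,
    Representation.IntertwiningMap.coe_zero, Pi.zero_apply] at he1 he2
  have hb_mem : b ∈ ((s₁ : Pairs) : Finset Ω) := by
    rw [hs₁, coe_mkPair]; simp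
  have e1 : flagM G K s₁ a₀ s₁ a₀ = 1 := flagM_pos (flag_self _ _)
  have e2 : flagM G K s₁ a₀ s₁ b = 0 :=
    flagM_neg (fun hh => flag_not_mem ha_nmem hh hb_mem)
  have e3 : flagM G K s₂ w₂ s₁ a₀ = 0 := flagM_neg (hdisj _ _ (flag_self _ _))
  have e4 : flagM G K s₂ w₂ s₁ b = 0 :=
    flagM_neg (fun hh => flag_not_mem hw₂ hh hb_mem)
  have e5 : flagM G K s₁ a₀ s₂ w₂ = 0 := flagM_neg hnR
  have e6 : flagM G K s₁ a₀ s₂ u₂ = 0 :=
    flagM_neg (fun hh => flag_not_mem ha_nmem hh hu₂)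
  have e7 : flagM G K s₂ w₂ s₂ w₂ = 1 := flagM_pos (flag_self _ _)
  have e8 : flagM G K s₂ w₂ s₂ u₂ = 0 :=
    flagM_neg (fun hh => flag_not_mem hw₂ hh hu₂)
  rw [e1, e2, e3, e4] at he1
  rw [e5, e6, e7, e8] at he2
  simp only [sub_zero, mul_one, mul_zero, add_zero, zero_add] at he1 he2
  rcases hcne with hne | hne
  · exact hne he1
  · exact hne he2

end Cfsg.Agent.Lib.Helper4.PairModule
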