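import Mathlib
import Cfsg.Agent.Lib.Helper4.DegSeven
import Cfsg.Agent.S0676
import Cfsg.Agent.S1013

set_option autoImplicit false
set_option linter.unusedSectionVars false
set_option linter.style.haveILetI false

/-!
# Insoluble transitive groups of degree seven
-/

namespace Cfsg.Agent.Lib.Helper4.DegSeven

open Equiv

/-- transport of transitivity to the image subgroup -/
theorem isPretransitive_map {α : Type*} [Fintype α] [DecidableEq α] (G : Subgroup (Perm α))
    (M : Subgroup G) (h : MulAction.IsPretransitive M α) :
    MulAction.IsPretransitive (M.map G.subtype) α := by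
  constructor
  intro a b
  obtain ⟨g, hg⟩ := h.exists_smul_eq a b
  exact ⟨⟨((g : G) : Perm α), ⟨(g : G), g.2, rfl⟩⟩, hg⟩

/-- a transitive group of prime degree and order twice an odd number is soluble -/
theorem solvable_of_twice_odd {p : ℕ} [hp : Fact p.Prime] {α : Type*} [Fintype α] [DecidableEq α]
    (hα : Fintype.card α = p) (G : Subgroup (Perm α)) [MulAction.IsPretransitive G α] (m : ℕ)
    (hm : Odd m) (hG : Nat.card G = 2 * m) : Group.IsSolvable G := by
  obtain ⟨M, hMn, hM2⟩ := exists_normal_index_two m hm hG
  haveI := hMn
  have hMcard : Nat.card M = m := by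
    have := M.card_mul_index
    rw [hM2, hG] at this
    omega
  have hMsolv : Group.IsSolvable M := by
    by_cases hMbot : M = ⊥
    · subst hMbot
      infer_instance
    · have htr := isPretransitive_of_normal hα G M hMbot
      haveI := isPretransitive_map G M htr
      rcases Cfsg.Agent.S0675.result (by rw [hα]; exact hp.out) (M.map G.subtype) with h | h
      · exact Group.isSolvable_of_isSolvable_injective
          (f := (M.equivMapOfInjective G.subtype (Subgroup.subtype_injective G)).toMonoidHom)
          (MulEquiv.injective _)
      · exfalso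
        have h2 := descFactorial_dvd_card (M.map G.subtype) 2
          (by rw [hα]; exact hp.out.two_le) h
        rw [Subgroup.card_map_of_injective (Subgroup.subtype_injective G), hMcard, hα] at h2
        have heven : Even (p.descFactorial 2) := by
          have : p.descFactorial 2 = p * (p - 1) := by
            simp [Nat.descFactorial, mul_comm]
          rw [this]
          exact Nat.even_mul_pred_self p
        have hodd := hm.of_dvd_nat h2
        exact (Nat.not_even_iff_odd.mpr hodd) heven
  haveI := hMsolv
  haveI : Group.IsSolvable (G ⧸ M) := by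
    have hc : Nat.card (G ⧸ M) = 2 := hM2
    haveI : Fact (Nat.Prime 2) := ⟨Nat.prime_two⟩
    haveI := isCyclic_of_prime_card hc
    letI := IsCyclic.commGroup (α := G ⧸ M)
    infer_instance
  exact Group.isSolvable_of_ker_le_range M.subtype (QuotientGroup.mk' M)
    (by rw [QuotientGroup.ker_mk', Subgroup.range_subtype])

/-- a self-normalising Sylow `p`-subgroup forces solubility -/
theorem solvable_of_card_normalizer {p : ℕ} [hp : Fact p.Prime] {α : Type*} [Fintype α]
    [DecidableEq α] (hα : Fintype.card α = p) (G : Subgroup (Perm α))
    [MulAction.IsPretransitive G α] (P : Sylow p G)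
    (hN : Nat.card (Subgroup.normalizer ((P : Subgroup G) : Set G)) = p) : Group.IsSolvable G := by
  have hPcard := card_sylow hα G P
  have hNP : (P : Subgroup G) = Subgroup.normalizer ((P : Subgroup G) : Set G) := by
    apply Subgroup.eq_of_le_of_card_ge Subgroup.le_normalizer
    rw [hN, hPcard]
  haveI : IsCyclic (P : Subgroup G) := isCyclic_of_prime_card hPcard
  have hcomm : ∀ a ∈ (P : Subgroup G), ∀ b ∈ (P : Subgroup G), a * b = b * a := by
    intro a ha b hb
    letI := IsCyclic.commGroup (α := (P : Subgroup G))
    have := mul_comm (⟨a, ha⟩ : (P : Subgroup G)) ⟨b, hb⟩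
    exact congrArg Subtype.val this
  have hcent : Subgroup.normalizer ((P : Subgroup G) : Set G) ≤
      Subgroup.centralizer ((P : Subgroup G) : Set G) := by
    rw [← hNP]
    intro g hg
    rw [Subgroup.mem_centralizer_iff]
    intro s hs
    exact hcomm s hs g hg
  have hcompl := MonoidHom.ker_transferSylow_isComplement' P hcent
  set K := (MonoidHom.transferSylow P hcent).ker with hKdef
  have hK : Nat.card K * p = Nat.card G := by
    rw [← hPcard]
    exact hcompl.card_mul_card
  have hKbot : K = ⊥ := by
    by_contra hne
    haveI : K.Normal := MonoidHom.normal_ker _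
    have htr := isPretransitive_of_normal hα G K hne
    have hne' : Nonempty α := by
      rw [← Fintype.card_pos_iff, hα]; exact hp.out.pos
    obtain ⟨a₀⟩ := hne'
    have h1 := @MulAction.index_stabilizer_of_transitive K α _ _ a₀ htr
    rw [Nat.card_eq_fintype_card, hα] at h1
    have h2 : p ∣ Nat.card K := by
      rw [← h1]
      exact Subgroup.index_dvd_card _
    apply Cfsg.Agent.Lib.Helper4.PrimeDegInv.not_sq_dvd_card hα G
    rw [← hK, pow_two]
    exact Nat.mul_dvd_mul_right h2 p
  have hGcard : Nat.card G = p := by
    rw [← hK, hKbot, Subgroup.card_bot, one_mul]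
  haveI := isCyclic_of_prime_card hGcard
  letI := IsCyclic.commGroup (α := G)
  infer_instance

/-- a subgroup of index two of the symmetric group contains the alternating group -/
theorem alternatingGroup_le_of_index_two {α : Type*} [Fintype α] [DecidableEq α]
    (G : Subgroup (Perm α)) (h : G.index = 2) : alternatingGroup α ≤ G := by
  rw [← Equiv.Perm.closure_three_cycles_eq_alternating, Subgroup.closure_le]
  intro σ hσ
  have h3 : σ ^ 3 = 1 := by
    have := Equiv.Perm.IsThreeCycle.orderOf hσ
    rw [← this]
    exact pow_orderOf_eq_one σ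
  have h4 : (σ ^ 2) ^ 2 = σ := by
    rw [← pow_mul]
    calc σ ^ (2 * 2) = σ ^ 3 * σ := by rw [← pow_succ]
      _ = σ := by rw [h3, one_mul]
  rw [SetLike.mem_coe, ← h4]
  exact Subgroup.sq_mem_of_index_two h _

/-- the symmetric group of degree seven has no subgroup of index three -/
theorem false_of_index_three {α : Type*} [Fintype α] [DecidableEq α] (hα : Fintype.card α = 7)
    (G : Subgroup (Perm α)) (h : G.index = 3) (hA : ¬ alternatingGroup α ≤ G) : False := by
  haveI : Nontrivial α := by
    rw [← Fintype.one_lt_card_iff_nontrivial, hα]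
    norm_num
  have hcardα : Nat.card α = 7 := by rw [Nat.card_eq_fintype_card, hα]
  haveI : IsSimpleGroup (alternatingGroup α) :=
    alternatingGroup.isSimpleGroup (by rw [hcardα]; norm_num)
  have hAcard : 2 * Nat.card (alternatingGroup α) = 5040 := by
    rw [two_mul_nat_card_alternatingGroup, Nat.card_perm, hcardα]
    rfl
  set H : Subgroup (alternatingGroup α) := G.subgroupOf (alternatingGroup α) with hH
  have hHtop : H ≠ ⊤ := by
    intro htop
    exact hA (Subgroup.subgroupOf_eq_top.mp htop)
  have hidx : H.index ≤ 3 := by
    have h1 : G.relIndex (alternatingGroup α) ≤ G.relIndex ⊤ := by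
      apply Subgroup.relIndex_le_of_le_right le_top
      rw [Subgroup.relIndex_top_right, h]
      norm_num
    rw [Subgroup.relIndex_top_right, h] at h1
    exact h1
  have hdvd := Cfsg.Agent.Lib.Helper4.Simple.two_mul_card_dvd_factorial_of_simple
    (G := alternatingGroup α) (by omega) H hHtop
  have h6 : (H.index).factorial ∣ (3 : ℕ).factorial := Nat.factorial_dvd_factorial hidx
  have := hdvd.trans h6
  rw [hAcard] at this
  norm_num [Nat.factorial] at this

/-- insoluble transitive groups of degree seven not containing the alternating group -/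
theorem degree_seven {α : Type*} [Fintype α] [DecidableEq α] (hα : Fintype.card α = 7)
    (G : Subgroup (Perm α)) [MulAction.IsPretransitive G α] (hG : ¬ Group.IsSolvable G)
    (hA : ¬ alternatingGroup α ≤ G) : Nat.card G = 168 ∧ IsSimpleGroup G := by
  haveI : Fact (Nat.Prime 7) := ⟨by norm_num⟩
  have hcardα : Nat.card α = 7 := by rw [Nat.card_eq_fintype_card, hα]
  have h2t : MulAction.IsMultiplyPretransitive G α 2 :=
    (Cfsg.Agent.S0675.result (by rw [hα]; norm_num) G).resolve_left hG
  have h42 : 42 ∣ Nat.card G := by
    have := descFactorial_dvd_card G 2 (by rw [hα]; norm_num) h2t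
    rw [hα] at this
    simpa [Nat.descFactorial] using this
  have hperm : Nat.card (Perm α) = 5040 := by
    rw [Nat.card_perm, hcardα]
    rfl
  have h5040 : Nat.card G ∣ 5040 := by
    have := Subgroup.card_subgroup_dvd_card G
    rwa [hperm] at this
  have hGidx : Nat.card G * G.index = 5040 := by
    rw [← hperm]
    exact G.card_mul_index
  let P : Sylow 7 G := default
  set N := Subgroup.normalizer ((P : Subgroup G) : Set G) with hN
  have hNdvd : Nat.card N ∣ 42 := by
    have h := card_normalizer_dvd hα G P
    norm_num at h
    exact h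
  have hPcard := card_sylow hα G P
  have h7N : 7 ∣ Nat.card N := by
    rw [← hPcard]
    exact Subgroup.card_dvd_of_le Subgroup.le_normalizer
  have hn7 : Nat.card (Sylow 7 G) = N.index := Sylow.card_eq_index_normalizer P
  have hmod : N.index % 7 = 1 := by
    have := card_sylow_modEq_one 7 G
    rw [hn7] at this
    exact this
  have hGN : Nat.card N * N.index = Nat.card G := N.card_mul_index
  have hNcases : Nat.card N = 7 ∨ Nat.card N = 14 ∨ Nat.card N = 21 ∨ Nat.card N = 42 := by
    have hle : Nat.card N ≤ 42 := Nat.le_of_dvd (by norm_num) hNdvd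
    have key : ∀ n ≤ 42, n ∣ 42 → 7 ∣ n → n = 7 ∨ n = 14 ∨ n = 21 ∨ n = 42 := by decide
    exact key _ hle hNdvd h7N
  have hidxle : N.index ≤ 5040 := by
    have h1 : N.index ∣ 5040 := (Dvd.intro_left _ hGN).trans h5040
    exact Nat.le_of_dvd (by norm_num) h1
  rcases hNcases with h | h | h | h
  · exact absurd (solvable_of_card_normalizer hα G P h) hG
  · -- `|N| = 14`
    exfalso
    have heven : Even (Nat.card N) := by rw [h]; decide
    have h3t := Cfsg.Agent.S0676.result hα G hG P heven
    have h210 : 210 ∣ Nat.card G := by
      have := descFactorial_dvd_card G 3 (by rw [hα]; norm_num) h3t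
      rw [hα] at this
      simpa [Nat.descFactorial] using this
    rw [h] at hGN
    have key : ∀ k ≤ 60, 14 * (7 * k + 1) ∣ 5040 → 210 ∣ 14 * (7 * k + 1) →
        7 * k + 1 = 15 ∨ 7 * k + 1 = 120 := by
      decide
    rw [← hGN] at h5040 h210
    have hk : N.index = 7 * (N.index / 7) + 1 := by omega
    have hkle : N.index / 7 ≤ 60 := by
      have := Nat.le_of_dvd (by norm_num) h5040
      omega
    rw [hk] at h5040 h210
    have hkey := key _ hkle h5040 h210
    rw [← hk] at hkey
    rcases hkey with h' | h'
    · rw [h'] at hGN
      exact hG (solvable_of_twice_odd hα G 105 (by decide) (by rw [← hGN]))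
    · rw [h'] at hGN
      apply false_of_index_three hα G _ hA
      rw [← hGN] at hGidx
      omega
  · -- `|N| = 21`
    rw [h] at hGN
    have key : ∀ k ≤ 60, 21 * (7 * k + 1) ∣ 5040 → 42 ∣ 21 * (7 * k + 1) →
        7 * k + 1 = 8 ∨ 7 * k + 1 = 120 := by
      decide
    have h5040' := h5040
    have h42' := h42
    rw [← hGN] at h5040' h42'
    have hk : N.index = 7 * (N.index / 7) + 1 := by omega
    have hkle : N.index / 7 ≤ 60 := by
      have := Nat.le_of_dvd (by norm_num) h5040'
      omega
    rw [hk] at h5040' h42'
    have hkey := key _ hkle h5040' h42'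
    rw [← hk] at hkey
    rcases hkey with h' | h'
    · rw [h'] at hGN
      refine ⟨hGN.symm, ?_⟩
      apply Cfsg.Agent.S1013.result hα G P
      · rw [hn7, h']
        norm_num
      · have h1 := Cfsg.Agent.Lib.Helper4.Simple.card_mul_relIndex_normalizer (P : Subgroup G)
        rw [← hN, h, hPcard] at h1
        have h2 : (P : Subgroup G).relIndex N = 3 := by omega
        have h3 : ((P : Subgroup G).subgroupOf N).index = 3 := h2
        rw [h3]
        norm_num
    · exfalso
      rw [h'] at hGN
      apply hA
      apply alternatingGroup_le_of_index_two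
      rw [← hGN] at hGidx
      omega
  · -- `|N| = 42`
    exfalso
    have heven : Even (Nat.card N) := by rw [h]; decide
    have h3t := Cfsg.Agent.S0676.result hα G hG P heven
    have h210 : 210 ∣ Nat.card G := by
      have := descFactorial_dvd_card G 3 (by rw [hα]; norm_num) h3t
      rw [hα] at this
      simpa [Nat.descFactorial] using this
    rw [h] at hGN
    have key : ∀ k ≤ 60, 42 * (7 * k + 1) ∣ 5040 → 210 ∣ 42 * (7 * k + 1) →
        7 * k + 1 = 15 ∨ 7 * k + 1 = 120 := by
      decide
    rw [← hGN] at h5040 h210
    have hk : N.index = 7 * (N.index / 7) + 1 := by omega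
    have hkle : N.index / 7 ≤ 60 := by
      have := Nat.le_of_dvd (by norm_num) h5040
      omega
    rw [hk] at h5040 h210
    have hkey := key _ hkle h5040 h210
    rw [← hk] at hkey
    rcases hkey with h' | h'
    · rw [h'] at hGN
      exact hG (solvable_of_twice_odd hα G 315 (by decide) (by rw [← hGN]))
    · rw [h'] at hGN
      apply hA
      have htop : G = ⊤ := by
        apply Subgroup.eq_top_of_card_eq
        rw [hperm, ← hGN]
      rw [htop]
      exact le_top

end Cfsg.Agent.Lib.Helper4.DegSeven
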