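import Mathlib
import Cfsg.Prelude.Def_Characters
import Cfsg.Prelude.Def_CharExt
import Cfsg.Agent.Lib.Helper4.CyclicExt
import Cfsg.Agent.Lib.helper3.Det
import Cfsg.Agent.Lib.helper3.Gallagher3
import Cfsg.Agent.Lib.helper3.Irr12

/-!
# Extending invariant characters via the determinant (solvable quotient)

Isaacs, Theorem 6.25: if `N ⊴ G` with `G ⧸ N` solvable, `ϑ ∈ Irr(N)` is `G`-invariant of degree
coprime to `|G : N|`, and `det ϑ` extends to `G`, then `ϑ` extends to `G`.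
-/

set_option linter.style.haveILetI false

namespace Cfsg.Agent.Lib.Helper4.DetExt

open Cfsg Module Cfsg.Agent.Lib.helper3.Irr Cfsg.Agent.Lib.helper3.Lin
open Cfsg.Agent.Lib.helper3.Det Cfsg.Agent.Lib.helper3.IndFun

universe u v

section basic

variable {G : Type u} [Group G]

/-- The determinantal character of a pulled-back character. -/
theorem detChar_comp {H : Type v} [Group H] [Finite G] [Finite H] (f : H →* G) {χ : G → ℂ}
    (hχ : IsCharacter G χ) (h : H) : detChar (fun x => χ (f x)) h = detChar χ (f h) := by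
  obtain ⟨n, ρ, rfl⟩ := hχ
  set σ : Representation ℂ H (Fin n → ℂ) := MonoidHom.comp ρ f with hσ
  have h1 : (fun x => ρ.character (f x)) = σ.character := rfl
  rw [h1, detChar_character, detChar_character]
  rfl

/-- The determinantal character of a character is a linear character. -/
theorem isCharacter_detChar [Finite G] {χ : G → ℂ} (hχ : IsCharacter G χ) :
    IsCharacter G (detChar χ) ∧ detChar χ 1 = 1 := by
  obtain ⟨n, ρ, rfl⟩ := hχ
  have h1 : detChar ρ.character = fun g => ((detHom ρ g : ℂˣ) : ℂ) := by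
    funext g
    rw [detChar_character, detHom_apply]
  rw [h1]
  refine ⟨isCharacter_of_hom _, ?_⟩
  show ((detHom ρ 1 : ℂˣ) : ℂ) = 1
  rw [map_one]
  rfl

/-- Twisting by a linear character multiplies the determinant by its `d`-th power. -/
theorem detChar_linear_mul [Finite G] {lam χ : G → ℂ} (hlam : IsCharacter G lam)
    (h1 : lam 1 = 1) (hχ : IsCharacter G χ) (d : ℕ) (hd : χ 1 = d) (g : G) :
    detChar (lam * χ) g = lam g ^ d * detChar χ g := by
  obtain ⟨n, ρ, rfl⟩ := hχ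
  have h2 : lam = fun g => ((toUnitsHom hlam h1 g : ℂˣ) : ℂ) := by
    funext g
    rw [toUnitsHom_apply]
  have h3 : finrank ℂ (Fin n → ℂ) = d := by
    rw [Representation.char_one] at hd
    exact_mod_cast hd
  conv_lhs => rw [h2]
  rw [detChar_twist, h3, toUnitsHom_apply]

/-- A finite group with nontrivial solvable quotient `G ⧸ N` has a proper normal subgroup
`M ≥ N` with cyclic quotient (the kernel of a linear character). -/
theorem exists_ker_cyclic [Finite G] (N : Subgroup G) [N.Normal]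
    (hsolv : Group.IsSolvable (G ⧸ N)) (hnt : Nontrivial (G ⧸ N)) :
    ∃ (M : Subgroup G) (_ : M.Normal), N ≤ M ∧ M ≠ ⊤ ∧ IsCyclic (G ⧸ M) := by
  classical
  have h1 : commutator (G ⧸ N) < ⊤ := Group.IsSolvable.commutator_lt_top_of_nontrivial (G ⧸ N)
  obtain ⟨a, -, ha⟩ := SetLike.exists_of_lt h1
  have ha' : (Abelianization.of a : Abelianization (G ⧸ N)) ≠ 1 := by
    intro h
    apply ha
    exact (QuotientGroup.eq_one_iff a).mp h
  obtain ⟨φA, hφA⟩ := CommGroup.exists_apply_ne_one_of_hasEnoughRootsOfUnity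
    (Abelianization (G ⧸ N)) ℂ ha'
  obtain ⟨g, rfl⟩ := QuotientGroup.mk_surjective a
  let φ : G →* ℂˣ := (φA.comp Abelianization.of).comp (QuotientGroup.mk' N)
  refine ⟨φ.ker, inferInstance, ?_, ?_, ?_⟩
  · intro n hn
    rw [MonoidHom.mem_ker]
    show φA (Abelianization.of ((n : G) : G ⧸ N)) = 1
    rw [(QuotientGroup.eq_one_iff n).mpr hn, map_one, map_one]
  · intro h
    apply hφA
    have : g ∈ φ.ker := by rw [h]; trivial
    exact this
  · have e := QuotientGroup.quotientKerEquivRange φ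
    haveI : Finite φ.range := Finite.of_surjective _ φ.rangeRestrict_surjective
    haveI : IsCyclic φ.range := isCyclic_subgroup_units φ.range
    exact isCyclic_of_surjective e.symm.toMonoidHom e.symm.surjective

end basic

section main

/-- Isaacs 6.25 (the nontrivial direction): an invariant irreducible character `ϑ` of `N ⊴ G` with
`G ⧸ N` solvable and `(|G : N|, ϑ(1)) = 1` extends to `G` as soon as `det ϑ` does. -/
theorem exists_extension_of_det : ∀ (m : ℕ) (G : Type u) [Group G] [Finite G] (N : Subgroup G)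
    [hN : N.Normal], N.index = m → Group.IsSolvable (G ⧸ N) → ∀ (ϑ : N → ℂ), IsIrrCharacter N ϑ →
    (∀ (g : G) (n : N), ϑ ⟨g * n * g⁻¹, hN.conj_mem (n : G) n.2 g⟩ = ϑ n) →
    ∀ d : ℕ, ϑ 1 = d → Nat.Coprime m d →
    ∀ μ : G → ℂ, IsCharacter G μ → μ 1 = 1 → (∀ n : N, μ n = detChar ϑ n) →
    ∃ χ : G → ℂ, IsIrrCharacter G χ ∧ ∀ n : N, χ n = ϑ n := by
  intro m
  induction m using Nat.strong_induction_on with
  | _ m ih =>
  intro G _ _ N hN hidx hsolv ϑ hϑ hinv d hd hcop μ hμ hμ1 hμN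
  classical
  by_cases hcyc : IsCyclic (G ⧸ N)
  · exact Cfsg.Agent.Lib.Helper4.CyclicExt.exists_irr_extension N hcyc ϑ hϑ hinv
  have hnt : Nontrivial (G ⧸ N) := by
    by_contra h
    rw [not_nontrivial_iff_subsingleton] at h
    exact hcyc inferInstance
  obtain ⟨M, hMn, hNM, hMtop, hMcyc⟩ := exists_ker_cyclic N hsolv hnt
  haveI : Fintype G := Fintype.ofFinite G
  haveI : Fintype M := Fintype.ofFinite M
  obtain ⟨N', hN'⟩ : ∃ N' : Subgroup M, N' = N.subgroupOf M := ⟨_, rfl⟩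
  haveI hN'n : N'.Normal := by rw [hN']; infer_instance
  have hmemN' : ∀ x : M, x ∈ N' ↔ (x : G) ∈ N := by
    intro x
    rw [hN']
    exact Subgroup.mem_subgroupOf
  let e : N' →* N :=
    { toFun := fun x => ⟨((x : M) : G), (hmemN' _).mp x.2⟩
      map_one' := rfl
      map_mul' := fun _ _ => rfl }
  have hebij : Function.Bijective e := by
    constructor
    · intro x y hxy
      apply Subtype.ext
      apply Subtype.ext
      exact congrArg (fun z : N => (z : G)) hxy
    · intro y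
      exact ⟨⟨⟨(y : G), hNM y.2⟩, (hmemN' _).mpr y.2⟩, rfl⟩
  let ee : N' ≃* N := MulEquiv.ofBijective e hebij
  have hee : ∀ x : N', ee x = e x := fun x => rfl
  obtain ⟨ϑ', hϑ'def⟩ : ∃ ϑ' : N' → ℂ, ϑ' = fun x => ϑ (ee x) := ⟨_, rfl⟩
  have hϑ' : IsIrrCharacter N' ϑ' := by
    rw [hϑ'def]
    exact isIrrCharacter_comp_mulEquiv ee hϑ
  have hϑ'app : ∀ x : N', ϑ' x = ϑ (e x) := fun x => by rw [hϑ'def]; rfl
  have hinv' : ∀ (g : M) (n : N'),
      ϑ' ⟨g * n * g⁻¹, hN'n.conj_mem (n : M) n.2 g⟩ = ϑ' n := by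
    intro g n
    rw [hϑ'app, hϑ'app, ← hinv (g : G) (e n)]
    rfl
  -- indices
  have hidx' : N'.index * M.index = m := by
    rw [← hidx, hN']
    exact Subgroup.relIndex_mul_index hNM
  have hMidx : 2 ≤ M.index := by
    have h1 : M.index ≠ 1 := fun h => hMtop (Subgroup.index_eq_one.mp h)
    have h0 : M.index ≠ 0 := Subgroup.index_ne_zero_of_finite
    omega
  have hmpos : 0 < m := by
    rw [← hidx]
    exact Nat.pos_of_ne_zero Subgroup.index_ne_zero_of_finite
  have hlt : N'.index < m := by nlinarith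
  have hcop' : Nat.Coprime N'.index d :=
    Nat.Coprime.coprime_dvd_left ⟨M.index, hidx'.symm⟩ hcop
  -- solvability of the quotient
  have hsolv' : Group.IsSolvable (M ⧸ N') := by
    let f : M ⧸ N' →* G ⧸ N := QuotientGroup.map N' N M.subtype
      (fun x hx => (hmemN' x).mp hx)
    have hf : Function.Injective f := by
      rw [injective_iff_map_eq_one]
      intro q
      obtain ⟨x, rfl⟩ := QuotientGroup.mk_surjective q
      intro hq
      have h1 : ((x : G) : G ⧸ N) = 1 := hq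
      rw [QuotientGroup.eq_one_iff] at h1 ⊢
      exact (hmemN' x).mpr h1
    haveI := hsolv
    exact Group.isSolvable_of_isSolvable_injective hf
  -- the restriction of `μ`
  obtain ⟨μ', hμ'def⟩ : ∃ μ' : M → ℂ, μ' = fun x : M => μ (x : G) := ⟨_, rfl⟩
  have hμ'app : ∀ x : M, μ' x = μ x := fun x => by rw [hμ'def]
  have hμ' : IsCharacter M μ' := by
    rw [hμ'def]
    exact isCharacter_restrict hμ M
  have hμ'1 : μ' 1 = 1 := by rw [hμ'app]; exact hμ1
  have hϑc : IsCharacter N ϑ := isCharacter_of_isIrrCharacter hϑ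
  have hdetϑ' : ∀ n : N', detChar ϑ' n = detChar ϑ (e n) := by
    intro n
    rw [hϑ'def]
    exact detChar_comp ee.toMonoidHom hϑc n
  have hμ'N : ∀ n : N', μ' (n : M) = detChar ϑ' n := by
    intro n
    rw [hdetϑ', hμ'app]
    exact hμN (e n)
  have hϑ'1 : ϑ' 1 = d := by
    rw [hϑ'app, map_one]
    exact hd
  obtain ⟨ψ0, hψ0, hψ0N⟩ := ih N'.index hlt M N' rfl hsolv' ϑ' hϑ' hinv' d hϑ'1 hcop' μ' hμ'
    hμ'1 hμ'N
  have hψ0c : IsCharacter M ψ0 := isCharacter_of_isIrrCharacter hψ0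
  obtain ⟨hD0c, hD01⟩ := isCharacter_detChar hψ0c
  have hψ0d : ψ0 1 = d := by
    have h1 := hψ0N 1
    rw [hϑ'1] at h1
    exact h1
  have hD0N : ∀ n : N', detChar ψ0 (n : M) = detChar ϑ' n := by
    intro n
    rw [← detChar_restrict N' hψ0c n]
    congr 1
    funext x
    exact hψ0N x
  obtain ⟨k, hk⟩ : ∃ k, k = N'.index := ⟨_, rfl⟩
  have hpowmem : ∀ x : M, x ^ k ∈ N' := by
    intro x
    rw [hk]
    exact Subgroup.pow_index_mem N' x
  -- unit-valued homomorphisms
  let μu : M →* ℂˣ := toUnitsHom hμ' hμ'1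
  let Du : M →* ℂˣ := toUnitsHom hD0c hD01
  let νu : M →* ℂˣ := μu * Du⁻¹
  have hνapp : ∀ x : M, νu x = μu x * (Du x)⁻¹ := fun x => rfl
  have hνN : ∀ n : N', νu (n : M) = 1 := by
    intro n
    have h1 : μu (n : M) = Du (n : M) := by
      apply Units.ext
      rw [toUnitsHom_apply, toUnitsHom_apply, hμ'N, hD0N]
    rw [hνapp, h1, mul_inv_cancel]
  have hνk : ∀ x : M, νu x ^ k = 1 := by
    intro x
    rw [← map_pow]
    exact hνN ⟨x ^ k, hpowmem x⟩
  obtain ⟨a, b, hab⟩ : ∃ a b : ℤ, a * (d : ℤ) + b * (k : ℤ) = 1 := by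
    have h1 : IsCoprime (d : ℤ) (k : ℤ) := by
      rw [Nat.isCoprime_iff_coprime, hk]
      exact hcop'.symm
    obtain ⟨a, b, h⟩ := h1
    exact ⟨a, b, h⟩
  let lamu : M →* ℂˣ := (zpowGroupHom a).comp νu
  have hlamapp : ∀ x : M, lamu x = νu x ^ a := fun x => rfl
  have hlamd : ∀ x : M, lamu x ^ d = νu x := by
    intro x
    rw [hlamapp, ← zpow_natCast, ← zpow_mul]
    have h1 : a * (d : ℤ) = 1 - (k : ℤ) * b := by linarith
    rw [h1, zpow_sub, zpow_one, zpow_mul, zpow_natCast, hνk, one_zpow, inv_one, mul_one]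
  obtain ⟨lam, hlamdef⟩ : ∃ lam : M → ℂ, lam = fun x => ((lamu x : ℂˣ) : ℂ) := ⟨_, rfl⟩
  have hlamval : ∀ x : M, lam x = ((lamu x : ℂˣ) : ℂ) := fun x => by rw [hlamdef]
  have hlam : IsCharacter M lam := by
    rw [hlamdef]
    exact isCharacter_of_hom lamu
  have hlam1 : lam 1 = 1 := by
    rw [hlamval, map_one]
    rfl
  have hlamN : ∀ n : N', lam (n : M) = 1 := by
    intro n
    rw [hlamval, hlamapp, hνN, one_zpow]
    rfl
  obtain ⟨ψ, hψdef⟩ : ∃ ψ : M → ℂ, ψ = lam * ψ0 := ⟨_, rfl⟩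
  have hψ : IsIrrCharacter M ψ := by
    rw [hψdef]
    exact isIrrCharacter_linear_mul hlam hlam1 hψ0
  have hψc : IsCharacter M ψ := isCharacter_of_isIrrCharacter hψ
  have hψN : ∀ n : N', ψ (n : M) = ϑ' n := by
    intro n
    rw [hψdef, Pi.mul_apply, hlamN, one_mul, hψ0N]
  have hψd : ψ 1 = d := by
    rw [hψdef, Pi.mul_apply, hlam1, one_mul, hψ0d]
  have hψdet : ∀ x : M, detChar ψ x = μ' x := by
    intro x
    rw [hψdef, detChar_linear_mul hlam hlam1 hψ0c d hψ0d x, hlamval]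
    have h1 : lamu x ^ d * Du x = μu x := by
      rw [hlamd, hνapp, inv_mul_cancel_right]
    have h2 := congrArg (fun u : ℂˣ => (u : ℂ)) h1
    simp only [Units.val_mul, Units.val_pow_eq_pow_val] at h2
    rw [toUnitsHom_apply, toUnitsHom_apply] at h2
    exact h2
  have hμ'ne : ∀ x : M, μ' x ≠ 0 := by
    intro x
    rw [← toUnitsHom_apply hμ' hμ'1 x]
    exact Units.ne_zero _
  -- uniqueness of the extension with prescribed determinant
  have huniq : ∀ ψ' : M → ℂ, IsIrrCharacter M ψ' → (∀ n : N', ψ' (n : M) = ϑ' n) →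
      (∀ x : M, detChar ψ' x = μ' x) → ψ' = ψ := by
    intro ψ' hψ' hψ'N hψ'det
    haveI : Fintype N' := Fintype.ofFinite _
    have hψres : IsIrrCharacter N' (fun n : N' => ψ (n : M)) := by
      have : (fun n : N' => ψ (n : M)) = ϑ' := funext hψN
      rw [this]
      exact hϑ'
    obtain ⟨β, hβ, hβ1, hβN, hβψ⟩ := exists_linear_mul_of_restrict_eq N' ψ ψ' hψ hψ' hψres
      (fun n => (hψ'N n).trans (hψN n).symm)
    have hβeq : ∀ x : M, β x = 1 := by
      intro x
      have h1 : β x ^ d = 1 := by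
        have h2 := hψ'det x
        rw [hβψ, detChar_linear_mul hβ hβ1 hψc d hψd x, hψdet x] at h2
        exact mul_right_cancel₀ (hμ'ne x) (by rw [h2, one_mul])
      have h3 : β x ^ k = 1 := by
        rw [← toHom_apply hβ hβ1, ← map_pow, toHom_apply]
        exact hβN ⟨x ^ k, hpowmem x⟩
      have h4 : β x ^ Nat.gcd d k = 1 := pow_gcd_eq_one.mpr ⟨h1, h3⟩
      have h5 : Nat.gcd d k = 1 := by
        rw [hk]
        exact hcop'.symm
      rw [h5, pow_one] at h4
      exact h4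
    rw [hβψ]
    funext x
    rw [Pi.mul_apply, hβeq, one_mul]
  -- invariance of `ψ` in `G`
  have hψinv : ∀ (g : G) (x : M), ψ ⟨g * x * g⁻¹, hMn.conj_mem (x : G) x.2 g⟩ = ψ x := by
    intro g x
    have h1 : conjFun M ψ g = ψ := by
      apply huniq _ (isIrrCharacter_conjFun M hψ g)
      · intro n
        have hmem : (⟨g * ((n : M) : G) * g⁻¹, hMn.conj_mem _ (n : M).2 g⟩ : M) ∈ N' := by
          rw [hmemN']
          exact hN.conj_mem _ ((hmemN' _).mp n.2) g
        have h2 := hψN ⟨_, hmem⟩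
        show ψ ⟨g * ((n : M) : G) * g⁻¹, _⟩ = ϑ' n
        rw [h2, hϑ'app, hϑ'app, ← hinv g (e n)]
        rfl
      · intro x
        rw [conjFun_eq_comp]
        have h2 := detChar_comp (MulAut.conjNormal g : M ≃* M).toMonoidHom hψc x
        have h3 : (fun h : M => ψ ((MulAut.conjNormal g : M ≃* M) h))
            = fun x => ψ ((MulAut.conjNormal g : M ≃* M).toMonoidHom x) := rfl
        rw [h3, h2, hψdet, hμ'app, hμ'app]
        show μ (((MulAut.conjNormal g : M ≃* M) x : M) : G) = μ x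
        rw [MulAut.conjNormal_apply, map_mul_of_apply_one_eq_one hμ hμ1,
          map_mul_of_apply_one_eq_one hμ hμ1]
        have h4 : μ g * μ g⁻¹ = 1 := by
          rw [← map_mul_of_apply_one_eq_one hμ hμ1, mul_inv_cancel, hμ1]
        calc μ g * μ x * μ g⁻¹ = (μ g * μ g⁻¹) * μ x := by ring
          _ = μ x := by rw [h4, one_mul]
    exact congrFun h1 x
  obtain ⟨χ, hχ, hχM⟩ :=
    Cfsg.Agent.Lib.Helper4.CyclicExt.exists_irr_extension M hMcyc ψ hψ hψinv
  refine ⟨χ, hχ, ?_⟩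
  intro n
  have h1 := hχM ⟨n, hNM n.2⟩
  have h2 := hψN ⟨⟨n, hNM n.2⟩, (hmemN' _).mpr n.2⟩
  show χ (n : G) = ϑ n
  rw [show (n : G) = ((⟨n, hNM n.2⟩ : M) : G) from rfl, h1]
  rw [show (⟨n, hNM n.2⟩ : M) = ((⟨⟨n, hNM n.2⟩, (hmemN' _).mpr n.2⟩ : N') : M) from rfl, h2,
    hϑ'app]
  rfl

end main

end Cfsg.Agent.Lib.Helper4.DetExt
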