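import Mathlib
import Cfsg.Agent.S4624

set_option autoImplicit false

/-!
# Squares in the derived subgroup: transport lemmas, normal subgroups and kernels
-/

namespace Cfsg.Agent.Helper4.EAK

open Cfsg.Agent.S4624 Cfsg.Agent.Helper4.Wreath
open scoped commutatorElement Pointwise

section Basic
variable {G : Type*} [Group G] {G' : Type*} [Group G']

/-- all squares of `B` lie in the derived subgroup of `B` -/
def SqIn (B : Subgroup G) : Prop := ∀ x ∈ B, x ^ 2 ∈ ⁅B, B⁆

theorem EA2_iff : EA2 G ↔ ∃ P : Sylow 2 G, SqIn (P : Subgroup G) := Iff.rfl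

theorem SqIn.map {B : Subgroup G} (h : SqIn B) (φ : G →* G') : SqIn (B.map φ) := by
  rintro _ ⟨y, hy, rfl⟩
  rw [← Subgroup.map_commutator, ← map_pow]
  exact ⟨y ^ 2, h y hy, rfl⟩

theorem SqIn.of_map {B : Subgroup G} (φ : G →* G') (hφ : Function.Injective φ)
    (h : SqIn (B.map φ)) : SqIn B := by
  intro x hx
  have h1 := h (φ x) ⟨x, hx, rfl⟩
  rw [← Subgroup.map_commutator, ← map_pow] at h1
  obtain ⟨y, hy, hyx⟩ := h1
  rw [← hφ hyx]
  exact hy

theorem SqIn.mono_commutator {B C : Subgroup G} (hB : SqIn B) (hBC : B ≤ C) :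
    ∀ x ∈ B, x ^ 2 ∈ ⁅C, C⁆ :=
  fun x hx => Subgroup.commutator_mono hBC hBC (hB x hx)

theorem SqIn.conj {B : Subgroup G} (h : SqIn B) (g : G) : SqIn (MulAut.conj g • B) :=
  h.map (MulAut.conj g).toMonoidHom

theorem map_subtype_subgroupOf (B N : Subgroup G) :
    (B.subgroupOf N).map N.subtype = B ⊓ N := by
  rw [Subgroup.subgroupOf_map_subtype]

theorem sqIn_subgroupOf_iff (B N : Subgroup G) : SqIn (B.subgroupOf N) ↔ SqIn (B ⊓ N) := by
  constructor
  · intro h
    rw [← map_subtype_subgroupOf]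
    exact h.map _
  · intro h
    apply SqIn.of_map N.subtype N.subtype_injective
    rw [map_subtype_subgroupOf]
    exact h

end Basic

section Normal
variable {G : Type*} [Group G] [Finite G]

theorem smul_inf_normal (g : G) (S N : Subgroup G) [N.Normal] :
    MulAut.conj g • (S ⊓ N) = (MulAut.conj g • S) ⊓ N := by
  have hN : MulAut.conj g • N = N := Subgroup.Normal.conj_smul_eq_self g N
  conv_rhs => rw [← hN]
  exact Subgroup.smul_inf _ _ _

/-- if the normal subgroup `N` has the property, every Sylow subgroup of `G` meets `N` in a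
subgroup with the property -/
theorem sqIn_inf_of_EA2 (N : Subgroup G) [N.Normal] (h : EA2 ↥N) (S : Sylow 2 G) :
    SqIn ((S : Subgroup G) ⊓ N) := by
  obtain ⟨P, hP⟩ := h
  obtain ⟨Q, hQ⟩ := P.exists_comap_subtype_eq
  obtain ⟨g, hg⟩ := MulAction.exists_smul_eq G Q S
  have h1 : SqIn ((Q : Subgroup G).subgroupOf N) := by
    have : (Q : Subgroup G).subgroupOf N = (P : Subgroup ↥N) := hQ
    rw [this]
    exact hP
  rw [sqIn_subgroupOf_iff] at h1
  have h2 := h1.conj g
  rw [smul_inf_normal] at h2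
  rw [← hg, Sylow.coe_subgroup_smul]
  exact h2

/-- conversely, one Sylow subgroup meeting `N` in a subgroup with the property is enough -/
theorem EA2_of_sqIn_inf (N : Subgroup G) [N.Normal] (S : Sylow 2 G)
    (h : SqIn ((S : Subgroup G) ⊓ N)) : EA2 ↥N := by
  obtain ⟨P⟩ : Nonempty (Sylow 2 ↥N) := inferInstance
  obtain ⟨Q, hQ⟩ := P.exists_comap_subtype_eq
  obtain ⟨g, hg⟩ := MulAction.exists_smul_eq G S Q
  refine ⟨P, ?_⟩
  have h2 := h.conj g
  rw [smul_inf_normal, ← Sylow.coe_subgroup_smul, hg, ← sqIn_subgroupOf_iff] at h2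
  have : (Q : Subgroup G).subgroupOf N = (P : Subgroup ↥N) := hQ
  rw [← this]
  exact h2

/-- the version through an injective homomorphism preserving the `2`-part of the order -/
theorem EA2_of_sqIn_inf_comap {G' : Type*} [Group G'] [Finite G'] (φ : G →* G')
    (hφ : Function.Injective φ)
    (hv : (Nat.card G).factorization 2 = (Nat.card G').factorization 2)
    (N' : Subgroup G') [N'.Normal] (S : Sylow 2 G)
    (h : SqIn ((S : Subgroup G) ⊓ N'.comap φ)) : EA2 ↥N' := by
  have hcard : Nat.card ((S : Subgroup G).map φ) = 2 ^ (Nat.card G').factorization 2 := by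
    rw [Subgroup.card_map_of_injective hφ, S.card_eq_multiplicity, hv]
  apply EA2_of_sqIn_inf N' (Sylow.ofCard _ hcard)
  rw [Sylow.coe_ofCard]
  have : (S : Subgroup G).map φ ⊓ N' = ((S : Subgroup G) ⊓ N'.comap φ).map φ := by
    ext x
    constructor
    · rintro ⟨⟨y, hy, rfl⟩, hx⟩
      exact ⟨y, ⟨hy, hx⟩, rfl⟩
    · rintro ⟨y, ⟨hy, hy'⟩, rfl⟩
      exact ⟨⟨y, hy, rfl⟩, hy'⟩
  rw [this]
  exact h.map φ

end Normal

end Cfsg.Agent.Helper4.EAK
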