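import Mathlib
import Cfsg.Agent.Lib.Helper4.EAKernelA

set_option autoImplicit false

/-!
# Squares in the derived subgroup: the kernel of a product character on a wreath product
-/

namespace Cfsg.Agent.Helper4.EAK

open Cfsg.Agent.S4624 Cfsg.Agent.Helper4.Wreath
open scoped commutatorElement Pointwise

section WrSub
variable {ι : Type*} [DecidableEq ι] [Fintype ι] {H : Type*} [Group H]

theorem inr_mem_wrSub (Q : Subgroup H) (T : Subgroup (Equiv.Perm ι)) {σ : Equiv.Perm ι}
    (hσ : σ ∈ T) : (SemidirectProduct.inr σ : Wr ι H) ∈ wrSub Q T :=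
  ⟨fun _ => Subgroup.one_mem _, hσ⟩

theorem inl_mem_wrSub (Q : Subgroup H) (T : Subgroup (Equiv.Perm ι)) {a : ι → H}
    (ha : ∀ i, a i ∈ Q) : (SemidirectProduct.inl a : Wr ι H) ∈ wrSub Q T :=
  ⟨ha, Subgroup.one_mem _⟩

theorem single_left (i : ι) (h : H) : (single (ι := ι) i h).left = Pi.mulSingle i h := rfl

theorem single_right (i : ι) (h : H) : (single (ι := ι) i h).right = 1 := rfl

theorem single_mem_wrSub (Q : Subgroup H) (T : Subgroup (Equiv.Perm ι)) (i : ι) {h : H}
    (hh : h ∈ Q) : single i h ∈ wrSub Q T := by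
  refine ⟨fun j => ?_, Subgroup.one_mem _⟩
  rw [single_left]
  by_cases hj : j = i
  · rw [hj, Pi.mulSingle_eq_same]; exact hh
  · rw [Pi.mulSingle_eq_of_ne hj]; exact Subgroup.one_mem _

/-- the wreath product of two subgroups with the property has the property -/
theorem sqIn_wrSub {Q : Subgroup H} {T : Subgroup (Equiv.Perm ι)} (hQ : SqIn Q) (hT : SqIn T) :
    SqIn (wrSub Q T) := by
  obtain ⟨B, hB⟩ : ∃ B, B = wrSub Q T := ⟨_, rfl⟩
  rw [← hB]
  have hinr : ∀ σ ∈ T,
      (SemidirectProduct.inr σ : Wr ι H) ∈ B ∧ (SemidirectProduct.inr σ : Wr ι H) ^ 2 ∈ ⁅B, B⁆ := by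
    intro σ hσ
    have hle : T.map (SemidirectProduct.inr : _ →* Wr ι H) ≤ B := by
      rintro _ ⟨τ, hτ, rfl⟩
      rw [hB]
      exact inr_mem_wrSub Q T hτ
    refine ⟨hle ⟨σ, hσ, rfl⟩, ?_⟩
    have h1 := hT σ hσ
    have h2 : (SemidirectProduct.inr σ : Wr ι H) ^ 2
        ∈ (⁅T, T⁆).map (SemidirectProduct.inr : _ →* Wr ι H) := ⟨σ ^ 2, h1, map_pow _ _ _⟩
    rw [Subgroup.map_commutator] at h2
    exact Subgroup.commutator_mono hle hle h2
  have hsingle : ∀ i, Q.map (single i) ≤ B := by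
    rintro i _ ⟨h, hh, rfl⟩
    rw [hB]
    exact single_mem_wrSub Q T i hh
  have hpi : Subgroup.pi Set.univ (fun _ : ι => ⁅Q, Q⁆)
      ≤ (⁅B, B⁆).comap (SemidirectProduct.inl : _ →* Wr ι H) := by
    rw [Subgroup.pi_le_iff]
    rintro i _ ⟨x, hx, rfl⟩
    rw [Subgroup.mem_comap]
    have h2 : single i x ∈ (⁅Q, Q⁆).map (single (ι := ι) i) := ⟨x, hx, rfl⟩
    rw [Subgroup.map_commutator] at h2
    exact Subgroup.commutator_mono (hsingle i) (hsingle i) h2
  have hinl : ∀ a : ι → H, (∀ i, a i ∈ Q) →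
      (SemidirectProduct.inl a : Wr ι H) ∈ B ∧ (SemidirectProduct.inl a : Wr ι H) ^ 2 ∈ ⁅B, B⁆ := by
    intro a ha
    refine ⟨?_, ?_⟩
    · rw [hB]
      exact inl_mem_wrSub Q T ha
    · rw [← map_pow]
      apply hpi
      rw [Subgroup.mem_pi]
      intro i _
      rw [Pi.pow_apply]
      exact hQ (a i) (ha i)
  intro w hw
  have hw' := hw
  rw [hB] at hw'
  rw [← SemidirectProduct.inl_left_mul_inr_right w]
  obtain ⟨h1, h2⟩ := hinl w.left hw'.1
  obtain ⟨h3, h4⟩ := hinr w.right hw'.2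
  exact sq_mul_mem h1 h3 h2 h4

end WrSub

section Delta
variable {ι : Type*} [DecidableEq ι] [Fintype ι] {H : Type*} [Group H]
variable {A : Type*} [CommGroup A]

/-- the product of the values of a character on the coordinates -/
def deltaWr (δ : H →* A) : Wr ι H →* A where
  toFun w := ∏ i, δ (w.left i)
  map_one' := by
    simp
  map_mul' w w' := by
    simp only [SemidirectProduct.mul_left, Pi.mul_apply, permAut_apply, map_mul]
    rw [Finset.prod_mul_distrib]
    congr 1
    exact Equiv.prod_comp w.right.symm (fun i => δ (w'.left i))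

theorem deltaWr_apply (δ : H →* A) (w : Wr ι H) : deltaWr δ w = ∏ i, δ (w.left i) := rfl

theorem deltaWr_inr (δ : H →* A) (σ : Equiv.Perm ι) :
    deltaWr δ (SemidirectProduct.inr σ : Wr ι H) = 1 := by
  rw [deltaWr_apply]
  simp

theorem deltaWr_inl (δ : H →* A) (a : ι → H) :
    deltaWr δ (SemidirectProduct.inl a : Wr ι H) = ∏ i, δ (a i) := rfl

theorem deltaWr_single (δ : H →* A) (i : ι) (h : H) :
    deltaWr δ (single (ι := ι) i h) = δ h := by
  rw [deltaWr_apply, single_left, Finset.prod_eq_single i]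
  · rw [Pi.mulSingle_eq_same]
  · intro j _ hj
    rw [Pi.mulSingle_eq_of_ne hj, map_one]
  · intro h'
    exact absurd (Finset.mem_univ _) h'

/-- the pair element `(r at i, r⁻¹ at j)` -/
def pairEl (i j : ι) (r : H) : Wr ι H := single i r * single j r⁻¹

theorem deltaWr_pairEl (δ : H →* A) (i j : ι) (r : H) :
    deltaWr δ (pairEl i j r) = 1 := by
  unfold pairEl
  rw [map_mul, deltaWr_single, deltaWr_single, map_inv, mul_inv_cancel]

theorem pairEl_mem_wrSub (Q : Subgroup H) (T : Subgroup (Equiv.Perm ι)) (i j : ι) {r : H}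
    (hr : r ∈ Q) : pairEl i j r ∈ wrSub Q T :=
  Subgroup.mul_mem _ (single_mem_wrSub Q T i hr) (single_mem_wrSub Q T j (Q.inv_mem hr))

theorem pairEl_left_same {i j : ι} (hij : i ≠ j) (r : H) : (pairEl i j r).left i = r := by
  unfold pairEl
  rw [SemidirectProduct.mul_left, single_right, map_one, MulAut.one_apply, Pi.mul_apply,
    single_left, single_left, Pi.mulSingle_eq_same, Pi.mulSingle_eq_of_ne hij, mul_one]

theorem pairEl_left_other {i j : ι} (r : H) : (pairEl i j r).left j = (if i = j then r else 1) * r⁻¹ := by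
  unfold pairEl
  rw [SemidirectProduct.mul_left, single_right, map_one, MulAut.one_apply, Pi.mul_apply,
    single_left, single_left, Pi.mulSingle_eq_same]
  congr 1
  by_cases h : i = j
  · rw [if_pos h, h, Pi.mulSingle_eq_same]
  · rw [if_neg h, Pi.mulSingle_eq_of_ne (Ne.symm h)]

theorem pairEl_left_ne {i j k : ι} (hki : k ≠ i) (hkj : k ≠ j) (r : H) :
    (pairEl i j r).left k = 1 := by
  unfold pairEl
  rw [SemidirectProduct.mul_left, single_right, map_one, MulAut.one_apply, Pi.mul_apply,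
    single_left, single_left, Pi.mulSingle_eq_of_ne hki, Pi.mulSingle_eq_of_ne hkj, mul_one]

theorem pairEl_right (i j : ι) (r : H) : (pairEl i j r).right = 1 := by
  unfold pairEl
  rw [SemidirectProduct.mul_right, single_right, single_right, mul_one]

end Delta

end Cfsg.Agent.Helper4.EAK
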