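import Mathlib
import Cfsg.Agent.Lib.Helper4.EAKernelB

set_option autoImplicit false

/-!
# Squares in the derived subgroup: the generation argument for the kernel
-/

namespace Cfsg.Agent.Helper4.EAK

open Cfsg.Agent.S4624 Cfsg.Agent.Helper4.Wreath
open scoped commutatorElement Pointwise

section Main
variable {ι : Type*} [DecidableEq ι] [Fintype ι] {H : Type*} [Group H]
variable {A : Type*} [CommGroup A]

/-- the part of `Q ≀ T` in the kernel of the product character -/
def kerSub (δ : H →* A) (Q : Subgroup H) (T : Subgroup (Equiv.Perm ι)) : Subgroup (Wr ι H) :=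
  wrSub Q T ⊓ (deltaWr δ).ker

theorem mem_kerSub {δ : H →* A} {Q : Subgroup H} {T : Subgroup (Equiv.Perm ι)} {w : Wr ι H} :
    w ∈ kerSub δ Q T ↔ w ∈ wrSub Q T ∧ deltaWr δ w = 1 := by
  unfold kerSub
  rw [Subgroup.mem_inf, MonoidHom.mem_ker]

/-- the generating set -/
def gens (δ : H →* A) (Q : Subgroup H) (T : Subgroup (Equiv.Perm ι)) (R : Set H) :
    Set (Wr ι H) :=
  (wrSub (Q ⊓ δ.ker) T : Set (Wr ι H)) ∪ {x | ∃ i j r, i ≠ j ∧ r ∈ R ∧ x = pairEl i j r}

theorem wrSub_ker_le (δ : H →* A) (Q : Subgroup H) (T : Subgroup (Equiv.Perm ι)) :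
    wrSub (Q ⊓ δ.ker) T ≤ kerSub δ Q T := by
  intro w hw
  rw [mem_kerSub]
  refine ⟨⟨fun i => (hw.1 i).1, hw.2⟩, ?_⟩
  rw [deltaWr_apply]
  apply Finset.prod_eq_one
  intro i _
  exact (hw.1 i).2

theorem pairEl_mem_kerSub (δ : H →* A) (Q : Subgroup H) (T : Subgroup (Equiv.Perm ι)) (i j : ι)
    {r : H} (hr : r ∈ Q) : pairEl i j r ∈ kerSub δ Q T :=
  mem_kerSub.2 ⟨pairEl_mem_wrSub Q T i j hr, deltaWr_pairEl δ i j r⟩

theorem gens_subset (δ : H →* A) (Q : Subgroup H) (T : Subgroup (Equiv.Perm ι)) (R : Set H)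
    (hRQ : ∀ r ∈ R, r ∈ Q) : gens δ Q T R ⊆ kerSub δ Q T := by
  rintro x (hx | ⟨i, j, r, _, hr, rfl⟩)
  · exact wrSub_ker_le δ Q T hx
  · exact pairEl_mem_kerSub δ Q T i j (hRQ r hr)

theorem pairEl_eq_inl (i j : ι) (r : H) :
    pairEl i j r = (SemidirectProduct.inl (pairEl i j r).left : Wr ι H) := by
  apply SemidirectProduct.ext
  · rfl
  · rw [pairEl_right]; rfl

open Classical in
theorem inl_mem_closure (δ : H →* A) (Q : Subgroup H) (T : Subgroup (Equiv.Perm ι)) (R : Set H)
    (hRQ : ∀ r ∈ R, r ∈ Q) (hR : ∀ y ∈ Q, ∃ r ∈ R, δ r = δ y) :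
    ∀ (n : ℕ) (a : ι → H), (∀ i, a i ∈ Q) → ∏ i, δ (a i) = 1 →
      (Finset.univ.filter (fun i => δ (a i) ≠ 1)).card ≤ n →
      (SemidirectProduct.inl a : Wr ι H) ∈ Subgroup.closure (gens δ Q T R) := by
  classical
  intro n
  induction n with
  | zero =>
    intro a ha _ hcard
    apply Subgroup.subset_closure
    left
    refine ⟨fun i => (show a i ∈ Q ⊓ δ.ker from ⟨ha i, ?_⟩), Subgroup.one_mem _⟩
    show a i ∈ δ.ker
    rw [MonoidHom.mem_ker]
    by_contra hne
    have : i ∈ Finset.univ.filter (fun i => δ (a i) ≠ 1) :=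
      Finset.mem_filter.2 ⟨Finset.mem_univ _, hne⟩
    rw [Nat.le_zero, Finset.card_eq_zero] at hcard
    rw [hcard] at this
    exact absurd this (Finset.notMem_empty _)
  | succ n ih =>
    intro a ha hprod hcard
    by_cases hemp : Finset.univ.filter (fun i => δ (a i) ≠ 1) = ∅
    · apply ih a ha hprod
      rw [hemp]
      simp
    · obtain ⟨i, hi⟩ := Finset.nonempty_iff_ne_empty.2 hemp
      have hi' : δ (a i) ≠ 1 := (Finset.mem_filter.1 hi).2
      obtain ⟨j, hji, hj⟩ : ∃ j, j ≠ i ∧ δ (a j) ≠ 1 := by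
        by_contra hcon
        push Not at hcon
        apply hi'
        rw [← hprod]
        symm
        apply Finset.prod_eq_single i
        · intro j _ hj
          exact hcon j hj
        · intro h
          exact absurd (Finset.mem_univ _) h
      obtain ⟨r, hrR, hr⟩ := hR (a i) (ha i)
      have hrQ := hRQ r hrR
      obtain ⟨b, hb⟩ : ∃ b : ι → H, b = (pairEl i j r).left := ⟨_, rfl⟩
      have hbQ : ∀ k, b k ∈ Q := by
        intro k
        rw [hb]
        exact (pairEl_mem_wrSub Q T i j hrQ).1 k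
      have hbδ : ∏ k, δ (b k) = 1 := by
        have := deltaWr_pairEl δ i j r
        rw [deltaWr_apply, ← hb] at this
        exact this
      have hdecomp : (SemidirectProduct.inl a : Wr ι H)
          = pairEl i j r * SemidirectProduct.inl (b⁻¹ * a) := by
        rw [pairEl_eq_inl, ← hb, ← map_mul, mul_inv_cancel_left]
      rw [hdecomp]
      apply Subgroup.mul_mem
      · apply Subgroup.subset_closure
        right
        exact ⟨i, j, r, hji.symm, hrR, rfl⟩
      · apply ih
        · intro k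
          exact Q.mul_mem (Q.inv_mem (hbQ k)) (ha k)
        · simp only [Pi.mul_apply, Pi.inv_apply, map_mul, map_inv]
          rw [Finset.prod_mul_distrib, Finset.prod_inv_distrib, hbδ, hprod, inv_one, mul_one]
        · have hsub : Finset.univ.filter (fun k => δ ((b⁻¹ * a) k) ≠ 1)
              ⊆ (Finset.univ.filter (fun k => δ (a k) ≠ 1)).erase i := by
            intro k hk
            have hk' := (Finset.mem_filter.1 hk).2
            rw [Finset.mem_erase, Finset.mem_filter]
            have hki : k ≠ i := by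
              rintro rfl
              apply hk'
              rw [Pi.mul_apply, Pi.inv_apply, hb, pairEl_left_same hji.symm, map_mul, map_inv, hr,
                inv_mul_cancel]
            refine ⟨hki, Finset.mem_univ _, ?_⟩
            by_cases hkj : k = j
            · rw [hkj]; exact hj
            · intro hak
              apply hk'
              rw [Pi.mul_apply, Pi.inv_apply, hb, pairEl_left_ne hki hkj, inv_one, one_mul, hak]
          have h1 := Finset.card_le_card hsub
          rw [Finset.card_erase_of_mem hi] at h1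
          omega

theorem closure_gens (δ : H →* A) (Q : Subgroup H) (T : Subgroup (Equiv.Perm ι)) (R : Set H)
    (hRQ : ∀ r ∈ R, r ∈ Q) (hR : ∀ y ∈ Q, ∃ r ∈ R, δ r = δ y) :
    Subgroup.closure (gens δ Q T R) = kerSub δ Q T := by
  apply le_antisymm
  · rw [Subgroup.closure_le]
    exact gens_subset δ Q T R hRQ
  · intro w hw
    rw [mem_kerSub] at hw
    rw [← SemidirectProduct.inl_left_mul_inr_right w]
    apply Subgroup.mul_mem
    · apply inl_mem_closure δ Q T R hRQ hR _ w.left hw.1.1 hw.2 le_rfl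
    · apply Subgroup.subset_closure
      left
      exact inr_mem_wrSub _ T hw.1.2

/-- the main criterion -/
theorem sqIn_kerSub (δ : H →* A) (Q : Subgroup H) (T : Subgroup (Equiv.Perm ι))
    (hQ : SqIn (Q ⊓ δ.ker)) (hT : SqIn T) (R : Set H)
    (hRQ : ∀ r ∈ R, r ∈ Q) (hR : ∀ y ∈ Q, ∃ r ∈ R, δ r = δ y)
    (hpair : ∀ i j, i ≠ j → ∀ r ∈ R,
      (pairEl i j r) ^ 2 ∈ ⁅kerSub δ Q T, kerSub δ Q T⁆) :
    SqIn (kerSub δ Q T) := by
  apply sq_mem_of_closure (gens δ Q T R) (closure_gens δ Q T R hRQ hR)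
  rintro x (hx | ⟨i, j, r, hij, hr, rfl⟩)
  · exact (sqIn_wrSub hQ hT).mono_commutator (wrSub_ker_le δ Q T) x hx
  · exact hpair i j hij r hr

theorem single_commute {i j : ι} (hij : i ≠ j) (x y : H) :
    Commute (single (ι := ι) i x) (single j y) := by
  unfold single
  simp only [MonoidHom.comp_apply]
  exact (Pi.mulSingle_commute hij x y).map (SemidirectProduct.inl : _ →* Wr ι H)

/-- pair elements built from involutions are involutions -/
theorem pairEl_sq_of_sq {i j : ι} (hij : i ≠ j) {r : H} (hr : r ^ 2 = 1) :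
    (pairEl i j r) ^ 2 = 1 := by
  unfold pairEl
  rw [(single_commute hij r r⁻¹).mul_pow, ← map_pow, ← map_pow, inv_pow, hr, inv_one, map_one,
    map_one, mul_one]

theorem inr_conj_single (σ : Equiv.Perm ι) (i : ι) (h : H) :
    (SemidirectProduct.inr σ : Wr ι H) * single i h * (SemidirectProduct.inr σ)⁻¹
      = single (σ i) h := by
  rw [← map_inv]
  unfold single
  simp only [MonoidHom.comp_apply]
  rw [← SemidirectProduct.inl_aut]
  congr 1
  funext k
  rw [permAut_apply]
  simp only [MonoidHom.mulSingle_apply]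
  by_cases hk : k = σ i
  · rw [hk, Equiv.symm_apply_apply, Pi.mulSingle_eq_same, Pi.mulSingle_eq_same]
  · rw [Pi.mulSingle_eq_of_ne hk, Pi.mulSingle_eq_of_ne]
    intro h'
    apply hk
    rw [← h', Equiv.apply_symm_apply]

/-- a swap in `T` puts the square of a pair element in the derived subgroup -/
theorem pairEl_sq_mem_of_swap (δ : H →* A) (Q : Subgroup H) (T : Subgroup (Equiv.Perm ι))
    {i j : ι} (hswap : Equiv.swap i j ∈ T) {r : H} (hr : r ∈ Q) :
    (pairEl i j r) ^ 2 ∈ ⁅kerSub δ Q T, kerSub δ Q T⁆ := by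
  have hτ : (SemidirectProduct.inr (Equiv.swap i j) : Wr ι H) ∈ kerSub δ Q T :=
    mem_kerSub.2 ⟨inr_mem_wrSub Q T hswap, deltaWr_inr δ _⟩
  have he := pairEl_mem_kerSub δ Q T i j hr
  have h1 := Subgroup.commutator_mem_commutator hτ he
  have h2 : ⁅(SemidirectProduct.inr (Equiv.swap i j) : Wr ι H), pairEl i j r⁆
      = ((pairEl i j r) ^ 2)⁻¹ := by
    rw [commutatorElement_def]
    have h3 : (SemidirectProduct.inr (Equiv.swap i j) : Wr ι H) * pairEl i j r
        * (SemidirectProduct.inr (Equiv.swap i j))⁻¹ = (pairEl i j r)⁻¹ := by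
      unfold pairEl
      have hinv : (single (ι := ι) i r * single j r⁻¹)⁻¹ = single j r * single i r⁻¹ := by
        rw [mul_inv_rev, ← map_inv, ← map_inv, inv_inv]
      rw [hinv]
      have : (SemidirectProduct.inr (Equiv.swap i j) : Wr ι H) * (single i r * single j r⁻¹)
          * (SemidirectProduct.inr (Equiv.swap i j))⁻¹
          = ((SemidirectProduct.inr (Equiv.swap i j) : Wr ι H) * single i r
              * (SemidirectProduct.inr (Equiv.swap i j))⁻¹)
            * ((SemidirectProduct.inr (Equiv.swap i j) : Wr ι H) * single j r⁻¹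
              * (SemidirectProduct.inr (Equiv.swap i j))⁻¹) := by
        group
      rw [this, inr_conj_single, inr_conj_single, Equiv.swap_apply_left, Equiv.swap_apply_right]
    rw [h3, pow_two, mul_inv_rev]
  rw [h2] at h1
  exact (Subgroup.inv_mem_iff _).1 h1

end Main

end Cfsg.Agent.Helper4.EAK
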