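import Mathlib
import Cfsg.Agent.S2250

set_option autoImplicit false

/-!
# The `2`-part of the order of `GL_n(q)`, `q` odd
-/

namespace Cfsg.Agent.Helper4.GLOrders

open Finset

section Arith
variable (q : ℕ) (hq3 : 3 ≤ q) (hodd : Odd q)

include hq3 in
theorem pow_sub_one_ne_zero (k : ℕ) : q ^ (k + 1) - 1 ≠ 0 := by
  have : 3 ^ (k + 1) ≤ q ^ (k + 1) := Nat.pow_le_pow_left hq3 _
  have h3 : 1 < 3 ^ (k + 1) := Nat.one_lt_pow (by omega) (by norm_num)
  omega

include hq3 hodd in
theorem v2_odd_pow (k : ℕ) (hk : Odd k) :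
    padicValNat 2 (q ^ k - 1) = padicValNat 2 (q - 1) := by
  obtain ⟨d, hd⟩ : ∃ d, q = d + 1 := ⟨q - 1, by omega⟩
  have hgs := geom_sum_mul_add d k
  have h1 : q ^ k - 1 = (∑ i ∈ range k, q ^ i) * (q - 1) := by
    rw [hd, Nat.add_sub_cancel, ← hgs, Nat.add_sub_cancel]
  have hS : Odd (∑ i ∈ range k, q ^ i) := by
    rw [Finset.odd_sum_iff_odd_card_odd]
    have : (range k).filter (fun i => Odd (q ^ i)) = range k := by
      apply Finset.filter_true_of_mem
      intro i _
      exact hodd.pow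
    rw [this, card_range]
    exact hk
  have hS0 : (∑ i ∈ range k, q ^ i) ≠ 0 := by
    rintro h0
    rw [h0] at hS
    exact (by decide : ¬ Odd 0) hS
  rw [h1, padicValNat.mul hS0 (by omega), padicValNat.eq_zero_of_not_dvd, zero_add]
  rw [Nat.two_dvd_ne_zero]
  exact Nat.odd_iff.1 hS

include hq3 hodd in
theorem v2_sum_even (m : ℕ) :
    ∑ j ∈ range (2 * m), padicValNat 2 (q ^ (j + 1) - 1)
      = m * (2 * padicValNat 2 (q - 1) + padicValNat 2 (q + 1)) + padicValNat 2 m.factorial := by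
  induction m with
  | zero => simp
  | succ m ih =>
    have e : 2 * (m + 1) = 2 * m + 1 + 1 := by ring
    rw [e, Finset.sum_range_succ, Finset.sum_range_succ, ih,
      v2_odd_pow q hq3 hodd (2 * m + 1) ⟨m, rfl⟩]
    have := Cfsg.Agent.S2250.v2_term q hq3 hodd m
    have e2 : 2 * m + 1 + 1 = 2 * (m + 1) := by ring
    rw [e2, this, Nat.factorial_succ, padicValNat.mul (by omega) (Nat.factorial_ne_zero m)]
    ring

include hq3 hodd in
theorem v2_sum_odd (m : ℕ) :
    ∑ j ∈ range (2 * m + 1), padicValNat 2 (q ^ (j + 1) - 1)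
      = m * (2 * padicValNat 2 (q - 1) + padicValNat 2 (q + 1)) + padicValNat 2 m.factorial
        + padicValNat 2 (q - 1) := by
  rw [Finset.sum_range_succ, v2_sum_even q hq3 hodd m, v2_odd_pow q hq3 hodd (2 * m + 1) ⟨m, rfl⟩]

theorem v2_finset_prod {α : Type*} (s : Finset α) (f : α → ℕ) (h : ∀ i ∈ s, f i ≠ 0) :
    padicValNat 2 (∏ i ∈ s, f i) = ∑ i ∈ s, padicValNat 2 (f i) := by
  classical
  induction s using Finset.induction_on with
  | empty => simp
  | insert a s ha ih =>
    rw [Finset.prod_insert ha, Finset.sum_insert ha,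
      padicValNat.mul (h a (Finset.mem_insert_self a s))
        (Finset.prod_ne_zero_iff.mpr fun i hi => h i (Finset.mem_insert_of_mem hi)),
      ih (fun i hi => h i (Finset.mem_insert_of_mem hi))]

include hq3 hodd in
theorem v2_prod_GL (n : ℕ) :
    padicValNat 2 (∏ i : Fin n, (q ^ n - q ^ (i : ℕ)))
      = ∑ j ∈ range n, padicValNat 2 (q ^ (j + 1) - 1) := by
  have h2q : ¬ 2 ∣ q := by
    rw [Nat.two_dvd_ne_zero]
    exact Nat.odd_iff.1 hodd
  have hq0 : q ≠ 0 := by omega
  have hterm : ∀ i : ℕ, i < n → q ^ n - q ^ i = q ^ i * (q ^ (n - 1 - i + 1) - 1) := by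
    intro i hi
    have e : n = i + (n - 1 - i + 1) := by omega
    conv_lhs => rw [e, pow_add]
    rw [Nat.mul_sub, mul_one]
  have hne : ∀ i ∈ range n, q ^ n - q ^ i ≠ 0 := by
    intro i hi
    rw [Finset.mem_range] at hi
    rw [hterm i hi]
    exact Nat.mul_ne_zero (pow_ne_zero _ hq0) (pow_sub_one_ne_zero q hq3 _)
  rw [Fin.prod_univ_eq_prod_range (fun i => q ^ n - q ^ i) n, v2_finset_prod _ _ hne,
    ← Finset.sum_range_reflect]
  apply Finset.sum_congr rfl
  intro j hj
  rw [Finset.mem_range] at hj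
  have hi : n - 1 - j < n := by omega
  rw [hterm _ hi, padicValNat.mul (pow_ne_zero _ hq0) (pow_sub_one_ne_zero q hq3 _),
    padicValNat.pow, padicValNat.eq_zero_of_not_dvd h2q, mul_zero, zero_add]
  congr 3
  omega

theorem v2_factorial_two_pow (j : ℕ) : padicValNat 2 (2 ^ j).factorial = 2 ^ j - 1 := by
  induction j with
  | zero => simp
  | succ j ih =>
    rw [pow_succ, mul_comm, padicValNat_factorial_mul, ih]
    have : 1 ≤ 2 ^ j := Nat.one_le_two_pow
    omega

end Arith

section Card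
variable {F : Type*} [Field F] [Fintype F]

theorem v2_card_GL (hodd : Odd (Fintype.card F)) (n : ℕ) :
    padicValNat 2 (Nat.card (GL (Fin n) F))
      = ∑ j ∈ range n, padicValNat 2 (Fintype.card F ^ (j + 1) - 1) := by
  have hq3 : 3 ≤ Fintype.card F := by
    have hq1 : 1 < Fintype.card F := Fintype.one_lt_card
    rcases hodd with ⟨k, hk⟩
    omega
  rw [Matrix.card_GL_field, v2_prod_GL _ hq3 hodd]

end Card

end Cfsg.Agent.Helper4.GLOrders
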