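import Mathlib
import Cfsg.Agent.Lib.Helper4.WreathB

set_option autoImplicit false

/-!
# The imprimitive embedding `GL_κ(F) ≀ Perm ι → GL_{κ × ι}(F)` with its determinant
-/

namespace Cfsg.Agent.Helper4.GLWreath

open Matrix Cfsg.Agent.Helper4.Wreath

section Embed
variable {F : Type*} [Field F]
variable {ι κ : Type*} [Fintype ι] [DecidableEq ι] [Fintype κ] [DecidableEq κ]

/-- block diagonal matrices -/
def bdHom : (ι → GL κ F) →* GL (κ × ι) F :=
  (Units.map (Matrix.blockDiagonalRingHom κ ι F).toMonoidHom).comp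
    (MulEquiv.piUnits (M := fun _ : ι => Matrix κ κ F)).symm.toMonoidHom

theorem bdHom_coe (a : ι → GL κ F) :
    ((bdHom a : GL (κ × ι) F) : Matrix (κ × ι) (κ × ι) F)
      = Matrix.blockDiagonal (fun i => ((a i : GL κ F) : Matrix κ κ F)) := rfl

/-- the permutation of the blocks -/
def liftPerm : Equiv.Perm ι →* Equiv.Perm (κ × ι) where
  toFun σ := Equiv.prodCongrRight (fun _ : κ => σ)
  map_one' := by
    apply Equiv.ext
    intro x
    rfl
  map_mul' σ τ := by
    apply Equiv.ext
    intro x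
    rfl

theorem liftPerm_apply (σ : Equiv.Perm ι) (x : κ × ι) :
    liftPerm (κ := κ) σ x = (x.1, σ x.2) := rfl

/-- block permutation matrices -/
def ppHom : Equiv.Perm ι →* GL (κ × ι) F :=
  ((Matrix.permMatrixHom (n := κ × ι) (R := F)).comp (liftPerm (κ := κ))).toHomUnits

theorem ppHom_coe (σ : Equiv.Perm ι) :
    ((ppHom σ : GL (κ × ι) F) : Matrix (κ × ι) (κ × ι) F)
      = ((liftPerm (κ := κ) σ)⁻¹).permMatrix F := rfl

theorem ppHom_apply (σ : Equiv.Perm ι) (x y : κ × ι) :
    ((ppHom σ : GL (κ × ι) F) : Matrix (κ × ι) (κ × ι) F) x y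
      = if x = (y.1, σ y.2) then 1 else 0 := by
  rw [ppHom_coe, Equiv.Perm.permMatrix, PEquiv.toMatrix_apply]
  simp only [Equiv.toPEquiv_apply, Option.mem_def, Option.some.injEq]
  congr 1
  rw [Equiv.Perm.inv_def, Equiv.symm_apply_eq, liftPerm_apply, eq_iff_iff]

theorem pp_mul_bd (σ : Equiv.Perm ι) (a : ι → GL κ F) :
    ppHom σ * bdHom a = bdHom (fun i => a (σ.symm i)) * ppHom (κ := κ) (F := F) σ := by
  apply Units.ext
  rw [Units.val_mul, Units.val_mul, bdHom_coe, bdHom_coe]
  ext ⟨k, i⟩ ⟨l, j⟩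
  rw [Matrix.mul_apply, Matrix.mul_apply]
  rw [Finset.sum_eq_single (k, σ.symm i), Finset.sum_eq_single (l, σ j)]
  · rw [ppHom_apply, ppHom_apply, Matrix.blockDiagonal_apply, Matrix.blockDiagonal_apply]
    simp only [Equiv.apply_symm_apply, if_true, one_mul, mul_one]
    by_cases h : i = σ j
    · rw [if_pos h, if_pos (by rw [h, Equiv.symm_apply_apply])]
    · rw [if_neg h, if_neg (by
        intro h'
        apply h
        rw [← h', Equiv.apply_symm_apply])]
  · rintro ⟨l', j'⟩ _ hne
    rw [ppHom_apply, if_neg, mul_zero]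
    intro h
    apply hne
    simp only [Prod.mk.injEq] at h ⊢
    exact ⟨h.1, h.2⟩
  · intro h
    exact absurd (Finset.mem_univ _) h
  · rintro ⟨k', i'⟩ _ hne
    rw [ppHom_apply, if_neg, zero_mul]
    intro h
    apply hne
    simp only [Prod.mk.injEq] at h ⊢
    refine ⟨h.1.symm, ?_⟩
    rw [h.2, Equiv.symm_apply_apply]
  · intro h
    exact absurd (Finset.mem_univ _) h

/-- the imprimitive embedding of the wreath product -/
def Phi : Wr ι (GL κ F) →* GL (κ × ι) F :=
  SemidirectProduct.lift bdHom ppHom (by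
    intro σ
    apply MonoidHom.ext
    intro a
    show bdHom (permAut _ _ σ a) = ppHom σ * bdHom a * (ppHom σ)⁻¹
    rw [eq_mul_inv_iff_mul_eq]
    exact (pp_mul_bd σ a).symm)

theorem Phi_eq (w : Wr ι (GL κ F)) :
    Phi w = bdHom w.left * ppHom (κ := κ) (F := F) w.right := by
  conv_lhs => rw [← SemidirectProduct.inl_left_mul_inr_right w]
  rw [map_mul]
  unfold Phi
  rw [SemidirectProduct.lift_inl, SemidirectProduct.lift_inr]

theorem Phi_apply (w : Wr ι (GL κ F)) (k l : κ) (i j : ι) :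
    ((Phi w : GL (κ × ι) F) : Matrix (κ × ι) (κ × ι) F) (k, i) (l, j)
      = if i = w.right j then ((w.left i : GL κ F) : Matrix κ κ F) k l else 0 := by
  rw [Phi_eq, Units.val_mul, bdHom_coe, Matrix.mul_apply,
    Finset.sum_eq_single (l, w.right j)]
  · rw [ppHom_apply, if_pos rfl, mul_one, Matrix.blockDiagonal_apply]
  · rintro ⟨l', j'⟩ _ hne
    rw [ppHom_apply, if_neg hne, mul_zero]
  · intro h
    exact absurd (Finset.mem_univ _) h

theorem Phi_injective [Nonempty κ] : Function.Injective (Phi (F := F) (ι := ι) (κ := κ)) := by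
  rw [injective_iff_map_eq_one]
  intro w hw
  have key : ∀ (k l : κ) (i j : ι),
      (if i = w.right j then ((w.left i : GL κ F) : Matrix κ κ F) k l else 0)
        = (1 : Matrix (κ × ι) (κ × ι) F) (k, i) (l, j) := by
    intro k l i j
    rw [← Phi_apply, hw]
    rfl
  have hσ : ∀ j, w.right j = j := by
    intro j
    by_contra hne
    have h0 : ((w.left (w.right j) : GL κ F) : Matrix κ κ F) = 0 := by
      ext k l
      have := key k l (w.right j) j
      rw [if_pos rfl, Matrix.one_apply, if_neg] at this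
      · exact this
      · intro h
        exact hne (Prod.mk.inj h).2
    have hdet := (w.left (w.right j)).isUnit.map
      (Matrix.detMonoidHom : Matrix κ κ F →* F)
    rw [Matrix.coe_detMonoidHom, h0, Matrix.det_zero] at hdet
    exact not_isUnit_zero hdet
  apply SemidirectProduct.ext
  · funext i
    apply Units.ext
    ext k l
    have := key k l i i
    rw [if_pos (hσ i).symm] at this
    rw [this, SemidirectProduct.one_left, Pi.one_apply, Units.val_one, Matrix.one_apply,
      Matrix.one_apply]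
    simp
  · apply Equiv.ext
    intro j
    rw [hσ j]
    rfl

theorem det_bdHom (a : ι → GL κ F) :
    Matrix.det ((bdHom a : GL (κ × ι) F) : Matrix (κ × ι) (κ × ι) F)
      = ∏ i, Matrix.det ((a i : GL κ F) : Matrix κ κ F) := by
  rw [bdHom_coe, Matrix.det_blockDiagonal]

theorem det_ppHom (σ : Equiv.Perm ι) :
    Matrix.det ((ppHom σ : GL (κ × ι) F) : Matrix (κ × ι) (κ × ι) F)
      = (((Equiv.Perm.sign σ : ℤˣ) : ℤ) : F) ^ Fintype.card κ := by
  rw [ppHom_coe, Matrix.det_permutation, Equiv.Perm.sign_inv]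
  have : Equiv.Perm.sign (liftPerm (κ := κ) σ) = (Equiv.Perm.sign σ) ^ Fintype.card κ := by
    show Equiv.Perm.sign (Equiv.prodCongrRight (fun _ : κ => σ)) = _
    rw [Equiv.Perm.sign_prodCongrRight, Finset.prod_const, Finset.card_univ]
  rw [this]
  push_cast
  rfl

theorem det_Phi (w : Wr ι (GL κ F)) :
    Matrix.det ((Phi w : GL (κ × ι) F) : Matrix (κ × ι) (κ × ι) F)
      = (∏ i, Matrix.det ((w.left i : GL κ F) : Matrix κ κ F))
        * (((Equiv.Perm.sign w.right : ℤˣ) : ℤ) : F) ^ Fintype.card κ := by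
  rw [Phi_eq, Units.val_mul, Matrix.det_mul, det_bdHom, det_ppHom]

theorem det_Phi_of_even (h : Even (Fintype.card κ)) (w : Wr ι (GL κ F)) :
    Matrix.det ((Phi w : GL (κ × ι) F) : Matrix (κ × ι) (κ × ι) F)
      = ∏ i, Matrix.det ((w.left i : GL κ F) : Matrix κ κ F) := by
  rw [det_Phi]
  obtain ⟨r, hr⟩ := h
  have : ((((Equiv.Perm.sign w.right : ℤˣ) : ℤ) : F)) ^ Fintype.card κ = 1 := by
    rw [hr, ← two_mul, pow_mul]
    rcases Int.units_eq_one_or (Equiv.Perm.sign w.right) with h | h <;> rw [h] <;> simp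
  rw [this, mul_one]

end Embed

end Cfsg.Agent.Helper4.GLWreath
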