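import Mathlib
import Cfsg.Agent.Lib.Helper4.GLWreath

set_option autoImplicit false

/-!
# Utilities for `GL_n` and `SL_n`: reindexing, the subgroup `SL ≤ GL`, and `GL_n → SL_{n+1}`
-/

namespace Cfsg.Agent.Helper4.GLUtil

open Matrix Cfsg.Agent.Helper4.Wreath Cfsg.Agent.Helper4.GLWreath

section Reindex
variable {F : Type*} [Field F]
variable {n₁ n₂ : Type*} [Fintype n₁] [DecidableEq n₁] [Fintype n₂] [DecidableEq n₂]

/-- reindexing `GL` -/
def glReindex (e : n₁ ≃ n₂) : GL n₁ F ≃* GL n₂ F :=
  Units.mapEquiv (Matrix.reindexAlgEquiv F F e).toMulEquiv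

theorem glReindex_coe (e : n₁ ≃ n₂) (g : GL n₁ F) :
    ((glReindex e g : GL n₂ F) : Matrix n₂ n₂ F) = Matrix.reindex e e (g : Matrix n₁ n₁ F) := rfl

theorem det_glReindex (e : n₁ ≃ n₂) (g : GL n₁ F) :
    Matrix.det ((glReindex e g : GL n₂ F) : Matrix n₂ n₂ F)
      = Matrix.det (g : Matrix n₁ n₁ F) := by
  rw [glReindex_coe, Matrix.det_reindex_self]

/-- reindexing `SL` -/
def slReindex (e : n₁ ≃ n₂) : Matrix.SpecialLinearGroup n₁ F ≃* Matrix.SpecialLinearGroup n₂ F where
  toFun A := ⟨Matrix.reindex e e A.1, by rw [Matrix.det_reindex_self]; exact A.2⟩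
  invFun A := ⟨Matrix.reindex e.symm e.symm A.1, by rw [Matrix.det_reindex_self]; exact A.2⟩
  left_inv A := by
    apply Subtype.ext
    ext i j
    simp [Matrix.reindex_apply, Matrix.submatrix_apply]
  right_inv A := by
    apply Subtype.ext
    ext i j
    simp [Matrix.reindex_apply, Matrix.submatrix_apply]
  map_mul' A B := by
    apply Subtype.ext
    show Matrix.reindex e e (A.1 * B.1) = Matrix.reindex e e A.1 * Matrix.reindex e e B.1
    rw [Matrix.reindex_apply, Matrix.reindex_apply, Matrix.reindex_apply,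
      Matrix.submatrix_mul_equiv]

end Reindex

section SLSub
variable {F : Type*} [Field F]
variable {n : Type*} [Fintype n] [DecidableEq n]

/-- the special linear group as a subgroup of the general linear group -/
def slSub (n : Type*) [Fintype n] [DecidableEq n] (F : Type*) [Field F] : Subgroup (GL n F) :=
  (Matrix.GeneralLinearGroup.det : GL n F →* Fˣ).ker

instance : (slSub n F).Normal := by
  unfold slSub
  infer_instance

theorem mem_slSub {g : GL n F} : g ∈ slSub n F ↔ Matrix.det (g : Matrix n n F) = 1 := by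
  unfold slSub
  rw [MonoidHom.mem_ker, Units.ext_iff]
  rfl

/-- the identification of `SL` with the subgroup -/
noncomputable def slEquiv : Matrix.SpecialLinearGroup n F ≃* ↥(slSub n F) :=
  MulEquiv.ofBijective
    ((Matrix.SpecialLinearGroup.toGL : Matrix.SpecialLinearGroup n F →* GL n F).codRestrict
      (slSub n F) (fun A => mem_slSub.2 A.2))
    ⟨fun A B h => Matrix.SpecialLinearGroup.toGL_injective (congrArg Subtype.val h),
     fun g => ⟨⟨(g.1 : Matrix n n F), mem_slSub.1 g.2⟩, Subtype.ext (Units.ext rfl)⟩⟩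

end SLSub

section BdOne
variable {F : Type*} [Field F]
variable {n : Type*} [Fintype n] [DecidableEq n]

/-- `g ↦ diag(g, (det g)⁻¹)` -/
def bdOne : GL n F →* Matrix.SpecialLinearGroup (n ⊕ Fin 1) F where
  toFun g := ⟨Matrix.fromBlocks (g : Matrix n n F) 0 0
      (Matrix.diagonal fun _ => (Matrix.det (g : Matrix n n F))⁻¹), by
    rw [Matrix.det_fromBlocks_zero₂₁, Matrix.det_diagonal, Finset.prod_const, Finset.card_univ,
      Fintype.card_fin, pow_one]
    have : Matrix.det (g : Matrix n n F) ≠ 0 := by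
      have := (Matrix.GeneralLinearGroup.det g).ne_zero
      exact this
    exact mul_inv_cancel₀ this⟩
  map_one' := by
    apply Subtype.ext
    show Matrix.fromBlocks ((1 : GL n F) : Matrix n n F) 0 0
      (Matrix.diagonal fun _ => (Matrix.det ((1 : GL n F) : Matrix n n F))⁻¹) = 1
    rw [Units.val_one, Matrix.det_one, inv_one, Matrix.diagonal_one, Matrix.fromBlocks_one]
  map_mul' g h := by
    apply Subtype.ext
    show Matrix.fromBlocks ((g * h : GL n F) : Matrix n n F) 0 0
        (Matrix.diagonal fun _ => (Matrix.det ((g * h : GL n F) : Matrix n n F))⁻¹)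
      = Matrix.fromBlocks (g : Matrix n n F) 0 0
          (Matrix.diagonal fun _ => (Matrix.det (g : Matrix n n F))⁻¹)
        * Matrix.fromBlocks (h : Matrix n n F) 0 0
          (Matrix.diagonal fun _ => (Matrix.det (h : Matrix n n F))⁻¹)
    rw [Matrix.fromBlocks_multiply, Units.val_mul, Matrix.det_mul, mul_inv,
      Matrix.diagonal_mul_diagonal]
    simp

theorem bdOne_injective : Function.Injective (bdOne (F := F) (n := n)) := by
  intro g h hgh
  apply Units.ext
  have h1 := congrArg (fun A : Matrix.SpecialLinearGroup (n ⊕ Fin 1) F => A.1.toBlocks₁₁) hgh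
  have h2 : ∀ x : GL n F, (bdOne x).1.toBlocks₁₁ = (x : Matrix n n F) := by
    intro x
    show (Matrix.fromBlocks (x : Matrix n n F) 0 0
      (Matrix.diagonal fun _ => (Matrix.det (x : Matrix n n F))⁻¹)).toBlocks₁₁ = _
    rw [Matrix.toBlocks_fromBlocks₁₁]
  simp only [h2] at h1
  exact h1

end BdOne

end Cfsg.Agent.Helper4.GLUtil
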