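import Mathlib
import Cfsg.Prelude.Def_Transfer
import Cfsg.Prelude.Def_TwoFusion
import Cfsg.Prelude.Def_LocalEven
import Cfsg.Agent.Lib.Helper4.GTFus8

/-!
# The triple factorization theorem: a strongly closed elementary abelian subgroup controlling strong fusion
-/

set_option autoImplicit false
set_option linter.style.haveILetI false
set_option linter.unusedVariables false
set_option linter.unusedSectionVars false

namespace Cfsg.Agent.Lib.Helper4.GTFus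

open Cfsg Cfsg.Agent.Lib.Helper7 Cfsg.Agent.Lib.Lead.Conj Cfsg.Agent.Lib.Lead.ConjFamily Cfsg.Agent.S1963
  Cfsg.Agent.S1965 Cfsg.Agent.S1961 Cfsg.Agent.S1959 Cfsg.Agent.Lib.Helper4.GT2
  Cfsg.Agent.Lib.Helper4.GTSec Cfsg.Agent.Lib.Helper4.PNil

open scoped Pointwise

universe u

section chle

variable {G : Type*} [Group G] {𝓦 : Set (Subgroup G → Subgroup G)} {S : Subgroup G}

/-- a chain all of whose normalizers lie in `L` is a conjugation by an element of `L` -/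
theorem ch_mem_of_le {L : Subgroup G}
    (hL : ∀ W ∈ 𝓦, Subgroup.normalizer ((W S : Subgroup G) : Set G) ≤ L) {A : Set G} {h : G}
    (hc : Ch 𝓦 S A h) : ∃ x ∈ L, ∀ a ∈ A, x * a * x⁻¹ = h * a * h⁻¹ := by
  induction hc with
  | refl hA => exact ⟨1, Subgroup.one_mem _, fun a _ => rfl⟩
  | @step h s W hW hs hsA hch ih =>
    obtain ⟨x, hx, hxa⟩ := ih
    refine ⟨s * x, Subgroup.mul_mem _ (hL W hW hs) hx, fun a ha => ?_⟩
    calc s * x * a * (s * x)⁻¹ = s * (x * a * x⁻¹) * s⁻¹ := by group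
      _ = s * (h * a * h⁻¹) * s⁻¹ := by rw [hxa a ha]
      _ = s * h * a * (s * h)⁻¹ := by group
  | @congr h h' hch hh ih =>
    obtain ⟨x, hx, hxa⟩ := ih
    exact ⟨x, hx, fun a ha => (hxa a ha).trans (hh a ha).symm⟩

end chle

section nc

variable {G : Type*} [Group G]

/-- the normal closure of `Z` in `N`, viewed in `G` -/
def ncIn (N Z : Subgroup G) : Subgroup G :=
  (Subgroup.normalClosure ((Z.subgroupOf N : Subgroup ↥N) : Set ↥N)).map N.subtype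

theorem le_ncIn {N Z : Subgroup G} (hZN : Z ≤ N) : Z ≤ ncIn N Z := by
  intro z hz
  refine ⟨⟨z, hZN hz⟩, Subgroup.subset_normalClosure ?_, rfl⟩
  exact Subgroup.mem_subgroupOf.mpr hz

theorem ncIn_le_normalizer (N Z : Subgroup G) : N ≤ Subgroup.normalizer ((ncIn N Z : Subgroup G) : Set G) := by
  intro n hn
  have key : ∀ n ∈ N, ∀ a ∈ ncIn N Z, n * a * n⁻¹ ∈ ncIn N Z := by
    rintro n hn _ ⟨a, ha, rfl⟩
    have h1 : (⟨n, hn⟩ : ↥N) * a * (⟨n, hn⟩ : ↥N)⁻¹ ∈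
        Subgroup.normalClosure ((Z.subgroupOf N : Subgroup ↥N) : Set ↥N) :=
      Subgroup.normalClosure_normal.conj_mem a ha ⟨n, hn⟩
    exact ⟨_, h1, rfl⟩
  rw [Subgroup.mem_normalizer_iff]
  intro a
  constructor
  · exact key n hn a
  · intro h
    have := key n⁻¹ (N.inv_mem hn) _ h
    convert this using 1
    group

theorem ncIn_le {N Z B : Subgroup G} (hZB : Z ≤ B) (hNB : N ≤ Subgroup.normalizer (B : Set G)) :
    ncIn N Z ≤ B := by
  haveI : (B.subgroupOf N).Normal := Subgroup.normal_subgroupOf_of_le_normalizer hNB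
  have h1 : Subgroup.normalClosure ((Z.subgroupOf N : Subgroup ↥N) : Set ↥N) ≤ B.subgroupOf N := by
    apply Subgroup.normalClosure_le_normal
    intro z hz
    exact Subgroup.mem_subgroupOf.mpr (hZB (Subgroup.mem_subgroupOf.mp hz))
  rintro _ ⟨a, ha, rfl⟩
  exact Subgroup.mem_subgroupOf.mp (h1 ha)

end nc

section elem

variable {G : Type*} [Group G] {p : ℕ}

/-- `Ω₁` of the centre of a subgroup is elementary abelian -/
theorem omegaOneCenter_elem (V : Subgroup G) :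
    Cfsg.IsElementaryAbelian p (Cfsg.omegaOne p (V ⊓ Subgroup.centralizer (V : Set G))) := by
  have hle := omegaOneCenter_le (p := p) V
  have hcomm : ∀ a ∈ Cfsg.omegaOne p (V ⊓ Subgroup.centralizer (V : Set G)),
      ∀ b ∈ Cfsg.omegaOne p (V ⊓ Subgroup.centralizer (V : Set G)), a * b = b * a := by
    intro a ha b hb
    exact (Subgroup.mem_centralizer_iff.mp (hle hb).2) a (hle ha).1
  refine ⟨⟨⟨fun a b => Subtype.ext (hcomm a a.2 b b.2)⟩⟩, ?_⟩
  intro a ha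
  have hpow : ∀ x ∈ Cfsg.omegaOne p (V ⊓ Subgroup.centralizer (V : Set G)), x ^ p = 1 := by
    intro x hx
    unfold Cfsg.omegaOne at hx
    induction hx using Subgroup.closure_induction with
    | mem x hx => exact hx.2
    | one => exact one_pow p
    | mul x y hx hy ihx ihy =>
      have hc : Commute x y := hcomm x hx y hy
      rw [hc.mul_pow, ihx, ihy, one_mul]
    | inv x hx ih => rw [inv_pow, ih, inv_one]
  exact hpow a ha

end elem

section triple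

variable {p : ℕ} [Fact p.Prime] {G : Type u} [Group G] [Finite G]

/-- the pair `{W₁, W₂}` controls strong fusion, from the factorization `N(W₁ T) N(W₂ T)` in the constrained sections -/
theorem pair_control (W₁ W₂ : ∀ (Q : Type u) [Group Q], Subgroup Q) (hW₁ : Cfsg.IsCharPFunctor.{u} p W₁)
    (hW₂ : Cfsg.IsCharPFunctor.{u} p W₂)
    (hfac : ∀ (K R : Subgroup G) [hR : (R.subgroupOf K).Normal],
      Subgroup.centralizer ((Cfsg.pCore p (↥K ⧸ R.subgroupOf K) : Subgroup (↥K ⧸ R.subgroupOf K)) :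
        Set (↥K ⧸ R.subgroupOf K)) ≤ Cfsg.pCore p (↥K ⧸ R.subgroupOf K) →
      ∀ T : Sylow p (↥K ⧸ R.subgroupOf K), ∀ x : (↥K ⧸ R.subgroupOf K),
        ∃ a ∈ Subgroup.normalizer ((Cfsg.inducedFunctor (G := (↥K ⧸ R.subgroupOf K)) W₁
          (T : Subgroup (↥K ⧸ R.subgroupOf K)) : Subgroup (↥K ⧸ R.subgroupOf K)) : Set (↥K ⧸ R.subgroupOf K)),
        ∃ b ∈ Subgroup.normalizer ((Cfsg.inducedFunctor (G := (↥K ⧸ R.subgroupOf K)) W₂
          (T : Subgroup (↥K ⧸ R.subgroupOf K)) : Subgroup (↥K ⧸ R.subgroupOf K)) : Set (↥K ⧸ R.subgroupOf K)),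
          x = a * b) :
    (∀ W' ∈ ({W₁, W₂} : Set (∀ (Q : Type u) [Group Q], Subgroup Q)), Cfsg.IsCharPFunctor.{u} p W') ∧
    FamilyControlsStrongFusionIn p (Ind ({W₁, W₂} : Set (∀ (Q : Type u) [Group Q], Subgroup Q)) G) ⊤ := by
  have h𝓦 : ∀ W' ∈ ({W₁, W₂} : Set (∀ (Q : Type u) [Group Q], Subgroup Q)), Cfsg.IsCharPFunctor.{u} p W' := by
    rintro W' (rfl | rfl)
    · exact hW₁
    · exact hW₂
  refine ⟨h𝓦, ?_⟩
  exact main_sections h𝓦 G (fun K' R' hR' hc => by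
    obtain ⟨T'⟩ : Nonempty (Sylow p (↥K' ⧸ R'.subgroupOf K')) := inferInstance
    have hf := hfac K' R' hc T'
    have hT : ∀ W', Cfsg.IsCharPFunctor.{u} p W' → (T' : Subgroup (↥K' ⧸ R'.subgroupOf K')) ≤
        Subgroup.normalizer ((Cfsg.inducedFunctor (G := ↥K' ⧸ R'.subgroupOf K') W'
          (T' : Subgroup (↥K' ⧸ R'.subgroupOf K')) : Subgroup (↥K' ⧸ R'.subgroupOf K')) :
          Set (↥K' ⧸ R'.subgroupOf K')) := fun W' hW' =>
      Subgroup.le_normalizer.trans (normalizer_le_normalizer_W2 (pFunctor2_induced W' hW') _ T'.isPGroup')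
    exact family_of_ch T' (fun A g hA hgA => ch_of_factorization T'
      (Cfsg.inducedFunctor (G := ↥K' ⧸ R'.subgroupOf K') W₁)
      (Cfsg.inducedFunctor (G := ↥K' ⧸ R'.subgroupOf K') W₂)
      (show Cfsg.inducedFunctor (G := ↥K' ⧸ R'.subgroupOf K') W₁ ∈
        Ind ({W₁, W₂} : Set (∀ (Q : Type u) [Group Q], Subgroup Q)) (↥K' ⧸ R'.subgroupOf K') from
        ⟨W₁, Or.inl rfl, rfl⟩)
      (show Cfsg.inducedFunctor (G := ↥K' ⧸ R'.subgroupOf K') W₂ ∈
        Ind ({W₁, W₂} : Set (∀ (Q : Type u) [Group Q], Subgroup Q)) (↥K' ⧸ R'.subgroupOf K') from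
        ⟨W₂, Or.inr rfl, rfl⟩)
      (hT W₁ hW₁) (hT W₂ hW₂) hf A g hA hgA)) G (isSec_self G)

/-- the key step: if `N₁ = C_{N₁}(Z)(N₁ ∩ N₂)` and `N₂ = C_{N₂}(Z)(N₁ ∩ N₂)` then `N₂` normalizes the normal closure of
`Z` in `N₁` -/
theorem ncIn_normalized {N₁ N₂ Z : Subgroup G} (hZN : Z ≤ N₁ ⊓ N₂)
    (F₁ : ∀ x ∈ N₁, ∃ a ∈ N₁ ⊓ Subgroup.centralizer (Z : Set G), ∃ b ∈ N₁ ⊓ N₂, x = a * b)
    (F₂ : ∀ x ∈ N₂, ∃ a ∈ N₂ ⊓ Subgroup.centralizer (Z : Set G), ∃ b ∈ N₂ ⊓ N₁, x = a * b) :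
    N₂ ≤ Subgroup.normalizer ((ncIn N₁ Z : Subgroup G) : Set G) := by
  set gen : Set G := {y | ∃ b ∈ N₁ ⊓ N₂, ∃ z ∈ Z, y = b * z * b⁻¹} with hgen
  set A₀ : Subgroup G := Subgroup.closure gen with hA₀
  have hZA₀ : Z ≤ A₀ := by
    intro z hz
    apply Subgroup.subset_closure
    exact ⟨1, Subgroup.one_mem _, z, hz, by group⟩
  have hstep : ∀ (N : Subgroup G), N ≤ N₁ ⊔ N₂ → (∀ x ∈ N, ∃ a ∈ Subgroup.centralizer (Z : Set G),
      ∃ b ∈ N₁ ⊓ N₂, x = a * b) → (N₁ ⊓ N₂ ≤ N) → N ≤ Subgroup.normalizer (A₀ : Set G) := by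
    intro N _ hF hIN x hx
    apply mem_normalizer_of_cj_le
    unfold cj
    rw [hA₀, MonoidHom.map_closure, Subgroup.closure_le]
    rintro _ ⟨_, ⟨b, hb, z, hz, rfl⟩, rfl⟩
    apply Subgroup.subset_closure
    have hxb : (x * b)⁻¹ ∈ N := N.inv_mem (N.mul_mem hx (hIN hb))
    obtain ⟨a, ha, b', hb', hab⟩ := hF _ hxb
    have hxb' : x * b = b'⁻¹ * a⁻¹ := by
      have : x * b = ((x * b)⁻¹)⁻¹ := (inv_inv _).symm
      rw [this, hab, mul_inv_rev]
    have haz : a⁻¹ * z * a = z := by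
      have := (Subgroup.mem_centralizer_iff.mp ha) z hz
      rw [mul_assoc, this, ← mul_assoc, inv_mul_cancel, one_mul]
    refine ⟨b'⁻¹, Subgroup.inv_mem _ hb', z, hz, ?_⟩
    show x * (b * z * b⁻¹) * x⁻¹ = b'⁻¹ * z * b'⁻¹⁻¹
    calc x * (b * z * b⁻¹) * x⁻¹ = (x * b) * z * (x * b)⁻¹ := by group
      _ = b'⁻¹ * (a⁻¹ * z * a) * b' := by rw [hxb']; group
      _ = b'⁻¹ * z * b'⁻¹⁻¹ := by rw [haz, inv_inv]
  have hN₁ : N₁ ≤ Subgroup.normalizer (A₀ : Set G) :=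
    hstep N₁ le_sup_left (fun x hx => by
      obtain ⟨a, ha, b, hb, hab⟩ := F₁ x hx
      exact ⟨a, ha.2, b, hb, hab⟩) inf_le_left
  have hN₂ : N₂ ≤ Subgroup.normalizer (A₀ : Set G) :=
    hstep N₂ le_sup_right (fun x hx => by
      obtain ⟨a, ha, b, hb, hab⟩ := F₂ x hx
      exact ⟨a, ha.2, b, ⟨hb.2, hb.1⟩, hab⟩) inf_le_right
  have hA : ncIn N₁ Z = A₀ := by
    apply le_antisymm
    · exact ncIn_le hZA₀ hN₁
    · rw [hA₀, Subgroup.closure_le]
      rintro _ ⟨b, hb, z, hz, rfl⟩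
      exact (Subgroup.mem_normalizer_iff.mp (ncIn_le_normalizer N₁ Z hb.1) z).mp
        (le_ncIn (hZN.trans inf_le_left) hz)
  rw [hA]; exact hN₂

end triple

end Cfsg.Agent.Lib.Helper4.GTFus
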