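import Mathlib
import Cfsg.Prelude.Def_BlockLocal
import Cfsg.Agent.Lib.helper3.GNS0
import Cfsg.Agent.Lib.Helper8.GS2

/-!
# S4642, piece P2: the Glauberman data for an invariant character of a normal `p'`-subgroup
-/

set_option autoImplicit false
set_option linter.style.haveILetI false
set_option linter.unusedSectionVars false
set_option linter.unusedVariables false

namespace Cfsg.Agent.Lib.Helper4.GlData

open Cfsg Cfsg.Agent.Lib.helper3.Irr Cfsg.Agent.Lib.helper3.CharBasic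
open Cfsg.Agent.Lib.helper3.GlP
open Cfsg.Agent.Lib.helper3.GNS (ip res ip_eq_classInner)

/-- An element of `C_G(R)` normalizes `K ⊓ C_G(R)` when `K` is normal. -/
theorem mem_normalizer_inf_centralizer {G : Type*} [Group G] (K R : Subgroup G) [K.Normal]
    (c : G) (hc : c ∈ Subgroup.centralizer (R : Set G)) :
    c ∈ Subgroup.normalizer ((K ⊓ Subgroup.centralizer (R : Set G) : Subgroup G) : Set G) := by
  rw [Subgroup.mem_normalizer_iff]
  intro h
  rw [Subgroup.mem_inf, Subgroup.mem_inf]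
  constructor
  · rintro ⟨h1, h2⟩
    exact ⟨Subgroup.Normal.conj_mem inferInstance h h1 c,
      Subgroup.mul_mem _ (Subgroup.mul_mem _ hc h2) (Subgroup.inv_mem _ hc)⟩
  · rintro ⟨h1, h2⟩
    constructor
    · have := Subgroup.Normal.conj_mem (inferInstance : K.Normal) _ h1 c⁻¹
      simpa [mul_assoc] using this
    · have := Subgroup.mul_mem _ (Subgroup.mul_mem _ (Subgroup.inv_mem _ hc) h2) hc
      simpa [mul_assoc] using this

/-- **P2 of S4642.**  The Glauberman correspondent `θs ∈ Irr(K ∩ C_G(R))` of a `G`-invariant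
`θ ∈ Irr(K)`, `K` a normal `p'`-subgroup, `R` a `p`-subgroup: its multiplicity in `θ` restricted
is prime to `p`, all other multiplicities are divisible by `p`, and `θs` is `C_G(R)`-invariant. -/
theorem exists_glauberman_data {G : Type*} [Group G] [Fintype G] (p : ℕ) [hp : Fact p.Prime]
    (K R : Subgroup G) [K.Normal] (hKp : (Nat.card K).Coprime p) (hR : IsPGroup p R)
    (θ : IrrCharacter ↥K) (hθ : ∀ g : G, IsConjCharOf K g θ θ) :
    ∃ θs : IrrCharacter ↥(K ⊓ Subgroup.centralizer (R : Set G)),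
      (∃ a : ℕ, ip (res (inf_le_left : K ⊓ Subgroup.centralizer (R : Set G) ≤ K) (θ : ↥K → ℂ))
          (θs : ↥(K ⊓ Subgroup.centralizer (R : Set G)) → ℂ) = a ∧ ¬ p ∣ a) ∧
      (∀ φ : IrrCharacter ↥(K ⊓ Subgroup.centralizer (R : Set G)), φ ≠ θs →
        ∃ a : ℕ, ip (res (inf_le_left : K ⊓ Subgroup.centralizer (R : Set G) ≤ K) (θ : ↥K → ℂ))
          (φ : ↥(K ⊓ Subgroup.centralizer (R : Set G)) → ℂ) = a ∧ p ∣ a) ∧
      ∀ c ∈ Subgroup.centralizer (R : Set G),
        IsConjCharOf (K ⊓ Subgroup.centralizer (R : Set G)) c θs θs := by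
  classical
  letI : Fintype ↥K := Fintype.ofFinite _
  letI : Fintype ↥(K ⊓ Subgroup.centralizer (R : Set G)) := Fintype.ofFinite _
  have hnorm : R ≤ Subgroup.normalizer (K : Set G) := by
    rw [Subgroup.normalizer_eq_top]
    exact le_top
  have hcop : (Nat.card K).Coprime (Nat.card R) := by
    obtain ⟨k, hk⟩ := IsPGroup.iff_card.mp hR
    rw [hk]
    exact Nat.Coprime.pow_right k hKp
  obtain ⟨h1, -, -⟩ := corr_all p (Nat.card R) R rfl hR K hnorm hcop
    (K ⊓ Subgroup.centralizer (R : Set G)) rfl inf_le_left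
  obtain ⟨β, ε, hε, hβ⟩ := h1 θ (fun s _ => hθ s)
  have hmult : ∀ β' : IrrCharacter ↥(K ⊓ Subgroup.centralizer (R : Set G)), ∃ a : ℕ,
      ip (res (inf_le_left : K ⊓ Subgroup.centralizer (R : Set G) ≤ K) (θ : ↥K → ℂ))
        (β' : ↥(K ⊓ Subgroup.centralizer (R : Set G)) → ℂ) = a ∧
        (a : ℤ) ≡ (if β' = β then ε else 0) [ZMOD p] := by
    intro β'
    obtain ⟨a, ha, hmod⟩ := hβ β'
    refine ⟨a, ?_, hmod⟩
    rw [ip_eq_classInner]
    exact ha
  have hA : ∃ a : ℕ, ip (res (inf_le_left : K ⊓ Subgroup.centralizer (R : Set G) ≤ K)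
      (θ : ↥K → ℂ)) (β : ↥(K ⊓ Subgroup.centralizer (R : Set G)) → ℂ) = a ∧ ¬ p ∣ a := by
    obtain ⟨a, ha, hmod⟩ := hmult β
    rw [if_pos rfl] at hmod
    exact ⟨a, ha, not_dvd_of_modEq_sign p hp.out a ε hε hmod⟩
  have hB : ∀ φ : IrrCharacter ↥(K ⊓ Subgroup.centralizer (R : Set G)), φ ≠ β →
      ∃ a : ℕ, ip (res (inf_le_left : K ⊓ Subgroup.centralizer (R : Set G) ≤ K) (θ : ↥K → ℂ))
        (φ : ↥(K ⊓ Subgroup.centralizer (R : Set G)) → ℂ) = a ∧ p ∣ a := by
    intro φ hφ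
    obtain ⟨a, ha, hmod⟩ := hmult φ
    rw [if_neg hφ] at hmod
    refine ⟨a, ha, ?_⟩
    have := Int.modEq_zero_iff_dvd.mp hmod
    exact_mod_cast this
  refine ⟨β, hA, hB, ?_⟩
  intro c hc
  have hcn := mem_normalizer_inf_centralizer K R c hc
  obtain ⟨θ', hθ'⟩ := Cfsg.Agent.Lib.Helper8.GS.exists_conjBy
    (K ⊓ Subgroup.centralizer (R : Set G)) c hcn β
  have hF : Cfsg.Agent.Lib.Helper8.GS.ConjBy (K ⊓ Subgroup.centralizer (R : Set G)) c
      (res (inf_le_left : K ⊓ Subgroup.centralizer (R : Set G) ≤ K) (θ : ↥K → ℂ))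
      (res (inf_le_left : K ⊓ Subgroup.centralizer (R : Set G) ≤ K) (θ : ↥K → ℂ)) := by
    intro q q' hq
    exact hθ c ⟨q, q.2.1⟩ ⟨q', q'.2.1⟩ hq
  have hip := Cfsg.Agent.Lib.Helper8.GS.ip_conjBy
    (K ⊓ Subgroup.centralizer (R : Set G)) c hcn _ (β : _ → ℂ) (θ' : _ → ℂ) hF hθ'
  have heq : θ' = β := by
    by_contra hne
    obtain ⟨a, ha, hpa⟩ := hB θ' hne
    obtain ⟨b, hb, hpb⟩ := hA
    rw [hip, hb] at ha
    have : b = a := by exact_mod_cast ha
    exact hpb (this ▸ hpa)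
  rw [heq] at hθ'
  exact hθ'

end Cfsg.Agent.Lib.Helper4.GlData
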