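import Cfsg.Agent.Lib.Helper4.Hecke

set_option autoImplicit false
set_option linter.unusedSectionVars false
set_option linter.style.haveILetI false

/-!
# Hecke operators on a representation with a one-dimensional space of fixed vectors
-/

namespace Cfsg.Agent.Lib.Helper4.Hecke

open Module

section linalg

variable {V : Type*} [AddCommGroup V] [Module ℂ V] [FiniteDimensional ℂ V]

/-- `T = E T = T E` with `E` an idempotent of trace one: `T` is a multiple of `E`. -/
theorem eq_smul_of_rank_one (E T : V →ₗ[ℂ] V) (hE : E * E = E)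
    (htr : LinearMap.trace ℂ V E = 1) (h1 : E * T = T) (h2 : T * E = T) :
    T = LinearMap.trace ℂ V T • E := by
  have hid : IsIdempotentElem E := hE
  have hproj := LinearMap.IsIdempotentElem.isProj_range E hid
  have hrank : (finrank ℂ (LinearMap.range E) : ℂ) = 1 := by rw [← hproj.trace, htr]
  have hrank' : finrank ℂ (LinearMap.range E) = 1 := by exact_mod_cast hrank
  obtain ⟨w, hw0, hw⟩ := finrank_eq_one_iff'.mp hrank'
  have hTw : T (w : V) ∈ LinearMap.range E := ⟨T w, by rw [← Module.End.mul_apply, h1]⟩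
  obtain ⟨c, hc⟩ := hw ⟨T w, hTw⟩
  have hc' : c • (w : V) = T w := congrArg Subtype.val hc
  have hT : T = c • E := by
    apply LinearMap.ext
    intro v
    obtain ⟨b, hb⟩ := hw ⟨E v, LinearMap.mem_range_self E v⟩
    have hb' : b • (w : V) = E v := congrArg Subtype.val hb
    calc T v = (T * E) v := by rw [h2]
      _ = T (E v) := rfl
      _ = T (b • (w : V)) := by rw [hb']
      _ = b • T (w : V) := map_smul _ _ _
      _ = b • c • (w : V) := by rw [hc']
      _ = c • (b • (w : V)) := smul_comm _ _ _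
      _ = (c • E) v := by rw [hb']; rfl
  have : LinearMap.trace ℂ V T = c := by rw [hT, map_smul, htr, smul_eq_mul, mul_one]
  rw [this]; exact hT

end linalg

section hecke

variable {G : Type*} [Group G] [Fintype G] {Ω : Type*} [Fintype Ω] [DecidableEq Ω] [MulAction G Ω]
  {V : Type*} [AddCommGroup V] [Module ℂ V] (ρ : Representation ℂ G V) (a : Ω)

theorem heckeT_eq_sum (Δ : Finset Ω) :
    heckeT ρ a Δ = (Nat.card (MulAction.stabilizer G a) : ℂ)⁻¹ •
      ∑ g : G, if g • a ∈ Δ then ρ g else 0 := by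
  unfold heckeT heckeR
  rw [← Finset.smul_sum]
  congr 1
  rw [Finset.sum_comm]
  apply Finset.sum_congr rfl
  intro g _
  rw [Finset.sum_ite_eq]

theorem heckeT_mul_heckeT (Δ : Finset Ω) :
    heckeT ρ a Δ * heckeT ρ a Δ = ((Nat.card (MulAction.stabilizer G a) : ℂ)⁻¹ ^ 2) •
      ∑ g₁ : G, ∑ g₂ : G, if g₁ • a ∈ Δ ∧ g₂ • a ∈ Δ then ρ (g₁ * g₂) else 0 := by
  rw [heckeT_eq_sum, smul_mul_smul_comm, ← sq, Finset.sum_mul_sum]
  congr 1
  apply Finset.sum_congr rfl
  intro g₁ _
  apply Finset.sum_congr rfl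
  intro g₂ _
  by_cases h1 : g₁ • a ∈ Δ
  · by_cases h2 : g₂ • a ∈ Δ
    · rw [if_pos h1, if_pos h2, if_pos ⟨h1, h2⟩, map_mul]
    · rw [if_neg h2, mul_zero, if_neg (fun h => h2 h.2)]
  · rw [if_neg h1, zero_mul, if_neg (fun h => h1 h.1)]

variable [FiniteDimensional ℂ V]

theorem trace_heckeT_mul_heckeT (Δ : Finset Ω) :
    LinearMap.trace ℂ V (heckeT ρ a Δ * heckeT ρ a Δ) =
      ((Nat.card (MulAction.stabilizer G a) : ℂ)⁻¹ ^ 2) *
        ∑ g₁ : G, ∑ g₂ : G, if g₁ • a ∈ Δ ∧ g₂ • a ∈ Δ then ρ.character (g₁ * g₂) else 0 := by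
  rw [heckeT_mul_heckeT, map_smul, smul_eq_mul, map_sum]
  congr 1
  apply Finset.sum_congr rfl
  intro g₁ _
  rw [map_sum]
  apply Finset.sum_congr rfl
  intro g₂ _
  split_ifs
  · rfl
  · exact map_zero _

/-- no fixed vectors: the Hecke operators vanish -/
theorem heckeT_eq_zero [MulAction.IsPretransitive G Ω] (Δ : Finset Ω)
    (h0 : ∑ g : G, (if g • a = a then ρ.character g else 0) = 0) : heckeT ρ a Δ = 0 := by
  have hid : IsIdempotentElem (heckeR ρ a a) := heckeR_mul_self ρ a a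
  have htr : LinearMap.trace ℂ V (heckeR ρ a a) = 0 := by
    rw [trace_heckeR, h0, mul_zero]
  have hE : heckeR ρ a a = 0 := (LinearMap.IsIdempotentElem.trace_eq_zero_iff hid).mp htr
  rw [← heckeT_mul_self ρ a Δ, hE, mul_zero]

/-- a one-dimensional space of fixed vectors: the trace is multiplicative -/
theorem trace_heckeT_sq [MulAction.IsPretransitive G Ω] (Δ : Finset Ω)
    (hΔ : ∀ g : G, g • a = a → ∀ z ∈ Δ, g • z ∈ Δ)
    (h1 : (Nat.card (MulAction.stabilizer G a) : ℂ)⁻¹ *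
      ∑ g : G, (if g • a = a then ρ.character g else 0) = 1) :
    LinearMap.trace ℂ V (heckeT ρ a Δ * heckeT ρ a Δ) =
      LinearMap.trace ℂ V (heckeT ρ a Δ) ^ 2 := by
  have hE : heckeR ρ a a * heckeR ρ a a = heckeR ρ a a := heckeR_mul_self ρ a a
  have htr : LinearMap.trace ℂ V (heckeR ρ a a) = 1 := by rw [trace_heckeR, h1]
  have hT := eq_smul_of_rank_one (heckeR ρ a a) (heckeT ρ a Δ) hE htr
    (self_mul_heckeT ρ a Δ hΔ) (heckeT_mul_self ρ a Δ)
  set c := LinearMap.trace ℂ V (heckeT ρ a Δ) with hc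
  rw [hT, smul_mul_smul_comm, hE, map_smul, htr, smul_eq_mul, mul_one, sq]

end hecke

end Cfsg.Agent.Lib.Helper4.Hecke
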