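import Cfsg.Agent.Lib.Helper4.HeckeB
import Cfsg.Agent.Lib.helper3.Irr6
import Cfsg.Agent.Lib.helper3.TwoTrans

set_option autoImplicit false
set_option linter.unusedSectionVars false
set_option linter.style.haveILetI false

/-!
# Two class functions attached to a suborbit

For a point `a` with stabilizer `H` and an `H`-invariant set `Δ`, the class functions
`g ↦ |H|⁻¹ #{t : (t⁻¹ g t) a ∈ Δ}` and its "square", with their inner products against characters.
-/

namespace Cfsg.Agent.Lib.Helper4.Hecke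

open Cfsg Module Cfsg.Agent.Lib.helper3.IndFun Cfsg.Agent.Lib.helper3.CharBasic
open Cfsg.Agent.Lib.helper3.Irr
open scoped ComplexConjugate

variable {G : Type*} [Group G] [Fintype G] {Ω : Type*} [Fintype Ω] [DecidableEq Ω] [MulAction G Ω]

/-- the Hecke eigenvalue attached to a function -/
noncomputable def thetaOf (a : Ω) (Δ : Finset Ω) (ψ : G → ℂ) : ℂ :=
  (Nat.card (MulAction.stabilizer G a) : ℂ)⁻¹ * ∑ g : G, if g • a ∈ Δ then ψ g else 0

/-- the Hecke eigenvalue of the square -/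
noncomputable def theta2Of (a : Ω) (Δ : Finset Ω) (ψ : G → ℂ) : ℂ :=
  (Nat.card (MulAction.stabilizer G a) : ℂ)⁻¹ ^ 2 *
    ∑ g₁ : G, ∑ g₂ : G, if g₁ • a ∈ Δ ∧ g₂ • a ∈ Δ then ψ (g₁ * g₂) else 0

/-- the class function of a suborbit -/
noncomputable def classF (a : Ω) (Δ : Finset Ω) (g : G) : ℂ :=
  (Nat.card (MulAction.stabilizer G a) : ℂ)⁻¹ *
    ∑ t : G, if (t⁻¹ * g * t) • a ∈ Δ then 1 else 0

/-- the class function of the square of a suborbit -/
noncomputable def classF2 (a : Ω) (Δ : Finset Ω) (g : G) : ℂ :=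
  (Nat.card (MulAction.stabilizer G a) : ℂ)⁻¹ ^ 2 *
    ∑ t : G, ∑ g₁ : G, if g₁ • a ∈ Δ ∧ (g₁⁻¹ * (t⁻¹ * g * t)) • a ∈ Δ then 1 else 0

theorem isClassFunction_classF (a : Ω) (Δ : Finset Ω) : IsClassFunction G (classF a Δ) := by
  intro g h
  unfold classF
  congr 1
  apply Fintype.sum_equiv (Equiv.mulLeft h⁻¹)
  intro t
  simp only [Equiv.coe_mulLeft]
  have e : t⁻¹ * (h * g * h⁻¹) * t = (h⁻¹ * t)⁻¹ * g * (h⁻¹ * t) := by group
  simp only [e]
  rfl

theorem isClassFunction_classF2 (a : Ω) (Δ : Finset Ω) : IsClassFunction G (classF2 a Δ) := by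
  intro g h
  unfold classF2
  congr 1
  apply Fintype.sum_equiv (Equiv.mulLeft h⁻¹)
  intro t
  simp only [Equiv.coe_mulLeft]
  have e : t⁻¹ * (h * g * h⁻¹) * t = (h⁻¹ * t)⁻¹ * g * (h⁻¹ * t) := by group
  simp only [e]
  rfl

theorem conj_card_inv (a : Ω) :
    conj ((Nat.card (MulAction.stabilizer G a) : ℂ)⁻¹) =
      (Nat.card (MulAction.stabilizer G a) : ℂ)⁻¹ := by
  rw [map_inv₀, Complex.conj_natCast]

theorem classInner_classF (a : Ω) (Δ : Finset Ω) (ψ : G → ℂ) (hψ : IsClassFunction G ψ) :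
    classInner (classF a Δ) ψ = conj (thetaOf a Δ ψ) := by
  have hG0 : (Nat.card G : ℂ) ≠ 0 := by exact_mod_cast Nat.card_pos.ne'
  rw [classInner_apply]
  unfold classF thetaOf
  rw [map_mul, conj_card_inv, map_sum]
  have h1 : ∀ g : G, ((Nat.card (MulAction.stabilizer G a) : ℂ)⁻¹ *
      ∑ t : G, if (t⁻¹ * g * t) • a ∈ Δ then (1 : ℂ) else 0) * conj (ψ g) =
      (Nat.card (MulAction.stabilizer G a) : ℂ)⁻¹ *
        ∑ t : G, if (t⁻¹ * g * t) • a ∈ Δ then conj (ψ g) else 0 := by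
    intro g
    rw [mul_assoc, Finset.sum_mul]
    congr 1
    apply Finset.sum_congr rfl
    intro t _
    split_ifs
    · rw [one_mul]
    · rw [zero_mul]
  rw [Finset.sum_congr rfl (fun g _ => h1 g), ← Finset.mul_sum, Finset.sum_comm]
  have h2 : ∀ t : G, ∑ g : G, (if (t⁻¹ * g * t) • a ∈ Δ then conj (ψ g) else 0) =
      ∑ g : G, conj (if g • a ∈ Δ then ψ g else 0) := by
    intro t
    apply Fintype.sum_equiv (MulAut.conj t⁻¹).toEquiv
    intro g
    have e : (MulAut.conj t⁻¹).toEquiv g = t⁻¹ * g * t := by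
      simp
    rw [e]
    have e2 : ψ (t⁻¹ * g * t) = ψ g := by
      have := hψ g t⁻¹
      rwa [inv_inv] at this
    split_ifs
    · rw [e2]
    · rw [map_zero]
  rw [Finset.sum_congr rfl (fun t _ => h2 t), Finset.sum_const, Finset.card_univ,
    ← Nat.card_eq_fintype_card, ← Nat.cast_smul_eq_nsmul ℂ, smul_eq_mul]
  field_simp

theorem classInner_classF2 (a : Ω) (Δ : Finset Ω) (ψ : G → ℂ) (hψ : IsClassFunction G ψ) :
    classInner (classF2 a Δ) ψ = conj (theta2Of a Δ ψ) := by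
  have hG0 : (Nat.card G : ℂ) ≠ 0 := by exact_mod_cast Nat.card_pos.ne'
  rw [classInner_apply]
  unfold classF2 theta2Of
  rw [map_mul, map_pow, conj_card_inv, map_sum]
  have h1 : ∀ g : G, ((Nat.card (MulAction.stabilizer G a) : ℂ)⁻¹ ^ 2 *
      ∑ t : G, ∑ g₁ : G, if g₁ • a ∈ Δ ∧ (g₁⁻¹ * (t⁻¹ * g * t)) • a ∈ Δ then (1 : ℂ) else 0) *
        conj (ψ g) =
      (Nat.card (MulAction.stabilizer G a) : ℂ)⁻¹ ^ 2 *
        ∑ t : G, ∑ g₁ : G, if g₁ • a ∈ Δ ∧ (g₁⁻¹ * (t⁻¹ * g * t)) • a ∈ Δ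
          then conj (ψ g) else 0 := by
    intro g
    rw [mul_assoc, Finset.sum_mul]
    congr 1
    apply Finset.sum_congr rfl
    intro t _
    rw [Finset.sum_mul]
    apply Finset.sum_congr rfl
    intro g₁ _
    split_ifs
    · rw [one_mul]
    · rw [zero_mul]
  rw [Finset.sum_congr rfl (fun g _ => h1 g), ← Finset.mul_sum, Finset.sum_comm]
  have h2 : ∀ t : G, ∑ g : G, ∑ g₁ : G,
      (if g₁ • a ∈ Δ ∧ (g₁⁻¹ * (t⁻¹ * g * t)) • a ∈ Δ then conj (ψ g) else 0) =
      ∑ g₁ : G, conj (∑ g₂ : G, if g₁ • a ∈ Δ ∧ g₂ • a ∈ Δ then ψ (g₁ * g₂) else 0) := by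
    intro t
    rw [Finset.sum_comm]
    apply Finset.sum_congr rfl
    intro g₁ _
    rw [map_sum]
    -- `g ↦ g₁⁻¹ * (t⁻¹ * g * t)`
    apply Fintype.sum_equiv ((MulAut.conj t⁻¹).toEquiv.trans (Equiv.mulLeft g₁⁻¹))
    intro g
    have e : ((MulAut.conj t⁻¹).toEquiv.trans (Equiv.mulLeft g₁⁻¹)) g =
        g₁⁻¹ * (t⁻¹ * g * t) := by
      simp
    rw [e]
    have e2 : ψ (g₁ * (g₁⁻¹ * (t⁻¹ * g * t))) = ψ g := by
      rw [mul_inv_cancel_left]
      have := hψ g t⁻¹
      rwa [inv_inv] at this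
    split_ifs
    · rw [e2]
    · rw [map_zero]
  rw [Finset.sum_congr rfl (fun t _ => h2 t), Finset.sum_const, Finset.card_univ,
    ← Nat.card_eq_fintype_card, ← Nat.cast_smul_eq_nsmul ℂ, smul_eq_mul]
  field_simp

theorem classF_one (a : Ω) (Δ : Finset Ω) (ha : a ∉ Δ) : classF (G := G) a Δ 1 = 0 := by
  unfold classF
  have : ∀ t : G, (if (t⁻¹ * 1 * t) • a ∈ Δ then (1 : ℂ) else 0) = 0 := by
    intro t
    rw [mul_one, inv_mul_cancel, one_smul, if_neg ha]
  rw [Finset.sum_congr rfl (fun t _ => this t), Finset.sum_const_zero, mul_zero]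

/-- the number of group elements carrying `a` into `Δ` -/
theorem card_filter_mem [MulAction.IsPretransitive G Ω] (a : Ω) (Δ : Finset Ω) :
    ((Finset.univ.filter (fun g : G => g • a ∈ Δ)).card : ℂ) =
      (Δ.card : ℂ) * (Nat.card (MulAction.stabilizer G a) : ℂ) := by
  classical
  have h1 : Finset.univ.filter (fun g : G => g • a ∈ Δ) =
      Δ.biUnion (fun z => Finset.univ.filter (fun g : G => g • a = z)) := by
    ext g
    simp
  rw [h1, Finset.card_biUnion]
  · push_cast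
    rw [Finset.sum_congr rfl (fun z _ => card_fiber a z), Finset.sum_const, nsmul_eq_mul]
  · intro z _ z' _ hzz
    rw [Function.onFun, Finset.disjoint_left]
    intro g hg hg'
    rw [Finset.mem_filter] at hg hg'
    exact hzz (hg.2.symm.trans hg'.2)

theorem thetaOf_one [MulAction.IsPretransitive G Ω] (a : Ω) (Δ : Finset Ω) :
    thetaOf (G := G) a Δ (fun _ => 1) = Δ.card := by
  have hH : (Nat.card (MulAction.stabilizer G a) : ℂ) ≠ 0 := by
    have : Nat.card (MulAction.stabilizer G a) ≠ 0 := Nat.card_pos.ne'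
    exact_mod_cast this
  unfold thetaOf
  rw [Finset.sum_boole, card_filter_mem]
  field_simp

theorem classF2_one [MulAction.IsPretransitive G Ω] (a : Ω) (Δ : Finset Ω)
    (hsym : ∀ g : G, g • a ∈ Δ → g⁻¹ • a ∈ Δ) :
    classF2 (G := G) a Δ 1 = (Fintype.card Ω : ℂ) * Δ.card := by
  have hH : (Nat.card (MulAction.stabilizer G a) : ℂ) ≠ 0 := by
    have : Nat.card (MulAction.stabilizer G a) ≠ 0 := Nat.card_pos.ne'
    exact_mod_cast this
  unfold classF2
  have h1 : ∀ t : G, ∑ g₁ : G,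
      (if g₁ • a ∈ Δ ∧ (g₁⁻¹ * (t⁻¹ * 1 * t)) • a ∈ Δ then (1 : ℂ) else 0) =
      (Δ.card : ℂ) * (Nat.card (MulAction.stabilizer G a) : ℂ) := by
    intro t
    rw [← card_filter_mem, ← Finset.sum_boole]
    apply Finset.sum_congr rfl
    intro g₁ _
    rw [mul_one, inv_mul_cancel, mul_one]
    by_cases h : g₁ • a ∈ Δ
    · rw [if_pos ⟨h, hsym g₁ h⟩, if_pos h]
    · rw [if_neg (fun h' => h h'.1), if_neg h]
  rw [Finset.sum_congr rfl (fun t _ => h1 t), Finset.sum_const, Finset.card_univ,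
    nsmul_eq_mul]
  have hcard : (Fintype.card G : ℂ) =
      (Fintype.card Ω : ℂ) * (Nat.card (MulAction.stabilizer G a) : ℂ) := by
    have h2 := MulAction.index_stabilizer_of_transitive G a
    have h3 := Subgroup.card_mul_index (MulAction.stabilizer G a)
    rw [h2] at h3
    rw [← Nat.card_eq_fintype_card (α := G), ← h3, Nat.card_eq_fintype_card (α := Ω)]
    push_cast
    ring
  rw [hcard]
  field_simp

end Cfsg.Agent.Lib.Helper4.Hecke
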