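import Cfsg.Agent.Lib.Helper4.HeckeC
import Cfsg.Agent.Lib.helper3.Irr11

set_option autoImplicit false
set_option linter.unusedSectionVars false
set_option linter.style.haveILetI false

/-!
# The eigenvalue equations of a suborbit in a multiplicity-free permutation character

For a transitive group with point stabilizer `H` and permutation character `1 + χ₁ + χ₂`, an
`H`-invariant self-paired set `Δ` not containing the base point yields two algebraic integers
`x, y` with `|Δ| + χ₁(1) x + χ₂(1) y = 0` and `|Δ|² + χ₁(1) x² + χ₂(1) y² = |Ω| |Δ|`.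
-/

namespace Cfsg.Agent.Lib.Helper4.Hecke

open Cfsg Module Cfsg.Agent.Lib.helper3.IndFun Cfsg.Agent.Lib.helper3.CharBasic
open Cfsg.Agent.Lib.helper3.Irr
open scoped ComplexConjugate

variable {G : Type*} [Group G] [Fintype G] {Ω : Type*} [Fintype Ω] [DecidableEq Ω] [MulAction G Ω]

theorem card_stab_ne_zero (a : Ω) : (Nat.card (MulAction.stabilizer G a) : ℂ) ≠ 0 := by
  have : Nat.card (MulAction.stabilizer G a) ≠ 0 := Nat.card_pos.ne'
  exact_mod_cast this

/-- the class function of the trivial suborbit is the permutation character -/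
theorem classF_singleton [MulAction.IsPretransitive G Ω] (a : Ω) (g : G) :
    classF a {a} g = (Nat.card (MulAction.fixedBy Ω g) : ℂ) := by
  have hH := card_stab_ne_zero (G := G) a
  unfold classF
  have h1 : ∀ t : G, (if (t⁻¹ * g * t) • a ∈ ({a} : Finset Ω) then (1 : ℂ) else 0) =
      if t • a ∈ Finset.univ.filter (fun z : Ω => g • z = z) then 1 else 0 := by
    intro t
    have hiff : (t⁻¹ * g * t) • a ∈ ({a} : Finset Ω) ↔
        t • a ∈ Finset.univ.filter (fun z : Ω => g • z = z) := by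
      rw [Finset.mem_singleton, Finset.mem_filter, mul_smul, mul_smul, inv_smul_eq_iff]
      simp
    by_cases h : (t⁻¹ * g * t) • a ∈ ({a} : Finset Ω)
    · rw [if_pos h, if_pos (hiff.mp h)]
    · rw [if_neg h, if_neg (fun h' => h (hiff.mpr h'))]
  rw [Finset.sum_congr rfl (fun t _ => h1 t), Finset.sum_boole, card_filter_mem]
  have h2 : Nat.card (MulAction.fixedBy Ω g) =
      (Finset.univ.filter (fun z : Ω => g • z = z)).card := by
    rw [Nat.card_eq_fintype_card, Fintype.card_subtype]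
    rfl
  rw [h2]
  field_simp

/-- the multiplicity of a class function in the permutation character -/
theorem classInner_permChar [MulAction.IsPretransitive G Ω] (a : Ω) (ψ : G → ℂ)
    (hψ : IsClassFunction G ψ) :
    classInner (fun g : G => (Nat.card (MulAction.fixedBy Ω g) : ℂ)) ψ =
      conj ((Nat.card (MulAction.stabilizer G a) : ℂ)⁻¹ *
        ∑ g : G, if g • a = a then ψ g else 0) := by
  have h : (fun g : G => (Nat.card (MulAction.fixedBy Ω g) : ℂ)) = classF a {a} :=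
    funext (fun g => (classF_singleton a g).symm)
  rw [h, classInner_classF a {a} ψ hψ]
  unfold thetaOf
  simp only [Finset.mem_singleton]

/-- the Hecke eigenvalues of a character, according to its multiplicity -/
theorem theta_of_character [MulAction.IsPretransitive G Ω] (a : Ω) (Δ : Finset Ω)
    (hΔ : ∀ g : G, g • a = a → ∀ z ∈ Δ, g • z ∈ Δ) (ψ : G → ℂ) (hψ : IsCharacter G ψ) :
    IsIntegral ℤ (thetaOf a Δ ψ) ∧
    (classInner (fun g : G => (Nat.card (MulAction.fixedBy Ω g) : ℂ)) ψ = 0 →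
      thetaOf a Δ ψ = 0 ∧ theta2Of a Δ ψ = 0) ∧
    (classInner (fun g : G => (Nat.card (MulAction.fixedBy Ω g) : ℂ)) ψ = 1 →
      theta2Of a Δ ψ = thetaOf a Δ ψ ^ 2) := by
  have hH := card_stab_ne_zero (G := G) a
  have hcf := isClassFunction_of_isCharacter hψ
  obtain ⟨n, ρ, rfl⟩ := hψ
  have e1 : thetaOf a Δ ρ.character = LinearMap.trace ℂ _ (heckeT ρ a Δ) := by
    rw [trace_heckeT]
    rfl
  have e2 : theta2Of a Δ ρ.character = LinearMap.trace ℂ _ (heckeT ρ a Δ * heckeT ρ a Δ) := by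
    rw [trace_heckeT_mul_heckeT]
    rfl
  refine ⟨isIntegral_hecke ρ a Δ hΔ, ?_, ?_⟩
  · intro h0
    rw [classInner_permChar a _ hcf] at h0
    have h0' := (map_eq_zero (starRingEnd ℂ)).mp h0
    have h0'' : ∑ g : G, (if g • a = a then ρ.character g else 0) = 0 := by
      rcases mul_eq_zero.mp h0' with h | h
      · exact absurd h (inv_ne_zero hH)
      · exact h
    have hT := heckeT_eq_zero ρ a Δ h0''
    rw [e1, e2, hT, mul_zero, map_zero]
    exact ⟨rfl, rfl⟩
  · intro h1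
    rw [classInner_permChar a _ hcf] at h1
    have h1' : (Nat.card (MulAction.stabilizer G a) : ℂ)⁻¹ *
        ∑ g : G, (if g • a = a then ρ.character g else 0) = 1 := by
      have := congrArg (starRingEnd ℂ) h1
      rwa [Complex.conj_conj, map_one] at this
    rw [e1, e2]
    exact trace_heckeT_sq ρ a Δ hΔ h1'

/-- the two relations between the Hecke eigenvalues -/
theorem hecke_relations [MulAction.IsPretransitive G Ω] (a : Ω) (Δ : Finset Ω)
    (hΔ : ∀ g : G, g • a = a → ∀ z ∈ Δ, g • z ∈ Δ) (ha : a ∉ Δ)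
    (hsym : ∀ g : G, g • a ∈ Δ → g⁻¹ • a ∈ Δ)
    (χ₁ χ₂ : G → ℂ) (h₁ : IsIrrCharacter G χ₁) (h₂ : IsIrrCharacter G χ₂)
    (h12 : χ₁ ≠ χ₂) (h1 : χ₁ ≠ fun _ => 1) (h2 : χ₂ ≠ fun _ => 1)
    (hπ : (fun g : G => (Nat.card (MulAction.fixedBy Ω g) : ℂ)) = fun g => 1 + χ₁ g + χ₂ g) :
    ∃ x y : ℂ, IsIntegral ℤ x ∧ IsIntegral ℤ y ∧
      (Δ.card : ℂ) + χ₁ 1 * x + χ₂ 1 * y = 0 ∧
      (Δ.card : ℂ) ^ 2 + χ₁ 1 * x ^ 2 + χ₂ 1 * y ^ 2 = (Fintype.card Ω : ℂ) * Δ.card := by
  classical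
  set π : G → ℂ := fun g : G => (Nat.card (MulAction.fixedBy Ω g) : ℂ) with hπdef
  have hone : IsIrrCharacter G (fun _ : G => (1 : ℂ)) := isIrrCharacter_one
  have hπ' : π = (fun _ : G => (1 : ℂ)) + χ₁ + χ₂ := by
    rw [hπ]
    rfl
  -- multiplicities
  have hmult : ∀ ψ : G → ℂ, IsIrrCharacter G ψ → classInner π ψ =
      (if (fun _ : G => (1 : ℂ)) = ψ then 1 else 0) + (if χ₁ = ψ then 1 else 0) +
        (if χ₂ = ψ then 1 else 0) := by
    intro ψ hψ
    rw [hπ', classInner_add_left, classInner_add_left, irr_classInner_eq hone hψ,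
      irr_classInner_eq h₁ hψ, irr_classInner_eq h₂ hψ]
  have hm0 : classInner π (fun _ : G => (1 : ℂ)) = 1 := by
    rw [hmult _ hone, if_pos rfl, if_neg h1, if_neg h2, add_zero, add_zero]
  have hm1 : classInner π χ₁ = 1 := by
    rw [hmult _ h₁, if_neg (Ne.symm h1), if_pos rfl, if_neg (Ne.symm h12), zero_add, add_zero]
  have hm2 : classInner π χ₂ = 1 := by
    rw [hmult _ h₂, if_neg (Ne.symm h2), if_neg h12, if_pos rfl, zero_add, zero_add]
  set ψ₀ : IrrCharacter G := ⟨fun _ => 1, hone⟩ with hψ₀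
  set ψ₁ : IrrCharacter G := ⟨χ₁, h₁⟩ with hψ₁
  set ψ₂ : IrrCharacter G := ⟨χ₂, h₂⟩ with hψ₂
  have h01 : ψ₀ ≠ ψ₁ := fun h => h1 (congrArg Subtype.val h).symm
  have h02 : ψ₀ ≠ ψ₂ := fun h => h2 (congrArg Subtype.val h).symm
  have h12' : ψ₁ ≠ ψ₂ := fun h => h12 (congrArg Subtype.val h)
  set S : Finset (IrrCharacter G) := {ψ₀, ψ₁, ψ₂} with hS
  have hmS : ∀ ψ : IrrCharacter G, ψ ∉ S → classInner π (ψ : G → ℂ) = 0 := by
    intro ψ hψS
    rw [hS, Finset.mem_insert, Finset.mem_insert, Finset.mem_singleton] at hψS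
    push Not at hψS
    rw [hmult _ ψ.2, if_neg, if_neg, if_neg, add_zero, add_zero]
    · intro h
      exact hψS.2.2 (Subtype.ext h.symm)
    · intro h
      exact hψS.2.1 (Subtype.ext h.symm)
    · intro h
      exact hψS.1 (Subtype.ext h.symm)
  have hsum : ∀ f : IrrCharacter G → ℂ, (∀ ψ : IrrCharacter G, ψ ∉ S → f ψ = 0) →
      ∑ ψ : IrrCharacter G, f ψ = f ψ₀ + f ψ₁ + f ψ₂ := by
    intro f hf
    rw [← Finset.sum_subset (Finset.subset_univ S) (fun ψ _ hψ => hf ψ hψ), hS,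
      Finset.sum_insert, Finset.sum_insert, Finset.sum_singleton, add_assoc]
    · rw [Finset.mem_singleton]
      exact h12'
    · rw [Finset.mem_insert, Finset.mem_singleton]
      push Not
      exact ⟨h01, h02⟩
  have hcfψ : ∀ ψ : IrrCharacter G, IsClassFunction G (ψ : G → ℂ) := fun ψ =>
    isClassFunction_of_isCharacter (isCharacter_of_isIrrCharacter ψ.2)
  have hchψ : ∀ ψ : IrrCharacter G, IsCharacter G (ψ : G → ℂ) := fun ψ =>
    isCharacter_of_isIrrCharacter ψ.2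
  -- first expansion
  have hE1 := congrFun (classFunction_eq_sum (classF (G := G) a Δ) (isClassFunction_classF a Δ)) (1 : G)
  rw [classF_one a Δ ha] at hE1
  simp only [Finset.sum_apply, Pi.smul_apply, smul_eq_mul] at hE1
  rw [hsum] at hE1
  swap
  · intro ψ hψS
    rw [classInner_classF a Δ _ (hcfψ ψ), ((theta_of_character a Δ hΔ _ (hchψ ψ)).2.1 (hmS ψ hψS)).1,
      map_zero, zero_mul]
  -- second expansion
  have hE2 := congrFun (classFunction_eq_sum (classF2 (G := G) a Δ) (isClassFunction_classF2 a Δ)) (1 : G)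
  rw [classF2_one a Δ hsym] at hE2
  simp only [Finset.sum_apply, Pi.smul_apply, smul_eq_mul] at hE2
  rw [hsum] at hE2
  swap
  · intro ψ hψS
    rw [classInner_classF2 a Δ _ (hcfψ ψ),
      ((theta_of_character a Δ hΔ _ (hchψ ψ)).2.1 (hmS ψ hψS)).2, map_zero, zero_mul]
  rw [classInner_classF a Δ _ (hcfψ ψ₀), classInner_classF a Δ _ (hcfψ ψ₁),
    classInner_classF a Δ _ (hcfψ ψ₂)] at hE1
  rw [classInner_classF2 a Δ _ (hcfψ ψ₀), classInner_classF2 a Δ _ (hcfψ ψ₁),
    classInner_classF2 a Δ _ (hcfψ ψ₂),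
    (theta_of_character a Δ hΔ _ (hchψ ψ₀)).2.2 hm0,
    (theta_of_character a Δ hΔ _ (hchψ ψ₁)).2.2 hm1,
    (theta_of_character a Δ hΔ _ (hchψ ψ₂)).2.2 hm2] at hE2
  have hθ0 : thetaOf a Δ (ψ₀ : G → ℂ) = Δ.card := thetaOf_one a Δ
  rw [hθ0] at hE1 hE2
  rw [Complex.conj_natCast] at hE1
  rw [map_pow, map_pow, map_pow, Complex.conj_natCast] at hE2
  refine ⟨conj (thetaOf a Δ χ₁), conj (thetaOf a Δ χ₂),
    map_isIntegral_int (starRingEnd ℂ) (theta_of_character a Δ hΔ _ (hchψ ψ₁)).1,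
    map_isIntegral_int (starRingEnd ℂ) (theta_of_character a Δ hΔ _ (hchψ ψ₂)).1, ?_, ?_⟩
  · have : (ψ₀ : G → ℂ) 1 = 1 := rfl
    rw [this] at hE1
    have e1 : (ψ₁ : G → ℂ) = χ₁ := rfl
    have e2 : (ψ₂ : G → ℂ) = χ₂ := rfl
    rw [e1, e2] at hE1
    rw [hE1]
    ring
  · have : (ψ₀ : G → ℂ) 1 = 1 := rfl
    rw [this] at hE2
    have e1 : (ψ₁ : G → ℂ) = χ₁ := rfl
    have e2 : (ψ₂ : G → ℂ) = χ₂ := rfl
    rw [e1, e2] at hE2
    rw [hE2]
    ring

end Cfsg.Agent.Lib.Helper4.Hecke
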