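import Mathlib

set_option autoImplicit false
set_option linter.unusedSectionVars false
set_option linter.style.haveILetI false

/-!
# Arithmetic of the Wielandt-type rank three parameters
-/

namespace Cfsg.Agent.Lib.Helper4.Hecke

open Polynomial

/-- an algebraic integer that is a root of an integer quadratic `a X² + b X + c` with `a ∤ b`
is a rational integer -/
theorem exists_int_of_quadratic (t : ℂ) (ht : IsIntegral ℤ t) (a b c : ℤ) (ha : a ≠ 0)
    (hab : ¬ a ∣ b) (h : (a : ℂ) * t ^ 2 + (b : ℂ) * t + (c : ℂ) = 0) : ∃ z : ℤ, t = z := by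
  set P : ℤ[X] := C a * X ^ 2 + C b * X + C c with hP
  have hPt : aeval t P = 0 := by
    rw [hP]
    simp only [map_add, map_mul, map_pow, aeval_C, aeval_X]
    simpa using h
  have hdvd : minpoly ℤ t ∣ P := minpoly.isIntegrallyClosed_dvd ht hPt
  have hmonic := minpoly.monic ht
  obtain ⟨q, hq⟩ := hdvd
  have hPdeg : P.natDegree = 2 := natDegree_quadratic ha
  have hP0 : P ≠ 0 := by
    intro h0
    rw [h0] at hPdeg
    simp at hPdeg
  have hq0 : q ≠ 0 := by
    rintro rfl
    rw [mul_zero] at hq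
    exact hP0 hq
  have hdeg : (minpoly ℤ t).natDegree + q.natDegree = 2 := by
    rw [← hPdeg, hq, hmonic.natDegree_mul' hq0]
  have hpos : 0 < (minpoly ℤ t).natDegree := minpoly.natDegree_pos ht
  have hcases : (minpoly ℤ t).natDegree = 1 ∨ (minpoly ℤ t).natDegree = 2 := by omega
  rcases hcases with h1 | h2
  · have hμ := hmonic.eq_X_add_C h1
    have h0 := minpoly.aeval ℤ t
    rw [hμ] at h0
    simp only [map_add, aeval_X, aeval_C] at h0
    refine ⟨-(minpoly ℤ t).coeff 0, ?_⟩
    push_cast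
    have h0' : t + (((minpoly ℤ t).coeff 0 : ℤ) : ℂ) = 0 := by simpa using h0
    linear_combination h0'
  · exfalso
    have hqdeg : q.natDegree = 0 := by omega
    have hr : q = C (q.coeff 0) := eq_C_of_natDegree_eq_zero hqdeg
    have hc2 : P.coeff 2 = a := by
      rw [hP]
      simp only [coeff_add, coeff_C_mul, coeff_X_pow, coeff_X, coeff_C]
      norm_num
    have hc1 : P.coeff 1 = b := by
      rw [hP]
      simp only [coeff_add, coeff_C_mul, coeff_X_pow, coeff_X, coeff_C]
      norm_num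
    rw [hq, hr, coeff_mul_C] at hc2 hc1
    have hlc : (minpoly ℤ t).coeff 2 = 1 := by
      have := hmonic.coeff_natDegree
      rwa [h2] at this
    rw [hlc, one_mul] at hc2
    apply hab
    rw [← hc2, ← hc1]
    exact ⟨(minpoly ℤ t).coeff 1, by ring⟩

/-- the arithmetic of the parameters -/
theorem wielandt_arith (m k : ℕ) (hm : 2 ≤ m) (hk1 : 1 ≤ k) (hk2 : k ≤ 2 * m - 2) (t : ℤ)
    (h : ((m : ℤ) - 1) * (2 * m - 1) * t ^ 2 - 4 * k * (m - 1) * t + 2 * k * (k - 1) = 0) :
    k = 1 ∨ k = 2 * m - 2 ∨ ∃ a : ℕ, 0 < a ∧ m = 2 * a ^ 2 + 2 * a + 1 ∧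
      (k = a * (2 * a + 1) ∨ k = (a + 1) * (2 * a + 1)) := by
  have hm' : (2 : ℤ) ≤ m := by exact_mod_cast hm
  have hk1' : (1 : ℤ) ≤ k := by exact_mod_cast hk1
  have hk2' : (k : ℤ) ≤ 2 * m - 2 := by omega
  have hsq : (2 * (k : ℤ) - 1 - 2 * (m - 1) * t) ^ 2 = 1 + 2 * (m - 1) * t * (2 - t) := by
    linear_combination 2 * h
  have ht0 : 0 ≤ t := by
    by_contra hneg
    push Not at hneg
    have h1 : t * (2 - t) ≤ -3 := by nlinarith
    nlinarith [sq_nonneg (2 * (k : ℤ) - 1 - 2 * (m - 1) * t)]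
  have ht2 : t ≤ 2 := by
    by_contra hbig
    push Not at hbig
    have h1 : t * (2 - t) ≤ -3 := by nlinarith
    nlinarith [sq_nonneg (2 * (k : ℤ) - 1 - 2 * (m - 1) * t)]
  have hcases : t = 0 ∨ t = 1 ∨ t = 2 := by omega
  rcases hcases with rfl | rfl | rfl
  · left
    have h1 : (2 * (k : ℤ) - 1) ^ 2 = 1 := by linear_combination hsq
    have h2 : (k : ℤ) * (k - 1) = 0 := by nlinarith [h1]
    rcases mul_eq_zero.mp h2 with h3 | h3
    · omega
    · omega
  · right; right
    set c : ℤ := 2 * (k : ℤ) - 2 * m + 1 with hc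
    have hc2 : c ^ 2 = 2 * m - 1 := by rw [hc]; linear_combination hsq
    have hodd : c % 2 = 1 := by rw [hc]; omega
    by_cases hcpos : 0 ≤ c
    · obtain ⟨j, hj⟩ : ∃ j : ℕ, c = 2 * j + 1 := ⟨(c / 2).toNat, by omega⟩
      refine ⟨j, ?_, ?_, Or.inr ?_⟩
      · by_contra h0
        have : j = 0 := by omega
        subst this
        rw [hj] at hc2
        norm_num at hc2
        omega
      · have : (m : ℤ) = 2 * j ^ 2 + 2 * j + 1 := by
          rw [hj] at hc2
          nlinarith [hc2]
        exact_mod_cast this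
      · have : (k : ℤ) = (j + 1) * (2 * j + 1) := by
          have e1 : c ^ 2 = 2 * m - 1 := hc2
          rw [hj] at e1
          have e2 : 2 * (k : ℤ) - 2 * m + 1 = 2 * j + 1 := by rw [← hc, hj]
          nlinarith [e1, e2]
        exact_mod_cast this
    · push Not at hcpos
      obtain ⟨j, hj⟩ : ∃ j : ℕ, c = -(2 * j + 1) := ⟨((-c) / 2).toNat, by omega⟩
      refine ⟨j, ?_, ?_, Or.inl ?_⟩
      · by_contra h0
        have : j = 0 := by omega
        subst this
        rw [hj] at hc2
        norm_num at hc2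
        omega
      · have : (m : ℤ) = 2 * j ^ 2 + 2 * j + 1 := by
          rw [hj] at hc2
          nlinarith [hc2]
        exact_mod_cast this
      · have : (k : ℤ) = j * (2 * j + 1) := by
          have e1 : c ^ 2 = 2 * m - 1 := hc2
          rw [hj] at e1
          have e2 : 2 * (k : ℤ) - 2 * m + 1 = -(2 * j + 1) := by rw [← hc, hj]
          nlinarith [e1, e2]
        exact_mod_cast this
  · right; left
    have h1 : (2 * (k : ℤ) - 1 - 4 * (m - 1)) ^ 2 = 1 := by linear_combination hsq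
    have h2 : ((k : ℤ) - (2 * m - 1)) * (k - (2 * m - 2)) = 0 := by nlinarith [h1]
    rcases mul_eq_zero.mp h2 with h3 | h3
    · omega
    · omega

end Cfsg.Agent.Lib.Helper4.Hecke
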