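import Cfsg.Agent.Lib.Helper4.MultFreeB
import Cfsg.Prelude.Def_Perm

set_option autoImplicit false
set_option linter.unusedSectionVars false
set_option linter.style.haveILetI false

namespace Cfsg.Agent.Lib.Helper4.MultFree

open Cfsg Module Cfsg.Agent.Lib.helper3.Irr
open scoped ComplexConjugate

universe u

variable {G : Type*} [Group G] [Fintype G]

/-- the character of the permutation representation counts fixed points -/
theorem permRep_character {Ω : Type*} [Fintype Ω] [MulAction G Ω] (g : G) :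
    (Cfsg.permRep ℂ G Ω).character g = (Nat.card (MulAction.fixedBy Ω g) : ℂ) := by
  classical
  unfold Representation.character
  rw [LinearMap.trace_eq_matrix_trace ℂ (Pi.basisFun ℂ Ω), Matrix.trace]
  have h1 : ∀ i : Ω, Matrix.diag (LinearMap.toMatrix (Pi.basisFun ℂ Ω) (Pi.basisFun ℂ Ω)
      ((Cfsg.permRep ℂ G Ω) g)) i = if g • i = i then 1 else 0 := by
    intro i
    rw [Matrix.diag_apply, LinearMap.toMatrix_apply, Pi.basisFun_apply, Pi.basisFun_repr]
    show (Pi.single i (1 : ℂ) : Ω → ℂ) (g⁻¹ • i) = _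
    rw [Pi.single_apply]
    by_cases h : g • i = i
    · rw [if_pos h, if_pos]
      rw [inv_smul_eq_iff, h]
    · rw [if_neg h, if_neg]
      intro h'
      apply h
      rw [inv_smul_eq_iff] at h'
      exact h'.symm
  rw [Finset.sum_congr rfl (fun i _ => h1 i), Finset.sum_boole, Nat.card_eq_fintype_card]
  congr 1
  rw [Fintype.card_subtype]
  rfl

/-- an equivariant retraction, by averaging -/
theorem exists_retraction {V W : Type*} [AddCommGroup V] [Module ℂ V] [AddCommGroup W]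
    [Module ℂ W] (τ : Representation ℂ G W) (ρ : Representation ℂ G V) (f : W →ₗ[ℂ] V)
    (hf : ∀ g, f ∘ₗ τ g = ρ g ∘ₗ f) (hinj : Function.Injective f) :
    ∃ r : V →ₗ[ℂ] W, (∀ g, r ∘ₗ ρ g = τ g ∘ₗ r) ∧ r ∘ₗ f = LinearMap.id := by
  obtain ⟨r₀, hr₀⟩ := LinearMap.exists_leftInverse_of_injective f (LinearMap.ker_eq_bot.mpr hinj)
  have hG0 : (Nat.card G : ℂ) ≠ 0 := by exact_mod_cast Nat.card_pos.ne'
  have hr₀' : ∀ x, r₀ (f x) = x := fun x => LinearMap.congr_fun hr₀ x
  have hf' : ∀ g x, f (τ g x) = ρ g (f x) := fun g x => LinearMap.congr_fun (hf g) x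
  set r : V →ₗ[ℂ] W := (Nat.card G : ℂ)⁻¹ • ∑ g : G, τ g ∘ₗ r₀ ∘ₗ ρ g⁻¹ with hr
  have hrv : ∀ v, r v = (Nat.card G : ℂ)⁻¹ • ∑ g : G, τ g (r₀ (ρ g⁻¹ v)) := by
    intro v
    rw [hr, LinearMap.smul_apply, LinearMap.sum_apply]
    rfl
  refine ⟨r, ?_, ?_⟩
  · intro h
    ext v
    rw [LinearMap.comp_apply, LinearMap.comp_apply, hrv, hrv, map_smul, map_sum]
    congr 1
    rw [← Equiv.sum_comp (Equiv.mulLeft h)]
    apply Finset.sum_congr rfl
    intro g _
    simp only [Equiv.coe_mulLeft, mul_inv_rev, map_mul, Module.End.mul_apply]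
    rw [← Module.End.mul_apply (ρ h⁻¹) (ρ h), ← map_mul, inv_mul_cancel, map_one,
      Module.End.one_apply]
  · ext x
    rw [LinearMap.comp_apply, hrv, LinearMap.id_apply]
    have h1 : ∀ g : G, τ g (r₀ (ρ g⁻¹ (f x))) = x := by
      intro g
      rw [← hf', hr₀', ← Module.End.mul_apply, ← map_mul, mul_inv_cancel, map_one,
        Module.End.one_apply]
    rw [Finset.sum_congr rfl (fun g _ => h1 g), Finset.sum_const, Finset.card_univ,
      ← Nat.card_eq_fintype_card, ← Nat.cast_smul_eq_nsmul ℂ, smul_smul, inv_mul_cancel₀ hG0,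
      one_smul]

/-- commutativity of the equivariant endomorphisms forces multiplicity-freeness -/
theorem multFree_of_commEnd {V : Type*} [AddCommGroup V] [Module ℂ V] [FiniteDimensional ℂ V]
    (ρ : Representation ℂ G V) (h : CommEnd ρ) : IsMultFree ρ := by
  intro χ
  obtain ⟨n, τ, hirr, hτ⟩ := χ.2
  haveI := hirr
  rw [← hτ, classInner_character ρ τ]
  set m := finrank ℂ (Representation.IntertwiningMap τ ρ) with hm
  rcases Nat.lt_or_ge m 2 with h2 | h2
  · rcases Nat.eq_zero_or_pos m with h0 | h0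
    · left; rw [h0]; exact Nat.cast_zero
    · right
      have : m = 1 := by omega
      rw [this]; exact Nat.cast_one
  exfalso
  haveI : Module.Finite ℂ (Representation.IntertwiningMap τ ρ) :=
    Module.finite_of_finrank_pos (by omega)
  haveI : Nontrivial (Representation.IntertwiningMap τ ρ) :=
    Module.nontrivial_of_finrank_pos (R := ℂ) (by omega)
  obtain ⟨f₁, hf₁⟩ := exists_ne (0 : Representation.IntertwiningMap τ ρ)
  obtain ⟨f₂, hf₂⟩ := exists_linearIndependent_pair_of_one_lt_finrank (R := ℂ)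
    (by omega : 1 < finrank ℂ (Representation.IntertwiningMap τ ρ)) hf₁
  have hinj : Function.Injective f₁ :=
    (Representation.IsIrreducible.injective_or_eq_zero f₁).resolve_right hf₁
  have hint₁ : ∀ g, f₁.toLinearMap ∘ₗ τ g = ρ g ∘ₗ f₁.toLinearMap := f₁.isIntertwining'
  have hint₂ : ∀ g, f₂.toLinearMap ∘ₗ τ g = ρ g ∘ₗ f₂.toLinearMap := f₂.isIntertwining'
  obtain ⟨r, hr, hrf⟩ := exists_retraction τ ρ f₁.toLinearMap hint₁ hinj
  -- the two endomorphisms
  have hS : ∀ g, (f₂.toLinearMap ∘ₗ r) ∘ₗ ρ g = ρ g ∘ₗ (f₂.toLinearMap ∘ₗ r) := by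
    intro g
    rw [LinearMap.comp_assoc, hr g, ← LinearMap.comp_assoc, hint₂ g, LinearMap.comp_assoc]
  have hT : ∀ g, (f₁.toLinearMap ∘ₗ r) ∘ₗ ρ g = ρ g ∘ₗ (f₁.toLinearMap ∘ₗ r) := by
    intro g
    rw [LinearMap.comp_assoc, hr g, ← LinearMap.comp_assoc, hint₁ g, LinearMap.comp_assoc]
  have hcomm := h _ _ hS hT
  -- `r ∘ f₂` is a scalar
  have hrf₂ : ∀ g, (r ∘ₗ f₂.toLinearMap) ∘ₗ τ g = τ g ∘ₗ (r ∘ₗ f₂.toLinearMap) := by
    intro g
    rw [LinearMap.comp_assoc, hint₂ g, ← LinearMap.comp_assoc, hr g, LinearMap.comp_assoc]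
  obtain ⟨c, hc⟩ := exists_scalar τ _ hrf₂
  have hrf' : ∀ x, r (f₁ x) = x := fun x => LinearMap.congr_fun hrf x
  have key : ∀ x, f₂ x = c • f₁ x := by
    intro x
    have h1 := LinearMap.congr_fun hcomm (f₁ x)
    have h2 : ∀ y, r (f₂ y) = c • y := by
      intro y
      have := LinearMap.congr_fun hc y
      simpa using this
    change f₂ (r (f₁ (r (f₁ x)))) = f₁ (r (f₂ (r (f₁ x)))) at h1
    rw [hrf', hrf', h2, map_smul] at h1
    exact h1
  have hf₂eq : f₂ = c • f₁ := by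
    apply Representation.IntertwiningMap.ext
    apply LinearMap.ext
    intro x
    exact key x
  rw [LinearIndependent.pair_iff] at hf₂
  have := hf₂ (-c) 1 (by rw [hf₂eq]; simp)
  exact one_ne_zero this.2

end Cfsg.Agent.Lib.Helper4.MultFree
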