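import Cfsg.Agent.Lib.Helper4.FS
import Cfsg.Agent.Lib.Helper4.MultFreeC

set_option autoImplicit false
set_option linter.unusedSectionVars false
set_option linter.style.haveILetI false

/-!
# A real irreducible constituent of multiplicity one in an orthogonal representation

If the matrices of `ρ` satisfy `(ρ g)ᵀ = ρ g⁻¹` and the real-valued irreducible character `χ` has
multiplicity one in `ρ`, then the Frobenius--Schur indicator of `χ` is `1`.
-/

namespace Cfsg.Agent.Lib.Helper4.SelfPaired

open Cfsg Module Cfsg.Agent.Lib.helper3.IndFun Cfsg.Agent.Lib.helper3.CharBasic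
open Cfsg.Agent.Lib.helper3.Irr Cfsg.Agent.Lib.Helper4.FS Cfsg.Agent.Lib.Helper4.MultFree
open scoped ComplexConjugate

variable {G : Type*} [Group G] [Fintype G]

theorem fsInd_eq_one_of_orthogonal {Ω : Type*} [Fintype Ω] [DecidableEq Ω]
    (ρ : Representation ℂ G (Ω → ℂ))
    (horth : ∀ g, (LinearMap.toMatrix' (ρ g)).transpose = LinearMap.toMatrix' (ρ g⁻¹))
    (d : ℕ) (τ : Representation ℂ G (Fin d → ℂ)) (hirr : τ.IsIrreducible)
    (hreal : ∀ g, conj (τ.character g) = τ.character g)
    (hmult : classInner ρ.character τ.character = 1) : fsInd τ.character = 1 := by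
  classical
  haveI := hirr
  obtain ⟨B, hdet, hinv, hsym⟩ := exists_invariant_form d τ hirr hreal
  have h1 : finrank ℂ (Representation.IntertwiningMap τ ρ) = 1 := by
    have := classInner_character ρ τ
    rw [hmult] at this
    exact_mod_cast this.symm
  have h2 : finrank ℂ (Representation.IntertwiningMap ρ τ) = 1 := by
    have := classInner_character τ ρ
    rw [← classInner_conj_symm, hmult, map_one] at this
    exact_mod_cast this.symm
  obtain ⟨f, hf0⟩ : ∃ f : Representation.IntertwiningMap τ ρ, f ≠ 0 := by
    haveI : Nontrivial (Representation.IntertwiningMap τ ρ) :=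
      Module.nontrivial_of_finrank_pos (R := ℂ) (by omega)
    exact exists_ne 0
  have hinj : Function.Injective f :=
    (Representation.IsIrreducible.injective_or_eq_zero f).resolve_right hf0
  have hint : ∀ g, f.toLinearMap ∘ₗ τ g = ρ g ∘ₗ f.toLinearMap := f.isIntertwining'
  obtain ⟨r, hr, hrf⟩ := exists_retraction τ ρ f.toLinearMap hint hinj
  -- a coordinate
  obtain ⟨i₀⟩ : Nonempty (Fin d) := by
    by_contra hne
    rw [not_nonempty_iff] at hne
    apply hf0
    apply Representation.IntertwiningMap.ext
    apply LinearMap.ext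
    intro x
    have : x = 0 := Subsingleton.elim _ _
    rw [this, map_zero, map_zero]
  -- matrices
  set T : G → Matrix (Fin d) (Fin d) ℂ := fun g => LinearMap.toMatrix' (τ g) with hT
  set R : G → Matrix Ω Ω ℂ := fun g => LinearMap.toMatrix' (ρ g) with hR
  set J : Matrix Ω (Fin d) ℂ := LinearMap.toMatrix' f.toLinearMap with hJ
  have hTmul : ∀ g h : G, T (g * h) = T g * T h := by
    intro g h
    simp only [hT]
    rw [map_mul, ← LinearMap.toMatrix'_mul]
  have hT1 : T 1 = 1 := by
    simp only [hT]
    rw [map_one]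
    exact LinearMap.toMatrix'_one
  have hJT : ∀ g, J * T g = R g * J := by
    intro g
    simp only [hJ, hT, hR]
    rw [← LinearMap.toMatrix'_comp, ← LinearMap.toMatrix'_comp, hint g]
  have hTB : ∀ g : G, T g * B = B * (T g⁻¹).transpose := by
    intro g
    have h1 : T g * B * (T g).transpose * (T g⁻¹).transpose = B * (T g⁻¹).transpose := by
      rw [hinv g]
    rw [Matrix.mul_assoc, ← Matrix.transpose_mul, ← hTmul, inv_mul_cancel, hT1,
      Matrix.transpose_one, Matrix.mul_one] at h1
    exact h1
  have hJR : ∀ g : G, J.transpose * R g = (T g⁻¹).transpose * J.transpose := by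
    intro g
    have h3 := congrArg Matrix.transpose (hJT g⁻¹)
    rw [Matrix.transpose_mul, Matrix.transpose_mul] at h3
    have h4 : (R g⁻¹).transpose = R g := by
      simp only [hR]
      rw [horth, inv_inv]
    rw [h4] at h3
    exact h3.symm
  -- the map `s`
  set s : (Ω → ℂ) →ₗ[ℂ] (Fin d → ℂ) := Matrix.toLin' (B * J.transpose) with hs
  have hρ : ∀ g, ρ g = Matrix.toLin' (R g) := by
    intro g
    simp only [hR]
    rw [Matrix.toLin'_toMatrix']
  have hτ : ∀ g, τ g = Matrix.toLin' (T g) := by
    intro g
    simp only [hT]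
    rw [Matrix.toLin'_toMatrix']
  have hsint : ∀ g, s ∘ₗ ρ g = τ g ∘ₗ s := by
    intro g
    rw [hs, hρ, hτ, ← Matrix.toLin'_mul, ← Matrix.toLin'_mul, Matrix.mul_assoc, hJR g,
      ← Matrix.mul_assoc, ← hTB g, Matrix.mul_assoc]
  -- `s ∘ f` is a scalar
  have hsf : ∀ g, (s ∘ₗ f.toLinearMap) ∘ₗ τ g = τ g ∘ₗ (s ∘ₗ f.toLinearMap) := by
    intro g
    rw [LinearMap.comp_assoc, hint g, ← LinearMap.comp_assoc, hsint g, LinearMap.comp_assoc]
  obtain ⟨c, hc⟩ := exists_scalar τ _ hsf
  -- intertwining maps
  let s' : Representation.IntertwiningMap ρ τ :=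
    s.intertwiningMap_of_isIntertwiningMap ρ τ (fun g v => LinearMap.congr_fun (hsint g) v)
  let r' : Representation.IntertwiningMap ρ τ :=
    r.intertwiningMap_of_isIntertwiningMap ρ τ (fun g v => LinearMap.congr_fun (hr g) v)
  have hf0' : f.toLinearMap ≠ 0 := by
    intro h
    apply hf0
    apply Representation.IntertwiningMap.ext
    exact h
  have hr0 : r' ≠ 0 := by
    intro h
    have h3 : r = 0 := by
      have : r'.toLinearMap = 0 := by rw [h]; rfl
      exact this
    rw [h3, LinearMap.zero_comp] at hrf
    apply hf0'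
    have : f.toLinearMap = f.toLinearMap ∘ₗ LinearMap.id := by rw [LinearMap.comp_id]
    rw [this, ← hrf, LinearMap.comp_zero]
  obtain ⟨a, ha⟩ := (finrank_eq_one_iff_of_nonzero' r' hr0).mp h2 s'
  have ha' : a • r = s := by
    have : (a • r').toLinearMap = s'.toLinearMap := by rw [ha]
    exact this
  have hac : a = c := by
    have h3 : (a • r) ∘ₗ f.toLinearMap = c • LinearMap.id := by rw [ha', hc]
    rw [LinearMap.smul_comp, hrf] at h3
    have h4 := LinearMap.congr_fun h3 (Pi.single i₀ 1)
    have h5 := congrFun h4 i₀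
    simpa using h5
  have hc0 : c ≠ 0 := by
    intro h0
    rw [← hac] at h0
    rw [h0, zero_smul] at ha'
    -- `B * Jᵀ = 0`
    have h3 : B * J.transpose = 0 := by
      apply Matrix.toLin'.injective
      rw [← hs, ← ha', map_zero]
    have hBu : IsUnit B.det := isUnit_iff_ne_zero.mpr hdet
    have h4 : J.transpose = 0 := by
      have := congrArg (fun M => B⁻¹ * M) h3
      simp only [Matrix.mul_zero] at this
      rw [← Matrix.mul_assoc, Matrix.nonsing_inv_mul B hBu, Matrix.one_mul] at this
      exact this
    apply hf0'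
    have h5 : J = 0 := by
      have := congrArg Matrix.transpose h4
      rwa [Matrix.transpose_transpose, Matrix.transpose_zero] at this
    apply LinearMap.toMatrix'.injective
    rw [← hJ, h5, map_zero]
  -- the matrix identity
  set C : Matrix (Fin d) (Fin d) ℂ := J.transpose * J with hC
  have hCsym : C.transpose = C := by
    rw [hC, Matrix.transpose_mul, Matrix.transpose_transpose]
  have hBC : B * C = c • (1 : Matrix (Fin d) (Fin d) ℂ) := by
    have h3 : Matrix.toLin' (B * C) = Matrix.toLin' (c • (1 : Matrix (Fin d) (Fin d) ℂ)) := by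
      rw [hC, ← Matrix.mul_assoc, Matrix.toLin'_mul, ← hs, map_smul, Matrix.toLin'_one]
      have : Matrix.toLin' J = f.toLinearMap := by
        rw [hJ, Matrix.toLin'_toMatrix']
      rw [this]
      exact hc
    exact Matrix.toLin'.injective h3
  have hCB : C * B = c • (1 : Matrix (Fin d) (Fin d) ℂ) := by
    have h3 : B * (c⁻¹ • C) = 1 := by
      rw [Matrix.mul_smul, hBC, smul_smul, inv_mul_cancel₀ hc0, one_smul]
    have h4 := mul_eq_one_comm.mp h3
    rw [Matrix.smul_mul] at h4
    have := congrArg (fun M => c • M) h4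
    simp only [smul_smul, mul_inv_cancel₀ hc0, one_smul] at this
    exact this
  have h6 : fsInd τ.character • (C * B) = c • (1 : Matrix (Fin d) (Fin d) ℂ) := by
    have := congrArg Matrix.transpose hBC
    rw [Matrix.transpose_mul, hCsym, hsym, Matrix.transpose_smul, Matrix.transpose_one,
      Matrix.mul_smul] at this
    exact this
  rw [hCB, smul_smul] at h6
  have h7 := congrFun (congrFun h6 i₀) i₀
  simp only [Matrix.smul_apply, Matrix.one_apply_eq, smul_eq_mul, mul_one] at h7
  exact mul_right_cancel₀ hc0 (by rw [h7, one_mul])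

end Cfsg.Agent.Lib.Helper4.SelfPaired
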