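import Cfsg.Agent.Lib.Helper4.SelfPaired
import Cfsg.Agent.Lib.Helper4.SelfPairedB
import Cfsg.Agent.Lib.helper3.Irr9

set_option autoImplicit false
set_option linter.unusedSectionVars false
set_option linter.style.haveILetI false

/-!
# Self-paired suborbits and the permutation character
-/

namespace Cfsg.Agent.Lib.Helper4.SelfPaired

open Cfsg Module Cfsg.Agent.Lib.helper3.IndFun Cfsg.Agent.Lib.helper3.CharBasic
open Cfsg.Agent.Lib.helper3.Irr Cfsg.Agent.Lib.Helper4.FS Cfsg.Agent.Lib.Helper4.MultFree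
open scoped ComplexConjugate

variable {G : Type*} [Group G] [Fintype G] {Ω : Type*} [Fintype Ω] [MulAction G Ω]

/-- the matrices of the permutation representation are orthogonal -/
theorem permRep_orth [DecidableEq Ω] (g : G) :
    (LinearMap.toMatrix' (permRep ℂ G Ω g)).transpose =
      LinearMap.toMatrix' (permRep ℂ G Ω g⁻¹) := by
  ext i j
  rw [Matrix.transpose_apply, LinearMap.toMatrix'_apply, LinearMap.toMatrix'_apply]
  show (Pi.single i (1 : ℂ) : Ω → ℂ) (g⁻¹ • j) = (Pi.single j (1 : ℂ) : Ω → ℂ) (g⁻¹⁻¹ • i)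
  rw [Pi.single_apply, Pi.single_apply, inv_inv]
  by_cases h : g • i = j
  · rw [if_pos h, if_pos]
    rw [inv_smul_eq_iff, h]
  · rw [if_neg h, if_neg]
    intro h'
    apply h
    rw [inv_smul_eq_iff] at h'
    exact h'.symm

theorem card_fixedBy_eq [DecidableEq Ω] (g : G) :
    Nat.card (MulAction.fixedBy Ω g) = (Finset.univ.filter (fun a : Ω => g • a = a)).card := by
  rw [Nat.card_eq_fintype_card, Fintype.card_subtype]
  rfl

theorem main :
    (∀ a b : Ω, ∃ g : G, g • a = b ∧ g • b = a) ↔ ∀ χ : G → ℂ, IsIrrCharacter G χ →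
      classInner (fun g : G => (Nat.card (MulAction.fixedBy Ω g) : ℂ)) χ ≠ 0 →
      classInner (fun g : G => (Nat.card (MulAction.fixedBy Ω g) : ℂ)) χ = 1 ∧
        ∀ g : G, conj (χ g) = χ g := by
  classical
  set π : G → ℂ := (permRep ℂ G Ω).character with hπdef
  have hπ : (fun g : G => (Nat.card (MulAction.fixedBy Ω g) : ℂ)) = π :=
    funext (fun g => (permRep_character g).symm)
  have hπg : ∀ g : G, π g = ((Finset.univ.filter (fun a : Ω => g • a = a)).card : ℂ) := by
    intro g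
    rw [← hπ]
    show ((Nat.card (MulAction.fixedBy Ω g) : ℕ) : ℂ) = _
    rw [card_fixedBy_eq]
  rw [hπ]
  have hchar : IsCharacter G π := isCharacter_of_rep _
  obtain ⟨m, hm⟩ := exists_decomposition_of_isCharacter hchar
  have hmχ : ∀ χ : IrrCharacter G, classInner π (χ : G → ℂ) = m χ := by
    intro χ
    rw [hm]
    exact classInner_decomposition_left _ χ
  have hG0 : (Nat.card G : ℂ) ≠ 0 := by exact_mod_cast Nat.card_pos.ne'
  -- the first identity
  have hI1 : ∑ g : G, π g ^ 2 = (Nat.card G : ℂ) * ∑ χ : IrrCharacter G, (m χ : ℂ) ^ 2 := by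
    have h1 : classInner π π = ((∑ ψ : IrrCharacter G, m ψ ^ 2 : ℕ) : ℂ) := by
      conv_lhs => rw [hm]
      exact classInner_self_decomposition m
    rw [classInner_apply] at h1
    have h2 : ∑ g : G, π g * conj (π g) = ∑ g : G, π g ^ 2 := by
      apply Finset.sum_congr rfl
      intro g _
      rw [hπg g, Complex.conj_natCast, sq]
    rw [h2] at h1
    have h3 : ∑ g : G, π g ^ 2 =
        (Nat.card G : ℂ) * ((Nat.card G : ℂ)⁻¹ * ∑ g : G, π g ^ 2) := by
      rw [← mul_assoc, mul_inv_cancel₀ hG0, one_mul]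
    rw [h3, h1]
    push_cast
    rfl
  -- the second identity
  have hI2 : ∑ g : G, π (g * g) =
      (Nat.card G : ℂ) * ∑ χ : IrrCharacter G, (m χ : ℂ) * fsInd (χ : G → ℂ) := by
    have h1 : ∀ g : G, π (g * g) = ∑ χ : IrrCharacter G, (m χ : ℂ) * (χ : G → ℂ) (g * g) := by
      intro g
      conv_lhs => rw [hm]
      rw [Finset.sum_apply]
      apply Finset.sum_congr rfl
      intro χ _
      rfl
    rw [Finset.sum_congr rfl (fun g _ => h1 g), Finset.sum_comm, Finset.mul_sum]
    apply Finset.sum_congr rfl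
    intro χ _
    rw [← Finset.mul_sum]
    unfold fsInd
    rw [← mul_assoc, ← mul_assoc, mul_comm (Nat.card G : ℂ), mul_assoc (m χ : ℂ),
      mul_inv_cancel₀ hG0, mul_one]
  -- the reformulation
  have hiff : (∀ a b : Ω, ∃ g : G, g • a = b ∧ g • b = a) ↔
      ∑ χ : IrrCharacter G, (m χ : ℂ) * fsInd (χ : G → ℂ) =
        ∑ χ : IrrCharacter G, (m χ : ℂ) ^ 2 := by
    rw [forall_swap_iff]
    constructor
    · intro h
      have h1 := congrArg (Nat.cast (R := ℂ)) h
      push_cast at h1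
      simp only [← hπg] at h1
      rw [hI1, hI2] at h1
      exact mul_left_cancel₀ hG0 h1
    · intro h
      have h1 : ((∑ g : G, (Finset.univ.filter (fun a : Ω => (g * g) • a = a)).card : ℕ) : ℂ) =
          ((∑ g : G, (Finset.univ.filter (fun a : Ω => g • a = a)).card ^ 2 : ℕ) : ℂ) := by
        push_cast
        simp only [← hπg]
        rw [hI1, hI2, h]
      exact_mod_cast h1
  rw [hiff]
  -- integrality of the indicator
  have hε : ∀ χ : IrrCharacter G, ∃ e : ℤ, fsInd (χ : G → ℂ) = e ∧ e ≤ 1 ∧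
      (e ≠ 0 → ∀ g, conj ((χ : G → ℂ) g) = (χ : G → ℂ) g) := by
    intro χ
    rcases fsInd_cases χ.2 with h | h
    · exact ⟨0, by rw [h.1]; simp, by norm_num, fun h0 => absurd rfl h0⟩
    · rcases h.1 with h1 | h1
      · exact ⟨1, by rw [h1]; simp, le_refl _, fun _ => h.2⟩
      · exact ⟨-1, by rw [h1]; simp, by norm_num, fun _ => h.2⟩
  choose ε hε1 hε2 hε3 using hε
  constructor
  · intro h χ hχ hne
    have h1 : ∑ χ : IrrCharacter G, (m χ : ℤ) * ε χ = ∑ χ : IrrCharacter G, (m χ : ℤ) ^ 2 := by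
      have h2 : ((∑ χ : IrrCharacter G, (m χ : ℤ) * ε χ : ℤ) : ℂ) =
          ((∑ χ : IrrCharacter G, (m χ : ℤ) ^ 2 : ℤ) : ℂ) := by
        push_cast
        rw [← h]
        apply Finset.sum_congr rfl
        intro χ _
        rw [hε1]
      exact_mod_cast h2
    have hle : ∀ χ ∈ (Finset.univ : Finset (IrrCharacter G)),
        (m χ : ℤ) * ε χ ≤ (m χ : ℤ) ^ 2 := by
      intro χ _
      rcases Nat.eq_zero_or_pos (m χ) with h0 | h0
      · rw [h0]; simp
      · rw [sq]
        apply mul_le_mul_of_nonneg_left _ (Int.natCast_nonneg _)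
        have := hε2 χ
        omega
    have heq := (Finset.sum_eq_sum_iff_of_le hle).mp h1 ⟨χ, hχ⟩ (Finset.mem_univ _)
    have hmne : m ⟨χ, hχ⟩ ≠ 0 := by
      intro h0
      apply hne
      have := hmχ ⟨χ, hχ⟩
      rw [h0] at this
      simpa using this
    have hmz : (m ⟨χ, hχ⟩ : ℤ) ≠ 0 := by exact_mod_cast hmne
    rw [sq] at heq
    have hem : ε ⟨χ, hχ⟩ = (m ⟨χ, hχ⟩ : ℤ) := mul_left_cancel₀ hmz heq
    have hle1 := hε2 ⟨χ, hχ⟩
    have hm1 : m ⟨χ, hχ⟩ = 1 := by omega
    refine ⟨?_, ?_⟩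
    · have := hmχ ⟨χ, hχ⟩
      rw [hm1] at this
      simpa using this
    · apply hε3 ⟨χ, hχ⟩
      rw [hem]
      exact hmz
  · intro h
    apply Finset.sum_congr rfl
    intro χ _
    by_cases h0 : m χ = 0
    · rw [h0]; simp
    · have hne : classInner π (χ : G → ℂ) ≠ 0 := by
        rw [hmχ]
        exact_mod_cast h0
      obtain ⟨h1, hreal⟩ := h (χ : G → ℂ) χ.2 hne
      have hm1 : (m χ : ℂ) = 1 := by rw [← hmχ, h1]
      obtain ⟨d, τ, hirr, hτ⟩ := χ.2
      have h2 := fsInd_eq_one_of_orthogonal (permRep ℂ G Ω) permRep_orth d τ hirr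
        (by rw [hτ]; exact hreal) (by rw [hτ]; exact h1)
      rw [hτ] at h2
      rw [h2, hm1]
      norm_num

end Cfsg.Agent.Lib.Helper4.SelfPaired
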