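import Cfsg.Agent.Lib.Helper4.HeckeD
import Cfsg.Agent.Lib.Helper4.HeckeE
import Cfsg.Agent.Lib.Helper4.SelfPairedC

set_option autoImplicit false
set_option linter.unusedSectionVars false
set_option linter.style.haveILetI false

/-!
# Rank three groups of Wielandt type: the suborbit lengths
-/

namespace Cfsg.Agent.Lib.Helper4.Hecke

open Cfsg Module Cfsg.Agent.Lib.helper3.IndFun Cfsg.Agent.Lib.helper3.CharBasic
open Cfsg.Agent.Lib.helper3.Irr
open scoped ComplexConjugate Pointwise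

variable {G : Type*} [Group G] [Fintype G] {Ω : Type*} [Fintype Ω] [MulAction G Ω]

/-- self-paired suborbits from the interchange property -/
theorem hsym_of_swap (hswap : ∀ a b : Ω, ∃ g : G, g • a = b ∧ g • b = a) (a : Ω) (Δ : Finset Ω)
    (hΔ : ∀ g : G, g • a = a → ∀ z ∈ Δ, g • z ∈ Δ) : ∀ g : G, g • a ∈ Δ → g⁻¹ • a ∈ Δ := by
  intro g hg
  obtain ⟨s, hs1, hs2⟩ := hswap a (g • a)
  have h1 : (g⁻¹ * s) • a = a := by rw [mul_smul, hs1, inv_smul_smul]
  have h2 : g⁻¹ • a = (g⁻¹ * s) • (g • a) := by rw [mul_smul, hs2]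
  rw [h2]
  exact hΔ _ h1 _ hg

/-- in a primitive group with interchanges, a point stabilizer fixing a second point forces
degree two -/
theorem pair_of_fixed [Nontrivial Ω] (hprim : MulAction.IsPreprimitive G Ω) (a b : Ω) (hab : b ≠ a)
    (hfix : ∀ g : G, g • a = a → g • b = b) (s : G) (hs1 : s • a = b) (hs2 : s • b = a) :
    ∀ c : Ω, c = a ∨ c = b := by
  haveI := hprim
  haveI : MulAction.IsPretransitive G Ω := hprim.toIsPretransitive
  have hco := MulAction.IsPreprimitive.isCoatom_stabilizer_of_isPreprimitive (G := G) a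
  set K := MulAction.stabilizer G ({a, b} : Set Ω) with hK
  have hHK : MulAction.stabilizer G a ≤ K := by
    intro g hg
    rw [MulAction.mem_stabilizer_iff] at hg
    rw [hK, MulAction.mem_stabilizer_iff, Set.smul_set_insert, Set.smul_set_singleton, hg,
      hfix g hg]
  have hsK : s ∈ K := by
    rw [hK, MulAction.mem_stabilizer_iff, Set.smul_set_insert, Set.smul_set_singleton, hs1, hs2,
      Set.pair_comm]
  have hsH : s ∉ MulAction.stabilizer G a := by
    intro h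
    rw [MulAction.mem_stabilizer_iff] at h
    exact hab (hs1.symm.trans h)
  have hKtop : K = ⊤ := by
    apply hco.2 K
    refine lt_of_le_of_ne hHK ?_
    intro h
    apply hsH
    rw [h]
    exact hsK
  intro c
  obtain ⟨g, rfl⟩ := MulAction.exists_smul_eq G a c
  have hg : g ∈ K := by
    rw [hKtop]
    exact Subgroup.mem_top g
  rw [hK, MulAction.mem_stabilizer_iff] at hg
  have hmem : g • a ∈ g • ({a, b} : Set Ω) := Set.smul_mem_smul_set (Set.mem_insert _ _)
  rw [hg] at hmem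
  simpa using hmem

/-- multiplicities and reality of the constituents of `1 + χ₁ + χ₂` -/
theorem mult_and_real (χ₁ χ₂ : G → ℂ) (h₁ : IsIrrCharacter G χ₁) (h₂ : IsIrrCharacter G χ₂)
    (hdeg : χ₁ 1 ≠ χ₂ 1) (h1 : χ₁ ≠ fun _ => 1) (h2 : χ₂ ≠ fun _ => 1)
    (hπ : (fun g : G => (Nat.card (MulAction.fixedBy Ω g) : ℂ)) = fun g => 1 + χ₁ g + χ₂ g) :
    ∀ χ : G → ℂ, IsIrrCharacter G χ →
      classInner (fun g : G => (Nat.card (MulAction.fixedBy Ω g) : ℂ)) χ ≠ 0 →
      classInner (fun g : G => (Nat.card (MulAction.fixedBy Ω g) : ℂ)) χ = 1 ∧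
        ∀ g : G, conj (χ g) = χ g := by
  classical
  set π : G → ℂ := fun g : G => (Nat.card (MulAction.fixedBy Ω g) : ℂ) with hπdef
  have hone : IsIrrCharacter G (fun _ : G => (1 : ℂ)) := isIrrCharacter_one
  have h12 : χ₁ ≠ χ₂ := fun h => hdeg (congrFun h 1)
  have hπ' : π = (fun _ : G => (1 : ℂ)) + χ₁ + χ₂ := by
    rw [hπ]
    rfl
  have hmult : ∀ ψ : G → ℂ, IsIrrCharacter G ψ → classInner π ψ =
      (if (fun _ : G => (1 : ℂ)) = ψ then 1 else 0) + (if χ₁ = ψ then 1 else 0) +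
        (if χ₂ = ψ then 1 else 0) := by
    intro ψ hψ
    rw [hπ', classInner_add_left, classInner_add_left, irr_classInner_eq hone hψ,
      irr_classInner_eq h₁ hψ, irr_classInner_eq h₂ hψ]
  have hm1 : classInner π χ₁ = 1 := by
    rw [hmult _ h₁, if_neg (Ne.symm h1), if_pos rfl, if_neg (Ne.symm h12), zero_add, add_zero]
  have hm2 : classInner π χ₂ = 1 := by
    rw [hmult _ h₂, if_neg (Ne.symm h2), if_neg h12, if_pos rfl, zero_add, zero_add]
  have hmem : ∀ ψ : G → ℂ, IsIrrCharacter G ψ → classInner π ψ ≠ 0 →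
      ψ = (fun _ : G => (1 : ℂ)) ∨ ψ = χ₁ ∨ ψ = χ₂ := by
    intro ψ hψ hne
    by_contra hcon
    push Not at hcon
    apply hne
    rw [hmult ψ hψ, if_neg (Ne.symm hcon.1), if_neg (Ne.symm hcon.2.1),
      if_neg (Ne.symm hcon.2.2), add_zero, add_zero]
  have hπreal : (fun g => conj (π g)) = π := by
    funext g
    rw [hπdef]
    exact Complex.conj_natCast _
  have hconjmem : ∀ ψ : G → ℂ, IsIrrCharacter G ψ → classInner π ψ = 1 →
      classInner π (fun g => conj (ψ g)) ≠ 0 := by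
    intro ψ hψ h
    have := classInner_conj_conj π ψ
    rw [hπreal, h, map_one] at this
    rw [this]
    exact one_ne_zero
  have hconj_inj : ∀ ψ φ : G → ℂ, (fun g => conj (ψ g)) = φ → ψ = fun g => conj (φ g) := by
    intro ψ φ h
    funext g
    rw [← h]
    exact (Complex.conj_conj _).symm
  have hd1 : conj (χ₁ 1) = χ₁ 1 := conj_apply_one (isCharacter_of_isIrrCharacter h₁)
  have hd2 : conj (χ₂ 1) = χ₂ 1 := conj_apply_one (isCharacter_of_isIrrCharacter h₂)
  have hr1 : ∀ g : G, conj (χ₁ g) = χ₁ g := by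
    rcases hmem _ (isIrrCharacter_conj h₁) (hconjmem χ₁ h₁ hm1) with h | h | h
    · exfalso
      apply h1
      rw [hconj_inj _ _ h]
      funext g
      exact map_one _
    · exact fun g => congrFun h g
    · exfalso
      apply hdeg
      rw [← hd1]
      exact congrFun h 1
  have hr2 : ∀ g : G, conj (χ₂ g) = χ₂ g := by
    rcases hmem _ (isIrrCharacter_conj h₂) (hconjmem χ₂ h₂ hm2) with h | h | h
    · exfalso
      apply h2
      rw [hconj_inj _ _ h]
      funext g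
      exact map_one _
    · exfalso
      apply hdeg
      rw [← hd2]
      exact (congrFun h 1).symm
    · exact fun g => congrFun h g
  intro χ hχ hne
  rcases hmem χ hχ hne with h | h | h
  · subst h
    refine ⟨?_, fun g => map_one _⟩
    rw [hmult _ hone, if_pos rfl, if_neg h1, if_neg h2, add_zero, add_zero]
  · subst h
    exact ⟨hm1, hr1⟩
  · subst h
    exact ⟨hm2, hr2⟩

/-- the length of a suborbit of a group of Wielandt type -/
theorem wielandt_suborbit [DecidableEq Ω] [MulAction.IsPretransitive G Ω] {m : ℕ} (hm2 : 2 ≤ m)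
    (hm : Fintype.card Ω = 2 * m) (a : Ω) (Δ : Finset Ω)
    (hΔ : ∀ g : G, g • a = a → ∀ z ∈ Δ, g • z ∈ Δ) (ha : a ∉ Δ)
    (hsym : ∀ g : G, g • a ∈ Δ → g⁻¹ • a ∈ Δ) (hk1 : 1 ≤ Δ.card) (hk2 : Δ.card ≤ 2 * m - 2)
    (χ₁ χ₂ : G → ℂ) (h₁ : IsIrrCharacter G χ₁) (h₂ : IsIrrCharacter G χ₂)
    (hπ : (fun g : G => (Nat.card (MulAction.fixedBy Ω g) : ℂ)) = fun g => 1 + χ₁ g + χ₂ g)
    (hd₁ : χ₁ 1 = (m : ℂ) - 1) (hd₂ : χ₂ 1 = m)
    (h1 : χ₁ ≠ fun _ => 1) (h2 : χ₂ ≠ fun _ => 1) :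
    Δ.card = 1 ∨ Δ.card = 2 * m - 2 ∨ ∃ a : ℕ, 0 < a ∧ m = 2 * a ^ 2 + 2 * a + 1 ∧
      (Δ.card = a * (2 * a + 1) ∨ Δ.card = (a + 1) * (2 * a + 1)) := by
  have h12 : χ₁ ≠ χ₂ := by
    intro h
    have := congrFun h 1
    rw [hd₁, hd₂] at this
    have h' : (0 : ℂ) = 1 := by linear_combination this
    exact zero_ne_one h'
  obtain ⟨x, y, hx, hy, e1, e2⟩ := hecke_relations a Δ hΔ ha hsym χ₁ χ₂ h₁ h₂ h12 h1 h2 hπ
  rw [hd₁, hd₂] at e1 e2
  rw [hm] at e2
  obtain ⟨t, ht⟩ : ∃ t : ℂ, t = -(x + y) := ⟨_, rfl⟩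
  have htint : IsIntegral ℤ t := by
    rw [ht]
    exact (hx.add hy).neg
  have hx' : x = (Δ.card : ℂ) - m * t := by
    linear_combination (-1 : ℂ) * e1 + (m : ℂ) * ht
  have hy' : y = ((m : ℂ) - 1) * t - Δ.card := by
    linear_combination (1 : ℂ) * e1 + (1 - (m : ℂ)) * ht
  have hm0 : (m : ℂ) ≠ 0 := by
    have : m ≠ 0 := by omega
    exact_mod_cast this
  have hq : ((m : ℂ) - 1) * (2 * m - 1) * t ^ 2 - 4 * Δ.card * (m - 1) * t +
      2 * Δ.card * (Δ.card - 1) = 0 := by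
    have e3 : (m : ℂ) * (((m : ℂ) - 1) * (2 * m - 1) * t ^ 2 - 4 * Δ.card * (m - 1) * t +
      2 * Δ.card * (Δ.card - 1)) = 0 := by
      rw [hx', hy'] at e2
      push_cast at e2
      linear_combination e2
    rcases mul_eq_zero.mp e3 with h | h
    · exact absurd h hm0
    · exact h
  have hm' : (2 : ℤ) ≤ m := by exact_mod_cast hm2
  have hk1' : (1 : ℤ) ≤ Δ.card := by exact_mod_cast hk1
  have hk2' : (Δ.card : ℤ) ≤ 2 * m - 2 := by omega
  obtain ⟨z, hz⟩ := exists_int_of_quadratic t htint (((m : ℤ) - 1) * (2 * m - 1))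
    (-(4 * Δ.card * ((m : ℤ) - 1))) (2 * Δ.card * ((Δ.card : ℤ) - 1))
    (by
      apply mul_ne_zero
      · omega
      · omega)
    (by
      intro hdvd
      rw [dvd_neg] at hdvd
      have e : 4 * (Δ.card : ℤ) * ((m : ℤ) - 1) = ((m : ℤ) - 1) * (Δ.card * 4) := by ring
      rw [e] at hdvd
      have hdvd2 : (2 * (m : ℤ) - 1) ∣ (Δ.card : ℤ) * 4 :=
        (mul_dvd_mul_iff_left (by omega)).mp hdvd
      have hcop : IsCoprime (2 * (m : ℤ) - 1) 4 :=
        ⟨2 * m - 1, -((m : ℤ) ^ 2 - m), by ring⟩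
      have hdvd3 : (2 * (m : ℤ) - 1) ∣ (Δ.card : ℤ) := hcop.dvd_of_dvd_mul_right hdvd2
      have := Int.le_of_dvd (by omega) hdvd3
      omega)
    (by
      push_cast
      linear_combination hq)
  rw [hz] at hq
  have hq' : ((m : ℤ) - 1) * (2 * m - 1) * z ^ 2 - 4 * Δ.card * (m - 1) * z +
      2 * Δ.card * (Δ.card - 1) = 0 := by exact_mod_cast hq
  exact wielandt_arith m Δ.card hm2 hk1 hk2 z hq'

end Cfsg.Agent.Lib.Helper4.Hecke
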