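import Mathlib

set_option autoImplicit false

namespace Cfsg.Agent.Lib.Helper4.Homog

/-- no carries: Lucas -/
theorem not_dvd_choose (p : ℕ) [hp : Fact p.Prime] :
    ∀ (a k : ℕ), p ^ a ∣ k → ¬ p ∣ Nat.choose (k + p ^ a - 1) k
  | 0, k, _ => by
    simp only [pow_zero, Nat.add_sub_cancel, Nat.choose_self, Nat.dvd_one]
    exact hp.out.one_lt.ne'
  | a + 1, k, h => by
    have hpp := hp.out
    obtain ⟨k₁, rfl⟩ : ∃ k₁, k = p * k₁ := dvd_trans (dvd_pow_self p (Nat.succ_ne_zero a)) h
    have h1 : p ^ a ∣ k₁ := by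
      rw [pow_succ'] at h
      exact Nat.dvd_of_mul_dvd_mul_left hpp.pos h
    have ih := not_dvd_choose p a k₁ h1
    have hlucas := Choose.choose_modEq_choose_mod_mul_choose_div_nat
      (n := p * k₁ + p ^ (a + 1) - 1) (k := p * k₁) (p := p)
    have hpa : 1 ≤ p ^ a := Nat.one_le_pow _ _ hpp.pos
    have hn : p * k₁ + p ^ (a + 1) - 1 = p * (k₁ + p ^ a - 1) + (p - 1) := by
      obtain ⟨m, hm⟩ : ∃ m, k₁ + p ^ a = m + 1 := ⟨k₁ + p ^ a - 1, by omega⟩
      rw [pow_succ', ← mul_add, hm, Nat.add_sub_cancel, mul_add, mul_one]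
      have := hpp.pos
      omega
    have hmod : (p * k₁ + p ^ (a + 1) - 1) % p = p - 1 := by
      rw [hn, Nat.mul_add_mod]
      exact Nat.mod_eq_of_lt (by have := hpp.pos; omega)
    have hdiv : (p * k₁ + p ^ (a + 1) - 1) / p = k₁ + p ^ a - 1 := by
      rw [hn, Nat.mul_add_div hpp.pos, Nat.div_eq_of_lt (by have := hpp.pos; omega), add_zero]
    rw [hmod, hdiv, Nat.mul_mod_right, Nat.mul_div_cancel_left _ hpp.pos, Nat.choose_zero_right,
      one_mul] at hlucas
    intro hd
    apply ih
    rw [Nat.dvd_iff_mod_eq_zero] at hd ⊢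
    rw [← hlucas, hd]

variable {α : Type*} [DecidableEq α]

/-- the number of `k`-subsets of `Y` containing a given `(k-1)`-subset -/
theorem card_supersets (Y T : Finset α) (k : ℕ) (hk : 1 ≤ k) (hT : T ⊆ Y) (hTc : T.card = k - 1) :
    ((Y.powersetCard k).filter (fun K => T ⊆ K)).card = Y.card - (k - 1) := by
  have himg : (Y.powersetCard k).filter (fun K => T ⊆ K) = (Y \ T).image (fun x => insert x T) := by
    ext K
    simp only [Finset.mem_filter, Finset.mem_powersetCard, Finset.mem_image, Finset.mem_sdiff]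
    constructor
    · rintro ⟨⟨hKY, hKc⟩, hTK⟩
      have h1 : (K \ T).card = 1 := by
        rw [Finset.card_sdiff_of_subset hTK, hKc, hTc]; omega
      obtain ⟨x, hx⟩ := Finset.card_eq_one.mp h1
      have hxmem : x ∈ K \ T := by rw [hx]; exact Finset.mem_singleton_self x
      rw [Finset.mem_sdiff] at hxmem
      refine ⟨x, ⟨hKY hxmem.1, hxmem.2⟩, ?_⟩
      rw [← Finset.sdiff_union_of_subset hTK, hx]
      rfl
    · rintro ⟨x, ⟨hxY, hxT⟩, rfl⟩
      refine ⟨⟨?_, ?_⟩, Finset.subset_insert x T⟩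
      · exact Finset.insert_subset hxY hT
      · rw [Finset.card_insert_of_notMem hxT, hTc]; omega
  rw [himg, Finset.card_image_of_injOn, Finset.card_sdiff_of_subset hT, hTc]
  intro x hx y hy hxy
  simp only [Finset.coe_sdiff, Set.mem_sdiff, Finset.mem_coe] at hx hy
  have h1 : x ∈ insert y T := by
    rw [← show insert x T = insert y T from hxy]; exact Finset.mem_insert_self x T
  rcases Finset.mem_insert.mp h1 with h | h
  · exact h
  · exact absurd h hx.2

/-- the double counting -/
theorem double_count (Y : Finset α) (k q : ℕ) (hk : 1 ≤ k) (hY : Y.card = k + q - 1)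
    (R : Finset α → Prop) [DecidablePred R] (c : ℕ)
    (hc : ∀ K ∈ Y.powersetCard k, ((K.powersetCard (k - 1)).filter R).card = c) :
    (k + q - 1).choose k * c = q * ((Y.powersetCard (k - 1)).filter R).card := by
  have h := Finset.sum_card_bipartiteAbove_eq_sum_card_bipartiteBelow
    (s := Y.powersetCard k) (t := (Y.powersetCard (k - 1)).filter R) (r := fun K T => T ⊆ K)
  have hL : ∀ K ∈ Y.powersetCard k,
      (((Y.powersetCard (k - 1)).filter R).bipartiteAbove (fun K T => T ⊆ K) K).card = c := by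
    intro K hK
    rw [← hc K hK]
    congr 1
    ext T
    rw [Finset.mem_powersetCard] at hK
    simp only [Finset.mem_bipartiteAbove, Finset.mem_filter, Finset.mem_powersetCard]
    constructor
    · rintro ⟨⟨⟨_, h2⟩, h3⟩, h4⟩
      exact ⟨⟨h4, h2⟩, h3⟩
    · rintro ⟨⟨h1, h2⟩, h3⟩
      exact ⟨⟨⟨h1.trans hK.1, h2⟩, h3⟩, h1⟩
  have hR : ∀ T ∈ (Y.powersetCard (k - 1)).filter R,
      ((Y.powersetCard k).bipartiteBelow (fun K T => T ⊆ K) T).card = q := by
    intro T hT
    rw [Finset.mem_filter, Finset.mem_powersetCard] at hT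
    have := card_supersets Y T k hk hT.1.1 hT.1.2
    rw [hY] at this
    unfold Finset.bipartiteBelow
    rw [this]
    omega
  rw [Finset.sum_congr rfl hL, Finset.sum_congr rfl hR, Finset.sum_const, Finset.sum_const,
    Finset.card_powersetCard, hY, smul_eq_mul, smul_eq_mul] at h
  rw [h, mul_comm]


/-- the arithmetic conclusion -/
theorem eq_of_forall_dvd (k c : ℕ) (hk : 1 ≤ k) (hc1 : 1 ≤ c) (hck : c ≤ k)
    (h : ∀ p : ℕ, p.Prime → p ∣ k →
      p ^ (k.factorization p) ∣ (k + p ^ (k.factorization p) - 1).choose k * c) : c = k := by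
  have hdvd : k ∣ c := by
    rw [← Nat.factorization_le_iff_dvd (by omega) (by omega)]
    intro p
    by_cases hp : p.Prime
    · by_cases hpk : p ∣ k
      · haveI : Fact p.Prime := ⟨hp⟩
        have h1 := h p hp hpk
        have h2 := not_dvd_choose p (k.factorization p) k (Nat.ordProj_dvd k p)
        have h3 : Nat.Coprime (p ^ (k.factorization p))
            ((k + p ^ (k.factorization p) - 1).choose k) :=
          Nat.Coprime.pow_left _ ((Nat.Prime.coprime_iff_not_dvd hp).mpr h2)
        have h4 : p ^ (k.factorization p) ∣ c := h3.dvd_of_dvd_mul_left h1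
        exact (hp.pow_dvd_iff_le_factorization (by omega)).mp h4
      · rw [Nat.factorization_eq_zero_of_not_dvd hpk]
        exact Nat.zero_le _
    · rw [Nat.factorization_eq_zero_of_not_prime k hp]
      exact Nat.zero_le _
  exact le_antisymm hck (Nat.le_of_dvd (by omega) hdvd)

end Cfsg.Agent.Lib.Helper4.Homog
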