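import Mathlib
import Cfsg.Agent.Lib.Helper4.InvAction
import Cfsg.Agent.Lib.Helper8.ThreeInvA

set_option autoImplicit false

/-! Involutions acting on groups of odd order, second part (helper4): the involution normalizing a
Sylow subgroup can be taken conjugate to the given one. -/

namespace Cfsg.Agent.Lib.Helper4.InvAction

open Cfsg.Agent.Lib.Helper7 Cfsg.Agent.Lib.Helper4.MinNormal

variable {G : Type*} [Group G] [Finite G]

/-- an element of a subgroup of odd order has odd order -/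
theorem odd_orderOf_of_mem {C : Subgroup G} (hCodd : Odd (Nat.card C)) {x : G} (hx : x ∈ C) :
    Odd (orderOf x) := by
  have h1 : orderOf (⟨x, hx⟩ : C) = orderOf x := Subgroup.orderOf_mk _ _
  have h2 : orderOf x ∣ Nat.card C := h1 ▸ orderOf_dvd_natCard _
  exact Odd.of_dvd_nat hCodd h2

/-- an involution normalizing a subgroup `C` of odd order: some involution `s` with `s * t ∈ C`
normalizes a Sylow `p`-subgroup of `C` -/
theorem exists_involution_normalizing_sylow' (p : ℕ) [Fact p.Prime] (C : Subgroup G)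
    (hCodd : Odd (Nat.card C)) (t : G) (ht : orderOf t = 2)
    (htC : C.map (MulAut.conj t).toMonoidHom = C) :
    ∃ (Q : Subgroup G) (s : G), IsSylowIn p Q C ∧ orderOf s = 2 ∧
      Q.map (MulAut.conj s).toMonoidHom = Q ∧ s * t ∈ C := by
  obtain ⟨Q, hQ, -⟩ := exists_isSylowIn_ge (p := p) (Q := (⊥ : Subgroup G)) (H := C)
    IsPGroup.of_bot bot_le
  have hQt : IsSylowIn p (Q.map (MulAut.conj t).toMonoidHom) C := by
    refine ⟨?_, ?_⟩
    · rw [← htC]
      exact Subgroup.map_mono hQ.1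
    · rw [Subgroup.card_map_of_injective (MulAut.conj t).injective]
      exact hQ.2
  obtain ⟨c, hc, hcQ⟩ := hQ.conj hQt
  set t' := c⁻¹ * t with ht'
  have ht'Q : Q.map (MulAut.conj t').toMonoidHom = Q := by
    rw [ht', ← map_conj_map_conj, hcQ, map_conj_map_conj]
    simp only [inv_mul_cancel]
    ext y
    rw [mem_map_conj]
    simp
  have htt : t * t = 1 := by
    have := pow_orderOf_eq_one t
    rwa [ht, pow_two] at this
  have htnotC : t ∉ C := by
    intro h
    have h1 : orderOf (⟨t, h⟩ : C) = 2 := by rw [Subgroup.orderOf_mk]; exact ht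
    have h2 : 2 ∣ Nat.card C := h1 ▸ orderOf_dvd_natCard _
    exact (Nat.not_even_iff_odd.mpr hCodd) (even_iff_two_dvd.mpr h2)
  have ht'notC : t' ∉ C := by
    intro h
    apply htnotC
    have := C.mul_mem hc h
    rwa [ht', mul_inv_cancel_left] at this
  have ht'sq : t' * t' ∈ C := by
    have h1 : t * c⁻¹ * t⁻¹ ∈ C := by
      rw [← htC]
      exact ⟨c⁻¹, C.inv_mem hc, rfl⟩
    have e : t' * t' = c⁻¹ * (t * c⁻¹ * t⁻¹) * (t * t) := by rw [ht']; group
    rw [e, htt, mul_one]
    exact C.mul_mem (C.inv_mem hc) h1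
  set m := orderOf (t' * t') with hm
  have hmodd : Odd m := by
    have h1 : orderOf (⟨t' * t', ht'sq⟩ : C) = m := Subgroup.orderOf_mk _ _
    have h2 : m ∣ Nat.card C := h1 ▸ orderOf_dvd_natCard _
    exact Odd.of_dvd_nat hCodd h2
  set s := t' ^ m with hs
  have hs2 : s * s = 1 := by
    rw [hs, ← pow_add, ← two_mul, pow_mul, pow_two, hm, pow_orderOf_eq_one]
  have hs1 : s ≠ 1 := by
    intro h
    apply ht'notC
    obtain ⟨j, hj⟩ := hmodd
    have : t' = (t' ^ m) * ((t' * t') ^ j)⁻¹ := by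
      rw [hj, ← pow_two, ← pow_mul, pow_succ]
      group
    rw [this, ← hs, h, one_mul]
    exact C.inv_mem (C.pow_mem ht'sq j)
  have hs_ord : orderOf s = 2 := by
    apply orderOf_eq_prime
    · rw [pow_two]; exact hs2
    · exact hs1
  refine ⟨Q, s, hQ, hs_ord, ?_, ?_⟩
  · rw [← mem_normalizer_iff_map_conj] at ht'Q ⊢
    exact Subgroup.pow_mem _ ht'Q m
  · obtain ⟨j, hj⟩ := hmodd
    have e : s * t = (t' * t') ^ j * c⁻¹ := by
      rw [hs, hj, pow_succ, pow_mul, pow_two, ht']
      calc (c⁻¹ * t * (c⁻¹ * t)) ^ j * (c⁻¹ * t) * t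
          = (c⁻¹ * t * (c⁻¹ * t)) ^ j * c⁻¹ * (t * t) := by group
        _ = (c⁻¹ * t * (c⁻¹ * t)) ^ j * c⁻¹ := by rw [htt, mul_one]
    rw [e]
    exact C.mul_mem (C.pow_mem ht'sq j) (C.inv_mem hc)

/-- as above, and `s` is conjugate to `t` -/
theorem exists_conj_involution_normalizing_sylow (p : ℕ) [Fact p.Prime] (C : Subgroup G)
    (hCodd : Odd (Nat.card C)) (t : G) (ht : orderOf t = 2)
    (htC : C.map (MulAut.conj t).toMonoidHom = C) :
    ∃ (Q : Subgroup G) (s : G), IsSylowIn p Q C ∧ orderOf s = 2 ∧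
      Q.map (MulAut.conj s).toMonoidHom = Q ∧ IsConj s t := by
  obtain ⟨Q, s, hQ, hs, hsQ, hst⟩ := exists_involution_normalizing_sylow' p C hCodd t ht htC
  refine ⟨Q, s, hQ, hs, hsQ, ?_⟩
  have hss : s * s = 1 := by
    have := pow_orderOf_eq_one s
    rwa [hs, pow_two] at this
  have htt : t * t = 1 := by
    have := pow_orderOf_eq_one t
    rwa [ht, pow_two] at this
  exact Cfsg.Agent.Lib.Helper8.ThreeInv.isConj_of_odd hss htt (odd_orderOf_of_mem hCodd hst)

end Cfsg.Agent.Lib.Helper4.InvAction
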