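import Mathlib
import Cfsg.Prelude.Def_Blocks
import Cfsg.Agent.Lib.helper3.SubpairBlock
import Cfsg.Agent.Lib.helper3.Fong2
import Cfsg.Agent.Lib.helper3.Inflate2
import Cfsg.Agent.Lib.Helper5.TISyl2

set_option autoImplicit false
set_option linter.style.haveILetI false
set_option linter.unusedSectionVars false

/-! The sum of the elements of square one: in a group with a central involution the central
character of every irreducible character vanishes on it modulo a `2`-modular ideal (helper4). -/

namespace Cfsg.Agent.Lib.Helper4.InvSum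

open Cfsg Cfsg.Agent.Lib.helper3.CharBasic Cfsg.Agent.Lib.helper3.Irr
open Cfsg.Agent.Lib.helper3.Central Cfsg.Agent.Lib.helper3.LocalM
open Cfsg.Agent.Lib.helper3.Block
open scoped ComplexConjugate
open Classical

universe u

variable {H : Type u} [Group H] [Fintype H] {M : Ideal AlgInt}

/-- the indicator of the elements of square one -/
noncomputable def sqOne (t : H) : ℂ := if t * t = 1 then 1 else 0

theorem sqOne_conj (g x : H) : sqOne (x * g * x⁻¹) = sqOne g := by
  unfold sqOne
  have : x * g * x⁻¹ * (x * g * x⁻¹) = 1 ↔ g * g = 1 := by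
    constructor
    · intro h
      have e : g * g = x⁻¹ * (x * g * x⁻¹ * (x * g * x⁻¹)) * x := by group
      rw [e, h]; group
    · intro h
      have e : x * g * x⁻¹ * (x * g * x⁻¹) = x * (g * g) * x⁻¹ := by group
      rw [e, h]; group
  simp only [this]

theorem memLocalIdeal_two (hM : IsPModular 2 M) : MemLocalIdeal M (2 : ℂ) := by
  have := memLocalIdeal_natCast_of_dvd hM 2 (dvd_refl 2)
  simpa using this

/-- **Central involution lemma.** -/
theorem memLocalIdeal_sum_sqOne (hM : IsPModular 2 M) (z : H) (hz : z ∈ Subgroup.center H)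
    (hz2 : z * z = 1) (hz1 : z ≠ 1) (ξ : IrrCharacter H) :
    MemLocalIdeal M (∑ t : H, sqOne t * ((ξ : H → ℂ) t / (ξ : H → ℂ) 1)) := by
  haveI hMp := isPrime_of_isPModular hM
  have hMtop : M ≠ ⊤ := hM.2.1.ne_top
  obtain ⟨c, -, hc⟩ := Cfsg.Agent.Lib.Helper5.TISyl.central_scalar ξ.2 z hz
  have hξ1 : (ξ : H → ℂ) 1 ≠ 0 := by
    obtain ⟨n, hn, hn1⟩ := exists_pos_nat_apply_one ξ.2
    rw [hn1]
    exact_mod_cast hn.ne'
  have hcc : c * c = 1 := by
    have h1 := hc z
    have h2 := hc 1
    rw [one_mul] at h2
    rw [hz2, h2, ← mul_assoc] at h1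
    have : (c * c - 1) * (ξ : H → ℂ) 1 = 0 := by rw [sub_mul, one_mul, ← h1, sub_self]
    rcases mul_eq_zero.mp this with h | h
    · exact sub_eq_zero.mp h
    · exact absurd h hξ1
  have hzc : ∀ t : H, t * z = z * t := fun t => (Subgroup.mem_center_iff.mp hz t)
  -- the bijection `t ↦ t * z` preserves squares one
  have hsq : ∀ t : H, sqOne (t * z) = sqOne t := by
    intro t
    unfold sqOne
    have : t * z * (t * z) = t * t := by
      calc t * z * (t * z) = t * (z * t) * z := by group
        _ = t * (t * z) * z := by rw [hzc t]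
        _ = t * t * (z * z) := by group
        _ = t * t := by rw [hz2, mul_one]
    rw [this]
  have hc' : c = 1 ∨ c = -1 := by
    have : (c - 1) * (c + 1) = 0 := by ring_nf; rw [pow_two, hcc]; ring
    rcases mul_eq_zero.mp this with h | h
    · left; exact sub_eq_zero.mp h
    · right; exact eq_neg_of_add_eq_zero_left h
  rcases hc' with hc1 | hc1
  swap
  · -- `c = -1`: the sum vanishes
    have hsum : ∑ t : H, sqOne t * ((ξ : H → ℂ) t / (ξ : H → ℂ) 1)
        = - ∑ t : H, sqOne t * ((ξ : H → ℂ) t / (ξ : H → ℂ) 1) := by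
      rw [← Finset.sum_neg_distrib]
      apply Fintype.sum_equiv (Equiv.mulRight z)
      intro t
      simp only [Equiv.coe_mulRight]
      rw [hsq, hc, hc1]
      ring
    have h0 : ∑ t : H, sqOne t * ((ξ : H → ℂ) t / (ξ : H → ℂ) 1) = 0 := by
      have : (2 : ℂ) * ∑ t : H, sqOne t * ((ξ : H → ℂ) t / (ξ : H → ℂ) 1) = 0 := by
        rw [two_mul]
        nth_rewrite 1 [hsum]
        exact neg_add_cancel _
      rcases mul_eq_zero.mp this with h | h
      · exact absurd h two_ne_zero
      · exact h
    rw [h0]
    exact memLocalIdeal_zero hMtop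
  -- `c = 1`: pass to the quotient by `⟨z⟩`
  set N : Subgroup H := Subgroup.zpowers z with hN
  haveI hNn : N.Normal := by
    refine ⟨fun n hn g => ?_⟩
    have hnc : n ∈ Subgroup.center H := by
      have : Subgroup.zpowers z ≤ Subgroup.center H := by
        rw [Subgroup.zpowers_le]; exact hz
      exact this hn
    have : g * n * g⁻¹ = n := by
      rw [Subgroup.mem_center_iff.mp hnc g]
      group
    rw [this]; exact hn
  have hNmem : ∀ n : H, n ∈ N ↔ n = 1 ∨ n = z := by
    intro n
    constructor
    · intro hn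
      obtain ⟨k, rfl⟩ := Subgroup.mem_zpowers_iff.mp hn
      rcases Int.even_or_odd k with ⟨j, hj⟩ | ⟨j, hj⟩
      · left
        rw [hj, ← two_mul, zpow_mul, zpow_two, hz2, one_zpow]
      · right
        rw [hj, zpow_add, zpow_one, zpow_mul, zpow_two, hz2, one_zpow, one_mul]
    · rintro (h | h)
      · rw [h]; exact N.one_mem
      · rw [h]; exact Subgroup.mem_zpowers z
  have hconst : ∀ g n : H, n ∈ N → (ξ : H → ℂ) (g * n) = (ξ : H → ℂ) g := by
    intro g n hn
    rcases (hNmem n).mp hn with h | h
    · rw [h, mul_one]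
    · rw [h, hc, hc1, one_mul]
  obtain ⟨ψ, hψ, hξψ⟩ := exists_eq_inflate ξ.2 N hconst
  haveI : Fintype (H ⧸ N) := Fintype.ofFinite _
  -- the class function on the quotient
  set b : H ⧸ N → ℂ := fun s => if ∃ t : H, (t : H ⧸ N) = s ∧ t * t = 1 then 1 else 0 with hb
  have hbloc : ∀ s, MemLocalRing M (b s) := by
    intro s
    rw [hb]
    simp only
    split_ifs
    · exact memLocalRing_of_integral isIntegral_one
    · exact memLocalRing_of_integral isIntegral_zero
  have hbc : ∀ s x : H ⧸ N, b (x * s * x⁻¹) = b s := by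
    intro s x
    obtain ⟨x', rfl⟩ := QuotientGroup.mk_surjective x
    rw [hb]
    simp only
    have : (∃ t : H, (t : H ⧸ N) = (x' : H ⧸ N) * s * (x' : H ⧸ N)⁻¹ ∧ t * t = 1) ↔
        ∃ t : H, (t : H ⧸ N) = s ∧ t * t = 1 := by
      constructor
      · rintro ⟨t, ht, htt⟩
        refine ⟨x'⁻¹ * t * x', ?_, ?_⟩
        · rw [QuotientGroup.mk_mul, QuotientGroup.mk_mul, ht, QuotientGroup.mk_inv]
          group
        · calc x'⁻¹ * t * x' * (x'⁻¹ * t * x') = x'⁻¹ * (t * t) * x' := by group
            _ = 1 := by rw [htt]; group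
      · rintro ⟨t, ht, htt⟩
        refine ⟨x' * t * x'⁻¹, ?_, ?_⟩
        · rw [QuotientGroup.mk_mul, QuotientGroup.mk_mul, ht, QuotientGroup.mk_inv]
        · calc x' * t * x'⁻¹ * (x' * t * x'⁻¹) = x' * (t * t) * x'⁻¹ := by group
            _ = 1 := by rw [htt]; group
    simp only [this]
  have hloc := memLocalRing_sum_mul_div (M := M) b hbloc hbc ⟨ψ, hψ⟩
  -- fibrewise computation
  have hfib : ∑ t : H, sqOne t * ((ξ : H → ℂ) t / (ξ : H → ℂ) 1)
      = 2 * ∑ s : H ⧸ N, b s * (ψ s / ψ 1) := by
    rw [← Finset.sum_fiberwise Finset.univ (fun t : H => (t : H ⧸ N)), Finset.mul_sum]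
    apply Finset.sum_congr rfl
    intro s _
    have hval : ∀ t ∈ Finset.univ.filter (fun t : H => (t : H ⧸ N) = s),
        sqOne t * ((ξ : H → ℂ) t / (ξ : H → ℂ) 1) = sqOne t * (ψ s / ψ 1) := by
      intro t ht
      simp only [Finset.mem_filter, Finset.mem_univ, true_and] at ht
      rw [hξψ, inflate_apply, inflate_apply, ht]
      rfl
    rw [Finset.sum_congr rfl hval, ← Finset.sum_mul]
    have hcount : ∑ t ∈ Finset.univ.filter (fun t : H => (t : H ⧸ N) = s), sqOne t = 2 * b s := by
      rw [hb]
      simp only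
      by_cases hex : ∃ t : H, (t : H ⧸ N) = s ∧ t * t = 1
      · rw [if_pos hex]
        obtain ⟨t₀, ht₀, ht₀t₀⟩ := hex
        have hfilter : Finset.univ.filter (fun t : H => (t : H ⧸ N) = s) = {t₀, t₀ * z} := by
          ext t
          simp only [Finset.mem_filter, Finset.mem_univ, true_and, Finset.mem_insert,
            Finset.mem_singleton]
          rw [← ht₀]
          constructor
          · intro h
            have h1 : t₀⁻¹ * t ∈ N := QuotientGroup.eq.mp h.symm
            rcases (hNmem _).mp h1 with h2 | h2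
            · left
              have : t = t₀ * (t₀⁻¹ * t) := by group
              rw [this, h2, mul_one]
            · right
              have : t = t₀ * (t₀⁻¹ * t) := by group
              rw [this, h2]
          · rintro (rfl | rfl)
            · rfl
            · apply QuotientGroup.eq.mpr
              have : (t₀ * z)⁻¹ * t₀ = z⁻¹ := by group
              rw [this]
              exact N.inv_mem (Subgroup.mem_zpowers z)
        rw [hfilter, Finset.sum_pair]
        · rw [hsq]
          unfold sqOne
          rw [if_pos ht₀t₀]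
          norm_num
        · intro h
          apply hz1
          have : z = t₀⁻¹ * (t₀ * z) := by group
          rw [this, ← h]; group
      · rw [if_neg hex, mul_zero]
        apply Finset.sum_eq_zero
        intro t ht
        simp only [Finset.mem_filter, Finset.mem_univ, true_and] at ht
        unfold sqOne
        rw [if_neg]
        intro htt
        exact hex ⟨t, ht, htt⟩
    rw [hcount]
    ring
  rw [hfib]
  have h2 : MemLocalIdeal M (2 : ℂ) := memLocalIdeal_two hM
  rw [mul_comm]
  exact memLocalIdeal_mul_localRing hloc h2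

end Cfsg.Agent.Lib.Helper4.InvSum
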