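import Mathlib
import Cfsg.Agent.Lib.Helper4.InvSumA
import Cfsg.Agent.Lib.helper3.SP22
import Cfsg.Agent.Lib.helper3.BrauerHom
import Cfsg.Agent.Lib.helper3.FR6

set_option autoImplicit false
set_option linter.style.haveILetI false
set_option linter.unusedSectionVars false

/-! The central character of a character of positive `2`-defect vanishes modulo `M` on the sum of
the elements of square one (helper4). -/

namespace Cfsg.Agent.Lib.Helper4.InvSum

open Cfsg Cfsg.Agent.Lib.helper3.CharBasic Cfsg.Agent.Lib.helper3.Irr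
open Cfsg.Agent.Lib.helper3.Central Cfsg.Agent.Lib.helper3.LocalM
open Cfsg.Agent.Lib.helper3.Block
open scoped ComplexConjugate
open Classical

universe u

variable {G : Type u} [Group G] [Fintype G] {M : Ideal AlgInt}

theorem mem_blockOf_self (hM : IsPModular 2 M) (χ : IrrCharacter G) :
    χ ∈ blockOf M (χ : G → ℂ) := by
  have hMtop : M ≠ ⊤ := hM.2.1.ne_top
  intro g
  rw [sub_self]
  exact memLocalIdeal_zero hMtop

/-- **Positive defect.** -/
theorem memLocalIdeal_sum_sqOne_of_defect (hM : IsPModular 2 M) (χ : IrrCharacter G)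
    (hdef : (charDegree (χ : G → ℂ)).factorization 2 < (Nat.card G).factorization 2) :
    MemLocalIdeal M (∑ g : G, sqOne g * ((χ : G → ℂ) g / (χ : G → ℂ) 1)) := by
  haveI : Fact (Nat.Prime 2) := ⟨Nat.prime_two⟩
  haveI hMp := isPrime_of_isPModular hM
  have hMtop : M ≠ ⊤ := hM.2.1.ne_top
  set B : Set (IrrCharacter G) := blockOf M (χ : G → ℂ) with hBdef
  have hB : IsPBlock M B := ⟨χ, rfl⟩
  have hχB : χ ∈ B := mem_blockOf_self hM χ
  obtain ⟨D, hD⟩ := exists_isDefectGroup hM B hB
  have hDcard := Cfsg.Agent.S0908.result 2 M hM B hB D hD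
  have hDp : IsPGroup 2 D := isPGroup_of_isDefectGroup hD
  -- the defect is positive
  have hpos : 0 < blockDefect 2 B := by
    unfold blockDefect
    have hle : sInf ((fun ψ : IrrCharacter G => (charDegree (ψ : G → ℂ)).factorization 2) '' B)
        ≤ (charDegree (χ : G → ℂ)).factorization 2 :=
      Nat.sInf_le ⟨χ, hχB, rfl⟩
    omega
  have hDnt : Nontrivial D := by
    rw [← Finite.one_lt_card_iff_nontrivial, hDcard]
    exact Nat.one_lt_two_pow hpos.ne'
  -- a central involution of `D`
  haveI : Nontrivial (Subgroup.center D) := hDp.center_nontrivial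
  have h2c : 2 ∣ Nat.card (Subgroup.center D) := by
    have hcp : IsPGroup 2 (Subgroup.center D) := hDp.to_subgroup _
    obtain ⟨n, hn⟩ := hcp.exists_card_eq
    have hn0 : n ≠ 0 := by
      rintro rfl
      rw [pow_zero] at hn
      have := Finite.one_lt_card_iff_nontrivial.mpr (inferInstance : Nontrivial (Subgroup.center D))
      omega
    rw [hn]
    exact dvd_pow_self 2 hn0
  obtain ⟨z', hz'⟩ := exists_prime_orderOf_dvd_card' 2 h2c
  set z : G := ((z' : D) : G) with hzdef
  have hzo : orderOf z = 2 := by
    rw [hzdef, Subgroup.orderOf_coe, Subgroup.orderOf_coe]; exact hz'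
  have hzz : z * z = 1 := by
    have := pow_orderOf_eq_one z
    rwa [hzo, pow_two] at this
  have hz1 : z ≠ 1 := by
    intro h
    rw [h, orderOf_one] at hzo
    exact absurd hzo (by norm_num)
  have hzD : z ∈ D := (z' : D).2
  have hzcomm : ∀ d ∈ D, d * z = z * d := by
    intro d hd
    have := z'.2
    rw [Subgroup.mem_center_iff] at this
    have h1 := this ⟨d, hd⟩
    exact congrArg Subtype.val h1
  have hzC : z ∈ Subgroup.centralizer (D : Set G) := by
    rw [Subgroup.mem_centralizer_iff]
    intro d hd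
    exact hzcomm d hd
  -- a Brauer pair on `D`
  obtain ⟨e, he⟩ := exists_isBrauerPairOf_of_isDefectGroup hM B hB D hD
  obtain ⟨⟨-, ξ₀, hξ₀⟩, -, hbr⟩ := he
  haveI : Fintype (Subgroup.centralizer (D : Set G)) := Fintype.ofFinite _
  have hξe : ξ₀ ∈ e := by
    rw [hξ₀]
    intro g
    rw [sub_self]
    exact memLocalIdeal_zero hMtop
  have hω := hbr ξ₀ hξe
  have hsq_loc : ∀ g : G, MemLocalRing M (sqOne g) := by
    intro g
    unfold sqOne
    split_ifs
    · exact memLocalRing_of_integral isIntegral_one
    · exact memLocalRing_of_integral isIntegral_zero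
  have hkey := memLocalIdeal_brauerOmega_sub_centralChar hM D hDp B hB ξ₀ hω
    (fun g : G => sqOne g) hsq_loc (fun g x => sqOne_conj g x) χ hχB
  -- the local sum
  have hlocal : MemLocalIdeal M (brauerOmega D (fun g : G => sqOne g)
      (ξ₀ : Subgroup.centralizer (D : Set G) → ℂ)) := by
    unfold brauerOmega
    rw [finsum_eq_sum_of_fintype]
    have hzc : (⟨z, hzC⟩ : Subgroup.centralizer (D : Set G)) ∈
        Subgroup.center (Subgroup.centralizer (D : Set G)) := by
      rw [Subgroup.mem_center_iff]
      rintro ⟨c, hc⟩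
      apply Subtype.ext
      show c * z = z * c
      rw [Subgroup.mem_centralizer_iff] at hc
      exact (hc z hzD).symm
    have h1 := memLocalIdeal_sum_sqOne hM (⟨z, hzC⟩ : Subgroup.centralizer (D : Set G)) hzc
      (Subtype.ext hzz) (fun h => hz1 (congrArg Subtype.val h)) ξ₀
    convert h1 using 1
    apply Finset.sum_congr rfl
    intro x _
    have hsx : sqOne (x : G) = sqOne x := by
      unfold sqOne
      by_cases hx : x * x = 1
      · have hx' : (x : G) * (x : G) = 1 := congrArg Subtype.val hx
        rw [if_pos hx, if_pos hx']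
      · have hx' : ¬ (x : G) * (x : G) = 1 := fun h => hx (Subtype.ext h)
        rw [if_neg hx, if_neg hx']
    show sqOne (x : G) * (ξ₀ : Subgroup.centralizer (D : Set G) → ℂ) x /
      (ξ₀ : Subgroup.centralizer (D : Set G) → ℂ) 1 = _
    rw [hsx, mul_div_assoc]
  have := memLocalIdeal_sub hlocal hkey
  rwa [sub_sub_cancel] at this

end Cfsg.Agent.Lib.Helper4.InvSum
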