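import Mathlib
import Cfsg.Agent.Lib.Helper4.InvSumB
import Cfsg.Agent.Lib.helper3.DefectZero
import Cfsg.Agent.Lib.helper3.DefectOrder

set_option autoImplicit false
set_option linter.style.haveILetI false
set_option linter.unusedSectionVars false

/-! Elements of order `3` normalizing no nontrivial `2`-subgroup; the sum of the elements of square
one at a character of `2`-defect zero (helper4). -/

namespace Cfsg.Agent.Lib.Helper4.InvSum

open Cfsg Cfsg.Agent.Lib.helper3.CharBasic Cfsg.Agent.Lib.helper3.Irr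
open Cfsg.Agent.Lib.helper3.Central Cfsg.Agent.Lib.helper3.LocalM
open Cfsg.Agent.Lib.helper3.Block
open scoped ComplexConjugate
open Classical

universe u

section grp

variable {G : Type*} [Group G] [Finite G]

theorem isPGroup_two_zpowers (u : G) (hu : u * u = 1) : IsPGroup 2 (Subgroup.zpowers u) := by
  intro g
  obtain ⟨k, hk⟩ := Subgroup.mem_zpowers_iff.mp g.2
  refine ⟨1, ?_⟩
  apply Subtype.ext
  rw [pow_one, Subgroup.coe_pow, Subgroup.coe_one, ← hk, pow_two, ← zpow_add, ← two_mul, zpow_mul,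
    zpow_two, hu, one_zpow]

/-- lemma (B): the `A₄` presentation. -/
theorem mul_ne_of_normalizes_no_two_subgroup (x y t : G) (hx : orderOf x = 3)
    (hxQ : ∀ Q : Subgroup G, IsPGroup 2 ↥Q → x ∈ Subgroup.normalizer (Q : Set G) → Q = ⊥)
    (hy : orderOf y = 3) (ht : orderOf t = 2) : y * t ≠ x := by
  intro hyt
  have hx3 : x * x * x = 1 := by
    have := pow_orderOf_eq_one x
    rw [hx, pow_succ, pow_two] at this
    exact this
  have hy3 : y * y * y = 1 := by
    have := pow_orderOf_eq_one y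
    rw [hy, pow_succ, pow_two] at this
    exact this
  have ht2 : t * t = 1 := by
    have := pow_orderOf_eq_one t
    rwa [ht, pow_two] at this
  have ht1 : t ≠ 1 := by
    intro h
    rw [h, orderOf_one] at ht
    exact absurd ht (by norm_num)
  have htinv : t⁻¹ = t := inv_eq_of_mul_eq_one_left ht2
  have hxinv : x⁻¹ = x * x := inv_eq_of_mul_eq_one_left hx3
  have hyx : y = x * t := by
    rw [← hyt, mul_assoc, ht2, mul_one]
  -- `(x t)^3 = 1`
  have h1 : x * t * (x * t) * (x * t) = 1 := by rw [← hyx]; exact hy3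
  set u₁ : G := x * t * x⁻¹ with hu₁
  set u₂ : G := x * x * t * (x * x)⁻¹ with hu₂
  have hu₁2 : u₁ * u₁ = 1 := by
    rw [hu₁]
    calc x * t * x⁻¹ * (x * t * x⁻¹) = x * (t * t) * x⁻¹ := by group
      _ = 1 := by rw [ht2]; group
  have hu₂2 : u₂ * u₂ = 1 := by
    rw [hu₂]
    calc x * x * t * (x * x)⁻¹ * (x * x * t * (x * x)⁻¹) = x * x * (t * t) * (x * x)⁻¹ := by group
      _ = 1 := by rw [ht2]; group
  -- `u₁ u₂ = t`
  have h12 : u₁ * u₂ = t := by
    rw [hu₁, hu₂]
    have e : x * t * x⁻¹ * (x * x * t * (x * x)⁻¹) = x * t * (x * t) * (x * t) * t⁻¹ * (x * x * x)⁻¹ := by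
      group
    rw [e, h1, hx3, htinv]
    group
  have h21 : u₂ * u₁ = t := by
    have e1 : u₂ * u₁ = (u₁ * u₂)⁻¹ := by
      rw [mul_inv_rev]
      rw [inv_eq_of_mul_eq_one_left hu₁2, inv_eq_of_mul_eq_one_left hu₂2]
    rw [e1, h12, htinv]
  set Q : Subgroup G := Subgroup.zpowers u₁ ⊔ Subgroup.zpowers u₂ with hQ
  have hQp : IsPGroup 2 Q := by
    apply IsPGroup.to_sup_of_normal_right' (isPGroup_two_zpowers u₁ hu₁2)
      (isPGroup_two_zpowers u₂ hu₂2)
    rw [Subgroup.zpowers_le]
    rw [Subgroup.mem_normalizer_iff]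
    intro h
    have hc : ∀ k : G, k ∈ Subgroup.zpowers u₂ → u₁ * k * u₁⁻¹ = k := by
      intro k hk
      obtain ⟨n, rfl⟩ := Subgroup.mem_zpowers_iff.mp hk
      have hcomm : Commute u₁ u₂ := by
        show u₁ * u₂ = u₂ * u₁
        rw [h12, h21]
      have := (hcomm.zpow_right n).eq
      rw [this]
      group
    constructor
    · intro hh
      rw [hc h hh]; exact hh
    · intro hh
      have h2 : u₁⁻¹ * (u₁ * h * u₁⁻¹) * u₁ = h := by group
      have h3 := hc _ hh
      have : u₁ * h * u₁⁻¹ = h := by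
        have h4 : u₁ * (u₁ * h * u₁⁻¹) * u₁⁻¹ = u₁ * h * u₁⁻¹ := h3
        have : u₁ * h * u₁⁻¹ = u₁⁻¹ * (u₁ * (u₁ * h * u₁⁻¹) * u₁⁻¹) * u₁ := by group
        rw [h4] at this
        rw [this]; group
      rw [← this]; exact hh
  have hu₁Q : u₁ ∈ Q := (le_sup_left : Subgroup.zpowers u₁ ≤ Q) (Subgroup.mem_zpowers u₁)
  have hu₂Q : u₂ ∈ Q := (le_sup_right : Subgroup.zpowers u₂ ≤ Q) (Subgroup.mem_zpowers u₂)
  have htQ : t ∈ Q := by rw [← h12]; exact Q.mul_mem hu₁Q hu₂Q
  have hmap : Q.map (MulAut.conj x).toMonoidHom ≤ Q := by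
    rw [hQ, Subgroup.map_sup, MonoidHom.map_zpowers, MonoidHom.map_zpowers]
    apply sup_le
    · rw [Subgroup.zpowers_le]
      have : (MulAut.conj x).toMonoidHom u₁ = u₂ := by
        show x * u₁ * x⁻¹ = u₂
        rw [hu₁, hu₂]; group
      rw [this]; exact hu₂Q
    · rw [Subgroup.zpowers_le]
      have : (MulAut.conj x).toMonoidHom u₂ = t := by
        show x * u₂ * x⁻¹ = t
        rw [hu₂]
        have e : x * (x * x * t * (x * x)⁻¹) * x⁻¹ = (x * x * x) * t * (x * x * x)⁻¹ := by group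
        rw [e, hx3]; group
      rw [this]; exact htQ
  have hxN : x ∈ Subgroup.normalizer (Q : Set G) := by
    rw [Subgroup.mem_normalizer_iff_map_conj_eq]
    have hcard : Nat.card (Q.map (MulAut.conj x).toMonoidHom) = Nat.card Q :=
      Nat.card_congr (Q.equivMapOfInjective _ (MulAut.conj x).injective).toEquiv.symm
    exact Subgroup.eq_of_le_of_card_ge hmap hcard.ge
  have hQbot := hxQ Q hQp hxN
  rw [hQbot, Subgroup.mem_bot] at htQ
  exact ht1 htQ

theorem not_two_dvd_card_centralizer (x : G)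
    (hxQ : ∀ Q : Subgroup G, IsPGroup 2 ↥Q → x ∈ Subgroup.normalizer (Q : Set G) → Q = ⊥) :
    ¬ 2 ∣ Nat.card (Subgroup.centralizer ({x} : Set G)) := by
  intro h2
  obtain ⟨s, hs⟩ := exists_prime_orderOf_dvd_card' 2 h2
  have hso : orderOf (s : G) = 2 := by rw [Subgroup.orderOf_coe]; exact hs
  have hss : (s : G) * (s : G) = 1 := by
    have := pow_orderOf_eq_one (s : G)
    rwa [hso, pow_two] at this
  have hs1 : (s : G) ≠ 1 := by
    intro h
    rw [h, orderOf_one] at hso
    exact absurd hso (by norm_num)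
  have hcomm : (s : G) * x = x * (s : G) := by
    have := s.2
    rw [Subgroup.mem_centralizer_iff] at this
    exact (this x rfl).symm
  have hN : x ∈ Subgroup.normalizer ((Subgroup.zpowers (s : G) : Subgroup G) : Set G) := by
    have hc : ∀ k : G, k ∈ Subgroup.zpowers (s : G) → x * k * x⁻¹ = k := by
      intro k hk
      obtain ⟨n, rfl⟩ := Subgroup.mem_zpowers_iff.mp hk
      have hcm : Commute x (s : G) := hcomm.symm
      rw [(hcm.zpow_right n).eq]
      group
    rw [Subgroup.mem_normalizer_iff]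
    intro h
    constructor
    · intro hh
      rw [hc h hh]; exact hh
    · intro hh
      have h3 := hc _ hh
      have : x * h * x⁻¹ = h := by
        have e : x * h * x⁻¹ = x⁻¹ * (x * (x * h * x⁻¹) * x⁻¹) * x := by group
        rw [h3] at e
        rw [e]; group
      rw [← this]; exact hh
  have hbot := hxQ _ (isPGroup_two_zpowers (s : G) hss) hN
  have : (s : G) ∈ (⊥ : Subgroup G) := by rw [← hbot]; exact Subgroup.mem_zpowers _
  exact hs1 (Subgroup.mem_bot.mp this)

end grp

section chr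

variable {G : Type u} [Group G] [Fintype G]

/-- **Defect zero.** -/
theorem sum_sqOne_of_defect_zero (χ : IrrCharacter G)
    (h0 : (charDegree (χ : G → ℂ)).factorization 2 = (Nat.card G).factorization 2) :
    ∑ g : G, sqOne g * ((χ : G → ℂ) g / (χ : G → ℂ) 1) = 1 := by
  obtain ⟨d, ρ, hirr, hρ⟩ := χ.2
  haveI := hirr
  haveI : Fact (Nat.Prime 2) := ⟨Nat.prime_two⟩
  have hfin : Module.finrank ℂ (Fin d → ℂ) = d := by simp
  have hd1 : (χ : G → ℂ) 1 = (d : ℂ) := by
    rw [← hρ, Representation.char_one, hfin]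
  have hcd : charDegree (χ : G → ℂ) = d := charDegree_eq hd1
  rw [hcd] at h0
  have hn0 : Nat.card G ≠ 0 := Nat.card_pos.ne'
  have hd0 : d ≠ 0 := by
    obtain ⟨n, hn, hn1⟩ := exists_pos_nat_apply_one χ.2
    rw [hd1] at hn1
    have : d = n := by exact_mod_cast hn1
    omega
  have hχ1 : (χ : G → ℂ) 1 ≠ 0 := by
    rw [hd1]; exact_mod_cast hd0
  have hdvd : 2 ^ (Nat.card G).factorization 2 ∣ d := by
    rw [← h0]
    exact Nat.ordProj_dvd d 2
  have hvan : ∀ y : G, 2 ∣ orderOf y → (χ : G → ℂ) y = 0 := by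
    intro y hy
    rw [← hρ]
    exact Cfsg.Agent.Lib.helper3.BrauerInd.character_eq_zero_of_defect_zero ρ 2 _
      (Nat.pow_succ_factorization_not_dvd hn0 Nat.prime_two)
      (by rw [hfin]; exact hdvd) y hy
  rw [Finset.sum_eq_single (1 : G)]
  · unfold sqOne
    rw [if_pos (one_mul 1), one_mul, div_self hχ1]
  · intro g _ hg1
    unfold sqOne
    by_cases hgg : g * g = 1
    · rw [if_pos hgg, one_mul]
      have hog : orderOf g = 2 := by
        apply orderOf_eq_prime
        · rw [pow_two]; exact hgg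
        · exact hg1
      rw [hvan g (by rw [hog]), zero_div]
    · rw [if_neg hgg, zero_mul]
  · intro h
    exact absurd (Finset.mem_univ _) h

end chr

end Cfsg.Agent.Lib.Helper4.InvSum
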