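import Mathlib
import Cfsg.Agent.Lib.Helper4.InvSumC
import Cfsg.Agent.Lib.helper3.Degrees
import Cfsg.Agent.Lib.helper3.LocalM3

set_option autoImplicit false
set_option linter.style.haveILetI false
set_option linter.unusedSectionVars false

/-! Bridges for the final assembly of the Brauer–Fowler type count of characters of `2`-defect zero
(helper4). -/

namespace Cfsg.Agent.Lib.Helper4.InvSum

open Cfsg Cfsg.Agent.Lib.helper3.CharBasic Cfsg.Agent.Lib.helper3.Irr
open Cfsg.Agent.Lib.helper3.Central Cfsg.Agent.Lib.helper3.LocalM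
open Cfsg.Agent.Lib.helper3.Block
open scoped ComplexConjugate
open Classical

universe u

variable {G : Type u} [Group G] [Fintype G] {M : Ideal AlgInt}

theorem factorization_lt_of_ne (χ : IrrCharacter G)
    (h : (charDegree (χ : G → ℂ)).factorization 2 ≠ (Nat.card G).factorization 2) :
    (charDegree (χ : G → ℂ)).factorization 2 < (Nat.card G).factorization 2 := by
  obtain ⟨n, hn1, hnd, hn0⟩ := irr_degree_dvd_card χ.2
  have hcd : charDegree (χ : G → ℂ) = n := charDegree_eq hn1
  rw [hcd] at h ⊢
  have hle : n.factorization 2 ≤ (Nat.card G).factorization 2 :=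
    (Nat.factorization_le_iff_dvd hn0.ne' Nat.card_pos.ne').mpr hnd 2
  omega

theorem finsum_mem_sq_eq (f : G → ℂ) :
    ∑ᶠ t ∈ {t : G | t ^ 2 = 1}, f t = ∑ g : G, sqOne g * f g := by
  rw [finsum_mem_eq_finite_toFinset_sum _ (Set.toFinite _)]
  rw [← Finset.sum_filter_add_sum_filter_not Finset.univ (fun g : G => g * g = 1)]
  have h2 : ∑ g ∈ Finset.univ.filter (fun g : G => ¬ g * g = 1), sqOne g * f g = 0 := by
    apply Finset.sum_eq_zero
    intro g hg
    simp only [Finset.mem_filter, Finset.mem_univ, true_and] at hg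
    unfold sqOne
    rw [if_neg hg, zero_mul]
  rw [h2, add_zero]
  apply Finset.sum_congr
  · ext g
    simp only [Set.Finite.mem_toFinset, Set.mem_setOf_eq, Finset.mem_filter, Finset.mem_univ,
      true_and, pow_two]
  · intro g hg
    simp only [Finset.mem_filter, Finset.mem_univ, true_and] at hg
    unfold sqOne
    rw [if_pos hg, one_mul]

/-- part (A) in `finsum` form -/
theorem memLocalIdeal_finsum_sq_of_ne (hM : IsPModular 2 M) (χ : IrrCharacter G)
    (h : (charDegree (χ : G → ℂ)).factorization 2 ≠ (Nat.card G).factorization 2) :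
    MemLocalIdeal M (∑ᶠ t ∈ {t : G | t ^ 2 = 1}, (χ : G → ℂ) t / (χ : G → ℂ) 1) := by
  rw [finsum_mem_sq_eq]
  exact memLocalIdeal_sum_sqOne_of_defect hM χ (factorization_lt_of_ne χ h)

end Cfsg.Agent.Lib.Helper4.InvSum
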