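import Mathlib

set_option autoImplicit false
set_option linter.style.haveILetI false
set_option linter.unusedSectionVars false
set_option maxHeartbeats 1000000

/-! Group theory of a Klein four subgroup and an odd group of automorphisms (helper4,
piece E of S4637). -/

namespace Cfsg.Agent.Lib.Helper4.KE

variable {G : Type*} [Group G]

theorem klein_mul_self (P : Subgroup G) (hV : IsKleinFour P) {x : G} (hx : x ∈ P) :
    x * x = 1 := by
  haveI := hV
  have := IsKleinFour.mul_self (⟨x, hx⟩ : ↥P)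
  exact congrArg (fun z : ↥P => (z : G)) this

theorem klein_comm (P : Subgroup G) (hV : IsKleinFour P) {x y : G} (hx : x ∈ P) (hy : y ∈ P) :
    x * y = y * x := by
  haveI := hV
  have h1 := (IsKleinFour.isMulCommutative (G := ↥P)).is_comm.comm (⟨x, hx⟩ : ↥P) ⟨y, hy⟩
  exact congrArg (fun z : ↥P => (z : G)) h1

theorem klein_exists_third (P : Subgroup G) (hV : IsKleinFour P) (x : G) :
    ∃ y ∈ P, y ≠ 1 ∧ y ≠ x := by
  by_contra h
  push_neg at h
  have hsub : (P : Set G) ⊆ {1, x} := by
    intro q hq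
    by_cases hq1 : q = 1
    · exact Or.inl hq1
    · exact Or.inr (h q hq hq1)
  have h4 : Nat.card ↥P = 4 := hV.card_four
  have h1 : (P : Set G).ncard ≤ ({1, x} : Set G).ncard :=
    Set.ncard_le_ncard hsub (Set.toFinite _)
  have h2 : ({1, x} : Set G).ncard ≤ 2 := by
    calc ({1, x} : Set G).ncard ≤ ({x} : Set G).ncard + 1 := Set.ncard_insert_le _ _
      _ = 2 := by rw [Set.ncard_singleton]
  have h3 : (P : Set G).ncard = Nat.card ↥P := (Nat.card_coe_set_eq (P : Set G)).symm
  omega

theorem klein_cases (P : Subgroup G) (hV : IsKleinFour P) {x y : G} (hx : x ∈ P) (hy : y ∈ P)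
    (hx1 : x ≠ 1) (hy1 : y ≠ 1) (hxy : y ≠ x) {q : G} (hq : q ∈ P) :
    q = 1 ∨ q = x ∨ q = y ∨ q = x * y := by
  haveI := hV
  by_cases h1 : q = 1
  · exact Or.inl h1
  by_cases h2 : q = x
  · exact Or.inr (Or.inl h2)
  by_cases h3 : q = y
  · exact Or.inr (Or.inr (Or.inl h3))
  right; right; right
  have := IsKleinFour.eq_mul_of_ne_all (G := ↥P) (x := ⟨x, hx⟩) (y := ⟨y, hy⟩) (z := ⟨q, hq⟩)
    (fun h => hx1 (congrArg (fun z : ↥P => (z : G)) h))
    (fun h => hy1 (congrArg (fun z : ↥P => (z : G)) h))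
    (fun h => hxy (congrArg (fun z : ↥P => (z : G)) h).symm)
    (fun h => h1 (congrArg (fun z : ↥P => (z : G)) h))
    (fun h => h2 (congrArg (fun z : ↥P => (z : G)) h))
    (fun h => h3 (congrArg (fun z : ↥P => (z : G)) h))
  exact congrArg (fun z : ↥P => (z : G)) this

theorem mem_centralizer_of_commute (P : Subgroup G) (hV : IsKleinFour P) {x y : G} (hx : x ∈ P)
    (hy : y ∈ P) (hx1 : x ≠ 1) (hy1 : y ≠ 1) (hxy : y ≠ x) (g : G) (hgx : g * x = x * g)
    (hgy : g * y = y * g) : g ∈ Subgroup.centralizer (P : Set G) := by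
  rw [Subgroup.mem_centralizer_iff]
  intro q hq
  rcases klein_cases P hV hx hy hx1 hy1 hxy hq with rfl | rfl | rfl | rfl
  · simp
  · exact hgx.symm
  · exact hgy.symm
  · rw [mul_assoc, ← hgy, ← mul_assoc, ← hgx, mul_assoc]

/-- An element normalizing a Klein four group, of odd order modulo the centralizer, fixing a
nonidentity element, centralizes the group. -/
theorem mem_centralizer_of_fix_klein (P : Subgroup G) (hV : IsKleinFour P)
    (t : G) (ht : t ∈ Subgroup.normalizer (P : Set G)) (e : ℕ) (he : ¬ 2 ∣ e)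
    (hte : t ^ e ∈ Subgroup.centralizer (P : Set G)) (x : G) (hx : x ∈ P) (hx1 : x ≠ 1)
    (htx : t * x * t⁻¹ = x) : t ∈ Subgroup.centralizer (P : Set G) := by
  obtain ⟨y, hy, hy1, hyx⟩ := klein_exists_third P hV x
  have hty : t * y * t⁻¹ ∈ P := (Subgroup.mem_normalizer_iff.1 ht y).1 hy
  have htx' : t * x = x * t := by
    have := congrArg (fun z => z * t) htx
    simpa using this
  have hty1 : t * y * t⁻¹ ≠ 1 := by
    intro h
    apply hy1
    have := congrArg (fun z => t⁻¹ * z * t) h
    simpa [mul_assoc] using this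
  have htyx : t * y * t⁻¹ ≠ x := by
    intro h
    apply hyx
    have h2 : t * y * t⁻¹ = t * x * t⁻¹ := h.trans htx.symm
    have := congrArg (fun z => t⁻¹ * z * t) h2
    simpa [mul_assoc] using this
  rcases klein_cases P hV hx hy hx1 hy1 hyx hty with h | h | h | h
  · exact absurd h hty1
  · exact absurd h htyx
  · -- `t` commutes with `y`
    have hty' : t * y = y * t := by
      have := congrArg (fun z => z * t) h
      simpa using this
    exact mem_centralizer_of_commute P hV hx hy hx1 hy1 hyx t htx' hty'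
  · -- `t ^ 2` commutes with `x`, `y`
    have hty' : t * y = x * y * t := by
      have := congrArg (fun z => z * t) h
      simpa using this
    have hxx := klein_mul_self P hV hx
    have h2x : t ^ 2 * x = x * t ^ 2 := by
      rw [pow_two, mul_assoc, htx', ← mul_assoc, htx', mul_assoc]
    have h2y : t ^ 2 * y = y * t ^ 2 := by
      rw [pow_two, mul_assoc, hty', ← mul_assoc, ← mul_assoc, htx', mul_assoc x t y, hty',
        ← mul_assoc, ← mul_assoc, ← mul_assoc, hxx, one_mul, mul_assoc]
    have h2 : t ^ 2 ∈ Subgroup.centralizer (P : Set G) :=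
      mem_centralizer_of_commute P hV hx hy hx1 hy1 hyx (t ^ 2) h2x h2y
    obtain ⟨m, hm⟩ : ∃ m, e = 2 * m + 1 := by
      have : e % 2 = 1 := by omega
      exact ⟨e / 2, by omega⟩
    have h3 : t = t ^ e * ((t ^ 2) ^ m)⁻¹ := by
      rw [hm, pow_succ', pow_mul, mul_inv_cancel_right]
    rw [h3]
    exact Subgroup.mul_mem _ hte (Subgroup.inv_mem _ (Subgroup.pow_mem _ h2 m))

end Cfsg.Agent.Lib.Helper4.KE
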