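import Mathlib
import Cfsg.Agent.Lib.Helper4.KE1

set_option autoImplicit false
set_option linter.style.haveILetI false
set_option linter.unusedSectionVars false
set_option maxHeartbeats 1000000

/-! Orbit counting for an odd group of automorphisms of a Klein four group (helper4, piece E of
S4637). -/

namespace Cfsg.Agent.Lib.Helper4.KE

variable {G : Type*} [Group G]

/-- the conjugation action of a subgroup on the group -/
@[reducible] def conjAct (T : Subgroup G) : MulAction ↥T G where
  smul t x := (t : G) * x * (t : G)⁻¹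
  one_smul x := by
    show ((1 : ↥T) : G) * x * ((1 : ↥T) : G)⁻¹ = x
    simp
  mul_smul s t x := by
    show ((s * t : ↥T) : G) * x * ((s * t : ↥T) : G)⁻¹
      = (s : G) * ((t : G) * x * (t : G)⁻¹) * (s : G)⁻¹
    simp [mul_assoc]

theorem klein_orbit [Finite G] (P : Subgroup G) (hV : IsKleinFour P) (T : Subgroup G)
    (hCT : Subgroup.centralizer (P : Set G) ≤ T) (hTN : T ≤ Subgroup.normalizer (P : Set G))
    (hfree : ∀ t ∈ T, ∀ x ∈ P, x ≠ 1 → t * x * t⁻¹ = x → t ∈ Subgroup.centralizer (P : Set G))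
    (hodd : ¬ 2 ∣ (Subgroup.centralizer (P : Set G)).relIndex T) :
    ((Subgroup.centralizer (P : Set G)).relIndex T = 1 ∨
      (Subgroup.centralizer (P : Set G)).relIndex T = 3) ∧
    ((Subgroup.centralizer (P : Set G)).relIndex T = 1 → T ≤ Subgroup.centralizer (P : Set G)) ∧
    ((Subgroup.centralizer (P : Set G)).relIndex T = 3 →
      ∀ x ∈ P, x ≠ 1 → ∀ y ∈ P, y ≠ 1 → ∃ t ∈ T, t * x * t⁻¹ = y) := by
  letI := conjAct T
  have hsmul : ∀ (t : ↥T) (x : G), t • x = (t : G) * x * (t : G)⁻¹ := fun _ _ => rfl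
  -- the set of nonidentity elements
  have hX : ((P : Set G) \ {1}).ncard = 3 := by
    rw [Set.ncard_diff_singleton_of_mem (show (1 : G) ∈ (P : Set G) from P.one_mem)]
    have h3 : (P : Set G).ncard = Nat.card ↥P := (Nat.card_coe_set_eq (P : Set G)).symm
    rw [h3, hV.card_four]
  -- stabilizers
  have hstab : ∀ x ∈ P, x ≠ 1 → MulAction.stabilizer ↥T x =
      (Subgroup.centralizer (P : Set G)).subgroupOf T := by
    intro x hx hx1
    ext t
    rw [MulAction.mem_stabilizer_iff, Subgroup.mem_subgroupOf, hsmul]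
    constructor
    · intro h
      exact hfree t t.2 x hx hx1 h
    · intro h
      rw [Subgroup.mem_centralizer_iff] at h
      rw [← h x hx]
      simp
  have horb : ∀ x ∈ P, x ≠ 1 → MulAction.orbit ↥T x ⊆ (P : Set G) \ {1} := by
    intro x hx hx1 q hq
    obtain ⟨t, rfl⟩ := hq
    show t • x ∈ (P : Set G) \ {1}
    rw [hsmul]
    refine ⟨(Subgroup.mem_normalizer_iff.1 (hTN t.2) x).1 hx, ?_⟩
    intro h
    apply hx1
    have h' : (t : G) * x * (t : G)⁻¹ = 1 := h
    have := congrArg (fun z => (t : G)⁻¹ * z * (t : G)) h'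
    simpa [mul_assoc] using this
  have hcard : ∀ x ∈ P, x ≠ 1 →
      (MulAction.orbit ↥T x).ncard = (Subgroup.centralizer (P : Set G)).relIndex T := by
    intro x hx hx1
    rw [← MulAction.index_stabilizer, hstab x hx hx1]
    rfl
  obtain ⟨x₀, hx₀, hx₀1, -⟩ := klein_exists_third P hV 1
  have hle : (Subgroup.centralizer (P : Set G)).relIndex T ≤ 3 := by
    rw [← hcard x₀ hx₀ hx₀1, ← hX]
    exact Set.ncard_le_ncard (horb x₀ hx₀ hx₀1) (Set.toFinite _)
  have hcases : (Subgroup.centralizer (P : Set G)).relIndex T = 1 ∨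
      (Subgroup.centralizer (P : Set G)).relIndex T = 3 := by
    omega
  refine ⟨hcases, ?_, ?_⟩
  · intro h1
    exact Subgroup.relIndex_eq_one.1 h1
  · intro h3 x hx hx1 y hy hy1
    have heq : MulAction.orbit ↥T x = (P : Set G) \ {1} := by
      apply Set.eq_of_subset_of_ncard_le (horb x hx hx1) _ (Set.toFinite _)
      rw [hX, hcard x hx hx1, h3]
    have hy' : y ∈ MulAction.orbit ↥T x := by
      rw [heq]
      exact ⟨hy, hy1⟩
    obtain ⟨t, ht⟩ := hy'
    exact ⟨t, t.2, ht⟩

end Cfsg.Agent.Lib.Helper4.KE
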