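import Mathlib
import Cfsg.Agent.Lib.Helper4.KE2
import Cfsg.Agent.Lib.helper3.SP36
import Cfsg.Agent.S4437

set_option autoImplicit false
set_option linter.style.haveILetI false
set_option linter.unusedSectionVars false
set_option maxHeartbeats 1000000

/-! Piece E of S4637: the inertial index of a block with Klein four defect group is `1` or `3`,
and the inertial group acts freely (and transitively if `e = 3`) on the involutions (helper4). -/

namespace Cfsg.Agent.Lib.Helper4.KE

open Cfsg Cfsg.Agent.Lib.helper3.Block Cfsg.Agent.Lib.helper3.LocalM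

variable {G : Type*} [Group G] [Fintype G] {M : Ideal AlgInt}

theorem pieceE (hM : IsPModular 2 M) (B : Set (IrrCharacter G)) (hB : IsPBlock M B)
    (P : Subgroup G) (hPD : IsDefectGroup 2 M B P) (hV : IsKleinFour P)
    (c : Set (IrrCharacter (Subgroup.centralizer (P : Set G))))
    (hc : IsInducedBlock M (Subgroup.centralizer (P : Set G)) c B) (T : Subgroup G)
    (hT : ∀ g : G, g ∈ T ↔ (g ∈ Subgroup.normalizer (P : Set G) ∧
      StabilizesBlock (Subgroup.centralizer (P : Set G)) c g)) (e : ℕ)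
    (he : (Subgroup.centralizer (P : Set G)).relIndex T = e) :
    (e = 1 ∨ e = 3) ∧
    (∀ t ∈ T, ∀ x ∈ P, x ≠ 1 → t * x * t⁻¹ = x → t ∈ Subgroup.centralizer (P : Set G)) ∧
    (e = 1 → T ≤ Subgroup.centralizer (P : Set G)) ∧
    (e = 3 → ∀ x ∈ P, x ≠ 1 → ∀ y ∈ P, y ≠ 1 → ∃ t ∈ T, t * x * t⁻¹ = y) := by
  classical
  haveI : Fintype ↥(Subgroup.centralizer (P : Set G)) := Fintype.ofFinite _
  haveI hMp := isPrime_of_isPModular hM
  haveI hp : Fact (Nat.Prime 2) := ⟨Nat.prime_two⟩
  have hP : IsPGroup 2 P := isPGroup_of_isDefectGroup hPD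
  have hPC : P ≤ Subgroup.centralizer (P : Set G) := by
    intro x hx
    rw [Subgroup.mem_centralizer_iff]
    intro y hy
    exact klein_comm P hV hy hx
  have hCN : Subgroup.centralizer (P : Set G) ≤ Subgroup.normalizer (P : Set G) :=
    Subgroup.centralizer_le_normalizer _
  have hcP := isDefectGroup_of_induced_le_normalizer hM P (Subgroup.centralizer (P : Set G)) hP hPC
    hCN B hB hPD c hc
  have hH : Subgroup.centralizer (P : Set G) = P ⊔ Subgroup.centralizer (P : Set G) :=
    (sup_eq_right.mpr hPC).symm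
  have hT' : ∀ g : G, g ∈ T ↔ (g ∈ Subgroup.normalizer (P : Set G) ∧ ∀ θ ∈ c,
      ∀ θ' : Cfsg.IrrCharacter (Subgroup.centralizer (P : Set G)),
      (∀ h h' : (Subgroup.centralizer (P : Set G)), (h' : G) = g * h * g⁻¹ →
        (θ' : (Subgroup.centralizer (P : Set G)) → ℂ) h'
          = (θ : (Subgroup.centralizer (P : Set G)) → ℂ) h) → θ' ∈ c) := by
    intro g
    rw [hT g]
    constructor
    · rintro ⟨h1, h2⟩
      exact ⟨h1, (stabilizesBlock_iff_forall _ c g h2.1).mp h2⟩
    · rintro ⟨h1, h2⟩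
      exact ⟨h1, (stabilizesBlock_iff_forall _ c g
        (normalizer_le_normalizer_centralizer P h1)).mpr h2⟩
  have hndvd := (Cfsg.Agent.S4437.result 2 M hM P hP (Subgroup.centralizer (P : Set G)) hH c hc.1
    hcP B hc T hT').mp hPD
  have hCT : Subgroup.centralizer (P : Set G) ≤ T := fun x hx =>
    (hT x).mpr ⟨hCN hx, stabilizesBlock_of_mem_self _ c x hx⟩
  have hTN : T ≤ Subgroup.normalizer (P : Set G) := fun g hg => ((hT g).mp hg).1
  haveI hn : ((Subgroup.centralizer (P : Set G)).subgroupOf T).Normal :=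
    (Subgroup.normal_subgroupOf_iff_le_normalizer hCT).2
      (hTN.trans (normalizer_le_normalizer_centralizer P))
  have hpow : ∀ g ∈ T, g ^ ((Subgroup.centralizer (P : Set G)).relIndex T)
      ∈ Subgroup.centralizer (P : Set G) := by
    intro g hg
    have := Subgroup.pow_index_mem ((Subgroup.centralizer (P : Set G)).subgroupOf T) (⟨g, hg⟩ : ↥T)
    rw [Subgroup.mem_subgroupOf] at this
    show g ^ ((Subgroup.centralizer (P : Set G)).subgroupOf T).index ∈ _
    simpa using this
  have hfree : ∀ t ∈ T, ∀ x ∈ P, x ≠ 1 → t * x * t⁻¹ = x →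
      t ∈ Subgroup.centralizer (P : Set G) :=
    fun t ht x hx hx1 htx => mem_centralizer_of_fix_klein P hV t (hTN ht) _ hndvd (hpow t ht)
      x hx hx1 htx
  obtain ⟨h1, h2, h3⟩ := klein_orbit P hV T hCT hTN hfree hndvd
  rw [he] at h1 h2 h3
  exact ⟨h1, hfree, h2, h3⟩

end Cfsg.Agent.Lib.Helper4.KE
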