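import Cfsg.Agent.Lib.Helper4.StabDescent
import Cfsg.Agent.S0695

set_option autoImplicit false

namespace Cfsg.Agent.Lib.Helper4.KPrimNormal

open MulAction SubMulAction Cfsg.Agent.Lib.Helper4.StabDescent
open scoped Pointwise

universe u v

theorem card_ofStabilizer {G : Type u} {X : Type v} [Group G] [Fintype X] [MulAction G X] (a : X)
    [Fintype (ofStabilizer G a)] : Fintype.card (ofStabilizer G a) = Fintype.card X - 1 := by
  have := nat_card_ofStabilizer_eq G a
  rwa [Nat.card_eq_fintype_card, Nat.card_eq_fintype_card] at this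

theorem three_embedding {X : Type v} (a b c : X) (hab : a ≠ b) (hac : a ≠ c) (hbc : b ≠ c) :
    ∃ x : Fin 3 ↪ X, x 0 = a ∧ x 1 = b ∧ x 2 = c := by
  refine ⟨⟨![a, b, c], ?_⟩, rfl, rfl, rfl⟩
  intro i j hij
  fin_cases i <;> fin_cases j <;> simp at hij <;>
    first | rfl | (exact absurd hij ‹_›) | (exact absurd hij.symm ‹_›)

/-- the regular case is impossible for triply primitive groups other than the symmetric group -/
theorem caseB {G : Type u} {X : Type v} [Group G] [Fintype X] [MulAction G X]
    [FaithfulSMul G X] (hX : 3 ≤ Fintype.card X) (hG : IsMultiplyPreprimitive G X 3)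
    (hne : Nat.card G ≠ (Fintype.card X).factorial)
    (H : Subgroup G) [H.Normal] (h : G) (hhH : h ∈ H) (hh1 : h ≠ 1) (a : X) (hha : h • a = a)
    (hB : ∀ h' ∈ H, ∀ a b : X, a ≠ b → h' • a = a → h' • b = b → h' = 1) : False := by
  classical
  have hcard : ((3 : ℕ) : ℕ∞) ≤ ENat.card X := by
    rw [ENat.card_eq_coe_fintype_card]; exact_mod_cast hX
  have h3t : IsMultiplyPretransitive G X 3 := hG.isMultiplyPretransitive
  have h1 : IsMultiplyPreprimitive G X 1 := isMultiplyPreprimitive_of_le G X hG (by norm_num) hcard
  have hprim : IsPreprimitive G X := (is_one_preprimitive_iff G X).mp h1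
  have h2a : IsMultiplyPreprimitive (stabilizer G a) (ofStabilizer G a) 2 :=
    isMultiplyPreprimitive_ofStabilizer G X
  let _ : Fintype (ofStabilizer G a) := Fintype.ofFinite _
  have hca : Fintype.card (ofStabilizer G a) = Fintype.card X - 1 := card_ofStabilizer a
  have hcard_a : ((2 : ℕ) : ℕ∞) ≤ ENat.card (ofStabilizer G a) := by
    rw [ENat.card_eq_coe_fintype_card, hca]
    have : 2 ≤ Fintype.card X - 1 := by omega
    exact_mod_cast this
  have h1a : IsMultiplyPreprimitive (stabilizer G a) (ofStabilizer G a) 1 :=
    isMultiplyPreprimitive_of_le _ _ h2a (by norm_num) hcard_a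
  have hprim_a : IsPreprimitive (stabilizer G a) (ofStabilizer G a) :=
    (is_one_preprimitive_iff _ _).mp h1a
  have hfa : FaithfulSMul (stabilizer G a) (ofStabilizer G a) := faithful_ofStabilizer a
  have hnorm : (H.subgroupOf (stabilizer G a)).Normal := Subgroup.Normal.subgroupOf inferInstance _
  have htr_a : IsPretransitive (H.subgroupOf (stabilizer G a)) (ofStabilizer G a) := by
    apply isPretransitive_of_normal_of_faithful
    refine ⟨⟨h, hha⟩, ?_, ?_⟩
    · rw [Subgroup.mem_subgroupOf]; exact hhH
    · intro h'
      exact hh1 (congrArg Subtype.val h')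
  have hreg : ∀ x : ofStabilizer G a, stabilizer (H.subgroupOf (stabilizer G a)) x = ⊥ := by
    intro x
    rw [eq_bot_iff]
    intro g hg
    rw [Subgroup.mem_bot]
    rw [mem_stabilizer_iff] at hg
    have hgH : (g : stabilizer G a).1 ∈ H := g.2
    have hga : (g : stabilizer G a).1 • a = a := (g : stabilizer G a).2
    have hgx : (g : stabilizer G a).1 • (x : X) = x := congrArg Subtype.val hg
    have := hB _ hgH a x (fun e => x.2 e.symm) hga hgx
    apply Subtype.ext
    apply Subtype.ext
    exact this
  have key := Cfsg.Agent.S0695.result (G := stabilizer G a) (X := ofStabilizer G a)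
    (by rw [hca]; omega) h2a (H.subgroupOf (stabilizer G a)) htr_a hreg
  have hn34 : ¬ Fintype.card X ≤ 4 := fun h4 => hne (card_eq_factorial_of_three h3t hX h4)
  rcases key with key | ⟨-, hsq, -⟩
  · rw [hca] at key; omega
  · -- `h` is an involution
    have hsq' : h ^ 2 = 1 := by
      have := hsq ⟨h, hha⟩ (by rw [Subgroup.mem_subgroupOf]; exact hhH)
      exact congrArg Subtype.val this
    obtain ⟨b, hb⟩ : ∃ b : X, h • b ≠ b := by
      by_contra hcon
      push Not at hcon
      apply hh1
      apply FaithfulSMul.eq_of_smul_eq_smul (α := X)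
      intro x
      rw [hcon x, one_smul]
    set c := h • b with hc
    have hba : b ≠ a := by
      rintro rfl
      exact hb hha
    have hca' : c ≠ a := by
      intro e
      apply hba
      have : h • b = h • a := by rw [← hc, e, hha]
      exact MulAction.injective h this
    have hcb : h • c = b := by
      rw [hc, ← mul_smul, ← pow_two, hsq', one_smul]
    -- a fourth point
    obtain ⟨d, hd⟩ : ∃ d : X, d ∉ ({a, b, c} : Finset X) := by
      by_contra hcon
      push Not at hcon
      apply hn34
      have : (Finset.univ : Finset X) ⊆ {a, b, c} := fun x _ => hcon x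
      have := Finset.card_le_card this
      rw [Finset.card_univ] at this
      have h3 : ({a, b, c} : Finset X).card ≤ 3 := Finset.card_le_three
      omega
    simp only [Finset.mem_insert, Finset.mem_singleton, not_or] at hd
    obtain ⟨hda, hdb, hdc⟩ := hd
    -- the element `g` with `a ↦ d`, `b ↦ b`, `c ↦ c`
    obtain ⟨x, hx0, hx1, hx2⟩ := three_embedding a b c (Ne.symm hba) (Ne.symm hca') (Ne.symm hb)
    obtain ⟨y, hy0, hy1, hy2⟩ := three_embedding d b c hdb hdc (Ne.symm hb)
    obtain ⟨g, hg⟩ := h3t.exists_smul_eq x y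
    have hg0 : g • a = d := by
      have := congrArg (fun e : Fin 3 ↪ X => e 0) hg
      simpa [hx0, hy0] using this
    have hg1 : g • b = b := by
      have := congrArg (fun e : Fin 3 ↪ X => e 1) hg
      simpa [hx1, hy1] using this
    have hg2 : g • c = c := by
      have := congrArg (fun e : Fin 3 ↪ X => e 2) hg
      simpa [hx2, hy2] using this
    set t := g * h * g⁻¹ with ht
    have htH : t ∈ H := Subgroup.Normal.conj_mem inferInstance h hhH g
    have htd : t • d = d := by
      rw [ht, mul_smul, mul_smul, ← hg0, inv_smul_smul, hha]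
    have htb : t • b = c := by
      rw [ht, mul_smul, mul_smul]
      have : g⁻¹ • b = b := by rw [inv_smul_eq_iff, hg1]
      rw [this, ← hc, hg2]
    have htc : t • c = b := by
      rw [ht, mul_smul, mul_smul]
      have : g⁻¹ • c = c := by rw [inv_smul_eq_iff, hg2]
      rw [this, hcb, hg1]
    have hth : t⁻¹ * h = 1 := by
      apply hB _ (H.mul_mem (H.inv_mem htH) hhH) b c (Ne.symm hb)
      · rw [mul_smul, ← hc, inv_smul_eq_iff, htb]
      · rw [mul_smul, hcb, inv_smul_eq_iff, htc]
    have hth' : h = t := by
      rw [inv_mul_eq_one] at hth; exact hth.symm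
    apply hh1
    apply hB h hhH a d (Ne.symm hda) hha
    rw [hth']; exact htd

/-- the two-primitive case -/
theorem two_case {G : Type u} {X : Type v} [Group G] [Fintype X] [MulAction G X]
    [FaithfulSMul G X] (hX : 2 ≤ Fintype.card X) (hG : IsMultiplyPreprimitive G X 2)
    (H : Subgroup G) [H.Normal] (hH : ∃ h ∈ H, h ≠ 1 ∧ ∃ a : X, h • a = a) :
    IsMultiplyPretransitive H X 2 := by
  have hcard : ((2 : ℕ) : ℕ∞) ≤ ENat.card X := by
    rw [ENat.card_eq_coe_fintype_card]; exact_mod_cast hX
  have h1 : IsMultiplyPreprimitive G X 1 := isMultiplyPreprimitive_of_le G X hG (by norm_num) hcard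
  have hprim : IsPreprimitive G X := (is_one_preprimitive_iff G X).mp h1
  obtain ⟨h, hhH, hh1, a, hha⟩ := hH
  have htr : IsPretransitive H X := isPretransitive_of_normal_of_faithful H ⟨h, hhH, hh1⟩
  have hprim_a : IsPreprimitive (stabilizer G a) (ofStabilizer G a) := by
    rw [← is_one_preprimitive_iff]
    exact isMultiplyPreprimitive_ofStabilizer G X
  have hfa : FaithfulSMul (stabilizer G a) (ofStabilizer G a) := faithful_ofStabilizer a
  have hnorm : (H.subgroupOf (stabilizer G a)).Normal := Subgroup.Normal.subgroupOf inferInstance _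
  have htr_a : IsPretransitive (H.subgroupOf (stabilizer G a)) (ofStabilizer G a) := by
    apply isPretransitive_of_normal_of_faithful
    refine ⟨⟨h, hha⟩, ?_, ?_⟩
    · rw [Subgroup.mem_subgroupOf]; exact hhH
    · intro h'
      exact hh1 (congrArg Subtype.val h')
  apply isMultiplyPretransitive_succ_of_subgroupOf H a
  rw [is_one_pretransitive_iff]
  exact htr_a


/-- the general theorem, for abstract faithful actions, by induction on the degree of primitivity -/
theorem main (k : ℕ) : ∀ {G : Type u} {X : Type v} [Group G] [Fintype X] [MulAction G X]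
    [FaithfulSMul G X], k + 2 ≤ Fintype.card X → IsMultiplyPreprimitive G X (k + 2) →
    Nat.card G ≠ (Fintype.card X).factorial → ∀ (H : Subgroup G) [H.Normal],
    (∃ h ∈ H, h ≠ 1 ∧ ∃ a : X, h • a = a) → IsMultiplyPretransitive H X (k + 2) := by
  induction k with
  | zero =>
    intro G X _ _ _ _ hX hG _ H _ hH
    exact two_case hX hG H hH
  | succ k ih =>
    intro G X _ _ _ _ hX hG hne H _ hH
    classical
    obtain ⟨h, hhH, hh1, a, hha⟩ := hH
    have hcard : ((k + 1 + 2 : ℕ) : ℕ∞) ≤ ENat.card X := by
      rw [ENat.card_eq_coe_fintype_card]; exact_mod_cast hX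
    have h1 : IsMultiplyPreprimitive G X 1 :=
      isMultiplyPreprimitive_of_le G X hG (by omega) hcard
    have h3 : IsMultiplyPreprimitive G X 3 :=
      isMultiplyPreprimitive_of_le G X hG (by omega) hcard
    have hprim : IsPreprimitive G X := (is_one_preprimitive_iff G X).mp h1
    have htr : IsPretransitive H X := isPretransitive_of_normal_of_faithful H ⟨h, hhH, hh1⟩
    have hfin : Finite G := finite_of_faithful (X := X)
    by_cases hA : ∃ h' ∈ H, h' ≠ 1 ∧ ∃ a b : X, a ≠ b ∧ h' • a = a ∧ h' • b = b
    · obtain ⟨h', hh'H, hh'1, a', b', hab', ha', hb'⟩ := hA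
      let _ : Fintype (ofStabilizer G a') := Fintype.ofFinite _
      have hca : Fintype.card (ofStabilizer G a') = Fintype.card X - 1 := card_ofStabilizer a'
      have hfa : FaithfulSMul (stabilizer G a') (ofStabilizer G a') := faithful_ofStabilizer a'
      have hnorm : (H.subgroupOf (stabilizer G a')).Normal :=
        Subgroup.Normal.subgroupOf inferInstance _
      have hpa : IsMultiplyPreprimitive (stabilizer G a') (ofStabilizer G a') (k + 2) :=
        isMultiplyPreprimitive_ofStabilizer G X
      have hnea : Nat.card (stabilizer G a') ≠ (Fintype.card (ofStabilizer G a')).factorial := by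
        intro e
        apply hne
        rw [card_eq_card_mul_card_stabilizer a', e, hca]
        exact Nat.mul_factorial_pred (by omega)
      have := ih (G := stabilizer G a') (X := ofStabilizer G a') (by rw [hca]; omega) hpa hnea
        (H.subgroupOf (stabilizer G a'))
        ⟨⟨h', ha'⟩, by rw [Subgroup.mem_subgroupOf]; exact hh'H,
          fun e => hh'1 (congrArg Subtype.val e), ⟨b', fun e => hab' e.symm⟩, Subtype.ext hb'⟩
      exact isMultiplyPretransitive_succ_of_subgroupOf H a' this
    · exfalso
      apply caseB (by omega) h3 hne H h hhH hh1 a hha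
      intro h' hh' a b hab ha hb
      by_contra hne1
      exact hA ⟨h', hh', hne1, a, b, hab, ha, hb⟩

end Cfsg.Agent.Lib.Helper4.KPrimNormal
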