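import Mathlib
import Cfsg.Agent.Lib.Helper4.KegelB
import Cfsg.Agent.S0044
import Cfsg.Agent.H1.SylowMore

/-! Kegel's reduction, part C: a product of two nilpotent subgroups, not both the whole group, has
a proper normal subgroup containing one of the factors (helper4; argument due to lead). -/

set_option autoImplicit false
open scoped Pointwise

namespace Cfsg.Agent.Lib.Helper4.KW

universe u

lemma sup_eq_top_of_fac {G : Type*} [Group G] {A B : Subgroup G}
    (hfac : ∀ g : G, ∃ a ∈ A, ∃ b ∈ B, g = a * b) : A ⊔ B = ⊤ := by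
  rw [eq_top_iff]
  intro g _
  obtain ⟨a, ha, b, hb, e⟩ := hfac g
  rw [e]
  exact mul_mem (Subgroup.mem_sup_left ha) (Subgroup.mem_sup_right hb)

/-- a nontrivial finite solvable group has a nontrivial abelian normal `p`-subgroup -/
lemma exists_abelian_normal_pSubgroup {G : Type*} [Group G] [Finite G] [Group.IsSolvable G]
    [Nontrivial G] : ∃ (p : ℕ) (N : Subgroup G), p.Prime ∧ N.Normal ∧ N ≠ ⊥ ∧ IsPGroup p N ∧
      ∀ x ∈ N, ∀ y ∈ N, x * y = y * x := by
  have hF : Cfsg.fittingSubgroup G ≠ ⊥ := by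
    intro h
    have h1 := Cfsg.Agent.S0044.result (G := G)
    rw [h] at h1
    have h2 : (⊤ : Subgroup G) ≤ ⊥ := by
      refine le_trans ?_ h1
      intro x _
      rw [Subgroup.mem_centralizer_iff]
      intro n hn
      rw [SetLike.mem_coe, Subgroup.mem_bot] at hn
      rw [hn]; simp
    exact top_ne_bot (le_bot_iff.1 h2)
  have hex : ∃ p : Nat.Primes, Cfsg.pCore (p : ℕ) G ≠ ⊥ := by
    by_contra hcon
    push_neg at hcon
    apply hF
    rw [Cfsg.Agent.H1.fittingSubgroup_eq_iSup_pCore]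
    simp [hcon]
  obtain ⟨⟨p, hp⟩, hO⟩ := hex
  have : Fact p.Prime := ⟨hp⟩
  have hOp : IsPGroup p (Cfsg.pCore p G) := Cfsg.Agent.H1.pCore_isPGroup p
  have hOn : (Cfsg.pCore p G).Normal := inferInstance
  refine ⟨p, Cfsg.pCore p G ⊓ Subgroup.centralizer (Cfsg.pCore p G : Set G), hp, inferInstance, ?_,
    hOp.to_le inf_le_left, ?_⟩
  · have : Nontrivial (Cfsg.pCore p G) := (Subgroup.nontrivial_iff_ne_bot _).2 hO
    have : Nontrivial (Subgroup.center (Cfsg.pCore p G)) := hOp.center_nontrivial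
    obtain ⟨⟨⟨z, hzO⟩, hz⟩, hz1⟩ := exists_ne (1 : Subgroup.center (Cfsg.pCore p G))
    intro h
    apply hz1
    have hzmem : z ∈ Cfsg.pCore p G ⊓ Subgroup.centralizer (Cfsg.pCore p G : Set G) := by
      refine ⟨hzO, ?_⟩
      show z ∈ Subgroup.centralizer (Cfsg.pCore p G : Set G)
      rw [Subgroup.mem_centralizer_iff]
      intro y hy
      have := Subgroup.mem_center_iff.1 hz ⟨y, hy⟩
      exact congrArg Subtype.val this
    rw [h, Subgroup.mem_bot] at hzmem
    apply Subtype.ext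
    apply Subtype.ext
    simpa using hzmem
  · rintro x ⟨hx, _⟩ y ⟨_, hy⟩
    exact (Subgroup.mem_centralizer_iff.1 hy x hx)

/-- if `X ⊔ N = ⊤` with `N` abelian normal then `X ⊓ N` is normal -/
lemma inf_normal_of_sup_eq_top {G : Type*} [Group G] {X N : Subgroup G} (hNn : N.Normal)
    (hNab : ∀ x ∈ N, ∀ y ∈ N, x * y = y * x) (hXN : X ⊔ N = ⊤) : (X ⊓ N).Normal := by
  rw [← Subgroup.normalizer_eq_top_iff, eq_top_iff, ← hXN]
  apply sup_le
  · intro x hx
    rw [Subgroup.mem_normalizer_iff]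
    intro y
    constructor
    · rintro ⟨h1, h2⟩
      exact ⟨X.mul_mem (X.mul_mem hx h1) (X.inv_mem hx), hNn.conj_mem y h2 x⟩
    · rintro ⟨h1, h2⟩
      have e : y = x⁻¹ * (x * y * x⁻¹) * x⁻¹⁻¹ := by group
      rw [e]
      exact ⟨X.mul_mem (X.mul_mem (X.inv_mem hx) h1) (X.inv_mem (X.inv_mem hx)),
        hNn.conj_mem _ h2 x⁻¹⟩
  · intro x hx
    rw [Subgroup.mem_normalizer_iff]
    intro y
    constructor
    · rintro ⟨h1, h2⟩
      have e : x * y * x⁻¹ = y := by
        rw [hNab x hx y h2]; group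
      rw [e]; exact ⟨h1, h2⟩
    · rintro ⟨h1, h2⟩
      have hyN : y ∈ N := by
        have e : y = x⁻¹ * (x * y * x⁻¹) * x⁻¹⁻¹ := by group
        rw [e]
        exact hNn.conj_mem _ h2 x⁻¹
      have e : x * y * x⁻¹ = y := by
        rw [hNab x hx y hyN]; group
      rw [e] at h1
      exact ⟨h1, hyN⟩

/-- a complement to a normal `p`-subgroup: its `q`-part (`q ≠ p`) is a Sylow `q`-subgroup -/
lemma card_sPart_of_complement {G : Type*} [Group G] [Finite G] {p q : ℕ} [Fact p.Prime]
    [Fact q.Prime] (hqp : q ≠ p) {X N : Subgroup G} (hX : Group.IsNilpotent X)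
    (hNp : IsPGroup p N) (hcard : Nat.card X * Nat.card N = Nat.card G) :
    Nat.card (sPart q X) = q ^ (Nat.card G).factorization q := by
  rw [card_sPart hX q, ← hcard]
  obtain ⟨k, hk⟩ := hNp.exists_card_eq
  rw [Nat.factorization_mul Nat.card_pos.ne' Nat.card_pos.ne', hk,
    Nat.Prime.factorization_pow (Fact.out : p.Prime)]
  simp [Finsupp.single_apply, hqp.symm]

/-- the two `q`-parts coincide -/
lemma sPart_eq_of_complements {G : Type*} [Group G] [Finite G] {p q : ℕ} [Fact p.Prime]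
    [Fact q.Prime] (hqp : q ≠ p) {A B N : Subgroup G} (hA : Group.IsNilpotent A)
    (hB : Group.IsNilpotent B) (hfac : ∀ g : G, ∃ a ∈ A, ∃ b ∈ B, g = a * b)
    (hNp : IsPGroup p N) (hcA : Nat.card A * Nat.card N = Nat.card G)
    (hcB : Nat.card B * Nat.card N = Nat.card G) : sPart q A = sPart q B := by
  let SA : Sylow q G := Sylow.ofCard (sPart q A) (card_sPart_of_complement hqp hA hNp hcA)
  let SB : Sylow q G := Sylow.ofCard (sPart q B) (card_sPart_of_complement hqp hB hNp hcB)
  obtain ⟨k, hk⟩ := MulAction.exists_smul_eq G SB SA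
  have hk' : MulAut.conj k • sPart q B = sPart q A := by
    have := congrArg (fun S : Sylow q G => (S : Subgroup G)) hk
    simpa [SA, SB, Sylow.coe_subgroup_smul] using this
  obtain ⟨a, ha, b, hb, e⟩ := hfac k
  have hbn : MulAut.conj b • sPart q B = sPart q B :=
    mem_normalizer_iff_conj.1 (le_normalizer_sPart q B hb)
  have han : MulAut.conj a⁻¹ • sPart q A = sPart q A :=
    mem_normalizer_iff_conj.1 (le_normalizer_sPart q A (A.inv_mem ha))
  rw [e, ← conj_conj, hbn] at hk'
  rw [← han, ← hk', conj_inv_conj]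

theorem kegel_normal_aux (hW : CoprimeThm.{u}) : ∀ (n : ℕ) (G : Type u) [Group G] [Finite G]
    (A B : Subgroup G), Nat.card G = n → Group.IsNilpotent A → Group.IsNilpotent B →
    (∀ g : G, ∃ a ∈ A, ∃ b ∈ B, g = a * b) → (A ≠ ⊤ ∨ B ≠ ⊤) →
    ∃ N : Subgroup G, N.Normal ∧ N ≠ ⊤ ∧ (A ≤ N ∨ B ≤ N) := by
  intro n
  induction n using Nat.strong_induction_on with
  | _ n ih =>
  intro G _ _ A B hn hA hB hfac hne
  have hsol : Group.IsSolvable G := kegel hW G A B hA hB hfac
  have hAB : A ⊔ B = ⊤ := sup_eq_top_of_fac hfac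
  by_cases hnil : Group.IsNilpotent G
  · -- nilpotent case: a maximal subgroup containing the proper factor is normal
    have hcoat : ∀ M : Subgroup G, IsCoatom M → M.Normal :=
      ((Group.isNilpotent_of_finite_tfae (G := G)).out 0 2).1 hnil
    rcases hne with h | h
    · rcases eq_top_or_exists_le_coatom A with h' | ⟨M, hM, hAM⟩
      · exact absurd h' h
      · exact ⟨M, hcoat M hM, hM.1, Or.inl hAM⟩
    · rcases eq_top_or_exists_le_coatom B with h' | ⟨M, hM, hBM⟩
      · exact absurd h' h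
      · exact ⟨M, hcoat M hM, hM.1, Or.inr hBM⟩
  -- non-nilpotent case
  have hAtop : A ≠ ⊤ := by
    intro h
    apply hnil
    have : Group.IsNilpotent (⊤ : Subgroup G) := h ▸ hA
    exact Group.isNilpotent_top.1 this
  have hBtop : B ≠ ⊤ := by
    intro h
    apply hnil
    have : Group.IsNilpotent (⊤ : Subgroup G) := h ▸ hB
    exact Group.isNilpotent_top.1 this
  have hnt : Nontrivial G := by
    by_contra hn'
    rw [not_nontrivial_iff_subsingleton] at hn'
    exact hnil inferInstance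
  -- key claim
  have hkey : ∃ N : Subgroup G, N.Normal ∧ N ≠ ⊥ ∧ (A ⊔ N ≠ ⊤ ∨ B ⊔ N ≠ ⊤) := by
    by_contra hcon
    push_neg at hcon
    obtain ⟨p, N, hp, hNn, hNb, hNp, hNab⟩ := exists_abelian_normal_pSubgroup (G := G)
    have : Fact p.Prime := ⟨hp⟩
    obtain ⟨hAN, hBN⟩ := hcon N hNn hNb
    -- `X ⊓ N = ⊥` for `X = A, B`
    have hAmeet : A ⊓ N = ⊥ := by
      by_contra hXb
      have h1 := (hcon (A ⊓ N) (inf_normal_of_sup_eq_top hNn hNab hAN) hXb).1
      rw [sup_inf_self] at h1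
      exact hAtop h1
    have hBmeet : B ⊓ N = ⊥ := by
      by_contra hXb
      have h1 := (hcon (B ⊓ N) (inf_normal_of_sup_eq_top hNn hNab hBN) hXb).2
      rw [sup_inf_self] at h1
      exact hBtop h1
    have hcompl : ∀ X : Subgroup G, X ⊓ N = ⊥ → X ⊔ N = ⊤ →
        Nat.card X * Nat.card N = Nat.card G := by
      intro X h1 h2
      have hc : Subgroup.IsComplement' X N := by
        apply Subgroup.isComplement'_of_disjoint_and_mul_eq_univ (disjoint_iff.2 h1)
        rw [← Subgroup.mul_normal, h2, Subgroup.coe_top]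
      exact hc.card_mul
    have hcA := hcompl A hAmeet hAN
    have hcB := hcompl B hBmeet hBN
    -- all `q`-parts, `q ≠ p`, are trivial
    have hq : ∀ q : ℕ, q.Prime → q ≠ p → ¬ q ∣ Nat.card A := by
      intro q hq hqp hdvd
      have : Fact q.Prime := ⟨hq⟩
      have heq := sPart_eq_of_complements hqp hA hB hfac hNp hcA hcB
      have hQne : sPart q A ≠ ⊥ := sPart_ne_bot hA q hdvd
      have hQn : (sPart q A).Normal := by
        rw [← Subgroup.normalizer_eq_top_iff, eq_top_iff, ← hAB]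
        apply sup_le (le_normalizer_sPart q A)
        rw [heq]
        exact le_normalizer_sPart q B
      have h1 := (hcon (sPart q A) hQn hQne).1
      rw [sup_eq_left.2 (sPart_le q A)] at h1
      exact hAtop h1
    apply hnil
    have hcardA : ∃ m : ℕ, Nat.card A = p ^ m := by
      refine ⟨_, Nat.eq_prime_pow_of_unique_prime_dvd Nat.card_pos.ne' ?_⟩
      intro q hqpr hdvd
      by_contra hqp
      exact hq q hqpr hqp hdvd
    obtain ⟨m, hm⟩ := hcardA
    obtain ⟨k, hk⟩ := hNp.exists_card_eq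
    have hG : IsPGroup p G := by
      apply IsPGroup.of_card (n := m + k)
      rw [← hcA, hk, pow_add, ← hm]
    exact hG.isNilpotent
  obtain ⟨N, hNn, hNb, hN⟩ := hkey
  -- pass to the quotient
  have hlt : Nat.card (G ⧸ N) < n := by
    rw [← hn, ← Subgroup.index_eq_card]
    have h1 := N.card_mul_index
    have h2 : 1 < Nat.card N := by
      rw [Subgroup.one_lt_card_iff_ne_bot]; exact hNb
    have h3 : 0 < N.index := Nat.pos_of_ne_zero Subgroup.index_ne_zero_of_finite
    nlinarith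
  have hmaptop : ∀ X : Subgroup G, X.map (QuotientGroup.mk' N) = ⊤ → X ⊔ N = ⊤ := by
    intro X h
    have := congrArg (Subgroup.comap (QuotientGroup.mk' N)) h
    rwa [Subgroup.comap_map_eq, QuotientGroup.ker_mk', Subgroup.comap_top] at this
  have hne' : A.map (QuotientGroup.mk' N) ≠ ⊤ ∨ B.map (QuotientGroup.mk' N) ≠ ⊤ := by
    rcases hN with h | h
    · exact Or.inl (fun h' => h (hmaptop A h'))
    · exact Or.inr (fun h' => h (hmaptop B h'))
  obtain ⟨M, hMn, hMtop, hM⟩ := ih _ hlt (G ⧸ N) (A.map (QuotientGroup.mk' N))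
    (B.map (QuotientGroup.mk' N)) rfl
    (Group.nilpotent_of_surjective _ ((QuotientGroup.mk' N).subgroupMap_surjective A))
    (Group.nilpotent_of_surjective _ ((QuotientGroup.mk' N).subgroupMap_surjective B))
    (by
      intro g
      obtain ⟨g, rfl⟩ := QuotientGroup.mk'_surjective N g
      obtain ⟨a, ha, b, hb, e⟩ := hfac g
      exact ⟨_, ⟨a, ha, rfl⟩, _, ⟨b, hb, rfl⟩, by rw [e, map_mul]⟩) hne'
  refine ⟨M.comap (QuotientGroup.mk' N), hMn.comap _, ?_, ?_⟩
  · intro h
    apply hMtop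
    apply Subgroup.comap_injective (QuotientGroup.mk'_surjective N)
    rw [h, Subgroup.comap_top]
  · rcases hM with h | h
    · exact Or.inl (Subgroup.map_le_iff_le_comap.1 h)
    · exact Or.inr (Subgroup.map_le_iff_le_comap.1 h)

/-- **Kegel**: if `G = AB` with `A`, `B` nilpotent, not both equal to `G`, then some proper normal
subgroup of `G` contains `A` or contains `B`. -/
theorem kegel_normal (hW : CoprimeThm.{u}) (G : Type u) [Group G] [Finite G]
    (A B : Subgroup G) (hA : Group.IsNilpotent A) (hB : Group.IsNilpotent B)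
    (hfac : ∀ g : G, ∃ a ∈ A, ∃ b ∈ B, g = a * b) (hne : A ≠ ⊤ ∨ B ≠ ⊤) :
    ∃ N : Subgroup G, N.Normal ∧ N ≠ ⊤ ∧ (A ≤ N ∨ B ≤ N) :=
  kegel_normal_aux hW _ G A B rfl hA hB hfac hne

end Cfsg.Agent.Lib.Helper4.KW
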