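import Mathlib
import Cfsg.Prelude.Def_MonsterType
import Cfsg.Agent.Lib.Lead.LargeES
import Cfsg.Agent.H2.Layer

/-!
# S5429, G-level facts: `F*(C_G(z)) = Q` extraspecial, a conjugate `a = g z g⁻¹ ∈ Q ∖ Z(Q)`,
an involution `t ∈ Q ∩ Q^g` not conjugate to `z`
-/

set_option autoImplicit false
open Cfsg

namespace Cfsg.Agent.Lib.Helper4.LES29

open Cfsg.Agent.Lead.ES2 Cfsg.Agent.Lead.LargeES

universe u
variable {G : Type u} [Group G] [Finite G]

/-- from `F*(C_G(z)) = Q` extraspecial: `z ∈ Q`, and the elementwise structures -/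
theorem les_of_gfs (z : G) (hz : orderOf z = 2) (Q : Subgroup G)
    (hQC : Q ≤ Subgroup.centralizer ({z} : Set G))
    (hF : (Cfsg.generalizedFittingSubgroup ↥(Subgroup.centralizer ({z} : Set G))).map
      (Subgroup.centralizer ({z} : Set G)).subtype = Q)
    (hQ : Cfsg.IsExtraspecial 2 ↥Q) :
    ∃ hzQ : z ∈ Q, ES (⟨z, hzQ⟩ : ↥Q) ∧ LES Q z := by
  set C : Subgroup G := Subgroup.centralizer ({z} : Set G) with hC
  have hmemC : ∀ x : G, x ∈ C ↔ x * z = z * x := by
    intro x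
    rw [hC, Subgroup.mem_centralizer_iff]
    constructor
    · intro h; exact (h z rfl).symm
    · intro h y hy
      rw [Set.mem_singleton_iff] at hy
      rw [hy]; exact h.symm
  have hz1 : z ≠ 1 := by
    intro h
    rw [h, orderOf_one] at hz
    norm_num at hz
  have hzC : z ∈ C := (hmemC z).mpr rfl
  -- elements of `C` centralizing `Q` lie in `Q`
  have hcentC : ∀ c : G, (∀ a ∈ Q, a * c = c * a) → c * z = z * c → c ∈ Q := by
    intro c hc hcz
    have hcC : c ∈ C := (hmemC c).mpr hcz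
    have h1 : (⟨c, hcC⟩ : ↥C) ∈ Subgroup.centralizer
        ((Cfsg.generalizedFittingSubgroup ↥C : Subgroup ↥C) : Set ↥C) := by
      rw [Subgroup.mem_centralizer_iff]
      intro y hy
      apply Subtype.ext
      have hyQ : (y : G) ∈ Q := by
        rw [← hF]; exact ⟨y, hy, rfl⟩
      exact hc (y : G) hyQ
    have h2 := Cfsg.Agent.H2.centralizer_generalizedFittingSubgroup_le h1
    rw [← hF]
    exact ⟨⟨c, hcC⟩, h2, rfl⟩
  have hzQ : z ∈ Q := by
    apply hcentC z _ rfl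
    intro a ha
    exact (hmemC a).mp (hQC ha)
  obtain ⟨z₀, hes, -⟩ := es_of_extraspecial hQ
  have hz₀ : (⟨z, hzQ⟩ : ↥Q) = z₀ := by
    rcases hes.cent ⟨z, hzQ⟩ (fun x => Subtype.ext ((hmemC (x : G)).mp (hQC x.2))) with h | h
    · exact absurd (congrArg Subtype.val h) hz1
    · exact h
  rw [← hz₀] at hes
  refine ⟨hzQ, hes, ?_⟩
  have hles : LES Q ((⟨z, hzQ⟩ : ↥Q) : G) := by
    apply LES.of_ES hes
    · intro c hc
      exact hcentC c hc (hc z hzQ).symm
    · intro c hcz a ha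
      have hcC : c ∈ C := (hmemC c).mpr hcz
      rw [← hF] at ha ⊢
      obtain ⟨y, hy, rfl⟩ := ha
      have hn : (Cfsg.generalizedFittingSubgroup ↥C).Normal :=
        Cfsg.Agent.H2.generalizedFittingSubgroup_normal
      exact ⟨(⟨c, hcC⟩ : ↥C) * y * (⟨c, hcC⟩ : ↥C)⁻¹, hn.conj_mem y hy _, rfl⟩
  exact hles

end Cfsg.Agent.Lib.Helper4.LES29
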