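import Mathlib
import Cfsg.Agent.Lib.Helper4.LES29A

/-!
# S5429, G-level facts II: the conjugating element of part (ii)
-/

set_option autoImplicit false
open Cfsg

namespace Cfsg.Agent.Lib.Helper4.LES29

open Cfsg.Agent.Lead.ES2 Cfsg.Agent.Lead.LargeES

universe u
variable {G : Type u} [Group G] [Finite G]

theorem core (z : G) (Q : Subgroup G) (hzQ : z ∈ Q) (hes : ES (⟨z, hzQ⟩ : ↥Q)) (hles : LES Q z)
    (hcard32 : 32 ≤ Nat.card ↥Q)
    (g : G) (hgQ : g * z * g⁻¹ ∈ Q) (hgz : g * z * g⁻¹ ≠ z)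
    (t : G) (ht : orderOf t = 2) (htQ : t ∈ Q) (htQg : t ∈ Q.map (MulAut.conj g).toMonoidHom)
    (htz : ¬ IsConj z t) :
    g * z * g⁻¹ ≠ t ∧ g * z * g⁻¹ ≠ z * t ∧ t ≠ z ∧ t * t = 1 ∧ t ≠ 1 ∧ z * t = t * z ∧
    (∀ c : G, c * z * c⁻¹ ≠ z * t) ∧
    (∀ d ∈ Q, (∀ x ∈ Q, x * t = t * x → x * d = d * x) → d = 1 ∨ d = z ∨ d = t ∨ d = t * z) ∧
    (∃ x₁ ∈ Q, ∃ x₂ ∈ Q, x₁ * t = t * x₁ ∧ x₂ * t = t * x₂ ∧ x₁ * x₂ * x₁⁻¹ * x₂⁻¹ = z) ∧
    ∃ q ∈ Q, ∃ q' ∈ Q.map (MulAut.conj g).toMonoidHom, q * t = t * q ∧ q' * t = t * q' ∧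
      (q' * q) * (g * z * g⁻¹) * (q' * q)⁻¹ = z := by
  obtain ⟨a, ha⟩ : ∃ a : G, a = g * z * g⁻¹ := ⟨_, rfl⟩
  rw [← ha] at hgQ hgz ⊢
  have htt : t * t = 1 := by
    have := pow_orderOf_eq_one t
    rw [ht, pow_two] at this
    exact this
  have ht1 : t ≠ 1 := by
    intro h
    rw [h, orderOf_one] at ht
    norm_num at ht
  have htinv : t⁻¹ = t := inv_eq_of_mul_eq_one_right htt
  have hzz : z * z = 1 := hles.zz
  have hzinv : z⁻¹ = z := inv_eq_of_mul_eq_one_right hzz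
  have htz' : t ≠ z := fun h => htz (h ▸ IsConj.refl z)
  have hzt : z * t = t * z := (hles.zc t htQ).symm
  have hza : IsConj z a := isConj_iff.mpr ⟨g, ha.symm⟩
  have hat : a ≠ t := fun h => htz (h ▸ hza)
  -- `z t` is conjugate to `t`
  obtain ⟨q₀, hq₀Q, hq₀⟩ := hles.exists_move htQ ht1 htz'
  have hq₀t : q₀ * t * q₀⁻¹ = z * t := by
    calc q₀ * t * q₀⁻¹ = (q₀ * t * q₀⁻¹ * t⁻¹) * t := by group
      _ = z * t := by rw [hq₀]
  have hnc : ∀ c : G, c * z * c⁻¹ ≠ z * t := by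
    intro c hc
    apply htz
    rw [isConj_iff]
    refine ⟨q₀⁻¹ * c, ?_⟩
    calc q₀⁻¹ * c * z * (q₀⁻¹ * c)⁻¹ = q₀⁻¹ * (c * z * c⁻¹) * q₀ := by group
      _ = q₀⁻¹ * (z * t) * q₀ := by rw [hc]
      _ = q₀⁻¹ * (q₀ * t * q₀⁻¹) * q₀ := by rw [hq₀t]
      _ = t := by group
  have hazt : a ≠ z * t := by
    intro h
    exact hnc g (ha ▸ h)
  have ha1 : a ≠ 1 := by
    intro h
    apply hles.z1
    calc z = g⁻¹ * (g * z * g⁻¹) * g := by group
      _ = 1 := by rw [← ha, h]; group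
  have haa : a * a = 1 := by
    rw [ha]
    calc g * z * g⁻¹ * (g * z * g⁻¹) = g * (z * z) * g⁻¹ := by group
      _ = 1 := by rw [hzz]; group
  have hainv : a⁻¹ = a := inv_eq_of_mul_eq_one_right haa
  have haz : a * z = z * a := hles.zc a hgQ
  -- the conjugate structure
  have hY : LES (Q.map (MulAut.conj g).toMonoidHom) a := by rw [ha]; exact hles.conj g
  have hlink : ∀ n : G, n * z * n⁻¹ = a → ∀ b ∈ Q, n * b * n⁻¹ ∈ Q.map (MulAut.conj g).toMonoidHom := by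
    intro n hn b hb
    have h1 : (g⁻¹ * n) * z = z * (g⁻¹ * n) := by
      calc (g⁻¹ * n) * z = g⁻¹ * (n * z * n⁻¹) * n := by group
        _ = g⁻¹ * (g * z * g⁻¹) * n := by rw [hn, ha]
        _ = z * (g⁻¹ * n) := by group
    have h2 := hles.norm _ h1 b hb
    rw [mem_map_conj]
    have : g⁻¹ * (n * b * n⁻¹) * g = (g⁻¹ * n) * b * (g⁻¹ * n)⁻¹ := by group
    rw [this]; exact h2
  have hzY : z ∈ Q.map (MulAut.conj g).toMonoidHom :=
    center_mem' hes hcard32 hles hY hgQ hgz hlink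
  -- double centralizer and non-commuting pair
  obtain ⟨hDC, hNA⟩ := dc_na_sub hes hcard32 htQ htt ht1 htz'
  -- the element `q`
  have hq : ∃ q ∈ Q, q * t = t * q ∧ q * a * q⁻¹ * a⁻¹ = z := by
    by_contra hcon
    push Not at hcon
    have hall : ∀ x ∈ Q, x * t = t * x → x * a = a * x := by
      intro x hx hxt
      rcases hles.comm x hx a hgQ with h | h
      · calc x * a = (x * a * x⁻¹ * a⁻¹) * (a * x) := by group
          _ = a * x := by rw [h, one_mul]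
      · exact absurd h (hcon x hx hxt)
    rcases hDC a hgQ hall with h | h | h | h
    · exact ha1 h
    · exact hgz h
    · exact hat h
    · exact hazt (h.trans hzt.symm)
  obtain ⟨q, hqQ, hqt, hqa⟩ := hq
  -- the element `q'`, found in `Q` after conjugating back
  have hz'Q : g⁻¹ * z * g ∈ Q := mem_map_conj.mp hzY
  have ht'Q : g⁻¹ * t * g ∈ Q := mem_map_conj.mp htQg
  have ht't' : (g⁻¹ * t * g) * (g⁻¹ * t * g) = 1 := by
    calc (g⁻¹ * t * g) * (g⁻¹ * t * g) = g⁻¹ * (t * t) * g := by group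
      _ = 1 := by rw [htt]; group
  have ht'1 : g⁻¹ * t * g ≠ 1 := by
    intro h
    apply ht1
    calc t = g * (g⁻¹ * t * g) * g⁻¹ := by group
      _ = 1 := by rw [h]; group
  have ht'z : g⁻¹ * t * g ≠ z := by
    intro h
    apply hat
    rw [ha, ← h]; group
  obtain ⟨hDC', -⟩ := dc_na_sub hes hcard32 ht'Q ht't' ht'1 ht'z
  have hq' : ∃ y ∈ Q, y * (g⁻¹ * t * g) = (g⁻¹ * t * g) * y ∧
      y * (g⁻¹ * z * g) * y⁻¹ * (g⁻¹ * z * g)⁻¹ = z := by
    by_contra hcon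
    push Not at hcon
    have hall : ∀ x ∈ Q, x * (g⁻¹ * t * g) = (g⁻¹ * t * g) * x →
        x * (g⁻¹ * z * g) = (g⁻¹ * z * g) * x := by
      intro x hx hxt
      rcases hles.comm x hx _ hz'Q with h | h
      · calc x * (g⁻¹ * z * g) = (x * (g⁻¹ * z * g) * x⁻¹ * (g⁻¹ * z * g)⁻¹) * ((g⁻¹ * z * g) * x) := by
              group
          _ = (g⁻¹ * z * g) * x := by rw [h, one_mul]
      · exact absurd h (hcon x hx hxt)
    rcases hDC' _ hz'Q hall with h | h | h | h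
    · apply hles.z1
      calc z = g * (g⁻¹ * z * g) * g⁻¹ := by group
        _ = 1 := by rw [h]; group
    · apply hgz
      -- g⁻¹ z g = z  ⇒  a = z
      have : g * z * g⁻¹ = z := by
        calc g * z * g⁻¹ = g * (g⁻¹ * z * g) * g⁻¹ := by rw [h]
          _ = z := by group
      rw [ha]; exact this
    · apply htz'
      calc t = g * (g⁻¹ * t * g) * g⁻¹ := by group
        _ = g * (g⁻¹ * z * g) * g⁻¹ := by rw [h]
        _ = z := by group
    · -- g⁻¹ z g = g⁻¹ t g z  ⇒  z = t a  ⇒ a = t z = z t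
      apply hazt
      have h1 : z = t * a := by
        calc z = g * (g⁻¹ * z * g) * g⁻¹ := by group
          _ = g * (g⁻¹ * t * g * z) * g⁻¹ := by rw [h]
          _ = t * (g * z * g⁻¹) := by group
          _ = t * a := by rw [ha]
      calc a = t * (t * a) := by rw [← mul_assoc, htt, one_mul]
        _ = t * z := by rw [← h1]
        _ = z * t := hzt.symm
  obtain ⟨y, hyQ, hyt, hyz⟩ := hq'
  refine ⟨hat, hazt, htz', htt, ht1, hzt, hnc, ?_, ?_, q, hqQ, g * y * g⁻¹, conj_mem_map_conj hyQ, hqt, ?_, ?_⟩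
  · intro d hd h
    rcases hDC d hd h with h | h | h | h
    · exact Or.inl h
    · exact Or.inr (Or.inl h)
    · exact Or.inr (Or.inr (Or.inl h))
    · exact Or.inr (Or.inr (Or.inr h))
  · obtain ⟨x₁, hx₁, x₂, hx₂, h1, h2, h3⟩ := hNA
    exact ⟨x₁, hx₁, x₂, hx₂, h1, h2, h3⟩
  · calc g * y * g⁻¹ * t = g * (y * (g⁻¹ * t * g)) * g⁻¹ := by group
      _ = g * ((g⁻¹ * t * g) * y) * g⁻¹ := by rw [hyt]
      _ = t * (g * y * g⁻¹) := by group
  · -- the computation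
    have hqa' : q * a * q⁻¹ = z * a := by
      calc q * a * q⁻¹ = (q * a * q⁻¹ * a⁻¹) * a := by group
        _ = z * a := by rw [hqa]
    have hq'z : (g * y * g⁻¹) * z * (g * y * g⁻¹)⁻¹ = a * z := by
      calc (g * y * g⁻¹) * z * (g * y * g⁻¹)⁻¹
          = g * ((y * (g⁻¹ * z * g) * y⁻¹ * (g⁻¹ * z * g)⁻¹) * (g⁻¹ * z * g)) * g⁻¹ := by group
        _ = g * (z * (g⁻¹ * z * g)) * g⁻¹ := by rw [hyz]
        _ = (g * z * g⁻¹) * z := by group
        _ = a * z := by rw [ha]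
    have hq'a : (g * y * g⁻¹) * a * (g * y * g⁻¹)⁻¹ = a := by
      have h1 : y * z = z * y := hles.zc y hyQ
      rw [ha]
      calc (g * y * g⁻¹) * (g * z * g⁻¹) * (g * y * g⁻¹)⁻¹ = g * (y * z) * y⁻¹ * g⁻¹ := by group
        _ = g * (z * y) * y⁻¹ * g⁻¹ := by rw [h1]
        _ = g * z * g⁻¹ := by group
    calc (g * y * g⁻¹ * q) * a * (g * y * g⁻¹ * q)⁻¹
        = (g * y * g⁻¹) * (q * a * q⁻¹) * (g * y * g⁻¹)⁻¹ := by group
      _ = (g * y * g⁻¹) * (z * a) * (g * y * g⁻¹)⁻¹ := by rw [hqa']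
      _ = ((g * y * g⁻¹) * z * (g * y * g⁻¹)⁻¹) * ((g * y * g⁻¹) * a * (g * y * g⁻¹)⁻¹) := by group
      _ = (a * z) * a := by rw [hq'z, hq'a]
      _ = (z * a) * a := by rw [haz]
      _ = z := by rw [mul_assoc, haa, mul_one]

end Cfsg.Agent.Lib.Helper4.LES29
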