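import Mathlib
import Cfsg.Agent.H2.LESDefs

/-!
# S5426 (R4f-2): computations in the two-component setting

The seven `Two.*` lemmas of helper2's split of S5426, declared in helper2's namespace
`Cfsg.Agent.H2.LES`.
-/

set_option autoImplicit false

namespace Cfsg.Agent.H2.LES

universe u
variable {G : Type u} [Group G] {Q : Subgroup G} {z : G}
variable {K : Subgroup G} {u z₁ : G}

theorem Two.decomp (t : Two Q z K u z₁) (a b : G) (ha : a ∈ K) (hb : b ∈ K)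
    (h : a * (u * b * u⁻¹) = 1 ∨ a * (u * b * u⁻¹) = z) : a = 1 ∨ a = z₁ := by
  rcases h with h | h
  · left
    refine t.disj a ha b⁻¹ (K.inv_mem hb) ?_
    have h1 : a = (u * b * u⁻¹)⁻¹ := eq_inv_of_mul_eq_one_left h
    rw [h1]; group
  · right
    have h1 : z₁⁻¹ * a = u * (z₁ * b⁻¹) * u⁻¹ := by
      rw [t.hz] at h
      have h2 : z₁⁻¹ * a = z₁⁻¹ * (a * (u * b * u⁻¹)) * (u * b * u⁻¹)⁻¹ := by group
      rw [h2, h]; group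
    have h3 : z₁⁻¹ * a = 1 :=
      t.disj (z₁⁻¹ * a) (K.mul_mem (K.inv_mem t.z₁K) ha) (z₁ * b⁻¹)
        (K.mul_mem t.z₁K (K.inv_mem hb)) h1
    calc a = z₁ * (z₁⁻¹ * a) := by group
      _ = z₁ := by rw [h3, mul_one]

theorem Two.z₁_sq (t : Two Q z K u z₁) (c : Ctx Q z) : z₁ * z₁ = 1 := by
  have hK2 : z₁ * z₁ ∈ K := K.mul_mem t.z₁K t.z₁K
  have hc := t.comm z₁ t.z₁K z₁ t.z₁K
  have h1 : (z₁ * z₁) * (u * (z₁ * z₁) * u⁻¹) = 1 := by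
    have h2 : (z₁ * z₁) * (u * (z₁ * z₁) * u⁻¹)
        = z₁ * (z₁ * (u * z₁ * u⁻¹)) * (u * z₁ * u⁻¹) := by group
    rw [h2, hc]
    have h3 : z₁ * (u * z₁ * u⁻¹ * z₁) * (u * z₁ * u⁻¹)
        = (z₁ * (u * z₁ * u⁻¹)) * (z₁ * (u * z₁ * u⁻¹)) := by group
    rw [h3, ← t.hz]
    exact c.zsq
  rcases t.decomp (z₁ * z₁) (z₁ * z₁) hK2 hK2 (Or.inl h1) with h | h
  · exact h
  · have : z₁ = 1 := by
      have h4 : z₁ * z₁ = z₁ * 1 := by rw [mul_one]; exact h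
      exact mul_left_cancel h4
    rw [this, mul_one]

theorem Two.comm_z (t : Two Q z K u z₁) (d : G) (hd : d ∈ K) (h : d * z₁ = z₁ * d) :
    d * z = z * d := by
  have hc := t.comm d hd z₁ t.z₁K
  rw [t.hz]
  calc d * (z₁ * (u * z₁ * u⁻¹)) = (d * z₁) * (u * z₁ * u⁻¹) := by group
    _ = (z₁ * d) * (u * z₁ * u⁻¹) := by rw [h]
    _ = z₁ * (d * (u * z₁ * u⁻¹)) := by group
    _ = z₁ * ((u * z₁ * u⁻¹) * d) := by rw [hc]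
    _ = z₁ * (u * z₁ * u⁻¹) * d := by group

theorem Two.comm_z₁ (t : Two Q z K u z₁) (d : G) (hd : d ∈ K) (h : d * z = z * d) :
    d * z₁ = z₁ * d := by
  have hc := t.comm d hd z₁ t.z₁K
  rw [t.hz] at h
  have h1 : d * z₁ * (u * z₁ * u⁻¹) = z₁ * d * (u * z₁ * u⁻¹) := by
    calc d * z₁ * (u * z₁ * u⁻¹) = d * (z₁ * (u * z₁ * u⁻¹)) := by group
      _ = z₁ * (u * z₁ * u⁻¹) * d := h
      _ = z₁ * ((u * z₁ * u⁻¹) * d) := by group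
      _ = z₁ * (d * (u * z₁ * u⁻¹)) := by rw [hc]
      _ = z₁ * d * (u * z₁ * u⁻¹) := by group
  exact mul_right_cancel h1

/-- an element of `K` commuting with `z₁` gives an element `d (u d⁻¹ u⁻¹)` of `Q` -/
theorem Two.cd_mem (t : Two Q z K u z₁) (c : Ctx Q z) (d : G) (hd : d ∈ K)
    (h : d * z₁ = z₁ * d) : d * (u * d⁻¹ * u⁻¹) ∈ Q := by
  have h1 := c.norm d (t.comm_z d hd h) u t.uQ
  have h2 : d * (u * d⁻¹ * u⁻¹) = (d * u * d⁻¹) * u⁻¹ := by group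
  rw [h2]
  exact Q.mul_mem h1 (Q.inv_mem t.uQ)

theorem Two.sq (t : Two Q z K u z₁) (c : Ctx Q z) (d : G) (hd : d ∈ K) (h : d * z₁ = z₁ * d) :
    d * d = 1 ∨ d * d = z₁ := by
  have hcd := t.cd_mem c d hd h
  have hc := t.comm d hd d⁻¹ (K.inv_mem hd)
  have h1 : (d * (u * d⁻¹ * u⁻¹)) * (d * (u * d⁻¹ * u⁻¹))
      = (d * d) * (u * (d * d)⁻¹ * u⁻¹) := by
    calc (d * (u * d⁻¹ * u⁻¹)) * (d * (u * d⁻¹ * u⁻¹))
        = d * ((u * d⁻¹ * u⁻¹) * d) * (u * d⁻¹ * u⁻¹) := by group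
      _ = d * (d * (u * d⁻¹ * u⁻¹)) * (u * d⁻¹ * u⁻¹) := by rw [hc]
      _ = (d * d) * (u * (d * d)⁻¹ * u⁻¹) := by group
  have h2 := c.sq _ hcd
  rw [h1] at h2
  exact t.decomp (d * d) (d * d)⁻¹ (K.mul_mem hd hd) (K.inv_mem (K.mul_mem hd hd)) h2

theorem Two.commutator (t : Two Q z K u z₁) (c : Ctx Q z) (d e : G) (hd : d ∈ K) (he : e ∈ K)
    (h : d * z₁ = z₁ * d) (h' : e * z₁ = z₁ * e) :
    d * e * d⁻¹ * e⁻¹ = 1 ∨ d * e * d⁻¹ * e⁻¹ = z₁ := by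
  have hcd := t.cd_mem c d hd h
  have hce := t.cd_mem c e he h'
  have hdi := K.inv_mem hd
  have hei := K.inv_mem he
  -- commutation of elements of `K` with conjugates
  have c1 : ∀ x ∈ K, ∀ y ∈ K, (u * y * u⁻¹) * x = x * (u * y * u⁻¹) :=
    fun x hx y hy => (t.comm x hx y hy).symm
  have h1 : (d * (u * d⁻¹ * u⁻¹)) * (e * (u * e⁻¹ * u⁻¹)) * (d * (u * d⁻¹ * u⁻¹))⁻¹ *
      (e * (u * e⁻¹ * u⁻¹))⁻¹
      = (d * e * d⁻¹ * e⁻¹) * (u * (d⁻¹ * e⁻¹ * d * e) * u⁻¹) := by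
    -- write D = u d⁻¹ u⁻¹, E = u e⁻¹ u⁻¹
    have hD : ∀ x ∈ K, (u * d⁻¹ * u⁻¹) * x = x * (u * d⁻¹ * u⁻¹) := fun x hx => c1 x hx _ hdi
    have hDi : ∀ x ∈ K, (u * d * u⁻¹) * x = x * (u * d * u⁻¹) := fun x hx => c1 x hx _ hd
    have hE : ∀ x ∈ K, (u * e⁻¹ * u⁻¹) * x = x * (u * e⁻¹ * u⁻¹) := fun x hx => c1 x hx _ hei
    have hEi : ∀ x ∈ K, (u * e * u⁻¹) * x = x * (u * e * u⁻¹) := fun x hx => c1 x hx _ he
    calc (d * (u * d⁻¹ * u⁻¹)) * (e * (u * e⁻¹ * u⁻¹)) * (d * (u * d⁻¹ * u⁻¹))⁻¹ *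
          (e * (u * e⁻¹ * u⁻¹))⁻¹
        = d * ((u * d⁻¹ * u⁻¹) * e) * (u * e⁻¹ * u⁻¹) * (u * d * u⁻¹) * d⁻¹ *
            (u * e * u⁻¹) * e⁻¹ := by group
      _ = d * (e * (u * d⁻¹ * u⁻¹)) * (u * e⁻¹ * u⁻¹) * (u * d * u⁻¹) * d⁻¹ *
            (u * e * u⁻¹) * e⁻¹ := by rw [hD e he]
      _ = d * e * (u * (d⁻¹ * e⁻¹ * d) * u⁻¹) * d⁻¹ * (u * e * u⁻¹) * e⁻¹ := by group
      _ = d * e * ((u * (d⁻¹ * e⁻¹ * d) * u⁻¹) * d⁻¹) * (u * e * u⁻¹) * e⁻¹ := by group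
      _ = d * e * (d⁻¹ * (u * (d⁻¹ * e⁻¹ * d) * u⁻¹)) * (u * e * u⁻¹) * e⁻¹ := by
          rw [c1 d⁻¹ hdi (d⁻¹ * e⁻¹ * d) (K.mul_mem (K.mul_mem hdi hei) hd)]
      _ = d * e * d⁻¹ * ((u * (d⁻¹ * e⁻¹ * d * e) * u⁻¹) * e⁻¹) := by group
      _ = d * e * d⁻¹ * (e⁻¹ * (u * (d⁻¹ * e⁻¹ * d * e) * u⁻¹)) := by
          rw [c1 e⁻¹ hei (d⁻¹ * e⁻¹ * d * e)
            (K.mul_mem (K.mul_mem (K.mul_mem hdi hei) hd) he)]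
      _ = (d * e * d⁻¹ * e⁻¹) * (u * (d⁻¹ * e⁻¹ * d * e) * u⁻¹) := by group
  have h2 := c.comm _ hcd _ hce
  rw [h1] at h2
  exact t.decomp (d * e * d⁻¹ * e⁻¹) (d⁻¹ * e⁻¹ * d * e)
    (K.mul_mem (K.mul_mem (K.mul_mem hd he) hdi) hei)
    (K.mul_mem (K.mul_mem (K.mul_mem hdi hei) hd) he) h2

theorem Two.mem_Q (t : Two Q z K u z₁) (c : Ctx Q z) (d : G) (hd : d ∈ K) (hdQ : d ∈ Q) :
    d = 1 ∨ d = z₁ := by
  have h1 := c.comm d hdQ u t.uQ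
  have h2 : d * u * d⁻¹ * u⁻¹ = d * (u * d⁻¹ * u⁻¹) := by group
  rw [h2] at h1
  exact t.decomp d d⁻¹ hd (K.inv_mem hd) h1

end Cfsg.Agent.H2.LES
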