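import Mathlib
import Cfsg.Agent.H2.LESDefs
import Cfsg.Agent.H2.LESBasic
import Cfsg.Agent.H1.Cores
import Cfsg.Agent.Lib.Helper4.LESTwo
import Cfsg.Agent.H9.LESR4d

/-!
# S5426 (R4f-4): `Q ≠ O₂(C_G(z))` in the two-component setting
-/

set_option autoImplicit false

namespace Cfsg.Agent.H2.LES

universe u

section nofin

variable {G : Type u} [Group G] {Q : Subgroup G} {z : G}
variable {K : Subgroup G} {u z₁ : G}

/-- the subgroup of products `a (u b u⁻¹)`, `a, b ∈ K` -/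
def Two.prodSub (t : Two Q z K u z₁) : Subgroup G where
  carrier := {x | ∃ a ∈ K, ∃ b ∈ K, x = a * (u * b * u⁻¹)}
  one_mem' := ⟨1, K.one_mem, 1, K.one_mem, by group⟩
  mul_mem' := by
    rintro x y ⟨a, ha, b, hb, rfl⟩ ⟨a', ha', b', hb', rfl⟩
    refine ⟨a * a', K.mul_mem ha ha', b * b', K.mul_mem hb hb', ?_⟩
    have h := t.comm a' ha' b hb
    calc a * (u * b * u⁻¹) * (a' * (u * b' * u⁻¹))
        = a * ((u * b * u⁻¹) * a') * (u * b' * u⁻¹) := by group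
      _ = a * (a' * (u * b * u⁻¹)) * (u * b' * u⁻¹) := by rw [← h]
      _ = a * a' * (u * (b * b') * u⁻¹) := by group
  inv_mem' := by
    rintro x ⟨a, ha, b, hb, rfl⟩
    refine ⟨a⁻¹, K.inv_mem ha, b⁻¹, K.inv_mem hb, ?_⟩
    have h := t.comm a⁻¹ (K.inv_mem ha) b⁻¹ (K.inv_mem hb)
    calc (a * (u * b * u⁻¹))⁻¹ = (u * b⁻¹ * u⁻¹) * a⁻¹ := by group
      _ = a⁻¹ * (u * b⁻¹ * u⁻¹) := h.symm

theorem Two.exists_of_mem_sup (t : Two Q z K u z₁) (x : G)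
    (hx : x ∈ K ⊔ K.map (MulAut.conj u).toMonoidHom) :
    ∃ a ∈ K, ∃ b ∈ K, x = a * (u * b * u⁻¹) := by
  have h1 : K ≤ t.prodSub := fun a ha => ⟨a, ha, 1, K.one_mem, by group⟩
  have h2 : K.map (MulAut.conj u).toMonoidHom ≤ t.prodSub := by
    rintro _ ⟨b, hb, rfl⟩
    refine ⟨1, K.one_mem, b, hb, ?_⟩
    simp [MulAut.conj_apply]
  exact (sup_le h1 h2) hx

/-- an element of `K (u K u⁻¹)` commuting with `z` has order dividing `4` -/
theorem Two.pow_four (t : Two Q z K u z₁) (c : Ctx Q z) (x : G)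
    (hx : x ∈ K ⊔ K.map (MulAut.conj u).toMonoidHom) (hxz : x * z = z * x) : x ^ 4 = 1 := by
  obtain ⟨a, ha, b, hb, rfl⟩ := t.exists_of_mem_sup x hx
  have hz₁ := t.z₁K
  have hz₁i := K.inv_mem hz₁
  -- `a⁻¹ z₁⁻¹ a z₁ = u (z₁ b z₁⁻¹ b⁻¹) u⁻¹`
  have key : a⁻¹ * z₁⁻¹ * a * z₁ = u * (z₁ * b * z₁⁻¹ * b⁻¹) * u⁻¹ := by
    rw [t.hz] at hxz
    have e1 : a * (u * b * u⁻¹) * (z₁ * (u * z₁ * u⁻¹))
        = (a * z₁) * ((u * b * u⁻¹) * (u * z₁ * u⁻¹)) := by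
      have h := t.comm z₁ hz₁ b hb
      calc a * (u * b * u⁻¹) * (z₁ * (u * z₁ * u⁻¹))
          = a * ((u * b * u⁻¹) * z₁) * (u * z₁ * u⁻¹) := by group
        _ = a * (z₁ * (u * b * u⁻¹)) * (u * z₁ * u⁻¹) := by rw [← h]
        _ = (a * z₁) * ((u * b * u⁻¹) * (u * z₁ * u⁻¹)) := by group
    have e2 : z₁ * (u * z₁ * u⁻¹) * (a * (u * b * u⁻¹))
        = (z₁ * a) * ((u * z₁ * u⁻¹) * (u * b * u⁻¹)) := by
      have h := t.comm a ha z₁ hz₁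
      calc z₁ * (u * z₁ * u⁻¹) * (a * (u * b * u⁻¹))
          = z₁ * ((u * z₁ * u⁻¹) * a) * (u * b * u⁻¹) := by group
        _ = z₁ * (a * (u * z₁ * u⁻¹)) * (u * b * u⁻¹) := by rw [← h]
        _ = (z₁ * a) * ((u * z₁ * u⁻¹) * (u * b * u⁻¹)) := by group
    rw [e1, e2] at hxz
    -- (z₁ a)⁻¹ (a z₁) = (u z₁ u⁻¹)(u b u⁻¹) ((u b u⁻¹)(u z₁ u⁻¹))⁻¹
    have e3 : a⁻¹ * z₁⁻¹ * a * z₁
        = (z₁ * a)⁻¹ * ((a * z₁) * ((u * b * u⁻¹) * (u * z₁ * u⁻¹))) *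
          ((u * b * u⁻¹) * (u * z₁ * u⁻¹))⁻¹ := by group
    rw [e3, hxz]
    group
  have hL : a⁻¹ * z₁⁻¹ * a * z₁ ∈ K :=
    K.mul_mem (K.mul_mem (K.mul_mem (K.inv_mem ha) hz₁i) ha) hz₁
  have hR : z₁ * b * z₁⁻¹ * b⁻¹ ∈ K :=
    K.mul_mem (K.mul_mem (K.mul_mem hz₁ hb) hz₁i) (K.inv_mem hb)
  have h1 : a⁻¹ * z₁⁻¹ * a * z₁ = 1 := t.disj _ hL _ hR key
  have haz : a * z₁ = z₁ * a := by
    calc a * z₁ = z₁ * a * (a⁻¹ * z₁⁻¹ * a * z₁) := by group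
      _ = z₁ * a := by rw [h1, mul_one]
  have h2 : z₁ * b * z₁⁻¹ * b⁻¹ = 1 := by
    rw [h1] at key
    have : u⁻¹ * 1 * u = u⁻¹ * (u * (z₁ * b * z₁⁻¹ * b⁻¹) * u⁻¹) * u := by rw [← key]
    calc z₁ * b * z₁⁻¹ * b⁻¹ = u⁻¹ * (u * (z₁ * b * z₁⁻¹ * b⁻¹) * u⁻¹) * u := by group
      _ = u⁻¹ * 1 * u := this.symm
      _ = 1 := by group
  have hbz : b * z₁ = z₁ * b := by
    calc b * z₁ = (z₁ * b * z₁⁻¹ * b⁻¹)⁻¹ * (z₁ * b) := by group
      _ = z₁ * b := by rw [h2, inv_one, one_mul]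
  have hzz := t.z₁_sq c
  have ha4 : a ^ 4 = 1 := by
    have e : a ^ 4 = (a * a) * (a * a) := by simp only [pow_succ, pow_zero, one_mul, mul_assoc]
    rw [e]
    rcases t.sq c a ha haz with h | h
    · rw [h, mul_one]
    · rw [h, hzz]
  have hb4 : b ^ 4 = 1 := by
    have e : b ^ 4 = (b * b) * (b * b) := by simp only [pow_succ, pow_zero, one_mul, mul_assoc]
    rw [e]
    rcases t.sq c b hb hbz with h | h
    · rw [h, mul_one]
    · rw [h, hzz]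
  have hcomm : Commute a (u * b * u⁻¹) := t.comm a ha b hb
  rw [hcomm.mul_pow, ha4, one_mul]
  have e : (u * b * u⁻¹) ^ 4 = u * b ^ 4 * u⁻¹ := by
    rw [conj_pow]
  rw [e, hb4]
  group

end nofin

section fin

variable {G : Type u} [Group G] [Finite G] {Q : Subgroup G} {z : G}
variable {K : Subgroup G} {u z₁ : G}

/-- (R4f-4) -/
theorem Two.ne_pCore (t : Two Q z K u z₁) (c : Ctx Q z) (hKs : K.IsSubnormal)
    (hs : IsSimpleGroup ↥K) (hna : ¬ IsMulCommutative ↥K) (heven : Even (Nat.card ↥K))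
    (hn : (K ⊔ K.map (MulAut.conj u).toMonoidHom).Normal) :
    Q ≠ (Cfsg.pCore 2 ↥(Subgroup.centralizer ({z} : Set G))).map
      (Subgroup.centralizer ({z} : Set G)).subtype := by
  intro hQ
  obtain ⟨T, hQT⟩ := c.pgrp.exists_le_sylow
  obtain ⟨d, hd, hd1, hdz₁⟩ := exists_third_of_simple hs hna heven hKs T z₁
  have hdT : d ∈ (T : Subgroup G) := hd.1
  have hdK : d ∈ K := hd.2
  have hzd : z * d = d * z := c.z_comm_of_le T T.isPGroup' hQT d hdT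
  set C : Subgroup G := Subgroup.centralizer ({z} : Set G) with hC
  set N : Subgroup G := K ⊔ K.map (MulAut.conj u).toMonoidHom with hN
  have hmemC : ∀ x : G, x ∈ C ↔ x * z = z * x := by
    intro x
    rw [hC, Subgroup.mem_centralizer_iff]
    constructor
    · intro h; exact (h z rfl).symm
    · intro h y hy
      rw [Set.mem_singleton_iff] at hy
      rw [hy]; exact h.symm
  have hdC : d ∈ C := (hmemC d).mpr hzd.symm
  haveI : (N.subgroupOf C).Normal := hn.subgroupOf C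
  have hXp : IsPGroup 2 ↥(N.subgroupOf C) := by
    intro g
    refine ⟨2, ?_⟩
    have hgN : ((g : ↥C) : G) ∈ N := Subgroup.mem_subgroupOf.mp g.2
    have hgC : ((g : ↥C) : G) * z = z * ((g : ↥C) : G) := (hmemC _).mp (g : ↥C).2
    have h4 := t.pow_four c _ hgN hgC
    apply Subtype.ext
    apply Subtype.ext
    simpa using h4
  have hle : N.subgroupOf C ≤ Cfsg.pCore 2 ↥C := Cfsg.Agent.H1.le_pCore inferInstance hXp
  have hdX : (⟨d, hdC⟩ : ↥C) ∈ N.subgroupOf C := by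
    rw [Subgroup.mem_subgroupOf]
    exact (le_sup_left : K ≤ N) hdK
  have hdQ : d ∈ Q := by
    rw [hQ]
    exact ⟨⟨d, hdC⟩, hle hdX, rfl⟩
  rcases t.mem_Q c d hdK hdQ with h | h
  · exact hd1 h
  · exact hdz₁ h

end fin

end Cfsg.Agent.H2.LES
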