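import Mathlib
import Cfsg.Agent.H2.LESDefs
import Cfsg.Agent.H2.LESBasic
import Cfsg.Agent.H1.OddCentralizers

/-!
# A group with a large extraspecial 2-subgroup `Q`, `Z(Q) = ⟨z⟩`, and `C_G(z) ≤ ⟨z^G⟩` is simple
-/

set_option autoImplicit false

namespace Cfsg.Agent.Lib.Helper4.LESSimple

open Cfsg.Agent.H2.LES

universe u
variable {G : Type u} [Group G] [Finite G] {Q : Subgroup G} {z : G}

/-- every nontrivial normal subgroup contains `z` -/
theorem z_mem_of_normal (c : Ctx Q z) (N : Subgroup G) [hN : N.Normal] (hN1 : N ≠ ⊥) : z ∈ N := by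
  have hzinv : z⁻¹ = z := inv_eq_of_mul_eq_one_right c.zsq
  by_cases hfix : ∀ s ∈ N, z * s * z⁻¹ = s → s = 1
  · exfalso
    have hzN : z ∈ Subgroup.normalizer (N : Set G) := by
      rw [Subgroup.normalizer_eq_top]; exact Subgroup.mem_top z
    have hinv := Cfsg.Agent.H1.fpf_invol_inverts N z c.zsq hzN hfix
    have hodd : Odd (Nat.card ↥N) := by
      rw [← Nat.not_even_iff_odd]
      intro hev
      haveI : Fact (Nat.Prime 2) := ⟨Nat.prime_two⟩
      obtain ⟨s, hs⟩ := exists_prime_orderOf_dvd_card' (G := ↥N) 2 hev.two_dvd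
      have hs2 : (s : G) * (s : G) = 1 := by
        have h1 : s ^ 2 = 1 := by rw [← hs]; exact pow_orderOf_eq_one s
        have h2 : ((s ^ 2 : ↥N) : G) = 1 := by rw [h1]; rfl
        rw [pow_two] at h2
        exact_mod_cast h2
      have hsinv : (s : G)⁻¹ = (s : G) := inv_eq_of_mul_eq_one_right hs2
      have h3 := hinv (s : G) s.2
      rw [hsinv] at h3
      have h4 := hfix (s : G) s.2 h3
      have h5 : s = 1 := Subtype.ext h4
      rw [h5, orderOf_one] at hs
      norm_num at hs
    have hQN : Q ≤ Subgroup.normalizer (N : Set G) := by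
      rw [Subgroup.normalizer_eq_top]; exact le_top
    exact hN1 (c.odd N hodd hQN)
  · push Not at hfix
    obtain ⟨s, hsN, hsz, hs1⟩ := hfix
    have hsz' : s * z = z * s := by
      calc s * z = (z * s * z⁻¹) * z := by rw [hsz]
        _ = z * s := by group
    by_cases hX : N ⊓ Q = ⊥
    · -- then `s` centralizes `Q`, so `s = z`
      have hcen : ∀ a ∈ Q, s * a = a * s := by
        intro a ha
        have h1 : s * a * s⁻¹ * a⁻¹ ∈ N := by
          have : s * a * s⁻¹ * a⁻¹ = s * (a * s⁻¹ * a⁻¹) := by group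
          rw [this]
          exact N.mul_mem hsN (hN.conj_mem s⁻¹ (N.inv_mem hsN) a)
        have h2 : s * a * s⁻¹ * a⁻¹ ∈ Q :=
          Q.mul_mem (c.norm s hsz' a ha) (Q.inv_mem ha)
        have h3 : s * a * s⁻¹ * a⁻¹ ∈ N ⊓ Q := ⟨h1, h2⟩
        rw [hX, Subgroup.mem_bot] at h3
        calc s * a = (s * a * s⁻¹ * a⁻¹) * (a * s) := by group
          _ = a * s := by rw [h3, one_mul]
      rcases c.cent s hcen with h | h
      · exact absurd h hs1
      · rw [← h]; exact hsN
    · have hXp : IsPGroup 2 ↥(N ⊓ Q) := c.pgrp.to_le inf_le_right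
      have hQX : Q ≤ Subgroup.normalizer ((N ⊓ Q : Subgroup G) : Set G) := by
        intro q hq
        rw [Subgroup.mem_normalizer_iff]
        intro x
        constructor
        · rintro ⟨hxN, hxQ⟩
          exact ⟨hN.conj_mem x hxN q, Q.mul_mem (Q.mul_mem hq hxQ) (Q.inv_mem hq)⟩
        · rintro ⟨hxN, hxQ⟩
          refine ⟨?_, ?_⟩
          · have := hN.conj_mem _ hxN q⁻¹
            have e : q⁻¹ * (q * x * q⁻¹) * q⁻¹⁻¹ = x := by group
            rwa [e] at this
          · have := Q.mul_mem (Q.mul_mem (Q.inv_mem hq) hxQ) hq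
            have e : q⁻¹ * (q * x * q⁻¹) * q = x := by group
            rwa [e] at this
      exact (inf_le_left : N ⊓ Q ≤ N) (c.z_mem_of_two_group (N ⊓ Q) hXp hX hQX)

/-- `G` is generated by the conjugates of `z` as soon as they generate `C_G(z)` -/
theorem normalClosure_eq_top (c : Ctx Q z)
    (hC : Subgroup.centralizer ({z} : Set G) ≤ Subgroup.normalClosure ({z} : Set G)) :
    Subgroup.normalClosure ({z} : Set G) = ⊤ := by
  haveI : Fact (Nat.Prime 2) := ⟨Nat.prime_two⟩
  obtain ⟨T, hQT⟩ := c.pgrp.exists_le_sylow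
  have hzT : ∀ t ∈ (T : Subgroup G), z * t = t * z := c.z_comm_of_le T T.isPGroup' hQT
  have hmemC : ∀ x : G, x * z = z * x → x ∈ Subgroup.centralizer ({z} : Set G) := by
    intro x h
    rw [Subgroup.mem_centralizer_iff]
    intro y hy
    rw [Set.mem_singleton_iff] at hy
    rw [hy]; exact h.symm
  have hTM : (T : Subgroup G) ≤ Subgroup.normalClosure ({z} : Set G) :=
    fun t ht => hC (hmemC t (hzT t ht).symm)
  have hNT : Subgroup.normalizer ((T : Subgroup G) : Set G) ≤ Subgroup.normalClosure ({z} : Set G) := by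
    intro g hg
    apply hC
    apply hmemC
    -- `g z g⁻¹` centralizes `T`, hence `Q`
    have hcen : ∀ a ∈ Q, (g * z * g⁻¹) * a = a * (g * z * g⁻¹) := by
      intro a ha
      have haT : a ∈ (T : Subgroup G) := hQT ha
      have h1 : g⁻¹ * a * g ∈ (T : Subgroup G) := by
        have := (Subgroup.mem_normalizer_iff.mp (Subgroup.inv_mem _ hg) a).mp haT
        simpa using this
      have h2 := hzT _ h1
      calc (g * z * g⁻¹) * a = g * (z * (g⁻¹ * a * g)) * g⁻¹ := by group
        _ = g * ((g⁻¹ * a * g) * z) * g⁻¹ := by rw [h2]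
        _ = a * (g * z * g⁻¹) := by group
    rcases c.cent _ hcen with h | h
    · exfalso
      apply c.z1
      calc z = g⁻¹ * (g * z * g⁻¹) * g := by group
        _ = 1 := by rw [h]; group
    · calc g * z = (g * z * g⁻¹) * g := by group
        _ = z * g := by rw [h]
  have hfr := Sylow.normalizer_sup_eq_top' (N := Subgroup.normalClosure ({z} : Set G)) T hTM
  rw [← hfr]
  exact le_antisymm (sup_le hNT le_rfl) le_sup_right |>.symm

/-- the simplicity criterion -/
theorem isSimpleGroup_of_large {G : Type*} [Group G] [Finite G] (z : G) (hz : orderOf z = 2)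
    (Q : Subgroup G) (hQ : Cfsg.IsLargeExtraspecial Q)
    (hZ : (Subgroup.center ↥Q).map Q.subtype = Subgroup.zpowers z)
    (hC : Subgroup.centralizer ({z} : Set G) ≤ Subgroup.normalClosure ({z} : Set G)) :
    IsSimpleGroup G := by
  have c : Ctx Q z := ctx_of_hyps hQ hZ
  have htop := normalClosure_eq_top c hC
  haveI : Nontrivial G := ⟨⟨z, 1, c.z1⟩⟩
  refine ⟨fun N hN => ?_⟩
  by_cases hN1 : N = ⊥
  · exact Or.inl hN1
  · right
    haveI := hN
    have hzN := z_mem_of_normal c N hN1
    rw [eq_top_iff, ← htop]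
    exact Subgroup.normalClosure_le_normal (Set.singleton_subset_iff.mpr hzN)

end Cfsg.Agent.Lib.Helper4.LESSimple
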