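import Mathlib

set_option autoImplicit false

namespace Cfsg.Agent.Lib.Helper4.MatList

/-- 2×2 matrices with natural-number entries, as 4-tuples `(a, b, c, d)` for `!![a, b; c, d]`. -/
abbrev T4 := ℕ × ℕ × ℕ × ℕ

def one4 : T4 := (1, 0, 0, 1)

def mulT (p : ℕ) (x y : T4) : T4 :=
  ((x.1 * y.1 + x.2.1 * y.2.2.1) % p, (x.1 * y.2.1 + x.2.1 * y.2.2.2) % p,
   (x.2.2.1 * y.1 + x.2.2.2 * y.2.2.1) % p, (x.2.2.1 * y.2.1 + x.2.2.2 * y.2.2.2) % p)

def toMat (p : ℕ) (x : T4) : Matrix (Fin 2) (Fin 2) (ZMod p) :=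
  !![(x.1 : ZMod p), (x.2.1 : ZMod p); (x.2.2.1 : ZMod p), (x.2.2.2 : ZMod p)]

theorem toMat_one (p : ℕ) : toMat p one4 = 1 := by
  ext i j; fin_cases i <;> fin_cases j <;> simp [toMat, one4]

theorem toMat_mul (p : ℕ) (x y : T4) : toMat p (mulT p x y) = toMat p x * toMat p y := by
  ext i j; fin_cases i <;> fin_cases j <;>
    simp [toMat, mulT, Matrix.mul_apply, Fin.sum_univ_two, ZMod.natCast_mod]

theorem toMat_scalar (p : ℕ) (z : ℕ) :
    toMat p (z, 0, 0, z) = (z : ZMod p) • (1 : Matrix (Fin 2) (Fin 2) (ZMod p)) := by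
  ext i j; fin_cases i <;> fin_cases j <;> simp [toMat]

/-- entries reduced mod `p` -/
def red (p : ℕ) (s : T4) : Prop := s.1 < p ∧ s.2.1 < p ∧ s.2.2.1 < p ∧ s.2.2.2 < p

instance (p : ℕ) (s : T4) : Decidable (red p s) := by unfold red; infer_instance

theorem toMat_inj {p : ℕ} {s t : T4} (hs : red p s) (ht : red p t)
    (h : toMat p s = toMat p t) : s = t := by
  obtain ⟨a, b, c, d⟩ := s
  obtain ⟨a', b', c', d'⟩ := t
  obtain ⟨h1, h2, h3, h4⟩ := hs
  obtain ⟨h1', h2', h3', h4'⟩ := ht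
  simp only at h1 h2 h3 h4 h1' h2' h3' h4'
  have e00 := congrFun (congrFun h 0) 0
  have e01 := congrFun (congrFun h 0) 1
  have e10 := congrFun (congrFun h 1) 0
  have e11 := congrFun (congrFun h 1) 1
  simp [toMat] at e00 e01 e10 e11
  rw [ZMod.natCast_eq_natCast_iff'] at e00 e01 e10 e11
  rw [Nat.mod_eq_of_lt h1, Nat.mod_eq_of_lt h1'] at e00
  rw [Nat.mod_eq_of_lt h2, Nat.mod_eq_of_lt h2'] at e01
  rw [Nat.mod_eq_of_lt h3, Nat.mod_eq_of_lt h3'] at e10
  rw [Nat.mod_eq_of_lt h4, Nat.mod_eq_of_lt h4'] at e11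
  subst e00 e01 e10 e11
  rfl

/-- evaluation of a word (list of generator indices) on tuples -/
def evalW (p : ℕ) (gs : List T4) (w : List ℕ) : T4 :=
  w.foldr (fun i acc => mulT p (gs.getD i one4) acc) one4

/-- evaluation of a word in a monoid -/
def evalG {G : Type*} [Monoid G] (gsG : List G) (w : List ℕ) : G :=
  w.foldr (fun i acc => gsG.getD i 1 * acc) 1

section

variable {p : ℕ}

local notation "GL2" => Matrix.GeneralLinearGroup (Fin 2) (ZMod p)

/-- the correspondence hypothesis between generators in `GL₂(𝔽_p)` and tuples -/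
def Corr (gsG : List GL2) (gs : List T4) : Prop :=
  gsG.length = gs.length ∧
    ∀ i, ((gsG.getD i 1 : GL2) : Matrix (Fin 2) (Fin 2) (ZMod p)) = toMat p (gs.getD i one4)

theorem coe_evalG {gsG : List GL2} {gs : List T4} (hc : Corr gsG gs) (w : List ℕ) :
    ((evalG gsG w : GL2) : Matrix (Fin 2) (Fin 2) (ZMod p)) = toMat p (evalW p gs w) := by
  induction w with
  | nil => simp [evalG, evalW, toMat_one]
  | cons i w ih =>
    have h1 : evalG gsG (i :: w) = gsG.getD i 1 * evalG gsG w := rfl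
    have h2 : evalW p gs (i :: w) = mulT p (gs.getD i one4) (evalW p gs w) := rfl
    rw [h1, h2, toMat_mul, Matrix.GeneralLinearGroup.coe_mul, ih, hc.2 i]

theorem evalG_mem {G : Type*} [Group G] (gsG : List G) (w : List ℕ) :
    evalG gsG w ∈ Subgroup.closure {g | g ∈ gsG} := by
  induction w with
  | nil => exact one_mem _
  | cons i w ih =>
    have h1 : evalG gsG (i :: w) = gsG.getD i 1 * evalG gsG w := rfl
    rw [h1]
    refine mul_mem ?_ ih
    by_cases h : i < gsG.length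
    · rw [List.getD_eq_getElem _ _ h]
      exact Subgroup.subset_closure (List.getElem_mem h)
    · rw [List.getD_eq_default _ _ (not_lt.mp h)]
      exact one_mem _

theorem exists_tuple_of_mem {gsG : List GL2} {gs : List T4} (hc : Corr gsG gs) {g : GL2}
    (hg : g ∈ gsG) : ∃ t ∈ gs, (g : Matrix (Fin 2) (Fin 2) (ZMod p)) = toMat p t := by
  obtain ⟨i, hi, rfl⟩ := List.getElem_of_mem hg
  refine ⟨gs[i]'(hc.1 ▸ hi), List.getElem_mem _, ?_⟩
  have := hc.2 i
  rw [List.getD_eq_getElem _ _ hi, List.getD_eq_getElem _ _ (hc.1 ▸ hi)] at this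
  exact this

/-- left-multiplication induction for closures in a finite group -/
theorem closure_left_induction {G : Type*} [Group G] [Finite G] (S : Set G) (P : G → Prop)
    (h1 : P 1) (hmul : ∀ g ∈ S, ∀ x, P x → P (g * x)) :
    ∀ x ∈ Subgroup.closure S, P x := by
  intro x hx
  have hx' : x ∈ Submonoid.closure S := by
    rw [← Subgroup.closure_toSubmonoid_of_finite]; exact hx
  clear hx
  induction hx' using Submonoid.closure_induction_left with
  | one => exact h1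
  | mul_left g hg y _ ih => exact hmul g hg y ih

variable [Fact p.Prime]

/-- Elements of the closure of the generators lie in the scaled list. -/
theorem mem_scaled (gsG : List GL2) (gs : List T4) (hc : Corr gsG gs) (Kl : List T4)
    (hK1 : one4 ∈ Kl) (hK2 : ∀ g ∈ gs, ∀ s ∈ Kl, mulT p g s ∈ Kl)
    (C : GL2) (c : ℕ) (hC : (C : Matrix (Fin 2) (Fin 2) (ZMod p)) = toMat p (c, 0, 0, c))
    (Zl : List ℕ) (hZ1 : 1 ∈ Zl) (hZ2 : ∀ z ∈ Zl, (c * z) % p ∈ Zl) :
    ∀ h ∈ Subgroup.closure ({g | g ∈ gsG} ∪ {C}), ∃ z ∈ Zl, ∃ s ∈ Kl,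
      toMat p (mulT p (z, 0, 0, z) s) = (h : Matrix (Fin 2) (Fin 2) (ZMod p)) := by
  apply closure_left_induction
  · refine ⟨1, hZ1, one4, hK1, ?_⟩
    rw [toMat_mul, toMat_scalar, toMat_one]
    simp
  · rintro g (hg | hg) x ⟨z, hz, s, hs, hx⟩
    · obtain ⟨t, ht, hgt⟩ := exists_tuple_of_mem hc hg
      refine ⟨z, hz, mulT p t s, hK2 t ht s hs, ?_⟩
      rw [Matrix.GeneralLinearGroup.coe_mul, ← hx, hgt, toMat_mul, toMat_mul, toMat_mul,
        toMat_scalar]
      simp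
    · rw [Set.mem_singleton_iff] at hg
      subst hg
      refine ⟨(c * z) % p, hZ2 z hz, s, hs, ?_⟩
      rw [Matrix.GeneralLinearGroup.coe_mul, ← hx, hC, toMat_mul, toMat_mul, toMat_scalar,
        toMat_scalar, toMat_scalar]
      simp only [ZMod.natCast_mod, Nat.cast_mul, smul_mul_assoc, one_mul, mul_smul]

/-- Elements of the closure of the generators lie in the list. -/
theorem mem_list (gsG : List GL2) (gs : List T4) (hc : Corr gsG gs) (Kl : List T4)
    (hK1 : one4 ∈ Kl) (hK2 : ∀ g ∈ gs, ∀ s ∈ Kl, mulT p g s ∈ Kl) :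
    ∀ h ∈ Subgroup.closure {g | g ∈ gsG}, ∃ s ∈ Kl,
      toMat p s = (h : Matrix (Fin 2) (Fin 2) (ZMod p)) := by
  apply closure_left_induction
  · exact ⟨one4, hK1, by rw [toMat_one]; rfl⟩
  · rintro g hg x ⟨s, hs, hx⟩
    obtain ⟨t, ht, hgt⟩ := exists_tuple_of_mem hc hg
    refine ⟨mulT p t s, hK2 t ht s hs, ?_⟩
    rw [Matrix.GeneralLinearGroup.coe_mul, ← hx, hgt, toMat_mul]

/-- The order of the closure is the length of the list. -/
theorem card_closure (gsG : List GL2) (gs : List T4) (hc : Corr gsG gs) (Kl : List T4)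
    (words : List (List ℕ)) (hW : words.map (evalW p gs) = Kl)
    (hK1 : one4 ∈ Kl) (hK2 : ∀ g ∈ gs, ∀ s ∈ Kl, mulT p g s ∈ Kl)
    (hK3 : Kl.Nodup) (hK4 : ∀ s ∈ Kl, red p s) :
    Nat.card (Subgroup.closure {g | g ∈ gsG}) = Kl.length := by
  have hlen : words.length = Kl.length := by rw [← hW, List.length_map]
  have hget : ∀ (i : ℕ) (hi : i < Kl.length), evalW p gs (words[i]'(by omega)) = Kl[i] := by
    intro i hi
    simp [← hW]
  let f : Fin Kl.length → Subgroup.closure {g | g ∈ gsG} := fun i =>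
    ⟨evalG gsG (words[i.1]'(by have := i.2; omega)), evalG_mem _ _⟩
  have hf : Function.Bijective f := by
    constructor
    · intro i j hij
      have h1 : ((f i : GL2) : Matrix (Fin 2) (Fin 2) (ZMod p)) = ((f j : GL2) : Matrix _ _ _) := by
        rw [hij]
      simp only [f] at h1
      rw [coe_evalG hc, coe_evalG hc, hget i.1 i.2, hget j.1 j.2] at h1
      have h2 := toMat_inj (hK4 _ (List.getElem_mem _)) (hK4 _ (List.getElem_mem _)) h1
      exact Fin.ext ((List.Nodup.getElem_inj_iff hK3).mp h2)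
    · rintro ⟨h, hh⟩
      obtain ⟨s, hs, hsh⟩ := mem_list gsG gs hc Kl hK1 hK2 h hh
      obtain ⟨i, hi, rfl⟩ := List.getElem_of_mem hs
      refine ⟨⟨i, hi⟩, Subtype.ext (Units.ext ?_)⟩
      simp only [f]
      change ((evalG gsG (words[i]'(by omega)) : GL2) : Matrix (Fin 2) (Fin 2) (ZMod p)) = _
      rw [coe_evalG hc, hget i hi, hsh]
  rw [← Nat.card_congr (Equiv.ofBijective f hf), Nat.card_fin]

/-- the determinant check: `det (s - 1) ≠ 0` -/
def chk (p : ℕ) (s : T4) : Prop :=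
  ((s.1 + (p - 1)) * (s.2.2.2 + (p - 1))) % p ≠ (s.2.1 * s.2.2.1) % p

instance (s : T4) : Decidable (chk p s) := by unfold chk; infer_instance

theorem fix_imp (M : Matrix (Fin 2) (Fin 2) (ZMod p)) (v : Fin 2 → ZMod p) (hv : v ≠ 0)
    (h : M.mulVec v = v) : (M 0 0 - 1) * (M 1 1 - 1) = M 0 1 * M 1 0 := by
  have h0 : (M - 1).mulVec v = 0 := by
    rw [Matrix.sub_mulVec, h, Matrix.one_mulVec, sub_self]
  have hdet : (M - 1).det = 0 := Matrix.exists_mulVec_eq_zero_iff.mp ⟨v, hv, h0⟩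
  rw [Matrix.det_fin_two] at hdet
  simp at hdet
  linear_combination hdet

theorem not_chk_of_fix (s : T4) (v : Fin 2 → ZMod p) (hv : v ≠ 0)
    (h : (toMat p s).mulVec v = v) : ¬ chk p s := by
  have h1 := fix_imp _ v hv h
  simp only [toMat, Matrix.of_apply, Matrix.cons_val', Matrix.cons_val_zero, Matrix.cons_val_one,
    Matrix.cons_val_fin_one] at h1
  have hp : 1 ≤ p := (Fact.out : p.Prime).one_lt.le
  unfold chk
  rw [not_not, ← ZMod.natCast_eq_natCast_iff']
  push_cast [Nat.cast_sub hp]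
  simp only [ZMod.natCast_self, zero_sub]
  linear_combination h1

/-- freeness of the action on nonzero vectors from the determinant check -/
theorem free_of_chk (H : Subgroup GL2) (P : T4 → Prop)
    (hH : ∀ h ∈ H, ∃ t, P t ∧ toMat p t = (h : Matrix (Fin 2) (Fin 2) (ZMod p)))
    (hchk : ∀ t, P t → t ≠ one4 → chk p t) :
    ∀ h ∈ H, ∀ v : Fin 2 → ZMod p, v ≠ 0 →
      Matrix.mulVec (h : Matrix (Fin 2) (Fin 2) (ZMod p)) v = v → h = 1 := by
  intro h hh v hv hfix
  obtain ⟨t, ht, hth⟩ := hH h hh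
  rw [← hth] at hfix
  have := not_chk_of_fix t v hv hfix
  by_cases h1 : t = one4
  · apply Units.ext
    rw [← hth, h1, toMat_one]; rfl
  · exact absurd (hchk t ht h1) this

theorem card_nonzero : Nat.card {v : Fin 2 → ZMod p // v ≠ 0} = p ^ 2 - 1 := by
  haveI : NeZero p := ⟨(Fact.out : p.Prime).ne_zero⟩
  rw [Nat.card_eq_fintype_card, Fintype.card_subtype_compl, Fintype.card_subtype_eq]
  simp [ZMod.card]

/-- the orbit map on nonzero vectors -/
def orb (H : Subgroup GL2) (v : Fin 2 → ZMod p) (hv : v ≠ 0) :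
    H → {w : Fin 2 → ZMod p // w ≠ 0} := fun h =>
  ⟨Matrix.mulVec ((h : GL2) : Matrix (Fin 2) (Fin 2) (ZMod p)) v, by
    intro h0
    apply hv
    have : Matrix.mulVec (((h : GL2)⁻¹ : GL2) : Matrix (Fin 2) (Fin 2) (ZMod p))
        (Matrix.mulVec ((h : GL2) : Matrix (Fin 2) (Fin 2) (ZMod p)) v) = v := by
      rw [Matrix.mulVec_mulVec, ← Matrix.GeneralLinearGroup.coe_mul, inv_mul_cancel]
      simp
    rw [← this, h0, Matrix.mulVec_zero]⟩

theorem orb_injective (H : Subgroup GL2)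
    (hfree : ∀ h ∈ H, ∀ v : Fin 2 → ZMod p, v ≠ 0 →
      Matrix.mulVec (h : Matrix (Fin 2) (Fin 2) (ZMod p)) v = v → h = 1)
    (v : Fin 2 → ZMod p) (hv : v ≠ 0) : Function.Injective (orb H v hv) := by
  intro h h' hh
  have h1 : Matrix.mulVec ((h : GL2) : Matrix (Fin 2) (Fin 2) (ZMod p)) v =
      Matrix.mulVec ((h' : GL2) : Matrix (Fin 2) (Fin 2) (ZMod p)) v := congrArg Subtype.val hh
  have h2 : Matrix.mulVec ((((h' : GL2)⁻¹ * h : GL2)) : Matrix (Fin 2) (Fin 2) (ZMod p)) v = v := by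
    rw [Matrix.GeneralLinearGroup.coe_mul, ← Matrix.mulVec_mulVec, h1, Matrix.mulVec_mulVec,
      ← Matrix.GeneralLinearGroup.coe_mul, inv_mul_cancel]
    simp
  have h3 := hfree _ (H.mul_mem (H.inv_mem h'.2) h.2) v hv h2
  exact Subtype.ext (inv_mul_eq_one.mp h3).symm

theorem card_le_of_free (H : Subgroup GL2)
    (hfree : ∀ h ∈ H, ∀ v : Fin 2 → ZMod p, v ≠ 0 →
      Matrix.mulVec (h : Matrix (Fin 2) (Fin 2) (ZMod p)) v = v → h = 1) :
    Nat.card H ≤ p ^ 2 - 1 := by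
  haveI : NeZero p := ⟨(Fact.out : p.Prime).ne_zero⟩
  have hv : (fun i : Fin 2 => if i = 0 then (1 : ZMod p) else 0) ≠ 0 := by
    intro h
    have h0 := congrFun h 0
    haveI : Fact (1 < p) := ⟨(Fact.out : p.Prime).one_lt⟩
    simp at h0
  rw [← card_nonzero]
  exact Nat.card_le_card_of_injective _ (orb_injective H hfree _ hv)

theorem regular_of_free (H : Subgroup GL2)
    (hfree : ∀ h ∈ H, ∀ v : Fin 2 → ZMod p, v ≠ 0 →
      Matrix.mulVec (h : Matrix (Fin 2) (Fin 2) (ZMod p)) v = v → h = 1)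
    (hcard : Nat.card H = p ^ 2 - 1) :
    ∀ v w : Fin 2 → ZMod p, v ≠ 0 → w ≠ 0 →
      ∃! h : H, Matrix.mulVec ((h : GL2) : Matrix (Fin 2) (Fin 2) (ZMod p)) v = w := by
  haveI : NeZero p := ⟨(Fact.out : p.Prime).ne_zero⟩
  intro v w hv hw
  have hinj := orb_injective H hfree v hv
  have hbij : Function.Bijective (orb H v hv) := by
    rw [Nat.bijective_iff_injective_and_card]
    exact ⟨hinj, by rw [hcard, card_nonzero]⟩
  obtain ⟨h, hh⟩ := hbij.2 ⟨w, hw⟩
  refine ⟨h, congrArg Subtype.val hh, ?_⟩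
  intro h' hh'
  apply hinj
  rw [hh]
  exact Subtype.ext hh'

end

end Cfsg.Agent.Lib.Helper4.MatList
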