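import Mathlib
import Cfsg.Prelude.Def_Transfer

/-!
# S3905, piece P1 (Part I of `notes/S3905_lead.md`)

`N ⊴ G`, `C_G(x)` a maximal subgroup of `G` for every `x ∈ N ∖ Z(N)`.  If some `x₀ ∈ N ∖ Z(N)` has
`[x₀, N] ≤ Z(N)`, then `N / Z(N)` is an elementary abelian `p`-group.
-/

set_option autoImplicit false

namespace Cfsg.Agent.Lib.Helper4.MaxCent1

open Cfsg

universe u

variable {G : Type u} [Group G]

/-- the commutator `x n x⁻¹ n⁻¹` -/
def cm (x n : G) : G := x * n * x⁻¹ * n⁻¹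

theorem cm_one (x : G) : cm x 1 = 1 := by
  unfold cm
  group

theorem cm_eq_one_iff (x n : G) : cm x n = 1 ↔ x * n = n * x := by
  unfold cm
  constructor
  · intro h
    have : x * n * x⁻¹ * n⁻¹ * (n * x) = 1 * (n * x) := by rw [h]
    rw [one_mul] at this
    rw [← this]
    group
  · intro h
    calc x * n * x⁻¹ * n⁻¹ = (x * n) * x⁻¹ * n⁻¹ := by group
      _ = (n * x) * x⁻¹ * n⁻¹ := by rw [h]
      _ = 1 := by group

theorem cm_mem (N : Subgroup G) {x n : G} (hx : x ∈ N) (hn : n ∈ N) : cm x n ∈ N := by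
  unfold cm
  exact N.mul_mem (N.mul_mem (N.mul_mem hx hn) (N.inv_mem hx)) (N.inv_mem hn)

theorem cm_mem_of_normal (N : Subgroup G) [hN : N.Normal] {x : G} (hx : x ∈ N) (g : G) :
    cm x g ∈ N := by
  have h1 : g * x⁻¹ * g⁻¹ ∈ N := hN.conj_mem _ (N.inv_mem hx) g
  have h2 : cm x g = x * (g * x⁻¹ * g⁻¹) := by
    unfold cm
    group
  rw [h2]
  exact N.mul_mem hx h1

theorem cm_mul (N : Subgroup G) {x n m : G} (hn : n ∈ N)
    (hc : cm x m ∈ Subgroup.centralizer (N : Set G)) :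
    cm x (n * m) = cm x n * cm x m := by
  have hc' : n⁻¹ * cm x m = cm x m * n⁻¹ :=
    (Subgroup.mem_centralizer_iff.mp hc) n⁻¹ (N.inv_mem hn)
  calc cm x (n * m) = x * n * x⁻¹ * (cm x m * n⁻¹) := by
        unfold cm
        group
    _ = x * n * x⁻¹ * (n⁻¹ * cm x m) := by rw [hc']
    _ = cm x n * cm x m := by
        unfold cm
        group

theorem cm_mul_left (x y n : G) : cm (x * y) n = x * cm y n * x⁻¹ * cm x n := by
  unfold cm
  group

theorem cm_inv_left (x n : G) : cm x⁻¹ n = x⁻¹ * (cm x n)⁻¹ * x := by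
  unfold cm
  group

theorem cm_swap (x n : G) : cm n x = (cm x n)⁻¹ := by
  unfold cm
  group

theorem cm_mul_right (y g h : G) : cm y (g * h) = cm y g * (g * cm y h * g⁻¹) := by
  unfold cm
  group

theorem cm_inv_right (y g : G) : cm y g⁻¹ = g⁻¹ * (cm y g)⁻¹ * g := by
  unfold cm
  group

theorem cm_conj {x m : G} (hm : m * x = x * m) (n : G) :
    cm x (m * n * m⁻¹) = m * cm x n * m⁻¹ := by
  have e2 : m⁻¹ * x⁻¹ = x⁻¹ * m⁻¹ := by
    have : (x * m)⁻¹ = (m * x)⁻¹ := by rw [hm]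
    rw [mul_inv_rev, mul_inv_rev] at this
    exact this
  calc cm x (m * n * m⁻¹) = (x * m) * n * (m⁻¹ * x⁻¹) * (m * n⁻¹ * m⁻¹) := by
        unfold cm
        group
    _ = (m * x) * n * (x⁻¹ * m⁻¹) * (m * n⁻¹ * m⁻¹) := by rw [hm, e2]
    _ = m * cm x n * m⁻¹ := by
        unfold cm
        group

section central

variable (N : Subgroup G) {x : G} (hxN : x ∈ N)
  (hx2 : ∀ n ∈ N, cm x n ∈ Subgroup.centralizer (N : Set G))

include hx2 in
theorem cm_inv {n : G} (hn : n ∈ N) : cm x n⁻¹ = (cm x n)⁻¹ := by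
  have h := cm_mul N (x := x) hn (hx2 n⁻¹ (N.inv_mem hn))
  rw [mul_inv_cancel, cm_one] at h
  exact (eq_inv_of_mul_eq_one_right h.symm)

include hx2 in
theorem cm_pow {n : G} (hn : n ∈ N) (k : ℕ) : cm x (n ^ k) = (cm x n) ^ k := by
  induction k with
  | zero => rw [pow_zero, pow_zero, cm_one]
  | succ k ih =>
    rw [pow_succ, cm_mul N (N.pow_mem hn k) (hx2 n hn), ih, pow_succ]

include hxN hx2 in
theorem cm_pow_left {n : G} (hn : n ∈ N) (k : ℕ) : cm (x ^ k) n = (cm x n) ^ k := by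
  induction k with
  | zero => rw [pow_zero, pow_zero]; unfold cm; group
  | succ k ih =>
    rw [pow_succ, cm_mul_left, ih]
    have hc : x ^ k * cm x n = cm x n * x ^ k :=
      (Subgroup.mem_centralizer_iff.mp (hx2 n hn)) (x ^ k) (N.pow_mem hxN k)
    calc x ^ k * cm x n * (x ^ k)⁻¹ * cm x n ^ k
        = (x ^ k * cm x n) * (x ^ k)⁻¹ * cm x n ^ k := by group
      _ = (cm x n * x ^ k) * (x ^ k)⁻¹ * cm x n ^ k := by rw [hc]
      _ = cm x n ^ (k + 1) := by
          rw [pow_succ']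
          group

include hxN hx2 in
theorem cm_commute {n m : G} (hn : n ∈ N) (hm : m ∈ N) :
    Commute (cm x n) (cm x m) :=
  (Subgroup.mem_centralizer_iff.mp (hx2 m hm)) (cm x n) (cm_mem N hxN hn)

end central

/-- (d) of the note: an `M_x`-invariant subgroup `Y` with `N ∩ M_x ≤ Y ≤ N`, `Y ≰ M_x`, is `N`. -/
theorem le_of_normalized (N : Subgroup G) {x : G}
    (hco : IsCoatom (Subgroup.centralizer ({x} : Set G))) (Y : Subgroup G) (hYN : Y ≤ N)
    (hle : N ⊓ Subgroup.centralizer ({x} : Set G) ≤ Y)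
    (hnorm : Subgroup.centralizer ({x} : Set G) ≤ Subgroup.normalizer (Y : Set G))
    (hne : ¬ Y ≤ Subgroup.centralizer ({x} : Set G)) : N ≤ Y := by
  have hlt : Subgroup.centralizer ({x} : Set G) < Y ⊔ Subgroup.centralizer ({x} : Set G) :=
    right_lt_sup.mpr hne
  have htop : Y ⊔ Subgroup.centralizer ({x} : Set G) = ⊤ := hco.2 _ hlt
  have hcoe := Subgroup.coe_mul_of_right_le_normalizer_left Y _ hnorm
  intro n hn
  have hmem : n ∈ ((Y ⊔ Subgroup.centralizer ({x} : Set G) : Subgroup G) : Set G) := by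
    rw [htop]
    exact Set.mem_univ _
  rw [hcoe] at hmem
  obtain ⟨y, hy, m, hm, rfl⟩ := Set.mem_mul.mp hmem
  have hmN : m ∈ N := by
    have : m = y⁻¹ * (y * m) := by group
    rw [this]
    exact N.mul_mem (N.inv_mem (hYN hy)) hn
  exact Y.mul_mem hy (hle ⟨hmN, hm⟩)

variable [Finite G]

/-- I.1 of the note. -/
theorem exists_prime_pow (N : Subgroup G) [hN : N.Normal] {x : G} (hxN : x ∈ N)
    (hxC : x ∉ Subgroup.centralizer (N : Set G))
    (hco : IsCoatom (Subgroup.centralizer ({x} : Set G)))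
    (hx2 : ∀ n ∈ N, cm x n ∈ Subgroup.centralizer (N : Set G)) :
    ∃ p : ℕ, p.Prime ∧ (∀ n ∈ N, (cm x n) ^ p = 1) ∧
      x ^ p ∈ Subgroup.centralizer (N : Set G) := by
  classical
  -- a noncommuting element
  have h1 : ∃ n₀ ∈ N, cm x n₀ ≠ 1 := by
    by_contra hcon
    push Not at hcon
    apply hxC
    rw [Subgroup.mem_centralizer_iff]
    intro n hn
    exact ((cm_eq_one_iff x n).mp (hcon n hn)).symm
  obtain ⟨n₀, hn₀, hc₀⟩ := h1
  have hord : orderOf (cm x n₀) ≠ 1 := fun h => hc₀ (orderOf_eq_one_iff.mp h)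
  obtain ⟨p, hp, hpd⟩ := Nat.exists_prime_and_dvd hord
  have hord0 : orderOf (cm x n₀) ≠ 0 := (orderOf_pos _).ne'
  set k := orderOf (cm x n₀) / p with hk
  have hn₁ : n₀ ^ k ∈ N := N.pow_mem hn₀ k
  have hc₁ : cm x (n₀ ^ k) = (cm x n₀) ^ k := cm_pow N hx2 hn₀ k
  have hord₁ : orderOf (cm x (n₀ ^ k)) = p := by
    rw [hc₁, hk]
    exact orderOf_pow_orderOf_div hord0 hpd
  have hc₁ne : cm x (n₀ ^ k) ≠ 1 := by
    intro h
    rw [h, orderOf_one] at hord₁
    exact hp.one_lt.ne hord₁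
  -- the subgroup `Y`
  let Y : Subgroup G :=
    { carrier := {n | n ∈ N ∧ (cm x n) ^ p = 1}
      one_mem' := ⟨N.one_mem, by rw [cm_one, one_pow]⟩
      mul_mem' := by
        rintro a b ⟨ha, ha'⟩ ⟨hb, hb'⟩
        refine ⟨N.mul_mem ha hb, ?_⟩
        rw [cm_mul N ha (hx2 b hb), (cm_commute N hxN hx2 ha hb).mul_pow, ha', hb', one_mul]
      inv_mem' := by
        rintro a ⟨ha, ha'⟩
        refine ⟨N.inv_mem ha, ?_⟩
        rw [cm_inv N hx2 ha, inv_pow, ha', inv_one] }
  have hYmem : ∀ n, n ∈ Y ↔ n ∈ N ∧ (cm x n) ^ p = 1 := fun n => Iff.rfl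
  have hYN : Y ≤ N := fun n hn => hn.1
  have hle : N ⊓ Subgroup.centralizer ({x} : Set G) ≤ Y := by
    rintro n ⟨hn, hnx⟩
    refine ⟨hn, ?_⟩
    have hnx' : n ∈ Subgroup.centralizer ({x} : Set G) := hnx
    have : x * n = n * x := (Subgroup.mem_centralizer_singleton_iff.mp hnx').symm
    rw [(cm_eq_one_iff x n).mpr this, one_pow]
  have hconj : ∀ m ∈ Subgroup.centralizer ({x} : Set G), ∀ n ∈ Y, m * n * m⁻¹ ∈ Y := by
    intro m hm n hn
    have hmx : m * x = x * m := Subgroup.mem_centralizer_singleton_iff.mp hm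
    refine ⟨hN.conj_mem n hn.1 m, ?_⟩
    rw [cm_conj hmx, conj_pow, hn.2, mul_one, mul_inv_cancel]
  have hnorm : Subgroup.centralizer ({x} : Set G) ≤ Subgroup.normalizer (Y : Set G) := by
    intro m hm
    rw [Subgroup.mem_normalizer_iff]
    intro n
    constructor
    · exact hconj m hm n
    · intro h
      have := hconj m⁻¹ (Subgroup.inv_mem _ hm) _ h
      have e : m⁻¹ * (m * n * m⁻¹) * m⁻¹⁻¹ = n := by group
      rw [e] at this
      exact this
  have hne : ¬ Y ≤ Subgroup.centralizer ({x} : Set G) := by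
    intro hcon
    have h₁ : n₀ ^ k ∈ Y := by
      refine ⟨hn₁, ?_⟩
      rw [← hord₁]
      exact pow_orderOf_eq_one _
    have := Subgroup.mem_centralizer_singleton_iff.mp (hcon h₁)
    exact hc₁ne ((cm_eq_one_iff x _).mpr this.symm)
  have hNY := le_of_normalized N hco Y hYN hle hnorm hne
  refine ⟨p, hp, fun n hn => (hNY hn).2, ?_⟩
  rw [Subgroup.mem_centralizer_iff]
  intro n hn
  have : cm (x ^ p) n = 1 := by
    rw [cm_pow_left N hxN hx2 hn, (hNY hn).2]
  exact ((cm_eq_one_iff _ _).mp this).symm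

/-- `K_y = M_y` (the (★) of the note): if `[y, N] ≰ Z(N)` then `[y, g] ∈ Z(N)` forces `[y, g] = 1`. -/
theorem cm_eq_one_of_mem_centralizer (N : Subgroup G) [hN : N.Normal]
    (h : ∀ x : G, x ∈ N → x ∉ Subgroup.centralizer (N : Set G) →
      IsCoatom (Subgroup.centralizer ({x} : Set G)))
    (y : G) (hyN : y ∈ N) (hy2 : ¬ ∀ n ∈ N, cm y n ∈ Subgroup.centralizer (N : Set G))
    (g : G) (hg : cm y g ∈ Subgroup.centralizer (N : Set G)) : cm y g = 1 := by
  have hyC : y ∉ Subgroup.centralizer (N : Set G) := by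
    intro hy
    apply hy2
    intro n hn
    have : y * n = n * y := ((Subgroup.mem_centralizer_iff.mp hy) n hn).symm
    rw [(cm_eq_one_iff y n).mpr this]
    exact Subgroup.one_mem _
  have hco := h y hyN hyC
  haveI hCn : (Subgroup.centralizer (N : Set G)).Normal := Subgroup.normal_centralizer
  let K : Subgroup G :=
    { carrier := {g | cm y g ∈ Subgroup.centralizer (N : Set G)}
      one_mem' := by
        show cm y 1 ∈ Subgroup.centralizer (N : Set G)
        rw [cm_one]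
        exact Subgroup.one_mem _
      mul_mem' := by
        intro a b ha hb
        show cm y (a * b) ∈ Subgroup.centralizer (N : Set G)
        rw [cm_mul_right]
        exact Subgroup.mul_mem _ ha (hCn.conj_mem _ hb a)
      inv_mem' := by
        intro a ha
        show cm y a⁻¹ ∈ Subgroup.centralizer (N : Set G)
        rw [cm_inv_right]
        have := hCn.conj_mem _ (Subgroup.inv_mem _ ha) a⁻¹
        rw [inv_inv] at this
        exact this }
  have hMK : Subgroup.centralizer ({y} : Set G) ≤ K := by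
    intro m hm
    have : y * m = m * y := (Subgroup.mem_centralizer_singleton_iff.mp hm).symm
    show cm y m ∈ Subgroup.centralizer (N : Set G)
    rw [(cm_eq_one_iff y m).mpr this]
    exact Subgroup.one_mem _
  rcases hco.le_iff.mp hMK with htop | heq
  · exfalso
    apply hy2
    intro n hn
    have : n ∈ K := by
      rw [htop]
      exact Subgroup.mem_top _
    exact this
  · have hgK : g ∈ K := hg
    rw [heq] at hgK
    have : y * g = g * y := (Subgroup.mem_centralizer_singleton_iff.mp hgK).symm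
    exact (cm_eq_one_iff y g).mpr this

/-- statement form of the bonus lemma without `cm` -/
theorem comm_eq_one_of_mem_centralizer (N : Subgroup G) [hN : N.Normal]
    (h : ∀ x : G, x ∈ N → x ∉ Subgroup.centralizer (N : Set G) →
      IsCoatom (Subgroup.centralizer ({x} : Set G)))
    (y : G) (hyN : y ∈ N)
    (hy2 : ¬ ∀ n ∈ N, y * n * y⁻¹ * n⁻¹ ∈ Subgroup.centralizer (N : Set G))
    (g : G) (hg : y * g * y⁻¹ * g⁻¹ ∈ Subgroup.centralizer (N : Set G)) :
    y * g * y⁻¹ * g⁻¹ = 1 :=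
  cm_eq_one_of_mem_centralizer N h y hyN hy2 g hg

/-- I.2 of the note: `Z₂ = N`. -/
theorem all_central_mod (N : Subgroup G) [hN : N.Normal]
    (h : ∀ x : G, x ∈ N → x ∉ Subgroup.centralizer (N : Set G) →
      IsCoatom (Subgroup.centralizer ({x} : Set G)))
    (x₀ : G) (hx₀N : x₀ ∈ N) (hx₀Z : x₀ ∉ Subgroup.centralizer (N : Set G))
    (hx₀ : ∀ n ∈ N, cm x₀ n ∈ Subgroup.centralizer (N : Set G)) :
    ∀ y ∈ N, ∀ n ∈ N, cm y n ∈ Subgroup.centralizer (N : Set G) := by
  by_contra hcon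
  push Not at hcon
  obtain ⟨y, hyN, hy2'⟩ := hcon
  have hy2 : ¬ ∀ n ∈ N, cm y n ∈ Subgroup.centralizer (N : Set G) := by
    push Not
    exact hy2'
  -- elements outside `Z₂` centralize `Z₂`
  have hA : ∀ y' ∈ N, (¬ ∀ n ∈ N, cm y' n ∈ Subgroup.centralizer (N : Set G)) →
      ∀ x ∈ N, (∀ n ∈ N, cm x n ∈ Subgroup.centralizer (N : Set G)) → x * y' = y' * x := by
    intro y' hy'N hy' x hxN hx
    have h1 : cm y' x ∈ Subgroup.centralizer (N : Set G) := by
      rw [cm_swap]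
      exact Subgroup.inv_mem _ (hx y' hy'N)
    have h2 := cm_eq_one_of_mem_centralizer N h y' hy'N hy' x h1
    exact ((cm_eq_one_iff y' x).mp h2).symm
  -- closure of `Z₂`
  have hmul : ∀ a ∈ N, ∀ b ∈ N, (∀ n ∈ N, cm a n ∈ Subgroup.centralizer (N : Set G)) →
      (∀ n ∈ N, cm b n ∈ Subgroup.centralizer (N : Set G)) →
      ∀ n ∈ N, cm (a * b) n ∈ Subgroup.centralizer (N : Set G) := by
    intro a haN b hbN ha hb n hn
    rw [cm_mul_left]
    have hc : a * cm b n = cm b n * a := (Subgroup.mem_centralizer_iff.mp (hb n hn)) a haN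
    have : a * cm b n * a⁻¹ = cm b n := by
      rw [hc]
      group
    rw [this]
    exact Subgroup.mul_mem _ (hb n hn) (ha n hn)
  have hinv : ∀ a ∈ N, (∀ n ∈ N, cm a n ∈ Subgroup.centralizer (N : Set G)) →
      ∀ n ∈ N, cm a⁻¹ n ∈ Subgroup.centralizer (N : Set G) := by
    intro a haN ha n hn
    rw [cm_inv_left]
    have hc' : (cm a n)⁻¹ ∈ Subgroup.centralizer (N : Set G) := Subgroup.inv_mem _ (ha n hn)
    have hc : a * (cm a n)⁻¹ = (cm a n)⁻¹ * a := (Subgroup.mem_centralizer_iff.mp hc') a haN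
    have : a⁻¹ * (cm a n)⁻¹ * a = (cm a n)⁻¹ := by
      calc a⁻¹ * (cm a n)⁻¹ * a = a⁻¹ * ((cm a n)⁻¹ * a) := by group
        _ = a⁻¹ * (a * (cm a n)⁻¹) := by rw [hc]
        _ = (cm a n)⁻¹ := by group
    rw [this]
    exact hc'
  apply hx₀Z
  rw [Subgroup.mem_centralizer_iff]
  intro n hn
  by_cases hn2 : ∀ m ∈ N, cm n m ∈ Subgroup.centralizer (N : Set G)
  · -- `n ∈ Z₂`: then `n * y ∉ Z₂`
    have hny : ¬ ∀ m ∈ N, cm (n * y) m ∈ Subgroup.centralizer (N : Set G) := by
      intro hcon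
      apply hy2
      have e : y = n⁻¹ * (n * y) := by group
      rw [e]
      exact hmul n⁻¹ (N.inv_mem hn) (n * y) (N.mul_mem hn hyN) (hinv n hn hn2) hcon
    have e1 := hA (n * y) (N.mul_mem hn hyN) hny x₀ hx₀N hx₀
    have e2 := hA y hyN hy2 x₀ hx₀N hx₀
    -- x₀ (n y) = (n y) x₀, x₀ y = y x₀  ⇒ n x₀ = x₀ n
    have : n * x₀ * y = x₀ * n * y := by
      calc n * x₀ * y = n * (x₀ * y) := by group
        _ = n * (y * x₀) := by rw [e2]
        _ = (n * y) * x₀ := by group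
        _ = x₀ * (n * y) := e1.symm
        _ = x₀ * n * y := by group
    exact mul_right_cancel this
  · exact (hA n hn hn2 x₀ hx₀N hx₀).symm

/-- abstract I.3: a commutative group in which every nontrivial element is killed by a prime is
killed by one prime. -/
theorem exists_prime_forall_pow {Q : Type*} [Group Q] (hcomm : ∀ a b : Q, a * b = b * a)
    (hpr : ∀ a : Q, a ≠ 1 → ∃ p : ℕ, p.Prime ∧ a ^ p = 1) :
    ∃ p : ℕ, p.Prime ∧ ∀ a : Q, a ^ p = 1 := by
  by_cases htriv : ∀ a : Q, a = 1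
  · exact ⟨2, Nat.prime_two, fun a => by rw [htriv a, one_pow]⟩
  push Not at htriv
  obtain ⟨a₀, ha₀⟩ := htriv
  obtain ⟨p, hp, ha₀p⟩ := hpr a₀ ha₀
  refine ⟨p, hp, ?_⟩
  intro b
  by_cases hb : b = 1
  · rw [hb, one_pow]
  obtain ⟨q, hq, hbq⟩ := hpr b hb
  by_cases hpq : q = p
  · rw [← hpq]
    exact hbq
  exfalso
  haveI := Fact.mk hp
  haveI := Fact.mk hq
  have hoa : orderOf a₀ = p := orderOf_eq_prime ha₀p ha₀
  have hob : orderOf b = q := orderOf_eq_prime hbq hb
  by_cases hc : a₀ * b = 1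
  · -- b = a₀⁻¹
    have : b = a₀⁻¹ := (eq_inv_of_mul_eq_one_right hc)
    have hbp : b ^ p = 1 := by rw [this, inv_pow, ha₀p, inv_one]
    have : q ∣ p := by
      rw [← hob]
      exact orderOf_dvd_of_pow_eq_one hbp
    exact hpq ((Nat.prime_dvd_prime_iff_eq hq hp).mp this)
  · obtain ⟨r, hr, hcr⟩ := hpr (a₀ * b) hc
    have hmul : a₀ ^ r * b ^ r = 1 := by
      rw [← (show Commute a₀ b from hcomm a₀ b).mul_pow]
      exact hcr
    -- a₀^(r q) = 1
    have h1 : a₀ ^ (r * q) = 1 := by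
      have : a₀ ^ r = (b ^ r)⁻¹ := eq_inv_of_mul_eq_one_left hmul
      rw [pow_mul, this, inv_pow, ← pow_mul, mul_comm r q, pow_mul, hbq, one_pow, inv_one]
    have h2 : b ^ (r * p) = 1 := by
      have : b ^ r = (a₀ ^ r)⁻¹ := eq_inv_of_mul_eq_one_right hmul
      rw [pow_mul, this, inv_pow, ← pow_mul, mul_comm r p, pow_mul, ha₀p, one_pow, inv_one]
    have d1 : p ∣ r * q := by
      rw [← hoa]
      exact orderOf_dvd_of_pow_eq_one h1
    have d2 : q ∣ r * p := by
      rw [← hob]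
      exact orderOf_dvd_of_pow_eq_one h2
    have hpr' : p = r := by
      rcases (Nat.Prime.dvd_mul hp).mp d1 with h | h
      · exact (Nat.prime_dvd_prime_iff_eq hp hr).mp h
      · exact absurd ((Nat.prime_dvd_prime_iff_eq hp hq).mp h).symm hpq
    have hqr' : q = r := by
      rcases (Nat.Prime.dvd_mul hq).mp d2 with h | h
      · exact (Nat.prime_dvd_prime_iff_eq hq hr).mp h
      · exact absurd ((Nat.prime_dvd_prime_iff_eq hq hp).mp h) hpq
    exact hpq (hqr'.trans hpr'.symm)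

omit [Finite G] in
theorem mem_center_of_mem_centralizer (N : Subgroup G) (z : ↥N)
    (hz : (z : G) ∈ Subgroup.centralizer (N : Set G)) : z ∈ Subgroup.center ↥N := by
  rw [Subgroup.mem_center_iff]
  intro g
  apply Subtype.ext
  exact (Subgroup.mem_centralizer_iff.mp hz) g g.2

omit [Finite G] in
theorem mem_centralizer_of_mem_center (N : Subgroup G) (z : ↥N)
    (hz : z ∈ Subgroup.center ↥N) : (z : G) ∈ Subgroup.centralizer (N : Set G) := by
  rw [Subgroup.mem_centralizer_iff]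
  intro g hg
  have := (Subgroup.mem_center_iff.mp hz) ⟨g, hg⟩
  exact congrArg Subtype.val this

/-- **Part I** of `notes/S3905_lead.md`. -/
theorem elemAb_of_central_mod (N : Subgroup G) [hN : N.Normal]
    (h : ∀ x : G, x ∈ N → x ∉ Subgroup.centralizer (N : Set G) →
      IsCoatom (Subgroup.centralizer ({x} : Set G)))
    (x₀ : G) (hx₀N : x₀ ∈ N) (hx₀Z : x₀ ∉ Subgroup.centralizer (N : Set G))
    (hx₀ : ∀ n ∈ N, x₀ * n * x₀⁻¹ * n⁻¹ ∈ Subgroup.centralizer (N : Set G)) :
    ∃ p : ℕ, p.Prime ∧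
      Cfsg.IsElementaryAbelian p (⊤ : Subgroup (↥N ⧸ Subgroup.center ↥N)) := by
  have hall := all_central_mod N h x₀ hx₀N hx₀Z (fun n hn => hx₀ n hn)
  have hcomm : ∀ a b : ↥N ⧸ Subgroup.center ↥N, a * b = b * a := by
    intro a b
    induction a using QuotientGroup.induction_on with
    | H n =>
      induction b using QuotientGroup.induction_on with
      | H m =>
        rw [← QuotientGroup.mk_mul, ← QuotientGroup.mk_mul, QuotientGroup.eq]
        apply mem_center_of_mem_centralizer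
        have e : (((n * m)⁻¹ * (m * n) : ↥N) : G) = cm (m : G)⁻¹ (n : G)⁻¹ := by
          show ((n : G) * (m : G))⁻¹ * ((m : G) * (n : G)) = _
          unfold cm
          group
        rw [e]
        exact hall _ (N.inv_mem m.2) _ (N.inv_mem n.2)
  have hpr : ∀ a : ↥N ⧸ Subgroup.center ↥N, a ≠ 1 → ∃ p : ℕ, p.Prime ∧ a ^ p = 1 := by
    intro a ha
    induction a using QuotientGroup.induction_on with
    | H n =>
      have hnC : (n : G) ∉ Subgroup.centralizer (N : Set G) := by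
        intro hcon
        apply ha
        exact (QuotientGroup.eq_one_iff n).mpr (mem_center_of_mem_centralizer N n hcon)
      obtain ⟨p, hp, -, hpow⟩ := exists_prime_pow N n.2 hnC (h _ n.2 hnC) (hall _ n.2)
      refine ⟨p, hp, ?_⟩
      rw [← QuotientGroup.mk_pow, QuotientGroup.eq_one_iff]
      apply mem_center_of_mem_centralizer
      rw [Subgroup.coe_pow]
      exact hpow
  obtain ⟨p, hp, hpow⟩ := exists_prime_forall_pow hcomm hpr
  exact ⟨p, hp, ⟨⟨fun a b => Subtype.ext (hcomm a b)⟩⟩, fun a _ => hpow a⟩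

omit [Finite G] in
/-- the trivial case `N = Z(N)`. -/
theorem elemAb_of_le_centralizer (N : Subgroup G)
    (hab : N ≤ Subgroup.centralizer (N : Set G)) :
    ∃ p : ℕ, p.Prime ∧
      Cfsg.IsElementaryAbelian p (⊤ : Subgroup (↥N ⧸ Subgroup.center ↥N)) := by
  have h1 : ∀ a : ↥N ⧸ Subgroup.center ↥N, a = 1 := by
    intro a
    induction a using QuotientGroup.induction_on with
    | H n =>
      exact (QuotientGroup.eq_one_iff n).mpr (mem_center_of_mem_centralizer N n (hab n.2))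
  refine ⟨2, Nat.prime_two, ⟨⟨fun a b => Subtype.ext ?_⟩⟩, fun a _ => ?_⟩
  · rw [h1 ((a * b : ↥(⊤ : Subgroup (↥N ⧸ Subgroup.center ↥N))) : ↥N ⧸ Subgroup.center ↥N),
      h1 ((b * a : ↥(⊤ : Subgroup (↥N ⧸ Subgroup.center ↥N))) : ↥N ⧸ Subgroup.center ↥N)]
  · rw [h1 a, one_pow]

end Cfsg.Agent.Lib.Helper4.MaxCent1
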