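import Mathlib
import Cfsg.Agent.S0026
import Cfsg.Agent.S0041

/-!
# S4756, piece P3 (Steps 6–8 of `notes/S4756_lead.md`)

From: `P ⊴ G` a Sylow `p`-subgroup with `G/P` abelian, `P ≠ G`, `G` not commutative, and
`|C_G(y)| = |G : G'|` for every nontrivial `y` of prime-power order `q^k`, `q ≠ p`,
to the full structure clause of the statement.
-/

set_option autoImplicit false
set_option linter.style.haveILetI false

namespace Cfsg.Agent.Lib.Helper4.MultC

open Cfsg
open scoped commutatorElement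

universe u

variable {G : Type u} [Group G]

/-- `⁅A, P⁆` is normal as soon as `P` is normal and `A ⊔ P = ⊤`. -/
theorem commutator_normal_of_sup_eq_top (A P : Subgroup G) [hP : P.Normal] (hsup : A ⊔ P = ⊤) :
    (⁅A, P⁆).Normal := by
  rw [← Subgroup.normalizer_eq_top_iff, eq_top_iff, ← hsup]
  -- conjugation by elements of `A` and `P` maps `⁅A,P⁆` into itself
  have hA : ∀ a ∈ A, ∀ h ∈ ⁅A, P⁆, a * h * a⁻¹ ∈ ⁅A, P⁆ := by
    intro a ha h hh
    have hle : ⁅A, P⁆ ≤ (⁅A, P⁆).comap (MulAut.conj a).toMonoidHom := by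
      rw [Subgroup.commutator_le]
      intro a' ha' u hu
      rw [Subgroup.mem_comap]
      have e : (MulAut.conj a).toMonoidHom ⁅a', u⁆ = ⁅a * a' * a⁻¹, a * u * a⁻¹⁆ := by
        simp only [MulEquiv.coe_toMonoidHom, MulAut.conj_apply, commutatorElement_def]
        group
      rw [e]
      exact Subgroup.commutator_mem_commutator (A.mul_mem (A.mul_mem ha ha') (A.inv_mem ha))
        (hP.conj_mem u hu a)
    have := hle hh
    rw [Subgroup.mem_comap] at this
    simpa using this
  have hPc : ∀ u ∈ P, ∀ h ∈ ⁅A, P⁆, u * h * u⁻¹ ∈ ⁅A, P⁆ := by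
    intro u hu h hh
    have hle : ⁅A, P⁆ ≤ (⁅A, P⁆).comap (MulAut.conj u).toMonoidHom := by
      rw [Subgroup.commutator_le]
      intro a' ha' u' hu'
      rw [Subgroup.mem_comap]
      have e : (MulAut.conj u).toMonoidHom ⁅a', u'⁆ = ⁅a', u⁆⁻¹ * ⁅a', u * u'⁆ := by
        simp only [MulEquiv.coe_toMonoidHom, MulAut.conj_apply, commutatorElement_def]
        group
      rw [e]
      exact Subgroup.mul_mem _
        (Subgroup.inv_mem _ (Subgroup.commutator_mem_commutator ha' hu))
        (Subgroup.commutator_mem_commutator ha' (P.mul_mem hu hu'))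
    have := hle hh
    rw [Subgroup.mem_comap] at this
    simpa using this
  have hmem : ∀ g : G, (∀ h ∈ ⁅A, P⁆, g * h * g⁻¹ ∈ ⁅A, P⁆) →
      (∀ h ∈ ⁅A, P⁆, g⁻¹ * h * g⁻¹⁻¹ ∈ ⁅A, P⁆) → g ∈ Subgroup.normalizer ((⁅A, P⁆ : Subgroup G) : Set G) := by
    intro g h1 h2
    rw [Subgroup.mem_normalizer_iff]
    intro h
    constructor
    · exact h1 h
    · intro hh
      have := h2 _ hh
      have e : g⁻¹ * (g * h * g⁻¹) * g⁻¹⁻¹ = h := by group
      rw [e] at this
      exact this
  apply sup_le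
  · intro a ha
    exact hmem a (hA a ha) (hA a⁻¹ (A.inv_mem ha))
  · intro u hu
    exact hmem u (hPc u hu) (hPc u⁻¹ (P.inv_mem hu))

variable [Finite G]

/-- `|C ⊔ D| ≤ |C||D|` for `D` normal, and equality forces `C ⊓ D = ⊥`. -/
theorem card_sup_le_and_inf (C D : Subgroup G) [hD : D.Normal] :
    Nat.card ↥(C ⊔ D) ≤ Nat.card C * Nat.card D ∧
      (Nat.card C * Nat.card D ≤ Nat.card ↥(C ⊔ D) → C ⊓ D = ⊥) := by
  let f : ↥C × ↥D → ↥(C ⊔ D) := fun x =>
    ⟨(x.1 : G) * (x.2 : G), Subgroup.mul_mem _ (le_sup_left (a := C) (b := D) x.1.2)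
      (le_sup_right (a := C) (b := D) x.2.2)⟩
  have hsurj : Function.Surjective f := by
    rintro ⟨x, hx⟩
    have hx' : x ∈ ((C ⊔ D : Subgroup G) : Set G) := hx
    rw [Subgroup.mul_normal C D] at hx'
    obtain ⟨c, hc, d, hd, rfl⟩ := Set.mem_mul.mp hx'
    exact ⟨(⟨c, hc⟩, ⟨d, hd⟩), rfl⟩
  constructor
  · have := Nat.card_le_card_of_surjective f hsurj
    rwa [Nat.card_prod] at this
  · intro hle
    have hbij : Function.Bijective f := by
      apply hsurj.bijective_of_nat_card_le
      rw [Nat.card_prod]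
      exact hle
    rw [Subgroup.eq_bot_iff_forall]
    rintro z ⟨hzC, hzD⟩
    have e : f (⟨z, hzC⟩, ⟨z⁻¹, D.inv_mem hzD⟩) = f (1, 1) := by
      apply Subtype.ext
      show z * z⁻¹ = (1 : G) * 1
      group
    have := hbij.1 e
    have h1 := congrArg (fun x : ↥C × ↥D => (x.1 : G)) this
    exact h1

/-- `|C||A| ≤ |K|` for `C, A ≤ K` with `C ⊓ A = ⊥`, and equality forces `K = C·A`. -/
theorem card_mul_le_and_eq (C A K : Subgroup G) (hCK : C ≤ K) (hAK : A ≤ K) (hdis : C ⊓ A = ⊥) :
    Nat.card C * Nat.card A ≤ Nat.card K ∧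
      (Nat.card K ≤ Nat.card C * Nat.card A → ∀ k ∈ K, ∃ c ∈ C, ∃ a ∈ A, k = c * a) := by
  let g : ↥C × ↥A → ↥K := fun x =>
    ⟨(x.1 : G) * (x.2 : G), K.mul_mem (hCK x.1.2) (hAK x.2.2)⟩
  have hinj : Function.Injective g := by
    rintro ⟨⟨c, hc⟩, ⟨a, ha⟩⟩ ⟨⟨c', hc'⟩, ⟨a', ha'⟩⟩ h
    have h1 : c * a = c' * a' := congrArg Subtype.val h
    have h2 : c'⁻¹ * c = a' * a⁻¹ := by
      calc c'⁻¹ * c = c'⁻¹ * (c * a) * a⁻¹ := by group
        _ = c'⁻¹ * (c' * a') * a⁻¹ := by rw [h1]
        _ = a' * a⁻¹ := by group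
    have h3 : c'⁻¹ * c ∈ C ⊓ A :=
      ⟨C.mul_mem (C.inv_mem hc') hc, by rw [h2]; exact A.mul_mem ha' (A.inv_mem ha)⟩
    rw [hdis, Subgroup.mem_bot] at h3
    have hcc : c = c' := by
      have : c = c' * (c'⁻¹ * c) := by group
      rw [this, h3, mul_one]
    have haa : a = a' := by
      rw [hcc] at h1
      exact mul_left_cancel h1
    subst hcc
    subst haa
    rfl
  constructor
  · have := Nat.card_le_card_of_injective g hinj
    rwa [Nat.card_prod] at this
  · intro hle k hk
    have hbij : Function.Bijective g := by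
      apply hinj.bijective_of_nat_card_le
      rw [Nat.card_prod]
      exact hle
    obtain ⟨⟨c, a⟩, hca⟩ := hbij.2 ⟨k, hk⟩
    exact ⟨c, c.2, a, a.2, (congrArg Subtype.val hca).symm⟩

/-- an element of prime order inside `A`, from a nontrivial element -/
theorem exists_prime_order_pow {a : G} (ha : a ≠ 1) :
    ∃ q k : ℕ, q.Prime ∧ orderOf (a ^ k) = q := by
  have hord : orderOf a ≠ 1 := fun h => ha (orderOf_eq_one_iff.mp h)
  obtain ⟨q, hq, hqd⟩ := Nat.exists_prime_and_dvd hord
  exact ⟨q, orderOf a / q, hq, orderOf_pow_orderOf_div (orderOf_pos a).ne' hqd⟩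

/-- **Steps 6–8** of `notes/S4756_lead.md`. -/
theorem structure_of_centralizer_card (p : ℕ) [hp : Fact p.Prime] (P : Sylow p G)
    (hPn : (P : Subgroup G).Normal) (hGP : commutator G ≤ (P : Subgroup G))
    (hne : (P : Subgroup G) ≠ ⊤) (hnc : ¬ IsMulCommutative G)
    (hcent : ∀ y : G, y ≠ 1 → (∃ q k : ℕ, q.Prime ∧ q ≠ p ∧ orderOf y = q ^ k) →
      Nat.card (Subgroup.centralizer ({y} : Set G)) = (commutator G).index) :
    ∃ A : Subgroup G, (P : Subgroup G).Normal ∧ IsCyclic ↥A ∧ A ≠ ⊥ ∧ (Nat.card ↥A).Coprime p ∧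
      A ⊔ (P : Subgroup G) = ⊤ ∧
      IsMulCommutative ↥((P : Subgroup G) ⊓ Subgroup.centralizer (A : Set G)) ∧
      (⁅A, (P : Subgroup G)⁆).Normal ∧
      ((P : Subgroup G) ⊓ Subgroup.centralizer (A : Set G)) ⊔ ⁅A, (P : Subgroup G)⁆ =
        (P : Subgroup G) ∧
      ((P : Subgroup G) ⊓ Subgroup.centralizer (A : Set G)) ⊓ ⁅A, (P : Subgroup G)⁆ = ⊥ ∧
      ∀ a ∈ A, a ≠ 1 → ∀ d ∈ ⁅A, (P : Subgroup G)⁆, a * d = d * a → d = 1 := by
  classical
  haveI := hPn
  -- Step 6: Schur–Zassenhaus
  obtain ⟨A, hA⟩ := Subgroup.exists_right_complement'_of_coprime P.card_coprime_index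
  have hdisj : (P : Subgroup G) ⊓ A = ⊥ := hA.disjoint.eq_bot
  have hsup : A ⊔ (P : Subgroup G) = ⊤ := by rw [sup_comm]; exact hA.sup_eq_top
  have hcardPA : Nat.card (P : Subgroup G) * Nat.card A = Nat.card G := hA.card_mul_card
  have hAidx : Nat.card A = (P : Subgroup G).index := by
    have h1 := (P : Subgroup G).index_mul_card
    have hpos : 0 < Nat.card (P : Subgroup G) := Nat.card_pos
    have : Nat.card A * Nat.card (P : Subgroup G) = (P : Subgroup G).index * Nat.card (P : Subgroup G) := by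
      rw [h1, mul_comm]
      exact hcardPA
    exact Nat.eq_of_mul_eq_mul_right hpos this
  have hAcop : (Nat.card A).Coprime p := by
    rw [hAidx]
    exact ((Nat.Prime.coprime_iff_not_dvd hp.out).mpr P.not_dvd_index).symm
  -- `A` is abelian
  have hAcomm : ∀ a ∈ A, ∀ b ∈ A, a * b = b * a := by
    intro a ha b hb
    have h1 : ⁅a, b⁆ ∈ (P : Subgroup G) := hGP (Subgroup.commutator_mem_commutator
      (Subgroup.mem_top a) (Subgroup.mem_top b))
    have h2 : ⁅a, b⁆ ∈ A := by
      rw [commutatorElement_def]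
      exact A.mul_mem (A.mul_mem (A.mul_mem ha hb) (A.inv_mem ha)) (A.inv_mem hb)
    have h3 : ⁅a, b⁆ ∈ (P : Subgroup G) ⊓ A := ⟨h1, h2⟩
    rw [hdisj, Subgroup.mem_bot] at h3
    exact commutatorElement_eq_one_iff_mul_comm.mp h3
  haveI hAinst : IsMulCommutative ↥A := ⟨⟨fun a b => Subtype.ext (hAcomm a a.2 b b.2)⟩⟩
  have hAne : A ≠ ⊥ := by
    intro h
    apply hne
    rw [← hsup, h, bot_sup_eq]
  -- `C`, `D`
  set C : Subgroup G := (P : Subgroup G) ⊓ Subgroup.centralizer (A : Set G) with hC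
  set D : Subgroup G := ⁅A, (P : Subgroup G)⁆ with hD
  have hDP : D ≤ (P : Subgroup G) := Subgroup.commutator_le_right A (P : Subgroup G)
  have hDG' : D ≤ commutator G := Subgroup.commutator_mono le_top le_top
  haveI hDn : D.Normal := commutator_normal_of_sup_eq_top A (P : Subgroup G) hsup
  have hCD : C ⊔ D = (P : Subgroup G) := by
    have hcop : (Nat.card A).Coprime (Nat.card (P : Subgroup G)) := by
      have := P.card_coprime_index
      rw [← hAidx] at this
      exact this.symm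
    have hAN : A ≤ Subgroup.normalizer ((P : Subgroup G) : Set G) := by
      rw [Subgroup.normalizer_eq_top_iff.mpr hPn]
      exact le_top
    have hsolv : Group.IsSolvable ↥A :=
      isSolvable_of_comm (fun a b => Subtype.ext (hAcomm a a.2 b b.2))
    have := Cfsg.Agent.S0026.result A (P : Subgroup G) hAN hcop (Or.inl hsolv)
    rw [Subgroup.commutator_comm, sup_comm] at this
    exact this
  have hCP : C ≤ (P : Subgroup G) := inf_le_left
  have hCA : C ⊓ A = ⊥ := by
    rw [eq_bot_iff, ← hdisj]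
    exact inf_le_inf_right A hCP
  -- a nontrivial element of prime order in `A`
  have hexy : ∃ y ∈ A, y ≠ 1 ∧ ∃ q : ℕ, q.Prime ∧ q ≠ p ∧ orderOf y = q := by
    obtain ⟨a, ha1⟩ := (Subgroup.ne_bot_iff_exists_ne_one.mp hAne)
    obtain ⟨q, k, hq, hqk⟩ := exists_prime_order_pow (a := (a : G)) (fun h => ha1 (Subtype.ext h))
    refine ⟨(a : G) ^ k, A.pow_mem a.2 k, ?_, q, hq, ?_, hqk⟩
    · intro h
      rw [h, orderOf_one] at hqk
      exact hq.one_lt.ne hqk
    · intro hqp
      have hdvd : q ∣ Nat.card A := by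
        rw [← hqk]
        have := orderOf_dvd_natCard (⟨(a : G) ^ k, A.pow_mem a.2 k⟩ : ↥A)
        rwa [Subgroup.orderOf_mk] at this
      rw [hqp] at hdvd
      exact hp.out.one_lt.ne' (hAcop.symm.eq_one_of_dvd hdvd)
  -- Step 7: the count
  have hKy : ∀ y ∈ A, C ≤ Subgroup.centralizer ({y} : Set G) ∧ A ≤ Subgroup.centralizer ({y} : Set G) := by
    intro y hy
    constructor
    · intro c hc
      rw [Subgroup.mem_centralizer_singleton_iff]
      exact ((Subgroup.mem_centralizer_iff.mp hc.2) y hy).symm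
    · intro a ha
      rw [Subgroup.mem_centralizer_singleton_iff]
      exact hAcomm a ha y hy
  have h1 : Nat.card (P : Subgroup G) ≤ Nat.card C * Nat.card D := by
    have := (card_sup_le_and_inf C D).1
    rw [hCD] at this
    exact this
  have h2 : D.index * Nat.card D = Nat.card G := D.index_mul_card
  have h4 : (commutator G).index ≤ D.index :=
    Nat.le_of_dvd (Nat.pos_of_ne_zero Subgroup.index_ne_zero_of_finite)
      (Subgroup.index_dvd_of_le hDG')
  have hDpos : 0 < Nat.card D := Nat.card_pos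
  have hApos : 0 < Nat.card A := Nat.card_pos
  have h6 : D.index ≤ Nat.card C * Nat.card A := by
    have : D.index * Nat.card D ≤ (Nat.card C * Nat.card A) * Nat.card D := by
      rw [h2, ← hcardPA]
      calc Nat.card (P : Subgroup G) * Nat.card A ≤ (Nat.card C * Nat.card D) * Nat.card A :=
            Nat.mul_le_mul_right _ h1
        _ = (Nat.card C * Nat.card A) * Nat.card D := by ring
    exact Nat.le_of_mul_le_mul_right this hDpos
  obtain ⟨y₀, hy₀A, hy₀1, q₀, hq₀, hq₀p, hy₀ord⟩ := hexy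
  have h5 : ∀ y ∈ A, y ≠ 1 → (∃ q : ℕ, q.Prime ∧ q ≠ p ∧ orderOf y = q) →
      Nat.card C * Nat.card A ≤ (commutator G).index := by
    intro y hy hy1 ⟨q, hq, hqp, hord⟩
    have := (card_mul_le_and_eq C A (Subgroup.centralizer ({y} : Set G)) (hKy y hy).1 (hKy y hy).2 hCA).1
    rw [hcent y hy1 ⟨q, 1, hq, hqp, by rw [pow_one]; exact hord⟩] at this
    exact this
  have heq1 : Nat.card C * Nat.card A = (commutator G).index :=
    le_antisymm (h5 y₀ hy₀A hy₀1 ⟨q₀, hq₀, hq₀p, hy₀ord⟩) (h4.trans h6)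
  have heq2 : D.index = (commutator G).index :=
    le_antisymm (h6.trans (le_of_eq heq1)) h4
  have heq3 : Nat.card (P : Subgroup G) = Nat.card C * Nat.card D := by
    have : Nat.card (P : Subgroup G) * Nat.card A = (Nat.card C * Nat.card D) * Nat.card A := by
      rw [hcardPA, ← h2, heq2, ← heq1]
      ring
    exact Nat.eq_of_mul_eq_mul_right hApos this
  have hCDbot : C ⊓ D = ⊥ := by
    apply (card_sup_le_and_inf C D).2
    rw [hCD]
    exact le_of_eq heq3.symm
  have hDeq : D = commutator G := by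
    apply Subgroup.eq_of_le_of_card_ge hDG'
    have h7 := (commutator G).index_mul_card
    have hLpos : 0 < (commutator G).index := Nat.pos_of_ne_zero Subgroup.index_ne_zero_of_finite
    have : (commutator G).index * Nat.card (commutator G) = (commutator G).index * Nat.card D := by
      rw [h7, ← h2, heq2]
    exact le_of_eq (Nat.eq_of_mul_eq_mul_left hLpos this)
  have hcentEq : ∀ y ∈ A, y ≠ 1 → (∃ q : ℕ, q.Prime ∧ q ≠ p ∧ orderOf y = q) →
      ∀ k ∈ Subgroup.centralizer ({y} : Set G), ∃ c ∈ C, ∃ a ∈ A, k = c * a := by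
    intro y hy hy1 ⟨q, hq, hqp, hord⟩
    apply (card_mul_le_and_eq C A (Subgroup.centralizer ({y} : Set G)) (hKy y hy).1 (hKy y hy).2 hCA).2
    rw [hcent y hy1 ⟨q, 1, hq, hqp, by rw [pow_one]; exact hord⟩, heq1]
  -- `C` commutative
  have hCcomm : ∀ c ∈ C, ∀ c' ∈ C, c * c' = c' * c := by
    intro c hc c' hc'
    have h1 : ⁅c, c'⁆ ∈ D := by
      rw [hDeq]
      exact Subgroup.commutator_mem_commutator (Subgroup.mem_top c) (Subgroup.mem_top c')
    have h2 : ⁅c, c'⁆ ∈ C := by
      rw [commutatorElement_def]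
      exact C.mul_mem (C.mul_mem (C.mul_mem hc hc') (C.inv_mem hc)) (C.inv_mem hc')
    have h3 : ⁅c, c'⁆ ∈ C ⊓ D := ⟨h2, h1⟩
    rw [hCDbot, Subgroup.mem_bot] at h3
    exact commutatorElement_eq_one_iff_mul_comm.mp h3
  -- fixed-point-freeness
  have hfpf : ∀ a ∈ A, a ≠ 1 → ∀ d ∈ D, a * d = d * a → d = 1 := by
    intro a ha ha1 d hd hcomm
    obtain ⟨q, k, hq, hqk⟩ := exists_prime_order_pow ha1
    have hyA : a ^ k ∈ A := A.pow_mem ha k
    have hy1 : a ^ k ≠ 1 := by
      intro h
      rw [h, orderOf_one] at hqk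
      exact hq.one_lt.ne hqk
    have hqp : q ≠ p := by
      intro hqp
      have hdvd : q ∣ Nat.card A := by
        rw [← hqk]
        have := orderOf_dvd_natCard (⟨a ^ k, hyA⟩ : ↥A)
        rwa [Subgroup.orderOf_mk] at this
      rw [hqp] at hdvd
      exact hp.out.one_lt.ne' (hAcop.symm.eq_one_of_dvd hdvd)
    have hdK : d ∈ Subgroup.centralizer ({a ^ k} : Set G) := by
      rw [Subgroup.mem_centralizer_singleton_iff]
      exact ((Commute.pow_left (show Commute a d from hcomm) k).eq).symm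
    obtain ⟨c, hc, a', ha', hda⟩ := hcentEq (a ^ k) hyA hy1 ⟨q, hq, hqp, hqk⟩ d hdK
    have ha'P : a' ∈ (P : Subgroup G) := by
      have : a' = c⁻¹ * d := by rw [hda]; group
      rw [this]
      exact Subgroup.mul_mem _ (Subgroup.inv_mem _ (hCP hc)) (hDP hd)
    have ha'1 : a' = 1 := by
      have : a' ∈ (P : Subgroup G) ⊓ A := ⟨ha'P, ha'⟩
      rwa [hdisj, Subgroup.mem_bot] at this
    rw [ha'1, mul_one] at hda
    have : d ∈ C ⊓ D := ⟨by rw [hda]; exact hc, hd⟩
    rwa [hCDbot, Subgroup.mem_bot] at this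
  -- Step 8: `A` is cyclic
  have hDne : D ≠ ⊥ := by
    intro hDbot
    apply hnc
    -- then `P = C` is central together with `A`
    have hPC : (P : Subgroup G) = C := by rw [← hCD, hDbot, sup_bot_eq]
    have hPc : (P : Subgroup G) ≤ Subgroup.center G := by
      intro u hu
      rw [Subgroup.mem_center_iff]
      have huC : u ∈ C := by rw [← hPC]; exact hu
      have hle : (⊤ : Subgroup G) ≤ Subgroup.centralizer ({u} : Set G) := by
        rw [← hsup]
        apply sup_le
        · intro a ha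
          rw [Subgroup.mem_centralizer_singleton_iff]
          exact (Subgroup.mem_centralizer_iff.mp huC.2) a ha
        · intro u' hu'
          rw [Subgroup.mem_centralizer_singleton_iff]
          have hu'C : u' ∈ C := by rw [← hPC]; exact hu'
          exact hCcomm u' hu'C u huC
      intro g
      exact Subgroup.mem_centralizer_singleton_iff.mp (hle (Subgroup.mem_top g))
    have hAc : A ≤ Subgroup.center G := by
      intro a ha
      rw [Subgroup.mem_center_iff]
      have hle : (⊤ : Subgroup G) ≤ Subgroup.centralizer ({a} : Set G) := by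
        rw [← hsup]
        apply sup_le
        · intro a' ha'
          rw [Subgroup.mem_centralizer_singleton_iff]
          exact hAcomm a' ha' a ha
        · intro u hu
          rw [Subgroup.mem_centralizer_singleton_iff]
          have huC : u ∈ C := by rw [← hPC]; exact hu
          exact ((Subgroup.mem_centralizer_iff.mp huC.2) a ha).symm
      intro g
      exact Subgroup.mem_centralizer_singleton_iff.mp (hle (Subgroup.mem_top g))
    have hcen : Subgroup.center G = ⊤ := by
      rw [eq_top_iff, ← hsup]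
      exact sup_le hAc hPc
    refine ⟨⟨fun a b => ?_⟩⟩
    have hb : b ∈ Subgroup.center G := by rw [hcen]; exact Subgroup.mem_top b
    exact (Subgroup.mem_center_iff.mp hb) a
  have hcyc : IsCyclic ↥A := by
    -- `V = Z(D)` as a subgroup of `G`
    let V : Subgroup G := D ⊓ Subgroup.centralizer (D : Set G)
    haveI hVcomm : IsMulCommutative ↥V :=
      ⟨⟨fun v w => Subtype.ext ((Subgroup.mem_centralizer_iff.mp w.2.2) v v.2.1)⟩⟩
    haveI hVn : V.Normal := Subgroup.normal_inf_normal D (Subgroup.centralizer (D : Set G))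
    have hDp : IsPGroup p ↥D := P.isPGroup'.to_le hDP
    haveI : Nontrivial ↥D := (Subgroup.nontrivial_iff_ne_bot D).mpr hDne
    have hVne : V ≠ ⊥ := by
      haveI := hDp.center_nontrivial
      obtain ⟨z, hz⟩ := exists_ne (1 : ↥(Subgroup.center ↥D))
      intro hVbot
      apply hz
      have hzV : ((z : ↥D) : G) ∈ V := by
        refine ⟨(z : ↥D).2, ?_⟩
        show ((z : ↥D) : G) ∈ Subgroup.centralizer (D : Set G)
        rw [Subgroup.mem_centralizer_iff]
        intro g hg
        have := (Subgroup.mem_center_iff.mp z.2) ⟨g, hg⟩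
        exact congrArg Subtype.val this
      rw [hVbot, Subgroup.mem_bot] at hzV
      apply Subtype.ext
      apply Subtype.ext
      exact hzV
    have hAV : A ≤ Subgroup.normalizer (V : Set G) := by
      rw [Subgroup.normalizer_eq_top_iff.mpr hVn]
      exact le_top
    have hfpfV : ∀ a ∈ A, a ≠ 1 → V ⊓ Subgroup.centralizer ({a} : Set G) = ⊥ := by
      intro a ha ha1
      rw [Subgroup.eq_bot_iff_forall]
      rintro v ⟨hvV, hva⟩
      have hva' : v * a = a * v := Subgroup.mem_centralizer_singleton_iff.mp hva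
      exact hfpf a ha ha1 v hvV.1 hva'.symm
    exact Cfsg.Agent.S0041.result A V hVne hAV hfpfV (Or.inl hAinst)
  exact ⟨A, hPn, hcyc, hAne, hAcop, hsup,
    ⟨⟨fun c c' => Subtype.ext (hCcomm c c.2 c' c'.2)⟩⟩, hDn, hCD, hCDbot, hfpf⟩

end Cfsg.Agent.Lib.Helper4.MultC
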