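import Mathlib
import Cfsg.Prelude.Def_Characters
import Cfsg.Agent.Lib.helper3.Irr5

set_option autoImplicit false
set_option linter.unusedSectionVars false
set_option linter.style.haveILetI false

namespace Cfsg.Agent.Lib.Helper4.MultFree

open Cfsg Module Cfsg.Agent.Lib.helper3.Irr
open scoped ComplexConjugate

universe u

variable {G : Type*} [Group G] [Fintype G]

/-- multiplicity-freeness of the character of a representation -/
def IsMultFree {V : Type*} [AddCommGroup V] [Module ℂ V] (ρ : Representation ℂ G V) : Prop :=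
  ∀ χ : IrrCharacter G, classInner ρ.character (χ : G → ℂ) = 0 ∨
    classInner ρ.character (χ : G → ℂ) = 1

/-- commutativity of the algebra of equivariant endomorphisms -/
def CommEnd {V : Type*} [AddCommGroup V] [Module ℂ V] (ρ : Representation ℂ G V) : Prop :=
  ∀ S T : V →ₗ[ℂ] V, (∀ g, S ∘ₗ ρ g = ρ g ∘ₗ S) → (∀ g, T ∘ₗ ρ g = ρ g ∘ₗ T) →
    S ∘ₗ T = T ∘ₗ S

/-- Schur: an equivariant endomorphism of an irreducible representation is a scalar -/
theorem exists_scalar {V : Type*} [AddCommGroup V] [Module ℂ V] [FiniteDimensional ℂ V]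
    (ρ : Representation ℂ G V) [ρ.IsIrreducible] (S : V →ₗ[ℂ] V)
    (hS : ∀ g, S ∘ₗ ρ g = ρ g ∘ₗ S) : ∃ c : ℂ, S = c • LinearMap.id := by
  let S' : Representation.IntertwiningMap ρ ρ :=
    S.intertwiningMap_of_isIntertwiningMap ρ ρ (fun g v => LinearMap.congr_fun (hS g) v)
  obtain ⟨c, hc⟩ :=
    (Representation.IsIrreducible.algebraMap_intertwiningMap_bijective_of_isAlgClosed
      (ρ := ρ)).2 S'
  refine ⟨c, ?_⟩
  have h1 : S'.toLinearMap = S := rfl
  rw [← h1, ← hc]
  rfl

theorem commEnd_of_irreducible {V : Type*} [AddCommGroup V] [Module ℂ V] [FiniteDimensional ℂ V]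
    (ρ : Representation ℂ G V) [ρ.IsIrreducible] : CommEnd ρ := by
  intro S T hS hT
  obtain ⟨c, rfl⟩ := exists_scalar ρ S hS
  ext v
  simp

/-- an equivariant map between representations without common constituents vanishes -/
theorem eq_zero_of_classInner_eq_zero {V W : Type*} [AddCommGroup V] [Module ℂ V]
    [FiniteDimensional ℂ V] [AddCommGroup W] [Module ℂ W] [FiniteDimensional ℂ W]
    (ρ : Representation ℂ G V) (σ : Representation ℂ G W)
    (h : classInner ρ.character σ.character = 0) (f : W →ₗ[ℂ] V)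
    (hf : ∀ g, f ∘ₗ σ g = ρ g ∘ₗ f) : f = 0 := by
  rw [classInner_character] at h
  have h0 : finrank ℂ (Representation.IntertwiningMap σ ρ) = 0 := by exact_mod_cast h
  rw [← (Representation.invariantsEquivIntertwiningMap σ ρ).finrank_eq,
    Submodule.finrank_eq_zero] at h0
  have hmem : f ∈ (Representation.linHom σ ρ).invariants := by
    intro g
    show ρ g ∘ₗ f ∘ₗ σ g⁻¹ = f
    rw [← LinearMap.comp_assoc, ← hf g, LinearMap.comp_assoc, ← Module.End.mul_eq_comp,
      ← map_mul, mul_inv_cancel, map_one]
    rfl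
  rw [h0] at hmem
  exact (Submodule.mem_bot ℂ).mp hmem

/-- the multiplicities of the two factors of a multiplicity-free product -/
theorem multFree_prod {V W : Type u} [AddCommGroup V] [Module ℂ V]
    [FiniteDimensional ℂ V] [AddCommGroup W] [Module ℂ W] [FiniteDimensional ℂ W]
    (ρ : Representation ℂ G V) (σ : Representation ℂ G W) (h : IsMultFree (ρ.prod σ)) :
    IsMultFree ρ ∧ IsMultFree σ ∧ classInner ρ.character σ.character = 0 := by
  have key : ∀ χ : IrrCharacter G, ∃ a b : ℕ, classInner ρ.character (χ : G → ℂ) = a ∧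
      classInner σ.character (χ : G → ℂ) = b ∧ a + b ≤ 1 := by
    intro χ
    obtain ⟨a, ha⟩ := exists_nat_classInner_of_isCharacter (isCharacter_of_rep ρ) χ
    obtain ⟨b, hb⟩ := exists_nat_classInner_of_isCharacter (isCharacter_of_rep σ) χ
    refine ⟨a, b, ha, hb, ?_⟩
    have h1 := h χ
    rw [character_prod, classInner_add_left, ha, hb] at h1
    rcases h1 with h1 | h1
    · have : a + b = 0 := by exact_mod_cast h1
      omega
    · have : a + b = 1 := by exact_mod_cast h1
      omega
  refine ⟨fun χ => ?_, fun χ => ?_, ?_⟩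
  · obtain ⟨a, b, ha, -, hab⟩ := key χ
    rw [ha]
    rcases Nat.eq_zero_or_pos a with h0 | h0
    · left; rw [h0]; exact Nat.cast_zero
    · right
      have : a = 1 := by omega
      rw [this]; exact Nat.cast_one
  · obtain ⟨a, b, -, hb, hab⟩ := key χ
    rw [hb]
    rcases Nat.eq_zero_or_pos b with h0 | h0
    · left; rw [h0]; exact Nat.cast_zero
    · right
      have : b = 1 := by omega
      rw [this]; exact Nat.cast_one
  · rw [isCharacter_eq_sum_classInner (isCharacter_of_rep ρ),
      isCharacter_eq_sum_classInner (isCharacter_of_rep σ), classInner_decomposition]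
    apply Finset.sum_eq_zero
    intro χ _
    obtain ⟨a, b, ha, hb, hab⟩ := key χ
    rw [ha, hb]
    rcases Nat.eq_zero_or_pos a with h0 | h0
    · rw [h0]; simp
    · have : b = 0 := by omega
      rw [this]; simp

end Cfsg.Agent.Lib.Helper4.MultFree
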