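import Cfsg.Agent.Lib.Helper4.MultFreeA

set_option autoImplicit false
set_option linter.unusedSectionVars false
set_option linter.style.haveILetI false

namespace Cfsg.Agent.Lib.Helper4.MultFree

open Cfsg Module Cfsg.Agent.Lib.helper3.Irr
open scoped ComplexConjugate

universe u

variable {G : Type*} [Group G] [Fintype G]

theorem commEnd_prod {V W : Type u} [AddCommGroup V] [Module ℂ V]
    [FiniteDimensional ℂ V] [AddCommGroup W] [Module ℂ W] [FiniteDimensional ℂ W]
    (ρ : Representation ℂ G V) (σ : Representation ℂ G W)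
    (h1 : IsMultFree ρ → CommEnd ρ) (h2 : IsMultFree σ → CommEnd σ)
    (h : IsMultFree (ρ.prod σ)) : CommEnd (ρ.prod σ) := by
  obtain ⟨hρ, hσ, h0⟩ := multFree_prod ρ σ h
  have h0' : classInner σ.character ρ.character = 0 := by
    rw [← classInner_conj_symm, h0, map_zero]
  have hprod : ∀ g (x : V × W), (ρ.prod σ) g x = (ρ g x.1, σ g x.2) := fun g x => rfl
  -- the block structure
  have hblock : ∀ S : (V × W) →ₗ[ℂ] (V × W), (∀ g, S ∘ₗ (ρ.prod σ) g = (ρ.prod σ) g ∘ₗ S) →
      ∃ (S₁ : V →ₗ[ℂ] V) (S₂ : W →ₗ[ℂ] W), (∀ g, S₁ ∘ₗ ρ g = ρ g ∘ₗ S₁) ∧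
        (∀ g, S₂ ∘ₗ σ g = σ g ∘ₗ S₂) ∧ ∀ x : V × W, S x = (S₁ x.1, S₂ x.2) := by
    intro S hS
    have hS' : ∀ g x, S ((ρ.prod σ) g x) = (ρ.prod σ) g (S x) :=
      fun g x => LinearMap.congr_fun (hS g) x
    have h12 : (LinearMap.fst ℂ V W) ∘ₗ S ∘ₗ (LinearMap.inr ℂ V W) = 0 := by
      apply eq_zero_of_classInner_eq_zero ρ σ h0
      intro g
      ext w
      simp only [LinearMap.comp_apply, LinearMap.inr_apply, LinearMap.fst_apply]
      have := hS' g (0, w)
      rw [hprod, hprod, map_zero] at this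
      rw [this]
    have h21 : (LinearMap.snd ℂ V W) ∘ₗ S ∘ₗ (LinearMap.inl ℂ V W) = 0 := by
      apply eq_zero_of_classInner_eq_zero σ ρ h0'
      intro g
      ext v
      simp only [LinearMap.comp_apply, LinearMap.inl_apply, LinearMap.snd_apply]
      have := hS' g (v, 0)
      rw [hprod, hprod, map_zero] at this
      rw [this]
    refine ⟨(LinearMap.fst ℂ V W) ∘ₗ S ∘ₗ (LinearMap.inl ℂ V W),
      (LinearMap.snd ℂ V W) ∘ₗ S ∘ₗ (LinearMap.inr ℂ V W), ?_, ?_, ?_⟩
    · intro g
      ext v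
      simp only [LinearMap.comp_apply, LinearMap.inl_apply, LinearMap.fst_apply]
      have := hS' g (v, 0)
      rw [hprod, hprod, map_zero] at this
      rw [this]
    · intro g
      ext w
      simp only [LinearMap.comp_apply, LinearMap.inr_apply, LinearMap.snd_apply]
      have := hS' g (0, w)
      rw [hprod, hprod, map_zero] at this
      rw [this]
    · rintro ⟨v, w⟩
      have e1 : ((v, w) : V × W) = (v, 0) + (0, w) := by simp
      have a1 : (S (0, w)).1 = 0 := LinearMap.congr_fun h12 w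
      have a2 : (S (v, 0)).2 = 0 := LinearMap.congr_fun h21 v
      rw [e1, map_add]
      apply Prod.ext
      · simp only [Prod.fst_add, LinearMap.comp_apply, LinearMap.inl_apply, LinearMap.fst_apply,
          a1, add_zero]
      · simp only [Prod.snd_add, LinearMap.comp_apply, LinearMap.inr_apply, LinearMap.snd_apply,
          a2, zero_add]
  intro S T hS hT
  obtain ⟨S₁, S₂, hS₁, hS₂, hSx⟩ := hblock S hS
  obtain ⟨T₁, T₂, hT₁, hT₂, hTx⟩ := hblock T hT
  have c1 := h1 hρ S₁ T₁ hS₁ hT₁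
  have c2 := h2 hσ S₂ T₂ hS₂ hT₂
  ext x <;>
  · simp only [LinearMap.comp_apply, LinearMap.inl_apply, LinearMap.inr_apply, hSx, hTx]
    first
      | exact LinearMap.congr_fun c1 _
      | exact LinearMap.congr_fun c2 _

theorem commEnd_equiv {V W : Type*} [AddCommGroup V] [Module ℂ V]
    [FiniteDimensional ℂ V] [AddCommGroup W] [Module ℂ W] [FiniteDimensional ℂ W]
    (ρ : Representation ℂ G V) (σ : Representation ℂ G W) (e : ρ.Equiv σ)
    (h1 : IsMultFree ρ → CommEnd ρ) (h : IsMultFree σ) : CommEnd σ := by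
  have hchar : ρ.character = σ.character := Representation.char_iso e
  have hρ : IsMultFree ρ := by
    intro χ
    rw [hchar]
    exact h χ
  have hc := h1 hρ
  have he : ∀ g v, e (ρ g v) = σ g (e v) := fun g v =>
    LinearMap.congr_fun (e.toIntertwiningMap.isIntertwining' g) v
  have hes : ∀ g w, e.toLinearEquiv.symm (σ g w) = ρ g (e.toLinearEquiv.symm w) := by
    intro g w
    apply e.toLinearEquiv.injective
    rw [LinearEquiv.apply_symm_apply]
    have := he g (e.toLinearEquiv.symm w)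
    have e2 : e (e.toLinearEquiv.symm w) = w := e.toLinearEquiv.apply_symm_apply w
    rw [e2] at this
    exact this.symm
  intro S T hS hT
  have hS' : ∀ g w, S (σ g w) = σ g (S w) := fun g w => LinearMap.congr_fun (hS g) w
  have hT' : ∀ g w, T (σ g w) = σ g (T w) := fun g w => LinearMap.congr_fun (hT g) w
  let S' : V →ₗ[ℂ] V := e.toLinearEquiv.symm.toLinearMap ∘ₗ S ∘ₗ e.toLinearEquiv.toLinearMap
  let T' : V →ₗ[ℂ] V := e.toLinearEquiv.symm.toLinearMap ∘ₗ T ∘ₗ e.toLinearEquiv.toLinearMap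
  have hS'' : ∀ g, S' ∘ₗ ρ g = ρ g ∘ₗ S' := by
    intro g
    ext v
    show e.toLinearEquiv.symm (S (e.toLinearEquiv (ρ g v))) = ρ g (e.toLinearEquiv.symm (S (e.toLinearEquiv v)))
    rw [← hes, ← hS']
    congr 2
    exact he g v
  have hT'' : ∀ g, T' ∘ₗ ρ g = ρ g ∘ₗ T' := by
    intro g
    ext v
    show e.toLinearEquiv.symm (T (e.toLinearEquiv (ρ g v))) = ρ g (e.toLinearEquiv.symm (T (e.toLinearEquiv v)))
    rw [← hes, ← hT']
    congr 2
    exact he g v
  have hcomm := hc S' T' hS'' hT''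
  ext w
  have e3 : ∀ w', e.toLinearEquiv (e.toLinearEquiv.symm w') = w' :=
    e.toLinearEquiv.apply_symm_apply
  have := LinearMap.congr_fun hcomm (e.toLinearEquiv.symm w)
  change e.toLinearEquiv.symm (S (e.toLinearEquiv (e.toLinearEquiv.symm
    (T (e.toLinearEquiv (e.toLinearEquiv.symm w)))))) = e.toLinearEquiv.symm
    (T (e.toLinearEquiv (e.toLinearEquiv.symm (S (e.toLinearEquiv (e.toLinearEquiv.symm w))))))
    at this
  simp only [e3] at this
  exact e.toLinearEquiv.symm.injective this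

/-- a multiplicity-free representation has a commutative algebra of equivariant endomorphisms -/
theorem commEnd_of_multFree {V : Type u} [AddCommGroup V] [Module ℂ V] [FiniteDimensional ℂ V]
    (ρ : Representation ℂ G V) : IsMultFree ρ → CommEnd ρ := by
  apply rep_induction (G := G) (fun V _ _ _ ρ => IsMultFree ρ → CommEnd ρ)
  · intro V _ _ _ ρ hV _ S T _ _
    ext v
    exact Subsingleton.elim _ _
  · intro V _ _ _ ρ hirr _
    haveI := hirr
    exact commEnd_of_irreducible ρ
  · intro V W _ _ _ _ _ _ ρ σ h1 h2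
    exact commEnd_prod ρ σ h1 h2
  · intro V W _ _ _ _ _ _ ρ σ e h1
    exact commEnd_equiv ρ σ e h1

end Cfsg.Agent.Lib.Helper4.MultFree
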