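import Mathlib
import Cfsg.Agent.S0684

/-! Centraliser of a maximal normal abelian subgroup of a regular linear group (helper4). -/

set_option autoImplicit false

namespace Cfsg.Agent.Lib.Helper4.NFCent

/-- a group with a normal cyclic self-centralising subgroup `A` has order at most `|A|^2` -/
theorem card_le_sq_of_centralizer_eq {H : Type*} [Group H] [Finite H] (A : Subgroup H) [A.Normal]
    (hcyc : IsCyclic A) (hC : Subgroup.centralizer (A : Set H) = A) :
    Nat.card H ≤ Nat.card A * Nat.card A := by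
  classical
  let f : H →* MulAut A := MulAut.conjNormal
  have hker : f.ker = A := by
    ext h
    have hmem : h ∈ A ↔ h ∈ Subgroup.centralizer (A : Set H) := by rw [hC]
    rw [MonoidHom.mem_ker, hmem, Subgroup.mem_centralizer_iff]
    constructor
    · intro hf a ha
      have := congrArg (fun φ : MulAut A => ((φ ⟨a, ha⟩ : A) : H)) hf
      simp only [f, MulAut.conjNormal_apply, MulAut.one_apply] at this
      have e : h * a = a * h := by
        calc h * a = (h * a * h⁻¹) * h := by group
          _ = a * h := by rw [this]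
      exact e.symm
    · intro hf
      ext ⟨a, ha⟩
      simp only [f, MulAut.conjNormal_apply, MulAut.one_apply]
      have := hf a ha
      calc h * a * h⁻¹ = (a * h) * h⁻¹ := by rw [this]
        _ = a := by group
  have h1 : Nat.card H = Nat.card f.ker * Nat.card f.range := by
    rw [mul_comm, ← Subgroup.index_ker, mul_comm]
    exact (Subgroup.card_mul_index f.ker).symm
  have h2 : Nat.card f.range ≤ Nat.card (MulAut A) := Subgroup.card_le_card_group _
  have h3 : Nat.card (MulAut A) ≤ Nat.card A := by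
    rw [IsCyclic.card_mulAut]
    exact Nat.totient_le _
  rw [h1, hker]
  exact Nat.mul_le_mul_left _ (h2.trans h3)

theorem pow_arith (p k n : ℕ) (hp : 2 ≤ p) (hk : 1 ≤ k) (h : 2 * k ≤ n) :
    (p ^ k - 1) * (p ^ k - 1) < p ^ n - 1 := by
  have h1 : p ^ (2 * k) ≤ p ^ n := Nat.pow_le_pow_right (by omega) h
  have h2 : p ^ (2 * k) = p ^ k * p ^ k := by rw [two_mul, pow_add]
  have h3 : 2 ≤ p ^ k := by
    calc 2 ≤ p := hp
      _ = p ^ 1 := (pow_one p).symm
      _ ≤ p ^ k := Nat.pow_le_pow_right (by omega) hk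
  obtain ⟨q, hq⟩ : ∃ q, p ^ k = q + 2 := ⟨p ^ k - 2, by omega⟩
  rw [hq] at h2
  have : (q + 2 - 1) * (q + 2 - 1) < (q + 2) * (q + 2) - 1 := by
    have e1 : q + 2 - 1 = q + 1 := by omega
    rw [e1]
    have : (q + 2) * (q + 2) = (q + 1) * (q + 1) + (2 * q + 3) := by ring
    omega
  rw [hq]
  omega

variable {p : ℕ} [Fact p.Prime] {V : Type*} [AddCommGroup V] [Module (ZMod p) V] [Finite V]

theorem main (H : Subgroup (V ≃ₗ[ZMod p] V))
    (hreg : ∀ v w : V, v ≠ 0 → w ≠ 0 → ∃! h : H, (h : V ≃ₗ[ZMod p] V) v = w)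
    (hI : ∀ A : Subgroup H, A.Normal → IsCyclic A → ∃ W : Submodule (ZMod p) V, W ≠ ⊥ ∧ W ≠ ⊤ ∧
      ∀ a ∈ A, ∀ v ∈ W, ((a : H) : V ≃ₗ[ZMod p] V) v ∈ W)
    (A : Subgroup H) (hAn : A.Normal) (hAc : IsMulCommutative A)
    (hAmax : ∀ B : Subgroup H, B.Normal → IsMulCommutative B → A ≤ B → B = A) :
    A < Subgroup.centralizer (A : Set H) ∧ ¬ IsMulCommutative (Subgroup.centralizer (A : Set H)) := by
  classical
  haveI := hAn
  have hp := (Fact.out : p.Prime)
  obtain ⟨hcyc, W, hW0, hW1, hWA, hWmin, hdiv⟩ :=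
    Cfsg.Agent.S0684.result H hreg hI A hAn hAc hAmax
  have hle : A ≤ Subgroup.centralizer (A : Set H) := by
    intro a ha
    rw [Subgroup.mem_centralizer_iff]
    intro b hb
    have := hAc.is_comm.comm (⟨b, hb⟩ : A) ⟨a, ha⟩
    exact congrArg Subtype.val this
  have hne : Subgroup.centralizer (A : Set H) ≠ A := by
    intro hC
    haveI : Finite H := Finite.of_injective (fun h : H => ((h : V ≃ₗ[ZMod p] V) : V → V))
      (fun a b hab => Subtype.ext (LinearEquiv.ext fun v => congrFun hab v))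
    -- a nonzero vector in W
    obtain ⟨w, hwW, hw0⟩ := (Submodule.ne_bot_iff W).mp hW0
    -- card H = card V - 1
    have hcardH : Nat.card H = Nat.card V - 1 := by
      rw [← Cfsg.Agent.H2.NearFieldAbelian.card_ne_zero]
      refine Nat.card_congr (Equiv.ofBijective
        (fun h : H => (⟨(h : V ≃ₗ[ZMod p] V) w, fun h0 => hw0 (by
          have := (h : V ≃ₗ[ZMod p] V).map_eq_zero_iff.mp h0; exact this)⟩ : {v : V // v ≠ 0})) ?_)
      constructor
      · intro a b hab
        have hab' : (a : V ≃ₗ[ZMod p] V) w = (b : V ≃ₗ[ZMod p] V) w := congrArg Subtype.val hab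
        obtain ⟨c, _, hc⟩ := hreg w ((b : V ≃ₗ[ZMod p] V) w) hw0 (fun h0 => hw0 (by
          have := (b : V ≃ₗ[ZMod p] V).map_eq_zero_iff.mp h0; exact this))
        rw [hc a hab', hc b rfl]
      · rintro ⟨v, hv⟩
        obtain ⟨c, hc, _⟩ := hreg w v hw0 hv
        exact ⟨c, Subtype.ext hc⟩
    set n := Module.finrank (ZMod p) V with hn
    set k := Module.finrank (ZMod p) W with hk
    have hcardV : Nat.card V = p ^ n := by
      haveI := Fintype.ofFinite V
      rw [Nat.card_eq_fintype_card, Module.card_eq_pow_finrank (K := ZMod p) (V := V), ZMod.card]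
    have hk1 : 1 ≤ k := by
      rw [hk, Nat.succ_le_iff, Module.finrank_pos_iff]
      exact (Submodule.nontrivial_iff_ne_bot).mpr hW0
    have hpk : 0 < p ^ k - 1 := by
      have : 2 ≤ p ^ k := by
        calc 2 ≤ p := hp.two_le
          _ = p ^ 1 := (pow_one p).symm
          _ ≤ p ^ k := Nat.pow_le_pow_right hp.pos hk1
      omega
    have hAle : Nat.card A ≤ p ^ k - 1 := Nat.le_of_dvd hpk hdiv
    have hHle := card_le_sq_of_centralizer_eq A hcyc hC
    have hlt : n < 2 * k := by
      by_contra hcon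
      push_neg at hcon
      have := pow_arith p k n hp.two_le hk1 hcon
      rw [hcardH, hcardV] at hHle
      have h2 : Nat.card A * Nat.card A ≤ (p ^ k - 1) * (p ^ k - 1) := Nat.mul_le_mul hAle hAle
      omega
    -- every translate of W equals W
    have hall : ∀ h : H, W.map ((h : V ≃ₗ[ZMod p] V) : V →ₗ[ZMod p] V) = W := by
      intro h
      set hW := W.map ((h : V ≃ₗ[ZMod p] V) : V →ₗ[ZMod p] V) with hhW
      have hinvA : ∀ a ∈ A, ∀ v ∈ hW, ((a : H) : V ≃ₗ[ZMod p] V) v ∈ hW := by
        rintro a ha _ ⟨u, hu, rfl⟩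
        have hconj : h⁻¹ * a * h ∈ A := by
          have := hAn.conj_mem a ha h⁻¹
          simpa using this
        refine ⟨((h⁻¹ * a * h : H) : V ≃ₗ[ZMod p] V) u, hWA _ hconj u hu, ?_⟩
        have e : (h * (h⁻¹ * a * h) : H) = a * h := by group
        have := congrArg (fun x : H => (x : V ≃ₗ[ZMod p] V) u) e
        simpa using this
      have hfr : Module.finrank (ZMod p) hW = k := by
        rw [hk]
        exact LinearEquiv.finrank_map_eq (h : V ≃ₗ[ZMod p] V) W
      have hinf : ∀ a ∈ A, ∀ v ∈ W ⊓ hW, ((a : H) : V ≃ₗ[ZMod p] V) v ∈ W ⊓ hW := by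
        intro a ha v hv
        exact ⟨hWA a ha v hv.1, hinvA a ha v hv.2⟩
      rcases hWmin (W ⊓ hW) inf_le_left hinf with h0 | h0
      · exfalso
        have := Submodule.finrank_sup_add_finrank_inf_eq W hW
        rw [h0, finrank_bot, hfr, ← hk, add_zero] at this
        have hle' : Module.finrank (ZMod p) ↥(W ⊔ hW) ≤ n := Submodule.finrank_le _
        omega
      · have hWle : W ≤ hW := by
          rw [← h0]; exact inf_le_right
        exact (Submodule.eq_of_le_of_finrank_eq hWle (by rw [hfr])).symm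
    apply hW1
    rw [eq_top_iff]
    intro v _
    by_cases hv : v = 0
    · rw [hv]; exact W.zero_mem
    · obtain ⟨c, hc, _⟩ := hreg w v hw0 hv
      rw [← hall c]
      exact ⟨w, hwW, hc⟩
  refine ⟨lt_of_le_of_ne hle (Ne.symm hne), ?_⟩
  intro hcomm
  exact hne (hAmax _ inferInstance hcomm hle)

end Cfsg.Agent.Lib.Helper4.NFCent
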