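import Mathlib
import Cfsg.Prelude.Def_Perm

set_option autoImplicit false

namespace Cfsg.Agent.Lib.Helper4.NearField
open Cfsg

section
variable {F : Type*} [Cfsg.NearField F]

theorem nf_rd (a b c : F) : (a + b) * c = a * c + b * c := NearField.right_distrib a b c

theorem nf_zero_mul (a : F) : (0 : F) * a = 0 := by
  have h := nf_rd (0 : F) 0 a
  rw [add_zero] at h
  have h2 : (0 : F) * a + 0 = 0 * a + 0 * a := by rw [add_zero]; exact h
  exact (add_left_cancel h2).symm

theorem nf_mul_zero (a : F) : a * (0 : F) = 0 := NearField.mul_zero a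

theorem nf_neg_mul (a c : F) : (-a) * c = -(a * c) := by
  have h := nf_rd (-a) a c
  rw [neg_add_cancel, nf_zero_mul] at h
  exact eq_neg_of_add_eq_zero_left h.symm

theorem nf_sub_mul (a b c : F) : (a - b) * c = a * c - b * c := by
  rw [sub_eq_add_neg, nf_rd, nf_neg_mul, ← sub_eq_add_neg]

theorem nf_nsmul_mul (n : ℕ) (a c : F) : (n • a) * c = n • (a * c) := by
  induction n with
  | zero => simp [nf_zero_mul]
  | succ k ih => rw [succ_nsmul, succ_nsmul, nf_rd, ih]

theorem nf_exists_mul_eq (x y : F) (hx : x ≠ 0) : ∃ a : F, x * a = y := by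
  obtain ⟨b, hb1, _⟩ := NearField.exists_inv x hx
  exact ⟨b * y, by rw [← mul_assoc, hb1, one_mul]⟩

theorem nf_mul_ne_zero (a c : F) (ha : a ≠ 0) (hc : c ≠ 0) : a * c ≠ 0 := by
  intro h
  obtain ⟨c', hc1, _⟩ := NearField.exists_inv c hc
  apply ha
  have : a * c * c' = 0 * c' := by rw [h]
  rwa [mul_assoc, hc1, mul_one, nf_zero_mul] at this

end

end Cfsg.Agent.Lib.Helper4.NearField
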