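import Mathlib
import Cfsg.Prelude.Def_SolvableStructure
import Cfsg.Agent.S0529

set_option autoImplicit false

namespace Cfsg.Agent.H1.OT

universe u v

/-- Piece A: in a finite supersolvable group the Sylow subgroup for the largest prime is normal. -/
theorem ot_ss_sylow_normal {G : Type u} [Group G] [Finite G] (hG : Cfsg.IsSupersolvable G)
    (p : ℕ) [Fact p.Prime] (hp : ∀ q : ℕ, q.Prime → q ∣ Nat.card G → q ≤ p) (P : Sylow p G) :
    (P : Subgroup G).Normal := by
  classical
  have hpp : p.Prime := Fact.out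
  obtain ⟨n, H, h0, hlast, hnorm, hstep, hmono⟩ := Cfsg.Agent.S0529.result hG
  -- ℕ-indexed version of the chain
  have hlt : ∀ i : ℕ, min i n < n + 1 := fun i => by omega
  set K : ℕ → Subgroup G := fun i => H ⟨min i n, hlt i⟩ with hK
  have hK0 : K 0 = ⊥ := by
    rw [← h0]; simp only [hK]; congr 1
  have hKn : K n = ⊤ := by
    rw [← hlast]; simp only [hK]; congr 1; apply Fin.ext; simp
  have hKnorm : ∀ i, (K i).Normal := fun i => hnorm _
  have hKc : ∀ i (hi : i < n), K i = H (Fin.castSucc ⟨i, hi⟩) := by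
    intro i hi; simp only [hK]; congr 1; apply Fin.ext; simp; omega
  have hKs : ∀ i (hi : i < n), K (i + 1) = H (Fin.succ ⟨i, hi⟩) := by
    intro i hi; simp only [hK]; congr 1; apply Fin.ext; simp; omega
  have hKstep : ∀ i, i < n → K i ≤ K (i + 1) ∧ ((K i).relIndex (K (i + 1))).Prime := by
    intro i hi; rw [hKc i hi, hKs i hi]; exact hstep ⟨i, hi⟩
  have hKmono : ∀ i j, i ≤ j → j < n →
      (K j).relIndex (K (j + 1)) ≤ (K i).relIndex (K (i + 1)) := by
    intro i j hij hj
    have hi : i < n := lt_of_le_of_lt hij hj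
    rw [hKc i hi, hKs i hi, hKc j hj, hKs j hj]
    exact hmono ⟨i, hi⟩ ⟨j, hj⟩ hij
  -- the largest index with a p-group
  set m := Nat.findGreatest (fun i => IsPGroup p (K i)) n with hm
  have hQ0 : IsPGroup p (K 0) := by rw [hK0]; exact IsPGroup.of_bot
  have hQm : IsPGroup p (K m) := Nat.findGreatest_spec (P := fun i => IsPGroup p (K i)) (Nat.zero_le n) hQ0
  have hmn : m ≤ n := Nat.findGreatest_le n
  -- Claim A
  have hA : ∀ j, m ≤ j → j < n → (K j).relIndex (K (j + 1)) ≠ p := by
    intro j hmj hjn hjp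
    have hmlt : m < n := lt_of_le_of_lt hmj hjn
    obtain ⟨hle, hprime⟩ := hKstep m hmlt
    have h1 : p ≤ (K m).relIndex (K (m + 1)) := hjp ▸ hKmono m j hmj hjn
    have h2 : (K m).relIndex (K (m + 1)) ≤ p :=
      hp _ hprime ((Subgroup.relIndex_dvd_card _ _).trans (Subgroup.card_subgroup_dvd_card _))
    have h3 : (K m).relIndex (K (m + 1)) = p := le_antisymm h2 h1
    have h4 : Nat.card (K m) * (K m).relIndex (K (m + 1)) = Nat.card (K (m + 1)) := by
      have := Subgroup.relIndex_mul_relIndex (⊥ : Subgroup G) (K m) (K (m + 1)) bot_le hle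
      rwa [Subgroup.relIndex_bot_left, Subgroup.relIndex_bot_left] at this
    obtain ⟨a, ha⟩ := IsPGroup.iff_card.mp hQm
    have h5 : IsPGroup p (K (m + 1)) := by
      apply IsPGroup.of_card (n := a + 1)
      rw [← h4, ha, h3, pow_succ]
    exact Nat.findGreatest_is_greatest (P := fun i => IsPGroup p (K i)) (Nat.lt_succ_self m) hmlt h5
  -- Claim B
  have hB : ∀ i, m ≤ i → i ≤ n → K m ≤ K i ∧ ¬ p ∣ (K m).relIndex (K i) := by
    intro i hmi
    induction i, hmi using Nat.le_induction with
    | base =>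
      intro _
      refine ⟨le_rfl, ?_⟩
      rw [Subgroup.relIndex_self]
      exact hpp.one_lt.ne' ∘ Nat.dvd_one.mp
    | succ i hmi ih =>
      intro hin
      have hi : i < n := hin
      obtain ⟨hle, hnd⟩ := ih hi.le
      obtain ⟨hle2, hprime⟩ := hKstep i hi
      refine ⟨hle.trans hle2, ?_⟩
      rw [← Subgroup.relIndex_mul_relIndex (K m) (K i) (K (i + 1)) hle hle2]
      intro hdvd
      rcases (Nat.Prime.dvd_mul hpp).mp hdvd with h | h
      · exact hnd h
      · exact hA i hmi hi ((Nat.prime_dvd_prime_iff_eq hpp hprime).mp h).symm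
  obtain ⟨-, hidx⟩ := hB n hmn le_rfl
  rw [hKn, Subgroup.relIndex_top_right] at hidx
  -- K m is a normal Sylow p-subgroup
  set Q : Sylow p G := hQm.toSylow hidx with hQ
  have hQn : (Q : Subgroup G).Normal := by
    rw [hQ, IsPGroup.toSylow_coe]; exact hKnorm m
  have huniq := Sylow.unique_of_normal Q hQn
  have : P = Q := Subsingleton.elim _ _
  rw [this]; exact hQn

end Cfsg.Agent.H1.OT
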