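import Mathlib

set_option autoImplicit false

namespace Cfsg.Agent.H1.OT

universe u v

/-- Piece D1: modulo a normal Sylow `p`-subgroup, the order of the image of `g` is the `p'`-part
of the order of `g`. -/
theorem ot_orderOf_mk {G : Type u} [Group G] [Finite G] (p : ℕ) [Fact p.Prime] (P : Sylow p G)
    [hP : (P : Subgroup G).Normal] (g : G) :
    orderOf (QuotientGroup.mk g : G ⧸ (P : Subgroup G)) = ordCompl[p] (orderOf g) := by
  have hpp : p.Prime := Fact.out
  set d := orderOf (QuotientGroup.mk g : G ⧸ (P : Subgroup G)) with hd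
  have hdn : d ∣ orderOf g := orderOf_map_dvd (QuotientGroup.mk' (P : Subgroup G)) g
  have hcop : ¬ p ∣ d := fun h => P.not_dvd_index (h.trans (by
    rw [Subgroup.index_eq_card]; exact orderOf_dvd_natCard _))
  have hfac : ordProj[p] (orderOf g) * ordCompl[p] (orderOf g) = orderOf g :=
    Nat.ordProj_mul_ordCompl_eq_self _ _
  have h1 : d ∣ ordCompl[p] (orderOf g) := by
    have hc : Nat.Coprime d (ordProj[p] (orderOf g)) :=
      Nat.Coprime.pow_right _ ((Nat.Prime.coprime_iff_not_dvd hpp).mpr hcop).symm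
    exact hc.dvd_of_dvd_mul_left (by rw [hfac]; exact hdn)
  have hgd : g ^ d ∈ (P : Subgroup G) := by
    rw [← QuotientGroup.eq_one_iff, QuotientGroup.mk_pow, hd]
    exact pow_orderOf_eq_one _
  obtain ⟨k, hk⟩ := (IsPGroup.iff_orderOf.mp P.isPGroup') ⟨g ^ d, hgd⟩
  have hk' : orderOf (g ^ d) = p ^ k := by
    rw [← hk]; exact (Subgroup.orderOf_mk _ _).symm
  have h2 : ordCompl[p] (orderOf g) ∣ d := by
    have h3 : orderOf g ∣ d * p ^ k := by
      apply orderOf_dvd_of_pow_eq_one
      rw [pow_mul, ← hk']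
      exact pow_orderOf_eq_one _
    have h4 : ordCompl[p] (orderOf g) ∣ d * p ^ k := (Nat.ordCompl_dvd _ _).trans h3
    have hc : Nat.Coprime (ordCompl[p] (orderOf g)) (p ^ k) :=
      ((Nat.coprime_ordCompl hpp (orderOf_pos g).ne').symm).pow_right k
    exact hc.dvd_of_dvd_mul_right h4
  exact Nat.dvd_antisymm h1 h2

end Cfsg.Agent.H1.OT
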