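import Mathlib
import Cfsg.Prelude.Def_Characters
import Cfsg.Agent.Lib.Helper4.Sylow
import Cfsg.Agent.Lib.Helper7.BrP6

/-!
# Simple groups of order 4080: the exceptional-character input (helper4)

A variant of helper7's `BrP.main` exposing the inner products with all `Ξ_ω`, and its
application to a simple group of order `4080`: an irreducible character of degree `16`
whose restriction to a Sylow `17`-subgroup has no trivial constituent.
-/

set_option autoImplicit false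
set_option linter.style.haveILetI false
set_option linter.unusedSectionVars false

namespace Cfsg.Agent.Lib.Helper4.Ord4080

open Cfsg Cfsg.Agent.Lib.helper3.Irr Cfsg.Agent.Lib.helper3.CharBasic
open Cfsg.Agent.Lib.helper3.IndFun Cfsg.Agent.Lib.helper3.CycTI
open Cfsg.Agent.Lib.Helper7.BrP
open scoped ComplexConjugate

section general

variable {G : Type*} [Group G] [Fintype G] (P : Subgroup G)

/-- helper7's `BrP.main`, keeping the inner products with all the `Ξ_ω`. -/
theorem main' {p : ℕ} (hp : p.Prime) (hP : Nat.card P = p)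
    (hC : ∀ x ∈ P, x ≠ 1 → ∀ g : G, g * x = x * g → g ∈ P) (e : ℕ)
    (hN : Nat.card (Subgroup.normalizer (P : Set G)) = p * e)
    (hbig : e * (e + 2) + 1 ≤ p) :
    ∃ (ε : ℤ) (Λ : IrrCharacter G) (z : IrrCharacter G → ℤ),
      (ε = 1 ∨ ε = -1) ∧ z (trivIrr G) = 1 ∧ z Λ = -ε ∧ Λ ≠ trivIrr G ∧
      ∑ ψ : IrrCharacter G, z ψ ^ 2 = (e : ℤ) + 1 ∧
      ∑ ψ : IrrCharacter G, (z ψ : ℂ) * (ψ : G → ℂ) 1 = 0 ∧
      ∀ ψ : IrrCharacter G, ψ ≠ Λ → z ψ ≠ 0 → ∀ ω : P →* ℂˣ, ω ≠ 1 →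
        classInner (Xi P ω) (ψ : G → ℂ) = z ψ := by
  classical
  letI : Fintype P := Fintype.ofFinite P
  haveI := finite_dual P hp hP
  letI : Fintype (Quotient (orbSetoid P)) := Fintype.ofFinite _
  have he : 0 < e := by
    rcases Nat.eq_zero_or_pos e with h | h
    · rw [h, mul_zero] at hN
      exact absurd hN Nat.card_pos.ne'
    · exact h
  have hcard : e + 2 ≤ Fintype.card (Quotient (orbSetoid P)) := by
    have h1 := card_orbits P hp hP hC e hN
    rw [Nat.card_eq_fintype_card] at h1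
    have h2 : e * (e + 2) ≤ e * Fintype.card (Quotient (orbSetoid P)) := by omega
    exact Nat.le_of_mul_le_mul_left h2 he
  haveI : Nonempty (Quotient (orbSetoid P)) := by
    rw [← Fintype.card_pos_iff]; omega
  obtain ⟨i₀⟩ := ‹Nonempty (Quotient (orbSetoid P))›
  obtain ⟨Ξ, hΞ⟩ : ∃ Ξ : Quotient (orbSetoid P) → (G → ℂ), ∀ q, Ξ q = Xi P (Quotient.out q).1 :=
    ⟨fun q => Xi P (Quotient.out q).1, fun _ => rfl⟩
  have hgram : ∀ i j, classInner (Ξ i) (Ξ j) = if i = j then (e : ℂ) + 1 else e := by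
    intro i j
    rw [hΞ, hΞ]
    have hg := gram_eq P hp hP hC e hN (Quotient.out i).2 (Quotient.out j).2
    by_cases hij : i = j
    · rw [if_pos hij]
      apply hg.1 1
      rw [cj_one_left, hij]
    · rw [if_neg hij]
      apply hg.2
      intro n₀ hn₀
      apply hij
      have : (orbSetoid P).r (Quotient.out i) (Quotient.out j) := ⟨n₀, hn₀⟩
      have h2 := Quotient.sound (s := orbSetoid P) this
      rwa [Quotient.out_eq, Quotient.out_eq] at h2
  obtain ⟨ε, Λ, z, hε, hdec, hztriv, hzΛ, hΛ, hnorm, hrest⟩ := core i₀ e Ξ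
    (fun i => by rw [hΞ]; exact Xi_isGeneralizedCharacter P _)
    (fun i => by rw [hΞ]; exact Xi_apply_one P _) hgram
    (fun i => by rw [hΞ]; exact classInner_Xi_one P (Quotient.out i).2) hcard
  refine ⟨ε, Λ, z, hε, hztriv, hzΛ, hΛ, hnorm, ?_, ?_⟩
  · have h1 := congrFun hdec 1
    rw [hΞ, Xi_apply_one] at h1
    simp only [Finset.sum_apply, Pi.smul_apply, smul_eq_mul] at h1
    exact h1.symm
  · intro ψ hψΛ hzψ ω hω
    have hψc := isCharacter_of_isIrrCharacter ψ.2
    obtain ⟨n, hn⟩ : (orbSetoid P).r (Quotient.out (Quotient.mk (orbSetoid P) ⟨ω, hω⟩)) ⟨ω, hω⟩ :=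
      Quotient.exact (s := orbSetoid P) (Quotient.out_eq _)
    have h1 := hrest ψ hψΛ hzψ (Quotient.mk (orbSetoid P) ⟨ω, hω⟩)
    rw [hΞ, hn, classInner_Xi_cj P n ω _ (isClassFunction_of_isCharacter hψc)] at h1
    exact h1

/-- If a character `ψ` has the same inner product `z` with all `Ξ_ω`, its degree is
`p * ⟨ψ_P, 1⟩ - (p - 1) * z` and `∑_{x ∈ P} ψ x = p * ⟨ψ_P, 1⟩`. -/
theorem restrict_data [Fintype P] {p : ℕ} (hp : p.Prime) (hP : Nat.card P = p)
    (ψ : G → ℂ) (hψ : IsCharacter G ψ) (z : ℤ)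
    (hz : ∀ ω : P →* ℂˣ, ω ≠ 1 → classInner (Xi P ω) ψ = z) (d : ℕ) (hd : ψ 1 = d) :
    ∃ a : ℕ, (d : ℤ) = p * a - (p - 1) * z ∧ ∑ x : P, ψ x = (p : ℂ) * a := by
  classical
  haveI := finite_dual P hp hP
  letI : Fintype (P →* ℂˣ) := Fintype.ofFinite _
  have hcomm : ∀ a b : P, a * b = b * a := fun a b =>
    Subtype.ext (comm_of_prime P hp hP a.2 b.2)
  have hψP : IsCharacter P (fun x : P => ψ x) := isCharacter_restrict hψ P
  have hnat : ∀ ω : P →* ℂˣ, ∃ k : ℕ, classInner (fun x : P => ψ x) (linFun ω) = k := fun ω =>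
    exists_nat_classInner_of_isCharacter hψP
      ⟨linFun ω, Cfsg.Agent.Lib.helper3.Pf4.isIrrCharacter_linFun ω⟩
  choose nn hnn using hnat
  have hnn' : ∀ ω : P →* ℂˣ, classInner (linFun ω) (fun x : P => ψ x) = nn ω := by
    intro ω
    rw [← classInner_conj_symm, hnn, Complex.conj_natCast]
  have hdec := Cfsg.Agent.Lib.helper3.Pf4.isCharacter_eq_sum_hom hcomm hψP
  have h1 := congrFun hdec 1
  simp only [Finset.sum_apply, Pi.smul_apply, smul_eq_mul, linFun_apply_one, mul_one, hnn] at h1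
  have h1' : ψ 1 = ∑ ω : P →* ℂˣ, (nn ω : ℂ) := h1
  have hrel : ∀ ω : P →* ℂˣ, ω ≠ 1 → (nn ω : ℤ) = (nn 1 : ℤ) - z := by
    intro ω hω
    have h2 := hz ω hω
    rw [classInner_Xi P ω ψ (isClassFunction_of_isCharacter hψ), hnn', hnn'] at h2
    have h3 : (((nn 1 : ℤ) - (nn ω : ℤ) : ℤ) : ℂ) = ((z : ℤ) : ℂ) := by
      push_cast
      exact h2
    have := Int.cast_injective h3
    linarith
  have hsum : (d : ℤ) = ∑ ω : P →* ℂˣ, (nn ω : ℤ) := by
    have h2 : ((d : ℤ) : ℂ) = ((∑ ω : P →* ℂˣ, (nn ω : ℤ) : ℤ) : ℂ) := by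
      push_cast
      rw [← hd, h1']
    exact Int.cast_injective h2
  rw [← Finset.add_sum_erase Finset.univ _ (Finset.mem_univ (1 : P →* ℂˣ)),
    Finset.sum_congr rfl (fun ω hω => hrel ω (Finset.ne_of_mem_erase hω)), Finset.sum_const,
    Finset.card_erase_of_mem (Finset.mem_univ _), Finset.card_univ, ← Nat.card_eq_fintype_card,
    card_dual P hp hP, nsmul_eq_mul] at hsum
  have hp1 : 1 ≤ p := hp.one_lt.le
  refine ⟨nn 1, ?_, ?_⟩
  · rw [hsum]
    push_cast [hp1]
    ring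
  · have h2 := hnn 1
    rw [classInner_apply, hP] at h2
    have h3 : ∑ g : P, ψ g * conj (linFun (1 : P →* ℂˣ) g) = ∑ g : P, ψ g := by
      apply Finset.sum_congr rfl
      intro g _
      rw [linFun_one_eq]
      simp
    rw [h3] at h2
    have hpC : (p : ℂ) ≠ 0 := by exact_mod_cast hp.pos.ne'
    field_simp at h2
    rw [h2]

end general

end Cfsg.Agent.Lib.Helper4.Ord4080
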