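import Mathlib
import Cfsg.Prelude.Def_Characters
import Cfsg.Agent.Lib.Helper4.Ord4080A
import Cfsg.Agent.Lib.helper3.DefectZero

/-!
# Simple groups of order 4080: the character of degree 16 (helper4)
-/

set_option autoImplicit false
set_option linter.style.haveILetI false
set_option linter.unusedSectionVars false

namespace Cfsg.Agent.Lib.Helper4.Ord4080

open Cfsg Cfsg.Agent.Lib.helper3.Irr Cfsg.Agent.Lib.helper3.CharBasic
open Cfsg.Agent.Lib.helper3.IndFun Cfsg.Agent.Lib.helper3.CycTI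
open Cfsg.Agent.Lib.Helper7.BrP
open scoped ComplexConjugate

universe u

set_option maxRecDepth 100000 in
theorem arith_aux : ∀ d ∈ Finset.range 4081, d ∣ 4080 → 1 < d →
    (d % 17 = 1 → d = 120) ∧ (d % 17 = 16 → d = 16) := by
  decide +kernel

section s4080

variable {G : Type u} [Group G] [Finite G] [IsSimpleGroup G]

theorem card_sylow17 (h : Nat.card G = 4080) [Fact (Nat.Prime 17)] (P : Sylow 17 G) :
    Nat.card (P : Subgroup G) = 17 := by
  have hG' : Nat.card G = 17 ^ 1 * 240 := by rw [h]; norm_num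
  have hm : ¬ 17 ∣ 240 := by norm_num
  simpa using Cfsg.Agent.Lib.Helper4.Sylow.card_sylow_of_card_eq hG' hm P

theorem card_sylow_seventeen (h : Nat.card G = 4080) [Fact (Nat.Prime 17)] :
    Nat.card (Sylow 17 G) = 120 := by
  have hG' : Nat.card G = 17 ^ 1 * 240 := by rw [h]; norm_num
  have hm : ¬ 17 ∣ 240 := by norm_num
  obtain ⟨P⟩ : Nonempty (Sylow 17 G) := inferInstance
  have hP := card_sylow17 h P
  have hdvd : Nat.card (Sylow 17 G) ∣ 240 :=
    Cfsg.Agent.Lib.Helper4.Sylow.card_sylow_dvd_of_card_eq hG' hm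
  have hmod : Nat.card (Sylow 17 G) ≡ 1 [MOD 17] := card_sylow_modEq_one 17 G
  have hne : Nat.card (Sylow 17 G) ≠ 1 :=
    Cfsg.Agent.Lib.Helper4.Sylow.card_sylow_ne_one_of_simple P (by rw [hP]; norm_num)
      (by rw [hP, h]; norm_num)
  have hle := Nat.le_of_dvd (by norm_num) hdvd
  unfold Nat.ModEq at hmod
  generalize Nat.card (Sylow 17 G) = n at *
  interval_cases n <;> omega

theorem card_normalizer_sylow17 (h : Nat.card G = 4080) [Fact (Nat.Prime 17)] (P : Sylow 17 G) :
    Nat.card (Subgroup.normalizer ((P : Subgroup G) : Set G)) = 17 * 2 := by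
  have hN := Cfsg.Agent.Lib.Helper4.Sylow.card_sylow_mul_card_normalizer P
  rw [card_sylow_seventeen h, h] at hN
  omega

theorem self_centralizing17 (h : Nat.card G = 4080) [Fact (Nat.Prime 17)] (P : Sylow 17 G) :
    ∀ x ∈ (P : Subgroup G), x ≠ 1 → ∀ g : G, g * x = x * g → g ∈ (P : Subgroup G) :=
  self_centralizing_of_simple P (card_sylow17 h P) 2 Nat.prime_two
    (card_normalizer_sylow17 h P) (by rw [h]; norm_num)

/-- the irreducible character of degree `16` -/
theorem exists_psi [Fintype G] (h : Nat.card G = 4080) [Fact (Nat.Prime 17)] (P : Sylow 17 G)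
    [Fintype (P : Subgroup G)] :
    ∃ ψ : IrrCharacter G, (ψ : G → ℂ) 1 = 16 ∧
      ∑ x : (P : Subgroup G), (ψ : G → ℂ) x = 0 ∧ ψ ≠ trivIrr G := by
  classical
  have hp17 : Nat.Prime 17 := by norm_num
  have hP := card_sylow17 h P
  have hC := self_centralizing17 h P
  have hN := card_normalizer_sylow17 h P
  have hperf := linear_eq_triv_of_simple (G := G) (by rw [h]; norm_num)
  obtain ⟨ε, Λ, z, hε, hztriv, hzΛ, hΛ, hnorm, hdeg, hin⟩ :=
    main' (P : Subgroup G) hp17 hP hC 2 hN (by norm_num)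
  rw [sum_split Λ hΛ, hztriv, hzΛ] at hnorm
  have hεsq : (-ε) ^ 2 = 1 := by rcases hε with h | h <;> rw [h] <;> norm_num
  have h1 : ∑ ψ : {ψ : IrrCharacter G // ψ ≠ trivIrr G ∧ ψ ≠ Λ}, z ψ ^ 2 = 1 := by
    rw [hεsq] at hnorm
    push_cast at hnorm
    linarith
  obtain ⟨a, ha, hrest⟩ := Cfsg.Agent.Lib.helper3.Irr.int_sq_sum_one
    (fun ψ : {ψ : IrrCharacter G // ψ ≠ trivIrr G ∧ ψ ≠ Λ} => z ψ) h1
  obtain ⟨d, hd1, hddvd, hdpos⟩ := Cfsg.Agent.Lib.helper3.Central.irr_degree_dvd_card a.1.2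
  obtain ⟨D, hD1, hDdvd, hDpos⟩ := Cfsg.Agent.Lib.helper3.Central.irr_degree_dvd_card Λ.2
  have hza : z a.1 ≠ 0 := by rcases ha with h | h <;> rw [h] <;> norm_num
  have hdgt : 1 < d := by
    rcases Nat.lt_or_ge 1 d with h | h
    · exact h
    · exfalso
      have hd : d = 1 := by omega
      rw [hd, Nat.cast_one] at hd1
      exact a.2.1 (hperf a.1 hd1)
  -- the degree equation
  have heq : 1 + z a.1 * d = ε * D := by
    rw [sum_split Λ hΛ, hztriv, hzΛ] at hdeg
    have h2 : ∑ ψ : {ψ : IrrCharacter G // ψ ≠ trivIrr G ∧ ψ ≠ Λ},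
        (z ψ : ℂ) * ((ψ : IrrCharacter G) : G → ℂ) 1 = (z a.1 : ℂ) * (a.1 : G → ℂ) 1 := by
      apply Fintype.sum_eq_single a
      intro c hc
      rw [hrest c hc, Int.cast_zero, zero_mul]
    rw [h2, hd1, hD1] at hdeg
    have h3 : ((trivIrr G : IrrCharacter G) : G → ℂ) 1 = 1 := rfl
    rw [h3] at hdeg
    push_cast at hdeg
    have h4 : ((1 + z a.1 * d - ε * D : ℤ) : ℂ) = ((0 : ℤ) : ℂ) := by
      push_cast
      linear_combination hdeg
    have := Int.cast_injective h4
    linarith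
  have hψc := isCharacter_of_isIrrCharacter a.1.2
  obtain ⟨n₁, hn₁, hsum⟩ := restrict_data (P : Subgroup G) hp17 hP (a.1 : G → ℂ) hψc (z a.1)
    (hin a.1 a.2.2 hza) d hd1
  rw [h] at hddvd hDdvd
  have hdle := Nat.le_of_dvd (by norm_num) hddvd
  have hDle := Nat.le_of_dvd (by norm_num) hDdvd
  have key := arith_aux d (Finset.mem_range.mpr (by omega)) hddvd hdgt
  push_cast at hn₁
  have hcase : z a.1 = -1 ∧ d = 16 := by
    rcases ha with hz1 | hz1
    · exfalso
      rw [hz1] at hn₁ heq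
      have hd120 : d = 120 := key.1 (by omega)
      subst hd120
      rcases hε with rfl | rfl
      · have : D = 121 := by omega
        subst this
        omega
      · omega
    · refine ⟨hz1, ?_⟩
      rw [hz1] at hn₁
      exact key.2 (by omega)
  obtain ⟨hz1, hd16⟩ := hcase
  subst hd16
  rw [hz1] at hn₁
  have hn0 : n₁ = 0 := by omega
  refine ⟨a.1, ?_, ?_, a.2.1⟩
  · rw [hd1]; norm_num
  · rw [hsum, hn0]
    simp

/-- a character of degree `16` vanishes on the elements of even order -/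
theorem psi_eq_zero [Fintype G] (h : Nat.card G = 4080) (ψ : IrrCharacter G)
    (hψ : (ψ : G → ℂ) 1 = 16) (x : G) (hx : 2 ∣ orderOf x) : (ψ : G → ℂ) x = 0 := by
  obtain ⟨n, ρ, hirr, hρ⟩ := ψ.2
  haveI := hirr
  haveI : Fact (Nat.Prime 2) := ⟨Nat.prime_two⟩
  have hn : n = 16 := by
    have h1 : ρ.character 1 = (n : ℂ) := by
      rw [Representation.char_one]
      simp
    rw [hρ, hψ] at h1
    have : ((16 : ℕ) : ℂ) = (n : ℂ) := by rw [← h1]; norm_num
    exact (Nat.cast_injective this).symm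
  have := Cfsg.Agent.Lib.helper3.BrauerInd.character_eq_zero_of_defect_zero ρ 2 4
    (by rw [h]; norm_num) (by rw [Module.finrank_fin_fun, hn]; norm_num) x hx
  rw [hρ] at this
  exact this

end s4080

end Cfsg.Agent.Lib.Helper4.Ord4080
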