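import Mathlib
import Cfsg.Prelude.Def_Characters
import Cfsg.Agent.Lib.Helper4.Ord4080B

/-!
# Simple groups of order 4080: at most 255 elements of even order (helper4)
-/

set_option autoImplicit false
set_option linter.style.haveILetI false
set_option linter.unusedSectionVars false

namespace Cfsg.Agent.Lib.Helper4.Ord4080

open Cfsg Cfsg.Agent.Lib.helper3.Irr Cfsg.Agent.Lib.helper3.CharBasic
open Cfsg.Agent.Lib.helper3.IndFun
open Cfsg.Agent.Lib.Helper7.BrP
open scoped ComplexConjugate Classical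

universe u

section s4080

variable {G : Type u} [Group G] [Fintype G] [IsSimpleGroup G]

/-- nonidentity elements of a Sylow `17`-subgroup -/
theorem key17 (h : Nat.card G = 4080) [Fact (Nat.Prime 17)] (Q : Sylow 17 G) (g : G)
    (hg : g ∈ Q) (hg1 : g ≠ 1) : orderOf g = 17 ∧ Subgroup.zpowers g = (Q : Subgroup G) := by
  have h1 : g ^ 17 = 1 := by
    have := pow_card_eq_one' (G := ↥(Q : Subgroup G)) (x := ⟨g, hg⟩)
    rw [card_sylow17 h Q] at this
    exact congrArg Subtype.val this
  have h2 : orderOf g = 17 := by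
    have h3 : orderOf g ∣ 17 := orderOf_dvd_of_pow_eq_one h1
    rcases (Nat.dvd_prime (by norm_num : Nat.Prime 17)).1 h3 with h4 | h4
    · exact absurd (orderOf_eq_one_iff.1 h4) hg1
    · exact h4
  refine ⟨h2, ?_⟩
  apply Subgroup.eq_of_le_of_card_ge
  · rw [Subgroup.zpowers_le]; exact hg
  · rw [Nat.card_zpowers, h2, card_sylow17 h Q]

/-- an element of order `17` lies in a Sylow `17`-subgroup -/
theorem exists_sylow17 (h : Nat.card G = 4080) [Fact (Nat.Prime 17)] (g : G)
    (hg : orderOf g = 17) : ∃ Q : Sylow 17 G, g ∈ Q := by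
  have hpg : IsPGroup 17 (Subgroup.zpowers g) := by
    apply IsPGroup.of_card (n := 1)
    rw [Nat.card_zpowers, hg, pow_one]
  obtain ⟨Q, hQ⟩ := hpg.exists_le_sylow
  exact ⟨Q, hQ (Subgroup.mem_zpowers g)⟩

omit [Fintype G] [IsSimpleGroup G] in
theorem conj_mem_smul {p : ℕ} [Fact p.Prime] (P : Sylow p G) (x y : G) (hy : y ∈ P) :
    x * y * x⁻¹ ∈ (x • P : Sylow p G) := by
  have := Subgroup.smul_mem_pointwise_smul y (MulAut.conj x) (P : Subgroup G) hy
  exact this

/-- sums over the elements of order `17` -/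
theorem sum_T {M : Type*} [AddCommMonoid M] (h : Nat.card G = 4080) [Fact (Nat.Prime 17)]
    (P : Sylow 17 G) (f : G → M) (hf : ∀ g x : G, f (x * g * x⁻¹) = f g) :
    ∑ g ∈ Finset.univ.filter (fun g : G => orderOf g = 17), f g
      = 120 • ∑ y ∈ Finset.univ.filter (fun y : G => y ∈ P ∧ y ≠ 1), f y := by
  have : Fintype (Sylow 17 G) := Fintype.ofFinite _
  let t : Sylow 17 G → Finset G := fun Q => Finset.univ.filter (fun g => g ∈ Q ∧ g ≠ 1)
  have hdisj : ((Finset.univ : Finset (Sylow 17 G)) : Set (Sylow 17 G)).PairwiseDisjoint t := by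
    intro Q _ Q' _ hQQ'
    rw [Function.onFun, Finset.disjoint_left]
    intro g hgQ hgQ'
    simp only [t, Finset.mem_filter, Finset.mem_univ, true_and] at hgQ hgQ'
    apply hQQ'
    apply Sylow.ext
    rw [← (key17 h Q g hgQ.1 hgQ.2).2, ← (key17 h Q' g hgQ'.1 hgQ.2).2]
  have hT : Finset.univ.filter (fun g : G => orderOf g = 17) = Finset.univ.biUnion t := by
    ext g
    simp only [t, Finset.mem_filter, Finset.mem_univ, true_and, Finset.mem_biUnion]
    constructor
    · intro hg
      obtain ⟨Q, hQ⟩ := exists_sylow17 h g hg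
      refine ⟨Q, hQ, ?_⟩
      intro h1
      rw [h1, orderOf_one] at hg
      omega
    · rintro ⟨Q, hQ, hg1⟩
      exact (key17 h Q g hQ hg1).1
  rw [hT, Finset.sum_biUnion hdisj]
  have hQ : ∀ Q : Sylow 17 G, ∑ g ∈ t Q, f g = ∑ y ∈ t P, f y := by
    intro Q
    obtain ⟨x, hx⟩ := MulAction.exists_smul_eq G P Q
    have hmem : ∀ y : G, y ∈ P → x * y * x⁻¹ ∈ Q := by
      intro y hy
      rw [← hx]
      exact conj_mem_smul P x y hy
    have hmem' : ∀ g : G, g ∈ Q → x⁻¹ * g * x ∈ P := by
      intro g hg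
      have h1 := conj_mem_smul Q x⁻¹ g hg
      rw [← hx, inv_smul_smul, inv_inv] at h1
      exact h1
    symm
    apply Finset.sum_nbij' (fun y => x * y * x⁻¹) (fun g => x⁻¹ * g * x)
    · intro y hy
      simp only [t, Finset.mem_filter, Finset.mem_univ, true_and] at hy ⊢
      refine ⟨hmem y hy.1, ?_⟩
      intro h1
      apply hy.2
      calc y = x⁻¹ * (x * y * x⁻¹) * x := by group
        _ = 1 := by rw [h1]; group
    · intro g hg
      simp only [t, Finset.mem_filter, Finset.mem_univ, true_and] at hg ⊢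
      refine ⟨hmem' g hg.1, ?_⟩
      intro h1
      apply hg.2
      calc g = x * (x⁻¹ * g * x) * x⁻¹ := by group
        _ = 1 := by rw [h1]; group
    · intro y _
      group
    · intro g _
      group
    · intro y _
      exact (hf y x).symm
  rw [Finset.sum_congr rfl (fun Q _ => hQ Q), Finset.sum_const, Finset.card_univ,
    ← Nat.card_eq_fintype_card, card_sylow_seventeen h]

omit [IsSimpleGroup G] in
/-- splitting a sum over the group according to the order of the elements -/
theorem sum_split (f : G → ℝ) :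
    ∑ g : G, f g = f 1 + ∑ g ∈ Finset.univ.filter (fun g : G => orderOf g = 17), f g
      + ∑ g ∈ Finset.univ.filter (fun g : G => 2 ∣ orderOf g), f g
      + ∑ g ∈ Finset.univ.filter (fun g : G => ¬ 2 ∣ orderOf g ∧ orderOf g ≠ 17 ∧ g ≠ 1), f g := by
  rw [← Finset.sum_filter_add_sum_filter_not Finset.univ (fun g : G => 2 ∣ orderOf g) f,
    ← Finset.sum_filter_add_sum_filter_not (Finset.univ.filter (fun g : G => ¬ 2 ∣ orderOf g))
      (fun g : G => orderOf g = 17) f,
    ← Finset.sum_filter_add_sum_filter_not ((Finset.univ.filter (fun g : G => ¬ 2 ∣ orderOf g)).filter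
      (fun g => ¬ orderOf g = 17)) (fun g : G => g = 1) f]
  simp only [Finset.filter_filter]
  have e1 : Finset.univ.filter (fun g : G => ¬ 2 ∣ orderOf g ∧ orderOf g = 17)
      = Finset.univ.filter (fun g => orderOf g = 17) := by
    ext g
    simp only [Finset.mem_filter, Finset.mem_univ, true_and, and_iff_right_iff_imp]
    intro h
    rw [h]
    norm_num
  have e2 : Finset.univ.filter (fun g : G => (¬ 2 ∣ orderOf g ∧ ¬ orderOf g = 17) ∧ g = 1)
      = {1} := by
    ext g
    simp only [Finset.mem_filter, Finset.mem_univ, true_and, Finset.mem_singleton]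
    constructor
    · exact fun h => h.2
    · intro h
      rw [h, orderOf_one]
      norm_num
  have e3 : Finset.univ.filter (fun g : G => (¬ 2 ∣ orderOf g ∧ ¬ orderOf g = 17) ∧ ¬ g = 1)
      = Finset.univ.filter (fun g : G => ¬ 2 ∣ orderOf g ∧ orderOf g ≠ 17 ∧ g ≠ 1) := by
    ext g
    simp only [Finset.mem_filter, Finset.mem_univ, true_and, ne_eq]
    tauto
  rw [e1, e2, e3, Finset.sum_singleton]
  ring

/-- **At most `255` elements of even order.** -/
theorem card_even_le (h : Nat.card G = 4080) :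
    (Finset.univ.filter (fun g : G => 2 ∣ orderOf g)).card ≤ 255 := by
  haveI : Fact (Nat.Prime 17) := ⟨by norm_num⟩
  obtain ⟨P⟩ : Nonempty (Sylow 17 G) := inferInstance
  obtain ⟨ψ, hψ1, hψP, hψne⟩ := exists_psi h P
  obtain ⟨a, ha⟩ : ∃ a : G → ℝ, a = fun g => ((ψ : G → ℂ) g).re := ⟨_, rfl⟩
  obtain ⟨n, hn⟩ : ∃ n : G → ℝ, n = fun g => Complex.normSq ((ψ : G → ℂ) g) := ⟨_, rfl⟩
  have hψc := isCharacter_of_isIrrCharacter ψ.2
  have hψcf : ∀ g x : G, (ψ : G → ℂ) (x * g * x⁻¹) = (ψ : G → ℂ) g :=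
    isClassFunction_of_isCharacter hψc
  have han : ∀ g, a g ^ 2 ≤ n g := by
    intro g
    rw [ha, hn]
    simp only [Complex.normSq_apply]
    nlinarith [mul_self_nonneg ((ψ : G → ℂ) g).im]
  have hGC : (Nat.card G : ℂ) ≠ 0 := by rw [h]; norm_num
  -- global sums
  have hsum0 : ∑ g : G, a g = 0 := by
    have h1 : (ψ : G → ℂ) ≠ ((trivIrr G : IrrCharacter G) : G → ℂ) := fun h2 =>
      hψne (Subtype.ext h2)
    have h2 := irr_classInner_eq_zero ψ.2 (trivIrr G).2 h1
    rw [classInner_apply] at h2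
    have h3 : ∑ g : G, (ψ : G → ℂ) g * conj (((trivIrr G : IrrCharacter G) : G → ℂ) g)
        = ∑ g : G, (ψ : G → ℂ) g := by
      apply Finset.sum_congr rfl
      intro g _
      have : ((trivIrr G : IrrCharacter G) : G → ℂ) g = 1 := rfl
      rw [this, map_one, mul_one]
    rw [h3] at h2
    have h4 : ∑ g : G, (ψ : G → ℂ) g = 0 := by
      rcases mul_eq_zero.mp h2 with h5 | h5
      · exact absurd (inv_eq_zero.mp h5) hGC
      · exact h5
    have h5 := congrArg Complex.re h4
    rw [Complex.re_sum] at h5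
    rw [ha]
    simpa using h5
  have hsum1 : ∑ g : G, n g = 4080 := by
    have h2 := irr_classInner_self ψ.2
    rw [classInner_apply] at h2
    have h3 : ∑ g : G, (ψ : G → ℂ) g * conj ((ψ : G → ℂ) g) = ((∑ g : G, n g : ℝ) : ℂ) := by
      rw [Complex.ofReal_sum]
      apply Finset.sum_congr rfl
      intro g _
      rw [hn, Complex.mul_conj]
    rw [h3, h] at h2
    have h4 : ((∑ g : G, n g : ℝ) : ℂ) = ((4080 : ℝ) : ℂ) := by
      have h5 : ((4080 : ℕ) : ℂ) ≠ 0 := by norm_num
      field_simp at h2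
      rw [h2]
      norm_num
    exact Complex.ofReal_injective h4
  -- values at 1 and on elements of even order
  have ha1 : a 1 = 16 := by rw [ha]; simp only; rw [hψ1]; norm_num
  have hn1 : n 1 = 256 := by rw [hn]; simp only; rw [hψ1]; norm_num
  have hE : ∀ g ∈ Finset.univ.filter (fun g : G => 2 ∣ orderOf g), (ψ : G → ℂ) g = 0 := by
    intro g hg
    rw [Finset.mem_filter] at hg
    exact psi_eq_zero h ψ hψ1 g hg.2
  have haE : ∑ g ∈ Finset.univ.filter (fun g : G => 2 ∣ orderOf g), a g = 0 := by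
    apply Finset.sum_eq_zero
    intro g hg
    rw [ha]; simp only; rw [hE g hg]; simp
  have hnE : ∑ g ∈ Finset.univ.filter (fun g : G => 2 ∣ orderOf g), n g = 0 := by
    apply Finset.sum_eq_zero
    intro g hg
    rw [hn]; simp only; rw [hE g hg]; simp
  -- the Sylow 17-subgroup
  obtain ⟨PS, hPS⟩ : ∃ PS, PS = Finset.univ.filter (fun y : G => y ∈ P ∧ y ≠ 1) := ⟨_, rfl⟩
  have hPScard : PS.card = 16 := by
    have h1 : PS = (Finset.univ.filter (fun g : G => g ∈ P)).erase 1 := by
      rw [hPS]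
      ext g
      simp only [Finset.mem_filter, Finset.mem_univ, true_and, Finset.mem_erase]
      tauto
    rw [h1, Finset.card_erase_of_mem (by simp [one_mem])]
    have h2 : (Finset.univ.filter (fun g : G => g ∈ P)).card = 17 := by
      have h3 := card_sylow17 h P
      rw [Nat.card_eq_fintype_card, Fintype.card_subtype] at h3
      convert h3 using 2
      ext x
      simp only [Finset.mem_filter, Finset.mem_univ, true_and]
      exact Iff.rfl
    rw [h2]
  have hPSsum : ∑ y ∈ PS, (ψ : G → ℂ) y = -16 := by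
    have h1 : PS = (Finset.univ.filter (fun g : G => g ∈ P)).erase 1 := by
      rw [hPS]
      ext g
      simp only [Finset.mem_filter, Finset.mem_univ, true_and, Finset.mem_erase]
      tauto
    have h2 : ∑ y ∈ Finset.univ.filter (fun g : G => g ∈ P), (ψ : G → ℂ) y = 0 := by
      rw [← hψP]
      exact Finset.sum_subtype (Finset.univ.filter (fun g : G => g ∈ P))
        (by intro x; simp only [Finset.mem_filter, Finset.mem_univ, true_and]; exact Iff.rfl)
        (ψ : G → ℂ)
    have h3 := Finset.add_sum_erase (Finset.univ.filter (fun g : G => g ∈ P)) (ψ : G → ℂ)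
      (by simp [one_mem] : (1 : G) ∈ Finset.univ.filter (fun g : G => g ∈ P))
    rw [h2, hψ1, ← h1] at h3
    linear_combination h3
  have haPS : ∑ y ∈ PS, a y = -16 := by
    have h5 := congrArg Complex.re hPSsum
    rw [Complex.re_sum] at h5
    rw [ha]
    simpa using h5
  have hnPS : 16 ≤ ∑ y ∈ PS, n y := by
    have h1 := sq_sum_le_card_mul_sum_sq (s := PS) (f := a)
    rw [haPS, hPScard] at h1
    have h2 : ∑ y ∈ PS, a y ^ 2 ≤ ∑ y ∈ PS, n y := Finset.sum_le_sum (fun y _ => han y)
    push_cast at h1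
    nlinarith
  -- the elements of order 17
  have haT : ∑ g ∈ Finset.univ.filter (fun g : G => orderOf g = 17), a g = -1920 := by
    rw [sum_T h P a (fun g x => by rw [ha]; simp only; rw [hψcf]), ← hPS, haPS]
    norm_num
  have hnT : 1920 ≤ ∑ g ∈ Finset.univ.filter (fun g : G => orderOf g = 17), n g := by
    rw [sum_T h P n (fun g x => by rw [hn]; simp only; rw [hψcf]), ← hPS]
    rw [nsmul_eq_mul]
    push_cast
    nlinarith
  have hcT : (Finset.univ.filter (fun g : G => orderOf g = 17)).card = 1920 := by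
    have h1 := sum_T h P (fun _ : G => (1 : ℕ)) (fun _ _ => rfl)
    rw [← hPS] at h1
    simp only [Finset.sum_const, smul_eq_mul, mul_one] at h1
    rw [h1, hPScard]
  -- the remaining elements
  obtain ⟨R, hR⟩ : ∃ R, R = Finset.univ.filter
      (fun g : G => ¬ 2 ∣ orderOf g ∧ orderOf g ≠ 17 ∧ g ≠ 1) := ⟨_, rfl⟩
  have hsa := sum_split a
  have hsn := sum_split n
  rw [← hR] at hsa hsn
  rw [hsum0, ha1, haT, haE] at hsa
  rw [hsum1, hn1, hnE] at hsn
  have haR : ∑ g ∈ R, a g = 1904 := by linarith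
  have hnR : ∑ g ∈ R, n g ≤ 1904 := by linarith
  have hRcard : (1904 : ℝ) ≤ R.card := by
    have h1 := sq_sum_le_card_mul_sum_sq (s := R) (f := a)
    rw [haR] at h1
    have h2 : ∑ y ∈ R, a y ^ 2 ≤ ∑ y ∈ R, n y := Finset.sum_le_sum (fun y _ => han y)
    have h3 : (0 : ℝ) ≤ R.card := Nat.cast_nonneg _
    nlinarith
  have hRcard' : 1904 ≤ R.card := by exact_mod_cast hRcard
  -- counting
  have hs1 := sum_split (G := G) (fun _ => (1 : ℝ))
  rw [← hR] at hs1
  simp only [Finset.sum_const, nsmul_eq_mul, mul_one, Finset.card_univ] at hs1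
  rw [hcT, ← Nat.card_eq_fintype_card, h] at hs1
  have hs2 : ((Finset.univ.filter (fun g : G => 2 ∣ orderOf g)).card : ℝ) ≤ 255 := by
    push_cast at hs1
    linarith
  exact_mod_cast hs2

end s4080

end Cfsg.Agent.Lib.Helper4.Ord4080
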