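import Mathlib
import Cfsg.Agent.Lib.Helper4.Ord4080C
import Cfsg.Agent.H9.Ord504B

/-!
# Simple groups of order 4080: involutions (helper4)
-/

set_option autoImplicit false
set_option linter.style.haveILetI false
set_option linter.unusedSectionVars false

namespace Cfsg.Agent.Lib.Helper4.Ord4080

open Cfsg Cfsg.Agent.Lib.Helper7.BrP
open scoped Classical

universe u

section s4080

variable {G : Type u} [Group G] [Finite G] [IsSimpleGroup G]

/-- an element of the normalizer of a Sylow `17`-subgroup outside it is an involution inverting it -/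
theorem inverting (h : Nat.card G = 4080) [Fact (Nat.Prime 17)] (Q : Sylow 17 G) (g : G)
    (hgN : g ∈ Subgroup.normalizer ((Q : Subgroup G) : Set G)) (hgQ : g ∉ Q) (y : G) (hy : y ∈ Q) :
    g * y * g⁻¹ = y⁻¹ ∧ g * g = 1 := by
  have hp17 : Nat.Prime 17 := by norm_num
  have hQc := card_sylow17 h Q
  have hab : ∀ a b : G, a ∈ Q → b ∈ Q → a * b = b * a := fun a b ha hb =>
    comm_of_prime (Q : Subgroup G) hp17 hQc ha hb
  have hsc := self_centralizing17 h Q
  have hle : (Q : Subgroup G) ≤ Subgroup.normalizer ((Q : Subgroup G) : Set G) :=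
    Subgroup.le_normalizer
  have hidx : ((Q : Subgroup G).subgroupOf (Subgroup.normalizer ((Q : Subgroup G) : Set G))).index
      = 2 := by
    have h1 := Cfsg.Agent.H9.Ord504.card_mul_relIndex_of_le hle
    rw [hQc, card_normalizer_sylow17 h Q] at h1
    have h2 : (Q : Subgroup G).relIndex (Subgroup.normalizer ((Q : Subgroup G) : Set G)) = 2 := by
      omega
    exact h2
  have hgg : g * g ∈ Q := by
    have h1 := Subgroup.mul_self_mem_of_index_two hidx ⟨g, hgN⟩
    rw [Subgroup.mem_subgroupOf] at h1
    exact h1
  have hgg1 : g * g = 1 := by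
    by_contra hne
    apply hgQ
    apply hsc (g * g) hgg hne g
    group
  refine ⟨?_, hgg1⟩
  have hc : g * y * g⁻¹ ∈ Q := (Subgroup.mem_normalizer_iff.mp hgN y).mp hy
  have hginv : g⁻¹ = g := by
    calc g⁻¹ = g⁻¹ * (g * g) := by rw [hgg1, mul_one]
      _ = g := by group
  have hw : y * (g * y * g⁻¹) = 1 := by
    by_contra hne
    apply hgQ
    apply hsc (y * (g * y * g⁻¹)) (mul_mem hy hc) hne g
    have h1 : g * (y * (g * y * g⁻¹)) = (g * y * g⁻¹) * (g * (g * y * g⁻¹) * g⁻¹) * g := by group
    have h2 : g * (g * y * g⁻¹) * g⁻¹ = y := by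
      rw [hginv]
      calc g * (g * y * g) * g = (g * g) * y * (g * g) := by group
        _ = y := by rw [hgg1, one_mul, mul_one]
    rw [h1, h2, hab _ _ hc hy]
  calc g * y * g⁻¹ = y⁻¹ * (y * (g * y * g⁻¹)) := by group
    _ = y⁻¹ := by rw [hw, mul_one]

/-- every element of order `17` is inverted by at least `17` involutions -/
theorem card_inverting [Fintype G] (h : Nat.card G = 4080) (y : G) (hy : orderOf y = 17) :
    17 ≤ (Finset.univ.filter (fun s : G => orderOf s = 2 ∧ s * y * s⁻¹ = y⁻¹)).card := by
  haveI : Fact (Nat.Prime 17) := ⟨by norm_num⟩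
  obtain ⟨Q, hQ⟩ := exists_sylow17 h y hy
  obtain ⟨N, hN⟩ : ∃ N, N = Subgroup.normalizer ((Q : Subgroup G) : Set G) := ⟨_, rfl⟩
  have hle : (Q : Subgroup G) ≤ N := by rw [hN]; exact Subgroup.le_normalizer
  have hsub : Finset.univ.filter (fun g : G => g ∈ N) \ Finset.univ.filter (fun g : G => g ∈ Q)
      ⊆ Finset.univ.filter (fun s : G => orderOf s = 2 ∧ s * y * s⁻¹ = y⁻¹) := by
    intro g hg
    simp only [Finset.mem_sdiff, Finset.mem_filter, Finset.mem_univ, true_and] at hg ⊢
    have h1 := inverting h Q g (by rw [← hN]; exact hg.1) hg.2 y hQ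
    refine ⟨?_, h1.1⟩
    apply orderOf_eq_prime
    · rw [pow_two]; exact h1.2
    · intro h2
      apply hg.2
      rw [h2]
      exact one_mem _
  have hcN : (Finset.univ.filter (fun g : G => g ∈ N)).card = 34 := by
    have h3 := card_normalizer_sylow17 h Q
    rw [← hN, Nat.card_eq_fintype_card, Fintype.card_subtype] at h3
    convert h3 using 2
  have hcQ : (Finset.univ.filter (fun g : G => g ∈ Q)).card = 17 := by
    have h3 := card_sylow17 h Q
    rw [Nat.card_eq_fintype_card, Fintype.card_subtype] at h3
    convert h3 using 2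
    ext x
    simp only [Finset.mem_filter, Finset.mem_univ, true_and]
    exact Iff.rfl
  have hQN : Finset.univ.filter (fun g : G => g ∈ Q) ⊆ Finset.univ.filter (fun g : G => g ∈ N) := by
    intro g hg
    simp only [Finset.mem_filter, Finset.mem_univ, true_and] at hg ⊢
    exact hle hg
  have h4 := Finset.card_le_card hsub
  rw [Finset.card_sdiff_of_subset hQN, hcN, hcQ] at h4
  exact h4

/-- there are at least `181` involutions -/
theorem card_involutions_ge [Fintype G] (h : Nat.card G = 4080) :
    181 ≤ (Finset.univ.filter (fun s : G => orderOf s = 2)).card := by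
  haveI : Fact (Nat.Prime 17) := ⟨by norm_num⟩
  obtain ⟨P⟩ : Nonempty (Sylow 17 G) := inferInstance
  obtain ⟨T, hT⟩ : ∃ T, T = Finset.univ.filter (fun g : G => orderOf g = 17) := ⟨_, rfl⟩
  obtain ⟨I, hI⟩ : ∃ I, I = Finset.univ.filter (fun s : G => orderOf s = 2) := ⟨_, rfl⟩
  rw [← hI]
  have hcT : T.card = 1920 := by
    have h1 := sum_T h P (fun _ : G => (1 : ℕ)) (fun _ _ => rfl)
    simp only [Finset.sum_const, smul_eq_mul, mul_one] at h1
    rw [hT, h1]
    have h2 : (Finset.univ.filter (fun y : G => y ∈ P ∧ y ≠ 1)).card = 16 := by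
      have h1 : Finset.univ.filter (fun y : G => y ∈ P ∧ y ≠ 1)
          = (Finset.univ.filter (fun g : G => g ∈ P)).erase 1 := by
        ext g
        simp only [Finset.mem_filter, Finset.mem_univ, true_and, Finset.mem_erase]
        tauto
      rw [h1, Finset.card_erase_of_mem (by simp [one_mem])]
      have h2 : (Finset.univ.filter (fun g : G => g ∈ P)).card = 17 := by
        have h3 := card_sylow17 h P
        rw [Nat.card_eq_fintype_card, Fintype.card_subtype] at h3
        convert h3 using 2
        ext x
        simp only [Finset.mem_filter, Finset.mem_univ, true_and]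
        exact Iff.rfl
      rw [h2]
    rw [h2]
  have key := Finset.card_nsmul_le_card_nsmul (s := T) (t := I) (m := 17) (n := I.card)
    (fun (y s : G) => s * y * s⁻¹ = y⁻¹)
    (by
      intro y hy
      rw [hT, Finset.mem_filter] at hy
      have h1 := card_inverting h y hy.2
      unfold Finset.bipartiteAbove
      rw [hI, Finset.filter_filter]
      exact h1)
    (by
      intro s hs
      unfold Finset.bipartiteBelow
      apply Finset.card_le_card_of_injOn (fun y => s * y)
      · intro y hy
        simp only [Finset.coe_filter] at hy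
        rw [hI] at hs ⊢
        simp only [Finset.coe_filter, Finset.mem_filter, Finset.mem_univ, true_and,
          Set.mem_setOf_eq] at hs ⊢
        have hs2 : s * s = 1 := by rw [← pow_two, ← hs]; exact pow_orderOf_eq_one s
        apply orderOf_eq_prime
        · rw [pow_two]
          calc s * y * (s * y) = (s * y * s⁻¹) * (s * s) * y := by group
            _ = 1 := by rw [hy.2, hs2]; group
        · intro h2
          have h3 : y = s⁻¹ := by
            calc y = s⁻¹ * (s * y) := by group
              _ = s⁻¹ := by rw [h2, mul_one]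
          have h4 : orderOf y = 17 := by
            have := hy.1
            rw [hT, Finset.mem_filter] at this
            exact this.2
          rw [h3, orderOf_inv, hs] at h4
          omega
      · intro y₁ _ y₂ _ h12
        exact mul_left_cancel h12)
  rw [hcT] at key
  simp only [smul_eq_mul] at key
  by_contra hlt
  push_neg at hlt
  have : I.card ≤ 180 := by omega
  nlinarith

end s4080

end Cfsg.Agent.Lib.Helper4.Ord4080
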