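import Mathlib
import Cfsg.Agent.Lib.Helper4.Ord4080D

/-!
# Simple groups of order 4080: all elements of even order are conjugate involutions (helper4)
-/

set_option autoImplicit false
set_option linter.style.haveILetI false
set_option linter.unusedSectionVars false

namespace Cfsg.Agent.Lib.Helper4.Ord4080

open Cfsg Cfsg.Agent.Lib.Helper7.BrP
open scoped Classical

universe u

set_option maxRecDepth 100000 in
theorem arith240 : ∀ c ∈ Finset.range 241, c ∣ 240 → 16 ≤ c → c ≠ 16 → 3 ∣ c ∨ 5 ∣ c := by
  decide +kernel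

section s4080

variable {G : Type u} [Group G] [Finite G] [IsSimpleGroup G]

/-- the centralizer of an involution has order at least `16` dividing `240` -/
theorem card_centralizer_involution [Fintype G] (h : Nat.card G = 4080) (s : G)
    (hs : orderOf s = 2) :
    16 ≤ Nat.card (Subgroup.centralizer ({s} : Set G)) ∧
      Nat.card (Subgroup.centralizer ({s} : Set G)) ∣ 240 := by
  haveI : Fact (Nat.Prime 17) := ⟨by norm_num⟩
  have hcl := Cfsg.Agent.H9.Ord504.card_centralizer_mul_card_conj s
  rw [h] at hcl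
  have hE := card_even_le h
  have hsub : Finset.univ.filter (fun x : G => ∃ g : G, g * s * g⁻¹ = x)
      ⊆ Finset.univ.filter (fun g : G => 2 ∣ orderOf g) := by
    intro x hx
    simp only [Finset.mem_filter, Finset.mem_univ, true_and] at hx ⊢
    obtain ⟨g, rfl⟩ := hx
    have h1 : orderOf (g * s * g⁻¹) = orderOf s := by
      have := orderOf_injective (MulAut.conj g).toMonoidHom (MulAut.conj g).injective s
      simpa using this
    rw [h1, hs]
  have hle : Nat.card {x : G // ∃ g : G, g * s * g⁻¹ = x} ≤ 255 := by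
    rw [Nat.card_eq_fintype_card, Fintype.card_subtype]
    exact le_trans (Finset.card_le_card hsub) hE
  constructor
  · by_contra hlt
    push_neg at hlt
    have : Nat.card (Subgroup.centralizer ({s} : Set G)) ≤ 15 := by omega
    nlinarith
  · have hdvd : Nat.card (Subgroup.centralizer ({s} : Set G)) ∣ 17 * 240 := by
      have := Subgroup.card_subgroup_dvd_card (Subgroup.centralizer ({s} : Set G))
      rw [h] at this
      exact this
    have h17 : ¬ 17 ∣ Nat.card (Subgroup.centralizer ({s} : Set G)) := by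
      intro hd
      obtain ⟨⟨y, hyC⟩, hy⟩ := exists_prime_orderOf_dvd_card'
        (G := ↥(Subgroup.centralizer ({s} : Set G))) 17 hd
      rw [Subgroup.orderOf_mk] at hy
      obtain ⟨Q, hQ⟩ := exists_sylow17 h y hy
      have hy1 : y ≠ 1 := by
        intro h1
        rw [h1, orderOf_one] at hy
        omega
      rw [Subgroup.mem_centralizer_singleton_iff] at hyC
      have hsQ : s ∈ Q := self_centralizing17 h Q y hQ hy1 s hyC.symm
      have hs1 : s ≠ 1 := by
        intro h1
        rw [h1, orderOf_one] at hs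
        omega
      have := (key17 h Q s hsQ hs1).1
      omega
    exact (Nat.Coprime.dvd_mul_left
      ((Nat.Prime.coprime_iff_not_dvd (by norm_num : Nat.Prime 17)).mpr h17).symm).mp hdvd

/-- an involution whose centralizer does not have order `16` commutes with an element of
order `3` or `5` -/
theorem exists_odd_commuting [Fintype G] (h : Nat.card G = 4080) (s : G)
    (hs : orderOf s = 2) (hne : Nat.card (Subgroup.centralizer ({s} : Set G)) ≠ 16) :
    ∃ y : G, s * y = y * s ∧ (orderOf y = 3 ∨ orderOf y = 5) := by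
  obtain ⟨h16, h240⟩ := card_centralizer_involution h s hs
  have hle := Nat.le_of_dvd (by norm_num) h240
  rcases arith240 _ (Finset.mem_range.mpr (by omega)) h240 h16 hne with h3 | h5
  · haveI : Fact (Nat.Prime 3) := ⟨by norm_num⟩
    obtain ⟨⟨y, hyC⟩, hy⟩ := exists_prime_orderOf_dvd_card'
      (G := ↥(Subgroup.centralizer ({s} : Set G))) 3 h3
    rw [Subgroup.orderOf_mk] at hy
    rw [Subgroup.mem_centralizer_singleton_iff] at hyC
    exact ⟨y, hyC.symm, Or.inl hy⟩
  · haveI : Fact (Nat.Prime 5) := ⟨by norm_num⟩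
    obtain ⟨⟨y, hyC⟩, hy⟩ := exists_prime_orderOf_dvd_card'
      (G := ↥(Subgroup.centralizer ({s} : Set G))) 5 h5
    rw [Subgroup.orderOf_mk] at hy
    rw [Subgroup.mem_centralizer_singleton_iff] at hyC
    exact ⟨y, hyC.symm, Or.inr hy⟩

/-- some involution has a centralizer of order `16` -/
theorem exists_involution_sixteen [Fintype G] (h : Nat.card G = 4080) :
    ∃ s : G, orderOf s = 2 ∧ Nat.card (Subgroup.centralizer ({s} : Set G)) = 16 := by
  by_contra hcon
  push_neg at hcon
  have hex : ∀ s : G, orderOf s = 2 → ∃ y : G, s * y = y * s ∧ (orderOf y = 3 ∨ orderOf y = 5) :=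
    fun s hs => exists_odd_commuting h s hs (hcon s hs)
  obtain ⟨I, hI⟩ : ∃ I, I = Finset.univ.filter (fun s : G => orderOf s = 2) := ⟨_, rfl⟩
  obtain ⟨E, hE⟩ : ∃ E, E = Finset.univ.filter (fun g : G => 2 ∣ orderOf g) := ⟨_, rfl⟩
  have hIE : I ⊆ E := by
    intro s hs
    rw [hI, Finset.mem_filter] at hs
    rw [hE, Finset.mem_filter]
    exact ⟨Finset.mem_univ _, by rw [hs.2]⟩
  obtain ⟨φ, hφ⟩ : ∃ φ : G → G, ∀ s : G, orderOf s = 2 →
      s * φ s = φ s * s ∧ (orderOf (φ s) = 3 ∨ orderOf (φ s) = 5) := by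
    refine ⟨fun s => if hs : orderOf s = 2 then (hex s hs).choose else 1, ?_⟩
    intro s hs
    simp only [dif_pos hs]
    exact (hex s hs).choose_spec
  have hord : ∀ s : G, orderOf s = 2 → orderOf (s * φ s) = 6 ∨ orderOf (s * φ s) = 10 := by
    intro s hs
    obtain ⟨hc, ho⟩ := hφ s hs
    have hcomm : Commute s (φ s) := hc
    rcases ho with ho | ho
    · left
      rw [hcomm.orderOf_mul_eq_mul_orderOf_of_coprime (by rw [hs, ho]; norm_num), hs, ho]
    · right
      rw [hcomm.orderOf_mul_eq_mul_orderOf_of_coprime (by rw [hs, ho]; norm_num), hs, ho]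
  have hpow : ∀ s : G, orderOf s = 2 → (s * φ s) ^ 15 = s := by
    intro s hs
    obtain ⟨hc, ho⟩ := hφ s hs
    have hcomm : Commute s (φ s) := hc
    rw [hcomm.mul_pow]
    have h1 : s ^ 15 = s := by
      have h2 : s ^ 2 = 1 := by rw [← hs]; exact pow_orderOf_eq_one s
      calc s ^ 15 = (s ^ 2) ^ 7 * s := by rw [← pow_mul, ← pow_succ]
        _ = s := by rw [h2, one_pow, one_mul]
    have h3 : φ s ^ 15 = 1 := by
      apply orderOf_dvd_iff_pow_eq_one.mp
      rcases ho with ho | ho <;> rw [ho] <;> norm_num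
    rw [h1, h3, mul_one]
  have hmaps : ∀ s ∈ I, s * φ s ∈ E \ I := by
    intro s hs
    rw [hI, Finset.mem_filter] at hs
    rw [Finset.mem_sdiff, hE, hI, Finset.mem_filter, Finset.mem_filter]
    rcases hord s hs.2 with ho | ho
    · exact ⟨⟨Finset.mem_univ _, by rw [ho]; norm_num⟩, fun h2 => by rw [ho] at h2; omega⟩
    · exact ⟨⟨Finset.mem_univ _, by rw [ho]; norm_num⟩, fun h2 => by rw [ho] at h2; omega⟩
  have hinj : Set.InjOn (fun s => s * φ s) (I : Set G) := by
    intro s₁ hs₁ s₂ hs₂ h12
    rw [hI] at hs₁ hs₂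
    simp only [Finset.coe_filter, Finset.mem_univ, true_and, Set.mem_setOf_eq] at hs₁ hs₂
    simp only at h12
    rw [← hpow s₁ hs₁, ← hpow s₂ hs₂, h12]
  have h1 := Finset.card_le_card_of_injOn (fun s => s * φ s) hmaps hinj
  rw [Finset.card_sdiff_of_subset hIE] at h1
  have h2 : E.card ≤ 255 := by rw [hE]; exact card_even_le h
  have h3 : 181 ≤ I.card := by rw [hI]; exact card_involutions_ge h
  omega

/-- **every element of even order is conjugate to one involution with centralizer of order 16** -/
theorem even_structure [Fintype G] (h : Nat.card G = 4080) :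
    ∃ s : G, orderOf s = 2 ∧ Nat.card (Subgroup.centralizer ({s} : Set G)) = 16 ∧
      ∀ g : G, 2 ∣ orderOf g → ∃ x : G, x * s * x⁻¹ = g := by
  obtain ⟨s, hs, hC⟩ := exists_involution_sixteen h
  refine ⟨s, hs, hC, ?_⟩
  have hcl := Cfsg.Agent.H9.Ord504.card_centralizer_mul_card_conj s
  rw [h, hC] at hcl
  have hcl' : Nat.card {x : G // ∃ g : G, g * s * g⁻¹ = x} = 255 := by omega
  have hsub : Finset.univ.filter (fun x : G => ∃ g : G, g * s * g⁻¹ = x)
      ⊆ Finset.univ.filter (fun g : G => 2 ∣ orderOf g) := by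
    intro x hx
    simp only [Finset.mem_filter, Finset.mem_univ, true_and] at hx ⊢
    obtain ⟨g, rfl⟩ := hx
    have h1 : orderOf (g * s * g⁻¹) = orderOf s := by
      have := orderOf_injective (MulAut.conj g).toMonoidHom (MulAut.conj g).injective s
      simpa using this
    rw [h1, hs]
  have hcard : (Finset.univ.filter (fun g : G => 2 ∣ orderOf g)).card
      ≤ (Finset.univ.filter (fun x : G => ∃ g : G, g * s * g⁻¹ = x)).card := by
    rw [Nat.card_eq_fintype_card, Fintype.card_subtype] at hcl'
    rw [hcl']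
    exact card_even_le h
  have heq := Finset.eq_of_subset_of_card_le hsub hcard
  intro g hg
  have hg' : g ∈ Finset.univ.filter (fun g : G => 2 ∣ orderOf g) := by
    rw [Finset.mem_filter]; exact ⟨Finset.mem_univ _, hg⟩
  rw [← heq, Finset.mem_filter] at hg'
  exact hg'.2

/-- an element of even order is an involution with centralizer of order `16` -/
theorem even_elt [Fintype G] (h : Nat.card G = 4080) (g : G) (hg : 2 ∣ orderOf g) :
    orderOf g = 2 ∧ Nat.card (Subgroup.centralizer ({g} : Set G)) = 16 := by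
  obtain ⟨s, hs, hC, hall⟩ := even_structure h
  obtain ⟨x, rfl⟩ := hall g hg
  have h1 : orderOf (x * s * x⁻¹) = orderOf s := by
    have := orderOf_injective (MulAut.conj x).toMonoidHom (MulAut.conj x).injective s
    simpa using this
  refine ⟨by rw [h1, hs], ?_⟩
  have hcl := Cfsg.Agent.H9.Ord504.card_centralizer_mul_card_conj s
  have hcl2 := Cfsg.Agent.H9.Ord504.card_centralizer_mul_card_conj (x * s * x⁻¹)
  have heq : Nat.card {y : G // ∃ a : G, a * (x * s * x⁻¹) * a⁻¹ = y}
      = Nat.card {y : G // ∃ a : G, a * s * a⁻¹ = y} := by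
    apply Nat.card_congr
    apply Equiv.subtypeEquivRight
    intro y
    constructor
    · rintro ⟨a, rfl⟩
      exact ⟨a * x, by group⟩
    · rintro ⟨a, rfl⟩
      exact ⟨a * x⁻¹, by group⟩
  rw [heq] at hcl2
  rw [h, hC] at hcl
  rw [h] at hcl2
  have : Nat.card {y : G // ∃ a : G, a * s * a⁻¹ = y} = 255 := by omega
  rw [this] at hcl2
  omega

end s4080

end Cfsg.Agent.Lib.Helper4.Ord4080
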