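import Mathlib
import Cfsg.Agent.Lib.Helper4.Ord4080E
import Cfsg.Agent.H9.Ord504C

/-!
# Simple groups of order 4080 are `PSL₂(16)` (helper4)
-/

set_option autoImplicit false
set_option linter.style.haveILetI false
set_option linter.unusedSectionVars false

namespace Cfsg.Agent.Lib.Helper4.Ord4080

open Cfsg Subgroup MulAction
open scoped Classical

universe u

section s4080

variable {G : Type u} [Group G] [Finite G] [IsSimpleGroup G]

theorem card_sylow2 (h : Nat.card G = 4080) [Fact (Nat.Prime 2)] (T : Sylow 2 G) :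
    Nat.card (T : Subgroup G) = 16 := by
  have hG' : Nat.card G = 2 ^ 4 * 255 := by rw [h]; norm_num
  have hm : ¬ 2 ∣ 255 := by norm_num
  simpa using Cfsg.Agent.Lib.Helper4.Sylow.card_sylow_of_card_eq hG' hm T

/-- nonidentity elements of a Sylow `2`-subgroup are involutions with centralizer of order 16 -/
theorem sylow2_elt (h : Nat.card G = 4080) [Fact (Nat.Prime 2)] (T : Sylow 2 G) (g : G)
    (hg : g ∈ T) (hg1 : g ≠ 1) :
    orderOf g = 2 ∧ Nat.card (centralizer ({g} : Set G)) = 16 := by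
  have : Fintype G := Fintype.ofFinite G
  apply even_elt h g
  have h1 : g ^ 2 ^ 4 = 1 := by
    have := pow_card_eq_one' (G := ↥(T : Subgroup G)) (x := ⟨g, hg⟩)
    rw [card_sylow2 h T] at this
    exact congrArg Subtype.val this
  have h2 : orderOf g ∣ 2 ^ 4 := orderOf_dvd_of_pow_eq_one h1
  obtain ⟨m, -, hm⟩ := (Nat.dvd_prime_pow Nat.prime_two).1 h2
  rcases Nat.eq_zero_or_pos m with h0 | hpos
  · exfalso
    rw [h0, pow_zero] at hm
    exact hg1 (orderOf_eq_one_iff.1 hm)
  · rw [hm]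
    exact dvd_pow_self 2 hpos.ne'

theorem comm_sylow2 (h : Nat.card G = 4080) [Fact (Nat.Prime 2)] (T : Sylow 2 G) :
    ∀ a ∈ T, ∀ b ∈ T, a * b = b * a := by
  intro a ha b hb
  apply Cfsg.Agent.H9.Ord504.comm_of_sq_eq_one (T : Subgroup G) _ a b ha hb
  intro c hc
  by_cases hc1 : c = 1
  · rw [hc1, one_mul]
  · have := (sylow2_elt h T c hc hc1).1
    rw [← pow_two, ← this]
    exact pow_orderOf_eq_one c

/-- a Sylow `2`-subgroup is the centralizer of each of its involutions -/
theorem sylow2_eq_centralizer (h : Nat.card G = 4080) [Fact (Nat.Prime 2)] (T : Sylow 2 G) (w : G)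
    (hw : w ∈ T) (hw1 : w ≠ 1) : (T : Subgroup G) = centralizer ({w} : Set G) := by
  apply Subgroup.eq_of_le_of_card_ge
  · intro a ha
    rw [Subgroup.mem_centralizer_singleton_iff]
    exact comm_sylow2 h T a ha w hw
  · rw [card_sylow2 h T, (sylow2_elt h T w hw hw1).2]

theorem sylow2_TI (h : Nat.card G = 4080) [Fact (Nat.Prime 2)] (T₁ T₂ : Sylow 2 G) (w : G)
    (hw₁ : w ∈ T₁) (hw₂ : w ∈ T₂) (hw1 : w ≠ 1) : T₁ = T₂ := by
  apply Sylow.ext
  rw [sylow2_eq_centralizer h T₁ w hw₁ hw1, sylow2_eq_centralizer h T₂ w hw₂ hw1]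

theorem card_sylow_two (h : Nat.card G = 4080) [Fact (Nat.Prime 2)] :
    Nat.card (Sylow 2 G) = 17 := by
  have : Fintype G := Fintype.ofFinite G
  have h2 := Cfsg.Agent.H9.Ord504.sylow_count (p := 2) 16 (fun P => card_sylow2 h P) (sylow2_TI h)
    (Finset.univ.filter (fun g : G => 2 ∣ orderOf g)) (fun P g hg hg1 => by
      rw [Finset.mem_filter]
      refine ⟨Finset.mem_univ _, ?_⟩
      rw [(sylow2_elt h P g hg hg1).1])
  have h3 := card_even_le h
  obtain ⟨T⟩ : Nonempty (Sylow 2 G) := inferInstance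
  have hT := card_sylow2 h T
  have hne : Nat.card (Sylow 2 G) ≠ 1 :=
    Cfsg.Agent.Lib.Helper4.Sylow.card_sylow_ne_one_of_simple T (by rw [hT]; norm_num)
      (by rw [hT, h]; norm_num)
  have hNtop : normalizer ((T : Subgroup G) : Set G) ≠ ⊤ := by
    intro htop
    apply hne
    rw [Sylow.card_eq_index_normalizer T]
    show (normalizer ((T : Subgroup G) : Set G)).index = 1
    rw [htop, Subgroup.index_top]
  have h4 := Cfsg.Agent.Lib.Helper4.Sylow.card_dvd_factorial_of_simple _ hNtop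
  have h4' : Nat.card G ∣ (Nat.card (Sylow 2 G)).factorial := by
    rw [Sylow.card_eq_index_normalizer T]
    exact h4
  rw [h] at h4'
  have h5 : 17 ∣ (Nat.card (Sylow 2 G)).factorial := dvd_trans (by norm_num) h4'
  have h6 : 17 ≤ Nat.card (Sylow 2 G) := (Nat.Prime.dvd_factorial (by norm_num)).mp h5
  omega

theorem card_normalizer_sylow2 (h : Nat.card G = 4080) [Fact (Nat.Prime 2)] (P : Sylow 2 G) :
    Nat.card (normalizer ((P : Subgroup G) : Set G)) = 240 := by
  have h3 := Cfsg.Agent.Lib.Helper4.Sylow.card_sylow_mul_card_normalizer P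
  rw [h, card_sylow_two h] at h3
  omega

/-- the action on the Sylow `2`-subgroups is faithful -/
theorem eq_one_of_fix_all (h : Nat.card G = 4080) [Fact (Nat.Prime 2)] (g : G)
    (hg : ∀ T : Sylow 2 G, g • T = T) : g = 1 := by
  obtain ⟨K, hK⟩ : ∃ K, K = (MulAction.toPermHom G (Sylow 2 G)).ker := ⟨_, rfl⟩
  have hKn : K.Normal := by rw [hK]; exact MonoidHom.normal_ker _
  have hmem : ∀ x : G, x ∈ K ↔ ∀ T : Sylow 2 G, x • T = T := by
    intro x
    rw [hK, MonoidHom.mem_ker]
    constructor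
    · intro hx T
      have := congrArg (fun σ : Equiv.Perm (Sylow 2 G) => σ T) hx
      simpa using this
    · intro hx
      refine Equiv.ext (fun T => ?_)
      exact hx T
  rcases hKn.eq_bot_or_eq_top with hb | ht
  · have : g ∈ K := (hmem g).2 hg
    rw [hb] at this
    exact Subgroup.mem_bot.1 this
  · exfalso
    obtain ⟨T⟩ : Nonempty (Sylow 2 G) := inferInstance
    have h1 : normalizer ((T : Subgroup G) : Set G) = ⊤ := by
      rw [eq_top_iff]
      intro x _
      have : x ∈ K := by rw [ht]; trivial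
      exact Sylow.smul_eq_iff_mem_normalizer.1 ((hmem x).1 this T)
    have h2 := card_normalizer_sylow2 h T
    rw [h1, Subgroup.card_top, h] at h2
    omega

/-- a `2`-element normalizing a Sylow `2`-subgroup lies in it -/
theorem mem_of_normalizes (h : Nat.card G = 4080) [Fact (Nat.Prime 2)] (T : Sylow 2 G) (w : G)
    (hw : w ^ 16 = 1) (hwN : w ∈ normalizer ((T : Subgroup G) : Set G)) : w ∈ T := by
  have hwpg : IsPGroup 2 (zpowers w) := by
    have h1 : orderOf w ∣ 2 ^ 4 := orderOf_dvd_of_pow_eq_one hw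
    obtain ⟨m, -, hm⟩ := (Nat.dvd_prime_pow Nat.prime_two).1 h1
    apply IsPGroup.of_card (n := m)
    rw [Nat.card_zpowers, hm]
  have h1 : w ∈ zpowers w ⊓ normalizer ((T : Subgroup G) : Set G) :=
    ⟨Subgroup.mem_zpowers w, hwN⟩
  have h2 : w ∈ zpowers w ⊓ (T : Subgroup G) := (hwpg.inf_normalizer_sylow T).le h1
  exact h2.2

/-- a Sylow `2`-subgroup acts regularly on the other Sylow `2`-subgroups -/
theorem exists_smul_eq (h : Nat.card G = 4080) [Fact (Nat.Prime 2)] (T₁ T₂ T₃ : Sylow 2 G)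
    (h12 : T₁ ≠ T₂) (h13 : T₁ ≠ T₃) :
    (∃ s ∈ T₁, s • T₂ = T₃) ∧ ∀ s ∈ T₁, ∀ s' ∈ T₁, s • T₂ = s' • T₂ → s = s' := by
  have hinj : ∀ s ∈ T₁, ∀ s' ∈ T₁, s • T₂ = s' • T₂ → s = s' := by
    intro s hs s' hs' heq
    have h1 : (s'⁻¹ * s) • T₂ = T₂ := by
      rw [mul_smul, heq, inv_smul_smul]
    have h2 : s'⁻¹ * s ∈ normalizer ((T₂ : Subgroup G) : Set G) :=
      Sylow.smul_eq_iff_mem_normalizer.1 h1
    have h3 : s'⁻¹ * s ∈ T₁ := mul_mem (inv_mem hs') hs
    have h4 : (s'⁻¹ * s) ^ 16 = 1 := by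
      have := pow_card_eq_one' (G := ↥(T₁ : Subgroup G)) (x := ⟨s'⁻¹ * s, h3⟩)
      rw [card_sylow2 h T₁] at this
      exact congrArg Subtype.val this
    have h5 : s'⁻¹ * s ∈ T₂ := mem_of_normalizes h T₂ _ h4 h2
    by_contra hne
    apply h12
    apply sylow2_TI h T₁ T₂ (s'⁻¹ * s) h3 h5
    intro h6
    apply hne
    calc s = s' * (s'⁻¹ * s) := by group
      _ = s' := by rw [h6, mul_one]
  refine ⟨?_, hinj⟩
  -- counting
  have : Fintype (Sylow 2 G) := Fintype.ofFinite _
  have : Fintype G := Fintype.ofFinite G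
  obtain ⟨A, hA⟩ : ∃ A, A = Finset.univ.filter (fun g : G => g ∈ T₁) := ⟨_, rfl⟩
  have hAmem : ∀ s, s ∈ A ↔ s ∈ T₁ := by
    intro s
    rw [hA, Finset.mem_filter]
    simp
  have hAcard : A.card = 16 := by
    have h3 := card_sylow2 h T₁
    rw [Nat.card_eq_fintype_card, Fintype.card_subtype] at h3
    rw [hA]
    convert h3 using 2
    ext x
    simp only [Finset.mem_filter, Finset.mem_univ, true_and]
    exact Iff.rfl
  have himg : (A.image (fun s => s • T₂)).card = 16 := by
    rw [Finset.card_image_of_injOn, hAcard]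
    intro s hs s' hs' heq
    exact hinj s ((hAmem s).1 hs) s' ((hAmem s').1 hs') heq
  have hsub : A.image (fun s => s • T₂) ⊆ Finset.univ.erase T₁ := by
    intro Q hQ
    rw [Finset.mem_image] at hQ
    obtain ⟨s, hs, rfl⟩ := hQ
    rw [Finset.mem_erase]
    refine ⟨?_, Finset.mem_univ _⟩
    intro heq
    apply h12
    have hsN : s⁻¹ ∈ normalizer ((T₁ : Subgroup G) : Set G) :=
      Subgroup.le_normalizer (inv_mem ((hAmem s).1 hs))
    have h1 : s⁻¹ • T₁ = T₁ := Sylow.smul_eq_iff_mem_normalizer.2 hsN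
    rw [← h1, ← heq, inv_smul_smul]
  have hcard : (Finset.univ.erase T₁).card = 16 := by
    rw [Finset.card_erase_of_mem (Finset.mem_univ _), Finset.card_univ,
      ← Nat.card_eq_fintype_card, card_sylow_two h]
  have heq := Finset.eq_of_subset_of_card_le hsub (by rw [hcard, himg])
  have h3 : T₃ ∈ Finset.univ.erase T₁ := Finset.mem_erase.mpr ⟨h13.symm, Finset.mem_univ _⟩
  rw [← heq, Finset.mem_image] at h3
  obtain ⟨s, hs, hs3⟩ := h3
  exact ⟨s, (hAmem s).1 hs, hs3⟩

/-- an element fixing three Sylow `2`-subgroups is trivial -/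
theorem eq_one_of_fix_three (h : Nat.card G = 4080) [Fact (Nat.Prime 2)] (g : G)
    (T₁ T₂ T₃ : Sylow 2 G) (h12 : T₁ ≠ T₂) (h23 : T₂ ≠ T₃) (h13 : T₁ ≠ T₃)
    (hg1 : g • T₁ = T₁) (hg2 : g • T₂ = T₂) (hg3 : g • T₃ = T₃) : g = 1 := by
  have hN1 : g ∈ normalizer ((T₁ : Subgroup G) : Set G) := Sylow.smul_eq_iff_mem_normalizer.1 hg1
  have hN2 : g ∈ normalizer ((T₂ : Subgroup G) : Set G) := Sylow.smul_eq_iff_mem_normalizer.1 hg2
  have hg240 : g ^ 240 = 1 := by
    have := pow_card_eq_one' (G := ↥(normalizer ((T₁ : Subgroup G) : Set G))) (x := ⟨g, hN1⟩)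
    rw [card_normalizer_sylow2 h T₁] at this
    exact congrArg Subtype.val this
  obtain ⟨w, hw⟩ : ∃ w, w = g ^ 15 := ⟨_, rfl⟩
  have hw16 : w ^ 16 = 1 := by rw [hw, ← pow_mul]; exact hg240
  have hw1 : w = 1 := by
    by_contra hne
    apply h12
    apply sylow2_TI h T₁ T₂ w _ _ hne
    · exact mem_of_normalizes h T₁ w hw16 (by rw [hw]; exact pow_mem hN1 15)
    · exact mem_of_normalizes h T₂ w hw16 (by rw [hw]; exact pow_mem hN2 15)
  rw [hw] at hw1
  obtain ⟨⟨s, hs, hs3⟩, hinj⟩ := exists_smul_eq h T₁ T₂ T₃ h12 h13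
  have hs' : g * s * g⁻¹ ∈ T₁ := (Subgroup.mem_normalizer_iff.mp hN1 s).mp hs
  have hg2' : g⁻¹ • T₂ = T₂ := by
    conv_lhs => rw [← hg2]
    rw [inv_smul_smul]
  have h1 : (g * s * g⁻¹) • T₂ = s • T₂ := by
    rw [mul_smul, mul_smul, hg2', hs3, hg3]
  have h2 : g * s * g⁻¹ = s := hinj _ hs' _ hs h1
  have hcomm : g * s = s * g := by
    calc g * s = (g * s * g⁻¹) * g := by group
      _ = s * g := by rw [h2]
  have hs1 : s ≠ 1 := by
    intro h3
    apply h23
    rw [← hs3, h3, one_smul]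
  have hgT : g ∈ T₁ := by
    have h3 : g ∈ centralizer ({s} : Set G) := by
      rw [Subgroup.mem_centralizer_singleton_iff]
      exact hcomm
    rw [← sylow2_eq_centralizer h T₁ s hs hs1] at h3
    exact h3
  have hg16 : g ^ 16 = 1 := by
    have := pow_card_eq_one' (G := ↥(T₁ : Subgroup G)) (x := ⟨g, hgT⟩)
    rw [card_sylow2 h T₁] at this
    exact congrArg Subtype.val this
  calc g = g ^ 16 * (g ^ 15)⁻¹ := by group
    _ = 1 := by rw [hg16, hw1]; group

/-- the action on the Sylow `2`-subgroups is triply transitive -/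
theorem three_pretransitive (h : Nat.card G = 4080) [Fact (Nat.Prime 2)] :
    IsMultiplyPretransitive G (Sylow 2 G) 3 := by
  have : Fintype (Sylow 2 G) := Fintype.ofFinite _
  rw [isMultiplyPretransitive_iff]
  intro x y
  have hstab : stabilizer G x = ⊥ := by
    rw [eq_bot_iff]
    intro g hg
    rw [mem_stabilizer_iff] at hg
    have hgi : ∀ i, g • x i = x i := by
      intro i
      have := DFunLike.congr_fun hg i
      rwa [Function.Embedding.smul_apply] at this
    rw [Subgroup.mem_bot]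
    apply eq_one_of_fix_three h g (x 0) (x 1) (x 2) _ _ _ (hgi 0) (hgi 1) (hgi 2)
    · intro h01
      have := x.injective h01
      exact absurd this (by decide)
    · intro h01
      have := x.injective h01
      exact absurd this (by decide)
    · intro h01
      have := x.injective h01
      exact absurd this (by decide)
  have hcardX : Nat.card (Fin 3 ↪ Sylow 2 G) = 4080 := by
    rw [Nat.card_eq_fintype_card, Fintype.card_embedding_eq, Fintype.card_fin,
      ← Nat.card_eq_fintype_card, card_sylow_two h]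
    decide
  have horb : (orbit G x).ncard = 4080 := by
    rw [← index_stabilizer, hstab, Subgroup.index_bot, h]
  have huniv : orbit G x = Set.univ := by
    apply Set.eq_of_subset_of_ncard_le (Set.subset_univ _) _ (Set.toFinite _)
    rw [Set.ncard_univ, hcardX, horb]
  have hy : y ∈ orbit G x := by rw [huniv]; trivial
  obtain ⟨g, hg⟩ := hy
  exact ⟨g, hg⟩

/-- **A simple group of order 4080 is `PSL₂(16)`.** -/
theorem main (h : Nat.card G = 4080) {F : Type*} [Field F] [Fintype F]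
    (hF : Fintype.card F = 16) :
    Nonempty (G ≃* Matrix.ProjectiveSpecialLinearGroup (Fin 2) F) := by
  have hp2 : Fact (Nat.Prime 2) := ⟨Nat.prime_two⟩
  have : Fintype (Sylow 2 G) := Fintype.ofFinite _
  have hcard17 : Fintype.card (Sylow 2 G) = 17 := by
    rw [← Nat.card_eq_fintype_card, card_sylow_two h]
  have hfaith : FaithfulSMul G (Sylow 2 G) := by
    refine ⟨fun {g₁ g₂} hh => ?_⟩
    have h1 : g₂⁻¹ * g₁ = 1 := by
      apply eq_one_of_fix_all h
      intro T
      rw [mul_smul, hh T, inv_smul_smul]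
    calc g₁ = g₂ * (g₂⁻¹ * g₁) := by group
      _ = g₂ := by rw [h1, mul_one]
  obtain ⟨a, ha1, hcard, F', instF, instFt, hcardF, ⟨e⟩⟩ :=
    Cfsg.Agent.H2.SharpThree.sharp_three_odd (Γ := G) (α := Sylow 2 G)
      (by rw [hcard17]; norm_num) (by rw [hcard17]; decide) (three_pretransitive h)
      (fun g T₁ T₂ T₃ h12 h23 h13 h1 h2 h3 => eq_one_of_fix_three h g T₁ T₂ T₃ h12 h23 h13 h1 h2 h3)
  have hF' : Fintype.card F' = Fintype.card F := by
    rw [hcardF, hF]
    rw [hcard17] at hcard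
    omega
  let eF : F' ≃+* F := FiniteField.ringEquivOfCardEq hF'
  have h2 : (2 : F) = 0 := by
    have h3' : ((Fintype.card F : ℕ) : F) = 0 := Nat.cast_card_eq_zero F
    rw [hF] at h3'
    have h8 : (2 : F) ^ 4 = 0 := by
      rw [← h3']
      norm_num
    exact pow_eq_zero_iff (by norm_num) |>.1 h8
  let e1 : Matrix.SpecialLinearGroup (Fin 2) F' ≃* Matrix.SpecialLinearGroup (Fin 2) F :=
    Cfsg.Agent.Lib.Helper8.SUTransport.slEquiv eF 2
  let e2 : Matrix.SpecialLinearGroup (Fin 2) F ≃*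
      Matrix.ProjectiveSpecialLinearGroup (Fin 2) F :=
    MulEquiv.ofBijective (Cfsg.Agent.H9.AutPSL2.pr : Matrix.SpecialLinearGroup (Fin 2) F →* _)
      ⟨Cfsg.Agent.H9.A4Char2.pr_injective h2, Cfsg.Agent.H9.AutPSL2.pr_surjective⟩
  exact ⟨(e.trans e1).trans e2⟩

end s4080

end Cfsg.Agent.Lib.Helper4.Ord4080
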