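import Mathlib
import Cfsg.Prelude.Def_GeometricClasses
import Cfsg.Agent.S5631

set_option autoImplicit false
open Cfsg

/-!
Generic quadratic forms `Q : (Fin n → F) → F` (given as functions, `IsNondegenerateQuadraticForm`)
in characteristic different from two: polar form, `flat`, linear algebra lemmas, existence of
singular vectors and hyperbolic pairs over finite fields of odd order.
-/

namespace Cfsg.Agent.Lib.Helper4.Orth

open Matrix Cfsg.Agent.S5631

section Basics

variable {n : ℕ} {F : Type*} [Field F] {Q : (Fin n → F) → F}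

/-- the polar form -/
abbrev pol (Q : (Fin n → F) → F) (x y : Fin n → F) : F := QuadraticMap.polar Q x y

lemma pol_comm (x y : Fin n → F) : pol Q x y = pol Q y x := QuadraticMap.polar_comm Q x y

lemma Q_add (Q : (Fin n → F) → F) (x y : Fin n → F) : Q (x + y) = Q x + Q y + pol Q x y := by
  rw [pol, QuadraticMap.polar]; ring

variable (hQ : Cfsg.Geo.IsNondegenerateQuadraticForm Q)

include hQ

lemma pol_add_left (x y v : Fin n → F) : pol Q (x + y) v = pol Q x v + pol Q y v :=
  hQ.polar_bilinear.add_left x y v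

lemma pol_add_right (v x y : Fin n → F) : pol Q v (x + y) = pol Q v x + pol Q v y :=
  hQ.polar_bilinear.add_right v x y

lemma pol_smul_left (c : F) (x v : Fin n → F) : pol Q (c • x) v = c * pol Q x v :=
  hQ.polar_bilinear.smul_left c x v

lemma pol_smul_right (c : F) (v x : Fin n → F) : pol Q v (c • x) = c * pol Q v x :=
  hQ.polar_bilinear.smul_right c v x

lemma pol_zero_left (v : Fin n → F) : pol Q 0 v = 0 := by
  have := pol_smul_left hQ 0 0 v
  rwa [zero_smul, zero_mul] at this

lemma pol_zero_right (v : Fin n → F) : pol Q v 0 = 0 := by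
  rw [pol_comm, pol_zero_left hQ]

lemma pol_neg_left (x v : Fin n → F) : pol Q (-x) v = - pol Q x v := by
  have := pol_smul_left hQ (-1) x v
  rwa [neg_one_smul, neg_one_mul] at this

lemma pol_neg_right (v x : Fin n → F) : pol Q v (-x) = - pol Q v x := by
  rw [pol_comm, pol_neg_left hQ, pol_comm]

lemma pol_sub_left (x y v : Fin n → F) : pol Q (x - y) v = pol Q x v - pol Q y v := by
  rw [sub_eq_add_neg, pol_add_left hQ, pol_neg_left hQ, sub_eq_add_neg]

lemma pol_sub_right (v x y : Fin n → F) : pol Q v (x - y) = pol Q v x - pol Q v y := by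
  rw [sub_eq_add_neg, pol_add_right hQ, pol_neg_right hQ, sub_eq_add_neg]

lemma Q_smul (c : F) (x : Fin n → F) : Q (c • x) = c ^ 2 * Q x := hQ.smul c x

lemma Q_zero : Q 0 = 0 := by
  have := hQ.smul 0 0
  rw [zero_smul] at this
  rw [this]; ring

lemma Q_neg (x : Fin n → F) : Q (-x) = Q x := by
  have := hQ.smul (-1) x
  rw [neg_one_smul] at this
  rw [this]; ring

lemma pol_self (x : Fin n → F) : pol Q x x = 2 * Q x := by
  have h1 : x + x = (2 : F) • x := by rw [two_smul]
  have h2 := Q_add Q x x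
  rw [h1, hQ.smul] at h2
  linear_combination (-1 : F) * h2

lemma Q_add_smul (x w : Fin n → F) (c : F) :
    Q (x + c • w) = Q x + c ^ 2 * Q w + c * pol Q x w := by
  rw [Q_add Q, hQ.smul, pol_smul_right hQ]

/-- `x ↦ pol x y` as a linear map -/
def leftLin (y : Fin n → F) : (Fin n → F) →ₗ[F] F where
  toFun x := pol Q x y
  map_add' x x' := pol_add_left hQ x x' y
  map_smul' c x := by rw [pol_smul_left hQ]; rfl

/-- the vector representing `x ↦ pol x y` -/
def flat : (Fin n → F) →ₗ[F] (Fin n → F) where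
  toFun y := fun i => pol Q (Pi.single i 1) y
  map_add' y y' := by
    funext i
    exact pol_add_right hQ _ y y'
  map_smul' c y := by
    funext i
    rw [pol_smul_right hQ]; rfl

lemma flat_dot (x y : Fin n → F) : flat hQ y ⬝ᵥ x = pol Q x y := by
  have h1 := LinearMap.pi_apply_eq_sum_univ (leftLin hQ y) x
  have h2 : pol Q x y = leftLin hQ y x := rfl
  rw [h2, h1, dotProduct]
  apply Finset.sum_congr rfl
  intro i _
  rw [smul_eq_mul, mul_comm]
  congr 1
  show pol Q (Pi.single i 1) y = pol Q _ y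
  congr 1
  funext j
  rw [Pi.single_apply]
  by_cases h : j = i
  · subst h; simp
  · rw [if_neg h, if_neg (Ne.symm h)]

lemma dot_flat (x y : Fin n → F) : x ⬝ᵥ flat hQ y = pol Q x y := by
  rw [dotProduct_comm, flat_dot]

lemma flat_injective : Function.Injective (flat hQ) := by
  rw [← LinearMap.ker_eq_bot, LinearMap.ker_eq_bot']
  intro y hy
  by_contra hne
  obtain ⟨⟨x, hx⟩, -⟩ := hQ.nondegenerate y hne
  apply hx
  show pol Q x y = 0
  rw [← flat_dot hQ, hy, zero_dotProduct]

lemma flat_surjective : Function.Surjective (flat hQ) :=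
  LinearMap.injective_iff_surjective.1 (flat_injective hQ)

lemma exists_flat_eq (f : Fin n → F) : ∃ z, flat hQ z = f := flat_surjective hQ f

end Basics

section LinAlg

variable {n : ℕ} {F : Type*} [Field F] {Q : (Fin n → F) → F}
variable (hQ : Cfsg.Geo.IsNondegenerateQuadraticForm Q)

include hQ

/-- separating a vector from a subspace by the form -/
lemma exists_pol_eq_one (U : Submodule F (Fin n → F)) (z : Fin n → F) (hz : z ∉ U) :
    ∃ y, pol Q y z = 1 ∧ ∀ d ∈ U, pol Q y d = 0 := by
  have hz' : flat hQ z ∉ U.map (flat hQ) := by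
    rintro ⟨d, hd, hdz⟩
    exact hz (flat_injective hQ hdz ▸ hd)
  obtain ⟨y, hy1, hy2⟩ := exists_functional (U.map (flat hQ)) (flat hQ z) hz'
  refine ⟨y, ?_, ?_⟩
  · rw [← dot_flat hQ]; exact hy1
  · intro d hd
    rw [← dot_flat hQ]
    exact hy2 _ ⟨d, hd, rfl⟩

/-- the linear map `x ↦ (pol x (d i))_i` -/
def polMap {k : ℕ} (d : Fin k → (Fin n → F)) : (Fin n → F) →ₗ[F] (Fin k → F) where
  toFun x := fun i => pol Q x (d i)
  map_add' x y := by
    funext i
    exact pol_add_left hQ x y (d i)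
  map_smul' c x := by
    funext i
    rw [pol_smul_left hQ]; rfl

/-- the common perpendicular space of a finite family -/
def perpS {k : ℕ} (d : Fin k → (Fin n → F)) : Submodule F (Fin n → F) :=
  LinearMap.ker (polMap hQ d)

lemma mem_perpS {k : ℕ} (d : Fin k → (Fin n → F)) (x : Fin n → F) :
    x ∈ perpS hQ d ↔ ∀ i, pol Q x (d i) = 0 := by
  rw [perpS, LinearMap.mem_ker]
  constructor
  · intro h i
    exact congrFun h i
  · intro h
    funext i
    exact h i

lemma finrank_perpS_ge {k : ℕ} (d : Fin k → (Fin n → F)) :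
    n ≤ Module.finrank F (perpS hQ d) + k := by
  have h1 := LinearMap.finrank_range_add_finrank_ker (polMap hQ d)
  have h2 : Module.finrank F (LinearMap.range (polMap hQ d)) ≤ k := by
    have := (LinearMap.range (polMap hQ d)).finrank_le
    rwa [Module.finrank_fintype_fun_eq_card, Fintype.card_fin] at this
  rw [Module.finrank_fintype_fun_eq_card, Fintype.card_fin] at h1
  rw [perpS]
  omega

/-- a subspace of dimension more than `k` has a nonzero vector perpendicular to `k` given
vectors -/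
lemma exists_ne_zero_perp (E : Submodule F (Fin n → F)) {k : ℕ} (d : Fin k → (Fin n → F))
    (h : k < Module.finrank F E) : ∃ x ∈ E, x ≠ 0 ∧ ∀ i, pol Q x (d i) = 0 := by
  have hker : LinearMap.ker ((polMap hQ d).comp E.subtype) ≠ ⊥ := by
    apply LinearMap.ker_ne_bot_of_finrank_lt
    rwa [Module.finrank_fintype_fun_eq_card, Fintype.card_fin]
  obtain ⟨x, hx, hx0⟩ := Submodule.exists_mem_ne_zero_of_ne_bot hker
  refine ⟨x.1, x.2, fun h0 => hx0 (Subtype.ext h0), fun i => ?_⟩
  rw [LinearMap.mem_ker] at hx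
  exact congrFun hx i

end LinAlg

section Diag

variable {F : Type*} [Field F] [Fintype F]

/-- a ternary diagonal form over a finite field of odd order is isotropic -/
lemma exists_diag_zero (hodd : Odd (Fintype.card F)) (a b c : F) (ha : a ≠ 0) (hb : b ≠ 0) :
    ∃ x y : F, a * x ^ 2 + b * y ^ 2 + c = 0 := by
  classical
  have hf2 : (Polynomial.C a * Polynomial.X ^ 2 : Polynomial F).degree = 2 := by
    rw [Polynomial.degree_C_mul_X_pow 2 ha]; rfl
  have hg2 : (Polynomial.C b * Polynomial.X ^ 2 + Polynomial.C c : Polynomial F).degree = 2 := by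
    rw [Polynomial.degree_add_C]
    · rw [Polynomial.degree_C_mul_X_pow 2 hb]; rfl
    · rw [Polynomial.degree_C_mul_X_pow 2 hb]; decide
  obtain ⟨x, y, hxy⟩ := FiniteField.exists_root_sum_quadratic hf2 hg2 (Nat.odd_iff.1 hodd)
  refine ⟨x, y, ?_⟩
  simp only [Polynomial.eval_mul, Polynomial.eval_C, Polynomial.eval_pow, Polynomial.eval_X,
    Polynomial.eval_add] at hxy
  linear_combination hxy

end Diag

section Singular

variable {n : ℕ} {F : Type*} [Field F] {Q : (Fin n → F) → F}
variable (hQ : Cfsg.Geo.IsNondegenerateQuadraticForm Q)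

include hQ

lemma ne_zero_of_Q_ne (x : Fin n → F) (hx : Q x ≠ 0) : x ≠ 0 := by
  rintro rfl
  exact hx (Q_zero hQ)

variable [Fintype F]

/-- a subspace of dimension at least three contains a nonzero singular vector -/
lemma exists_singular_of_finrank (hodd : Odd (Fintype.card F)) (h2 : (2 : F) ≠ 0)
    (E : Submodule F (Fin n → F))
    (hE : 3 ≤ Module.finrank F E) : ∃ e ∈ E, e ≠ 0 ∧ Q e = 0 := by
  obtain ⟨x₁, hx₁E, hx₁0, -⟩ := exists_ne_zero_perp hQ E (k := 0) (fun i => i.elim0) (by omega)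
  by_cases hq1 : Q x₁ = 0
  · exact ⟨x₁, hx₁E, hx₁0, hq1⟩
  obtain ⟨x₂, hx₂E, hx₂0, hx₂⟩ := exists_ne_zero_perp hQ E (k := 1) (fun _ => x₁) (by omega)
  by_cases hq2 : Q x₂ = 0
  · exact ⟨x₂, hx₂E, hx₂0, hq2⟩
  obtain ⟨x₃, hx₃E, hx₃0, hx₃⟩ := exists_ne_zero_perp hQ E (k := 2) (![x₁, x₂]) (by omega)
  by_cases hq3 : Q x₃ = 0
  · exact ⟨x₃, hx₃E, hx₃0, hq3⟩
  have h21 : pol Q x₂ x₁ = 0 := hx₂ 0
  have h31 : pol Q x₃ x₁ = 0 := hx₃ 0
  have h32 : pol Q x₃ x₂ = 0 := hx₃ 1
  obtain ⟨a, b, hab⟩ := exists_diag_zero hodd (Q x₁) (Q x₂) (Q x₃) hq1 hq2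
  refine ⟨a • x₁ + b • x₂ + x₃, E.add_mem (E.add_mem (E.smul_mem _ hx₁E) (E.smul_mem _ hx₂E)) hx₃E,
    ?_, ?_⟩
  · intro h0
    have h4 : pol Q (a • x₁ + b • x₂ + x₃) x₃ = 2 * Q x₃ := by
      rw [pol_add_left hQ, pol_add_left hQ, pol_smul_left hQ, pol_smul_left hQ, pol_self hQ,
        pol_comm x₁ x₃, pol_comm x₂ x₃, h31, h32]
      ring
    rw [h0, pol_zero_left hQ] at h4
    exact (mul_ne_zero h2 hq3) h4.symm
  · have e : Q (a • x₁ + b • x₂ + x₃) = a ^ 2 * Q x₁ + b ^ 2 * Q x₂ + Q x₃ +
        (a * b * pol Q x₂ x₁ + a * pol Q x₃ x₁ + b * pol Q x₃ x₂) := by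
      rw [Q_add Q, Q_add Q, hQ.smul, hQ.smul]
      simp only [pol_add_left hQ, pol_smul_left hQ, pol_smul_right hQ]
      rw [pol_comm x₁ x₂, pol_comm x₁ x₃, pol_comm x₂ x₃]
      ring
    rw [e, h21, h31, h32]
    linear_combination hab

/-- a large subspace contains a singular vector outside a given small subspace -/
lemma exists_singular_notMem (hodd : Odd (Fintype.card F)) (h2 : (2 : F) ≠ 0)
    (E R : Submodule F (Fin n → F))
    (h : Module.finrank F R + 3 ≤ Module.finrank F E) : ∃ e ∈ E, e ∉ R ∧ Q e = 0 := by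
  obtain ⟨C, hC⟩ := Submodule.exists_isCompl R
  have h1 := Submodule.finrank_sup_add_finrank_inf_eq E C
  have h3 : Module.finrank F R + Module.finrank F C = n := by
    have := Submodule.finrank_add_eq_of_isCompl hC
    rwa [Module.finrank_fintype_fun_eq_card, Fintype.card_fin] at this
  have h4 : Module.finrank F (E ⊔ C : Submodule F (Fin n → F)) ≤ n := by
    have := (E ⊔ C).finrank_le
    rwa [Module.finrank_fintype_fun_eq_card, Fintype.card_fin] at this
  obtain ⟨e, heEC, he0, hqe⟩ := exists_singular_of_finrank hQ hodd h2 (E ⊓ C) (by omega)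
  refine ⟨e, heEC.1, fun heR => he0 ?_, hqe⟩
  have : e ∈ R ⊓ C := ⟨heR, heEC.2⟩
  rwa [hC.inf_eq_bot, Submodule.mem_bot] at this

end Singular

end Cfsg.Agent.Lib.Helper4.Orth
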