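import Mathlib
import Cfsg.Prelude.Def_GeometricClasses
import Cfsg.Agent.S5631
import Cfsg.Agent.Lib.Helper4.OrthA

set_option autoImplicit false
open Cfsg

/-!
Hyperbolic pairs and Siegel transformations for a quadratic form `Q : (Fin n → F) → F`.
-/

namespace Cfsg.Agent.Lib.Helper4.Orth

open Matrix Cfsg.Agent.S5631

section GLext

variable {n : ℕ} {F : Type*} [Field F]

lemma gl_ext (g h : GL (Fin n) F)
    (H : ∀ x, (g : Matrix (Fin n) (Fin n) F) *ᵥ x = (h : Matrix (Fin n) (Fin n) F) *ᵥ x) :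
    g = h := by
  apply Units.ext
  apply Matrix.toLin'.injective
  apply LinearMap.ext
  intro x
  rw [Matrix.toLin'_apply, Matrix.toLin'_apply]
  exact H x

lemma vec_ext_dot (a b : Fin n → F) (H : ∀ x, a ⬝ᵥ x = b ⬝ᵥ x) : a = b := by
  funext i
  have := H (Pi.single i 1)
  rwa [dotProduct_single, dotProduct_single, mul_one, mul_one] at this

lemma tv_mulVec (v f : Fin n → F) (h : f ⬝ᵥ v = 0) (x : Fin n → F) :
    ((tv v f h : GL (Fin n) F) : Matrix (Fin n) (Fin n) F) *ᵥ x = x + (f ⬝ᵥ x) • v := by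
  rw [tv_coe, tvM_mulVec]

lemma mul_mulVec (g h : GL (Fin n) F) (x : Fin n → F) :
    ((g * h : GL (Fin n) F) : Matrix (Fin n) (Fin n) F) *ᵥ x =
      (g : Matrix (Fin n) (Fin n) F) *ᵥ ((h : Matrix (Fin n) (Fin n) F) *ᵥ x) := by
  rw [Units.val_mul, Matrix.mulVec_mulVec]

lemma inv_mulVec_mulVec (g : GL (Fin n) F) (x : Fin n → F) :
    ((g⁻¹ : GL (Fin n) F) : Matrix (Fin n) (Fin n) F) *ᵥ ((g : Matrix (Fin n) (Fin n) F) *ᵥ x) = x := by
  rw [Matrix.mulVec_mulVec, ← Units.val_mul, inv_mul_cancel, Units.val_one, Matrix.one_mulVec]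

lemma mulVec_inv_mulVec (g : GL (Fin n) F) (x : Fin n → F) :
    (g : Matrix (Fin n) (Fin n) F) *ᵥ (((g⁻¹ : GL (Fin n) F) : Matrix (Fin n) (Fin n) F) *ᵥ x) = x := by
  rw [Matrix.mulVec_mulVec, ← Units.val_mul, mul_inv_cancel, Units.val_one, Matrix.one_mulVec]

/-- transvections with the same centre multiply by adding the functionals -/
lemma tv_mul_same (v f f' : Fin n → F) (h : f ⬝ᵥ v = 0) (h' : f' ⬝ᵥ v = 0)
    (h'' : (f + f') ⬝ᵥ v = 0) : tv v f h * tv v f' h' = tv v (f + f') h'' := by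
  apply gl_ext
  intro x
  rw [mul_mulVec, tv_mulVec, tv_mulVec, tv_mulVec, dotProduct_add, dotProduct_smul, h,
    add_dotProduct]
  simp only [smul_eq_mul, mul_zero]
  module

end GLext

section Hyp

variable {n : ℕ} {F : Type*} [Field F] [Fintype F] {Q : (Fin n → F) → F}
variable (hQ : Cfsg.Geo.IsNondegenerateQuadraticForm Q)

include hQ

/-- a hyperbolic pair perpendicular to `k` given vectors, `2k + 3 ≤ n` -/
lemma exists_hyperbolic_pair (hodd : Odd (Fintype.card F)) (h2 : (2 : F) ≠ 0) {k : ℕ}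
    (d : Fin k → (Fin n → F)) (hk : 2 * k + 3 ≤ n) :
    ∃ e f : Fin n → F, (∀ i, pol Q e (d i) = 0) ∧ (∀ i, pol Q f (d i) = 0) ∧ Q e = 0 ∧ Q f = 0 ∧
      pol Q e f = 1 := by
  have h1 := finrank_perpS_ge hQ d
  have h3 : Module.finrank F (Submodule.span F (Set.range d)) ≤ k := by
    have := finrank_range_le_card (R := F) d
    rwa [Fintype.card_fin] at this
  obtain ⟨e, heE, heR, hqe⟩ := exists_singular_notMem hQ hodd h2 (perpS hQ d)
    (Submodule.span F (Set.range d)) (by omega)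
  obtain ⟨y, hy1, hy2⟩ := exists_pol_eq_one hQ _ e heR
  rw [mem_perpS] at heE
  have hyd : ∀ i, pol Q y (d i) = 0 := fun i => hy2 _ (Submodule.subset_span ⟨i, rfl⟩)
  refine ⟨e, y + (-Q y) • e, heE, fun i => ?_, hqe, ?_, ?_⟩
  · rw [pol_add_left hQ, pol_smul_left hQ, hyd, heE, mul_zero, add_zero]
  · rw [Q_add_smul hQ, hqe, hy1]; ring
  · rw [pol_add_right hQ, pol_smul_right hQ, pol_self hQ, hqe, pol_comm e y, hy1]; ring

end Hyp

section Siegel

variable {n : ℕ} {F : Type*} [Field F] {Q : (Fin n → F) → F}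
variable (hQ : Cfsg.Geo.IsNondegenerateQuadraticForm Q)

include hQ

lemma sieg_aux1 (u w : Fin n → F) (hu : Q u = 0) (huw : pol Q u w = 0) :
    (flat hQ w + Q w • flat hQ u) ⬝ᵥ u = 0 := by
  rw [add_dotProduct, smul_dotProduct, flat_dot, flat_dot, pol_self hQ, hu, huw]
  simp

lemma sieg_aux2 (u w : Fin n → F) (huw : pol Q u w = 0) :
    (-(flat hQ u)) ⬝ᵥ w = 0 := by
  rw [neg_dotProduct, flat_dot, pol_comm, huw, neg_zero]

/-- the Siegel transformation `x ↦ x + (B(x,w) - Q(w) B(x,u)) u - B(x,u) w` -/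
def sieg (u w : Fin n → F) (hu : Q u = 0) (huw : pol Q u w = 0) : GL (Fin n) F :=
  tv u (flat hQ w + Q w • flat hQ u) (sieg_aux1 hQ u w hu huw) *
    tv w (-(flat hQ u)) (sieg_aux2 hQ u w huw)

lemma sieg_mulVec (u w : Fin n → F) (hu : Q u = 0) (huw : pol Q u w = 0) (x : Fin n → F) :
    ((sieg hQ u w hu huw : GL (Fin n) F) : Matrix (Fin n) (Fin n) F) *ᵥ x =
      x + (pol Q x w - Q w * pol Q x u) • u - pol Q x u • w := by
  rw [sieg, mul_mulVec, tv_mulVec, tv_mulVec, neg_dotProduct, flat_dot, add_dotProduct,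
    smul_dotProduct, flat_dot, flat_dot]
  simp only [pol_add_left hQ, pol_smul_left hQ, pol_neg_left hQ, neg_smul, smul_eq_mul]
  rw [pol_self hQ, pol_comm w u, huw]
  have e : (pol Q x w + -(pol Q x u * (2 * Q w)) + Q w * (pol Q x u + -(pol Q x u * 0))) =
      pol Q x w - Q w * pol Q x u := by ring
  rw [e]
  abel

lemma sieg_Q (u w : Fin n → F) (hu : Q u = 0) (huw : pol Q u w = 0) (x : Fin n → F) :
    Q (((sieg hQ u w hu huw : GL (Fin n) F) : Matrix (Fin n) (Fin n) F) *ᵥ x) = Q x := by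
  rw [sieg_mulVec, sub_eq_add_neg, ← neg_smul, add_assoc, Q_add Q, Q_add Q, hQ.smul, hQ.smul, hu]
  simp only [pol_add_right hQ, pol_smul_left hQ, pol_smul_right hQ]
  rw [huw]
  ring

lemma sieg_pol (u w : Fin n → F) (hu : Q u = 0) (huw : pol Q u w = 0) (x y : Fin n → F) :
    pol Q (((sieg hQ u w hu huw : GL (Fin n) F) : Matrix (Fin n) (Fin n) F) *ᵥ x)
      (((sieg hQ u w hu huw : GL (Fin n) F) : Matrix (Fin n) (Fin n) F) *ᵥ y) = pol Q x y := by
  rw [pol, QuadraticMap.polar, ← Matrix.mulVec_add, sieg_Q hQ, sieg_Q hQ, sieg_Q hQ]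
  rfl

lemma sieg_mem (u w : Fin n → F) (hu : Q u = 0) (huw : pol Q u w = 0) :
    sieg hQ u w hu huw ∈ Cfsg.Geo.quadSimilarityGroup Q ⊓ Cfsg.Geo.specialLinear (Fin n) F := by
  refine ⟨⟨1, fun v => ?_⟩, ?_⟩
  · rw [sieg_Q hQ, Units.val_one, one_mul]
  · exact (Cfsg.Geo.specialLinear (Fin n) F).mul_mem (tv_mem_specialLinear _ _ _)
      (tv_mem_specialLinear _ _ _)

lemma sieg_neg_aux (u w : Fin n → F) (huw : pol Q u w = 0) : pol Q u (-w) = 0 := by
  rw [pol_neg_right hQ, huw, neg_zero]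

lemma sieg_inv (u w : Fin n → F) (hu : Q u = 0) (huw : pol Q u w = 0) :
    (sieg hQ u w hu huw)⁻¹ = sieg hQ u (-w) hu (sieg_neg_aux hQ u w huw) := by
  apply inv_eq_of_mul_eq_one_left
  apply gl_ext
  intro x
  rw [mul_mulVec, sieg_mulVec, sieg_mulVec, Units.val_one, Matrix.one_mulVec, Q_neg hQ]
  simp only [pol_add_left hQ, pol_sub_left hQ, pol_smul_left hQ, pol_neg_right hQ]
  rw [pol_self hQ, pol_self hQ, hu, pol_comm w u, huw]
  module

end Siegel

end Cfsg.Agent.Lib.Helper4.Orth
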