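import Mathlib
import Cfsg.Prelude.Def_GeometricClasses
import Cfsg.Agent.S5631
import Cfsg.Agent.Lib.Helper4.OrthB

set_option autoImplicit false
open Cfsg

/-!
Transvections from commutators of Siegel transformations, and the passage from a line of
transvections with singular centre to all transvections.
-/

namespace Cfsg.Agent.Lib.Helper4.Orth

open Matrix Cfsg.Agent.S5631

section Comm

variable {n : ℕ} {F : Type*} [Field F] {Q : (Fin n → F) → F}
variable (hQ : Cfsg.Geo.IsNondegenerateQuadraticForm Q)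

lemma tv_congr (v v' f f' : Fin n → F) (hv : v = v') (hf : f = f') (h : f ⬝ᵥ v = 0)
    (h' : f' ⬝ᵥ v' = 0) : tv v f h = tv v' f' h' := by
  subst hv; subst hf; rfl

lemma tv_zero_right (v : Fin n → F) (h : (0 : Fin n → F) ⬝ᵥ v = 0) : tv v 0 h = 1 := by
  apply gl_ext
  intro x
  rw [tv_mulVec, zero_dotProduct, zero_smul, add_zero, Units.val_one, Matrix.one_mulVec]

include hQ

/-- the commutator of a Siegel transformation with an element fixing `u`, `w` is a transvection -/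
lemma tv_mem_of_sieg_comm (M : Subgroup (GL (Fin n) F)) (u w : Fin n → F) (hu : Q u = 0)
    (huw : pol Q u w = 0) (hρ : sieg hQ u w hu huw ∈ M) (Y : GL (Fin n) F) (hY : Y ∈ M)
    (hYu : (Y : Matrix (Fin n) (Fin n) F) *ᵥ u = u) (hYw : (Y : Matrix (Fin n) (Fin n) F) *ᵥ w = w)
    (hYp : ∀ x, pol Q (((Y⁻¹ : GL (Fin n) F) : Matrix (Fin n) (Fin n) F) *ᵥ x) u = pol Q x u)
    (f : Fin n → F)
    (hf : ∀ x, f ⬝ᵥ x = pol Q x w -
      pol Q (((Y⁻¹ : GL (Fin n) F) : Matrix (Fin n) (Fin n) F) *ᵥ x) w)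
    (h0 : f ⬝ᵥ u = 0) : tv u f h0 ∈ M := by
  have e : tv u f h0 = sieg hQ u w hu huw * Y * (sieg hQ u w hu huw)⁻¹ * Y⁻¹ := by
    apply gl_ext
    intro x
    rw [mul_mulVec, mul_mulVec, mul_mulVec, sieg_inv hQ, tv_mulVec, hf]
    set x' := ((Y⁻¹ : GL (Fin n) F) : Matrix (Fin n) (Fin n) F) *ᵥ x with hx'
    rw [sieg_mulVec hQ u (-w), Matrix.mulVec_sub, Matrix.mulVec_add, Matrix.mulVec_smul,
      Matrix.mulVec_smul, Matrix.mulVec_neg, hYu, hYw, hx', mulVec_inv_mulVec, ← hx',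
      sieg_mulVec hQ u w, Q_neg hQ]
    simp only [pol_add_left hQ, pol_sub_left hQ, pol_smul_left hQ, pol_neg_left hQ,
      pol_neg_right hQ]
    rw [pol_self hQ, pol_self hQ, hu, pol_comm w u, huw, hYp x]
    module
  rw [e]
  exact M.mul_mem (M.mul_mem (M.mul_mem hρ hY) (M.inv_mem hρ)) (M.inv_mem hY)

end Comm

section Line

variable {n : ℕ} {F : Type*} [Field F] {Q : (Fin n → F) → F}
variable (hQ : Cfsg.Geo.IsNondegenerateQuadraticForm Q)

/-- the vectors `z ⊥ u` all of whose multiples give transvections of `M` with centre `u` -/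
def lineSpace (M : Subgroup (GL (Fin n) F)) (u : Fin n → F) : Submodule F (Fin n → F) where
  carrier := {z | pol Q z u = 0 ∧ ∀ (c : F) (f : Fin n → F) (_ : f = c • flat hQ z)
    (h0 : f ⬝ᵥ u = 0), tv u f h0 ∈ M}
  zero_mem' := by
    refine ⟨pol_zero_left hQ u, fun c f hf h0 => ?_⟩
    have : f = 0 := by rw [hf, map_zero, smul_zero]
    subst this
    rw [tv_zero_right]; exact M.one_mem
  add_mem' := by
    rintro z z' ⟨hz1, hz2⟩ ⟨hz1', hz2'⟩
    refine ⟨by rw [pol_add_left hQ, hz1, hz1', add_zero], fun c f hf h0 => ?_⟩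
    have h1 : (c • flat hQ z) ⬝ᵥ u = 0 := by
      rw [smul_dotProduct, flat_dot, pol_comm, hz1, smul_zero]
    have h1' : (c • flat hQ z') ⬝ᵥ u = 0 := by
      rw [smul_dotProduct, flat_dot, pol_comm, hz1', smul_zero]
    have e : f = c • flat hQ z + c • flat hQ z' := by rw [hf, map_add, smul_add]
    subst e
    rw [← tv_mul_same u _ _ h1 h1' h0]
    exact M.mul_mem (hz2 c _ rfl h1) (hz2' c _ rfl h1')
  smul_mem' := by
    rintro c' z ⟨hz1, hz2⟩
    refine ⟨by rw [pol_smul_left hQ, hz1, mul_zero], fun c f hf h0 => ?_⟩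
    exact hz2 (c * c') f (by rw [hf, map_smul, smul_smul]) h0

lemma mem_lineSpace (M : Subgroup (GL (Fin n) F)) (u z : Fin n → F) :
    z ∈ lineSpace hQ M u ↔ pol Q z u = 0 ∧ ∀ (c : F) (f : Fin n → F) (_ : f = c • flat hQ z)
      (h0 : f ⬝ᵥ u = 0), tv u f h0 ∈ M := Iff.rfl

/-- `lineSpace` is invariant under isometries in `M` fixing `u` -/
lemma lineSpace_invariant (M : Subgroup (GL (Fin n) F)) (u : Fin n → F) (h : GL (Fin n) F)
    (hM : h ∈ M) (hu : (h : Matrix (Fin n) (Fin n) F) *ᵥ u = u)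
    (hiso : ∀ x y, pol Q ((h : Matrix (Fin n) (Fin n) F) *ᵥ x)
      ((h : Matrix (Fin n) (Fin n) F) *ᵥ y) = pol Q x y)
    (z : Fin n → F) (hz : z ∈ lineSpace hQ M u) :
    (h : Matrix (Fin n) (Fin n) F) *ᵥ z ∈ lineSpace hQ M u := by
  obtain ⟨hz1, hz2⟩ := hz
  refine ⟨?_, fun c f hf h0 => ?_⟩
  · have := hiso z u
    rw [hu] at this
    rw [this, hz1]
  · have h0' : f ⬝ᵥ ((h : Matrix (Fin n) (Fin n) F) *ᵥ u) = 0 := by rw [hu]; exact h0
    obtain ⟨h'', e⟩ := conj_tv h u f h0'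
    have e2 : tv ((h : Matrix (Fin n) (Fin n) F) *ᵥ u) f h0' = tv u f h0 :=
      tv_congr _ _ _ _ hu rfl _ _
    rw [← e2, ← e]
    have e3 : f ᵥ* (h : Matrix (Fin n) (Fin n) F) = c • flat hQ z := by
      apply vec_ext_dot
      intro x
      rw [← Matrix.dotProduct_mulVec, hf, smul_dotProduct, smul_dotProduct, flat_dot, flat_dot,
        hiso]
    exact M.mul_mem (M.mul_mem hM (hz2 c _ e3 h'')) (M.inv_mem hM)

variable [Fintype F]

include hQ in
/-- from one line of transvections with singular centre `u` to all transvections with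
centre `u` -/
lemma mem_SS_of_line (hodd : Odd (Fintype.card F)) (h2 : (2 : F) ≠ 0) (hn : 9 ≤ n)
    (M : Subgroup (GL (Fin n) F))
    (hH : Cfsg.Geo.quadSimilarityGroup Q ⊓ Cfsg.Geo.specialLinear (Fin n) F ≤ M)
    (u : Fin n → F) (hu : Q u = 0) (z₀ : Fin n → F)
    (hz0 : z₀ ∉ Submodule.span F {u}) (hz : z₀ ∈ lineSpace hQ M u) : u ∈ SS M := by
  have hz0u : pol Q z₀ u = 0 := hz.1
  -- a vector `y ⊥ u` with `pol y z₀ = 1`
  obtain ⟨y, hy1, hy2⟩ := exists_pol_eq_one hQ _ z₀ hz0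
  have hyu : pol Q y u = 0 := hy2 u (Submodule.mem_span_singleton_self u)
  -- a hyperbolic pair perpendicular to `u, z₀, y`
  obtain ⟨e, f, he, hf, hqe, hqf, hef⟩ := exists_hyperbolic_pair hQ hodd h2 (![u, z₀, y])
    (by omega)
  have heu : pol Q e u = 0 := he 0
  have hez : pol Q e z₀ = 0 := he 1
  have hey : pol Q e y = 0 := he 2
  have hfu : pol Q f u = 0 := hf 0
  have hfz : pol Q f z₀ = 0 := hf 1
  have hfy : pol Q f y = 0 := hf 2
  -- the singular vector `u'`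
  set u' := y + e + (-Q y) • f with hu'
  have hqu' : Q u' = 0 := by
    rw [hu', Q_add_smul hQ, Q_add Q, hqe, hqf, pol_add_left hQ, pol_comm y e, pol_comm y f, hey,
      hef]
    rw [pol_comm] at hfy
    rw [pol_comm f y, hfy]
    ring
  have hu'u : pol Q u' u = 0 := by
    rw [hu', pol_add_left hQ, pol_add_left hQ, pol_smul_left hQ, hyu, heu, hfu]; ring
  have hzu' : pol Q z₀ u' = 1 := by
    rw [hu', pol_add_right hQ, pol_add_right hQ, pol_smul_right hQ, pol_comm z₀ y, hy1,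
      pol_comm z₀ e, hez, pol_comm z₀ f, hfz]
    ring
  -- Siegel transformations with centre `u'` fix `u`
  have hsieg : ∀ (w : Fin n → F) (hw : pol Q u' w = 0), pol Q w u = 0 →
      ((sieg hQ u' w hqu' hw : GL (Fin n) F) : Matrix (Fin n) (Fin n) F) *ᵥ z₀ ∈
        lineSpace hQ M u := by
    intro w hw hwu
    apply lineSpace_invariant hQ M u _ (hH (sieg_mem hQ u' w hqu' hw)) _ (sieg_pol hQ u' w hqu' hw)
      z₀ hz
    rw [sieg_mulVec, pol_comm u w, hwu, pol_comm u u', hu'u]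
    simp
  -- an anisotropic vector perpendicular to `u, u'`
  obtain ⟨e₂, f₂, he₂, hf₂, hqe₂, hqf₂, hef₂⟩ := exists_hyperbolic_pair hQ hodd h2 (![u, u'])
    (by omega)
  have he₂u : pol Q e₂ u = 0 := he₂ 0
  have he₂u' : pol Q e₂ u' = 0 := he₂ 1
  have hf₂u : pol Q f₂ u = 0 := hf₂ 0
  have hf₂u' : pol Q f₂ u' = 0 := hf₂ 1
  set w' := e₂ + f₂ with hw'
  have hqw' : Q w' = 1 := by rw [hw', Q_add Q, hqe₂, hqf₂, hef₂]; ring
  have hw'u : pol Q w' u = 0 := by rw [hw', pol_add_left hQ, he₂u, hf₂u, add_zero]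
  have hu'w' : pol Q u' w' = 0 := by
    rw [pol_comm, hw', pol_add_left hQ, he₂u', hf₂u', add_zero]
  -- `u' ∈ lineSpace`
  have hu'G : u' ∈ lineSpace hQ M u := by
    have h1 := hsieg w' hu'w' hw'u
    have h3 := hsieg (-w') (sieg_neg_aux hQ u' w' hu'w') (by rw [pol_neg_left hQ, hw'u, neg_zero])
    rw [sieg_mulVec] at h1 h3
    rw [Q_neg hQ, pol_neg_right hQ] at h3
    rw [hqw', hzu'] at h1 h3
    have h4 := (lineSpace hQ M u).add_mem ((lineSpace hQ M u).sub_mem h1 hz)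
      ((lineSpace hQ M u).sub_mem h3 hz)
    have h5 : (z₀ + (pol Q z₀ w' - 1 * 1) • u' - (1 : F) • w' - z₀) +
        (z₀ + (-pol Q z₀ w' - 1 * 1) • u' - (1 : F) • (-w') - z₀) = (-2 : F) • u' := by
      module
    rw [h5] at h4
    have h6 := (lineSpace hQ M u).smul_mem (-2 : F)⁻¹ h4
    rwa [smul_smul, inv_mul_cancel₀ (neg_ne_zero.2 h2), one_smul] at h6
  -- everything perpendicular to `u, u'` lies in `lineSpace`
  have hperp : ∀ w : Fin n → F, pol Q w u = 0 → pol Q w u' = 0 → w ∈ lineSpace hQ M u := by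
    intro w hwu hwu'
    have h1 := hsieg w (by rw [pol_comm]; exact hwu') hwu
    rw [sieg_mulVec, hzu'] at h1
    have h4 := (lineSpace hQ M u).sub_mem ((lineSpace hQ M u).sub_mem h1 hz)
      ((lineSpace hQ M u).smul_mem (pol Q z₀ w - Q w * 1) hu'G)
    have h5 : z₀ + (pol Q z₀ w - Q w * 1) • u' - (1 : F) • w - z₀ -
        (pol Q z₀ w - Q w * 1) • u' = (-1 : F) • w := by module
    rw [h5] at h4
    have h6 := (lineSpace hQ M u).smul_mem (-1 : F) h4
    rwa [smul_smul, neg_one_mul, neg_neg, one_smul] at h6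
  -- everything perpendicular to `u` lies in `lineSpace`
  have hall : ∀ x : Fin n → F, pol Q x u = 0 → x ∈ lineSpace hQ M u := by
    intro x hxu
    have h1 : x - pol Q x u' • z₀ ∈ lineSpace hQ M u := by
      apply hperp
      · rw [pol_sub_left hQ, pol_smul_left hQ, hxu, hz0u]; ring
      · rw [pol_sub_left hQ, pol_smul_left hQ, hzu']; ring
    have h3 := (lineSpace hQ M u).add_mem h1 ((lineSpace hQ M u).smul_mem (pol Q x u') hz)
    rwa [sub_add_cancel] at h3
  -- conclusion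
  intro φ hφ
  obtain ⟨z, rfl⟩ := exists_flat_eq hQ φ
  have hzu : pol Q z u = 0 := by
    rw [flat_dot] at hφ
    rw [pol_comm]; exact hφ
  exact (hall z hzu).2 1 _ (by rw [one_smul]) hφ

include hQ in
/-- if `SS M` contains a nonzero singular vector and `M` contains the special orthogonal group,
then `SS M` is everything -/
lemma SS_eq_top_of_singular (hodd : Odd (Fintype.card F)) (h2 : (2 : F) ≠ 0) (hn : 5 ≤ n)
    (M : Subgroup (GL (Fin n) F))
    (hH : Cfsg.Geo.quadSimilarityGroup Q ⊓ Cfsg.Geo.specialLinear (Fin n) F ≤ M)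
    (u : Fin n → F) (hu0 : u ≠ 0) (hu : Q u = 0) (huS : u ∈ SS M) : SS M = ⊤ := by
  -- `y` with `pol y u = 1`
  obtain ⟨y, hy1, -⟩ := exists_pol_eq_one hQ ⊥ u (by rw [Submodule.mem_bot]; exact hu0)
  set u₂ := y + (-Q y) • u with hu₂
  have hqu₂ : Q u₂ = 0 := by rw [hu₂, Q_add_smul hQ, hu, hy1]; ring
  have huu₂ : pol Q u u₂ = 1 := by
    rw [hu₂, pol_add_right hQ, pol_smul_right hQ, pol_self hQ, hu, pol_comm, hy1]; ring
  obtain ⟨e, f, he, hf, hqe, hqf, hef⟩ := exists_hyperbolic_pair hQ hodd h2 (![u₂]) (by omega)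
  have heu : pol Q e u₂ = 0 := he 0
  have hfu : pol Q f u₂ = 0 := hf 0
  set w' := e + f with hw'
  have hqw' : Q w' = 1 := by rw [hw', Q_add Q, hqe, hqf, hef]; ring
  have hu₂w' : pol Q u₂ w' = 0 := by rw [pol_comm, hw', pol_add_left hQ, heu, hfu, add_zero]
  have hsieg : ∀ (w : Fin n → F) (hw : pol Q u₂ w = 0),
      ((sieg hQ u₂ w hqu₂ hw : GL (Fin n) F) : Matrix (Fin n) (Fin n) F) *ᵥ u ∈ SS M :=
    fun w hw => mulVec_mem_SS M _ (hH (sieg_mem hQ u₂ w hqu₂ hw)) u huS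
  have hu₂S : u₂ ∈ SS M := by
    have h1 := hsieg w' hu₂w'
    have h3 := hsieg (-w') (sieg_neg_aux hQ u₂ w' hu₂w')
    rw [sieg_mulVec] at h1 h3
    rw [Q_neg hQ, pol_neg_right hQ] at h3
    rw [hqw', huu₂] at h1 h3
    have h4 := (SS M).add_mem ((SS M).sub_mem h1 huS) ((SS M).sub_mem h3 huS)
    have h5 : (u + (pol Q u w' - 1 * 1) • u₂ - (1 : F) • w' - u) +
        (u + (-pol Q u w' - 1 * 1) • u₂ - (1 : F) • (-w') - u) = (-2 : F) • u₂ := by
      module
    rw [h5] at h4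
    have h6 := (SS M).smul_mem (-2 : F)⁻¹ h4
    rwa [smul_smul, inv_mul_cancel₀ (neg_ne_zero.2 h2), one_smul] at h6
  have hperp : ∀ w : Fin n → F, pol Q w u₂ = 0 → w ∈ SS M := by
    intro w hwu
    have h1 := hsieg w (by rw [pol_comm]; exact hwu)
    rw [sieg_mulVec, huu₂] at h1
    have h4 := (SS M).sub_mem ((SS M).sub_mem h1 huS) ((SS M).smul_mem (pol Q u w - Q w * 1) hu₂S)
    have h5 : u + (pol Q u w - Q w * 1) • u₂ - (1 : F) • w - u -
        (pol Q u w - Q w * 1) • u₂ = (-1 : F) • w := by module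
    rw [h5] at h4
    have h6 := (SS M).smul_mem (-1 : F) h4
    rwa [smul_smul, neg_one_mul, neg_neg, one_smul] at h6
  rw [eq_top_iff]
  intro x _
  have h1 : x - pol Q x u₂ • u ∈ SS M := by
    apply hperp
    rw [pol_sub_left hQ, pol_smul_left hQ, huu₂]; ring
  have h3 := (SS M).add_mem h1 ((SS M).smul_mem (pol Q x u₂) huS)
  rwa [sub_add_cancel] at h3

end Line

end Cfsg.Agent.Lib.Helper4.Orth
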