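import Mathlib
import Cfsg.Prelude.Def_GeometricClasses
import Cfsg.Agent.S5631
import Cfsg.Agent.Lib.Helper4.OrthC

set_option autoImplicit false
open Cfsg

/-!
The transported quadratic form `Q ∘ g⁻¹` and the construction of a line of transvections in an
overgroup of the special orthogonal group containing a non-similarity.
-/

namespace Cfsg.Agent.Lib.Helper4.Orth

open Matrix Cfsg.Agent.S5631

section Transport

variable {n : ℕ} {F : Type*} [Field F] {Q : (Fin n → F) → F}
variable (hQ : Cfsg.Geo.IsNondegenerateQuadraticForm Q)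

/-- the form transported by `g` -/
def transQ (Q : (Fin n → F) → F) (g : GL (Fin n) F) : (Fin n → F) → F :=
  fun x => Q (((g⁻¹ : GL (Fin n) F) : Matrix (Fin n) (Fin n) F) *ᵥ x)

lemma transQ_apply (g : GL (Fin n) F) (x : Fin n → F) :
    transQ Q g x = Q (((g⁻¹ : GL (Fin n) F) : Matrix (Fin n) (Fin n) F) *ᵥ x) := rfl

lemma pol_transQ (g : GL (Fin n) F) (x y : Fin n → F) :
    pol (transQ Q g) x y = pol Q (((g⁻¹ : GL (Fin n) F) : Matrix (Fin n) (Fin n) F) *ᵥ x)
      (((g⁻¹ : GL (Fin n) F) : Matrix (Fin n) (Fin n) F) *ᵥ y) := by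
  rw [pol, QuadraticMap.polar, pol, QuadraticMap.polar, transQ_apply, transQ_apply, transQ_apply,
    Matrix.mulVec_add]

include hQ in
lemma transQ_nondeg (g : GL (Fin n) F) : Cfsg.Geo.IsNondegenerateQuadraticForm (transQ Q g) := by
  refine ⟨fun c v => ?_, ⟨?_, ?_, ?_, ?_⟩, fun v hv => ?_⟩
  · rw [transQ_apply, transQ_apply, Matrix.mulVec_smul, hQ.smul]
  · intro x y v
    show pol (transQ Q g) (x + y) v = pol (transQ Q g) x v + pol (transQ Q g) y v
    rw [pol_transQ, pol_transQ, pol_transQ, Matrix.mulVec_add, pol_add_left hQ]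
  · intro c x v
    show pol (transQ Q g) (c • x) v = c * pol (transQ Q g) x v
    rw [pol_transQ, pol_transQ, Matrix.mulVec_smul, pol_smul_left hQ]
  · intro v x y
    show pol (transQ Q g) v (x + y) = pol (transQ Q g) v x + pol (transQ Q g) v y
    rw [pol_transQ, pol_transQ, pol_transQ, Matrix.mulVec_add, pol_add_right hQ]
  · intro c v x
    show pol (transQ Q g) v (c • x) = c * pol (transQ Q g) v x
    rw [pol_transQ, pol_transQ, Matrix.mulVec_smul, pol_smul_right hQ]
  · have hv' : ((g⁻¹ : GL (Fin n) F) : Matrix (Fin n) (Fin n) F) *ᵥ v ≠ 0 := by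
      intro h0
      apply hv
      have := mulVec_inv_mulVec g v
      rw [h0, Matrix.mulVec_zero] at this
      exact this.symm
    obtain ⟨⟨x, hx⟩, ⟨y, hy⟩⟩ := hQ.nondegenerate _ hv'
    refine ⟨⟨(g : Matrix (Fin n) (Fin n) F) *ᵥ x, ?_⟩, ⟨(g : Matrix (Fin n) (Fin n) F) *ᵥ y, ?_⟩⟩
    · show pol (transQ Q g) _ _ ≠ 0
      rw [pol_transQ, inv_mulVec_mulVec]; exact hx
    · show pol (transQ Q g) _ _ ≠ 0
      rw [pol_transQ, inv_mulVec_mulVec]; exact hy

/-- the special orthogonal group of the transported form lies in any subgroup containing `g`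
and the special orthogonal group of `Q` -/
lemma transQ_le (M : Subgroup (GL (Fin n) F))
    (hH : Cfsg.Geo.quadSimilarityGroup Q ⊓ Cfsg.Geo.specialLinear (Fin n) F ≤ M)
    (g : GL (Fin n) F) (hg : g ∈ M) :
    Cfsg.Geo.quadSimilarityGroup (transQ Q g) ⊓ Cfsg.Geo.specialLinear (Fin n) F ≤ M := by
  rintro h ⟨⟨c, hc⟩, hdet⟩
  have hdet : h ∈ Cfsg.Geo.specialLinear (Fin n) F := hdet
  have h1 : g⁻¹ * h * g ∈ Cfsg.Geo.quadSimilarityGroup Q ⊓ Cfsg.Geo.specialLinear (Fin n) F := by
    refine ⟨⟨c, fun v => ?_⟩, ?_⟩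
    · have := hc ((g : Matrix (Fin n) (Fin n) F) *ᵥ v)
      rw [transQ_apply, transQ_apply, inv_mulVec_mulVec] at this
      rw [mul_mulVec, mul_mulVec]
      exact this
    · show g⁻¹ * h * g ∈ Cfsg.Geo.specialLinear (Fin n) F
      rw [Cfsg.Geo.specialLinear, MonoidHom.mem_ker] at hdet ⊢
      rw [map_mul, map_mul, hdet, mul_one, ← map_mul, inv_mul_cancel, map_one]
  have h2 : h = g * (g⁻¹ * h * g) * g⁻¹ := by group
  rw [h2]
  exact M.mul_mem (M.mul_mem hg (hH h1)) (M.inv_mem hg)

include hQ in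
/-- a non-similarity moves the polar form to a non-proportional one -/
lemma exists_not_prop (h2 : (2 : F) ≠ 0) (hn : 1 ≤ n) (g : GL (Fin n) F)
    (hg : g ∉ Cfsg.Geo.quadSimilarityGroup Q) :
    ∃ b, flat hQ b ∉ Submodule.span F {flat (transQ_nondeg hQ g) b} := by
  by_contra hcon
  push Not at hcon
  set hQ' := transQ_nondeg hQ g with hQ'def
  let e' : (Fin n → F) ≃ₗ[F] (Fin n → F) :=
    LinearEquiv.ofBijective (flat hQ') ⟨flat_injective hQ', flat_surjective hQ'⟩
  have he' : ∀ x, e' x = flat hQ' x := fun x => rfl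
  let T : (Fin n → F) →ₗ[F] (Fin n → F) := e'.symm.toLinearMap ∘ₗ flat hQ
  have hT : ∀ v, ¬ LinearIndependent F ![v, T v] := by
    intro v
    obtain ⟨c, hc⟩ := Submodule.mem_span_singleton.1 (hcon v)
    have hTv : T v = c • v := by
      show e'.symm (flat hQ v) = c • v
      rw [← hc, ← he', ← map_smul, LinearEquiv.symm_apply_apply]
    rw [LinearIndependent.pair_iff]
    intro h
    have := (h c (-1) (by rw [hTv]; module)).2
    exact one_ne_zero (neg_eq_zero.1 this)
  obtain ⟨a, ha⟩ := LinearMap.exists_eq_smul_id_of_forall_notLinearIndependent hT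
  have hflat : ∀ v, flat hQ v = a • flat hQ' v := by
    intro v
    have h1 : T v = a • v := by rw [ha]; rfl
    have h3 : e' (T v) = flat hQ v := by
      show e' (e'.symm (flat hQ v)) = flat hQ v
      rw [LinearEquiv.apply_symm_apply]
    rw [← h3, h1, map_smul, he']
  have hpol : ∀ x y, pol Q x y = a * pol (transQ Q g) x y := by
    intro x y
    rw [← flat_dot hQ, hflat, smul_dotProduct, flat_dot hQ', smul_eq_mul]
  have hQa : ∀ x, Q x = a * transQ Q g x := by
    intro x
    have h1 := hpol x x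
    rw [pol_self hQ, pol_self hQ'] at h1
    have h3 : (2 : F) * (Q x - a * transQ Q g x) = 0 := by linear_combination h1
    have h4 := (mul_eq_zero.1 h3).resolve_left h2
    linear_combination h4
  have ha0 : a ≠ 0 := by
    rintro rfl
    have hv : (Pi.single (⟨0, by omega⟩ : Fin n) (1 : F) : Fin n → F) ≠ 0 :=
      Pi.single_ne_zero_iff.2 one_ne_zero
    obtain ⟨⟨x, hx⟩, -⟩ := hQ.nondegenerate _ hv
    apply hx
    show pol Q _ _ = 0
    rw [hpol, zero_mul]
  apply hg
  refine ⟨Units.mk0 a ha0, fun v => ?_⟩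
  rw [hQa ((g : Matrix (Fin n) (Fin n) F) *ᵥ v), transQ_apply, inv_mulVec_mulVec]
  rfl

end Transport

section Line2

variable {n : ℕ} {F : Type*} [Field F] [Fintype F] {Q : (Fin n → F) → F}
variable (hQ : Cfsg.Geo.IsNondegenerateQuadraticForm Q)

include hQ in
/-- an overgroup of the special orthogonal group containing a non-similarity contains a line of
transvections with singular centre -/
lemma exists_line (hodd : Odd (Fintype.card F)) (h2 : (2 : F) ≠ 0) (hn : 11 ≤ n)
    (M : Subgroup (GL (Fin n) F))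
    (hH : Cfsg.Geo.quadSimilarityGroup Q ⊓ Cfsg.Geo.specialLinear (Fin n) F ≤ M)
    (g : GL (Fin n) F) (hgM : g ∈ M) (hg : g ∉ Cfsg.Geo.quadSimilarityGroup Q) :
    ∃ u z₀ : Fin n → F, u ≠ 0 ∧ Q u = 0 ∧ z₀ ∉ Submodule.span F {u} ∧ z₀ ∈ lineSpace hQ M u := by
  have hQ' := transQ_nondeg hQ g
  have hH' := transQ_le M hH g hgM
  obtain ⟨b, hb⟩ := exists_not_prop hQ h2 (by omega) g hg
  -- the test vector `c₁`
  obtain ⟨c₁, hc1, hc2⟩ := exists_functional _ _ hb
  have hc1b : pol Q c₁ b = 1 := by rw [← dot_flat hQ]; exact hc1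
  have hc1b' : pol (transQ Q g) c₁ b = 0 := by
    rw [← dot_flat hQ']; exact hc2 _ (Submodule.mem_span_singleton_self _)
  obtain ⟨c₁s, hc1s⟩ := exists_flat_eq hQ' (flat hQ c₁)
  have hc1s' : ∀ x, pol (transQ Q g) x c₁s = pol Q x c₁ := fun x => by
    rw [← flat_dot hQ', hc1s, flat_dot hQ]
  -- the vector `A`
  have hE := finrank_perpS_ge hQ' (![b, c₁, c₁s])
  obtain ⟨A, hAE, hA0, hqA⟩ := exists_singular_of_finrank hQ' hodd h2
    (perpS hQ' (![b, c₁, c₁s])) (by omega)
  rw [mem_perpS] at hAE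
  have hAb : pol (transQ Q g) A b = 0 := hAE 0
  have hAc : pol (transQ Q g) A c₁ = 0 := hAE 1
  have hAcs : pol Q A c₁ = 0 := by rw [← hc1s']; exact hAE 2
  -- the vectors representing the second form in terms of the first
  obtain ⟨Ad, hAd⟩ := exists_flat_eq hQ (flat hQ' A)
  have hAd' : ∀ x, pol Q x Ad = pol (transQ Q g) x A := fun x => by
    rw [← flat_dot hQ, hAd, flat_dot hQ']
  obtain ⟨bd, hbd⟩ := exists_flat_eq hQ (flat hQ' b)
  have hbd' : ∀ x, pol Q x bd = pol (transQ Q g) x b := fun x => by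
    rw [← flat_dot hQ, hbd, flat_dot hQ']
  -- the vector `u`
  have hE₂ := finrank_perpS_ge hQ (![A, b, Ad, bd])
  have hR : Module.finrank F (Submodule.span F (Set.range (![A, Ad, bd, b]))) ≤ 4 := by
    have := finrank_range_le_card (R := F) (![A, Ad, bd, b])
    rwa [Fintype.card_fin] at this
  obtain ⟨u, huE, huR, hqu⟩ := exists_singular_notMem hQ hodd h2 (perpS hQ (![A, b, Ad, bd]))
    (Submodule.span F (Set.range (![A, Ad, bd, b]))) (by omega)
  rw [mem_perpS] at huE
  have huA : pol Q u A = 0 := huE 0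
  have hub : pol Q u b = 0 := huE 1
  have huA' : pol (transQ Q g) u A = 0 := by rw [← hAd']; exact huE 2
  have hub' : pol (transQ Q g) u b = 0 := by rw [← hbd']; exact huE 3
  have hu0 : u ≠ 0 := by
    rintro rfl
    exact huR (Submodule.zero_mem _)
  -- the vector `w`
  have hbR : b ∉ Submodule.span F (Set.range (![u, A, Ad, bd])) := by
    intro hmem
    obtain ⟨c, hc⟩ := (Submodule.mem_span_range_iff_exists_fun F).1 hmem
    rw [Fin.sum_univ_four] at hc
    simp only [Matrix.cons_val_zero, Matrix.cons_val_one, Matrix.cons_val] at hc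
    by_cases hc0 : c 0 = 0
    · have h1 : pol Q c₁ (c 0 • u + c 1 • A + c 2 • Ad + c 3 • bd) = pol Q c₁ b := by rw [hc]
      rw [hc0, zero_smul, zero_add, pol_add_right hQ, pol_add_right hQ, pol_smul_right hQ,
        pol_smul_right hQ, pol_smul_right hQ, hAd', hbd', pol_comm c₁ A, hAcs, hc1b',
        pol_comm c₁ A, hAc, hc1b] at h1
      simp at h1
    · apply huR
      have h1 : u = (c 0)⁻¹ • (b - c 1 • A - c 2 • Ad - c 3 • bd) := by
        rw [← hc]
        have : c 0 • u + c 1 • A + c 2 • Ad + c 3 • bd - c 1 • A - c 2 • Ad - c 3 • bd =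
            c 0 • u := by abel
        rw [this, smul_smul, inv_mul_cancel₀ hc0, one_smul]
      rw [h1]
      have hm : ∀ i, (![A, Ad, bd, b]) i ∈ Submodule.span F (Set.range (![A, Ad, bd, b])) :=
        fun i => Submodule.subset_span ⟨i, rfl⟩
      exact Submodule.smul_mem _ _ (Submodule.sub_mem _ (Submodule.sub_mem _ (Submodule.sub_mem _
        (hm 3) (Submodule.smul_mem _ _ (hm 0))) (Submodule.smul_mem _ _ (hm 1)))
        (Submodule.smul_mem _ _ (hm 2)))
  obtain ⟨w, hwb, hw⟩ := exists_pol_eq_one hQ _ b hbR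
  have hm2 : ∀ i, (![u, A, Ad, bd]) i ∈ Submodule.span F (Set.range (![u, A, Ad, bd])) :=
    fun i => Submodule.subset_span ⟨i, rfl⟩
  have hwu : pol Q w u = 0 := hw _ (hm2 0)
  have hwA : pol Q w A = 0 := hw _ (hm2 1)
  have hwA' : pol (transQ Q g) w A = 0 := by rw [← hAd']; exact hw _ (hm2 2)
  have hwb' : pol (transQ Q g) w b = 0 := by rw [← hbd']; exact hw _ (hm2 3)
  -- the element `Y`
  have hYM : sieg hQ' A b hqA hAb ∈ M := hH' (sieg_mem hQ' A b hqA hAb)
  refine ⟨u, Ad, hu0, hqu, ?_, ?_, ?_⟩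
  · intro hmem
    obtain ⟨c, hc⟩ := Submodule.mem_span_singleton.1 hmem
    by_cases hc0 : c = 0
    · rw [hc0, zero_smul] at hc
      rw [← hc, map_zero] at hAd
      exact hA0 (flat_injective hQ' (by rw [← hAd, map_zero]))
    · apply huR
      have h1 : u = c⁻¹ • Ad := by rw [← hc, smul_smul, inv_mul_cancel₀ hc0, one_smul]
      rw [h1]
      exact Submodule.smul_mem _ _ (Submodule.subset_span ⟨1, rfl⟩)
  · rw [pol_comm, hAd', huA']
  · intro c f hf h0
    have huw : pol Q u ((-c) • w) = 0 := by rw [pol_smul_right hQ, pol_comm, hwu, mul_zero]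
    apply tv_mem_of_sieg_comm hQ M u ((-c) • w) hqu huw (hH (sieg_mem hQ u _ hqu huw))
      (sieg hQ' A b hqA hAb) hYM
    · rw [sieg_mulVec hQ', hub', huA']; simp
    · rw [sieg_mulVec hQ', pol_smul_left hQ', pol_smul_left hQ', hwb', hwA']; simp
    · intro x
      rw [sieg_inv hQ', sieg_mulVec hQ', pol_sub_left hQ, pol_add_left hQ, pol_smul_left hQ,
        pol_smul_left hQ, pol_neg_left hQ, pol_comm A u, huA, pol_comm b u, hub]
      ring
    · intro x
      rw [hf, smul_dotProduct, flat_dot hQ, hAd', sieg_inv hQ', sieg_mulVec hQ', pol_sub_left hQ,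
        pol_add_left hQ, pol_smul_left hQ, pol_smul_left hQ, pol_neg_left hQ,
        pol_smul_right hQ, pol_smul_right hQ, pol_smul_right hQ, pol_comm A w, hwA,
        pol_comm b w, hwb, smul_eq_mul]
      ring

end Line2

end Cfsg.Agent.Lib.Helper4.Orth
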