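import Mathlib
import Cfsg.Prelude.Def_GeometricClasses
import Cfsg.Agent.S5631
import Cfsg.Agent.Lib.Helper4.OrthC

set_option autoImplicit false
open Cfsg

/-!
Bridge from Mathlib's bundled quadratic forms, hyperbolic rotations, and the frozen Siegel and
reflection matrices.
-/

namespace Cfsg.Agent.Lib.Helper4.Orth

open Matrix Cfsg.Agent.S5631

section Bridge

variable {n : ℕ} {F : Type*} [Field F]

lemma nondeg_of_quadraticForm (Q : QuadraticForm F (Fin n → F))
    (hQ : (QuadraticMap.polarBilin Q).Nondegenerate) :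
    Cfsg.Geo.IsNondegenerateQuadraticForm (⇑Q) := by
  refine ⟨fun c v => ?_, ⟨?_, ?_, ?_, ?_⟩, fun v hv => ⟨?_, ?_⟩⟩
  · rw [QuadraticMap.map_smul, smul_eq_mul]; ring
  · intro x y v; exact QuadraticMap.polar_add_left Q x y v
  · intro c x v; rw [QuadraticMap.polar_smul_left, smul_eq_mul]
  · intro v x y; exact QuadraticMap.polar_add_right Q v x y
  · intro c v x; rw [QuadraticMap.polar_smul_right, smul_eq_mul]
  · by_contra hcon
    push Not at hcon
    exact hv (hQ.2 v hcon)
  · by_contra hcon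
    push Not at hcon
    exact hv (hQ.1 v hcon)

end Bridge

section Frozen

variable {n : ℕ} {F : Type*} [Field F] {Q : (Fin n → F) → F}
variable (hQ : Cfsg.Geo.IsNondegenerateQuadraticForm Q)

include hQ

lemma polarVec_eq_flat (u : Fin n → F) : Cfsg.polarVec Q u = flat hQ u := by
  funext j
  show QuadraticMap.polar Q u (Pi.single j 1) = pol Q (Pi.single j 1) u
  rw [pol_comm]

lemma vecMulVec_mulVec' (w f x : Fin n → F) : Matrix.vecMulVec w f *ᵥ x = (f ⬝ᵥ x) • w := by
  rw [Matrix.vecMulVec_mulVec]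
  ext i
  simp [mul_comm]

lemma siegelMatrix_mulVec (u v : Fin n → F) (c : F) (x : Fin n → F) :
    Cfsg.siegelMatrix Q u v c *ᵥ x = x + c • (pol Q x u • v - pol Q x v • u) := by
  rw [Cfsg.siegelMatrix, Matrix.add_mulVec, Matrix.one_mulVec, Matrix.smul_mulVec,
    Matrix.sub_mulVec, vecMulVec_mulVec' hQ, vecMulVec_mulVec' hQ, polarVec_eq_flat hQ,
    polarVec_eq_flat hQ, flat_dot, flat_dot]

/-- the matrix of the hyperbolic rotation `u ↦ a u`, `u' ↦ b u'` -/
def rotM (u u' : Fin n → F) (a b : F) : Matrix (Fin n) (Fin n) F :=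
  1 + (a - 1) • Matrix.vecMulVec u (flat hQ u') + (b - 1) • Matrix.vecMulVec u' (flat hQ u)

lemma rotM_mulVec (u u' : Fin n → F) (a b : F) (x : Fin n → F) :
    rotM hQ u u' a b *ᵥ x = x + ((a - 1) * pol Q x u') • u + ((b - 1) * pol Q x u) • u' := by
  rw [rotM, Matrix.add_mulVec, Matrix.add_mulVec, Matrix.one_mulVec, Matrix.smul_mulVec,
    Matrix.smul_mulVec, vecMulVec_mulVec' hQ, vecMulVec_mulVec' hQ, flat_dot, flat_dot, smul_smul,
    smul_smul]

lemma rotM_mul (u u' : Fin n → F) (hu : Q u = 0) (hu' : Q u' = 0) (huu' : pol Q u u' = 1)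
    (a b : F) (hab : a * b = 1) : rotM hQ u u' a b * rotM hQ u u' b a = 1 := by
  apply Matrix.toLin'.injective
  apply LinearMap.ext
  intro x
  rw [Matrix.toLin'_apply, Matrix.toLin'_apply, ← Matrix.mulVec_mulVec, rotM_mulVec, rotM_mulVec,
    Matrix.one_mulVec]
  simp only [pol_add_left hQ, pol_smul_left hQ]
  rw [pol_self hQ, pol_self hQ, hu, hu', huu', pol_comm u' u, huu']
  match_scalars
  · ring
  · linear_combination (pol Q x u') * hab
  · linear_combination (pol Q x u) * hab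

/-- the hyperbolic rotation as an element of `GL` -/
def rot (u u' : Fin n → F) (hu : Q u = 0) (hu' : Q u' = 0) (huu' : pol Q u u' = 1)
    (a b : F) (hab : a * b = 1) : GL (Fin n) F where
  val := rotM hQ u u' a b
  inv := rotM hQ u u' b a
  val_inv := rotM_mul hQ u u' hu hu' huu' a b hab
  inv_val := rotM_mul hQ u u' hu hu' huu' b a (by rw [mul_comm]; exact hab)

lemma rot_mulVec (u u' : Fin n → F) (hu : Q u = 0) (hu' : Q u' = 0) (huu' : pol Q u u' = 1)
    (a b : F) (hab : a * b = 1) (x : Fin n → F) :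
    ((rot hQ u u' hu hu' huu' a b hab : GL (Fin n) F) : Matrix (Fin n) (Fin n) F) *ᵥ x =
      x + ((a - 1) * pol Q x u') • u + ((b - 1) * pol Q x u) • u' :=
  rotM_mulVec hQ u u' a b x

lemma rot_Q (u u' : Fin n → F) (hu : Q u = 0) (hu' : Q u' = 0) (huu' : pol Q u u' = 1)
    (a b : F) (hab : a * b = 1) (x : Fin n → F) :
    Q (((rot hQ u u' hu hu' huu' a b hab : GL (Fin n) F) : Matrix (Fin n) (Fin n) F) *ᵥ x) = Q x := by
  rw [rot_mulVec, Q_add Q, Q_add Q, hQ.smul, hQ.smul, hu, hu']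
  simp only [pol_add_left hQ, pol_smul_left hQ, pol_smul_right hQ]
  rw [huu']
  linear_combination (pol Q x u' * pol Q x u) * hab

end Frozen

end Cfsg.Agent.Lib.Helper4.Orth
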