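import Mathlib
import Cfsg.Prelude.Def_Blocks
import Cfsg.Agent.Lib.helper3.SubpairBlock
import Cfsg.Agent.Lib.helper3.Fong2
import Cfsg.Agent.Lib.helper3.Inflate2
import Cfsg.Agent.Lib.Helper5.TISyl2

set_option autoImplicit false
set_option linter.style.haveILetI false
set_option linter.unusedSectionVars false

/-! The sum of the `p`-elements: in a group with a central element of order `p` the central
character of every irreducible character vanishes on it modulo a `p`-modular ideal (helper4). -/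

namespace Cfsg.Agent.Lib.Helper4.PElSum

open Cfsg Cfsg.Agent.Lib.helper3.CharBasic Cfsg.Agent.Lib.helper3.Irr
open Cfsg.Agent.Lib.helper3.Central Cfsg.Agent.Lib.helper3.LocalM
open Cfsg.Agent.Lib.helper3.Block
open scoped ComplexConjugate
open Classical

universe u

variable {H : Type u} [Group H] [Fintype H] {M : Ideal AlgInt}

/-- the indicator of the `p`-elements -/
noncomputable def pEl (p : ℕ) (t : H) : ℂ := if ∃ k : ℕ, orderOf t = p ^ k then 1 else 0

theorem exists_orderOf_iff (p : ℕ) [hp : Fact p.Prime] (t : H) :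
    (∃ k : ℕ, orderOf t = p ^ k) ↔ ∃ k : ℕ, t ^ (p ^ k) = 1 := by
  constructor
  · rintro ⟨k, hk⟩
    exact ⟨k, by rw [← hk]; exact pow_orderOf_eq_one t⟩
  · rintro ⟨k, hk⟩
    have := orderOf_dvd_of_pow_eq_one hk
    obtain ⟨j, -, hj⟩ := (Nat.dvd_prime_pow hp.out).mp this
    exact ⟨j, hj⟩

theorem pEl_conj (p : ℕ) (g x : H) : pEl p (x * g * x⁻¹) = pEl p g := by
  unfold pEl
  have : orderOf (x * g * x⁻¹) = orderOf g := (MulAut.conj x).orderOf_eq g
  rw [this]

theorem exists_pow_mul_central (p : ℕ) [hp : Fact p.Prime] (t n : H)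
    (hn : n ∈ Subgroup.center H) (hnp : n ^ p = 1) (ht : ∃ k : ℕ, t ^ (p ^ k) = 1) :
    ∃ k : ℕ, (t * n) ^ (p ^ k) = 1 := by
  obtain ⟨k, hk⟩ := ht
  refine ⟨k + 1, ?_⟩
  have hc : Commute t n := Subgroup.mem_center_iff.mp hn t
  rw [hc.mul_pow, pow_succ, pow_mul, hk, one_pow, one_mul, mul_comm (p ^ k) p, pow_mul, hnp, one_pow]

theorem pEl_mul_central (p : ℕ) [hp : Fact p.Prime] (t n : H)
    (hn : n ∈ Subgroup.center H) (hnp : n ^ p = 1) : pEl p (t * n) = pEl p t := by
  unfold pEl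
  have : (∃ k : ℕ, orderOf (t * n) = p ^ k) ↔ ∃ k : ℕ, orderOf t = p ^ k := by
    rw [exists_orderOf_iff, exists_orderOf_iff]
    constructor
    · intro h
      have h1 := exists_pow_mul_central p (t * n) n⁻¹ (Subgroup.inv_mem _ hn)
        (by rw [inv_pow, hnp, inv_one]) h
      rwa [mul_inv_cancel_right] at h1
    · exact exists_pow_mul_central p t n hn hnp
  simp only [this]

/-- **Central element of order `p`.** -/
theorem memLocalIdeal_sum_pEl (p : ℕ) [hp : Fact p.Prime] (hM : IsPModular p M) (z : H)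
    (hz : z ∈ Subgroup.center H) (hzp : z ^ p = 1) (hz1 : z ≠ 1) (ξ : IrrCharacter H) :
    MemLocalIdeal M (∑ t : H, pEl p t * ((ξ : H → ℂ) t / (ξ : H → ℂ) 1)) := by
  haveI hMp := isPrime_of_isPModular hM
  have hMtop : M ≠ ⊤ := hM.2.1.ne_top
  obtain ⟨c, -, hc⟩ := Cfsg.Agent.Lib.Helper5.TISyl.central_scalar ξ.2 z hz
  by_cases hc1 : c = 1
  swap
  · -- `c ≠ 1`: the sum vanishes
    have hsum : ∑ t : H, pEl p t * ((ξ : H → ℂ) t / (ξ : H → ℂ) 1)
        = c * ∑ t : H, pEl p t * ((ξ : H → ℂ) t / (ξ : H → ℂ) 1) := by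
      rw [Finset.mul_sum]
      apply Fintype.sum_equiv (Equiv.mulRight z⁻¹)
      intro t
      simp only [Equiv.coe_mulRight]
      have h1 : (ξ : H → ℂ) t = c * (ξ : H → ℂ) (t * z⁻¹) := by
        have := hc (t * z⁻¹)
        rwa [inv_mul_cancel_right] at this
      rw [pEl_mul_central p t z⁻¹ (Subgroup.inv_mem _ hz) (by rw [inv_pow, hzp, inv_one]), h1]
      ring
    have h0 : ∑ t : H, pEl p t * ((ξ : H → ℂ) t / (ξ : H → ℂ) 1) = 0 := by
      have : (1 - c) * ∑ t : H, pEl p t * ((ξ : H → ℂ) t / (ξ : H → ℂ) 1) = 0 := by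
        rw [sub_mul, one_mul, ← hsum, sub_self]
      rcases mul_eq_zero.mp this with h | h
      · exact absurd (sub_eq_zero.mp h).symm hc1
      · exact h
    rw [h0]
    exact memLocalIdeal_zero hMtop
  -- `c = 1`: pass to the quotient by `⟨z⟩`
  set N : Subgroup H := Subgroup.zpowers z with hN
  have hNc : N ≤ Subgroup.center H := by
    rw [hN, Subgroup.zpowers_le]; exact hz
  haveI hNn : N.Normal := by
    refine ⟨fun n hn g => ?_⟩
    have hnc : n ∈ Subgroup.center H := hNc hn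
    have : g * n * g⁻¹ = n := by
      rw [Subgroup.mem_center_iff.mp hnc g]
      group
    rw [this]; exact hn
  have hNmem : ∀ n : H, n ∈ N → ∃ k : ℕ, n = z ^ k := by
    intro n hn
    rw [hN, ← mem_powers_iff_mem_zpowers, Submonoid.mem_powers_iff] at hn
    obtain ⟨k, hk⟩ := hn
    exact ⟨k, hk.symm⟩
  have hNp : ∀ n : H, n ∈ N → n ^ p = 1 := by
    intro n hn
    obtain ⟨k, rfl⟩ := hNmem n hn
    rw [← pow_mul, mul_comm, pow_mul, hzp, one_pow]
  have hconst : ∀ g n : H, n ∈ N → (ξ : H → ℂ) (g * n) = (ξ : H → ℂ) g := by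
    intro g n hn
    obtain ⟨k, rfl⟩ := hNmem n hn
    induction k with
    | zero => rw [pow_zero, mul_one]
    | succ k ih =>
      rw [pow_succ, ← mul_assoc, hc, hc1, one_mul]
      exact ih (Subgroup.pow_mem _ (Subgroup.mem_zpowers z) k)
  obtain ⟨ψ, hψ, hξψ⟩ := exists_eq_inflate ξ.2 N hconst
  haveI : Fintype (H ⧸ N) := Fintype.ofFinite _
  -- the class function on the quotient
  set b : H ⧸ N → ℂ := fun s => if ∃ t : H, (t : H ⧸ N) = s ∧ ∃ k : ℕ, orderOf t = p ^ k then 1
    else 0 with hb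
  have hbloc : ∀ s, MemLocalRing M (b s) := by
    intro s
    rw [hb]
    simp only
    split_ifs
    · exact memLocalRing_of_integral isIntegral_one
    · exact memLocalRing_of_integral isIntegral_zero
  have hbc : ∀ s x : H ⧸ N, b (x * s * x⁻¹) = b s := by
    intro s x
    obtain ⟨x', rfl⟩ := QuotientGroup.mk_surjective x
    rw [hb]
    simp only
    have : (∃ t : H, (t : H ⧸ N) = (x' : H ⧸ N) * s * (x' : H ⧸ N)⁻¹ ∧
          ∃ k : ℕ, orderOf t = p ^ k) ↔
        ∃ t : H, (t : H ⧸ N) = s ∧ ∃ k : ℕ, orderOf t = p ^ k := by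
      constructor
      · rintro ⟨t, ht, htt⟩
        refine ⟨x'⁻¹ * t * x', ?_, ?_⟩
        · rw [QuotientGroup.mk_mul, QuotientGroup.mk_mul, ht, QuotientGroup.mk_inv]
          group
        · have : orderOf (x'⁻¹ * t * x') = orderOf t := by
            have h := (MulAut.conj x'⁻¹).orderOf_eq t
            rw [MulAut.conj_apply, inv_inv] at h
            exact h
          rw [this]; exact htt
      · rintro ⟨t, ht, htt⟩
        refine ⟨x' * t * x'⁻¹, ?_, ?_⟩
        · rw [QuotientGroup.mk_mul, QuotientGroup.mk_mul, ht, QuotientGroup.mk_inv]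
        · have : orderOf (x' * t * x'⁻¹) = orderOf t := (MulAut.conj x').orderOf_eq t
          rw [this]; exact htt
    simp only [this]
  have hloc := memLocalRing_sum_mul_div (M := M) b hbloc hbc ⟨ψ, hψ⟩
  -- `pEl` factors through the quotient
  have hpb : ∀ t : H, pEl p t = b (t : H ⧸ N) := by
    intro t
    rw [hb]
    simp only
    by_cases ht : ∃ k : ℕ, orderOf t = p ^ k
    · have h1 : pEl p t = 1 := by unfold pEl; rw [if_pos ht]
      rw [h1, if_pos ⟨t, rfl, ht⟩]
    · have h1 : pEl p t = 0 := by unfold pEl; rw [if_neg ht]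
      rw [h1, if_neg]
      rintro ⟨t', ht', hk'⟩
      apply ht
      have h2 : t'⁻¹ * t ∈ N := QuotientGroup.eq.mp ht'
      have h3 : pEl p (t' * (t'⁻¹ * t)) = pEl p t' :=
        pEl_mul_central p t' _ (hNc h2) (hNp _ h2)
      rw [mul_inv_cancel_left] at h3
      have h4 : pEl p t' = 1 := by unfold pEl; rw [if_pos hk']
      rw [h4] at h3
      by_contra hcon
      have h5 : pEl p t = 0 := by unfold pEl; rw [if_neg hcon]
      rw [h5] at h3
      exact zero_ne_one h3
  have hfib : ∑ t : H, pEl p t * ((ξ : H → ℂ) t / (ξ : H → ℂ) 1)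
      = (Nat.card N : ℂ) * ∑ s : H ⧸ N, b s * (ψ s / ψ 1) := by
    rw [← sum_comp_mk N (fun s => b s * (ψ s / ψ 1))]
    apply Finset.sum_congr rfl
    intro t _
    rw [hpb t, hξψ, inflate_apply, inflate_apply]
    rfl
  rw [hfib]
  have hcard : Nat.card N = p := by
    rw [hN, Nat.card_zpowers]
    exact orderOf_eq_prime hzp hz1
  rw [hcard]
  have h2 : MemLocalIdeal M ((p : ℕ) : ℂ) := memLocalIdeal_natCast_of_dvd hM p (dvd_refl p)
  rw [mul_comm]
  exact memLocalIdeal_mul_localRing hloc h2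

end Cfsg.Agent.Lib.Helper4.PElSum
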