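import Mathlib
import Cfsg.Agent.Lib.Helper4.PElSumA
import Cfsg.Agent.Lib.helper3.SP22
import Cfsg.Agent.Lib.helper3.BrauerHom
import Cfsg.Agent.Lib.helper3.FR6
import Cfsg.Agent.Lib.helper3.Degrees
import Cfsg.Agent.Lib.helper3.DefectOrder

set_option autoImplicit false
set_option linter.style.haveILetI false
set_option linter.unusedSectionVars false

/-! The central character of a character of positive `p`-defect vanishes modulo `M` on the sum of
the `p`-elements (helper4). -/

namespace Cfsg.Agent.Lib.Helper4.PElSum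

open Cfsg Cfsg.Agent.Lib.helper3.CharBasic Cfsg.Agent.Lib.helper3.Irr
open Cfsg.Agent.Lib.helper3.Central Cfsg.Agent.Lib.helper3.LocalM
open Cfsg.Agent.Lib.helper3.Block
open scoped ComplexConjugate
open Classical

universe u

variable {G : Type u} [Group G] [Fintype G] {M : Ideal AlgInt}

theorem mem_blockOf_self' {p : ℕ} (hM : IsPModular p M) (χ : IrrCharacter G) :
    χ ∈ blockOf M (χ : G → ℂ) := by
  have hMtop : M ≠ ⊤ := hM.2.1.ne_top
  intro g
  rw [sub_self]
  exact memLocalIdeal_zero hMtop

/-- **Positive defect.** -/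
theorem memLocalIdeal_sum_pEl_of_defect (p : ℕ) [hp : Fact p.Prime] (hM : IsPModular p M)
    (χ : IrrCharacter G)
    (hdef : (charDegree (χ : G → ℂ)).factorization p < (Nat.card G).factorization p) :
    MemLocalIdeal M (∑ g : G, pEl p g * ((χ : G → ℂ) g / (χ : G → ℂ) 1)) := by
  haveI hMp := isPrime_of_isPModular hM
  have hMtop : M ≠ ⊤ := hM.2.1.ne_top
  set B : Set (IrrCharacter G) := blockOf M (χ : G → ℂ) with hBdef
  have hB : IsPBlock M B := ⟨χ, rfl⟩
  have hχB : χ ∈ B := mem_blockOf_self' hM χ
  obtain ⟨D, hD⟩ := exists_isDefectGroup hM B hB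
  have hDcard := Cfsg.Agent.S0908.result p M hM B hB D hD
  have hDp : IsPGroup p D := isPGroup_of_isDefectGroup hD
  -- the defect is positive
  have hpos : 0 < blockDefect p B := by
    unfold blockDefect
    have hle : sInf ((fun ψ : IrrCharacter G => (charDegree (ψ : G → ℂ)).factorization p) '' B)
        ≤ (charDegree (χ : G → ℂ)).factorization p :=
      Nat.sInf_le ⟨χ, hχB, rfl⟩
    omega
  have hDnt : Nontrivial D := by
    rw [← Finite.one_lt_card_iff_nontrivial, hDcard]
    exact Nat.one_lt_pow hpos.ne' hp.out.one_lt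
  -- a central element of order `p` of `D`
  haveI : Nontrivial (Subgroup.center D) := hDp.center_nontrivial
  have h2c : p ∣ Nat.card (Subgroup.center D) := by
    have hcp : IsPGroup p (Subgroup.center D) := hDp.to_subgroup _
    obtain ⟨n, hn⟩ := hcp.exists_card_eq
    have hn0 : n ≠ 0 := by
      rintro rfl
      rw [pow_zero] at hn
      have := Finite.one_lt_card_iff_nontrivial.mpr (inferInstance : Nontrivial (Subgroup.center D))
      omega
    rw [hn]
    exact dvd_pow_self p hn0
  obtain ⟨z', hz'⟩ := exists_prime_orderOf_dvd_card' p h2c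
  set z : G := ((z' : D) : G) with hzdef
  have hzo : orderOf z = p := by
    rw [hzdef, Subgroup.orderOf_coe, Subgroup.orderOf_coe]; exact hz'
  have hzz : z ^ p = 1 := by
    have := pow_orderOf_eq_one z
    rwa [hzo] at this
  have hz1 : z ≠ 1 := by
    intro h
    rw [h, orderOf_one] at hzo
    exact hp.out.one_lt.ne hzo
  have hzD : z ∈ D := (z' : D).2
  have hzcomm : ∀ d ∈ D, d * z = z * d := by
    intro d hd
    have := z'.2
    rw [Subgroup.mem_center_iff] at this
    have h1 := this ⟨d, hd⟩
    exact congrArg Subtype.val h1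
  have hzC : z ∈ Subgroup.centralizer (D : Set G) := by
    rw [Subgroup.mem_centralizer_iff]
    intro d hd
    exact hzcomm d hd
  -- a Brauer pair on `D`
  obtain ⟨e, he⟩ := exists_isBrauerPairOf_of_isDefectGroup hM B hB D hD
  obtain ⟨⟨-, ξ₀, hξ₀⟩, -, hbr⟩ := he
  haveI : Fintype (Subgroup.centralizer (D : Set G)) := Fintype.ofFinite _
  have hξe : ξ₀ ∈ e := by
    rw [hξ₀]
    intro g
    rw [sub_self]
    exact memLocalIdeal_zero hMtop
  have hω := hbr ξ₀ hξe
  have hsq_loc : ∀ g : G, MemLocalRing M (pEl p g) := by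
    intro g
    unfold pEl
    split_ifs
    · exact memLocalRing_of_integral isIntegral_one
    · exact memLocalRing_of_integral isIntegral_zero
  have hkey := memLocalIdeal_brauerOmega_sub_centralChar hM D hDp B hB ξ₀ hω
    (fun g : G => pEl p g) hsq_loc (fun g x => pEl_conj p g x) χ hχB
  -- the local sum
  have hlocal : MemLocalIdeal M (brauerOmega D (fun g : G => pEl p g)
      (ξ₀ : Subgroup.centralizer (D : Set G) → ℂ)) := by
    unfold brauerOmega
    rw [finsum_eq_sum_of_fintype]
    have hzc : (⟨z, hzC⟩ : Subgroup.centralizer (D : Set G)) ∈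
        Subgroup.center (Subgroup.centralizer (D : Set G)) := by
      rw [Subgroup.mem_center_iff]
      rintro ⟨c, hc⟩
      apply Subtype.ext
      show c * z = z * c
      rw [Subgroup.mem_centralizer_iff] at hc
      exact (hc z hzD).symm
    have h1 := memLocalIdeal_sum_pEl p hM (⟨z, hzC⟩ : Subgroup.centralizer (D : Set G)) hzc
      (Subtype.ext (by rw [Subgroup.coe_pow]; exact hzz))
      (fun h => hz1 (congrArg Subtype.val h)) ξ₀
    convert h1 using 1
    apply Finset.sum_congr rfl
    intro x _
    have hsx : pEl p (x : G) = pEl p x := by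
      unfold pEl
      rw [Subgroup.orderOf_coe]
    show pEl p (x : G) * (ξ₀ : Subgroup.centralizer (D : Set G) → ℂ) x /
      (ξ₀ : Subgroup.centralizer (D : Set G) → ℂ) 1 = _
    rw [hsx, mul_div_assoc]
  have := memLocalIdeal_sub hlocal hkey
  rwa [sub_sub_cancel] at this

theorem factorization_lt_of_ne' (p : ℕ) (χ : IrrCharacter G)
    (h : (charDegree (χ : G → ℂ)).factorization p ≠ (Nat.card G).factorization p) :
    (charDegree (χ : G → ℂ)).factorization p < (Nat.card G).factorization p := by
  obtain ⟨n, hn1, hnd, hn0⟩ := irr_degree_dvd_card χ.2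
  have hcd : charDegree (χ : G → ℂ) = n := charDegree_eq hn1
  rw [hcd] at h ⊢
  have hle : n.factorization p ≤ (Nat.card G).factorization p :=
    (Nat.factorization_le_iff_dvd hn0.ne' Nat.card_pos.ne').mpr hnd p
  omega

theorem finsum_mem_pEl_eq (p : ℕ) (f : G → ℂ) :
    ∑ᶠ u ∈ {u : G | ∃ k : ℕ, orderOf u = p ^ k}, f u = ∑ g : G, pEl p g * f g := by
  rw [finsum_mem_eq_finite_toFinset_sum _ (Set.toFinite _)]
  rw [← Finset.sum_filter_add_sum_filter_not Finset.univ
    (fun g : G => ∃ k : ℕ, orderOf g = p ^ k)]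
  have h2 : ∑ g ∈ Finset.univ.filter (fun g : G => ¬ ∃ k : ℕ, orderOf g = p ^ k),
      pEl p g * f g = 0 := by
    apply Finset.sum_eq_zero
    intro g hg
    simp only [Finset.mem_filter, Finset.mem_univ, true_and] at hg
    unfold pEl
    rw [if_neg hg, zero_mul]
  rw [h2, add_zero]
  apply Finset.sum_congr
  · ext g
    simp only [Set.Finite.mem_toFinset, Set.mem_setOf_eq, Finset.mem_filter, Finset.mem_univ,
      true_and]
  · intro g hg
    simp only [Finset.mem_filter, Finset.mem_univ, true_and] at hg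
    unfold pEl
    rw [if_pos hg, one_mul]

/-- part (A) for a general prime, in `finsum` form -/
theorem memLocalIdeal_finsum_pElements_of_ne (p : ℕ) [hp : Fact p.Prime] (hM : IsPModular p M)
    (χ : IrrCharacter G)
    (h : (charDegree (χ : G → ℂ)).factorization p ≠ (Nat.card G).factorization p) :
    MemLocalIdeal M (∑ᶠ u ∈ {u : G | ∃ k : ℕ, orderOf u = p ^ k},
      (χ : G → ℂ) u / (χ : G → ℂ) 1) := by
  rw [finsum_mem_pEl_eq]
  exact memLocalIdeal_sum_pEl_of_defect p hM χ (factorization_lt_of_ne' p χ h)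

end Cfsg.Agent.Lib.Helper4.PElSum
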