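import Mathlib
import Cfsg.Agent.Lib.Helper4.PElSumB
import Cfsg.Agent.H9.PSepRank

set_option autoImplicit false
set_option linter.style.haveILetI false
set_option linter.unusedSectionVars false

/-! Layer I of the theorem on `p`-separated classes: characters of defect zero (helper4, with
helper9's rank argument). -/

namespace Cfsg.Agent.Lib.Helper4.PElSum

open Cfsg Cfsg.Agent.Lib.helper3.LocalM

/-- **`p`-separated classes of defect zero** give as many characters of `p`-defect zero, with a
character table minor that is a unit modulo `M`. -/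
theorem exists_defectZero_nonsingular {G : Type*} [Group G] [Finite G] (p : ℕ)
    [Fact p.Prime] (M : Ideal AlgInt) (hM : IsPModular p M)
    {ι : Type*} [Fintype ι] [DecidableEq ι] (x : ι → G)
    (hx : ∀ i j : ι, IsConj (x i) (x j) → i = j)
    (hC : ∀ i, ¬ p ∣ Nat.card (Subgroup.centralizer ({x i} : Set G)))
    (hsep : ∀ i j : ι, ∀ g h : G, IsConj (x i) g → IsConj (x j) h → ∀ k : ℕ, 0 < k →
      orderOf (g * h⁻¹) ≠ p ^ k) :
    ∃ χ : ι → IrrCharacter G, Function.Injective χ ∧
      (∀ i, (charDegree (χ i : G → ℂ)).factorization p = (Nat.card G).factorization p) ∧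
      ¬ MemLocalIdeal M (Matrix.det (Matrix.of fun i j : ι => (χ i : G → ℂ) (x j))) := by
  classical
  haveI : Fintype G := Fintype.ofFinite G
  exact Cfsg.Agent.H9.PSepRank.exists_defectZero_nonsingular_of_partA p M hM x hx hC hsep
    (fun χ h => memLocalIdeal_finsum_pElements_of_ne p hM χ h)

end Cfsg.Agent.Lib.Helper4.PElSum
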