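import Mathlib

/-!
# S3903: the counting lemma
-/

set_option autoImplicit false

namespace Cfsg.Agent.Lib.Helper4.PPM

theorem card_mul_card_eq {G : Type*} [Group G] [Finite G] (N : Subgroup G) [N.Normal]
    (M : Subgroup G) (hMN : M ⊔ N = ⊤) :
    Nat.card M * Nat.card N = Nat.card G * Nat.card ↥(N ⊓ M) := by
  have h1 : N.index = N.relIndex M := by
    rw [← Subgroup.relIndex_top_right, ← hMN, Subgroup.relIndex_sup_right]
  have h2 : (N ⊓ M).relIndex M = N.relIndex M := Subgroup.inf_relIndex_right N M
  have h3 : Nat.card ↥(N ⊓ M) * (N ⊓ M).relIndex M = Nat.card M := by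
    have := Subgroup.card_mul_index ((N ⊓ M).subgroupOf M)
    rw [Nat.card_congr (Subgroup.subgroupOfEquivOfLe (inf_le_right : N ⊓ M ≤ M)).toEquiv] at this
    exact this
  have h4 : Nat.card N * N.index = Nat.card G := Subgroup.card_mul_index N
  rw [← h3, ← h4, h2, h1]
  ring

theorem central_of_card_centralizer {G : Type*} [Group G] [Finite G] (N : Subgroup G) [N.Normal]
    (M : Subgroup G) (hMN : M ⊔ N = ⊤)
    (hconj : ∀ y : G, y ∉ N → ∃ a : G, a⁻¹ * y * a ∈ M)
    (hcent : ∀ g ∈ M, g ∉ N →
      Nat.card (Subgroup.centralizer ({g} : Set G)) = Nat.card M) :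
    ∀ g ∈ M, g ∉ N → ∀ h ∈ M, h * g * h⁻¹ = g := by
  classical
  haveI : Fintype G := Fintype.ofFinite G
  set X : Finset G := Finset.univ.filter (fun g => g ∈ M ∧ g ∉ N) with hX
  set Y : Finset G := Finset.univ.filter (fun y => y ∉ N) with hY
  set S : Finset (G × G) := (Finset.univ : Finset G) ×ˢ X with hS
  set Φ : G × G → G := fun p => p.1 * p.2 * p.1⁻¹ with hΦdef
  have hconjN : ∀ a g : G, g ∉ N → a * g * a⁻¹ ∉ N := by
    intro a g hg hcon
    apply hg
    have := ‹N.Normal›.conj_mem _ hcon a⁻¹
    simpa [mul_assoc] using this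
  have hΦ : ∀ p ∈ S, Φ p ∈ Y := by
    intro p hp
    rw [hS, Finset.mem_product, hX, Finset.mem_filter] at hp
    rw [hY, Finset.mem_filter]
    exact ⟨Finset.mem_univ _, hconjN _ _ hp.2.2.2⟩
  have hsum : S.card = ∑ y ∈ Y, (S.filter (fun p => Φ p = y)).card :=
    Finset.card_eq_sum_card_fiberwise hΦ
  -- cardinalities
  have hcardS : S.card = Nat.card G * X.card := by
    rw [hS, Finset.card_product, Finset.card_univ, Nat.card_eq_fintype_card]
  have hcardN : (Finset.univ.filter (fun g : G => g ∈ N)).card = Nat.card N := by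
    rw [Nat.card_eq_fintype_card, Fintype.card_subtype]
  have hcardM : (Finset.univ.filter (fun g : G => g ∈ M)).card = Nat.card M := by
    rw [Nat.card_eq_fintype_card, Fintype.card_subtype]
  have hcardMN : (Finset.univ.filter (fun g : G => g ∈ N ⊓ M)).card = Nat.card ↥(N ⊓ M) := by
    rw [Nat.card_eq_fintype_card, Fintype.card_subtype]
  have hY' : Y.card + Nat.card N = Nat.card G := by
    rw [← hcardN, hY, add_comm, Finset.card_filter_add_card_filter_not, Finset.card_univ,
      Nat.card_eq_fintype_card]
  have hX' : X.card + Nat.card ↥(N ⊓ M) = Nat.card M := by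
    rw [← hcardMN, ← hcardM]
    have := Finset.card_filter_add_card_filter_not
      (s := Finset.univ.filter (fun g : G => g ∈ M)) (fun g => g ∈ N)
    rw [Finset.filter_filter, Finset.filter_filter] at this
    rw [add_comm, hX]
    convert this using 3
    ext g
    simp only [Finset.mem_filter, Finset.mem_univ, true_and, Subgroup.mem_inf]
    tauto
  have hkey : Nat.card G * X.card = Nat.card M * Y.card := by
    have e := card_mul_card_eq N M hMN
    have e1 : Nat.card G * X.card + Nat.card G * Nat.card ↥(N ⊓ M) = Nat.card G * Nat.card M := by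
      rw [← mul_add, hX']
    have e2 : Nat.card M * Y.card + Nat.card M * Nat.card N = Nat.card M * Nat.card G := by
      rw [← mul_add, hY']
    have e3 : Nat.card G * Nat.card M = Nat.card M * Nat.card G := mul_comm _ _
    omega
  -- each fibre has at least |M| elements
  have hmemS : ∀ a g : G, g ∈ M → g ∉ N → ((a, g) : G × G) ∈ S := by
    intro a g hgM hgN
    rw [hS, Finset.mem_product, hX, Finset.mem_filter]
    exact ⟨Finset.mem_univ _, Finset.mem_univ _, hgM, hgN⟩
  have hΦc : ∀ (a g : G) (c : G), c ∈ Subgroup.centralizer ({g} : Set G) →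
      Φ (a * c, g) = a * g * a⁻¹ := by
    intro a g c hc
    rw [Subgroup.mem_centralizer_singleton_iff] at hc
    have : c * g * c⁻¹ = g := by rw [hc, mul_inv_cancel_right]
    simp only [hΦdef]
    calc a * c * g * (a * c)⁻¹ = a * (c * g * c⁻¹) * a⁻¹ := by group
      _ = a * g * a⁻¹ := by rw [this]
  have hfib : ∀ y ∈ Y, Nat.card M ≤ (S.filter (fun p => Φ p = y)).card := by
    intro y hy
    rw [hY, Finset.mem_filter] at hy
    obtain ⟨a, ha⟩ := hconj y hy.2
    set g := a⁻¹ * y * a with hg
    have hgN : g ∉ N := by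
      have := hconjN a⁻¹ y hy.2
      simpa [hg] using this
    have hyg : a * g * a⁻¹ = y := by rw [hg]; group
    rw [← hcent g ha hgN, ← Nat.card_eq_finsetCard]
    refine Nat.card_le_card_of_injective
      (fun c : ↥(Subgroup.centralizer ({g} : Set G)) =>
        (⟨(a * (c : G), g), by
          rw [Finset.mem_filter]
          exact ⟨hmemS _ _ ha hgN, (hΦc a g c c.2).trans hyg⟩⟩ :
          ↥(S.filter (fun p => Φ p = y)))) ?_
    intro c c' hcc
    have := congrArg (fun q : ↥(S.filter (fun p => Φ p = y)) => (q : G × G).1) hcc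
    simp only [mul_right_inj] at this
    exact Subtype.ext this
  intro g hgM hgN h hhM
  by_contra hne
  set g' := h * g * h⁻¹ with hg'
  have hg'M : g' ∈ M := M.mul_mem (M.mul_mem hhM hgM) (M.inv_mem hhM)
  have hg'N : g' ∉ N := hconjN h g hgN
  have hg'Y : g' ∈ Y := by
    rw [hY, Finset.mem_filter]; exact ⟨Finset.mem_univ _, hg'N⟩
  have hbig : Nat.card M < (S.filter (fun p => Φ p = g')).card := by
    rw [← hcent g' hg'M hg'N, ← Nat.card_eq_finsetCard, Nat.lt_iff_add_one_le,
      ← Finite.card_option]
    refine Nat.card_le_card_of_injective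
      (fun o : Option ↥(Subgroup.centralizer ({g'} : Set G)) =>
        (match o with
        | none => ⟨(h, g), by
            rw [Finset.mem_filter]
            exact ⟨hmemS _ _ hgM hgN, rfl⟩⟩
        | some c => ⟨(1 * (c : G), g'), by
            rw [Finset.mem_filter]
            refine ⟨hmemS _ _ hg'M hg'N, ?_⟩
            rw [hΦc 1 g' c c.2]; group⟩ :
          ↥(S.filter (fun p => Φ p = g')))) ?_
    intro o o' hoo
    cases o with
    | none =>
      cases o' with
      | none => rfl
      | some c' =>
        exfalso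
        have := congrArg (fun q : ↥(S.filter (fun p => Φ p = g')) => (q : G × G).2) hoo
        exact hne this.symm
    | some c =>
      cases o' with
      | none =>
        exfalso
        have := congrArg (fun q : ↥(S.filter (fun p => Φ p = g')) => (q : G × G).2) hoo
        exact hne this
      | some c' =>
        have := congrArg (fun q : ↥(S.filter (fun p => Φ p = g')) => (q : G × G).1) hoo
        simp only [one_mul] at this
        exact congrArg some (Subtype.ext this)
  have hlt : ∑ y ∈ Y, Nat.card M < ∑ y ∈ Y, (S.filter (fun p => Φ p = y)).card :=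
    Finset.sum_lt_sum hfib ⟨g', hg'Y, hbig⟩
  rw [← hsum, hcardS, hkey, Finset.sum_const, smul_eq_mul, mul_comm] at hlt
  exact lt_irrefl _ hlt

end Cfsg.Agent.Lib.Helper4.PPM
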