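import Mathlib
import Cfsg.Agent.H1.NilMax
import Cfsg.Agent.S0556
import Cfsg.Agent.Lib.Helper4.PPMCount

/-!
# S3903: every element outside `N` has prime power order and maximal centralizer ⇒ `N` solvable
-/

set_option autoImplicit false

namespace Cfsg.Agent.Lib.Helper4.PPM

universe u

variable {G : Type u} [Group G] [Finite G]

/-- (A) the centralizer of a `q`-element outside `N` is a `q`-group. -/
theorem isPGroup_centralizer (N : Subgroup G) [N.Normal]
    (h : ∀ x : G, x ∉ N → IsPrimePow (orderOf x))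
    (x : G) (hx : x ∉ N) (q k : ℕ) (hq : q.Prime) (hk : orderOf x = q ^ k) :
    IsPGroup q (Subgroup.centralizer ({x} : Set G)) := by
  haveI : Fact q.Prime := ⟨hq⟩
  rw [IsPGroup.iff_card]
  by_contra hcon
  have hcard_pos : Nat.card (Subgroup.centralizer ({x} : Set G)) ≠ 0 := Nat.card_pos.ne'
  obtain ⟨r, hr, hrdvd, hrq⟩ : ∃ r, r.Prime ∧
      r ∣ Nat.card (Subgroup.centralizer ({x} : Set G)) ∧ r ≠ q := by
    by_contra hall
    push_neg at hall
    apply hcon
    exact ⟨_, Nat.eq_prime_pow_of_unique_prime_dvd hcard_pos (fun {r} hr hrd => hall r hr hrd)⟩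
  haveI : Fact r.Prime := ⟨hr⟩
  obtain ⟨⟨m, hmC⟩, hm⟩ := exists_prime_orderOf_dvd_card' r hrdvd
  have hm' : orderOf m = r := by
    rw [← hm]
    exact (Subgroup.orderOf_mk m hmC).symm
  have hcomm : Commute x m := by
    rw [Subgroup.mem_centralizer_singleton_iff] at hmC
    exact hmC.symm
  have hk0 : k ≠ 0 := by
    rintro rfl
    rw [pow_zero, orderOf_eq_one_iff] at hk
    exact hx (hk ▸ N.one_mem)
  have hcop : (orderOf x).Coprime (orderOf m) := by
    rw [hk, hm']
    exact Nat.Coprime.pow_left k ((Nat.coprime_primes hq hr).2 hrq.symm)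
  have hord : orderOf (x * m) = q ^ k * r := by
    rw [hcomm.orderOf_mul_eq_mul_orderOf_of_coprime hcop, hk, hm']
  have hxm : x * m ∈ N := by
    by_contra hxm
    have hpp := h _ hxm
    rw [hord, isPrimePow_nat_iff] at hpp
    obtain ⟨p, j, hp, hj, hpj⟩ := hpp
    have h1 : q ∣ p ^ j := by
      rw [hpj]; exact Dvd.dvd.mul_right (dvd_pow_self q hk0) r
    have h2 : r ∣ p ^ j := by
      rw [hpj]; exact Dvd.intro_left _ rfl
    have e1 : q = p := (Nat.prime_dvd_prime_iff_eq hq hp).1 (hq.dvd_of_dvd_pow h1)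
    have e2 : r = p := (Nat.prime_dvd_prime_iff_eq hr hp).1 (hr.dvd_of_dvd_pow h2)
    exact hrq (e2.trans e1.symm)
  have hxr : x ^ r ∈ N := by
    have := N.pow_mem hxm r
    rw [hcomm.mul_pow, ← hm', pow_orderOf_eq_one, mul_one] at this
    rw [hm'] at this
    exact this
  have hcop' : r.Coprime (orderOf x) := by
    rw [hk]
    exact Nat.Coprime.pow_right k ((Nat.coprime_primes hr hq).2 hrq)
  obtain ⟨j, hj⟩ := exists_pow_eq_self_of_coprime hcop'
  exact hx (hj ▸ N.pow_mem hxr j)

/-- a maximal subgroup which is a `2`-group is a Sylow `2`-subgroup unless `G` is a `2`-group -/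
theorem exists_sylow_eq (C : Subgroup G) (hC : IsPGroup 2 C) (hco : IsCoatom C)
    (hG : ¬ IsPGroup 2 G) : ∃ P : Sylow 2 G, (P : Subgroup G) = C := by
  obtain ⟨P, hP⟩ := hC.exists_le_sylow
  rcases hco.le_iff.1 hP with htop | heq
  · exfalso
    apply hG
    intro g
    obtain ⟨j, hj⟩ := P.isPGroup' ⟨g, htop ▸ Subgroup.mem_top g⟩
    refine ⟨j, ?_⟩
    have := congrArg Subtype.val hj
    simpa using this
  · exact ⟨P, heq⟩

theorem isSolvable_of_isPGroup_two {H : Type*} [Group H] [Finite H] (hH : IsPGroup 2 H) :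
    Group.IsSolvable H := by
  haveI := hH.isNilpotent
  infer_instance

theorem main (N : Subgroup G) [N.Normal] (hN : N ≠ ⊤)
    (h : ∀ x : G, x ∉ N → IsPrimePow (orderOf x) ∧
      IsCoatom (Subgroup.centralizer ({x} : Set G))) : Group.IsSolvable ↥N := by
  have hpp : ∀ x : G, x ∉ N → IsPrimePow (orderOf x) := fun x hx => (h x hx).1
  obtain ⟨x, hx⟩ : ∃ x, x ∉ N := by
    by_contra hcon
    push_neg at hcon
    exact hN ((Subgroup.eq_top_iff' N).2 hcon)
  by_cases hodd : ∃ y, y ∉ N ∧ ∃ q k : ℕ, q.Prime ∧ q ≠ 2 ∧ orderOf y = q ^ k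
  · -- Thompson: nilpotent maximal subgroup of odd order
    obtain ⟨y, hy, q, k, hq, hq2, hk⟩ := hodd
    haveI : Fact q.Prime := ⟨hq⟩
    have hC := isPGroup_centralizer N hpp y hy q k hq hk
    have hnil : Group.IsNilpotent ↥(Subgroup.centralizer ({y} : Set G)) := hC.isNilpotent
    have hoddc : Odd (Nat.card ↥(Subgroup.centralizer ({y} : Set G))) := by
      obtain ⟨n, hn⟩ := IsPGroup.iff_card.1 hC
      rw [hn]
      exact (hq.odd_of_ne_two hq2).pow
    haveI : Group.IsSolvable G :=
      Cfsg.Agent.H1.isSolvable_of_nilpotent_maximal_odd _ (h y hy).2 hnil hoddc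
    infer_instance
  · push_neg at hodd
    -- every element outside `N` is a 2-element with a 2-group centralizer
    have h2 : ∀ y, y ∉ N → IsPGroup 2 (Subgroup.centralizer ({y} : Set G)) := by
      intro y hy
      obtain ⟨q, k, hq, -, hk⟩ := (isPrimePow_nat_iff _).1 (hpp y hy)
      have hq2 : q = 2 := by
        by_contra hq2
        exact hodd y hy q k hq hq2 hk.symm
      subst hq2
      exact isPGroup_centralizer N hpp y hy 2 k hq hk.symm
    by_cases hG2 : IsPGroup 2 G
    · haveI := isSolvable_of_isPGroup_two hG2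
      infer_instance
    set M := Subgroup.centralizer ({x} : Set G) with hM
    have hM2 : IsPGroup 2 M := h2 x hx
    have hMco : IsCoatom M := (h x hx).2
    by_cases hNM : N ≤ M
    · exact isSolvable_of_isPGroup_two (hM2.to_le hNM)
    have hMN : M ⊔ N = ⊤ := by
      by_contra hne
      have hlt : M < M ⊔ N := lt_of_le_of_ne le_sup_left (fun e => hNM (e ▸ le_sup_right))
      exact hne (hMco.2 _ hlt)
    obtain ⟨P, hPM⟩ := exists_sylow_eq M hM2 hMco hG2
    have hsyl : ∀ y, y ∉ N → ∃ Q : Sylow 2 G,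
        (Q : Subgroup G) = Subgroup.centralizer ({y} : Set G) :=
      fun y hy => exists_sylow_eq _ (h2 y hy) (h y hy).2 hG2
    have hconj : ∀ y : G, y ∉ N → ∃ a : G, a⁻¹ * y * a ∈ M := by
      intro y hy
      obtain ⟨Q, hQ⟩ := hsyl y hy
      obtain ⟨a, ha⟩ := MulAction.exists_smul_eq G P Q
      refine ⟨a, ?_⟩
      have hyQ : y ∈ (Q : Subgroup G) := by
        rw [hQ, Subgroup.mem_centralizer_singleton_iff]
      rw [← ha, Sylow.coe_subgroup_smul, Subgroup.mem_pointwise_smul_iff_inv_smul_mem] at hyQ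
      rw [← hPM]
      simpa [MulAut.smul_def, MulAut.conj_inv_apply] using hyQ
    have hcent : ∀ g ∈ M, g ∉ N →
        Nat.card (Subgroup.centralizer ({g} : Set G)) = Nat.card M := by
      intro g _ hg
      obtain ⟨Q, hQ⟩ := hsyl g hg
      rw [← hQ, ← hPM]
      rw [Sylow.card_eq_multiplicity, Sylow.card_eq_multiplicity]
    have hcentral := central_of_card_centralizer N M hMN hconj hcent
    have hxM : x ∈ M := by
      rw [hM, Subgroup.mem_centralizer_singleton_iff]
    haveI hMcomm : IsMulCommutative ↥M := by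
      refine ⟨⟨fun a b => ?_⟩⟩
      apply Subtype.ext
      rw [Subgroup.coe_mul, Subgroup.coe_mul]
      -- show (a : G) * b = b * a
      have key : ∀ g ∈ M, ∀ c ∈ M, c * g * c⁻¹ = g := by
        intro g hgM c hcM
        by_cases hgN : g ∈ N
        · have hgx : g * x ∉ N := fun hcon =>
            hx (by simpa using N.mul_mem (N.inv_mem hgN) hcon)
          have e1 := hcentral (g * x) (M.mul_mem hgM hxM) hgx c hcM
          have e2 := hcentral x hxM hx c hcM
          have e3 : c * (g * x) * c⁻¹ = (c * g * c⁻¹) * (c * x * c⁻¹) := by group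
          rw [e3, e2] at e1
          exact mul_right_cancel e1
        · exact hcentral g hgM hgN c hcM
      have := key a.1 a.2 b.1 b.2
      calc (a : G) * (b : G) = ((b : G) * (a : G) * (b : G)⁻¹) * (b : G) := by rw [this]
        _ = (b : G) * (a : G) := by group
    have hder := Cfsg.Agent.S0556.result M hMco
    haveI : Group.IsSolvable G := ⟨⟨3, hder⟩⟩
    infer_instance

end Cfsg.Agent.Lib.Helper4.PPM
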