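import Mathlib
import Cfsg.Agent.Lib.Helper4.PQOmega
import Cfsg.Agent.S0028

/-!
# Invariant `p'`-subgroups of `p`-constrained groups: the case of a Sylow subgroup of class at most two
-/

set_option autoImplicit false
set_option linter.style.haveILetI false
set_option linter.unusedVariables false
set_option linter.unusedSectionVars false

open scoped commutatorElement Pointwise

namespace Cfsg.Agent.Lib.Helper4.PQOmega

open Cfsg

universe u

variable {X : Type u} [Group X] [Finite X] {p : ℕ} [hp : Fact p.Prime]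

/-- lifting a `p`-element of `C_{X/N}(AN/N)` to a `p`-element of `C_X(A)`, for `N` a normal `p'`-subgroup -/
theorem exists_lift_p_element (N : Subgroup X) [N.Normal] (hN : (Nat.card ↥N).Coprime p)
    (A : Subgroup X) (hAp : IsPGroup p ↥A) {u : X ⧸ N}
    (hu : u ∈ Subgroup.centralizer ((A.map (QuotientGroup.mk' N) : Subgroup (X ⧸ N)) : Set (X ⧸ N)))
    {j : ℕ} (huo : orderOf u = p ^ j) :
    ∃ x ∈ Subgroup.centralizer (A : Set X), QuotientGroup.mk' N x = u ∧
      IsPGroup p ↥(Subgroup.zpowers x) := by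
  have hpp : p.Prime := hp.out
  have hcenA := (Cfsg.Agent.S3800.result N hN A hAp).2
  rw [hcenA] at hu
  obtain ⟨x, hx, rfl⟩ := hu
  set π := QuotientGroup.mk' N with hπ
  have hxp : x ^ (p ^ j) ∈ N := by
    rw [← QuotientGroup.eq_one_iff, QuotientGroup.mk_pow]
    have : (π x) ^ (p ^ j) = 1 := by rw [← huo]; exact pow_orderOf_eq_one _
    exact this
  set m := Nat.card ↥N with hm
  have hxpm : (x ^ (p ^ j)) ^ m = 1 := by
    have h1 : (⟨x ^ (p ^ j), hxp⟩ : ↥N) ^ Nat.card ↥N = 1 := pow_card_eq_one'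
    have h2 : (((⟨x ^ (p ^ j), hxp⟩ : ↥N) ^ Nat.card ↥N : ↥N) : X) = ((1 : ↥N) : X) := by rw [h1]
    rw [Subgroup.coe_pow, Subgroup.coe_one] at h2
    exact h2
  have hcop : (p ^ j).Coprime m := (hN.symm).pow_left j
  obtain ⟨i, hi1, hi0⟩ := Nat.chineseRemainder hcop 1 0
  obtain ⟨t, ht⟩ := (Nat.modEq_zero_iff_dvd).mp hi0
  have hx'p : (x ^ i) ^ (p ^ j) = 1 := by
    rw [ht, ← pow_mul, mul_comm m t, mul_assoc, mul_comm m (p ^ j), mul_comm t, pow_mul, pow_mul,
      hxpm, one_pow]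
  refine ⟨x ^ i, Subgroup.pow_mem _ hx i, ?_, ?_⟩
  · rw [map_pow]
    have : (π x) ^ i = (π x) ^ 1 := by
      rw [pow_eq_pow_iff_modEq, huo]
      exact hi1
    rw [this, pow_one]
  · obtain ⟨l, -, hl⟩ := (Nat.dvd_prime_pow hpp).mp (orderOf_dvd_of_pow_eq_one hx'p)
    apply IsPGroup.of_card (n := l)
    rw [Nat.card_zpowers, hl]

/-- In a `p`-constrained group with a Sylow `p`-subgroup `S` of class at most two, if the abelian subgroup
`A ≤ S` contains every `p`-element of `C_X(A)`, then every `A`-invariant `p'`-subgroup lies in `O_{p'}(X)`. -/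
theorem le_pPrimeCore_of_invariant_quad (hX : Cfsg.IsPConstrained p X) (A : Subgroup X)
    (hAp : IsPGroup p ↥A) (hAc : IsMulCommutative ↥A)
    (hfull : ∀ x ∈ Subgroup.centralizer (A : Set X), IsPGroup p ↥(Subgroup.zpowers x) → x ∈ A)
    (S : Sylow p X) (hAS : A ≤ (S : Subgroup X))
    (hS3 : ∀ x ∈ S, ∀ y ∈ S, ∀ z ∈ S, ⁅⁅x, y⁆, z⁆ = 1)
    (Y : Subgroup X) (hY : ¬ p ∣ Nat.card ↥Y) (hAY : A ≤ Subgroup.normalizer (Y : Set X)) :
    Y ≤ Cfsg.pPrimeCore p X := by
  have hpp : p.Prime := hp.out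
  haveI hOn : (Cfsg.pPrimeCore p X).Normal := Cfsg.Agent.H1.pPrimeCore_normal p
  have hOc : (Nat.card ↥(Cfsg.pPrimeCore p X)).Coprime p := Cfsg.Agent.H1.pPrimeCore_coprime p
  set O := Cfsg.pPrimeCore p X with hO
  set π := QuotientGroup.mk' O with hπ
  set Q := Cfsg.pCore p (X ⧸ O) with hQ
  haveI hQn : Q.Normal := Cfsg.Agent.H1.pCore_normal p
  have hQp : IsPGroup p ↥Q := Cfsg.Agent.H1.pCore_isPGroup p
  have hc : Subgroup.centralizer (Q : Set (X ⧸ O)) ≤ Q := Cfsg.Agent.S0630.isPConstrained_iff.mp hX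
  have hA'p : IsPGroup p ↥(A.map π) := hAp.map π
  have hY'c : (Nat.card ↥(Y.map π)).Coprime p := by
    have h1 : (Nat.card ↥Y).Coprime p := ((Nat.Prime.coprime_iff_not_dvd hpp).mpr hY).symm
    exact Nat.Coprime.coprime_dvd_left (Subgroup.card_map_dvd Y π) h1
  have hA'Y' : A.map π ≤ Subgroup.normalizer ((Y.map π : Subgroup (X ⧸ O)) : Set (X ⧸ O)) :=
    (Subgroup.map_mono hAY).trans (Subgroup.le_normalizer_map π)
  have htop : Subgroup.normalizer (Q : Set (X ⧸ O)) = ⊤ := Subgroup.normalizer_eq_top Q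
  have hdisj : Y.map π ⊓ Q = ⊥ := by
    apply (Subgroup.disjoint_of_coprime_natCard ?_).eq_bot
    obtain ⟨n, hn⟩ := IsPGroup.iff_card.mp hQp
    rw [hn]
    exact hY'c.pow_right n
  -- the image of `S`
  have hπs : Function.Surjective π := QuotientGroup.mk'_surjective O
  have hQS : Q ≤ (S : Subgroup X).map π := by
    have := hQp.le_sylow_of_normal (S.mapSurjective hπs)
    rwa [Sylow.coe_mapSurjective] at this
  have hA'S : A.map π ≤ (S : Subgroup X).map π := Subgroup.map_mono hAS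
  have hS3' : ∀ x ∈ (S : Subgroup X).map π, ∀ y ∈ (S : Subgroup X).map π,
      ∀ z ∈ (S : Subgroup X).map π, ⁅⁅x, y⁆, z⁆ = 1 := by
    rintro _ ⟨x, hx, rfl⟩ _ ⟨y, hy, rfl⟩ _ ⟨z, hz, rfl⟩
    rw [← map_commutatorElement, ← map_commutatorElement, hS3 x hx y hy z hz, map_one]
  -- `C_Q(Ā) ≤ Ā`
  have hCQA : ∀ u ∈ Q, u ∈ Subgroup.centralizer ((A.map π : Subgroup (X ⧸ O)) : Set (X ⧸ O)) →
      u ∈ A.map π := by
    intro u huQ huA
    obtain ⟨j, hj⟩ := (IsPGroup.iff_orderOf.mp hQp) ⟨u, huQ⟩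
    rw [Subgroup.orderOf_mk] at hj
    obtain ⟨x, hx, hxu, hxp⟩ := exists_lift_p_element O hOc A hAp huA hj
    rw [← hxu]
    exact Subgroup.mem_map_of_mem π (hfull x hx hxp)
  -- `[Q, Ā] ≤ Q ∩ Ā`
  have hQAB : ∀ u ∈ Q, ∀ a ∈ A.map π, ⁅u, a⁆ ∈ Q ⊓ A.map π := by
    intro u hu a ha
    have h1 : ⁅u, a⁆ ∈ Q := by
      have : ⁅u, a⁆ = u * (a * u⁻¹ * a⁻¹) := by rw [commutatorElement_def]; group
      rw [this]
      exact Subgroup.mul_mem _ hu (hQn.conj_mem _ (Subgroup.inv_mem _ hu) a)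
    refine ⟨h1, hCQA _ h1 ?_⟩
    rw [Subgroup.mem_centralizer_iff]
    intro a' ha'
    have h2 := hS3' u (hQS hu) a (hA'S ha) a' (hA'S ha')
    rw [commutatorElement_eq_one_iff_mul_comm] at h2
    exact h2.symm
  -- `Ȳ` centralizes `Q ∩ Ā`
  have hYB : ∀ y ∈ Y.map π, ∀ b ∈ Q ⊓ A.map π, y * b = b * y := by
    intro y hy b hb
    have h1 : b * y * b⁻¹ * y⁻¹ ∈ Y.map π ⊓ Q := by
      refine ⟨?_, ?_⟩
      · exact Subgroup.mul_mem _
          ((Subgroup.mem_normalizer_iff.mp (hA'Y' hb.2) y).mp hy) (Subgroup.inv_mem _ hy)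
      · have : b * y * b⁻¹ * y⁻¹ = b * (y * b⁻¹ * y⁻¹) := by group
        rw [this]
        exact Subgroup.mul_mem _ hb.1 (hQn.conj_mem _ (Subgroup.inv_mem _ hb.1) y)
    rw [hdisj, Subgroup.mem_bot] at h1
    have h2 : b * y * b⁻¹ * y⁻¹ * (y * b) = y * b := by rw [h1, one_mul]
    rw [← h2]; group
  -- `Ȳ` centralizes `Ā`
  have hYA : ∀ y ∈ Y.map π, ∀ a ∈ A.map π, ⁅y, a⁆ = 1 := by
    intro y hy a ha
    set w := ⁅y, a⁆ with hw
    have hwY : w ∈ Y.map π := by
      have : w = y * (a * y⁻¹ * a⁻¹) := by rw [hw, commutatorElement_def]; group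
      rw [this]
      exact Subgroup.mul_mem _ hy
        ((Subgroup.mem_normalizer_iff.mp (hA'Y' ha) y⁻¹).mp (Subgroup.inv_mem _ hy))
    have hstep : ∀ u ∈ Q, ∃ b ∈ Q ⊓ A.map π, w * u * w⁻¹ = u * b := by
      intro u hu
      have hb₁ := hQAB u⁻¹ (Subgroup.inv_mem _ hu) a⁻¹ (Subgroup.inv_mem _ ha)
      set b₁ := ⁅u⁻¹, a⁻¹⁆ with hb₁def
      have e1 : a⁻¹ * u * a = u * b₁ := by rw [hb₁def, commutatorElement_def]; group
      have hv' : y⁻¹ * (u * b₁) * y ∈ Q := by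
        have := hQn.conj_mem _ (Subgroup.mul_mem _ hu hb₁.1) y⁻¹
        rwa [inv_inv] at this
      have hb₂ := hQAB (y⁻¹ * (u * b₁) * y)⁻¹ (Subgroup.inv_mem _ hv') a ha
      set b₂ := ⁅(y⁻¹ * (u * b₁) * y)⁻¹, a⁆ with hb₂def
      have e2 : a * (y⁻¹ * (u * b₁) * y) * a⁻¹ = y⁻¹ * (u * b₁) * y * b₂ := by
        rw [hb₂def, commutatorElement_def]; group
      have e3 : y * b₂ * y⁻¹ = b₂ := by
        rw [hYB y hy b₂ hb₂]; group
      refine ⟨b₁ * b₂, Subgroup.mul_mem _ hb₁ hb₂, ?_⟩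
      calc w * u * w⁻¹ = y * (a * (y⁻¹ * (a⁻¹ * u * a) * y) * a⁻¹) * y⁻¹ := by
            rw [hw, commutatorElement_def]; group
        _ = y * (y⁻¹ * (u * b₁) * y * b₂) * y⁻¹ := by rw [e1, e2]
        _ = u * b₁ * (y * b₂ * y⁻¹) := by group
        _ = u * (b₁ * b₂) := by rw [e3]; group
    have hwQ : w ∈ Subgroup.centralizer (Q : Set (X ⧸ O)) := by
      rw [Subgroup.mem_centralizer_iff]
      intro u hu
      obtain ⟨b, hb, hwu⟩ := hstep u hu
      have hwb : w * b * w⁻¹ = b := by rw [hYB w hwY b hb]; group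
      have hpow : ∀ k : ℕ, w ^ k * u * (w ^ k)⁻¹ = u * b ^ k := by
        intro k
        induction k with
        | zero => simp
        | succ k ih =>
          have hwbk : w * b ^ k * w⁻¹ = b ^ k := by
            have : w * b ^ k * w⁻¹ = (w * b * w⁻¹) ^ k := by
              rw [conj_pow]
            rw [this, hwb]
          calc w ^ (k + 1) * u * (w ^ (k + 1))⁻¹ = w * (w ^ k * u * (w ^ k)⁻¹) * w⁻¹ := by
                rw [pow_succ']; group
            _ = w * (u * b ^ k) * w⁻¹ := by rw [ih]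
            _ = (w * u * w⁻¹) * (w * b ^ k * w⁻¹) := by group
            _ = u * b * b ^ k := by rw [hwu, hwbk]
            _ = u * b ^ (k + 1) := by rw [pow_succ', mul_assoc]
      have h1 := hpow (orderOf w)
      rw [pow_orderOf_eq_one, one_mul, inv_one, mul_one] at h1
      have hbn : b ^ orderOf w = 1 := by
        have : u * b ^ orderOf w = u * 1 := by rw [mul_one]; exact h1.symm
        exact mul_left_cancel this
      obtain ⟨l, hl⟩ := (IsPGroup.iff_orderOf.mp hQp) ⟨b, hb.1⟩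
      rw [Subgroup.orderOf_mk] at hl
      have hwo : orderOf w ∣ Nat.card ↥(Y.map π) := by
        have := orderOf_dvd_natCard (⟨w, hwY⟩ : ↥(Y.map π))
        rwa [Subgroup.orderOf_mk] at this
      have hcop : (orderOf b).Coprime (orderOf w) := by
        rw [hl]
        exact (Nat.Coprime.coprime_dvd_left hwo hY'c).symm.pow_left l
      have hb1 : orderOf b = 1 := Nat.Coprime.eq_one_of_dvd hcop (orderOf_dvd_of_pow_eq_one hbn)
      rw [orderOf_eq_one_iff] at hb1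
      rw [hb1, mul_one] at hwu
      have : w * u * w⁻¹ * w = u * w := by rw [hwu]
      rw [← this]; group
    have h2 : w ∈ Y.map π ⊓ Q := ⟨hwY, hc hwQ⟩
    rw [hdisj, Subgroup.mem_bot] at h2
    exact h2
  have hA'cen : A.map π ≤ Subgroup.centralizer ((Y.map π : Subgroup (X ⧸ O)) : Set (X ⧸ O)) := by
    intro a ha
    rw [Subgroup.mem_centralizer_iff]
    intro y hy
    have := hYA y hy a ha
    rw [commutatorElement_eq_one_iff_mul_comm] at this
    exact this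
  have key : Y.map π ≤ Subgroup.centralizer (Q : Set (X ⧸ O)) := by
    apply Cfsg.Agent.S0028.result p (A.map π) (Y.map π) Q hA'p hY'c hQp hA'cen (htop ▸ le_top)
      (htop ▸ le_top)
    rintro u ⟨huQ, huA⟩
    rw [Subgroup.mem_centralizer_iff]
    intro y hy
    exact hYB y hy u ⟨huQ, hCQA u huQ huA⟩
  intro y hy
  have h1 : π y ∈ Y.map π ⊓ Q := ⟨Subgroup.mem_map_of_mem π hy, hc (key (Subgroup.mem_map_of_mem π hy))⟩
  rw [hdisj, Subgroup.mem_bot] at h1
  exact (QuotientGroup.eq_one_iff y).mp h1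

end Cfsg.Agent.Lib.Helper4.PQOmega
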