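import Mathlib
import Cfsg.Prelude.Def_Blocks
import Cfsg.Agent.Lib.helper3.ADB0
import Cfsg.Agent.Lib.helper3.GalFix2
import Cfsg.Agent.Lib.helper3.Gallagher3
import Cfsg.Agent.Lib.helper3.AbelianInertia
import Cfsg.Agent.H2.AD1
import Cfsg.Agent.Lib.Helper4.PRX0

set_option autoImplicit false
set_option linter.style.haveILetI false
set_option linter.unusedSectionVars false
set_option maxHeartbeats 1000000

/-!
# S4892, piece P-E: the Galois fixed point among the extensions agreeing with all `θ_J` (helper4)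
-/

namespace Cfsg.Agent.Lib.Helper4.PRX

open Cfsg Cfsg.Agent.Lib.helper3.ADB Cfsg.Agent.Lib.helper3.Irr Cfsg.Agent.Lib.helper3.Lin
open Cfsg.Agent.Lib.helper3.GalPow Cfsg.Agent.Lib.helper3.GalFix Cfsg.Agent.Lib.helper3.CharBasic
open scoped ComplexConjugate

universe u

variable {G : Type u} [Group G] [Fintype G] {p : ℕ} [Fact p.Prime] {M : Ideal AlgInt}

/-- the set `𝓔`: irreducible characters of `G` extending `θ` and agreeing with the principal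
block extensions on the good subgroups -/
def InE (M : Ideal AlgInt) (p : ℕ) (N : Subgroup G) (θ : IrrCharacter ↥N) (η : IrrCharacter G) :
    Prop :=
  (∀ n : N, (η : G → ℂ) n = (θ : ↥N → ℂ) n) ∧ Agrees M p N θ (η : G → ℂ)

/-- (E1) `𝓔` is stable under the power maps in `𝒦`. -/
theorem inE_pow (N : Subgroup G) (θ : IrrCharacter ↥N) (hθ : θ ∈ principalBlock M ↥N)
    (hext : ∀ (J : Subgroup G) (hNJ : N ≤ J), ¬ p ∣ N.relIndex J → ExtU M N J hNJ)
    (m : ℕ) (hPR : PRn (Nat.card G) m (θ : ↥N → ℂ))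
    (η : IrrCharacter G) (hη : InE M p N θ η) (k : ℕ) (hk : k.Coprime (Nat.card G))
    (hk1 : k ≡ 1 [MOD m]) : InE M p N θ (powIrr k hk η) := by
  classical
  constructor
  · intro n
    rw [powIrr_apply]
    have h1 : ((n : G)) ^ k = ((n ^ k : N) : G) := (Subgroup.coe_pow N n k).symm
    rw [h1, hη.1 (n ^ k)]
    exact hPR k hk hk1 n
  · intro J hNJ hJ ψ hψ hψN h
    rw [powIrr_apply]
    have h1 : ((h : G)) ^ k = ((h ^ k : J) : G) := (Subgroup.coe_pow J h k).symm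
    rw [h1, hη.2 J hNJ hJ ψ hψ hψN (h ^ k)]
    letI : Fintype ↥J := Fintype.ofFinite ↥J
    have hkJ : k.Coprime (Nat.card ↥J) :=
      Nat.Coprime.coprime_dvd_right (Subgroup.card_subgroup_dvd_card J) hk
    have hψ' : powIrr k hkJ ψ ∈ principalBlock M ↥J := powIrr_mem_principalBlock k hkJ ψ hψ
    have hψ'N : ∀ n : N, (powIrr k hkJ ψ : ↥J → ℂ) ⟨n, hNJ n.2⟩ = (θ : ↥N → ℂ) n := by
      intro n
      rw [powIrr_apply]
      have h2 : (⟨(n : G), hNJ n.2⟩ : J) ^ k = ⟨((n ^ k : N) : G), hNJ (n ^ k).2⟩ := by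
        apply Subtype.ext
        rw [Subgroup.coe_pow, Subgroup.coe_pow]
      rw [h2, hψN (n ^ k)]
      exact hPR k hk hk1 n
    obtain ⟨ψ₀, -, huniq⟩ := hext J hNJ hJ θ hθ
    have e1 : powIrr k hkJ ψ = ψ₀ := huniq _ ⟨hψ', hψ'N⟩
    have e2 : ψ = ψ₀ := huniq _ ⟨hψ, hψN⟩
    have e3 : powIrr k hkJ ψ = ψ := e1.trans e2.symm
    have e4 : (powIrr k hkJ ψ : ↥J → ℂ) h = (ψ : ↥J → ℂ) h := by rw [e3]
    rw [powIrr_apply] at e4
    exact e4

/-- a linear character is multiplicative on powers -/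
theorem linear_pow {β : G → ℂ} (hβ : IsCharacter G β) (hβ1 : β 1 = 1) (g : G) (k : ℕ) :
    β (g ^ k) = β g ^ k := by
  rw [← toHom_apply hβ hβ1, map_pow, toHom_apply]

/-- `N ⊔ ⟨y⟩` is good when the order of `y` is prime to `p`. -/
theorem good_sup_zpowers (N : Subgroup G) [hN : N.Normal] (y : G) (hy : ¬ p ∣ orderOf y) :
    ¬ p ∣ N.relIndex (N ⊔ Subgroup.zpowers y) := by
  rw [Subgroup.relIndex_sup_left]
  intro h
  apply hy
  have h1 : N.relIndex (Subgroup.zpowers y) ∣ Nat.card (Subgroup.zpowers y) := by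
    unfold Subgroup.relIndex
    exact Subgroup.index_dvd_card _
  rw [Nat.card_zpowers] at h1
  exact h.trans h1

/-- (E2) two members of `𝓔` differ by a linear character that is trivial on all good subgroups. -/
theorem inE_diff (hM : IsPModular p M) (N : Subgroup G) [hN : N.Normal] (θ : IrrCharacter ↥N)
    (hθ : θ ∈ principalBlock M ↥N)
    (hgood : ∀ (J : Subgroup G) (hNJ : N ≤ J), ¬ p ∣ N.relIndex J → HypAt p N J)
    (hext : ∀ (J : Subgroup G) (hNJ : N ≤ J), ¬ p ∣ N.relIndex J → ExtU M N J hNJ)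
    (η η' : IrrCharacter G) (hη : InE M p N θ η) (hη' : InE M p N θ η') :
    ∃ β : G → ℂ, IsCharacter G β ∧ β 1 = 1 ∧ (η' : G → ℂ) = β * (η : G → ℂ) ∧
      ∀ (J : Subgroup G), N ≤ J → ¬ p ∣ N.relIndex J → ∀ h : J, β h = 1 := by
  classical
  letI : Fintype ↥N := Fintype.ofFinite ↥N
  have hηN : IsIrrCharacter ↥N (fun n : N => (η : G → ℂ) n) := by
    have : (fun n : N => (η : G → ℂ) n) = (θ : ↥N → ℂ) := funext hη.1
    rw [this]
    exact θ.2
  obtain ⟨β, hβ, hβ1, hβN, hmul⟩ := exists_linear_mul_of_restrict_eq N (η : G → ℂ) (η' : G → ℂ)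
    η.2 η'.2 hηN (fun n => by rw [hη.1, hη'.1])
  refine ⟨β, hβ, hβ1, hmul, ?_⟩
  intro J hNJ hJ h
  obtain ⟨-, Q', hsup⟩ := hgood J hNJ hJ
  obtain ⟨ψ, ⟨hψB, hψN⟩, -⟩ := hext J hNJ hJ θ hθ
  obtain ⟨n, hn, c, hc, rfl⟩ := Cfsg.Agent.H2.AD.exists_mul_of_sup_eq_top (N.subgroupOf J)
    (Subgroup.centralizer ((Q' : Subgroup ↥J) : Set ↥J)) hsup h
  have hn' : ((n : J) : G) ∈ N := Subgroup.mem_subgroupOf.1 hn
  have hβn : β ((n : J) : G) = 1 := hβN ⟨_, hn'⟩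
  have hne : (ψ : ↥J → ℂ) c ≠ 0 := Cfsg.Agent.H2.AD.princ_apply_ne_zero hM Q' c hc ψ hψB
  have e1 : (η : G → ℂ) c = (ψ : ↥J → ℂ) c := hη.2 J hNJ hJ ψ hψB hψN c
  have e2 : (η' : G → ℂ) c = (ψ : ↥J → ℂ) c := hη'.2 J hNJ hJ ψ hψB hψN c
  have e3 : (η' : G → ℂ) c = β c * (η : G → ℂ) c := by
    rw [hmul]; rfl
  have hβc : β ((c : J) : G) = 1 := by
    rw [e1] at e3
    rw [e2] at e3
    have : (β c - 1) * (ψ : ↥J → ℂ) c = 0 := by
      rw [sub_mul, one_mul, ← e3, sub_self]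
    rcases mul_eq_zero.1 this with h0 | h0
    · exact sub_eq_zero.1 h0
    · exact absurd h0 hne
  rw [Subgroup.coe_mul, map_mul_of_apply_one_eq_one hβ hβ1, hβn, hβc, one_mul]

/-- a linear character trivial on the good subgroups has `p`-power order -/
theorem beta_pow (N : Subgroup G) [hN : N.Normal] (b m : ℕ) (hm : ¬ p ∣ m)
    (hcard : Nat.card G = p ^ b * m) {β : G → ℂ} (hβ : IsCharacter G β) (hβ1 : β 1 = 1)
    (hβJ : ∀ (J : Subgroup G), N ≤ J → ¬ p ∣ N.relIndex J → ∀ h : J, β h = 1) (g : G) :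
    β g ^ (p ^ b) = 1 := by
  have hy : ¬ p ∣ orderOf (g ^ (p ^ b)) := by
    intro h
    apply hm
    apply h.trans
    apply orderOf_dvd_of_pow_eq_one
    rw [← pow_mul, ← hcard]
    exact pow_card_eq_one'
  have h1 := hβJ (N ⊔ Subgroup.zpowers (g ^ (p ^ b))) le_sup_left
    (good_sup_zpowers N _ hy) ⟨g ^ (p ^ b), le_sup_right (a := N) (Subgroup.mem_zpowers _)⟩
  rw [← linear_pow hβ hβ1]
  exact h1

/-- the exponent `s`: `s ≡ 2` modulo `p ^ b`, `s ≡ 1` modulo `m`. -/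
theorem exists_s (hp : p ≠ 2) (b m : ℕ) (hm : ¬ p ∣ m) :
    ∃ s t : ℕ, s = 2 + p ^ b * t ∧ s ≡ 1 [MOD m] ∧ s.Coprime (p ^ b * m) := by
  have hpp : p.Prime := Fact.out
  have hcop : (p ^ b).Coprime m := Nat.Coprime.pow_left b ((Nat.Prime.coprime_iff_not_dvd hpp).2 hm)
  have hm0 : m ≠ 0 := by
    rintro rfl
    exact hm (dvd_zero p)
  obtain ⟨s₀, hs1, hs2⟩ := Nat.chineseRemainder hcop 2 1
  have hpos : 1 ≤ p ^ b * m := Nat.one_le_iff_ne_zero.2 (mul_ne_zero (pow_ne_zero b hpp.ne_zero) hm0)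
  have h1 : s₀ + 2 * (p ^ b * m) ≡ 2 [MOD p ^ b] := by
    have : s₀ + 2 * (p ^ b * m) = s₀ + p ^ b * (2 * m) := by ring
    rw [this]
    have h0 : s₀ + p ^ b * (2 * m) ≡ s₀ + 0 [MOD p ^ b] :=
      Nat.ModEq.add_left s₀ ((Nat.modEq_zero_iff_dvd).2 (dvd_mul_right _ _))
    rw [add_zero] at h0
    exact h0.trans hs1
  have h2 : s₀ + 2 * (p ^ b * m) ≡ 1 [MOD m] := by
    have : s₀ + 2 * (p ^ b * m) = s₀ + m * (2 * p ^ b) := by ring
    rw [this]
    have h0 : s₀ + m * (2 * p ^ b) ≡ s₀ + 0 [MOD m] :=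
      Nat.ModEq.add_left s₀ ((Nat.modEq_zero_iff_dvd).2 (dvd_mul_right _ _))
    rw [add_zero] at h0
    exact h0.trans hs2
  have hge : 2 ≤ s₀ + 2 * (p ^ b * m) := by nlinarith
  obtain ⟨t, ht⟩ := (Nat.modEq_iff_dvd' hge).1 h1.symm
  refine ⟨s₀ + 2 * (p ^ b * m), t, by omega, h2, ?_⟩
  apply Nat.Coprime.mul_right
  · have hg := h1.gcd_eq
    unfold Nat.Coprime
    rw [hg]
    apply Nat.Coprime.pow_right
    exact (Nat.coprime_primes Nat.prime_two hpp).2 (Ne.symm hp)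
  · have hg := h2.gcd_eq
    unfold Nat.Coprime
    rw [hg]
    exact Nat.gcd_one_left m

theorem conj_mul_self_of_pow {z : ℂ} {k : ℕ} (hk : k ≠ 0) (h : z ^ k = 1) : conj z * z = 1 := by
  have h1 : ‖z‖ = 1 := Complex.norm_eq_one_of_pow_eq_one h hk
  rw [Complex.conj_mul', h1]
  norm_num

/-- for `s = 2 + p ^ b * t`, a `p ^ b`-th root of unity satisfies `z ^ s = z ^ 2`. -/
theorem pow_s_eq {z : ℂ} {b t s : ℕ} (hs : s = 2 + p ^ b * t) (h : z ^ (p ^ b) = 1) :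
    z ^ s = z ^ 2 := by
  rw [hs, pow_add, pow_mul, h, one_pow, mul_one]

section fixed

variable (hM : IsPModular p M) (N : Subgroup G) [hN : N.Normal] (θ : IrrCharacter ↥N)
  (hθ : θ ∈ principalBlock M ↥N)
  (hgood : ∀ (J : Subgroup G) (hNJ : N ≤ J), ¬ p ∣ N.relIndex J → HypAt p N J)
  (hext : ∀ (J : Subgroup G) (hNJ : N ≤ J), ¬ p ∣ N.relIndex J → ExtU M N J hNJ)
  (b m : ℕ) (hm : ¬ p ∣ m) (hcard : Nat.card G = p ^ b * m)
  (hPR : PRn (Nat.card G) m (θ : ↥N → ℂ))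
  (s t : ℕ) (hs : s = 2 + p ^ b * t) (hs1 : s ≡ 1 [MOD m]) (hsc : s.Coprime (Nat.card G))

include hM hθ hgood hext hm hcard hPR hs hs1 hsc in
/-- (E3) existence of an `s`-fixed member of `𝓔`. -/
theorem exists_fixed (η : IrrCharacter G) (hη : InE M p N θ η) :
    ∃ χ : IrrCharacter G, InE M p N θ χ ∧ ∀ g : G, (χ : G → ℂ) (g ^ s) = (χ : G → ℂ) g := by
  classical
  have hpp : p.Prime := Fact.out
  have hpb : p ^ b ≠ 0 := pow_ne_zero b hpp.ne_zero
  have hηs : InE M p N θ (powIrr s hsc η) := inE_pow N θ hθ hext m hPR η hη s hsc hs1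
  obtain ⟨β, hβ, hβ1, hmul, hβJ⟩ := inE_diff hM N θ hθ hgood hext η (powIrr s hsc η) hη hηs
  have hβp : ∀ g : G, β g ^ (p ^ b) = 1 := beta_pow N b m hm hcard hβ hβ1 hβJ
  have hβc : IsCharacter G (fun g => conj (β g)) := isCharacter_conj hβ
  have hβc1 : (fun g => conj (β g)) 1 = 1 := by
    show conj (β 1) = 1
    rw [hβ1, map_one]
  refine ⟨⟨(fun g => conj (β g)) * (η : G → ℂ), isIrrCharacter_linear_mul hβc hβc1 η.2⟩, ⟨?_, ?_⟩, ?_⟩
  · intro n
    show conj (β n) * (η : G → ℂ) n = _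
    have h1 : β n = 1 := hβJ N le_rfl (by
      rw [Subgroup.relIndex_self]
      exact hpp.one_lt.ne' ∘ Nat.dvd_one.1) n
    rw [h1, map_one, one_mul, hη.1]
  · intro J hNJ hJ ψ hψ hψN h
    show conj (β h) * (η : G → ℂ) h = _
    rw [hβJ J hNJ hJ h, map_one, one_mul]
    exact hη.2 J hNJ hJ ψ hψ hψN h
  · intro g
    show conj (β (g ^ s)) * (η : G → ℂ) (g ^ s) = conj (β g) * (η : G → ℂ) g
    have e1 : (η : G → ℂ) (g ^ s) = β g * (η : G → ℂ) g := by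
      have := congrFun hmul g
      rw [powIrr_apply] at this
      exact this
    rw [e1, linear_pow hβ hβ1, pow_s_eq hs (hβp g), map_pow]
    have h2 := conj_mul_self_of_pow hpb (hβp g)
    calc conj (β g) ^ 2 * (β g * (η : G → ℂ) g)
        = conj (β g) * (conj (β g) * β g) * (η : G → ℂ) g := by ring
      _ = conj (β g) * (η : G → ℂ) g := by rw [h2, mul_one]

include hM hθ hgood hext hm hcard hs in
/-- (E4) uniqueness of the `s`-fixed member of `𝓔`. -/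
theorem fixed_unique (χ χ' : IrrCharacter G) (hχ : InE M p N θ χ) (hχ' : InE M p N θ χ')
    (hfix : ∀ g : G, (χ : G → ℂ) (g ^ s) = (χ : G → ℂ) g)
    (hfix' : ∀ g : G, (χ' : G → ℂ) (g ^ s) = (χ' : G → ℂ) g) (g : G) :
    (χ' : G → ℂ) g = (χ : G → ℂ) g := by
  classical
  have hpp : p.Prime := Fact.out
  have hpb : p ^ b ≠ 0 := pow_ne_zero b hpp.ne_zero
  obtain ⟨β, hβ, hβ1, hmul, hβJ⟩ := inE_diff hM N θ hθ hgood hext χ χ' hχ hχ'
  have hβp : ∀ g : G, β g ^ (p ^ b) = 1 := beta_pow N b m hm hcard hβ hβ1 hβJ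
  have e1 : (χ' : G → ℂ) g = β g * (χ : G → ℂ) g := congrFun hmul g
  have e2 : (χ' : G → ℂ) (g ^ s) = β (g ^ s) * (χ : G → ℂ) (g ^ s) := congrFun hmul (g ^ s)
  rw [hfix', hfix, linear_pow hβ hβ1, pow_s_eq hs (hβp g), e1] at e2
  have h2 := conj_mul_self_of_pow hpb (hβp g)
  have e3 : (χ : G → ℂ) g = β g * (χ : G → ℂ) g := by
    calc (χ : G → ℂ) g = conj (β g) * (β g * (χ : G → ℂ) g) := by
          rw [← mul_assoc, h2, one_mul]
      _ = conj (β g) * (β g ^ 2 * (χ : G → ℂ) g) := by rw [e2]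
      _ = (conj (β g) * β g) * (β g * (χ : G → ℂ) g) := by ring
      _ = β g * (χ : G → ℂ) g := by rw [h2, one_mul]
  rw [e1, ← e3]

end fixed

/-- **(P-E)** among the irreducible extensions of `θ` agreeing with all the `θ_J`, one is invariant
under all power maps `x ↦ x ^ k` with `k` coprime to `|G|`, `k ≡ 1` modulo the `p'`-part. -/
theorem exists_pr_agrees {G : Type u} [Group G] [Finite G] {p : ℕ} [Fact p.Prime]
    {M : Ideal AlgInt} (hp : p ≠ 2) (hM : IsPModular p M) (N : Subgroup G) [hN : N.Normal]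
    (θ : IrrCharacter ↥N) (hθ : θ ∈ principalBlock M ↥N)
    (hgood : ∀ (J : Subgroup G) (hNJ : N ≤ J), ¬ p ∣ N.relIndex J → HypAt p N J)
    (hext : ∀ (J : Subgroup G) (hNJ : N ≤ J), ¬ p ∣ N.relIndex J → ExtU M N J hNJ)
    (b m : ℕ) (hm : ¬ p ∣ m) (hcard : Nat.card G = p ^ b * m)
    (hPR : PRn (p ^ b * m) m (θ : ↥N → ℂ))
    (η₀ : IrrCharacter G) (hη₀N : ∀ n : N, (η₀ : G → ℂ) n = (θ : ↥N → ℂ) n)
    (hη₀ : Agrees M p N θ (η₀ : G → ℂ)) :
    ∃ χ : IrrCharacter G, (∀ n : N, (χ : G → ℂ) n = (θ : ↥N → ℂ) n) ∧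
      Agrees M p N θ (χ : G → ℂ) ∧ PRn (p ^ b * m) m (χ : G → ℂ) := by
  classical
  letI : Fintype G := Fintype.ofFinite G
  obtain ⟨s, t, hs, hs1, hsc⟩ := exists_s hp b m hm
  rw [← hcard] at hsc hPR
  obtain ⟨χ, hχ, hfix⟩ := exists_fixed hM N θ hθ hgood hext b m hm hcard hPR s t hs hs1 hsc
    η₀ ⟨hη₀N, hη₀⟩
  refine ⟨χ, hχ.1, hχ.2, ?_⟩
  rw [← hcard]
  intro k hk hk1 g
  have hχk : InE M p N θ (powIrr k hk χ) := inE_pow N θ hθ hext m hPR χ hχ k hk hk1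
  have hfixk : ∀ g : G, (powIrr k hk χ : G → ℂ) (g ^ s) = (powIrr k hk χ : G → ℂ) g := by
    intro g
    rw [powIrr_apply, powIrr_apply, ← pow_mul, mul_comm, pow_mul, hfix]
  have := fixed_unique hM N θ hθ hgood hext b m hm hcard s t hs χ (powIrr k hk χ) hχ hχk
    hfix hfixk g
  rw [powIrr_apply] at this
  exact this

end Cfsg.Agent.Lib.Helper4.PRX
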