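import Mathlib
import Cfsg.Prelude.Def_Characters
import Cfsg.Agent.Lib.helper3.Cyclo
import Cfsg.Agent.Lib.Helper4.PRX0

set_option autoImplicit false
set_option linter.style.haveILetI false
set_option linter.unusedSectionVars false
set_option maxHeartbeats 1000000

/-!
# S4892, piece P-A (first bridge): values in `ℚ(ζ_{m'})`, `p ∤ m'`, give invariance under the
power maps of `𝒦` (helper4)
-/

namespace Cfsg.Agent.Lib.Helper4.PRX

open Cfsg Cfsg.Agent.Lib.helper3.Cyclo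

/-- an automorphism of the cyclotomic field fixing `w` fixes `ℚ(w)`. -/
theorem fixes_adjoin {L : ℕ} [NeZero L]
    (σ : CyclotomicField L ℚ ≃ₐ[ℚ] CyclotomicField L ℚ) (w : CyclotomicField L ℚ)
    (hw : σ w = w) (a : CyclotomicField L ℚ)
    (ha : a ∈ IntermediateField.adjoin ℚ ({w} : Set (CyclotomicField L ℚ))) : σ a = a := by
  induction ha using IntermediateField.adjoin_induction with
  | mem x hx =>
    rw [Set.mem_singleton_iff] at hx
    rw [hx, hw]
  | algebraMap x => exact σ.commutes x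
  | add x y _ _ hx hy => rw [map_add, hx, hy]
  | inv x _ hx => rw [map_inv₀, hx]
  | mul x y _ _ hx hy => rw [map_mul, hx, hy]

/-- the arithmetic: an exponent `t ≡ k` modulo `n = p ^ b * m`, `t ≡ 1` modulo `m'`, coprime to
`n * m'`. -/
theorem exists_t (p : ℕ) [hp : Fact p.Prime] (m' : ℕ) (hm' : ¬ p ∣ m') (b m : ℕ)
    (k : ℕ) (hk : k.Coprime (p ^ b * m)) (hk1 : k ≡ 1 [MOD m]) :
    ∃ t : ℕ, t ≡ k [MOD p ^ b * m] ∧ t ≡ 1 [MOD m'] ∧ t.Coprime (p ^ b * m * m') := by
  have hcop : (p ^ b).Coprime m' :=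
    Nat.Coprime.pow_left b ((Nat.Prime.coprime_iff_not_dvd hp.out).2 hm')
  have hg : (p ^ b * m).gcd m' = m.gcd m' := Nat.Coprime.gcd_mul_left_cancel m hcop
  have hcompat : k ≡ 1 [MOD (p ^ b * m).gcd m'] := by
    rw [hg]
    exact hk1.of_dvd (Nat.gcd_dvd_left m m')
  obtain ⟨t, ht1, ht2⟩ := Nat.chineseRemainder' hcompat
  refine ⟨t, ht1, ht2, ?_⟩
  apply Nat.Coprime.mul_right
  · have := ht1.gcd_eq
    unfold Nat.Coprime
    rw [this]
    exact hk
  · have := ht2.gcd_eq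
    unfold Nat.Coprime
    rw [this]
    exact Nat.gcd_one_left m'

/-- **(P-A, bridge 1)**. -/
theorem pr_of_rat {X : Type*} [Group X] [Finite X] (p : ℕ) [hp : Fact p.Prime] (θ : X → ℂ)
    (hθ : IsCharacter X θ) (m' : ℕ) (hm' : ¬ p ∣ m')
    (hval : ∀ x : X, θ x ∈ IntermediateField.adjoin ℚ
      ({Complex.exp (2 * Real.pi * Complex.I / m')} : Set ℂ))
    (b m : ℕ) (hm : ¬ p ∣ m) (hexp : ∀ x : X, x ^ (p ^ b * m) = 1) :
    PRn (p ^ b * m) m θ := by
  intro k hk hk1 x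
  have hm0 : m ≠ 0 := by
    rintro rfl
    exact hm (dvd_zero p)
  have hm'0 : m' ≠ 0 := by
    rintro rfl
    exact hm' (dvd_zero p)
  have hn0 : p ^ b * m ≠ 0 := mul_ne_zero (pow_ne_zero b hp.out.ne_zero) hm0
  obtain ⟨L, hL⟩ : ∃ L : ℕ, L = p ^ b * m * m' := ⟨_, rfl⟩
  haveI : NeZero L := ⟨by rw [hL]; exact mul_ne_zero hn0 hm'0⟩
  obtain ⟨t, ht1, ht2, htc⟩ := exists_t p m' hm' b m k hk hk1
  rw [← hL] at htc
  obtain ⟨σ, hσ⟩ := exists_aut L t htc
  have hexpL : ∀ g : X, g ^ L = 1 := by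
    intro g
    rw [hL, pow_mul, hexp, one_pow]
  obtain ⟨d, ρ, rfl⟩ := hθ
  obtain ⟨a, -, ha, haσ⟩ := exists_cyclo_lift L hexpL ρ x
  -- the power `x ^ t = x ^ k`
  have hxt : x ^ t = x ^ k := by
    rw [pow_eq_pow_iff_modEq]
    exact ht1.of_dvd (orderOf_dvd_of_pow_eq_one (hexp x))
  -- the root of unity `ω = exp (2πi/m')` as a power of `ζ_L`
  set ω : ℂ := Complex.exp (2 * Real.pi * Complex.I / m') with hω
  have hωprim : IsPrimitiveRoot ω m' := Complex.isPrimitiveRoot_exp m' hm'0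
  have hωL : ω ^ L = 1 := by
    rw [hL, mul_comm, pow_mul, hωprim.pow_eq_one, one_pow]
  obtain ⟨j, -, hj⟩ := (emb_zetaK_spec L).eq_pow_of_pow_eq_one hωL
  set w : CyclotomicField L ℚ := zetaK L ^ j with hw
  have hembw : emb L w = ω := by rw [hw, map_pow, hj]
  have hwm' : w ^ m' = 1 := by
    apply emb_injective L
    rw [map_pow, hembw, hωprim.pow_eq_one, map_one]
  have hσw : σ w = w := by
    rw [hw, map_pow, hσ, ← pow_mul, mul_comm, pow_mul, ← hw]
    have h1 : w ^ t = w ^ 1 := by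
      have h0 : t % orderOf w = 1 % orderOf w :=
        ht2.of_dvd (orderOf_dvd_of_pow_eq_one hwm')
      rw [← pow_mod_orderOf w t, ← pow_mod_orderOf w 1, h0]
    rw [h1, pow_one]
  -- the lift `a` lies in `ℚ(w)`
  have hmap : (IntermediateField.adjoin ℚ ({w} : Set (CyclotomicField L ℚ))).map (emb L)
      = IntermediateField.adjoin ℚ ({ω} : Set ℂ) := by
    rw [IntermediateField.adjoin_map, Set.image_singleton, hembw]
  have hx := hval x
  rw [← hmap] at hx
  obtain ⟨a', ha', hea'⟩ := hx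
  have haa' : a' = a := by
    apply emb_injective L
    rw [ha]
    exact hea'
  rw [haa'] at ha'
  have hσa : σ a = a := fixes_adjoin σ w hσw a ha'
  have := haσ σ t hσ
  rw [hσa, ha, hxt] at this
  exact this.symm

end Cfsg.Agent.Lib.Helper4.PRX
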