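import Mathlib
import Cfsg.Prelude.Def_Characters
import Cfsg.Agent.Lib.helper3.Cyclo
import Cfsg.Agent.Lib.Helper4.PRX0

set_option autoImplicit false
set_option linter.style.haveILetI false
set_option linter.unusedSectionVars false
set_option maxHeartbeats 1000000

/-!
# S4892, piece P-A (second bridge): invariance under the power maps of `𝒦` gives values in
`ℚ(ζ_m)` (helper4)
-/

namespace Cfsg.Agent.Lib.Helper4.PRX

open Cfsg Cfsg.Agent.Lib.helper3.Cyclo

/-- **(P-A, bridge 2)**. -/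
theorem rat_of_pr {X : Type*} [Group X] [Finite X] (p : ℕ) [hp : Fact p.Prime] (χ : X → ℂ)
    (hχ : IsCharacter X χ) (b m : ℕ) (hm : ¬ p ∣ m) (hexp : ∀ x : X, x ^ (p ^ b * m) = 1)
    (h : PRn (p ^ b * m) m χ) :
    ∀ x : X, χ x ∈ IntermediateField.adjoin ℚ
      ({Complex.exp (2 * Real.pi * Complex.I / m)} : Set ℂ) := by
  intro x
  have hm0 : m ≠ 0 := by
    rintro rfl
    exact hm (dvd_zero p)
  have hmpos : 0 < m := Nat.pos_of_ne_zero hm0
  obtain ⟨n, hn⟩ : ∃ n : ℕ, n = p ^ b * m := ⟨_, rfl⟩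
  have hn0 : n ≠ 0 := by
    rw [hn]
    exact mul_ne_zero (pow_ne_zero b hp.out.ne_zero) hm0
  haveI : NeZero n := ⟨hn0⟩
  rw [← hn] at hexp h
  haveI := isCyclo n
  haveI : FiniteDimensional ℚ (CyclotomicField n ℚ) :=
    IsCyclotomicExtension.finiteDimensional {n} ℚ (CyclotomicField n ℚ)
  haveI : IsGalois ℚ (CyclotomicField n ℚ) := IsCyclotomicExtension.isGalois {n} ℚ _
  obtain ⟨d, ρ, rfl⟩ := hχ
  obtain ⟨a, -, ha, haσ⟩ := exists_cyclo_lift n hexp ρ x
  set w : CyclotomicField n ℚ := zetaK n ^ (p ^ b) with hw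
  have hwprim : IsPrimitiveRoot w m := (zetaK_spec n).pow (Nat.pos_of_ne_zero hn0) hn
  set F : IntermediateField ℚ (CyclotomicField n ℚ) :=
    IntermediateField.adjoin ℚ ({w} : Set (CyclotomicField n ℚ)) with hF
  have hwF : w ∈ F := IntermediateField.subset_adjoin ℚ _ (Set.mem_singleton w)
  have haF : a ∈ F := by
    rw [← IsGalois.fixedField_fixingSubgroup F, IntermediateField.mem_fixedField_iff]
    intro σ hσ
    have hσw : σ w = w := (IntermediateField.mem_fixingSubgroup_iff F σ).1 hσ w hwF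
    obtain ⟨t, htc, ht⟩ := aut_zeta n σ
    have hwt : w ^ t = w := by
      have e0 : σ w = w ^ t := by
        rw [hw, map_pow, ht, ← pow_mul, mul_comm, pow_mul]
      rw [← e0, hσw]
    have ht1 : t ≡ 1 [MOD m] := by
      have h1 : w ^ (t % m) = w ^ (1 % m) := by
        rw [hwprim.eq_orderOf, pow_mod_orderOf, pow_mod_orderOf, hwt, pow_one]
      exact hwprim.pow_inj (Nat.mod_lt _ hmpos) (Nat.mod_lt _ hmpos) h1
    have e1 := haσ σ t ht
    rw [h t htc ht1 x, ← ha] at e1
    exact emb_injective n e1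
  have hmap : F.map (emb n) = IntermediateField.adjoin ℚ ({emb n w} : Set ℂ) := by
    rw [hF, IntermediateField.adjoin_map, Set.image_singleton]
  have hx1 : ρ.character x ∈ IntermediateField.adjoin ℚ ({emb n w} : Set ℂ) := by
    rw [← hmap, ← ha]
    exact ⟨a, haF, rfl⟩
  set ω : ℂ := Complex.exp (2 * Real.pi * Complex.I / m) with hω
  have hωprim : IsPrimitiveRoot ω m := Complex.isPrimitiveRoot_exp m hm0
  haveI : NeZero m := ⟨hm0⟩
  have hwm : (emb n w) ^ m = 1 := by
    rw [← map_pow, hwprim.pow_eq_one, map_one]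
  obtain ⟨i, -, hi⟩ := hωprim.eq_pow_of_pow_eq_one hwm
  have hle : IntermediateField.adjoin ℚ ({emb n w} : Set ℂ)
      ≤ IntermediateField.adjoin ℚ ({ω} : Set ℂ) := by
    rw [IntermediateField.adjoin_simple_le_iff, ← hi]
    exact pow_mem (IntermediateField.subset_adjoin ℚ _ (Set.mem_singleton ω)) i
  exact hle hx1

end Cfsg.Agent.Lib.Helper4.PRX
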