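import Mathlib
import Cfsg.Prelude.Def_Blocks
import Cfsg.Agent.Lib.helper3.BlockIdem2
import Cfsg.Agent.Lib.helper3.Lin

set_option autoImplicit false
set_option linter.style.haveILetI false
set_option linter.unusedSectionVars false

/-! Determinants of matrices of algebraic integers modulo a prime ideal, and the passage between
the matrix of character values and the matrix of central character values (helper4). -/

namespace Cfsg.Agent.Lib.Helper4.PSepDet

open Cfsg Cfsg.Agent.Lib.helper3.CharBasic Cfsg.Agent.Lib.helper3.Irr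
open Cfsg.Agent.Lib.helper3.Central Cfsg.Agent.Lib.helper3.LocalM
open Cfsg.Agent.Lib.helper3.Block
open Classical

variable {M : Ideal AlgInt}

/-- the lift of a matrix with integral entries -/
noncomputable def lift {n : ℕ} (A : Matrix (Fin n) (Fin n) ℂ) (hA : ∀ i j, IsIntegral ℤ (A i j)) :
    Matrix (Fin n) (Fin n) AlgInt := Matrix.of fun i j => ⟨A i j, hA i j⟩

theorem coe_det_lift {n : ℕ} (A : Matrix (Fin n) (Fin n) ℂ) (hA : ∀ i j, IsIntegral ℤ (A i j)) :
    (((lift A hA).det : AlgInt) : ℂ) = A.det := by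
  have h1 := RingHom.map_det (AlgInt.val : AlgInt →ₐ[ℤ] ℂ).toRingHom (lift A hA)
  have h2 : (AlgInt.val : AlgInt →ₐ[ℤ] ℂ).toRingHom.mapMatrix (lift A hA) = A := by
    ext i j
    rfl
  rw [h2] at h1
  exact h1

theorem isIntegral_det {n : ℕ} (A : Matrix (Fin n) (Fin n) ℂ) (hA : ∀ i j, IsIntegral ℤ (A i j)) :
    IsIntegral ℤ A.det := by
  rw [← coe_det_lift A hA]
  exact ((lift A hA).det).2

/-- congruent matrices have congruent determinants -/
theorem memLocalIdeal_det_sub [hMp : M.IsPrime] {n : ℕ} (A A' : Matrix (Fin n) (Fin n) ℂ)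
    (hA : ∀ i j, IsIntegral ℤ (A i j)) (hA' : ∀ i j, IsIntegral ℤ (A' i j))
    (h : ∀ i j, MemLocalIdeal M (A i j - A' i j)) : MemLocalIdeal M (A.det - A'.det) := by
  have hMtop : M ≠ ⊤ := hMp.ne_top
  have hmap : (Ideal.Quotient.mk M).mapMatrix (lift A hA) =
      (Ideal.Quotient.mk M).mapMatrix (lift A' hA') := by
    ext i j
    simp only [RingHom.mapMatrix_apply, Matrix.map_apply]
    rw [Ideal.Quotient.eq]
    apply mem_of_memLocalIdeal
    have : (((lift A hA i j - lift A' hA' i j : AlgInt)) : ℂ) = A i j - A' i j := rfl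
    rw [this]
    exact h i j
  have h1 := RingHom.map_det (Ideal.Quotient.mk M) (lift A hA)
  have h2 := RingHom.map_det (Ideal.Quotient.mk M) (lift A' hA')
  rw [hmap, ← h2, Ideal.Quotient.eq] at h1
  have h3 := memLocalIdeal_of_mem h1 hMtop
  have h4 : ((((lift A hA).det - (lift A' hA').det : AlgInt)) : ℂ) = A.det - A'.det := by
    rw [← coe_det_lift A hA, ← coe_det_lift A' hA']
    rfl
  rw [h4] at h3
  exact h3

/-- a matrix with determinant outside the ideal has in every row an entry outside the ideal -/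
theorem exists_not_memLocalIdeal_of_det [hMp : M.IsPrime] {n : ℕ}
    (A : Matrix (Fin n) (Fin n) ℂ) (hA : ∀ i j, IsIntegral ℤ (A i j))
    (hdet : ¬ MemLocalIdeal M A.det) (i : Fin n) : ∃ j, ¬ MemLocalIdeal M (A i j) := by
  have hMtop : M ≠ ⊤ := hMp.ne_top
  by_contra hcon
  push Not at hcon
  apply hdet
  set A' : Matrix (Fin n) (Fin n) ℂ := A.updateRow i 0 with hA'def
  have hA' : ∀ a b, IsIntegral ℤ (A' a b) := by
    intro a b
    rw [hA'def, Matrix.updateRow_apply]
    split_ifs
    · exact isIntegral_zero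
    · exact hA a b
  have hd : ∀ a b, MemLocalIdeal M (A a b - A' a b) := by
    intro a b
    rw [hA'def, Matrix.updateRow_apply]
    split_ifs with hai
    · rw [hai, Pi.zero_apply, sub_zero]
      exact hcon b
    · rw [sub_self]
      exact memLocalIdeal_zero hMtop
  have h0 : A'.det = 0 := by
    apply Matrix.det_eq_zero_of_row_eq_zero i
    intro j
    rw [hA'def, Matrix.updateRow_self]
    rfl
  have := memLocalIdeal_det_sub A A' hA hA' hd
  rwa [h0, sub_zero] at this

theorem not_memLocalIdeal_natCast {p : ℕ} (hM : IsPModular p M) (n : ℕ) (hn : ¬ p ∣ n) :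
    ¬ MemLocalIdeal M ((n : ℕ) : ℂ) := by
  haveI := isPrime_of_isPModular hM
  intro h
  have h1 : (((n : AlgInt)) : ℂ) = (n : ℂ) := by simp
  rw [← h1] at h
  exact hn ((natCast_mem_iff hM n).mp (mem_of_memLocalIdeal h))

theorem not_dvd_prod {p : ℕ} (hp : p.Prime) {n : ℕ} (c : Fin n → ℕ) (hc : ∀ i, ¬ p ∣ c i) :
    ¬ p ∣ ∏ i, c i := by
  intro h
  obtain ⟨i, -, hi⟩ := (Prime.dvd_finset_prod_iff hp.prime _).mp h
  exact hc i hi

/-- **Rescaling rows and columns by `p'`-numbers.** -/
theorem memLocalIdeal_det_iff {p : ℕ} (hM : IsPModular p M) {n : ℕ}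
    (A W : Matrix (Fin n) (Fin n) ℂ) (hA : ∀ i j, IsIntegral ℤ (A i j))
    (hW : ∀ i j, IsIntegral ℤ (W i j)) (c k : Fin n → ℕ) (hc : ∀ i, ¬ p ∣ c i)
    (hk : ∀ j, ¬ p ∣ k j) (h : ∀ i j, (c i : ℂ) * W i j = (k j : ℂ) * A i j) :
    MemLocalIdeal M A.det ↔ MemLocalIdeal M W.det := by
  haveI := isPrime_of_isPModular hM
  have hp : p.Prime := hM.1
  have hdet : ((∏ i, c i : ℕ) : ℂ) * W.det = ((∏ j, k j : ℕ) : ℂ) * A.det := by
    have h1 := Matrix.det_mul_column (fun i => (c i : ℂ)) W
    have h2 := Matrix.det_mul_row (fun j => (k j : ℂ)) A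
    have h3 : (Matrix.of fun i j => (c i : ℂ) * W i j) = Matrix.of fun i j => (k j : ℂ) * A i j := by
      ext i j
      exact h i j
    rw [h3, h2] at h1
    push_cast
    exact h1.symm
  have hcn := not_memLocalIdeal_natCast hM _ (not_dvd_prod hp c hc)
  have hkn := not_memLocalIdeal_natCast hM _ (not_dvd_prod hp k hk)
  have hci : IsIntegral ℤ (((∏ i, c i : ℕ)) : ℂ) := isIntegral_natCast _
  have hki : IsIntegral ℤ (((∏ j, k j : ℕ)) : ℂ) := isIntegral_natCast _
  constructor
  · intro hAd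
    have h1 : MemLocalIdeal M (((∏ i, c i : ℕ) : ℂ) * W.det) := by
      rw [hdet]
      exact memLocalIdeal_mul_integral hAd hki
    rcases memLocalIdeal_or_of_mul hci (isIntegral_det W hW) h1 with h2 | h2
    · exact absurd h2 hcn
    · exact h2
  · intro hWd
    have h1 : MemLocalIdeal M (((∏ j, k j : ℕ) : ℂ) * A.det) := by
      rw [← hdet]
      exact memLocalIdeal_mul_integral hWd hci
    rcases memLocalIdeal_or_of_mul hki (isIntegral_det A hA) h1 with h2 | h2
    · exact absurd h2 hkn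
    · exact h2

end Cfsg.Agent.Lib.Helper4.PSepDet
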