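import Mathlib
import Cfsg.Agent.Lib.Helper4.PSepDet
import Cfsg.Agent.Lib.helper3.BlockBasic
import Cfsg.Agent.Lib.helper3.DefectOrder

set_option autoImplicit false
set_option linter.style.haveILetI false
set_option linter.unusedSectionVars false

/-! The matrix of character values against the matrix of central character values (helper4). -/

namespace Cfsg.Agent.Lib.Helper4.PSepDet

open Cfsg Cfsg.Agent.Lib.helper3.CharBasic Cfsg.Agent.Lib.helper3.Irr
open Cfsg.Agent.Lib.helper3.Central Cfsg.Agent.Lib.helper3.LocalM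
open Cfsg.Agent.Lib.helper3.Block Cfsg.Agent.Lib.helper3.Lin
open Classical

variable {M : Ideal AlgInt} {G : Type*} [Group G] [Finite G]

theorem isIntegral_irr_apply (ψ : IrrCharacter G) (g : G) : IsIntegral ℤ ((ψ : G → ℂ) g) :=
  isIntegral_of_isCharacter (isCharacter_of_isIrrCharacter ψ.2) g

/-- the matrix of values against the matrix of central character values -/
theorem memLocalIdeal_det_char_iff {p : ℕ} [hp : Fact p.Prime] (hM : IsPModular p M) {n : ℕ}
    (x : Fin n → G) (ψ : Fin n → IrrCharacter G) (e : ℕ)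
    (hK : ∀ j, ((Subgroup.centralizer ({x j} : Set G)).index).factorization p = e)
    (hψ : ∀ i, (charDegree (ψ i : G → ℂ)).factorization p = e) :
    MemLocalIdeal M (Matrix.det (Matrix.of fun i j => (ψ i : G → ℂ) (x j))) ↔
    MemLocalIdeal M (Matrix.det (Matrix.of fun i j => centralChar (ψ i : G → ℂ) (x j))) := by
  letI : Fintype G := Fintype.ofFinite G
  apply memLocalIdeal_det_iff hM _ _ (fun i j => isIntegral_irr_apply (ψ i) (x j))
    (fun i j => isIntegral_centralChar (ψ i).2 (x j))
    (fun i => ordCompl[p] (charDegree (ψ i : G → ℂ)))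
    (fun j => ordCompl[p] ((Subgroup.centralizer ({x j} : Set G)).index))
  · intro i
    obtain ⟨m, hm, hm1⟩ := exists_pos_nat_apply_one (ψ i).2
    have hcd : charDegree (ψ i : G → ℂ) = m := charDegree_eq hm1
    rw [hcd]
    exact Nat.not_dvd_ordCompl hp.out hm.ne'
  · intro j
    exact Nat.not_dvd_ordCompl hp.out Subgroup.index_ne_zero_of_finite
  · intro i j
    show _ * centralChar (ψ i : G → ℂ) (x j) = _ * (ψ i : G → ℂ) (x j)
    obtain ⟨m, hm, hm1⟩ := exists_pos_nat_apply_one (ψ i).2
    have hcd : charDegree (ψ i : G → ℂ) = m := charDegree_eq hm1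
    set c := ordCompl[p] (charDegree (ψ i : G → ℂ)) with hc
    set k := ordCompl[p] ((Subgroup.centralizer ({x j} : Set G)).index) with hk
    have h1 : p ^ e * c = charDegree (ψ i : G → ℂ) := by
      rw [hc, ← hψ i]
      exact Nat.ordProj_mul_ordCompl_eq_self _ p
    have h2 : p ^ e * k = (Subgroup.centralizer ({x j} : Set G)).index := by
      rw [hk, ← hK j]
      exact Nat.ordProj_mul_ordCompl_eq_self _ p
    have hc0 : (c : ℂ) ≠ 0 := by
      have : c ≠ 0 := by
        intro h0
        rw [h0, mul_zero] at h1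
        rw [hcd] at h1
        omega
      exact_mod_cast this
    have hpe : ((p ^ e : ℕ) : ℂ) ≠ 0 := by
      have : p ^ e ≠ 0 := pow_ne_zero _ hp.out.ne_zero
      exact_mod_cast this
    unfold centralChar
    have e1 : (ψ i : G → ℂ) 1 = ((p ^ e : ℕ) : ℂ) * (c : ℂ) := by
      rw [hm1, ← hcd, ← h1]
      push_cast
      ring
    have e2 : (((Subgroup.centralizer ({x j} : Set G)).index : ℕ) : ℂ) = ((p ^ e : ℕ) : ℂ) * (k : ℂ) := by
      rw [← h2]
      push_cast
      ring
    rw [e1, e2]
    field_simp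

/-- characters in the same blocks have congruent determinants of central character values -/
theorem memLocalIdeal_det_centralChar_sub [hMp : M.IsPrime] {n : ℕ} (x : Fin n → G)
    (ψ ψ' : Fin n → IrrCharacter G)
    (h : ∀ i, SameBlock M (ψ i : G → ℂ) (ψ' i : G → ℂ)) :
    MemLocalIdeal M (Matrix.det (Matrix.of fun i j => centralChar (ψ i : G → ℂ) (x j)) -
      Matrix.det (Matrix.of fun i j => centralChar (ψ' i : G → ℂ) (x j))) := by
  apply memLocalIdeal_det_sub _ _ (fun i j => isIntegral_centralChar (ψ i).2 (x j))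
    (fun i j => isIntegral_centralChar (ψ' i).2 (x j))
  intro i j
  exact h i (x j)

/-- **The height zero step.** -/
theorem not_memLocalIdeal_det_of_sameBlock {p : ℕ} [hp : Fact p.Prime] (hM : IsPModular p M)
    {n : ℕ} (x : Fin n → G) (e : ℕ)
    (hK : ∀ j, ((Subgroup.centralizer ({x j} : Set G)).index).factorization p = e)
    (χ₀ χ : Fin n → IrrCharacter G)
    (hsame : ∀ i, SameBlock M (χ₀ i : G → ℂ) (χ i : G → ℂ))
    (h₀ : ∀ i, (charDegree (χ₀ i : G → ℂ)).factorization p = e)
    (h : ∀ i, (charDegree (χ i : G → ℂ)).factorization p = e)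
    (hdet : ¬ MemLocalIdeal M (Matrix.det (Matrix.of fun i j => (χ₀ i : G → ℂ) (x j)))) :
    ¬ MemLocalIdeal M (Matrix.det (Matrix.of fun i j => (χ i : G → ℂ) (x j))) := by
  haveI := isPrime_of_isPModular hM
  intro hcon
  apply hdet
  rw [memLocalIdeal_det_char_iff hM x χ₀ e hK h₀]
  rw [memLocalIdeal_det_char_iff hM x χ e hK h] at hcon
  have h1 := memLocalIdeal_det_centralChar_sub x χ₀ χ hsame
  have h2 := memLocalIdeal_add h1 hcon
  rwa [sub_add_cancel] at h2

end Cfsg.Agent.Lib.Helper4.PSepDet
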