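import Mathlib
import Cfsg.Agent.Lib.Helper4.PElSumC
import Cfsg.Agent.Lib.Helper4.PSepQuot
import Cfsg.Agent.Lib.Helper4.PSepDet2
import Cfsg.Agent.Lib.helper3.Inflate
import Cfsg.Agent.Lib.helper3.BlockMinMax2
import Cfsg.Agent.Lib.helper3.FR6
import Cfsg.Agent.S0908

set_option autoImplicit false
set_option linter.style.haveILetI false
set_option linter.unusedSectionVars false
set_option maxHeartbeats 1000000

/-! `p`-separated classes with a common NORMAL defect group `D` (helper4; layer II of the theorem on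
`p`-separated classes). -/

namespace Cfsg.Agent.Lib.Helper4.PSepNormal

open Cfsg Cfsg.Agent.Lib.helper3.CharBasic Cfsg.Agent.Lib.helper3.Irr
open Cfsg.Agent.Lib.helper3.Central Cfsg.Agent.Lib.helper3.LocalM
open Cfsg.Agent.Lib.helper3.Block Cfsg.Agent.Lib.helper3.Lin
open Cfsg.Agent.Lib.Helper4.PSepDet Cfsg.Agent.Lib.Helper4.PSepQuot
open Classical

variable {M : Ideal AlgInt} {G : Type*} [Group G] [Finite G]

theorem factorization_eq_of_card_eq_pow {p : ℕ} [hp : Fact p.Prime] {a k : ℕ} (h : a = p ^ k) :
    a.factorization p = k := by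
  rw [h, Nat.Prime.factorization_pow hp.out, Finsupp.single_eq_same]

/-- the `p`-part of the order of the centralizer of `x i` is `|D|` -/
theorem factorization_centralizer {p : ℕ} [hp : Fact p.Prime] (D : Subgroup G) (g : G)
    (hD : ∃ S : Sylow p ↥(Subgroup.centralizer ({g} : Set G)),
      (S : Subgroup ↥(Subgroup.centralizer ({g} : Set G))).map
        (Subgroup.centralizer ({g} : Set G)).subtype = D) :
    Nat.card D = p ^ (Nat.card (Subgroup.centralizer ({g} : Set G))).factorization p := by
  obtain ⟨S, hS⟩ := hD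
  rw [← hS, Subgroup.card_map_of_injective (Subgroup.subtype_injective _)]
  exact Sylow.card_eq_multiplicity S

theorem factorization_index_centralizer {p : ℕ} [hp : Fact p.Prime] (D : Subgroup G) (g : G)
    (hD : ∃ S : Sylow p ↥(Subgroup.centralizer ({g} : Set G)),
      (S : Subgroup ↥(Subgroup.centralizer ({g} : Set G))).map
        (Subgroup.centralizer ({g} : Set G)).subtype = D) :
    ((Subgroup.centralizer ({g} : Set G)).index).factorization p =
      (Nat.card G).factorization p - (Nat.card D).factorization p := by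
  have h1 := factorization_centralizer D g hD
  have h2 := factorization_eq_of_card_eq_pow h1
  have h3 := Subgroup.card_mul_index (Subgroup.centralizer ({g} : Set G))
  have h4 : (Nat.card G).factorization p =
      (Nat.card (Subgroup.centralizer ({g} : Set G))).factorization p +
        ((Subgroup.centralizer ({g} : Set G)).index).factorization p := by
    rw [← h3, Nat.factorization_mul Nat.card_pos.ne' Subgroup.index_ne_zero_of_finite]
    rfl
  omega

/-- a normal `p`-subgroup inside a subgroup `C` lies in every Sylow `p`-subgroup of `C` -/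
theorem le_map_sylow_of_normal {p : ℕ} [hp : Fact p.Prime] (D : Subgroup G) [hDn : D.Normal]
    (hDp : IsPGroup p D) (C : Subgroup G) (hDC : D ≤ C) (Q : Sylow p C) :
    D ≤ (Q : Subgroup C).map C.subtype := by
  haveI : (D.subgroupOf C).Normal := hDn.subgroupOf C
  have hDcp : IsPGroup p (D.subgroupOf C) := hDp.comap_subtype
  have hsup : IsPGroup p (D.subgroupOf C ⊔ (Q : Subgroup C) : Subgroup C) :=
    IsPGroup.to_sup_of_normal_left hDcp Q.2
  have hEq := Q.is_maximal' hsup le_sup_right
  intro u hu
  have h1 : (⟨u, hDC hu⟩ : C) ∈ D.subgroupOf C := by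
    rw [Subgroup.mem_subgroupOf]; exact hu
  have h2 : (⟨u, hDC hu⟩ : C) ∈ (Q : Subgroup C) := by
    rw [← hEq]
    exact (le_sup_left : D.subgroupOf C ≤ _) h1
  exact ⟨⟨u, hDC hu⟩, h2, rfl⟩

/-- **Layer II, strong form.** -/
theorem layerII_strong (p : ℕ) [hp : Fact p.Prime] (hM : IsPModular p M)
    (D : Subgroup G) [hDn : D.Normal] {r : ℕ} (x : Fin r → G)
    (hx : ∀ i j : Fin r, IsConj (x i) (x j) → i = j)
    (hD : ∀ i : Fin r, ∃ S : Sylow p ↥(Subgroup.centralizer ({x i} : Set G)),
      (S : Subgroup ↥(Subgroup.centralizer ({x i} : Set G))).map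
        (Subgroup.centralizer ({x i} : Set G)).subtype = D)
    (hsep : ∀ i j : Fin r, ∀ g h : G, IsConj (x i) g → IsConj (x j) h → ∀ k : ℕ, 0 < k →
      orderOf (g * h⁻¹) ≠ p ^ k) :
    ∃ χ₀ : Fin r → IrrCharacter G,
      (∀ i, IsDefectGroup p M (blockOf M (χ₀ i : G → ℂ)) D) ∧
      (∀ i, blockDefect p (blockOf M (χ₀ i : G → ℂ)) = (Nat.card D).factorization p) ∧
      (∀ i, (charDegree (χ₀ i : G → ℂ)).factorization p =
        (Nat.card G).factorization p - (Nat.card D).factorization p) ∧
      ¬ MemLocalIdeal M (Matrix.det (Matrix.of fun i j => (χ₀ i : G → ℂ) (x j))) ∧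
      ¬ MemLocalIdeal M (Matrix.det (Matrix.of fun i j => centralChar (χ₀ i : G → ℂ) (x j))) := by
  letI : Fintype G := Fintype.ofFinite G
  haveI hMp := isPrime_of_isPModular hM
  have hMtop : M ≠ ⊤ := hM.2.1.ne_top
  rcases Nat.eq_zero_or_pos r with hr | hr
  · subst hr
    refine ⟨fun i => i.elim0, fun i => i.elim0, fun i => i.elim0, fun i => i.elim0, ?_, ?_⟩
    · rw [Matrix.det_isEmpty]; exact not_memLocalIdeal_one
    · rw [Matrix.det_isEmpty]; exact not_memLocalIdeal_one
  have hDp : IsPGroup p D := by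
    obtain ⟨S, hS⟩ := hD ⟨0, hr⟩
    rw [← hS]
    exact S.2.map _
  -- layer I in the quotient
  obtain ⟨χq, -, hdz, hdet⟩ := Cfsg.Agent.Lib.Helper4.PElSum.exists_defectZero_nonsingular p M hM
    (fun i => (x i : G ⧸ D)) (quot_nonconj p D hDp x hD hsep hx)
    (quot_centralizer p D hDp x hD hsep) (quot_sep p D hDp x hsep)
  set χ₀ : Fin r → IrrCharacter G :=
    fun i => ⟨inflate D (χq i : G ⧸ D → ℂ), isIrrCharacter_inflate D (χq i).2⟩ with hχ₀
  -- numbers
  have hcardG : (Nat.card G).factorization p =
      (Nat.card D).factorization p + (Nat.card (G ⧸ D)).factorization p := by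
    have h3 := Subgroup.card_mul_index D
    rw [← h3, Nat.factorization_mul Nat.card_pos.ne' Subgroup.index_ne_zero_of_finite,
      Subgroup.index_eq_card]
    rfl
  set e : ℕ := (Nat.card G).factorization p - (Nat.card D).factorization p with he
  have heq : e = (Nat.card (G ⧸ D)).factorization p := by omega
  have hdeg : ∀ i, (charDegree (χ₀ i : G → ℂ)).factorization p = e := by
    intro i
    rw [heq, ← hdz i]
    rfl
  have hK : ∀ j, ((Subgroup.centralizer ({x j} : Set G)).index).factorization p = e := by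
    intro j
    exact factorization_index_centralizer D (x j) (hD j)
  have hdetX : ¬ MemLocalIdeal M (Matrix.det (Matrix.of fun i j => (χ₀ i : G → ℂ) (x j))) :=
    hdet
  have hdetW : ¬ MemLocalIdeal M
      (Matrix.det (Matrix.of fun i j => centralChar (χ₀ i : G → ℂ) (x j))) := by
    rw [← memLocalIdeal_det_char_iff hM x χ₀ e hK hdeg]
    exact hdetX
  -- defect groups
  have hdefect : ∀ i, IsDefectGroup p M (blockOf M (χ₀ i : G → ℂ)) D ∧
      blockDefect p (blockOf M (χ₀ i : G → ℂ)) = (Nat.card D).factorization p := by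
    intro i
    set B : Set (IrrCharacter G) := blockOf M (χ₀ i : G → ℂ) with hBdef
    have hB : IsPBlock M B := ⟨χ₀ i, rfl⟩
    have hmem : χ₀ i ∈ B := sameBlock_refl hMtop _
    obtain ⟨D', hD'⟩ := exists_isDefectGroup hM B hB
    have hcard := Cfsg.Agent.S0908.result p M hM B hB D' hD'
    obtain ⟨g, hg, P, hP⟩ := id hD'
    -- the defect is at least `d`
    have hge : (Nat.card D).factorization p ≤ blockDefect p B := by
      unfold blockDefect
      have hle : sInf ((fun ψ : IrrCharacter G => (charDegree (ψ : G → ℂ)).factorization p) '' B)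
          ≤ (charDegree (χ₀ i : G → ℂ)).factorization p :=
        Nat.sInf_le ⟨χ₀ i, hmem, rfl⟩
      rw [hdeg i] at hle
      omega
    -- a column with a unit central character value
    obtain ⟨j, hj⟩ := exists_not_memLocalIdeal_of_det
      (Matrix.of fun i j => centralChar (χ₀ i : G → ℂ) (x j))
      (fun a b => isIntegral_centralChar (χ₀ a).2 (x b)) hdetW i
    have hj' : ¬ MemLocalIdeal M (centralChar (χ₀ i : G → ℂ) (x j)) := hj
    obtain ⟨y, Q, hyQ⟩ := (min_max hM B hB g hg P (x j)).2 ⟨χ₀ i, hmem, hj'⟩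
    rw [← hP] at hyQ
    -- `Q` maps onto `D`
    have hDC : D ≤ Subgroup.centralizer ({x j} : Set G) := le_centralizer p D x hD j
    have hDQ : D ≤ (Q : Subgroup ↥(Subgroup.centralizer ({x j} : Set G))).map
        (Subgroup.centralizer ({x j} : Set G)).subtype :=
      le_map_sylow_of_normal D hDp _ hDC Q
    have hQcard : Nat.card ((Q : Subgroup ↥(Subgroup.centralizer ({x j} : Set G))).map
        (Subgroup.centralizer ({x j} : Set G)).subtype) = Nat.card D := by
      rw [Subgroup.card_map_of_injective (Subgroup.subtype_injective _),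
        factorization_centralizer D (x j) (hD j)]
      exact Sylow.card_eq_multiplicity Q
    have hQD : (Q : Subgroup ↥(Subgroup.centralizer ({x j} : Set G))).map
        (Subgroup.centralizer ({x j} : Set G)).subtype = D :=
      (Subgroup.eq_of_le_of_card_ge hDQ hQcard.le).symm
    rw [hQD] at hyQ
    -- `D' ≤ D`
    have hD'D : D' ≤ D := by
      intro u hu
      have h1 : y * u * y⁻¹ ∈ D := hyQ ⟨u, hu, rfl⟩
      have h2 := hDn.conj_mem _ h1 y⁻¹
      have h3 : y⁻¹ * (y * u * y⁻¹) * y⁻¹⁻¹ = u := by group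
      rwa [h3] at h2
    have hDcard : Nat.card D = p ^ (Nat.card D).factorization p := by
      obtain ⟨n, hn⟩ := hDp.exists_card_eq
      rw [hn, factorization_eq_of_card_eq_pow rfl]
    have hcardge : Nat.card D ≤ Nat.card D' := by
      rw [hcard, hDcard]
      exact Nat.pow_le_pow_right hp.out.pos hge
    have hEq : D' = D := Subgroup.eq_of_le_of_card_ge hD'D hcardge
    refine ⟨hEq ▸ hD', ?_⟩
    rw [hEq, hDcard] at hcard
    exact (Nat.pow_right_injective hp.out.two_le hcard).symm
  exact ⟨χ₀, fun i => (hdefect i).1, fun i => (hdefect i).2, hdeg, hdetX, hdetW⟩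

end Cfsg.Agent.Lib.Helper4.PSepNormal
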