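import Mathlib
import Cfsg.Agent.Lib.Helper4.PSepNormal

set_option autoImplicit false
set_option linter.style.haveILetI false
set_option linter.unusedSectionVars false
set_option maxHeartbeats 1000000

/-! `p`-separated classes with a common NORMAL defect group `D`: the blocks (helper4; layer II of
the theorem on `p`-separated classes, final form). -/

namespace Cfsg.Agent.Lib.Helper4.PSepNormal

open Cfsg Cfsg.Agent.Lib.helper3.CharBasic Cfsg.Agent.Lib.helper3.Irr
open Cfsg.Agent.Lib.helper3.Central Cfsg.Agent.Lib.helper3.LocalM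
open Cfsg.Agent.Lib.helper3.Block Cfsg.Agent.Lib.helper3.Lin
open Cfsg.Agent.Lib.Helper4.PSepDet Cfsg.Agent.Lib.Helper4.PSepQuot
open Classical

variable {M : Ideal AlgInt} {G : Type*} [Group G] [Finite G]

/-- the `p`-part of the degree of a character of height zero -/
theorem factorization_of_height_zero {p : ℕ} (B : Set (IrrCharacter G)) (χ₀ χ : IrrCharacter G)
    (hχ₀ : χ₀ ∈ B) (hχ : χ ∈ B) (d e : ℕ)
    (hdef : blockDefect p B = d) (hdeg : (charDegree (χ₀ : G → ℂ)).factorization p = e)
    (hde : e + d = (Nat.card G).factorization p)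
    (hht : blockHeight p B (χ : G → ℂ) = 0) :
    (charDegree (χ : G → ℂ)).factorization p = e := by
  unfold blockDefect at hdef
  unfold blockHeight at hht
  have h1 : sInf ((fun ψ : IrrCharacter G => (charDegree (ψ : G → ℂ)).factorization p) '' B)
      ≤ (charDegree (χ₀ : G → ℂ)).factorization p := Nat.sInf_le ⟨χ₀, hχ₀, rfl⟩
  have h2 : sInf ((fun ψ : IrrCharacter G => (charDegree (ψ : G → ℂ)).factorization p) '' B)
      ≤ (charDegree (χ : G → ℂ)).factorization p := Nat.sInf_le ⟨χ, hχ, rfl⟩
  omega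

/-- **Layer II**: the theorem on `p`-separated classes when the common defect group is normal. -/
theorem layerII (p : ℕ) [hp : Fact p.Prime] (M : Ideal AlgInt) (hM : IsPModular p M)
    (D : Subgroup G) [hDn : D.Normal] {r : ℕ} (x : Fin r → G)
    (hx : ∀ i j : Fin r, IsConj (x i) (x j) → i = j)
    (hD : ∀ i : Fin r, ∃ S : Sylow p ↥(Subgroup.centralizer ({x i} : Set G)),
      (S : Subgroup ↥(Subgroup.centralizer ({x i} : Set G))).map
        (Subgroup.centralizer ({x i} : Set G)).subtype = D)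
    (hsep : ∀ i j : Fin r, ∀ g h : G, IsConj (x i) g → IsConj (x j) h → ∀ k : ℕ, 0 < k →
      orderOf (g * h⁻¹) ≠ p ^ k) :
    ∃ B : Fin r → Set (IrrCharacter G), Function.Injective B ∧
      (∀ i : Fin r, IsPBlock M (B i) ∧ IsDefectGroup p M (B i) D) ∧
      ∀ χ : Fin r → IrrCharacter G,
        (∀ i : Fin r, χ i ∈ B i ∧ blockHeight p (B i) (χ i : G → ℂ) = 0) →
        ¬ MemLocalIdeal M (Matrix.det (Matrix.of fun i j : Fin r => (χ i : G → ℂ) (x j))) := by
  haveI hMp := isPrime_of_isPModular hM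
  have hMtop : M ≠ ⊤ := hM.2.1.ne_top
  obtain ⟨χ₀, hdg, hdef, hdeg, hdetX, -⟩ := layerII_strong p hM D x hx hD hsep
  set e : ℕ := (Nat.card G).factorization p - (Nat.card D).factorization p with he
  have hle : (Nat.card D).factorization p ≤ (Nat.card G).factorization p := by
    have h3 := Subgroup.card_mul_index D
    rw [← h3, Nat.factorization_mul Nat.card_pos.ne' Subgroup.index_ne_zero_of_finite]
    exact Nat.le_add_right _ _
  have hde : e + (Nat.card D).factorization p = (Nat.card G).factorization p := by omega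
  have hK : ∀ j, ((Subgroup.centralizer ({x j} : Set G)).index).factorization p = e := by
    intro j
    exact factorization_index_centralizer D (x j) (hD j)
  have hmem : ∀ i, χ₀ i ∈ blockOf M (χ₀ i : G → ℂ) := fun i => sameBlock_refl hMtop _
  -- the main property
  have hmain : ∀ χ : Fin r → IrrCharacter G,
      (∀ i : Fin r, χ i ∈ blockOf M (χ₀ i : G → ℂ) ∧
        blockHeight p (blockOf M (χ₀ i : G → ℂ)) (χ i : G → ℂ) = 0) →
      ¬ MemLocalIdeal M (Matrix.det (Matrix.of fun i j : Fin r => (χ i : G → ℂ) (x j))) := by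
    intro χ hχ
    apply not_memLocalIdeal_det_of_sameBlock hM x e hK χ₀ χ (fun i => (hχ i).1) hdeg _ hdetX
    intro i
    exact factorization_of_height_zero _ (χ₀ i) (χ i) (hmem i) (hχ i).1 _ e (hdef i) (hdeg i) hde
      (hχ i).2
  have hht₀ : ∀ i, blockHeight p (blockOf M (χ₀ i : G → ℂ)) (χ₀ i : G → ℂ) = 0 := by
    intro i
    have h1 := hdef i
    have h2 := hdeg i
    unfold blockDefect at h1
    unfold blockHeight
    have h3 : sInf ((fun ψ : IrrCharacter G => (charDegree (ψ : G → ℂ)).factorization p) ''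
        blockOf M (χ₀ i : G → ℂ)) ≤ (charDegree (χ₀ i : G → ℂ)).factorization p :=
      Nat.sInf_le ⟨χ₀ i, hmem i, rfl⟩
    omega
  refine ⟨fun i => blockOf M (χ₀ i : G → ℂ), ?_, fun i => ⟨⟨χ₀ i, rfl⟩, hdg i⟩, hmain⟩
  -- injectivity
  intro i j hij
  by_contra hne
  have hij' : blockOf M (χ₀ i : G → ℂ) = blockOf M (χ₀ j : G → ℂ) := hij
  set χ : Fin r → IrrCharacter G := Function.update χ₀ j (χ₀ i) with hχdef
  have hχj : χ j = χ₀ i := by rw [hχdef, Function.update_self]
  have hχi : χ i = χ₀ i := by rw [hχdef, Function.update_of_ne hne]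
  have hχ : ∀ a : Fin r, χ a ∈ blockOf M (χ₀ a : G → ℂ) ∧
      blockHeight p (blockOf M (χ₀ a : G → ℂ)) (χ a : G → ℂ) = 0 := by
    intro a
    by_cases haj : a = j
    · subst haj
      rw [hχj, ← hij']
      exact ⟨hmem i, hht₀ i⟩
    · have : χ a = χ₀ a := by rw [hχdef, Function.update_of_ne haj]
      rw [this]
      exact ⟨hmem a, hht₀ a⟩
  apply hmain χ hχ
  have hzero : Matrix.det (Matrix.of fun a b : Fin r => (χ a : G → ℂ) (x b)) = 0 := by
    apply Matrix.det_zero_of_row_eq hne
    funext b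
    show (χ i : G → ℂ) (x b) = (χ j : G → ℂ) (x b)
    rw [hχi, hχj]
  rw [hzero]
  exact memLocalIdeal_zero hMtop

end Cfsg.Agent.Lib.Helper4.PSepNormal
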