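import Mathlib
import Cfsg.Agent.Lib.helper3.BlockMinMax2

set_option autoImplicit false
set_option linter.style.haveILetI false
set_option linter.unusedSectionVars false

/-! `p`-separated classes with common defect group `D`: restriction of the hypotheses to the
normalizer of `D`, and fusion of the classes in `C_G(D)` (helper4; group-theoretic part of layer III
of the theorem on `p`-separated classes). -/

namespace Cfsg.Agent.Lib.Helper4.PSepRestrict

open Cfsg.Agent.Lib.helper3.Block

variable {G : Type*} [Group G] [Finite G]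

/-- (R1) the conjugates of `g` lying in `C_G(D)` form one class under `N_G(D)`, when `D` is a Sylow
`p`-subgroup of `C_G(g)`. -/
theorem conj_in_normalizer {p : ℕ} [hp : Fact p.Prime] (D : Subgroup G) (g y : G)
    (hD : ∃ S : Sylow p ↥(Subgroup.centralizer ({g} : Set G)),
      (S : Subgroup ↥(Subgroup.centralizer ({g} : Set G))).map
        (Subgroup.centralizer ({g} : Set G)).subtype = D)
    (hy : IsConj g y) (hyD : y ∈ Subgroup.centralizer (D : Set G)) :
    ∃ n ∈ Subgroup.normalizer (D : Set G), n * g * n⁻¹ = y := by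
  obtain ⟨S, hS⟩ := hD
  obtain ⟨t, ht⟩ := isConj_iff.mp hy
  have hDp : IsPGroup p D := by rw [← hS]; exact S.2.map _
  have hDy : D ≤ Subgroup.centralizer ({t * g * t⁻¹} : Set G) := by
    intro d hd
    rw [Subgroup.mem_centralizer_iff]
    intro b hb
    rw [Set.mem_singleton_iff] at hb
    rw [hb, ht]
    rw [Subgroup.mem_centralizer_iff] at hyD
    exact (hyD d hd).symm
  have h1 := centralizer_conj_le g t D hDy
  have hP : IsPGroup p (D.map (MulAut.conj t⁻¹).toMonoidHom) := hDp.map _
  obtain ⟨c, hc, hle⟩ := exists_le_conj_sylow (Subgroup.centralizer ({g} : Set G)) S _ hP h1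
  rw [hS] at hle
  -- equality by cardinality
  have hcard1 : Nat.card (D.map (MulAut.conj t⁻¹).toMonoidHom) = Nat.card D :=
    Subgroup.card_map_of_injective (MulAut.conj t⁻¹).injective
  have hcard2 : Nat.card (D.map (MulAut.conj c).toMonoidHom) = Nat.card D :=
    Subgroup.card_map_of_injective (MulAut.conj c).injective
  have hEq : D.map (MulAut.conj t⁻¹).toMonoidHom = D.map (MulAut.conj c).toMonoidHom :=
    Subgroup.eq_of_le_of_card_ge hle (by rw [hcard1, hcard2])
  have hcg : c * g * c⁻¹ = g := by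
    rw [Subgroup.mem_centralizer_iff] at hc
    have := hc g rfl
    calc c * g * c⁻¹ = g * c * c⁻¹ := by rw [this]
      _ = g := by group
  refine ⟨t * c, ?_, ?_⟩
  · rw [Subgroup.mem_normalizer_iff_map_conj_eq]
    have hle' : D.map (MulAut.conj (t * c)).toMonoidHom ≤ D := by
      intro q hq
      obtain ⟨d, hd, rfl⟩ := Subgroup.mem_map.mp hq
      have h2 : c * d * c⁻¹ ∈ D.map (MulAut.conj c).toMonoidHom :=
        Subgroup.mem_map.mpr ⟨d, hd, rfl⟩
      rw [← hEq] at h2
      obtain ⟨d', hd', hdd⟩ := Subgroup.mem_map.mp h2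
      have h3 : t⁻¹ * d' * t = c * d * c⁻¹ := by
        have : (MulAut.conj t⁻¹).toMonoidHom d' = t⁻¹ * d' * t⁻¹⁻¹ := rfl
        rw [this, inv_inv] at hdd
        exact hdd
      have h4 : (MulAut.conj (t * c)).toMonoidHom d = d' := by
        show t * c * d * (t * c)⁻¹ = d'
        calc t * c * d * (t * c)⁻¹ = t * (c * d * c⁻¹) * t⁻¹ := by group
          _ = t * (t⁻¹ * d' * t) * t⁻¹ := by rw [h3]
          _ = d' := by group
      rw [h4]; exact hd'
    have hcard3 : Nat.card (D.map (MulAut.conj (t * c)).toMonoidHom) = Nat.card D :=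
      Subgroup.card_map_of_injective (MulAut.conj (t * c)).injective
    exact Subgroup.eq_of_le_of_card_ge hle' hcard3.ge
  · calc t * c * g * (t * c)⁻¹ = t * (c * g * c⁻¹) * t⁻¹ := by group
      _ = y := by rw [hcg, ht]

section restrict

variable (p : ℕ) [hp : Fact p.Prime] (D : Subgroup G) {ι : Type*} (x : ι → G)
  (hD : ∀ i : ι, ∃ S : Sylow p ↥(Subgroup.centralizer ({x i} : Set G)),
    (S : Subgroup ↥(Subgroup.centralizer ({x i} : Set G))).map
      (Subgroup.centralizer ({x i} : Set G)).subtype = D)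

include hD in
theorem mem_centralizer (i : ι) : x i ∈ Subgroup.centralizer (D : Set G) := by
  obtain ⟨S, hS⟩ := hD i
  rw [Subgroup.mem_centralizer_iff]
  intro d hd
  have hd' : d ∈ Subgroup.centralizer ({x i} : Set G) := by
    rw [← hS] at hd
    exact Subgroup.map_subtype_le _ hd
  rw [Subgroup.mem_centralizer_iff] at hd'
  exact (hd' (x i) rfl).symm

include hD in
theorem mem_normalizer (i : ι) : x i ∈ Subgroup.normalizer (D : Set G) :=
  Subgroup.centralizer_le_normalizer _ (mem_centralizer p D x hD i)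

/-- the elements `x i` as elements of `N_G(D)` -/
def xN (i : ι) : ↥(Subgroup.normalizer (D : Set G)) := ⟨x i, mem_normalizer p D x hD i⟩

theorem coe_xN (i : ι) : ((xN p D x hD i : ↥(Subgroup.normalizer (D : Set G))) : G) = x i := rfl

theorem normal_subgroupOf_normalizer :
    (D.subgroupOf (Subgroup.normalizer (D : Set G))).Normal :=
  (Subgroup.normal_subgroupOf_iff_le_normalizer Subgroup.le_normalizer).mpr le_rfl

/-- non-conjugacy restricts -/
theorem hx_restrict (hx : ∀ i j : ι, IsConj (x i) (x j) → i = j) (i j : ι)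
    (h : IsConj (xN p D x hD i) (xN p D x hD j)) : i = j := by
  apply hx i j
  obtain ⟨n, hn⟩ := isConj_iff.mp h
  exact isConj_iff.mpr ⟨(n : G), congrArg Subtype.val hn⟩

/-- separation restricts -/
theorem hsep_restrict
    (hsep : ∀ i j : ι, ∀ g h : G, IsConj (x i) g → IsConj (x j) h → ∀ k : ℕ, 0 < k →
      orderOf (g * h⁻¹) ≠ p ^ k) (i j : ι) (g h : ↥(Subgroup.normalizer (D : Set G)))
    (hg : IsConj (xN p D x hD i) g) (hh : IsConj (xN p D x hD j) h) (k : ℕ) (hk : 0 < k) :
    orderOf (g * h⁻¹) ≠ p ^ k := by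
  have hg' : IsConj (x i) (g : G) := by
    obtain ⟨n, hn⟩ := isConj_iff.mp hg
    exact isConj_iff.mpr ⟨(n : G), congrArg Subtype.val hn⟩
  have hh' : IsConj (x j) (h : G) := by
    obtain ⟨n, hn⟩ := isConj_iff.mp hh
    exact isConj_iff.mpr ⟨(n : G), congrArg Subtype.val hn⟩
  have := hsep i j (g : G) (h : G) hg' hh' k hk
  rw [← Subgroup.orderOf_coe]
  exact this

/-- the defect group hypothesis restricts -/
theorem hD_restrict (i : ι) :
    ∃ S' : Sylow p ↥(Subgroup.centralizer ({xN p D x hD i} :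
        Set ↥(Subgroup.normalizer (D : Set G)))),
      (S' : Subgroup ↥(Subgroup.centralizer ({xN p D x hD i} :
        Set ↥(Subgroup.normalizer (D : Set G))))).map
        (Subgroup.centralizer ({xN p D x hD i} :
          Set ↥(Subgroup.normalizer (D : Set G)))).subtype
        = D.subgroupOf (Subgroup.normalizer (D : Set G)) := by
  obtain ⟨S, hS⟩ := hD i
  have hDp : IsPGroup p D := by rw [← hS]; exact S.2.map _
  set N : Subgroup G := Subgroup.normalizer (D : Set G) with hN
  set C' : Subgroup ↥N := Subgroup.centralizer ({xN p D x hD i} : Set ↥N) with hC'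
  have hDN : D ≤ N := Subgroup.le_normalizer
  -- `D` as a subgroup of `C'`
  have hDC' : D.subgroupOf N ≤ C' := by
    intro n hn
    rw [Subgroup.mem_subgroupOf] at hn
    rw [hC', Subgroup.mem_centralizer_iff]
    intro b hb
    rw [Set.mem_singleton_iff] at hb
    rw [hb]
    apply Subtype.ext
    show x i * (n : G) = (n : G) * x i
    have := mem_centralizer p D x hD i
    rw [Subgroup.mem_centralizer_iff] at this
    exact (this (n : G) hn).symm
  have hDNp : IsPGroup p ((D.subgroupOf N).subgroupOf C') :=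
    (hDp.comap_subtype).comap_subtype
  obtain ⟨S', hS'⟩ := hDNp.exists_le_sylow
  refine ⟨S', ?_⟩
  -- the image of `S'` in `G`
  set P : Subgroup G := ((S' : Subgroup ↥C').map C'.subtype).map N.subtype with hP
  have hPp : IsPGroup p P := (S'.2.map _).map _
  have hDP : D ≤ P := by
    intro d hd
    have h1 : (⟨d, hDN hd⟩ : ↥N) ∈ D.subgroupOf N := by
      rw [Subgroup.mem_subgroupOf]; exact hd
    have h2 : (⟨⟨d, hDN hd⟩, hDC' h1⟩ : ↥C') ∈ (S' : Subgroup ↥C') := by
      apply hS'
      rw [Subgroup.mem_subgroupOf]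
      exact h1
    exact ⟨⟨d, hDN hd⟩, ⟨⟨⟨d, hDN hd⟩, hDC' h1⟩, h2, rfl⟩, rfl⟩
  have hPC : P ≤ Subgroup.centralizer ({x i} : Set G) := by
    rintro q ⟨n, ⟨s, -, rfl⟩, rfl⟩
    have hs : (s : ↥N) ∈ Subgroup.centralizer ({xN p D x hD i} : Set ↥N) := s.2
    rw [Subgroup.mem_centralizer_iff] at hs
    have h1 := hs (xN p D x hD i) rfl
    rw [Subgroup.mem_centralizer_iff]
    intro b hb
    rw [Set.mem_singleton_iff] at hb
    rw [hb]
    exact congrArg Subtype.val h1
  have hSP : (S : Subgroup ↥(Subgroup.centralizer ({x i} : Set G))) ≤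
      P.subgroupOf (Subgroup.centralizer ({x i} : Set G)) := by
    intro s hs
    rw [Subgroup.mem_subgroupOf]
    apply hDP
    rw [← hS]
    exact Subgroup.mem_map_of_mem _ hs
  have hEq : P.subgroupOf (Subgroup.centralizer ({x i} : Set G)) =
      (S : Subgroup ↥(Subgroup.centralizer ({x i} : Set G))) :=
    S.is_maximal' (hPp.comap_subtype) hSP
  have hPD : P ≤ D := by
    intro q hq
    have h1 : (⟨q, hPC hq⟩ : ↥(Subgroup.centralizer ({x i} : Set G))) ∈
        P.subgroupOf (Subgroup.centralizer ({x i} : Set G)) := by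
      rw [Subgroup.mem_subgroupOf]; exact hq
    rw [hEq] at h1
    rw [← hS]
    exact ⟨⟨q, hPC hq⟩, h1, rfl⟩
  ext n
  constructor
  · intro hn
    rw [Subgroup.mem_subgroupOf]
    apply hPD
    exact ⟨n, hn, rfl⟩
  · intro hn
    have h2 : (⟨n, hDC' hn⟩ : ↥C') ∈ (S' : Subgroup ↥C') := by
      apply hS'
      rw [Subgroup.mem_subgroupOf]
      exact hn
    exact ⟨⟨n, hDC' hn⟩, h2, rfl⟩

end restrict

end Cfsg.Agent.Lib.Helper4.PSepRestrict
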