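import Cfsg.Agent.Lib.Helper4.PermModule

set_option autoImplicit false
set_option linter.unusedSectionVars false

namespace Cfsg.Agent.Lib.Helper4.PairModule

open Cfsg Cfsg.Agent.Lib.Helper4.PermModule
open scoped Pointwise

variable {G : Type*} [Group G] {K : Type*} [Field K] {Ω : Type*} [Fintype Ω] [DecidableEq Ω]
  [MulAction G Ω]

local notation "Pairs" => (Set.powersetCard Ω 2)

/-- the orbit of a flag (pair, point) -/
def Flag (G : Type*) [Group G] {Ω : Type*} [DecidableEq Ω] [MulAction G Ω]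
    (s₀ : Set.powersetCard Ω 2) (w₀ : Ω) (s : Set.powersetCard Ω 2) (w : Ω) : Prop :=
  ∃ g : G, g • s₀ = s ∧ g • w₀ = w

theorem flag_self (s₀ : Pairs) (w₀ : Ω) : Flag G s₀ w₀ s₀ w₀ := ⟨1, one_smul _ _, one_smul _ _⟩

theorem flag_smul {s₀ : Pairs} {w₀ : Ω} {s : Pairs} {w : Ω} (g : G) :
    Flag G s₀ w₀ (g • s) (g • w) ↔ Flag G s₀ w₀ s w := by
  constructor
  · rintro ⟨x, h1, h2⟩
    refine ⟨g⁻¹ * x, ?_, ?_⟩
    · rw [mul_smul, h1, inv_smul_smul]
    · rw [mul_smul, h2, inv_smul_smul]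
  · rintro ⟨x, rfl, rfl⟩
    exact ⟨g * x, mul_smul _ _ _, mul_smul _ _ _⟩

theorem flag_not_mem {s₀ : Pairs} {w₀ : Ω} (h0 : w₀ ∉ (s₀ : Finset Ω)) {s : Pairs} {w : Ω}
    (h : Flag G s₀ w₀ s w) : w ∉ (s : Finset Ω) := by
  obtain ⟨g, rfl, rfl⟩ := h
  rw [Set.powersetCard.coe_smul, Finset.smul_mem_smul_finset_iff]
  exact h0

open Classical in
/-- incidence matrix of a flag orbit -/
noncomputable def flagM (G : Type*) [Group G] (K : Type*) [Field K] {Ω : Type*} [DecidableEq Ω]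
    [MulAction G Ω] (s₀ : Set.powersetCard Ω 2) (w₀ : Ω) : Matrix (Set.powersetCard Ω 2) Ω K :=
  fun s w => if Flag G s₀ w₀ s w then 1 else 0

theorem flagM_smul {s₀ : Pairs} {w₀ : Ω} (g : G) (s : Pairs) (w : Ω) :
    flagM G K s₀ w₀ (g • s) (g • w) = flagM G K s₀ w₀ s w := by
  unfold flagM
  by_cases h : Flag G s₀ w₀ s w
  · rw [if_pos h, if_pos ((flag_smul g).mpr h)]
  · rw [if_neg h, if_neg (fun h' => h ((flag_smul g).mp h'))]

theorem flagM_pos {s₀ : Pairs} {w₀ : Ω} {s : Pairs} {w : Ω} (h : Flag G s₀ w₀ s w) :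
    flagM G K s₀ w₀ s w = 1 := by
  unfold flagM; rw [if_pos h]

theorem flagM_neg {s₀ : Pairs} {w₀ : Ω} {s : Pairs} {w : Ω} (h : ¬ Flag G s₀ w₀ s w) :
    flagM G K s₀ w₀ s w = 0 := by
  unfold flagM; rw [if_neg h]

/-- the operator attached to a flag orbit -/
noncomputable def flagT (G : Type*) [Group G] (K : Type*) [Field K] {Ω : Type*} [Fintype Ω]
    [DecidableEq Ω] [MulAction G Ω] (s₀ : Set.powersetCard Ω 2) (w₀ : Ω) :
    (Ω → K) →ₗ[K] (Set.powersetCard Ω 2 → K) := Matrix.mulVecLin (flagM G K s₀ w₀)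

theorem flagT_apply (s₀ : Pairs) (w₀ : Ω) (φ : Ω → K) (s : Pairs) :
    flagT G K s₀ w₀ φ s = ∑ w, flagM G K s₀ w₀ s w * φ w := rfl

theorem flagT_single (s₀ : Pairs) (w₀ : Ω) (w : Ω) (s : Pairs) :
    flagT G K s₀ w₀ (Pi.single w 1) s = flagM G K s₀ w₀ s w := by
  rw [flagT_apply]
  simp [Pi.single_apply]

theorem flagT_comm (s₀ : Pairs) (w₀ : Ω) (g : G) (φ : Ω → K) :
    flagT G K s₀ w₀ (Cfsg.permRep K G Ω g φ) =
      Cfsg.permRep K G (Set.powersetCard Ω 2) g (flagT G K s₀ w₀ φ) := by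
  funext s
  show flagT G K s₀ w₀ (Cfsg.permRep K G Ω g φ) s = flagT G K s₀ w₀ φ (g⁻¹ • s)
  rw [flagT_apply, flagT_apply,
    ← Equiv.sum_comp (MulAction.toPerm g) (fun w => flagM G K s₀ w₀ s w * Cfsg.permRep K G Ω g φ w)]
  apply Finset.sum_congr rfl
  intro w _
  rw [MulAction.toPerm_apply, permRep_apply, inv_smul_smul]
  congr 1
  conv_lhs => rw [← smul_inv_smul g s]
  exact flagM_smul g _ _



theorem single_sub_mem_sumZero (u v : Ω) :
    (Pi.single u (1 : K) - Pi.single v (1 : K) : Ω → K) ∈ (Cfsg.permSumZero K G Ω).toSubmodule := by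
  rw [mem_sumZero]
  simp only [Pi.sub_apply, Finset.sum_sub_distrib]
  rw [Finset.sum_pi_single' u (1 : K), Finset.sum_pi_single' v (1 : K)]
  simp

/-- a function on pairs invariant under a group transitive on pairs is constant -/
theorem const_of_invariant [MulAction.IsPretransitive G Pairs] (ψ : Pairs → K)
    (hψ : ∀ g : G, Cfsg.permRep K G Pairs g ψ = ψ) (s s' : Pairs) : ψ s = ψ s' := by
  obtain ⟨g, hg⟩ := MulAction.exists_smul_eq G s s'
  have := congrFun (hψ g) s'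
  rw [permRep_apply, ← hg, inv_smul_smul] at this
  rw [← hg]
  exact this

theorem flagT_one_const [MulAction.IsPretransitive G Pairs] (s₀ : Pairs) (w₀ : Ω) (s s' : Pairs) :
    flagT G K s₀ w₀ (fun _ => 1) s = flagT G K s₀ w₀ (fun _ => 1) s' := by
  apply const_of_invariant (G := G)
  intro g
  rw [← flagT_comm]
  rfl

end Cfsg.Agent.Lib.Helper4.PairModule
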