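import Mathlib
import Cfsg.Agent.Lib.Helper4.PerfDefs
import Cfsg.Agent.Lib.helper3.BlockIdem2
import Cfsg.Agent.Lib.helper3.BlockMinMax

set_option autoImplicit false
set_option linter.style.haveILetI false
set_option linter.unusedSectionVars false
set_option maxHeartbeats 1000000

/-! Abstract perfectness from column data: preliminaries (helper4). -/

namespace Cfsg.Agent.Lib.Helper4.Perf

open Cfsg Cfsg.Agent.Lib.helper3.LocalM Cfsg.Agent.Lib.helper3.Block
open Classical

variable {M : Ideal AlgInt}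

/-- an enumeration of a four-element set -/
theorem enum4 {α : Type*} (c : Set α) (hc : Nat.card c = 4) :
    ∃ e : Fin 4 → α, Function.Injective e ∧ (∀ i, e i ∈ c) ∧ (∀ η ∈ c, ∃ i, e i = η) ∧
      ∀ f : α → ℂ, ∑ᶠ η ∈ c, f η = ∑ i, f (e i) := by
  haveI : Finite ↥c := Nat.finite_of_card_ne_zero (by rw [hc]; norm_num)
  let E : ↥c ≃ Fin 4 := Finite.equivFinOfCardEq hc
  refine ⟨fun i => ((E.symm i : ↥c) : α), ?_, ?_, ?_, ?_⟩
  · intro i j hij
    exact E.symm.injective (Subtype.ext hij)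
  · intro i
    exact (E.symm i).2
  · intro η hη
    refine ⟨E ⟨η, hη⟩, ?_⟩
    simp
  · intro f
    rw [← finsum_set_coe_eq_finsum_mem c, ← finsum_comp_equiv E.symm, finsum_eq_sum_of_fintype]

theorem memLocalRing_zero [hMp : M.IsPrime] : MemLocalRing M 0 := by
  have := memLocalRing_of_integral (M := M) (z := 0) isIntegral_zero
  exact this

theorem memLocalRing_sum [hMp : M.IsPrime] {ι : Type*} (s : Finset ι) (f : ι → ℂ)
    (h : ∀ i ∈ s, MemLocalRing M (f i)) : MemLocalRing M (∑ i ∈ s, f i) := by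
  induction s using Finset.induction_on with
  | empty =>
    rw [Finset.sum_empty]
    exact memLocalRing_zero
  | insert a s ha ih =>
    rw [Finset.sum_insert ha]
    exact memLocalRing_add (h a (Finset.mem_insert_self a s))
      (ih (fun i hi => h i (Finset.mem_insert_of_mem hi)))

theorem memLocalRing_neg [hMp : M.IsPrime] {z : ℂ} (hz : MemLocalRing M z) :
    MemLocalRing M (-z) := by
  have h1 : MemLocalRing M (-1 : ℂ) :=
    memLocalRing_of_integral (isIntegral_one.neg)
  have := memLocalRing_mul h1 hz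
  simpa using this

theorem memLocalRing_intCast [hMp : M.IsPrime] (n : ℤ) : MemLocalRing M (n : ℂ) :=
  memLocalRing_of_integral (by
    have := isIntegral_algebraMap (R := ℤ) (A := ℂ) (x := n)
    simpa using this)

/-- two balanced sign vectors of length four have dot product `0` or `± 4` -/
theorem dot_balanced (u v : Fin 4 → ℤ) (hu : ∀ i, u i = 1 ∨ u i = -1)
    (hv : ∀ i, v i = 1 ∨ v i = -1) (hu0 : ∑ i, u i = 0) (hv0 : ∑ i, v i = 0) :
    ∃ k : ℤ, (k = 0 ∨ k = 1 ∨ k = -1) ∧ ∑ i, u i * v i = 4 * k := by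
  rw [Fin.sum_univ_four] at hu0 hv0 ⊢
  rcases hu 0 with a0 | a0 <;> rcases hu 1 with a1 | a1 <;> rcases hu 2 with a2 | a2 <;>
    rcases hu 3 with a3 | a3 <;> rw [a0, a1, a2, a3] at hu0 ⊢ <;> (try omega) <;>
    rcases hv 0 with b0 | b0 <;> rcases hv 1 with b1 | b1 <;> rcases hv 2 with b2 | b2 <;>
    rcases hv 3 with b3 | b3 <;> rw [b0, b1, b2, b3] at hv0 ⊢ <;> (try omega) <;>
    first
      | (refine ⟨0, Or.inl rfl, ?_⟩; norm_num; done)
      | (refine ⟨1, Or.inr (Or.inl rfl), ?_⟩; norm_num; done)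
      | (refine ⟨-1, Or.inr (Or.inr rfl), ?_⟩; norm_num; done)

end Cfsg.Agent.Lib.Helper4.Perf
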