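import Mathlib
import Cfsg.Agent.Lib.Helper4.PerfAbs1
import Cfsg.Agent.Lib.helper3.Irr9
import Cfsg.Agent.Lib.helper3.Lin

set_option autoImplicit false
set_option linter.style.haveILetI false
set_option linter.unusedSectionVars false
set_option maxHeartbeats 2000000

/-! Abstract perfectness from column data: type `l = 1` (helper4). -/

namespace Cfsg.Agent.Lib.Helper4.Perf

open Cfsg Cfsg.Agent.Lib.helper3.LocalM Cfsg.Agent.Lib.helper3.Block
open Cfsg.Agent.Lib.helper3.Irr Cfsg.Agent.Lib.helper3.Lin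
open Classical

variable {M : Ideal AlgInt} {G : Type*} [Group G] {N : Type*} [Group N]

/-- the bijection defined by two enumerations -/
noncomputable def mkI (e : Fin 4 → IrrCharacter N) (e' : Fin 4 → IrrCharacter G)
    (η : IrrCharacter N) : IrrCharacter G :=
  if h : ∃ i, e i = η then e' h.choose else e' 0

theorem mkI_apply {e : Fin 4 → IrrCharacter N} (e' : Fin 4 → IrrCharacter G)
    (he : Function.Injective e) (i : Fin 4) : mkI e e' (e i) = e' i := by
  unfold mkI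
  have h : ∃ j, e j = e i := ⟨i, rfl⟩
  rw [dif_pos h]
  congr 1
  exact he h.choose_spec

theorem bijOn_mkI {e : Fin 4 → IrrCharacter N} {e' : Fin 4 → IrrCharacter G}
    (he : Function.Injective e) (he' : Function.Injective e') {c : Set (IrrCharacter N)}
    {B : Set (IrrCharacter G)} (hc : ∀ η ∈ c, ∃ i, e i = η)
    (hB : ∀ i, e' i ∈ B) (hc' : ∀ i, e i ∈ c) (hB' : ∀ χ ∈ B, ∃ i, e' i = χ) :
    Set.BijOn (mkI e e') c B := by
  refine ⟨?_, ?_, ?_⟩
  · intro η hη
    obtain ⟨i, rfl⟩ := hc η hη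
    rw [mkI_apply e' he]
    exact hB i
  · intro η hη η' hη' h
    obtain ⟨i, rfl⟩ := hc η hη
    obtain ⟨j, rfl⟩ := hc η' hη'
    rw [mkI_apply e' he, mkI_apply e' he] at h
    rw [he' h]
  · intro χ hχ
    obtain ⟨i, rfl⟩ := hB' χ hχ
    exact ⟨e i, hc' i, mkI_apply e' he i⟩

theorem isIntegral_apply {X : Type*} [Group X] [Finite X] (χ : IrrCharacter X) (x : X) :
    IsIntegral ℤ ((χ : X → ℂ) x) :=
  isIntegral_of_isCharacter (isCharacter_of_isIrrCharacter χ.2) x

/-- the columns of a block of type `l = 1` are balanced -/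
theorem balanced_of_T1 {X : Type*} [Group X] {𝔅 : Set (IrrCharacter X)} (h𝔅 : T1Data M 𝔅)
    (e : Fin 4 → IrrCharacter X) (he𝔅 : ∀ i, e i ∈ 𝔅)
    (hesum : ∀ f : IrrCharacter X → ℂ, ∑ᶠ η ∈ 𝔅, f η = ∑ i, f (e i))
    (d : IrrCharacter X → ℤ) (hd : IsCol 2 𝔅 d) : ∑ i, d (e i) = 0 := by
  have h1 := hd 1 (by rw [orderOf_one]; norm_num)
  rw [hesum] at h1
  have h2 : ∀ i, ((e i : IrrCharacter X) : X → ℂ) 1 = ((e 0 : IrrCharacter X) : X → ℂ) 1 := by
    intro i
    exact h𝔅.eq_reg _ (he𝔅 i) _ (he𝔅 0) 1 (by rw [orderOf_one]; norm_num)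
  simp only [h2] at h1
  rw [← Finset.sum_mul] at h1
  obtain ⟨n, hn, hn1⟩ := exists_pos_nat_apply_one (e 0).2
  have h3 : ((e 0 : IrrCharacter X) : X → ℂ) 1 ≠ 0 := by
    rw [hn1]
    exact Nat.cast_ne_zero.mpr hn.ne'
  rcases mul_eq_zero.mp h1 with h4 | h4
  · exact_mod_cast h4
  · exact absurd h4 h3

end Cfsg.Agent.Lib.Helper4.Perf
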