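import Mathlib
import Cfsg.Agent.Lib.Helper4.PerfAbs2

set_option autoImplicit false
set_option linter.style.haveILetI false
set_option linter.unusedSectionVars false
set_option maxHeartbeats 2000000

/-! Abstract perfectness from column data: type `l = 1` (helper4). -/

namespace Cfsg.Agent.Lib.Helper4.Perf

open Cfsg Cfsg.Agent.Lib.helper3.LocalM Cfsg.Agent.Lib.helper3.Block
open Cfsg.Agent.Lib.helper3.Irr Cfsg.Agent.Lib.helper3.Lin
open Classical

variable {M : Ideal AlgInt} {G : Type*} [Group G] [Finite G] {N : Type*} [Group N] [Finite N]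

/-- the double expansion at a pair of singular elements -/
theorem sum_double_expansion {n n' : ℕ} (a : Fin 4 → Fin n → ℂ) (a' : Fin 4 → Fin n' → ℂ)
    (φ : Fin n → ℂ) (φ' : Fin n' → ℂ) :
    ∑ i, (∑ j, a i j * φ j) * (∑ j', a' i j' * φ' j') =
      ∑ j, ∑ j', (∑ i, a i j * a' i j') * φ j * φ' j' := by
  simp only [Finset.sum_mul_sum]
  rw [Finset.sum_comm]
  apply Finset.sum_congr rfl
  intro j _
  rw [Finset.sum_comm]
  apply Finset.sum_congr rfl
  intro j' _
  rw [Finset.sum_mul, Finset.sum_mul]
  apply Finset.sum_congr rfl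
  intro i _
  ring

theorem perfect_of_T1 (hM : IsPModular 2 M) (B : Set (IrrCharacter G))
    (c : Set (IrrCharacter N)) (hB : T1Data M B) (hc : T1Data M c) :
    ∃ (I : IrrCharacter N → IrrCharacter G) (ε : IrrCharacter N → ℤ),
      IsPerfectIsometry 2 M c B I ε := by
  haveI hMp := isPrime_of_isPModular hM
  obtain ⟨e, he, hec, hec', hesum⟩ := enum4 c hc.card4
  obtain ⟨e', he', heB, heB', he'sum⟩ := enum4 B hB.card4
  refine ⟨mkI e e', fun _ => 1, bijOn_mkI he he' hec' heB hec heB', fun η _ => Or.inl rfl, ?_⟩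
  intro x y
  have hμ : signedBijectionKernel c (mkI e e') (fun _ => 1) x y =
      ∑ i, ((e' i : IrrCharacter G) : G → ℂ) x * ((e i : IrrCharacter N) : N → ℂ) y := by
    unfold signedBijectionKernel
    rw [hesum]
    apply Finset.sum_congr rfl
    intro i _
    rw [mkI_apply e' he]
    push_cast
    ring
  rw [hμ]
  have h0 : ∀ z : ℂ, MemLocalRing M (0 / z) := by
    intro z
    rw [zero_div]
    exact memLocalRing_zero
  by_cases hx : 2 ∣ orderOf x <;> by_cases hy : 2 ∣ orderOf y
  · -- both singular
    obtain ⟨n, d, φ, hds, hdc, hφi, hφl, hexp⟩ := hB.sing x hx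
    obtain ⟨n', d', φ', hds', hdc', hφi', hφl', hexp'⟩ := hc.sing y hy
    have hk : ∀ j j', ∃ k : ℤ, ∑ i, ((d j (e' i) : ℤ) : ℂ) * ((d' j' (e i) : ℤ) : ℂ) =
        4 * (k : ℂ) := by
      intro j j'
      obtain ⟨k, -, hk⟩ := dot_balanced (fun i => d j (e' i)) (fun i => d' j' (e i))
        (fun i => hds j _ (heB i)) (fun i => hds' j' _ (hec i))
        (balanced_of_T1 hB e' heB he'sum (d j) (hdc j))
        (balanced_of_T1 hc e hec hesum (d' j') (hdc' j'))
      refine ⟨k, ?_⟩
      have := congrArg (fun z : ℤ => (z : ℂ)) hk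
      push_cast at this
      exact this
    choose k hk using hk
    have key : ∑ i, ((e' i : IrrCharacter G) : G → ℂ) x * ((e i : IrrCharacter N) : N → ℂ) y =
        ∑ j, ∑ j', 4 * (k j j' : ℂ) * φ j * φ' j' := by
      calc ∑ i, ((e' i : IrrCharacter G) : G → ℂ) x * ((e i : IrrCharacter N) : N → ℂ) y
          = ∑ i, (∑ j, ((d j (e' i) : ℤ) : ℂ) * φ j) * (∑ j', ((d' j' (e i) : ℤ) : ℂ) * φ' j') := by
            apply Finset.sum_congr rfl
            intro i _
            rw [hexp _ (heB i), hexp' _ (hec i)]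
        _ = ∑ j, ∑ j', (∑ i, ((d j (e' i) : ℤ) : ℂ) * ((d' j' (e i) : ℤ) : ℂ)) * φ j * φ' j' :=
            sum_double_expansion _ _ _ _
        _ = _ := by
            apply Finset.sum_congr rfl
            intro j _
            apply Finset.sum_congr rfl
            intro j' _
            rw [hk]
    rw [key]
    refine ⟨?_, ?_, Or.inl ?_⟩
    · rw [Finset.sum_div]
      apply memLocalRing_sum
      intro j _
      rw [Finset.sum_div]
      apply memLocalRing_sum
      intro j' _
      have e1 : 4 * (k j j' : ℂ) * φ j * φ' j' /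
          (Nat.card ↥(Subgroup.centralizer ({x} : Set G)) : ℂ) =
          ((k j j' : ℂ) * φ' j') *
            (4 * φ j / (Nat.card ↥(Subgroup.centralizer ({x} : Set G)) : ℂ)) := by ring
      rw [e1]
      exact memLocalRing_mul (memLocalRing_mul (memLocalRing_intCast _)
        (memLocalRing_of_integral (hφi' j'))) (hφl j)
    · rw [Finset.sum_div]
      apply memLocalRing_sum
      intro j _
      rw [Finset.sum_div]
      apply memLocalRing_sum
      intro j' _
      have e1 : 4 * (k j j' : ℂ) * φ j * φ' j' /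
          (Nat.card ↥(Subgroup.centralizer ({y} : Set N)) : ℂ) =
          ((k j j' : ℂ) * φ j) *
            (4 * φ' j' / (Nat.card ↥(Subgroup.centralizer ({y} : Set N)) : ℂ)) := by ring
      rw [e1]
      exact memLocalRing_mul (memLocalRing_mul (memLocalRing_intCast _)
        (memLocalRing_of_integral (hφi j))) (hφl' j')
    · unfold IsPRegular
      exact ⟨fun h => absurd hx h, fun h => absurd hy h⟩
  · -- `x` singular, `y` regular
    obtain ⟨n, d, φ, hds, hdc, hφi, hφl, hexp⟩ := hB.sing x hx
    have hzero : ∑ i, ((e' i : IrrCharacter G) : G → ℂ) x * ((e i : IrrCharacter N) : N → ℂ) y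
        = 0 := by
      have h1 : ∀ i, ((e i : IrrCharacter N) : N → ℂ) y = ((e 0 : IrrCharacter N) : N → ℂ) y :=
        fun i => hc.eq_reg _ (hec i) _ (hec 0) y hy
      simp only [h1]
      rw [← Finset.sum_mul]
      have h2 : ∑ i, ((e' i : IrrCharacter G) : G → ℂ) x = 0 := by
        calc ∑ i, ((e' i : IrrCharacter G) : G → ℂ) x
            = ∑ i, ∑ j, ((d j (e' i) : ℤ) : ℂ) * φ j := by
              apply Finset.sum_congr rfl
              intro i _
              rw [hexp _ (heB i)]
          _ = ∑ j, (∑ i, ((d j (e' i) : ℤ) : ℂ)) * φ j := by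
              rw [Finset.sum_comm]
              apply Finset.sum_congr rfl
              intro j _
              rw [Finset.sum_mul]
          _ = 0 := by
              apply Finset.sum_eq_zero
              intro j _
              have := balanced_of_T1 hB e' heB he'sum (d j) (hdc j)
              have h3 : ∑ i, ((d j (e' i) : ℤ) : ℂ) = 0 := by exact_mod_cast this
              rw [h3, zero_mul]
      rw [h2, zero_mul]
    rw [hzero]
    exact ⟨h0 _, h0 _, Or.inr rfl⟩
  · -- `x` regular, `y` singular
    obtain ⟨n', d', φ', hds', hdc', hφi', hφl', hexp'⟩ := hc.sing y hy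
    have hzero : ∑ i, ((e' i : IrrCharacter G) : G → ℂ) x * ((e i : IrrCharacter N) : N → ℂ) y
        = 0 := by
      have h1 : ∀ i, ((e' i : IrrCharacter G) : G → ℂ) x = ((e' 0 : IrrCharacter G) : G → ℂ) x :=
        fun i => hB.eq_reg _ (heB i) _ (heB 0) x hx
      simp only [h1]
      rw [← Finset.mul_sum]
      have h2 : ∑ i, ((e i : IrrCharacter N) : N → ℂ) y = 0 := by
        calc ∑ i, ((e i : IrrCharacter N) : N → ℂ) y
            = ∑ i, ∑ j, ((d' j (e i) : ℤ) : ℂ) * φ' j := by
              apply Finset.sum_congr rfl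
              intro i _
              rw [hexp' _ (hec i)]
          _ = ∑ j, (∑ i, ((d' j (e i) : ℤ) : ℂ)) * φ' j := by
              rw [Finset.sum_comm]
              apply Finset.sum_congr rfl
              intro j _
              rw [Finset.sum_mul]
          _ = 0 := by
              apply Finset.sum_eq_zero
              intro j _
              have := balanced_of_T1 hc e hec hesum (d' j) (hdc' j)
              have h3 : ∑ i, ((d' j (e i) : ℤ) : ℂ) = 0 := by exact_mod_cast this
              rw [h3, zero_mul]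
      rw [h2, mul_zero]
    rw [hzero]
    exact ⟨h0 _, h0 _, Or.inr rfl⟩
  · -- both regular
    have h1 : ∀ i, ((e' i : IrrCharacter G) : G → ℂ) x = ((e' 0 : IrrCharacter G) : G → ℂ) x :=
      fun i => hB.eq_reg _ (heB i) _ (heB 0) x hx
    have h2 : ∀ i, ((e i : IrrCharacter N) : N → ℂ) y = ((e 0 : IrrCharacter N) : N → ℂ) y :=
      fun i => hc.eq_reg _ (hec i) _ (hec 0) y hy
    simp only [h1, h2]
    rw [Finset.sum_const, Finset.card_univ, Fintype.card_fin, nsmul_eq_mul]
    refine ⟨?_, ?_, Or.inl ?_⟩
    · have e1 : ((4 : ℕ) : ℂ) * (((e' 0 : IrrCharacter G) : G → ℂ) x *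
          ((e 0 : IrrCharacter N) : N → ℂ) y) /
          (Nat.card ↥(Subgroup.centralizer ({x} : Set G)) : ℂ) =
          ((e 0 : IrrCharacter N) : N → ℂ) y * (4 * ((e' 0 : IrrCharacter G) : G → ℂ) x /
            (Nat.card ↥(Subgroup.centralizer ({x} : Set G)) : ℂ)) := by
        push_cast
        ring
      rw [e1]
      exact memLocalRing_mul (memLocalRing_of_integral (isIntegral_apply _ _))
        (hB.reg _ (heB 0) x hx)
    · have e1 : ((4 : ℕ) : ℂ) * (((e' 0 : IrrCharacter G) : G → ℂ) x *
          ((e 0 : IrrCharacter N) : N → ℂ) y) /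
          (Nat.card ↥(Subgroup.centralizer ({y} : Set N)) : ℂ) =
          ((e' 0 : IrrCharacter G) : G → ℂ) x * (4 * ((e 0 : IrrCharacter N) : N → ℂ) y /
            (Nat.card ↥(Subgroup.centralizer ({y} : Set N)) : ℂ)) := by
        push_cast
        ring
      rw [e1]
      exact memLocalRing_mul (memLocalRing_of_integral (isIntegral_apply _ _))
        (hc.reg _ (hec 0) y hy)
    · unfold IsPRegular
      exact ⟨fun _ => hy, fun _ => hx⟩

end Cfsg.Agent.Lib.Helper4.Perf
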