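import Mathlib
import Cfsg.Agent.Lib.Helper4.PerfAbs3

set_option autoImplicit false
set_option linter.style.haveILetI false
set_option linter.unusedSectionVars false
set_option maxHeartbeats 2000000

/-! Abstract perfectness from column data: type `l = 3` (helper4). -/

namespace Cfsg.Agent.Lib.Helper4.Perf

open Cfsg Cfsg.Agent.Lib.helper3.LocalM Cfsg.Agent.Lib.helper3.Block
open Cfsg.Agent.Lib.helper3.Irr Cfsg.Agent.Lib.helper3.Lin
open Classical

variable {M : Ideal AlgInt}

theorem sq_of_sign {z : ℤ} (h : z = 1 ∨ z = -1) : ((z : ℤ) : ℂ) * ((z : ℤ) : ℂ) = 1 := by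
  rcases h with h | h <;> rw [h] <;> norm_num

/-- in type `l = 3` the values at a singular element are a multiple of the column `w` -/
theorem collapse_of_T3 [hMp : M.IsPrime] {X : Type*} [Group X] {𝔅 : Set (IrrCharacter X)}
    {w : IrrCharacter X → ℤ} (h𝔅 : T3Data M 𝔅 w) (x : X) (hx : 2 ∣ orderOf x) :
    ∃ Φ : ℂ, IsIntegral ℤ Φ ∧
      MemLocalRing M (4 * Φ / (Nat.card ↥(Subgroup.centralizer ({x} : Set X)) : ℂ)) ∧
      ∀ χ ∈ 𝔅, (χ : X → ℂ) x = (w χ : ℂ) * Φ := by
  obtain ⟨n, d, φ, hds, hdc, hφi, hφl, hexp⟩ := h𝔅.sing x hx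
  have hσ : ∀ j, ∃ σ : ℤ, (σ = 1 ∨ σ = -1) ∧ ∀ χ ∈ 𝔅, d j χ = σ * w χ := by
    intro j
    rcases h𝔅.uniq (d j) (hds j) (hdc j) with h | h
    · exact ⟨1, Or.inl rfl, fun χ hχ => by rw [h χ hχ, one_mul]⟩
    · exact ⟨-1, Or.inr rfl, fun χ hχ => by rw [h χ hχ]; ring⟩
  choose σ hσ1 hσ2 using hσ
  refine ⟨∑ j, (σ j : ℂ) * φ j, ?_, ?_, ?_⟩
  · apply IsIntegral.sum
    intro j _
    apply IsIntegral.mul _ (hφi j)
    have := isIntegral_algebraMap (R := ℤ) (A := ℂ) (x := σ j)
    simpa using this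
  · rw [Finset.mul_sum, Finset.sum_div]
    apply memLocalRing_sum
    intro j _
    have e1 : 4 * ((σ j : ℂ) * φ j) / (Nat.card ↥(Subgroup.centralizer ({x} : Set X)) : ℂ) =
        (σ j : ℂ) * (4 * φ j / (Nat.card ↥(Subgroup.centralizer ({x} : Set X)) : ℂ)) := by ring
    rw [e1]
    exact memLocalRing_mul (memLocalRing_intCast _) (hφl j)
  · intro χ hχ
    rw [hexp χ hχ, Finset.mul_sum]
    apply Finset.sum_congr rfl
    intro j _
    rw [hσ2 j χ hχ]
    push_cast
    ring

variable {G : Type*} [Group G] [Finite G] {N : Type*} [Group N] [Finite N]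

theorem perfect_of_T3 (hM : IsPModular 2 M) (B : Set (IrrCharacter G))
    (c : Set (IrrCharacter N)) (w : IrrCharacter G → ℤ) (w' : IrrCharacter N → ℤ)
    (hB : T3Data M B w) (hc : T3Data M c w') :
    ∃ (I : IrrCharacter N → IrrCharacter G) (ε : IrrCharacter N → ℤ),
      IsPerfectIsometry 2 M c B I ε := by
  haveI hMp := isPrime_of_isPModular hM
  obtain ⟨e, he, hec, hec', hesum⟩ := enum4 c hc.card4
  obtain ⟨e', he', heB, heB', he'sum⟩ := enum4 B hB.card4
  refine ⟨mkI e e', fun η => w (mkI e e' η) * w' η, bijOn_mkI he he' hec' heB hec heB', ?_, ?_⟩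
  · intro η hη
    obtain ⟨i, rfl⟩ := hec' η hη
    simp only
    rw [mkI_apply e' he]
    rcases hB.sign _ (heB i) with h1 | h1 <;> rcases hc.sign _ (hec i) with h2 | h2 <;>
      rw [h1, h2] <;> norm_num
  intro x y
  have hμ : signedBijectionKernel c (mkI e e') (fun η => w (mkI e e' η) * w' η) x y =
      ∑ i, ((w (e' i) : ℤ) : ℂ) * ((w' (e i) : ℤ) : ℂ) *
        ((e' i : IrrCharacter G) : G → ℂ) x * ((e i : IrrCharacter N) : N → ℂ) y := by
    unfold signedBijectionKernel
    rw [hesum]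
    apply Finset.sum_congr rfl
    intro i _
    beta_reduce
    rw [mkI_apply e' he]
    push_cast
    ring
  rw [hμ]
  have h0 : ∀ z : ℂ, MemLocalRing M (0 / z) := by
    intro z
    rw [zero_div]
    exact memLocalRing_zero
  have hw2 : ∀ i, ((w (e' i) : ℤ) : ℂ) * ((w (e' i) : ℤ) : ℂ) = 1 :=
    fun i => sq_of_sign (hB.sign _ (heB i))
  have hw2' : ∀ i, ((w' (e i) : ℤ) : ℂ) * ((w' (e i) : ℤ) : ℂ) = 1 :=
    fun i => sq_of_sign (hc.sign _ (hec i))
  -- the column relations
  have hcolB : ∀ t : G, ¬ 2 ∣ orderOf t →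
      ∑ i, ((w (e' i) : ℤ) : ℂ) * ((e' i : IrrCharacter G) : G → ℂ) t = 0 := by
    intro t ht
    have := hB.col t ht
    rw [he'sum] at this
    exact this
  have hcolc : ∀ t : N, ¬ 2 ∣ orderOf t →
      ∑ i, ((w' (e i) : ℤ) : ℂ) * ((e i : IrrCharacter N) : N → ℂ) t = 0 := by
    intro t ht
    have := hc.col t ht
    rw [hesum] at this
    exact this
  by_cases hx : 2 ∣ orderOf x <;> by_cases hy : 2 ∣ orderOf y
  · -- both singular
    obtain ⟨Φ, hΦi, hΦl, hΦ⟩ := collapse_of_T3 hB x hx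
    obtain ⟨Φ', hΦi', hΦl', hΦ'⟩ := collapse_of_T3 hc y hy
    have key : ∑ i, ((w (e' i) : ℤ) : ℂ) * ((w' (e i) : ℤ) : ℂ) *
        ((e' i : IrrCharacter G) : G → ℂ) x * ((e i : IrrCharacter N) : N → ℂ) y = 4 * Φ * Φ' := by
      have h1 : ∀ i, ((w (e' i) : ℤ) : ℂ) * ((w' (e i) : ℤ) : ℂ) *
          ((e' i : IrrCharacter G) : G → ℂ) x * ((e i : IrrCharacter N) : N → ℂ) y = Φ * Φ' := by
        intro i
        rw [hΦ _ (heB i), hΦ' _ (hec i)]
        calc ((w (e' i) : ℤ) : ℂ) * ((w' (e i) : ℤ) : ℂ) * (((w (e' i) : ℤ) : ℂ) * Φ) *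
              (((w' (e i) : ℤ) : ℂ) * Φ')
            = (((w (e' i) : ℤ) : ℂ) * ((w (e' i) : ℤ) : ℂ)) *
              (((w' (e i) : ℤ) : ℂ) * ((w' (e i) : ℤ) : ℂ)) * (Φ * Φ') := by ring
          _ = Φ * Φ' := by rw [hw2, hw2', one_mul, one_mul]
      simp only [h1]
      rw [Finset.sum_const, Finset.card_univ, Fintype.card_fin, nsmul_eq_mul]
      push_cast
      ring
    rw [key]
    refine ⟨?_, ?_, Or.inl ?_⟩
    · have e1 : 4 * Φ * Φ' / (Nat.card ↥(Subgroup.centralizer ({x} : Set G)) : ℂ) =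
          Φ' * (4 * Φ / (Nat.card ↥(Subgroup.centralizer ({x} : Set G)) : ℂ)) := by ring
      rw [e1]
      exact memLocalRing_mul (memLocalRing_of_integral hΦi') hΦl
    · have e1 : 4 * Φ * Φ' / (Nat.card ↥(Subgroup.centralizer ({y} : Set N)) : ℂ) =
          Φ * (4 * Φ' / (Nat.card ↥(Subgroup.centralizer ({y} : Set N)) : ℂ)) := by ring
      rw [e1]
      exact memLocalRing_mul (memLocalRing_of_integral hΦi) hΦl'
    · unfold IsPRegular
      exact ⟨fun h => absurd hx h, fun h => absurd hy h⟩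
  · -- `x` singular, `y` regular
    obtain ⟨Φ, hΦi, hΦl, hΦ⟩ := collapse_of_T3 hB x hx
    have hzero : ∑ i, ((w (e' i) : ℤ) : ℂ) * ((w' (e i) : ℤ) : ℂ) *
        ((e' i : IrrCharacter G) : G → ℂ) x * ((e i : IrrCharacter N) : N → ℂ) y = 0 := by
      have h1 : ∀ i, ((w (e' i) : ℤ) : ℂ) * ((w' (e i) : ℤ) : ℂ) *
          ((e' i : IrrCharacter G) : G → ℂ) x * ((e i : IrrCharacter N) : N → ℂ) y =
          Φ * (((w' (e i) : ℤ) : ℂ) * ((e i : IrrCharacter N) : N → ℂ) y) := by
        intro i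
        rw [hΦ _ (heB i)]
        calc ((w (e' i) : ℤ) : ℂ) * ((w' (e i) : ℤ) : ℂ) * (((w (e' i) : ℤ) : ℂ) * Φ) *
              ((e i : IrrCharacter N) : N → ℂ) y
            = (((w (e' i) : ℤ) : ℂ) * ((w (e' i) : ℤ) : ℂ)) *
              (Φ * (((w' (e i) : ℤ) : ℂ) * ((e i : IrrCharacter N) : N → ℂ) y)) := by ring
          _ = _ := by rw [hw2, one_mul]
      simp only [h1]
      rw [← Finset.mul_sum, hcolc y hy, mul_zero]
    rw [hzero]
    exact ⟨h0 _, h0 _, Or.inr rfl⟩
  · -- `x` regular, `y` singular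
    obtain ⟨Φ', hΦi', hΦl', hΦ'⟩ := collapse_of_T3 hc y hy
    have hzero : ∑ i, ((w (e' i) : ℤ) : ℂ) * ((w' (e i) : ℤ) : ℂ) *
        ((e' i : IrrCharacter G) : G → ℂ) x * ((e i : IrrCharacter N) : N → ℂ) y = 0 := by
      have h1 : ∀ i, ((w (e' i) : ℤ) : ℂ) * ((w' (e i) : ℤ) : ℂ) *
          ((e' i : IrrCharacter G) : G → ℂ) x * ((e i : IrrCharacter N) : N → ℂ) y =
          Φ' * (((w (e' i) : ℤ) : ℂ) * ((e' i : IrrCharacter G) : G → ℂ) x) := by
        intro i
        rw [hΦ' _ (hec i)]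
        calc ((w (e' i) : ℤ) : ℂ) * ((w' (e i) : ℤ) : ℂ) * ((e' i : IrrCharacter G) : G → ℂ) x *
              (((w' (e i) : ℤ) : ℂ) * Φ')
            = (((w' (e i) : ℤ) : ℂ) * ((w' (e i) : ℤ) : ℂ)) *
              (Φ' * (((w (e' i) : ℤ) : ℂ) * ((e' i : IrrCharacter G) : G → ℂ) x)) := by ring
          _ = _ := by rw [hw2', one_mul]
      simp only [h1]
      rw [← Finset.mul_sum, hcolB x hx, mul_zero]
    rw [hzero]
    exact ⟨h0 _, h0 _, Or.inr rfl⟩
  · -- both regular
    refine ⟨?_, ?_, Or.inl ?_⟩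
    · -- use `reg` for `B`
      set a : IrrCharacter G → ℂ := fun χ => ∑ i, if e' i = χ then
        ((w (e' i) : ℤ) : ℂ) * ((w' (e i) : ℤ) : ℂ) * ((e i : IrrCharacter N) : N → ℂ) y else 0
        with ha
      have hak : ∀ k, a (e' k) = ((w (e' k) : ℤ) : ℂ) * ((w' (e k) : ℤ) : ℂ) *
          ((e k : IrrCharacter N) : N → ℂ) y := by
        intro k
        rw [ha]
        simp only
        rw [Finset.sum_eq_single k]
        · rw [if_pos rfl]
        · intro i _ hik
          rw [if_neg (fun h => hik (he' h))]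
        · intro h
          exact absurd (Finset.mem_univ k) h
      have haint : ∀ χ, IsIntegral ℤ (a χ) := by
        intro χ
        rw [ha]
        apply IsIntegral.sum
        intro i _
        split_ifs
        · apply IsIntegral.mul (IsIntegral.mul _ _) (isIntegral_apply _ _)
          · have := isIntegral_algebraMap (R := ℤ) (A := ℂ) (x := w (e' i))
            simpa using this
          · have := isIntegral_algebraMap (R := ℤ) (A := ℂ) (x := w' (e i))
            simpa using this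
        · exact isIntegral_zero
      have hsum0 : ∑ᶠ χ ∈ B, a χ * (w χ : ℂ) = 0 := by
        rw [he'sum]
        simp only [hak]
        rw [← hcolc y hy]
        apply Finset.sum_congr rfl
        intro k _
        calc ((w (e' k) : ℤ) : ℂ) * ((w' (e k) : ℤ) : ℂ) * ((e k : IrrCharacter N) : N → ℂ) y *
              ((w (e' k) : ℤ) : ℂ)
            = (((w (e' k) : ℤ) : ℂ) * ((w (e' k) : ℤ) : ℂ)) *
              (((w' (e k) : ℤ) : ℂ) * ((e k : IrrCharacter N) : N → ℂ) y) := by ring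
          _ = _ := by rw [hw2, one_mul]
      have := hB.reg a haint hsum0 x hx
      rw [he'sum] at this
      simp only [hak] at this
      convert this using 2
      apply Finset.sum_congr rfl
      intro i _
      ring
    · set a : IrrCharacter N → ℂ := fun η => ∑ i, if e i = η then
        ((w (e' i) : ℤ) : ℂ) * ((w' (e i) : ℤ) : ℂ) * ((e' i : IrrCharacter G) : G → ℂ) x else 0
        with ha
      have hak : ∀ k, a (e k) = ((w (e' k) : ℤ) : ℂ) * ((w' (e k) : ℤ) : ℂ) *
          ((e' k : IrrCharacter G) : G → ℂ) x := by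
        intro k
        rw [ha]
        simp only
        rw [Finset.sum_eq_single k]
        · rw [if_pos rfl]
        · intro i _ hik
          rw [if_neg (fun h => hik (he h))]
        · intro h
          exact absurd (Finset.mem_univ k) h
      have haint : ∀ η, IsIntegral ℤ (a η) := by
        intro η
        rw [ha]
        apply IsIntegral.sum
        intro i _
        split_ifs
        · apply IsIntegral.mul (IsIntegral.mul _ _) (isIntegral_apply _ _)
          · have := isIntegral_algebraMap (R := ℤ) (A := ℂ) (x := w (e' i))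
            simpa using this
          · have := isIntegral_algebraMap (R := ℤ) (A := ℂ) (x := w' (e i))
            simpa using this
        · exact isIntegral_zero
      have hsum0 : ∑ᶠ η ∈ c, a η * (w' η : ℂ) = 0 := by
        rw [hesum]
        simp only [hak]
        rw [← hcolB x hx]
        apply Finset.sum_congr rfl
        intro k _
        calc ((w (e' k) : ℤ) : ℂ) * ((w' (e k) : ℤ) : ℂ) * ((e' k : IrrCharacter G) : G → ℂ) x *
              ((w' (e k) : ℤ) : ℂ)
            = (((w' (e k) : ℤ) : ℂ) * ((w' (e k) : ℤ) : ℂ)) *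
              (((w (e' k) : ℤ) : ℂ) * ((e' k : IrrCharacter G) : G → ℂ) x) := by ring
          _ = _ := by rw [hw2', one_mul]
      have := hc.reg a haint hsum0 y hy
      rw [hesum] at this
      simp only [hak] at this
      exact this
    · unfold IsPRegular
      exact ⟨fun _ => hy, fun _ => hx⟩

end Cfsg.Agent.Lib.Helper4.Perf
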