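import Mathlib
import Cfsg.Agent.Lib.Helper4.PerfAbs1
import Cfsg.Agent.Lib.Helper8.ProjInt3
import Cfsg.Agent.Lib.helper3.Irr9
import Cfsg.Agent.S4675

set_option autoImplicit false
set_option linter.style.haveILetI false
set_option linter.unusedSectionVars false
set_option maxHeartbeats 1000000

/-! Column data of type `l = 1` from the singular expansions (helper4). -/

namespace Cfsg.Agent.Lib.Helper4.Perf

open Cfsg
open Classical

variable {M : Ideal AlgInt}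

/-- an enumeration of a four-element set, for sums in any commutative monoid -/
theorem enum4g {α : Type*} (c : Set α) (hc : Nat.card c = 4) :
    ∃ e : Fin 4 → α, Function.Injective e ∧ (∀ i, e i ∈ c) ∧ (∀ η ∈ c, ∃ i, e i = η) ∧
      ∀ (β : Type) [AddCommMonoid β] (f : α → β), ∑ᶠ η ∈ c, f η = ∑ i, f (e i) := by
  haveI : Finite ↥c := Nat.finite_of_card_ne_zero (by rw [hc]; norm_num)
  let E : ↥c ≃ Fin 4 := Finite.equivFinOfCardEq hc
  refine ⟨fun i => ((E.symm i : ↥c) : α), ?_, ?_, ?_, ?_⟩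
  · intro i j hij
    exact E.symm.injective (Subtype.ext hij)
  · intro i
    exact (E.symm i).2
  · intro η hη
    refine ⟨E ⟨η, hη⟩, ?_⟩
    simp
  · intro β _ f
    rw [← finsum_set_coe_eq_finsum_mem c, ← finsum_comp_equiv E.symm, finsum_eq_sum_of_fintype]

theorem t1Data_of {X : Type*} [Group X] [Finite X] (hM : IsPModular 2 M)
    (𝔅 : Set (IrrCharacter X)) (h𝔅 : IsPBlock M 𝔅) (D : Subgroup X)
    (hD : IsDefectGroup 2 M 𝔅 D) (hD4 : Nat.card D = 4) (h4 : Nat.card 𝔅 = 4)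
    (hl : blockRank 2 𝔅 = 1) (hsing : ∀ x : X, 2 ∣ orderOf x → SingExp M 𝔅 x) :
    T1Data M 𝔅 := by
  haveI : Fintype X := Fintype.ofFinite X
  haveI : Fact (Nat.Prime 2) := ⟨Nat.prime_two⟩
  obtain ⟨φ, d, -, hχ, hsum⟩ := Cfsg.Agent.S4675.result 2 M hM 𝔅 h𝔅 D hD hl
  obtain ⟨e, he, hec, hec', hesum⟩ := enum4g 𝔅 h4
  have hreg1 : IsPRegular 2 (1 : X) := by
    unfold IsPRegular
    rw [orderOf_one]
    norm_num
  -- all `d χ = 1`
  have hpos : ∀ i, 1 ≤ d (e i) := by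
    intro i
    rcases Nat.eq_zero_or_pos (d (e i)) with h0 | h0
    · exfalso
      have h1 := hχ (e i) (hec i) 1 hreg1
      rw [h0] at h1
      simp only [Nat.cast_zero, zero_mul] at h1
      exact Cfsg.Agent.Lib.helper3.Irr.apply_one_ne_zero (e i).2 h1
    · exact h0
  have hsum4 : ∑ i, d (e i) ^ 2 = 4 := by
    rw [← hesum ℕ (fun χ => d χ ^ 2), hsum, hD4]
  have hd1 : ∀ i, d (e i) = 1 := by
    have hsq : ∀ i, 1 ≤ d (e i) ^ 2 := fun i => Nat.one_le_pow _ _ (hpos i)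
    rw [Fin.sum_univ_four] at hsum4
    have h0 := hsq 0
    have h1 := hsq 1
    have h2 := hsq 2
    have h3 := hsq 3
    have e0 : d (e 0) ^ 2 = 1 := by omega
    have e1 : d (e 1) ^ 2 = 1 := by omega
    have e2 : d (e 2) ^ 2 = 1 := by omega
    have e3 : d (e 3) ^ 2 = 1 := by omega
    intro i
    have : d (e i) ^ 2 = 1 := by
      fin_cases i
      exacts [e0, e1, e2, e3]
    exact (Nat.pow_eq_one.1 this).resolve_right (by norm_num)
  have hval : ∀ χ ∈ 𝔅, ∀ t : X, ¬ 2 ∣ orderOf t → (χ : X → ℂ) t = φ t := by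
    intro χ hχ𝔅 t ht
    obtain ⟨i, rfl⟩ := hec' χ hχ𝔅
    rw [hχ (e i) (hec i) t ht, hd1 i]
    simp
  have heq : ∀ χ ∈ 𝔅, ∀ χ' ∈ 𝔅, ∀ t : X, ¬ 2 ∣ orderOf t →
      (χ : X → ℂ) t = (χ' : X → ℂ) t := by
    intro χ hχ𝔅 χ' hχ'𝔅 t ht
    rw [hval χ hχ𝔅 t ht, hval χ' hχ'𝔅 t ht]
  have hφ1 : φ 1 ≠ 0 := by
    rw [← hval (e 0) (hec 0) 1 hreg1]
    exact Cfsg.Agent.Lib.helper3.Irr.apply_one_ne_zero (e 0).2
  refine ⟨⟨h4, hsing⟩, heq, ?_⟩
  intro χ hχ𝔅 t ht
  -- the sum of the block vanishes on singular elements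
  have hvan : ∀ g : X, 2 ∣ orderOf g →
      ∑ᶠ θ ∈ 𝔅, (fun _ : IrrCharacter X => (1 : ℂ)) θ * (θ : X → ℂ) g = 0 := by
    intro g hg
    obtain ⟨n, dd, ph, -, hcol, -, -, hexp⟩ := hsing g hg
    rw [hesum ℂ]
    have hcol0 : ∀ j, ∑ i, (dd j (e i) : ℂ) = 0 := by
      intro j
      have h1 := hcol j 1 hreg1
      rw [hesum ℂ] at h1
      have h2 : ∑ i, (dd j (e i) : ℂ) * ((e i : IrrCharacter X) : X → ℂ) 1 =
          (∑ i, (dd j (e i) : ℂ)) * φ 1 := by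
        rw [Finset.sum_mul]
        refine Finset.sum_congr rfl fun i _ => ?_
        rw [hval (e i) (hec i) 1 hreg1]
      rw [h2] at h1
      rcases mul_eq_zero.1 h1 with h | h
      · exact h
      · exact absurd h hφ1
    calc ∑ i, (1 : ℂ) * ((e i : IrrCharacter X) : X → ℂ) g
        = ∑ i, ∑ j, (dd j (e i) : ℂ) * ph j := by
          refine Finset.sum_congr rfl fun i _ => ?_
          rw [one_mul, hexp (e i) (hec i)]
      _ = ∑ j, (∑ i, (dd j (e i) : ℂ)) * ph j := by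
          rw [Finset.sum_comm]
          refine Finset.sum_congr rfl fun j _ => ?_
          rw [Finset.sum_mul]
      _ = 0 := by
          refine Finset.sum_eq_zero fun j _ => ?_
          rw [hcol0 j, zero_mul]
  have hmem := Cfsg.Agent.Lib.Helper8.ProjInt.div_card_centralizer_mem_finsum 2 hM 𝔅
    (fun _ => (1 : ℂ)) (fun _ _ => isIntegral_one) hvan t
  have h4χ : ∑ᶠ θ ∈ 𝔅, (fun _ : IrrCharacter X => (1 : ℂ)) θ * (θ : X → ℂ) t =
      4 * (χ : X → ℂ) t := by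
    rw [hesum ℂ, Fin.sum_univ_four]
    rw [heq (e 0) (hec 0) χ hχ𝔅 t ht, heq (e 1) (hec 1) χ hχ𝔅 t ht,
      heq (e 2) (hec 2) χ hχ𝔅 t ht, heq (e 3) (hec 3) χ hχ𝔅 t ht]
    ring
  rw [h4χ] at hmem
  exact hmem

end Cfsg.Agent.Lib.Helper4.Perf
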