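import Mathlib
import Cfsg.Agent.Lib.Helper4.PerfData1

set_option autoImplicit false
set_option linter.style.haveILetI false
set_option linter.unusedSectionVars false
set_option maxHeartbeats 1000000

/-! Column data of type `l = 3` from the singular expansions (helper4). -/

namespace Cfsg.Agent.Lib.Helper4.Perf

open Cfsg
open Classical

variable {M : Ideal AlgInt}

/-- the vector of the `2`-regular parts -/
noncomputable def regVec {X : Type*} [Group X] (e : Fin 4 → IrrCharacter X) : Fin 4 → (X → ℂ) :=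
  fun i => pRegularPart 2 ((e i : IrrCharacter X) : X → ℂ)

theorem finrank_ker_regVec {X : Type*} [Group X] [Finite X] (𝔅 : Set (IrrCharacter X))
    (e : Fin 4 → IrrCharacter X) (hec : ∀ i, e i ∈ 𝔅) (hec' : ∀ η ∈ 𝔅, ∃ i, e i = η)
    (hl : blockRank 2 𝔅 = 3) :
    Module.finrank ℂ (LinearMap.ker (Fintype.linearCombination ℂ (regVec e))) = 1 := by
  have himg : (fun χ : IrrCharacter X => pRegularPart 2 (χ : X → ℂ)) '' 𝔅 =
      Set.range (regVec e) := by
    ext f
    constructor
    · rintro ⟨χ, hχ, rfl⟩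
      obtain ⟨i, rfl⟩ := hec' χ hχ
      exact ⟨i, rfl⟩
    · rintro ⟨i, rfl⟩
      exact ⟨e i, hec i, rfl⟩
  have hrange : Module.finrank ℂ (LinearMap.range (Fintype.linearCombination ℂ (regVec e))) = 3 := by
    rw [Fintype.range_linearCombination, ← himg]
    exact hl
  have h := LinearMap.finrank_range_add_finrank_ker (Fintype.linearCombination ℂ (regVec e))
  rw [hrange] at h
  have h4 : Module.finrank ℂ (Fin 4 → ℂ) = 4 := by simp
  rw [h4] at h
  omega

/-- a column gives a kernel vector -/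
theorem col_mem_ker {X : Type*} [Group X] [Finite X] (𝔅 : Set (IrrCharacter X))
    (e : Fin 4 → IrrCharacter X)
    (hesum : ∀ f : IrrCharacter X → ℂ, ∑ᶠ η ∈ 𝔅, f η = ∑ i, f (e i))
    (d : IrrCharacter X → ℤ) (hd : IsCol 2 𝔅 d) :
    (fun i => (d (e i) : ℂ)) ∈ LinearMap.ker (Fintype.linearCombination ℂ (regVec e)) := by
  rw [LinearMap.mem_ker, Fintype.linearCombination_apply]
  funext t
  rw [Finset.sum_apply]
  simp only [Pi.smul_apply, smul_eq_mul, Pi.zero_apply, regVec, pRegularPart]
  by_cases ht : IsPRegular 2 t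
  · simp only [if_pos ht]
    have := hd t ht
    rw [hesum] at this
    exact this
  · simp only [if_neg ht, mul_zero, Finset.sum_const_zero]

theorem t3Data_of {X : Type*} [Group X] [Finite X] (hM : IsPModular 2 M)
    (𝔅 : Set (IrrCharacter X)) (h4 : Nat.card 𝔅 = 4)
    (hl : blockRank 2 𝔅 = 3) (hsing : ∀ x : X, 2 ∣ orderOf x → SingExp M 𝔅 x)
    (hcol : ∃ d : IrrCharacter X → ℤ, IsSign 𝔅 d ∧ IsCol 2 𝔅 d) :
    ∃ w : IrrCharacter X → ℤ, T3Data M 𝔅 w := by
  haveI : Fact (Nat.Prime 2) := ⟨Nat.prime_two⟩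
  obtain ⟨w, hws, hwc⟩ := hcol
  obtain ⟨e, he, hec, hec', hesum⟩ := enum4g 𝔅 h4
  have hker := finrank_ker_regVec 𝔅 e hec hec' hl
  -- uniqueness
  have huniq : ∀ d : IrrCharacter X → ℤ, IsSign 𝔅 d → IsCol 2 𝔅 d →
      (∀ χ ∈ 𝔅, d χ = w χ) ∨ (∀ χ ∈ 𝔅, d χ = - w χ) := by
    intro d hds hdc
    let vw : LinearMap.ker (Fintype.linearCombination ℂ (regVec e)) :=
      ⟨fun i => (w (e i) : ℂ), col_mem_ker 𝔅 e (hesum ℂ) w hwc⟩
    let vd : LinearMap.ker (Fintype.linearCombination ℂ (regVec e)) :=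
      ⟨fun i => (d (e i) : ℂ), col_mem_ker 𝔅 e (hesum ℂ) d hdc⟩
    have hw0 : (w (e 0) : ℂ) ≠ 0 := by
      rcases hws (e 0) (hec 0) with h | h <;> rw [h] <;> norm_num
    have hvw : vw ≠ 0 := by
      intro h
      have h1 := congrArg (fun v : LinearMap.ker (Fintype.linearCombination ℂ (regVec e)) =>
        (v : Fin 4 → ℂ) 0) h
      exact hw0 h1
    obtain ⟨c, hc⟩ := (finrank_eq_one_iff_of_nonzero' vw hvw).1 hker vd
    have hci : ∀ i, c * (w (e i) : ℂ) = (d (e i) : ℂ) := by
      intro i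
      have h1 := congrArg (fun v : LinearMap.ker (Fintype.linearCombination ℂ (regVec e)) =>
        (v : Fin 4 → ℂ) i) hc
      exact h1
    have hc1 : c = 1 ∨ c = -1 := by
      have h0 := hci 0
      rcases hws (e 0) (hec 0) with h | h <;> rcases hds (e 0) (hec 0) with h' | h' <;>
        rw [h, h'] at h0 <;> push_cast at h0
      · left; linear_combination h0
      · right; linear_combination h0
      · right; linear_combination -h0
      · left; linear_combination -h0
    rcases hc1 with rfl | rfl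
    · left
      intro χ hχ
      obtain ⟨i, rfl⟩ := hec' χ hχ
      have := hci i
      rw [one_mul] at this
      exact_mod_cast this.symm
    · right
      intro χ hχ
      obtain ⟨i, rfl⟩ := hec' χ hχ
      have := hci i
      have h2 : ((d (e i) : ℤ) : ℂ) = ((- w (e i) : ℤ) : ℂ) := by
        push_cast
        rw [← this]
        ring
      exact_mod_cast h2
  refine ⟨w, ⟨h4, hsing⟩, hws, hwc, huniq, ?_⟩
  intro a ha haw t ht
  have hvan : ∀ g : X, 2 ∣ orderOf g → ∑ᶠ θ ∈ 𝔅, a θ * (θ : X → ℂ) g = 0 := by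
    intro g hg
    obtain ⟨n, dd, ph, hsign, hcolj, -, -, hexp⟩ := hsing g hg
    rw [hesum ℂ]
    rw [hesum ℂ] at haw
    have hj : ∀ j, ∑ i, a (e i) * (dd j (e i) : ℂ) = 0 := by
      intro j
      rcases huniq (dd j) (hsign j) (hcolj j) with h | h
      · rw [← haw]
        refine Finset.sum_congr rfl fun i _ => ?_
        rw [h (e i) (hec i)]
      · have : ∑ i, a (e i) * (dd j (e i) : ℂ) = - ∑ i, a (e i) * (w (e i) : ℂ) := by
          rw [← Finset.sum_neg_distrib]
          refine Finset.sum_congr rfl fun i _ => ?_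
          rw [h (e i) (hec i)]
          push_cast
          ring
        rw [this, haw, neg_zero]
    calc ∑ i, a (e i) * ((e i : IrrCharacter X) : X → ℂ) g
        = ∑ i, ∑ j, a (e i) * (dd j (e i) : ℂ) * ph j := by
          refine Finset.sum_congr rfl fun i _ => ?_
          rw [hexp (e i) (hec i), Finset.mul_sum]
          refine Finset.sum_congr rfl fun j _ => ?_
          ring
      _ = ∑ j, (∑ i, a (e i) * (dd j (e i) : ℂ)) * ph j := by
          rw [Finset.sum_comm]
          refine Finset.sum_congr rfl fun j _ => ?_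
          rw [Finset.sum_mul]
      _ = 0 := by
          refine Finset.sum_eq_zero fun j _ => ?_
          rw [hj j, zero_mul]
  exact Cfsg.Agent.Lib.Helper8.ProjInt.div_card_centralizer_mem_finsum 2 hM 𝔅 a
    (fun θ _ => ha θ) hvan t

end Cfsg.Agent.Lib.Helper4.Perf
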