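import Mathlib
import Cfsg.Agent.Lib.Helper4.PerfData3
import Cfsg.Agent.Lib.Helper4.PerfAbs3
import Cfsg.Agent.Lib.Helper4.PerfAbs4

set_option autoImplicit false
set_option linter.style.haveILetI false
set_option linter.unusedSectionVars false
set_option maxHeartbeats 1000000

/-! Assembly of the perfect isometry for Klein four defect groups from the pieces (helper4). -/

namespace Cfsg.Agent.Lib.Helper4.Perf

open Cfsg
open Classical

universe u

variable {M : Ideal AlgInt}

/-- the shape of the column piece (P3) -/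
def ColumnsStmt (M : Ideal AlgInt) : Prop :=
  ∀ {X : Type u} [Group X] [Finite X] (𝔅 : Set (IrrCharacter X)), IsPBlock M 𝔅 →
    ∀ D : Subgroup X, IsDefectGroup 2 M 𝔅 D → IsKleinFour D → Nat.card 𝔅 = 4 →
    (∀ x : X, 2 ∣ orderOf x → SingExp M 𝔅 x) ∧
      ∃ d : IrrCharacter X → ℤ, IsSign 𝔅 d ∧ IsCol 2 𝔅 d

theorem isKleinFour_subgroupOf {G : Type*} [Group G] (P N : Subgroup G) (hPN : P ≤ N)
    (hV : IsKleinFour P) : IsKleinFour (P.subgroupOf N) := by
  let j : P.subgroupOf N ≃* P := Subgroup.subgroupOfEquivOfLe hPN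
  refine ⟨?_, ?_⟩
  · rw [Nat.card_congr j.toEquiv]
    exact hV.card_four
  · rw [Monoid.exponent_eq_of_mulEquiv j]
    exact hV.exponent_two

theorem perfect_of_pieces {G : Type u} [Group G] [Finite G] (hM : IsPModular 2 M)
    (hP3 : ColumnsStmt.{u} M)
    (B : Set (IrrCharacter G)) (hB : IsPBlock M B) (P : Subgroup G)
    (hPD : IsDefectGroup 2 M B P) (hV : IsKleinFour P)
    (c : Set (IrrCharacter (Subgroup.normalizer (P : Set G))))
    (hcD : IsDefectGroup 2 M c (P.subgroupOf (Subgroup.normalizer (P : Set G))))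
    (hc : IsInducedBlock M (Subgroup.normalizer (P : Set G)) c B)
    (hP4 : Nat.card B = 4 ∧ Nat.card c = 4 ∧ blockRank 2 c = blockRank 2 B ∧
      (blockRank 2 B = 1 ∨ blockRank 2 B = 3)) :
    ∃ (I : IrrCharacter (Subgroup.normalizer (P : Set G)) → IrrCharacter G)
      (ε : IrrCharacter (Subgroup.normalizer (P : Set G)) → ℤ),
      IsPerfectIsometry 2 M c B I ε := by
  obtain ⟨hB4, hc4, hrk, hrkB⟩ := hP4
  have hV' : IsKleinFour (P.subgroupOf (Subgroup.normalizer (P : Set G))) :=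
    isKleinFour_subgroupOf P _ Subgroup.le_normalizer hV
  obtain ⟨hsB, hcolB⟩ := hP3 B hB P hPD hV hB4
  obtain ⟨hsc, hcolc⟩ := hP3 c hc.1 _ hcD hV' hc4
  rcases hrkB with h1 | h3
  · exact perfect_of_T1 hM B c
      (t1Data_of hM B hB P hPD hV.card_four hB4 h1 hsB)
      (t1Data_of hM c hc.1 _ hcD hV'.card_four hc4 (hrk.trans h1) hsc)
  · obtain ⟨w, hw⟩ := t3Data_of hM B hB4 h3 hsB hcolB
    obtain ⟨w', hw'⟩ := t3Data_of hM c hc4 (hrk.trans h3) hsc hcolc
    exact perfect_of_T3 hM B c w w' hw hw'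

end Cfsg.Agent.Lib.Helper4.Perf
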