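import Mathlib
import Cfsg.Agent.Lib.Helper4.Sylow

set_option autoImplicit false

/-! Group theoretic lemmas around perfect groups (helper4). -/

namespace Cfsg.Agent.Lib.Helper4.Perfect

open scoped commutatorElement

/-- a quotient of a perfect group is perfect -/
theorem commutator_quotient_eq_top {G : Type*} [Group G] (K : Subgroup G) [K.Normal]
    (h : commutator G = ⊤) : commutator (G ⧸ K) = ⊤ := by
  rw [commutator_def] at h ⊢
  have hs : Function.Surjective (QuotientGroup.mk' K) := QuotientGroup.mk'_surjective K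
  have h1 := Subgroup.map_commutator (⊤ : Subgroup G) ⊤ (QuotientGroup.mk' K)
  rw [Subgroup.map_top_of_surjective _ hs, h, Subgroup.map_top_of_surjective _ hs] at h1
  exact h1.symm

/-- a group of order `p * d` with `0 < d < p` is not perfect -/
theorem not_perfect_of_card {H : Type*} [Group H] [Finite H] (p d : ℕ) (hp : p.Prime)
    (hcard : Nat.card H = p * d) (hd : d < p) (hd0 : 0 < d) : commutator H ≠ ⊤ := by
  haveI : Fact p.Prime := ⟨hp⟩
  intro hperf
  have hpd : ¬ p ∣ d := Nat.not_dvd_of_pos_of_lt hd0 hd
  have hcard' : Nat.card H = p ^ 1 * d := by rw [pow_one]; exact hcard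
  obtain ⟨P⟩ : Nonempty (Sylow p H) := inferInstance
  have hPcard : Nat.card P = p := by
    simpa using Cfsg.Agent.Lib.Helper4.Sylow.card_sylow_of_card_eq hcard' hpd P
  have hn : Nat.card (Sylow p H) = 1 := by
    have h1 : Nat.card (Sylow p H) ∣ d :=
      Cfsg.Agent.Lib.Helper4.Sylow.card_sylow_dvd_of_card_eq hcard' hpd
    have h2 : Nat.card (Sylow p H) ≡ 1 [MOD p] := card_sylow_modEq_one p H
    have h3 : Nat.card (Sylow p H) ≤ d := Nat.le_of_dvd hd0 h1
    have h4 : Nat.card (Sylow p H) < p := lt_of_le_of_lt h3 hd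
    unfold Nat.ModEq at h2
    rw [Nat.mod_eq_of_lt h4, Nat.mod_eq_of_lt hp.one_lt] at h2
    exact h2
  have hsub : Subsingleton (Sylow p H) := (Nat.card_eq_one_iff_unique.mp hn).1
  haveI hPn : (P : Subgroup H).Normal := P.normal_of_subsingleton
  haveI : Fact (Nat.card (P : Subgroup H)).Prime := ⟨by rw [show Nat.card (P : Subgroup H) = Nat.card P from rfl, hPcard]; exact hp⟩
  haveI hcyc : IsCyclic (P : Subgroup H) := isCyclic_of_prime_card rfl
  -- everything centralizes `P`
  have hcent : ∀ g : H, ∀ x ∈ (P : Subgroup H), g * x * g⁻¹ = x := by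
    intro g x hx
    let φ : H →* (ZMod (Nat.card (P : Subgroup H)))ˣ :=
      (IsCyclic.mulAutMulEquiv (P : Subgroup H)).toMonoidHom.comp MulAut.conjNormal
    have hker : commutator H ≤ φ.ker := Abelianization.commutator_subset_ker φ
    rw [hperf] at hker
    have hg : φ g = 1 := MonoidHom.mem_ker.mp (hker (Subgroup.mem_top g))
    have hg' : (MulAut.conjNormal g : MulAut (P : Subgroup H)) = 1 := by
      have : (IsCyclic.mulAutMulEquiv (P : Subgroup H)) (MulAut.conjNormal g) = 1 := hg
      exact (MulEquiv.map_eq_one_iff _).mp this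
    have := congrArg (fun f : MulAut (P : Subgroup H) => ((f ⟨x, hx⟩ : (P : Subgroup H)) : H)) hg'
    simpa [MulAut.conjNormal_apply] using this
  have hP : Subgroup.normalizer ((P : Subgroup H) : Set H) ≤
      Subgroup.centralizer ((P : Subgroup H) : Set H) := by
    intro g _
    rw [Subgroup.mem_centralizer_iff]
    intro x hx
    have := hcent g x hx
    calc x * g = (g * x * g⁻¹) * g := by rw [this]
      _ = g * x := by group
  have hcompl := MonoidHom.ker_transferSylow_isComplement' P hP
  have hidx : (MonoidHom.transferSylow P hP).ker.index = p := by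
    rw [hcompl.symm.index_eq_card]
    exact hPcard
  -- the commutator subgroup lies in the kernel of the transfer
  have hle : commutator H ≤ (MonoidHom.transferSylow P hP).ker := by
    rw [commutator_def, Subgroup.commutator_le]
    intro a _ b _
    rw [MonoidHom.mem_ker, map_commutatorElement, commutatorElement_def]
    set u := MonoidHom.transferSylow P hP a
    set v := MonoidHom.transferSylow P hP b
    have huv : u * v = v * u := by
      apply Subtype.ext
      have := hcent (u : H) (v : H) v.2
      show (u : H) * (v : H) = (v : H) * (u : H)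
      calc (u : H) * (v : H) = ((u : H) * (v : H) * (u : H)⁻¹) * (u : H) := by group
        _ = (v : H) * (u : H) := by rw [this]
    calc u * v * u⁻¹ * v⁻¹ = v * u * u⁻¹ * v⁻¹ := by rw [huv]
      _ = 1 := by group
  rw [hperf] at hle
  have : (MonoidHom.transferSylow P hP).ker = ⊤ := top_le_iff.mp hle
  rw [this, Subgroup.index_top] at hidx
  exact hp.one_lt.ne hidx

/-- a non-perfect finite group has a normal subgroup of prime index containing the commutator
subgroup -/
theorem exists_normal_prime_index {G : Type*} [Group G] [Finite G] (h : commutator G ≠ ⊤) :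
    ∃ K : Subgroup G, K.Normal ∧ commutator G ≤ K ∧ (K.index).Prime := by
  classical
  let 𝒮 : Set (Subgroup G) := {H | commutator G ≤ H ∧ H ≠ ⊤}
  obtain ⟨K, hK, hKmax⟩ := (wellFounded_gt (α := Subgroup G)).has_min 𝒮 ⟨commutator G, le_refl _, h⟩
  have hKn : K.Normal := by
    constructor
    intro n hn g
    have h1 : ⁅g, n⁆ ∈ commutator G := by
      rw [commutator_def]
      exact Subgroup.commutator_mem_commutator (Subgroup.mem_top _) (Subgroup.mem_top _)
    have h2 := K.mul_mem (hK.1 h1) hn
    rw [commutatorElement_def] at h2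
    have e : g * n * g⁻¹ * n⁻¹ * n = g * n * g⁻¹ := by group
    rwa [e] at h2
  refine ⟨K, hKn, hK.1, ?_⟩
  haveI := hKn
  have hcomm : ∀ a b : G ⧸ K, a * b = b * a := by
    intro a b
    obtain ⟨a, rfl⟩ := QuotientGroup.mk_surjective a
    obtain ⟨b, rfl⟩ := QuotientGroup.mk_surjective b
    rw [← QuotientGroup.mk_mul, ← QuotientGroup.mk_mul, QuotientGroup.eq]
    have h1 : ⁅b⁻¹, a⁻¹⁆ ∈ commutator G := by
      rw [commutator_def]
      exact Subgroup.commutator_mem_commutator (Subgroup.mem_top _) (Subgroup.mem_top _)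
    have e : (a * b)⁻¹ * (b * a) = ⁅b⁻¹, a⁻¹⁆ := by
      rw [commutatorElement_def]; group
    rw [e]
    exact hK.1 h1
  letI : CommGroup (G ⧸ K) := { (inferInstance : Group (G ⧸ K)) with mul_comm := hcomm }
  haveI : Nontrivial (G ⧸ K) := by
    rw [← not_subsingleton_iff_nontrivial]
    intro hs
    exact hK.2 (QuotientGroup.subgroup_eq_top_of_subsingleton K hs)
  haveI : IsSimpleGroup (G ⧸ K) := by
    refine ⟨fun Hb _ => ?_⟩
    set H : Subgroup G := Hb.comap (QuotientGroup.mk' K) with hH
    have hKH : K ≤ H := by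
      intro x hx
      rw [hH, Subgroup.mem_comap]
      have : (QuotientGroup.mk' K) x = 1 := (QuotientGroup.eq_one_iff x).mpr hx
      rw [this]
      exact Hb.one_mem
    have hmap : H.map (QuotientGroup.mk' K) = Hb :=
      Subgroup.map_comap_eq_self_of_surjective (QuotientGroup.mk'_surjective K) Hb
    by_cases htop : H = ⊤
    · right
      rw [← hmap, htop]
      exact Subgroup.map_top_of_surjective _ (QuotientGroup.mk'_surjective K)
    · left
      have hmem : H ∈ 𝒮 := ⟨hK.1.trans hKH, htop⟩
      have heq : H = K := by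
        by_contra hne
        exact hKmax H hmem (lt_of_le_of_ne hKH (Ne.symm hne))
      rw [← hmap, heq, eq_bot_iff]
      rintro _ ⟨x, hx, rfl⟩
      rw [Subgroup.mem_bot]
      exact (QuotientGroup.eq_one_iff x).mpr hx
  rw [Subgroup.index_eq_card]
  exact IsSimpleGroup.prime_card

end Cfsg.Agent.Lib.Helper4.Perfect
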