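import Cfsg.Agent.S0670

set_option autoImplicit false
set_option linter.unusedSectionVars false

namespace Cfsg.Agent.Lib.Helper4.PermModule

open Cfsg

variable {G : Type*} [Group G] {K : Type*} [Field K] {Ω : Type*} [Fintype Ω] [MulAction G Ω]

theorem permRep_apply (g : G) (f : Ω → K) (x : Ω) : Cfsg.permRep K G Ω g f x = f (g⁻¹ • x) := rfl

theorem mem_sumZero (f : Ω → K) :
    f ∈ (Cfsg.permSumZero K G Ω).toSubmodule ↔ ∑ x, f x = 0 := Iff.rfl

theorem one_mem_constants : (fun _ : Ω => (1 : K)) ∈ (Cfsg.permConstants K G Ω).toSubmodule :=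
  Submodule.subset_span rfl

variable (K Ω) in
/-- the dot product on functions -/
noncomputable def dot [DecidableEq Ω] : LinearMap.BilinForm K (Ω → K) :=
  Matrix.toBilin' (1 : Matrix Ω Ω K)

theorem dot_apply [DecidableEq Ω] (f h : Ω → K) : dot K Ω f h = ∑ j, f j * h j := by
  unfold dot
  rw [Matrix.toBilin'_apply']
  simp [dotProduct]

theorem dot_nondegenerate [DecidableEq Ω] : (dot K Ω).Nondegenerate := by
  unfold dot
  apply LinearMap.BilinForm.nondegenerate_toBilin'_of_det_ne_zero'
  simp

/-- the orthogonal complement of a subrepresentation -/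
noncomputable def orth [DecidableEq Ω] (W : Subrepresentation (Cfsg.permRep K G Ω)) :
    Subrepresentation (Cfsg.permRep K G Ω) where
  toSubmodule := (dot K Ω).orthogonal W.toSubmodule
  apply_mem_toSubmodule g h hh := by
    rw [LinearMap.BilinForm.mem_orthogonal_iff] at hh ⊢
    intro f hf
    have h1 := hh _ (W.apply_mem_toSubmodule g⁻¹ hf)
    rw [dot_apply] at h1 ⊢
    rw [← h1]
    rw [← Equiv.sum_comp (MulAction.toPerm g) (fun j => f j * Cfsg.permRep K G Ω g h j)]
    apply Finset.sum_congr rfl
    intro j _
    simp [permRep_apply]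

/-- a proper subrepresentation of the permutation module of a transitive action of degree `p ^ f`
in characteristic `p` lies in the sum-zero functions -/
theorem le_sumZero_of_ne_top [Finite G] {p f : ℕ} [Fact p.Prime] [CharP K p]
    [MulAction.IsPretransitive G Ω] (hf : 1 ≤ f) (hcard : Fintype.card Ω = p ^ f)
    (W : Subrepresentation (Cfsg.permRep K G Ω)) (hW : W.toSubmodule ≠ ⊤) :
    W.toSubmodule ≤ (Cfsg.permSumZero K G Ω).toSubmodule := by
  classical
  have hlt := Submodule.finrank_lt hW
  rw [Module.finrank_fintype_fun_eq_card] at hlt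
  have hne : (orth W).toSubmodule ≠ ⊥ := by
    intro h
    have h1 : Module.finrank K (orth W).toSubmodule = Fintype.card Ω - Module.finrank K W.toSubmodule := by
      show Module.finrank K ((dot K Ω).orthogonal W.toSubmodule) = _
      rw [LinearMap.BilinForm.finrank_orthogonal dot_nondegenerate,
        Module.finrank_fintype_fun_eq_card]
    rw [h, finrank_bot] at h1
    omega
  have hc := Cfsg.Agent.S0670.result hf hcard (orth W) hne
  have h1 : (fun _ : Ω => (1 : K)) ∈ (orth W).toSubmodule := hc one_mem_constants
  intro f hf'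
  rw [mem_sumZero]
  have h2 : (fun _ : Ω => (1 : K)) ∈ (dot K Ω).orthogonal W.toSubmodule := h1
  rw [LinearMap.BilinForm.mem_orthogonal_iff] at h2
  have := h2 f hf'
  rw [dot_apply] at this
  simpa using this

end Cfsg.Agent.Lib.Helper4.PermModule
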