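import Cfsg.Agent.Lib.Helper4.PermModule

set_option autoImplicit false
set_option linter.unusedSectionVars false

namespace Cfsg.Agent.Lib.Helper4.PermModule

open Cfsg

variable {G : Type*} [Group G] {K : Type*} [Field K] {Ω : Type*} [Fintype Ω] [MulAction G Ω]

/-- the orbital of the pair `(a, b)` -/
def Orb (G : Type*) [Group G] {Ω : Type*} [MulAction G Ω] (a b ξ η : Ω) : Prop :=
  ∃ g : G, g • a = ξ ∧ g • b = η

theorem orb_self (a b : Ω) : Orb G a b a b := ⟨1, one_smul _ _, one_smul _ _⟩

theorem orb_smul {a b ξ η : Ω} (g : G) : Orb G a b (g • ξ) (g • η) ↔ Orb G a b ξ η := by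
  constructor
  · rintro ⟨x, h1, h2⟩
    refine ⟨g⁻¹ * x, ?_, ?_⟩
    · rw [mul_smul, h1, inv_smul_smul]
    · rw [mul_smul, h2, inv_smul_smul]
  · rintro ⟨x, rfl, rfl⟩
    exact ⟨g * x, mul_smul _ _ _, mul_smul _ _ _⟩

open Classical in
/-- adjacency matrix of an orbital -/
noncomputable def adjM (G : Type*) [Group G] (K : Type*) [Field K] {Ω : Type*} [MulAction G Ω]
    (a b : Ω) : Matrix Ω Ω K := fun ξ η => if Orb G a b ξ η then 1 else 0

theorem adjM_smul {a b : Ω} (g : G) (ξ η : Ω) : adjM G K a b (g • ξ) (g • η) = adjM G K a b ξ η := by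
  unfold adjM
  by_cases h : Orb G a b ξ η
  · rw [if_pos h, if_pos ((orb_smul g).mpr h)]
  · rw [if_neg h, if_neg (fun h' => h ((orb_smul g).mp h'))]

theorem adjM_eq_one {a b ξ η : Ω} (h : adjM G K a b ξ η = 1) : Orb G a b ξ η := by
  unfold adjM at h
  by_contra hcon
  rw [if_neg hcon] at h
  exact zero_ne_one h

/-- adjacency operator of an orbital -/
noncomputable def adj (G : Type*) [Group G] (K : Type*) [Field K] {Ω : Type*} [Fintype Ω]
    [MulAction G Ω] (a b : Ω) : (Ω → K) →ₗ[K] (Ω → K) := Matrix.mulVecLin (adjM G K a b)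

theorem adj_apply (a b : Ω) (f : Ω → K) (ξ : Ω) :
    adj G K a b f ξ = ∑ η, adjM G K a b ξ η * f η := rfl

theorem adj_single [DecidableEq Ω] (a b η ξ : Ω) :
    adj G K a b (Pi.single η 1) ξ = adjM G K a b ξ η := by
  rw [adj_apply]
  simp [Pi.single_apply]

theorem adj_comm (a b : Ω) (g : G) (f : Ω → K) :
    adj G K a b (Cfsg.permRep K G Ω g f) = Cfsg.permRep K G Ω g (adj G K a b f) := by
  funext ξ
  rw [permRep_apply, adj_apply, adj_apply,
    ← Equiv.sum_comp (MulAction.toPerm g) (fun η => adjM G K a b ξ η * Cfsg.permRep K G Ω g f η)]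
  apply Finset.sum_congr rfl
  intro η _
  rw [MulAction.toPerm_apply, permRep_apply, inv_smul_smul]
  congr 1
  conv_lhs => rw [← smul_inv_smul g ξ]
  exact adjM_smul g _ _

/-- image of a subrepresentation under an equivariant operator -/
noncomputable def mapSub (T : (Ω → K) →ₗ[K] (Ω → K))
    (hT : ∀ (g : G) (f : Ω → K), T (Cfsg.permRep K G Ω g f) = Cfsg.permRep K G Ω g (T f))
    (W : Subrepresentation (Cfsg.permRep K G Ω)) : Subrepresentation (Cfsg.permRep K G Ω) where
  toSubmodule := W.toSubmodule.map T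
  apply_mem_toSubmodule g v hv := by
    obtain ⟨f, hf, rfl⟩ := hv
    exact ⟨Cfsg.permRep K G Ω g f, W.apply_mem_toSubmodule g hf, hT g f⟩

/-- kernel of an equivariant operator -/
noncomputable def kerSub (T : (Ω → K) →ₗ[K] (Ω → K))
    (hT : ∀ (g : G) (f : Ω → K), T (Cfsg.permRep K G Ω g f) = Cfsg.permRep K G Ω g (T f)) :
    Subrepresentation (Cfsg.permRep K G Ω) where
  toSubmodule := LinearMap.ker T
  apply_mem_toSubmodule g v hv := by
    rw [LinearMap.mem_ker] at hv ⊢
    rw [hT, hv, map_zero]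

/-- the whole module -/
noncomputable def topSub : Subrepresentation (Cfsg.permRep K G Ω) where
  toSubmodule := ⊤
  apply_mem_toSubmodule _ _ _ := trivial



theorem permRep_sub_mem_sumZero (g : G) (f : Ω → K) :
    Cfsg.permRep K G Ω g f - f ∈ (Cfsg.permSumZero K G Ω).toSubmodule := by
  rw [mem_sumZero]
  simp only [Pi.sub_apply, Finset.sum_sub_distrib]
  rw [sub_eq_zero]
  have := Equiv.sum_comp (MulAction.toPerm g⁻¹) f
  simpa [permRep_apply] using this

/-- if the action is not doubly transitive, the heart has a trivial section -/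
theorem exists_bad_pair [Finite G] {p f : ℕ} [Fact p.Prime] [CharP K p]
    [MulAction.IsPretransitive G Ω] (hf : 1 ≤ f) (hcard : Fintype.card Ω = p ^ f) {a b c d : Ω}
    (hab : a ≠ b) (hcd : c ≠ d) (hno : ¬ Orb G a b c d) :
    ∃ W W' : Subrepresentation (Cfsg.permRep K G Ω),
      (Cfsg.permConstants K G Ω).toSubmodule ≤ W.toSubmodule ∧ W.toSubmodule < W'.toSubmodule ∧
      W'.toSubmodule ≤ (Cfsg.permSumZero K G Ω).toSubmodule ∧
      ∀ g : G, ∀ v ∈ W'.toSubmodule, Cfsg.permRep K G Ω g v - v ∈ W.toSubmodule := by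
  classical
  set A := adj G K a b with hAdef
  have hperm1 : ∀ g : G, Cfsg.permRep K G Ω g (fun _ => (1 : K)) = fun _ => 1 := fun g => rfl
  set k : K := A (fun _ => 1) a with hk
  have hA1 : A (fun _ => 1) = fun _ => k := by
    funext ξ
    obtain ⟨g, hg⟩ := MulAction.exists_smul_eq G ξ a
    have h1 := adj_comm (K := K) a b g⁻¹ (fun _ => (1 : K))
    rw [hperm1] at h1
    have h2 := congrFun h1 ξ
    rw [permRep_apply, inv_inv, hg] at h2
    exact h2
  set B : (Ω → K) →ₗ[K] (Ω → K) := A - k • LinearMap.id with hBdef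
  have hBapp : ∀ (f : Ω → K) (ξ : Ω), B f ξ = A f ξ - k * f ξ := by
    intro f ξ
    simp [hBdef]
  have hBcomm : ∀ (g : G) (f : Ω → K),
      B (Cfsg.permRep K G Ω g f) = Cfsg.permRep K G Ω g (B f) := by
    intro g f
    funext ξ
    have h1 : A (Cfsg.permRep K G Ω g f) = Cfsg.permRep K G Ω g (A f) := adj_comm a b g f
    calc B (Cfsg.permRep K G Ω g f) ξ
        = A (Cfsg.permRep K G Ω g f) ξ - k * (Cfsg.permRep K G Ω g f) ξ := hBapp _ _
      _ = A f (g⁻¹ • ξ) - k * f (g⁻¹ • ξ) := by rw [h1]; rfl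
      _ = B f (g⁻¹ • ξ) := (hBapp _ _).symm
      _ = Cfsg.permRep K G Ω g (B f) ξ := rfl
  have hB1 : B (fun _ => 1) = 0 := by
    funext ξ
    rw [hBapp, hA1]
    simp
  have hMab : adjM G K a b a b = 1 := by
    unfold adjM
    rw [if_pos (orb_self a b)]
  have hBsingle : ∀ η ξ : Ω, B (Pi.single η 1) ξ =
      adjM G K a b ξ η - k * (Pi.single η (1 : K) : Ω → K) ξ := by
    intro η ξ
    rw [hBapp, hAdef, adj_single]
  have hBba : B (Pi.single b 1) a = 1 := by
    rw [hBsingle, hMab, Pi.single_apply, if_neg hab, mul_zero, sub_zero]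
  have hone_ne : (fun _ : Ω => (1 : K)) ≠ 0 := by
    intro h
    have := congrFun h a
    simp at this
  -- the kernel lies in the sum-zero functions
  have hker_le : LinearMap.ker B ≤ (Cfsg.permSumZero K G Ω).toSubmodule := by
    apply le_sumZero_of_ne_top hf hcard (kerSub B hBcomm)
    intro h
    have : Pi.single b (1 : K) ∈ LinearMap.ker B := by
      show Pi.single b (1 : K) ∈ (kerSub B hBcomm).toSubmodule
      rw [h]; trivial
    rw [LinearMap.mem_ker] at this
    have h2 := congrFun this a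
    rw [hBba] at h2
    exact one_ne_zero h2
  -- the range lies in the sum-zero functions
  have hran_le : (⊤ : Submodule K (Ω → K)).map B ≤ (Cfsg.permSumZero K G Ω).toSubmodule := by
    apply le_sumZero_of_ne_top hf hcard (mapSub B hBcomm topSub)
    intro h
    have hsurj : Function.Surjective B := by
      rw [← LinearMap.range_eq_top, ← Submodule.map_top]
      exact h
    have hinj : Function.Injective B := LinearMap.injective_iff_surjective.mpr hsurj
    apply hone_ne
    apply hinj
    rw [hB1, map_zero]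
  have hsingle_nmem : ∀ x : Ω, Pi.single x (1 : K) ∉ (Cfsg.permSumZero K G Ω).toSubmodule := by
    intro x h
    rw [mem_sumZero, Finset.sum_pi_single' x (1 : K)] at h
    simp at h
  -- the image of the sum-zero functions is not zero
  have hBS : (Cfsg.permSumZero K G Ω).toSubmodule.map B ≠ ⊥ := by
    intro h
    apply hno
    obtain ⟨g, hg⟩ := MulAction.exists_smul_eq G a c
    have hne : g⁻¹ • d ≠ a := by
      intro e
      apply hcd
      rw [← hg, ← e, smul_inv_smul]
    have hs : Pi.single b (1 : K) - Pi.single (g⁻¹ • d) (1 : K) ∈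
        (Cfsg.permSumZero K G Ω).toSubmodule := by
      rw [mem_sumZero]
      simp only [Pi.sub_apply, Finset.sum_sub_distrib]
      rw [Finset.sum_pi_single' b (1 : K), Finset.sum_pi_single' (g⁻¹ • d) (1 : K)]
      simp
    have h0 : B (Pi.single b (1 : K) - Pi.single (g⁻¹ • d) (1 : K)) = 0 := by
      have : B (Pi.single b (1 : K) - Pi.single (g⁻¹ • d) (1 : K)) ∈
          (Cfsg.permSumZero K G Ω).toSubmodule.map B := Submodule.mem_map_of_mem hs
      rw [h, Submodule.mem_bot] at this
      exact this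
    rw [map_sub] at h0
    have h1 := congrFun h0 a
    rw [Pi.sub_apply, hBba, hBsingle, Pi.single_apply, if_neg (Ne.symm hne), mul_zero, sub_zero,
      Pi.zero_apply, sub_eq_zero] at h1
    have h2 := adjM_eq_one h1.symm
    have h3 := (orb_smul g).mpr h2
    rw [hg, smul_inv_smul] at h3
    exact h3
  refine ⟨mapSub B hBcomm (Cfsg.permSumZero K G Ω), mapSub B hBcomm topSub, ?_, ?_, hran_le, ?_⟩
  · exact Cfsg.Agent.S0670.result hf hcard (mapSub B hBcomm (Cfsg.permSumZero K G Ω)) hBS
  · apply lt_of_le_of_ne (Submodule.map_mono le_top)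
    intro heq
    apply hsingle_nmem a
    have h1 : B (Pi.single a (1 : K)) ∈ (⊤ : Submodule K (Ω → K)).map B :=
      Submodule.mem_map_of_mem trivial
    have h2 : B (Pi.single a (1 : K)) ∈ (Cfsg.permSumZero K G Ω).toSubmodule.map B := by
      have : (mapSub B hBcomm (Cfsg.permSumZero K G Ω)).toSubmodule =
          (mapSub B hBcomm topSub).toSubmodule := heq
      show B (Pi.single a (1 : K)) ∈ (mapSub B hBcomm (Cfsg.permSumZero K G Ω)).toSubmodule
      rw [this]
      exact h1
    obtain ⟨s, hs, hsB⟩ := h2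
    have h3 : Pi.single a (1 : K) - s ∈ LinearMap.ker B := by
      rw [LinearMap.mem_ker, map_sub, hsB, sub_self]
    have h4 := hker_le h3
    have h5 := (Cfsg.permSumZero K G Ω).toSubmodule.add_mem h4 hs
    rw [sub_add_cancel] at h5
    exact h5
  · rintro g _ ⟨f, -, rfl⟩
    refine ⟨Cfsg.permRep K G Ω g f - f, permRep_sub_mem_sumZero g f, ?_⟩
    rw [map_sub, hBcomm]

end Cfsg.Agent.Lib.Helper4.PermModule
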