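import Cfsg.Agent.S0673

set_option autoImplicit false
set_option linter.unusedSectionVars false

namespace Cfsg.Agent.Lib.Helper4.PrimeDeg

open Polynomial Cfsg.Agent.S0673

variable {p : ℕ} [hp : Fact p.Prime] {K : Type*} [Field K] [CharP K p]

/-- a translation invariant subspace is the space of polynomial functions of degree less than its
dimension -/
theorem eq_V (W : Submodule K (ZMod p → K)) (hW : ∀ f ∈ W, (fun j => f (j - 1)) ∈ W) :
    W = V p K (Module.finrank K W) ∧ Module.finrank K W ≤ p := by
  obtain ⟨r, hrp, hfr, hmem⟩ := Cfsg.Agent.S0673.result W hW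
  rw [hfr]
  refine ⟨?_, hrp⟩
  ext f
  rw [hmem, mem_V]

theorem cast_hom_apply (j : ZMod p) : (ZMod.castHom (dvd_refl p) K) j = (ZMod.cast j : K) := rfl

/-- the degree argument: a permutation of `ZMod p` preserving the polynomial functions of degree less
than `r`, where `2 ≤ r ≤ p / 2`, is affine -/
theorem affine_of_invariant (x : Equiv.Perm (ZMod p)) {r : ℕ} (h2 : 2 ≤ r) (hr : 2 * r ≤ p)
    (hinv : ∀ f ∈ V p K r, (fun j => f (x j)) ∈ V p K r) :
    ∀ ξ : ZMod p, x ξ = (x 1 - x 0) * ξ + x 0 := by
  classical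
  have hι : E p K X ∈ V p K r := by
    rw [mem_V]
    refine ⟨X, ?_, fun j => rfl⟩
    rw [degree_X]
    exact_mod_cast (by omega : 1 < r)
  obtain ⟨U, hUdeg, hU⟩ := mem_V.mp (hinv _ hι)
  have hU' : ∀ j : ZMod p, (ZMod.cast (x j) : K) = U.eval (ZMod.cast j : K) := by
    intro j
    have := hU j
    simpa [E_apply] using this
  have hUle : U.natDegree ≤ 1 := by
    by_contra hcon
    push Not at hcon
    set e := U.natDegree with he
    set d := r - 1 with hd
    have hU0 : U ≠ 0 := by
      intro h
      rw [he, h, natDegree_zero] at hcon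
      omega
    have hed : e ≤ d := by
      have : U.natDegree < r := (natDegree_lt_iff_degree_lt hU0).mpr hUdeg
      omega
    set j := d / e + 1 with hj
    have hje1 : d < j * e := by
      have := Nat.lt_mul_div_succ d (by omega : 0 < e)
      rw [hj, mul_comm]; exact this
    have hje2 : j * e ≤ 2 * d := by
      have := Nat.div_mul_le_self d e
      rw [hj, add_mul, one_mul]; omega
    have hjd : j ≤ d := by
      have h1 : d / e ≤ d / 2 := Nat.div_le_div_left (by omega) (by norm_num)
      have h2' : d / 2 * 2 ≤ d := Nat.div_mul_le_self d 2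
      omega
    have hXj : E p K (X ^ j) ∈ V p K r := by
      rw [mem_V]
      refine ⟨X ^ j, ?_, fun i => rfl⟩
      rw [degree_X_pow]
      exact_mod_cast (by omega : j < r)
    obtain ⟨Q, hQdeg, hQ⟩ := mem_V.mp (hinv _ hXj)
    have hQ' : ∀ i : ZMod p, (U ^ j).eval (ZMod.cast i : K) = Q.eval (ZMod.cast i : K) := by
      intro i
      have := hQ i
      simp only [E_apply, eval_pow, eval_X] at this
      rw [eval_pow, ← hU' i]
      exact this
    have hnd : (U ^ j).natDegree = j * e := natDegree_pow U j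
    have hUj0 : U ^ j ≠ 0 := pow_ne_zero _ hU0
    have hsub : U ^ j - Q = 0 := by
      apply E_injOn (p := p)
      · apply lt_of_le_of_lt (degree_sub_le _ _)
        rw [max_lt_iff]
        constructor
        · rw [degree_eq_natDegree hUj0, hnd]
          exact_mod_cast (by omega : j * e < p)
        · exact lt_of_lt_of_le hQdeg (by exact_mod_cast (by omega : r ≤ p))
      · funext i
        rw [E_apply, eval_sub, hQ' i, sub_self]
        rfl
    have hUQ : U ^ j = Q := sub_eq_zero.mp hsub
    have : (U ^ j).natDegree < r := by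
      rw [hUQ]
      rw [hUQ] at hUj0
      exact (natDegree_lt_iff_degree_lt hUj0).mpr hQdeg
    rw [hnd] at this
    omega
  -- `U` is affine
  have hUeq := eq_X_add_C_of_natDegree_le_one hUle
  have hval : ∀ j : ZMod p, (ZMod.cast (x j) : K) = U.coeff 1 * (ZMod.cast j : K) + U.coeff 0 := by
    intro j
    rw [hU' j]
    conv_lhs => rw [hUeq]
    simp
  have h0 : (ZMod.cast (x 0) : K) = U.coeff 0 := by
    have := hval 0
    rw [ZMod.cast_zero, mul_zero, zero_add] at this
    exact this
  have h1 : (ZMod.cast (x 1) : K) = U.coeff 1 + U.coeff 0 := by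
    have := hval 1
    rw [ZMod.cast_one (dvd_refl p), mul_one] at this
    exact this
  intro ξ
  apply ZMod.castHom_injective K
  rw [map_add, map_mul, map_sub]
  simp only [cast_hom_apply]
  rw [hval ξ, h1, h0]
  ring

/-- a permutation group of `ZMod p` consisting of affine maps is solvable -/
theorem solvable_of_affine (G : Subgroup (Equiv.Perm (ZMod p)))
    (haff : ∀ x ∈ G, ∀ ξ : ZMod p, x ξ = (x 1 - x 0) * ξ + x 0) : Group.IsSolvable G := by
  classical
  -- the slope
  let s : G →* ZMod p :=
    { toFun := fun x => (x : Equiv.Perm (ZMod p)) 1 - (x : Equiv.Perm (ZMod p)) 0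
      map_one' := by simp
      map_mul' := by
        intro x y
        show (x : Equiv.Perm (ZMod p)) ((y : Equiv.Perm (ZMod p)) 1) -
          (x : Equiv.Perm (ZMod p)) ((y : Equiv.Perm (ZMod p)) 0) = _
        rw [haff x x.2 ((y : Equiv.Perm (ZMod p)) 1), haff x x.2 ((y : Equiv.Perm (ZMod p)) 0)]
        ring }
  have hs : ∀ x : G, s x = (x : Equiv.Perm (ZMod p)) 1 - (x : Equiv.Perm (ZMod p)) 0 := fun _ => rfl
  have hcomm_le : commutator G ≤ s.ker := by
    rw [commutator_def, Subgroup.commutator_le]
    intro x _ y _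
    rw [MonoidHom.mem_ker, commutatorElement_def, map_mul, map_mul, map_mul]
    have h1 : s x * s x⁻¹ = 1 := by rw [← map_mul, mul_inv_cancel, map_one]
    have h2 : s y * s y⁻¹ = 1 := by rw [← map_mul, mul_inv_cancel, map_one]
    calc s x * s y * s x⁻¹ * s y⁻¹ = (s x * s x⁻¹) * (s y * s y⁻¹) := by ring
      _ = 1 := by rw [h1, h2, one_mul]
  have hker_comm : ⁅s.ker, s.ker⁆ = ⊥ := by
    rw [Subgroup.commutator_eq_bot_iff_le_centralizer]
    intro c hc
    rw [Subgroup.mem_centralizer_iff]
    intro c' hc'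
    rw [MonoidHom.mem_ker, hs] at hc
    rw [SetLike.mem_coe, MonoidHom.mem_ker, hs] at hc'
    apply Subtype.ext
    apply Equiv.ext
    intro ξ
    show (c' : Equiv.Perm (ZMod p)) ((c : Equiv.Perm (ZMod p)) ξ) =
      (c : Equiv.Perm (ZMod p)) ((c' : Equiv.Perm (ZMod p)) ξ)
    have hct : ∀ η : ZMod p, (c : Equiv.Perm (ZMod p)) η = η + (c : Equiv.Perm (ZMod p)) 0 := by
      intro η
      rw [haff c c.2 η, hc, one_mul]
    have hct' : ∀ η : ZMod p, (c' : Equiv.Perm (ZMod p)) η = η + (c' : Equiv.Perm (ZMod p)) 0 := by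
      intro η
      rw [haff c' c'.2 η, hc', one_mul]
    rw [hct' ((c : Equiv.Perm (ZMod p)) ξ), hct ξ, hct ((c' : Equiv.Perm (ZMod p)) ξ), hct' ξ]
    ring
  rw [Group.isSolvable_def]
  refine ⟨2, ?_⟩
  rw [eq_bot_iff, ← hker_comm]
  show ⁅derivedSeries G 1, derivedSeries G 1⁆ ≤ _
  have : derivedSeries G 1 = commutator G := by
    rw [derivedSeries_succ, derivedSeries_zero, commutator_def]
  rw [this]
  exact Subgroup.commutator_mono hcomm_le hcomm_le

/-- invariance of a subspace of functions under a permutation group of `ZMod p` -/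
def Inv (G : Subgroup (Equiv.Perm (ZMod p))) (W : Submodule K (ZMod p → K)) : Prop :=
  ∀ x ∈ G, ∀ f ∈ W, (fun j => f (x j)) ∈ W

/-- the translation by one -/
def tau (p : ℕ) : Equiv.Perm (ZMod p) := Equiv.addRight 1

theorem tau_apply (j : ZMod p) : tau p j = j + 1 := rfl

theorem tau_inv_apply (j : ZMod p) : (tau p)⁻¹ j = j - 1 := by
  rw [Equiv.Perm.inv_def, tau, Equiv.addRight_symm_apply, sub_eq_add_neg]

theorem Inv.shift {G : Subgroup (Equiv.Perm (ZMod p))} {W : Submodule K (ZMod p → K)}
    (h : Inv G W) (hτ : tau p ∈ G) : ∀ f ∈ W, (fun j => f (j - 1)) ∈ W := by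
  intro f hf
  have := h _ (G.inv_mem hτ) f hf
  have e : (fun j => f ((tau p)⁻¹ j)) = (fun j => f (j - 1)) := by
    funext j; rw [tau_inv_apply]
  rw [e] at this
  exact this

variable (p K) in
/-- the dot product on functions -/
noncomputable def dot : LinearMap.BilinForm K (ZMod p → K) :=
  Matrix.toBilin' (1 : Matrix (ZMod p) (ZMod p) K)

theorem dot_apply (f h : ZMod p → K) : dot p K f h = ∑ j, f j * h j := by
  unfold dot
  rw [Matrix.toBilin'_apply']
  simp [dotProduct]

theorem dot_nondegenerate : (dot p K).Nondegenerate := by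
  unfold dot
  apply LinearMap.BilinForm.nondegenerate_toBilin'_of_det_ne_zero'
  simp

theorem finrank_orth (W : Submodule K (ZMod p → K)) :
    Module.finrank K ((dot p K).orthogonal W) = p - Module.finrank K W := by
  rw [LinearMap.BilinForm.finrank_orthogonal dot_nondegenerate, Module.finrank_fintype_fun_eq_card,
    ZMod.card]

theorem Inv.orth {G : Subgroup (Equiv.Perm (ZMod p))} {W : Submodule K (ZMod p → K)}
    (h : Inv G W) : Inv G ((dot p K).orthogonal W) := by
  intro x hx g hg
  rw [LinearMap.BilinForm.mem_orthogonal_iff] at hg ⊢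
  intro f hf
  have h1 := hg _ (h x⁻¹ (G.inv_mem hx) f hf)
  rw [dot_apply] at h1 ⊢
  rw [← h1]
  rw [← Equiv.sum_comp x (fun j => f (x⁻¹ j) * g j)]
  apply Finset.sum_congr rfl
  intro j _
  simp


/-- the core of the irreducibility of the heart: an invariant subspace of a non-solvable group
containing the translation has dimension at most one or at least `p - 1` -/
theorem finrank_of_inv (G : Subgroup (Equiv.Perm (ZMod p))) (hτ : tau p ∈ G)
    (hns : ¬ Group.IsSolvable G) (W : Submodule K (ZMod p → K)) (hW : Inv G W) :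
    Module.finrank K W ≤ 1 ∨ p - 1 ≤ Module.finrank K W := by
  by_contra hcon
  push Not at hcon
  obtain ⟨h1, h2⟩ := hcon
  apply hns
  obtain ⟨hWV, hWp⟩ := eq_V W (hW.shift hτ)
  have hW' : Inv G ((dot p K).orthogonal W) := hW.orth
  obtain ⟨hWV', hWp'⟩ := eq_V _ (hW'.shift hτ)
  rw [finrank_orth] at hWV' hWp'
  set r := Module.finrank K W with hr
  apply solvable_of_affine
  intro x hx
  rcases Nat.lt_or_ge p (2 * r) with h | h
  · apply affine_of_invariant (K := K) x (r := p - r) (by omega) (by omega)
    intro f hf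
    rw [← hWV'] at hf ⊢
    exact hW' x hx f hf
  · apply affine_of_invariant (K := K) x (r := r) (by omega) h
    intro f hf
    rw [← hWV] at hf ⊢
    exact hW x hx f hf

end Cfsg.Agent.Lib.Helper4.PrimeDeg
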