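import Cfsg.Agent.Lib.Helper4.PrimeDeg

set_option autoImplicit false
set_option linter.unusedSectionVars false

namespace Cfsg.Agent.Lib.Helper4.PrimeDegComm

open Polynomial Cfsg.Agent.S0673 Cfsg.Agent.Lib.Helper4.PrimeDeg

variable {p : ℕ} [hp : Fact p.Prime]

local notation "Φ" => (ZMod p → ZMod p)

theorem perm_inv_apply {β : Type*} (x : Equiv.Perm β) (a : β) : x⁻¹ (x a) = a :=
  x.symm_apply_apply a

theorem perm_apply_inv {β : Type*} (x : Equiv.Perm β) (a : β) : x (x⁻¹ a) = a :=
  x.apply_symm_apply a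

/-- a linear operator on functions commuting with the group -/
def Comm (G : Subgroup (Equiv.Perm (ZMod p))) (T : Φ →ₗ[ZMod p] Φ) : Prop :=
  ∀ x ∈ G, ∀ f : Φ, T (fun j => f (x j)) = fun j => T f (x j)

theorem Comm.ker {G : Subgroup (Equiv.Perm (ZMod p))} {T : Φ →ₗ[ZMod p] Φ} (h : Comm G T) :
    Inv G (LinearMap.ker T) := by
  intro x hx f hf
  rw [LinearMap.mem_ker] at hf ⊢
  rw [h x hx f, hf]
  rfl

theorem Comm.range {G : Subgroup (Equiv.Perm (ZMod p))} {T : Φ →ₗ[ZMod p] Φ} (h : Comm G T) :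
    Inv G (LinearMap.range T) := by
  rintro x hx _ ⟨f, rfl⟩
  exact ⟨fun j => f (x j), h x hx f⟩

theorem Comm.comp {G : Subgroup (Equiv.Perm (ZMod p))} {T S : Φ →ₗ[ZMod p] Φ} (h : Comm G T)
    (h' : Comm G S) : Comm G (T ∘ₗ S) := by
  intro x hx f
  rw [LinearMap.comp_apply, h' x hx f]
  exact h x hx (S f)

theorem Comm.sub_smul_id {G : Subgroup (Equiv.Perm (ZMod p))} {T : Φ →ₗ[ZMod p] Φ} (h : Comm G T)
    (k : ZMod p) : Comm G (T - k • LinearMap.id) := by
  intro x hx f
  funext j
  simp only [LinearMap.sub_apply, LinearMap.smul_apply, LinearMap.id_apply, Pi.sub_apply,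
    Pi.smul_apply]
  rw [h x hx f]

/-- powers of the translation -/
theorem tau_pow_apply (n : ℕ) (j : ZMod p) : (tau p ^ n) j = j + n := by
  induction n with
  | zero => simp
  | succ n ih =>
    rw [pow_succ', Equiv.Perm.mul_apply, ih, tau_apply]
    push_cast
    ring

theorem exists_map {G : Subgroup (Equiv.Perm (ZMod p))} (hτ : tau p ∈ G) (u v : ZMod p) :
    ∃ g ∈ G, g u = v := by
  refine ⟨tau p ^ (v - u).val, G.pow_mem hτ _, ?_⟩
  rw [tau_pow_apply, ZMod.natCast_zmod_val]
  ring

/-- a function invariant under the translation is constant -/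
theorem const_of_tau (f : Φ) (hf : (fun j => f (tau p j)) = f) : ∀ j, f j = f 0 := by
  have h1 : ∀ j, f (j + 1) = f j := fun j => congrFun hf j
  have h2 : ∀ n : ℕ, f (n : ZMod p) = f 0 := by
    intro n
    induction n with
    | zero => simp
    | succ n ih => rw [Nat.cast_succ, h1, ih]
  intro j
  rw [← ZMod.natCast_zmod_val j]
  exact h2 _

/-- elements of `V 1` are constant functions -/
theorem const_of_mem_V_one (f : Φ) (hf : f ∈ V p (ZMod p) 1) : ∀ j, f j = f 0 := by
  obtain ⟨P, hP, hPf⟩ := mem_V.mp hf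
  have hP' : P.natDegree = 0 := by
    by_cases h0 : P = 0
    · rw [h0, natDegree_zero]
    · have := (natDegree_lt_iff_degree_lt h0).mpr hP
      omega
  have := eq_C_of_natDegree_eq_zero hP'
  intro j
  rw [hPf j, hPf 0, this]
  simp

theorem one_mem_V_one : (fun _ => 1 : Φ) ∈ V p (ZMod p) 1 := by
  rw [mem_V]
  refine ⟨C 1, ?_, fun j => by simp⟩
  rw [degree_C one_ne_zero]
  exact_mod_cast zero_lt_one



/-- dimension of the kernel of the square of an operator -/
theorem finrank_ker_comp_le (B : Φ →ₗ[ZMod p] Φ) :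
    Module.finrank (ZMod p) (LinearMap.ker (B ∘ₗ B)) ≤
      2 * Module.finrank (ZMod p) (LinearMap.ker B) := by
  set U := LinearMap.ker (B ∘ₗ B) with hU
  have hmaps : ∀ u ∈ U, B u ∈ LinearMap.ker B := by
    intro u hu
    rw [LinearMap.mem_ker] at hu ⊢
    exact hu
  let φ : U →ₗ[ZMod p] LinearMap.ker B := B.restrict hmaps
  have h1 := LinearMap.finrank_range_add_finrank_ker φ
  have h2 : Module.finrank (ZMod p) (LinearMap.range φ) ≤ Module.finrank (ZMod p) (LinearMap.ker B) :=
    Submodule.finrank_le _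
  have h3 : Module.finrank (ZMod p) (LinearMap.ker φ) ≤ Module.finrank (ZMod p) (LinearMap.ker B) := by
    let ψ : LinearMap.ker φ →ₗ[ZMod p] LinearMap.ker B :=
      { toFun := fun u => ⟨(u : U), by
          have := u.2
          rw [LinearMap.mem_ker] at this ⊢
          have h := congrArg Subtype.val this
          exact h⟩
        map_add' := fun _ _ => rfl
        map_smul' := fun _ _ => rfl }
    apply LinearMap.finrank_le_finrank_of_injective (f := ψ)
    intro u v huv
    apply Subtype.ext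
    apply Subtype.ext
    have := congrArg Subtype.val huv
    exact this
  omega

/-- if `G` contains the translation and is not doubly transitive, there is an invariant subspace of
dimension between `2` and `p - 2` -/
theorem exists_inv (hp5 : 5 ≤ p) (G : Subgroup (Equiv.Perm (ZMod p))) (hτ : tau p ∈ G)
    {a b c d : ZMod p} (hab : a ≠ b) (hcd : c ≠ d) (hno : ¬ ∃ g ∈ G, g a = c ∧ g b = d) :
    ∃ W : Submodule (ZMod p) Φ, Inv G W ∧ 2 ≤ Module.finrank (ZMod p) W ∧
      Module.finrank (ZMod p) W ≤ p - 2 := by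
  classical
  let Γ : ZMod p → ZMod p → Prop := fun ξ η => ∃ g ∈ G, g a = ξ ∧ g b = η
  have hΓab : Γ a b := ⟨1, G.one_mem, rfl, rfl⟩
  have hΓinv : ∀ x ∈ G, ∀ ξ η, Γ ξ η ↔ Γ (x ξ) (x η) := by
    intro x hx ξ η
    constructor
    · rintro ⟨g, hg, rfl, rfl⟩
      exact ⟨x * g, G.mul_mem hx hg, rfl, rfl⟩
    · rintro ⟨g, hg, h1, h2⟩
      refine ⟨x⁻¹ * g, G.mul_mem (G.inv_mem hx) hg, ?_, ?_⟩
      · rw [Equiv.Perm.mul_apply, h1, perm_inv_apply]
      · rw [Equiv.Perm.mul_apply, h2, perm_inv_apply]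
  let M : Matrix (ZMod p) (ZMod p) (ZMod p) := fun ξ η => if Γ ξ η then 1 else 0
  let A : Φ →ₗ[ZMod p] Φ := Matrix.mulVecLin M
  have hAapp : ∀ (f : Φ) (ξ : ZMod p), A f ξ = ∑ η, M ξ η * f η := by
    intro f ξ
    rfl
  have hAsingle : ∀ (η ξ : ZMod p), A (Pi.single η 1) ξ = M ξ η := by
    intro η ξ
    rw [hAapp]
    simp [Pi.single_apply]
  have hA : Comm G A := by
    intro x hx f
    funext ξ
    rw [hAapp, hAapp, ← Equiv.sum_comp x (fun η => M (x ξ) η * f η)]
    apply Finset.sum_congr rfl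
    intro η _
    have : M (x ξ) (x η) = M ξ η := by
      show (if Γ (x ξ) (x η) then (1 : ZMod p) else 0) = if Γ ξ η then 1 else 0
      rw [if_congr (hΓinv x hx ξ η).symm rfl rfl]
    rw [this]
  set k : ZMod p := A (fun _ => 1) 0 with hk
  have hA1 : A (fun _ => 1) = fun _ => k := by
    funext j
    apply const_of_tau
    have := hA (tau p) hτ (fun _ => 1)
    exact this.symm
  set B : Φ →ₗ[ZMod p] Φ := A - k • LinearMap.id with hBdef
  have hB : Comm G B := hA.sub_smul_id k
  have hBapp : ∀ (f : Φ) (ξ : ZMod p), B f ξ = A f ξ - k * f ξ := by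
    intro f ξ
    simp [hBdef]
  have hB1 : B (fun _ => 1) = 0 := by
    funext j
    rw [hBapp, hA1]
    simp
  have hone_ne : (fun _ => 1 : Φ) ≠ 0 := by
    intro h
    have := congrFun h 0
    simp at this
  obtain ⟨hkerV, hr1p⟩ := eq_V (LinearMap.ker B) (hB.ker.shift hτ)
  set r1 := Module.finrank (ZMod p) (LinearMap.ker B) with hr1
  have hone_ker : (fun _ => 1 : Φ) ∈ LinearMap.ker B := LinearMap.mem_ker.mpr hB1
  have hr1pos : 1 ≤ r1 := by
    by_contra h
    have h0 : r1 = 0 := by omega
    rw [hkerV, h0, V_zero, Submodule.mem_bot] at hone_ker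
    exact hone_ne hone_ker
  have hrange := LinearMap.finrank_range_add_finrank_ker B
  rw [Module.finrank_fintype_fun_eq_card, ZMod.card, ← hr1] at hrange
  obtain ⟨hranV, -⟩ := eq_V (LinearMap.range B) (hB.range.shift hτ)
  -- the case distinction
  by_cases hcase : 2 ≤ r1 ∧ r1 ≤ p - 2
  · exact ⟨LinearMap.ker B, hB.ker, hcase.1, hcase.2⟩
  have hcases : r1 = 1 ∨ r1 = p - 1 ∨ r1 = p := by omega
  rcases hcases with h1 | h1 | h1
  · -- kernel of the square
    refine ⟨LinearMap.ker (B ∘ₗ B), (hB.comp hB).ker, ?_, ?_⟩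
    · obtain ⟨hker2V, -⟩ := eq_V (LinearMap.ker (B ∘ₗ B)) ((hB.comp hB).ker.shift hτ)
      have hle : LinearMap.ker B ≤ LinearMap.ker (B ∘ₗ B) := by
        intro f hf
        rw [LinearMap.mem_ker] at hf ⊢
        rw [LinearMap.comp_apply, hf, map_zero]
      have hmono := Submodule.finrank_mono hle
      rw [← hr1, h1] at hmono
      by_contra hlt
      have h2 : Module.finrank (ZMod p) (LinearMap.ker (B ∘ₗ B)) = 1 := by omega
      rw [h2] at hker2V
      rw [h1] at hkerV
      have hone_ran : (fun _ => 1 : Φ) ∈ LinearMap.range B := by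
        rw [hranV]
        apply V_mono (s := 1)
        · omega
        · exact one_mem_V_one
      obtain ⟨f, hf⟩ := hone_ran
      have hf2 : f ∈ LinearMap.ker (B ∘ₗ B) := by
        rw [LinearMap.mem_ker, LinearMap.comp_apply, hf, hB1]
      rw [hker2V, ← hkerV, LinearMap.mem_ker] at hf2
      rw [hf2] at hf
      exact hone_ne hf.symm
    · have := finrank_ker_comp_le B
      rw [← hr1, h1] at this
      omega
  · -- the range consists of constants
    exfalso
    have hr : Module.finrank (ZMod p) (LinearMap.range B) = 1 := by omega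
    rw [hr] at hranV
    have hconst := const_of_mem_V_one (B (Pi.single b 1))
      (by rw [← hranV]; exact LinearMap.mem_range_self B _)
    have hval : ∀ ξ, B (Pi.single b 1) ξ = M ξ b - k * (Pi.single b (1 : ZMod p) : Φ) ξ := by
      intro ξ
      rw [hBapp, hAsingle]
    have hMab : M a b = 1 := if_pos hΓab
    have hat_a : B (Pi.single b 1) a = 1 := by
      rw [hval, hMab, Pi.single_apply, if_neg hab, mul_zero, sub_zero]
    have hall : ∀ ξ, ξ ≠ b → Γ ξ b := by
      intro ξ hξ
      have h2 : B (Pi.single b 1) ξ = 1 := by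
        rw [hconst ξ, ← hconst a, hat_a]
      rw [hval, Pi.single_apply, if_neg hξ, mul_zero, sub_zero] at h2
      by_contra hΓ
      have : M ξ b = 0 := if_neg hΓ
      rw [this] at h2
      exact zero_ne_one h2
    obtain ⟨g, hg, hgb⟩ := exists_map hτ b d
    have hne : g⁻¹ c ≠ b := by
      intro h
      apply hcd
      rw [← hgb, ← h, perm_apply_inv]
    have := (hΓinv g hg _ _).mp (hall _ hne)
    rw [perm_apply_inv, hgb] at this
    exact hno this
  · -- the operator is a scalar
    exfalso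
    rw [h1, V_top] at hkerV
    have : Pi.single b (1 : ZMod p) ∈ LinearMap.ker B := by rw [hkerV]; trivial
    rw [LinearMap.mem_ker] at this
    have h2 := congrFun this a
    rw [hBapp, hAsingle, Pi.single_apply, if_neg hab, mul_zero, sub_zero] at h2
    have hMab : M a b = 1 := if_pos hΓab
    rw [hMab] at h2
    exact one_ne_zero h2

end Cfsg.Agent.Lib.Helper4.PrimeDegComm
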