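import Cfsg.Agent.Lib.Helper4.PrimeDegBurnside
import Cfsg.Agent.Lib.Helper4.PrimeDegInv

set_option autoImplicit false
set_option linter.unusedSectionVars false

namespace Cfsg.Agent.Lib.Helper4.PrimeDegSub

open Cfsg.Agent.Lib.Helper4.PrimeDeg Cfsg.Agent.Lib.Helper4.PrimeDegComm
  Cfsg.Agent.Lib.Helper4.PrimeDegInv Cfsg.Agent.Lib.Helper4.PrimeDegBurnside

variable {p : ℕ} [hp : Fact p.Prime]

/-- a finite set with a fixed point free involution has even cardinality -/
theorem even_card_of_involution {ι : Type*} [DecidableEq ι] (s : Finset ι) (σ : ι → ι)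
    (hmem : ∀ i ∈ s, σ i ∈ s) (hinv : ∀ i ∈ s, σ (σ i) = i) (hne : ∀ i ∈ s, σ i ≠ i) :
    Even s.card := by
  have h := Finset.sum_involution (s := s) (f := fun _ => (1 : ZMod 2)) (fun a _ => σ a)
    (fun a _ => by decide) (fun a ha _ => hne a ha) (fun a ha => hmem a ha)
    (fun a ha => hinv a ha)
  rw [Finset.sum_const, nsmul_eq_mul, mul_one] at h
  rw [even_iff_two_dvd, ← ZMod.natCast_eq_zero_iff]
  exact h

/-- the parity of the number of representations of a difference, for a set closed under negation -/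
theorem parity_count (hp2 : p ≠ 2) (D : Finset (ZMod p)) (hneg : ∀ d ∈ D, -d ∈ D) (a a' : ZMod p)
    (haa' : a ≠ a') :
    Even (Finset.univ.filter (fun i : ZMod p => a - i ∈ D ∧ a' - i ∈ D)).card ↔
      (a - a') * 2⁻¹ ∉ D := by
  classical
  have h2 : (2 : ZMod p) ≠ 0 := two_ne_zero_zmod hp2
  set S := Finset.univ.filter (fun i : ZMod p => a - i ∈ D ∧ a' - i ∈ D) with hS
  set i₀ : ZMod p := (a + a') * 2⁻¹ with hi₀
  have h2i₀ : 2 * i₀ = a + a' := by
    rw [hi₀]; field_simp
  have ha0 : a - i₀ = (a - a') * 2⁻¹ := by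
    have : 2 * (a - i₀) = 2 * ((a - a') * 2⁻¹) := by
      rw [mul_sub, h2i₀]; field_simp; ring
    exact mul_left_cancel₀ h2 this
  have ha0' : a' - i₀ = -((a - a') * 2⁻¹) := by
    have : 2 * (a' - i₀) = 2 * (-((a - a') * 2⁻¹)) := by
      rw [mul_sub, h2i₀]; field_simp; ring
    exact mul_left_cancel₀ h2 this
  have hmemS : ∀ i, i ∈ S ↔ a - i ∈ D ∧ a' - i ∈ D := by
    intro i; rw [hS, Finset.mem_filter]; simp
  have hi₀S : i₀ ∈ S ↔ (a - a') * 2⁻¹ ∈ D := by
    rw [hmemS, ha0, ha0']
    constructor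
    · exact fun h => h.1
    · exact fun h => ⟨h, hneg _ h⟩
  have heven : Even (S.erase i₀).card := by
    apply even_card_of_involution (S.erase i₀) (fun i => a + a' - i)
    · intro i hi
      rw [Finset.mem_erase] at hi ⊢
      obtain ⟨hne, hiS⟩ := hi
      rw [hmemS] at hiS
      refine ⟨fun h => hne ?_, ?_⟩
      · have : i = a + a' - i₀ := by rw [← h]; ring
        rw [this, ← h2i₀]; ring
      · rw [hmemS]
        constructor
        · have := hneg _ hiS.2
          convert this using 1; ring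
        · have := hneg _ hiS.1
          convert this using 1; ring
    · intro i _
      ring
    · intro i hi h
      rw [Finset.mem_erase] at hi
      apply hi.1
      have h3 : 2 * i = 2 * i₀ := by rw [h2i₀]; linear_combination -h
      exact mul_left_cancel₀ h2 h3
  by_cases hmem : i₀ ∈ S
  · have hc : S.card = (S.erase i₀).card + 1 := (Finset.card_erase_add_one hmem).symm
    rw [hc]
    constructor
    · intro h
      exfalso
      rw [Nat.even_add_one] at h
      exact h heven
    · intro h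
      exact absurd (hi₀S.mp hmem) h
  · have hc : S.erase i₀ = S := Finset.erase_eq_of_notMem hmem
    rw [hc] at heven
    constructor
    · intro _ h
      exact hmem (hi₀S.mpr h)
    · intro _
      exact heven

/-- a difference set closed under negation is trivial -/
theorem reversible (hp2 : p ≠ 2) (D : Finset (ZMod p)) (hneg : ∀ d ∈ D, -d ∈ D) (lam : ℕ)
    (hlam : ∀ a a' : ZMod p, a ≠ a' →
      (Finset.univ.filter (fun i : ZMod p => a - i ∈ D ∧ a' - i ∈ D)).card = lam) :
    (∀ g : ZMod p, g ≠ 0 → g ∈ D) ∨ (∀ g : ZMod p, g ≠ 0 → g ∉ D) := by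
  have h2 : (2 : ZMod p) ≠ 0 := two_ne_zero_zmod hp2
  have key : ∀ g : ZMod p, g ≠ 0 → (Even lam ↔ g ∉ D) := by
    intro g hg
    have hg2 : 2 * g ≠ 0 := mul_ne_zero h2 hg
    have := parity_count hp2 D hneg (2 * g) 0 hg2
    rw [hlam _ _ hg2, sub_zero, mul_comm 2 g, mul_assoc, mul_inv_cancel₀ h2, mul_one] at this
    exact this
  by_cases he : Even lam
  · right
    intro g hg
    exact (key g hg).mp he
  · left
    intro g hg
    by_contra h
    exact he ((key g hg).mpr h)

/-- an invariant subspace of intermediate dimension forces the group to be affine -/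
theorem affine_of_inv (G : Subgroup (Equiv.Perm (ZMod p))) (hτ : tau p ∈ G)
    (W : Submodule (ZMod p) (ZMod p → ZMod p)) (hW : Inv G W)
    (h1 : 2 ≤ Module.finrank (ZMod p) W) (h2 : Module.finrank (ZMod p) W ≤ p - 2) :
    ∀ x ∈ G, ∀ ξ : ZMod p, x ξ = (x 1 - x 0) * ξ + x 0 := by
  have hpp := hp.out
  have hp2 := hpp.two_le
  obtain ⟨hWV, hWp⟩ := eq_V W (hW.shift hτ)
  have hW' : Inv G ((dot p (ZMod p)).orthogonal W) := hW.orth
  obtain ⟨hWV', hWp'⟩ := eq_V _ (hW'.shift hτ)
  rw [finrank_orth] at hWV' hWp'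
  set r := Module.finrank (ZMod p) W with hr
  intro x hx
  rcases Nat.lt_or_ge p (2 * r) with h | h
  · apply affine_of_invariant (K := ZMod p) x (r := p - r) (by omega) (by omega)
    intro f hf
    rw [← hWV'] at hf ⊢
    exact hW' x hx f hf
  · apply affine_of_invariant (K := ZMod p) x (r := r) (by omega) h
    intro f hf
    rw [← hWV] at hf ⊢
    exact hW x hx f hf

/-- the dichotomy behind Burnside's theorem -/
theorem affine_or_two (G : Subgroup (Equiv.Perm (ZMod p))) (hτ : tau p ∈ G) :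
    (∀ x ∈ G, ∀ ξ : ZMod p, x ξ = (x 1 - x 0) * ξ + x 0) ∨
      (∀ a b c d : ZMod p, a ≠ b → c ≠ d → ∃ g ∈ G, g a = c ∧ g b = d) := by
  have hpp := hp.out
  by_cases h : ∀ a b c d : ZMod p, a ≠ b → c ≠ d → ∃ g ∈ G, g a = c ∧ g b = d
  · exact Or.inr h
  left
  push Not at h
  obtain ⟨a, b, c, d, hab, hcd, hno⟩ := h
  rcases Nat.lt_or_ge p 5 with h5 | h5
  · have h23 : p = 2 ∨ p = 3 := by
      have := hpp.two_le
      have h4 : p ≠ 4 := by
        rintro rfl
        norm_num at hpp
      omega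
    rcases h23 with rfl | rfl
    · exact fun x _ => aff2 x
    · exact fun x _ => aff3 x
  · obtain ⟨W, hW, h2, hle⟩ := exists_inv h5 G hτ hab hcd (by
      rintro ⟨g, hg, h1, h2⟩
      exact hno g hg h1 h2)
    exact affine_of_inv G hτ W hW h2 hle

/-- the translations -/
def T (i : ZMod p) : Equiv.Perm (ZMod p) := Equiv.addRight i

theorem T_apply (i j : ZMod p) : T i j = j + i := rfl

theorem T_inv_apply (i j : ZMod p) : (T i)⁻¹ j = j - i := by
  rw [Equiv.Perm.inv_def, T, Equiv.addRight_symm_apply, sub_eq_add_neg]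

theorem tau_pow_apply (n : ℕ) (j : ZMod p) : (tau p ^ n) j = j + n := by
  induction n generalizing j with
  | zero => simp
  | succ n ih =>
    rw [pow_succ, Equiv.Perm.mul_apply, tau_apply, ih]
    push_cast
    ring

theorem T_eq_pow (i : ZMod p) : T i = tau p ^ i.val := by
  ext j
  rw [tau_pow_apply, T_apply, ZMod.natCast_zmod_val]

theorem T_mem (G : Subgroup (Equiv.Perm (ZMod p))) (hτ : tau p ∈ G) (i : ZMod p) : T i ∈ G := by
  rw [T_eq_pow]
  exact G.pow_mem hτ _

/-- a group of order prime to `p` contains no translation -/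
theorem no_translation (H : Subgroup (Equiv.Perm (ZMod p))) (hH : ¬ p ∣ Nat.card H)
    (c : Equiv.Perm (ZMod p)) (hc : c ∈ H) (k : ZMod p) (hck : ∀ ξ, c ξ = ξ + k) : k = 0 := by
  have hpp := hp.out
  have hpow : ∀ (n : ℕ) (ξ : ZMod p), (c ^ n) ξ = ξ + n * k := by
    intro n
    induction n with
    | zero => intro ξ; simp
    | succ n ih =>
      intro ξ
      rw [pow_succ, Equiv.Perm.mul_apply, hck, ih]
      push_cast
      ring
  have hcp : c ^ p = 1 := by
    ext ξ
    rw [hpow, Equiv.Perm.one_apply]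
    simp
  have hord : orderOf c ∣ p := orderOf_dvd_of_pow_eq_one hcp
  have hord2 : orderOf c ∣ Nat.card H := by
    have := orderOf_dvd_natCard (⟨c, hc⟩ : H)
    rwa [Subgroup.orderOf_mk] at this
  rcases (Nat.dvd_prime hpp).mp hord with h1 | h1
  · rw [orderOf_eq_one_iff] at h1
    have := hck 0
    rw [h1, Equiv.Perm.one_apply, zero_add] at this
    exact this.symm
  · rw [h1] at hord2
    exact absurd hord2 hH

end Cfsg.Agent.Lib.Helper4.PrimeDegSub
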