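import Cfsg.Agent.Lib.Helper4.PrimeDegSubA

set_option autoImplicit false
set_option linter.unusedSectionVars false

namespace Cfsg.Agent.Lib.Helper4.PrimeDegSub

open Cfsg.Agent.Lib.Helper4.PrimeDeg Cfsg.Agent.Lib.Helper4.PrimeDegComm
  Cfsg.Agent.Lib.Helper4.PrimeDegInv Cfsg.Agent.Lib.Helper4.PrimeDegBurnside

variable {p : ℕ} [hp : Fact p.Prime]

/-- the counting identity: the number of group elements carrying two points into an `H`-invariant
set, computed through the factorisation `G = P H` -/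
theorem count_eq (G H : Subgroup (Equiv.Perm (ZMod p))) [Fintype G] [Fintype H] (hHG : H ≤ G)
    (hτ : tau p ∈ G) (hcard : Nat.card G = p * Nat.card H) (hpH : ¬ p ∣ Nat.card H)
    (D : Finset (ZMod p)) (hD : ∀ h ∈ H, ∀ d, h d ∈ D ↔ d ∈ D) (a a' : ZMod p) :
    (Finset.univ.filter (fun g : G => (g : Equiv.Perm (ZMod p))⁻¹ a ∈ D ∧
      (g : Equiv.Perm (ZMod p))⁻¹ a' ∈ D)).card =
    Nat.card H * (Finset.univ.filter (fun i : ZMod p => a - i ∈ D ∧ a' - i ∈ D)).card := by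
  classical
  let φ : ZMod p × H → G := fun x =>
    ⟨T x.1 * (x.2 : Equiv.Perm (ZMod p)), G.mul_mem (T_mem G hτ x.1) (hHG x.2.2)⟩
  have hinj : Function.Injective φ := by
    rintro ⟨i, h⟩ ⟨j, h'⟩ hij
    have h1 : T i * (h : Equiv.Perm (ZMod p)) = T j * (h' : Equiv.Perm (ZMod p)) :=
      congrArg Subtype.val hij
    have h2 : (T j)⁻¹ * T i = (h' : Equiv.Perm (ZMod p)) * (h : Equiv.Perm (ZMod p))⁻¹ := by
      rw [eq_mul_inv_iff_mul_eq, mul_assoc, h1, inv_mul_cancel_left]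
    have h3 : ∀ ξ, ((T j)⁻¹ * T i) ξ = ξ + (i - j) := by
      intro ξ
      rw [Equiv.Perm.mul_apply, T_apply, T_inv_apply]; ring
    have h4 : (T j)⁻¹ * T i ∈ H := by
      rw [h2]; exact H.mul_mem h'.2 (H.inv_mem h.2)
    have h5 := no_translation H hpH _ h4 (i - j) h3
    have hij' : i = j := sub_eq_zero.mp h5
    subst hij'
    have h6 : (h : Equiv.Perm (ZMod p)) = h' := mul_left_cancel h1
    rw [Subtype.ext h6]
  have hbij : Function.Bijective φ := by
    rw [Fintype.bijective_iff_injective_and_card]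
    refine ⟨hinj, ?_⟩
    rw [Fintype.card_prod, ZMod.card, ← Nat.card_eq_fintype_card (α := H),
      ← Nat.card_eq_fintype_card (α := G), hcard]
  rw [Finset.card_filter, ← Function.Bijective.sum_comp hbij, Fintype.sum_prod_type,
    Finset.card_filter, Finset.mul_sum]
  apply Finset.sum_congr rfl
  intro i _
  have hcond : ∀ h : H, ((((φ (i, h) : G) : Equiv.Perm (ZMod p))⁻¹ a ∈ D ∧
      ((φ (i, h) : G) : Equiv.Perm (ZMod p))⁻¹ a' ∈ D) ↔ (a - i ∈ D ∧ a' - i ∈ D)) := by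
    intro h
    have e1 : ∀ b : ZMod p, ((φ (i, h) : G) : Equiv.Perm (ZMod p))⁻¹ b =
        (h : Equiv.Perm (ZMod p))⁻¹ (b - i) := by
      intro b
      show (T i * (h : Equiv.Perm (ZMod p)))⁻¹ b = _
      rw [mul_inv_rev, Equiv.Perm.mul_apply, T_inv_apply]
    rw [e1, e1, hD _ (H.inv_mem h.2), hD _ (H.inv_mem h.2)]
  rw [Finset.sum_congr rfl (fun h _ => if_congr (hcond h) rfl rfl)]
  rw [Finset.sum_const, Finset.card_univ, smul_eq_mul, Nat.card_eq_fintype_card]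

/-- the invariance of the count -/
theorem count_inv (G : Subgroup (Equiv.Perm (ZMod p))) [Fintype G] (D : Finset (ZMod p))
    (x : Equiv.Perm (ZMod p)) (hx : x ∈ G) (a a' : ZMod p) :
    (Finset.univ.filter (fun g : G => (g : Equiv.Perm (ZMod p))⁻¹ (x a) ∈ D ∧
      (g : Equiv.Perm (ZMod p))⁻¹ (x a') ∈ D)).card =
    (Finset.univ.filter (fun g : G => (g : Equiv.Perm (ZMod p))⁻¹ a ∈ D ∧
      (g : Equiv.Perm (ZMod p))⁻¹ a' ∈ D)).card := by
  classical
  apply Finset.card_equiv (Equiv.mulLeft (⟨x, hx⟩⁻¹ : G))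
  intro g
  rw [Finset.mem_filter, Finset.mem_filter]
  have e1 : ∀ b : ZMod p, (((Equiv.mulLeft (⟨x, hx⟩⁻¹ : G)) g : G) : Equiv.Perm (ZMod p))⁻¹ b =
      (g : Equiv.Perm (ZMod p))⁻¹ (x b) := by
    intro b
    show (x⁻¹ * (g : Equiv.Perm (ZMod p)))⁻¹ b = _
    rw [mul_inv_rev, inv_inv, Equiv.Perm.mul_apply]
  rw [e1, e1]
  simp

end Cfsg.Agent.Lib.Helper4.PrimeDegSub
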