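import Cfsg.Agent.Lib.Helper4.PrimeDegSubB
import Cfsg.Agent.Lib.Helper4.PrimeDegT

set_option autoImplicit false
set_option linter.unusedSectionVars false

namespace Cfsg.Agent.Lib.Helper4.PrimeDegSub

open Cfsg.Agent.Lib.Helper4.PrimeDeg Cfsg.Agent.Lib.Helper4.PrimeDegComm
  Cfsg.Agent.Lib.Helper4.PrimeDegInv Cfsg.Agent.Lib.Helper4.PrimeDegBurnside
  Cfsg.Agent.Lib.Helper4.PrimeDegT

variable {p : ℕ} [hp : Fact p.Prime]

/-- a subgroup of index `p` containing the negation fixes `0` -/
theorem fix_zero (hp2 : p ≠ 2) (G H : Subgroup (Equiv.Perm (ZMod p))) (hHG : H ≤ G)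
    (hτ : tau p ∈ G) (hneg : Equiv.neg (ZMod p) ∈ H) (hcard : Nat.card G = p * Nat.card H) :
    ∀ h ∈ H, h 0 = 0 := by
  classical
  have hpp := hp.out
  have h2 : (2 : ZMod p) ≠ 0 := two_ne_zero_zmod hp2
  have hpH : ¬ p ∣ Nat.card H := by
    intro hd
    apply not_sq_dvd_card (α := ZMod p) (ZMod.card p) G
    rw [hcard, pow_two]
    exact Nat.mul_dvd_mul_left p hd
  rcases affine_or_two G hτ with haff | h2t
  · intro h hh
    have hhG := hHG hh
    let c := h * Equiv.neg (ZMod p) * h⁻¹ * Equiv.neg (ZMod p)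
    have hcH : c ∈ H := H.mul_mem (H.mul_mem (H.mul_mem hh hneg) (H.inv_mem hh)) hneg
    have hc : ∀ ξ, c ξ = ξ + 2 * h 0 := by
      intro ξ
      obtain ⟨η, hη⟩ := h.surjective (-ξ)
      show h (Equiv.neg _ (h⁻¹ (Equiv.neg _ ξ))) = _
      rw [Equiv.neg_apply, ← hη, perm_inv_apply, haff h hhG (-η)]
      have := haff h hhG η
      rw [hη] at this
      linear_combination this
    exact (mul_eq_zero.mp (no_translation H hpH c hcH (2 * h 0) hc)).resolve_left h2
  · have : Fintype G := Fintype.ofFinite G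
    have : Fintype H := Fintype.ofFinite H
    set D : Finset (ZMod p) := Finset.univ.filter (fun d => ∃ h ∈ H, h 0 = d) with hDdef
    have hDmem : ∀ d, d ∈ D ↔ ∃ h ∈ H, h 0 = d := by
      intro d; rw [hDdef, Finset.mem_filter]; simp
    have hD : ∀ h ∈ H, ∀ d, h d ∈ D ↔ d ∈ D := by
      intro h hh d
      rw [hDmem, hDmem]
      constructor
      · rintro ⟨h', hh', he⟩
        refine ⟨h⁻¹ * h', H.mul_mem (H.inv_mem hh) hh', ?_⟩
        rw [Equiv.Perm.mul_apply, he, perm_inv_apply]
      · rintro ⟨h', hh', rfl⟩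
        exact ⟨h * h', H.mul_mem hh hh', rfl⟩
    have hDneg : ∀ d ∈ D, -d ∈ D := by
      intro d hd
      have := (hD _ hneg d).mpr hd
      rwa [Equiv.neg_apply] at this
    have hHpos : 0 < Nat.card H := Nat.card_pos
    have hlam : ∀ a a' : ZMod p, a ≠ a' →
        (Finset.univ.filter (fun i : ZMod p => a - i ∈ D ∧ a' - i ∈ D)).card =
        (Finset.univ.filter (fun i : ZMod p => (1 : ZMod p) - i ∈ D ∧ (0 : ZMod p) - i ∈ D)).card := by
      intro a a' haa'
      obtain ⟨x, hx, hx1, hx0⟩ := h2t 1 0 a a' one_ne_zero haa'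
      have e1 := count_eq G H hHG hτ hcard hpH D hD a a'
      have e2 := count_eq G H hHG hτ hcard hpH D hD 1 0
      have e3 := count_inv G D x hx 1 0
      rw [hx1, hx0] at e3
      rw [e1, e2] at e3
      exact Nat.eq_of_mul_eq_mul_left hHpos e3
    rcases reversible hp2 D hDneg _ hlam with hall | hnone
    · exfalso
      apply hpH
      have hall' : ∀ d : ZMod p, ∃ h ∈ H, h 0 = d := by
        intro d
        by_cases hd : d = 0
        · exact ⟨1, H.one_mem, by rw [hd]; rfl⟩
        · exact (hDmem d).mp (hall d hd)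
      have : MulAction.IsPretransitive H (ZMod p) := by
        refine ⟨fun x y => ?_⟩
        obtain ⟨hx, hhx, rfl⟩ := hall' x
        obtain ⟨hy, hhy, rfl⟩ := hall' y
        refine ⟨⟨hy * hx⁻¹, H.mul_mem hhy (H.inv_mem hhx)⟩, ?_⟩
        show (hy * hx⁻¹) (hx 0) = hy 0
        rw [Equiv.Perm.mul_apply, perm_inv_apply]
      have h1 := MulAction.index_stabilizer_of_transitive H (0 : ZMod p)
      rw [Nat.card_eq_fintype_card, ZMod.card] at h1
      have h3 := Subgroup.index_dvd_card (MulAction.stabilizer H (0 : ZMod p))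
      rwa [h1] at h3
    · intro h hh
      by_contra hne
      exact hnone (h 0) hne ((hDmem _).mpr ⟨h, hh, rfl⟩)

/-- the version for a labelled set -/
theorem le_stabilizer {α : Type*} [Fintype α] [DecidableEq α] (hp2 : p ≠ 2)
    (G : Subgroup (Equiv.Perm α)) (e : α ≃ ZMod p) (g₀ t : Equiv.Perm α) (hg₀ : g₀ ∈ G)
    (ht : t ∈ G) (he : ∀ a, e (g₀ a) = e a + 1) (het : ∀ a, e (t a) = - e a)
    (H : Subgroup G) (htH : (⟨t, ht⟩ : G) ∈ H) (hH : H.index = p) :
    H ≤ MulAction.stabilizer G (e.symm 0) := by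
  classical
  have hinj : Function.Injective
      (e.permCongrHom : Equiv.Perm α ≃* Equiv.Perm (ZMod p)).toMonoidHom :=
    (e.permCongrHom : Equiv.Perm α ≃* Equiv.Perm (ZMod p)).injective
  have hHG : transport e (H.map G.subtype) ≤ transport e G :=
    Subgroup.map_mono (Subgroup.map_subtype_le H)
  have hτ : tau p ∈ transport e G := tau_mem_transport e G g₀ hg₀ he
  have hneg : Equiv.neg (ZMod p) ∈ transport e (H.map G.subtype) := by
    rw [mem_transport]
    refine ⟨t, ⟨⟨t, ht⟩, htH, rfl⟩, fun a => ?_⟩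
    rw [Equiv.neg_apply, het]
  have hcG : Nat.card (transport e G) = Nat.card G := by
    unfold transport
    exact Subgroup.card_map_of_injective hinj
  have hcH : Nat.card (transport e (H.map G.subtype)) = Nat.card H := by
    unfold transport
    rw [Subgroup.card_map_of_injective hinj,
      Subgroup.card_map_of_injective (Subgroup.subtype_injective G)]
  have hcard : Nat.card (transport e G) = p * Nat.card (transport e (H.map G.subtype)) := by
    rw [hcG, hcH, ← hH, mul_comm, H.card_mul_index]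
  have key := fix_zero hp2 _ _ hHG hτ hneg hcard
  intro h hh
  rw [MulAction.mem_stabilizer_iff]
  have hh' : e.permCongr (h : Equiv.Perm α) ∈ transport e (H.map G.subtype) := by
    rw [mem_transport]
    exact ⟨h, ⟨h, hh, rfl⟩, fun a => by simp⟩
  have h0 := key _ hh'
  rw [Equiv.permCongr_apply] at h0
  apply e.injective
  rw [Equiv.apply_symm_apply]
  exact h0

end Cfsg.Agent.Lib.Helper4.PrimeDegSub
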