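import Mathlib
import Cfsg.Prelude.Def_Blocks
import Cfsg.Agent.Lib.helper3.BlockCount

set_option autoImplicit false
set_option linter.style.haveILetI false
set_option linter.unusedSectionVars false
set_option maxHeartbeats 1000000

/-! An irreducible character of odd degree which is inversion invariant on the elements of odd
order lies in the principal `2`-block (helper4, for S4580; generalises helper3's
`mem_principalBlock_of_real_of_odd`). -/

namespace Cfsg.Agent.Lib.Helper4.RealExt

open Cfsg Module Cfsg.Agent.Lib.helper3.CharBasic Cfsg.Agent.Lib.helper3.Irr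
open Cfsg.Agent.Lib.helper3.Central Cfsg.Agent.Lib.helper3.LocalM Cfsg.Agent.Lib.helper3.IndFun
open Cfsg.Agent.Lib.helper3.Lin Cfsg.Agent.Lib.helper3.HallNilp Cfsg.Agent.Lib.helper3.Block
open scoped ComplexConjugate

universe u

variable {G : Type u} [Group G] [Fintype G] {M : Ideal AlgInt}

open Classical in
theorem mem_principalBlock_of_inv_of_odd (hM : IsPModular 2 M) (χ : IrrCharacter G)
    (hinv' : ∀ g : G, ¬ 2 ∣ orderOf g → (χ : G → ℂ) g⁻¹ = (χ : G → ℂ) g)
    (hodd : Odd (charDegree (χ : G → ℂ))) :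
    χ ∈ principalBlock M G := by
  haveI hMp := isPrime_of_isPModular hM
  have hMtop : M ≠ ⊤ := hM.2.1.ne_top
  have hχc := isCharacter_of_isIrrCharacter χ.2
  apply mem_principalBlock_of_regOmega hM χ
  have hd0 : ((charDegree (χ : G → ℂ) : ℕ) : ℂ) ≠ 0 := by
    exact_mod_cast charDegree_ne_zero χ
  obtain ⟨f, hfdef⟩ : ∃ f : G → ℂ, f = fun g => if 2 ∣ orderOf g then 0 else (χ : G → ℂ) g :=
    ⟨_, rfl⟩
  have hfapp : ∀ g, f g = if 2 ∣ orderOf g then 0 else (χ : G → ℂ) g := fun g => by rw [hfdef]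
  have hinv : ∀ g : G, f g⁻¹ = f g := by
    intro g
    rw [hfapp, hfapp, orderOf_inv]
    by_cases h2 : 2 ∣ orderOf g
    · rw [if_pos h2, if_pos h2]
    · rw [if_neg h2, if_neg h2, hinv' g h2]
  have hfint : ∀ g, IsIntegral ℤ (f g) := by
    intro g
    rw [hfapp]
    split_ifs
    · exact isIntegral_zero
    · exact isIntegral_of_isCharacter hχc g
  obtain ⟨T, hTdef⟩ : ∃ T : Finset G, T = Finset.univ.filter
      (fun g : G => ¬ 2 ∣ orderOf g ∧ g ≠ 1) := ⟨_, rfl⟩
  have hTinv : ∀ g ∈ T, g⁻¹ ∈ T := by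
    intro g hg
    rw [hTdef, Finset.mem_filter] at hg ⊢
    refine ⟨Finset.mem_univ _, ?_, ?_⟩
    · rw [orderOf_inv]
      exact hg.2.1
    · intro h
      exact hg.2.2 (inv_eq_one.mp h)
  have hTne : ∀ g ∈ T, g⁻¹ ≠ g := by
    intro g hg h
    rw [hTdef, Finset.mem_filter] at hg
    have h1 : g ^ 2 = 1 := by
      rw [pow_two]
      nth_rewrite 1 [← h]
      exact inv_mul_cancel g
    have h2 := orderOf_dvd_of_pow_eq_one h1
    rcases (Nat.dvd_prime Nat.prime_two).mp h2 with h3 | h3
    · exact hg.2.2 (orderOf_eq_one_iff.mp h3)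
    · apply hg.2.1
      rw [h3]
  obtain ⟨S, hS⟩ := exists_sum_eq_two_mul T hTinv hTne f hinv
  have hTf : ∑ g ∈ T, f g = ∑ g ∈ T, (χ : G → ℂ) g := by
    refine Finset.sum_congr rfl fun g hg => ?_
    rw [hTdef, Finset.mem_filter] at hg
    rw [hfapp, if_neg hg.2.1]
  have hsplit : ∑ g : G, (if 2 ∣ orderOf g then (0 : ℂ) else 1) * (χ : G → ℂ) g
      = (χ : G → ℂ) 1 + ∑ g ∈ T, (χ : G → ℂ) g := by
    have h1 : ∀ g : G, (if 2 ∣ orderOf g then (0 : ℂ) else 1) * (χ : G → ℂ) g
        = (if g = 1 then (χ : G → ℂ) 1 else 0)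
          + (if ¬ 2 ∣ orderOf g ∧ g ≠ 1 then (χ : G → ℂ) g else 0) := by
      intro g
      by_cases hg1 : g = 1
      · subst hg1
        rw [orderOf_one, if_neg (by norm_num), one_mul, if_pos rfl, if_neg (by simp), add_zero]
      · rw [if_neg hg1, zero_add]
        by_cases h2 : 2 ∣ orderOf g
        · rw [if_pos h2, if_neg (by tauto), zero_mul]
        · rw [if_neg h2, if_pos ⟨h2, hg1⟩, one_mul]
    rw [Finset.sum_congr rfl (fun g _ => h1 g), Finset.sum_add_distrib,
      Finset.sum_ite_eq' Finset.univ (1 : G), if_pos (Finset.mem_univ _), hTdef,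
      Finset.sum_filter]
  have hreg : regOmega 2 (χ : G → ℂ) = 1 + 2 * ((∑ g ∈ S, f g)
      / ((charDegree (χ : G → ℂ) : ℕ) : ℂ)) := by
    unfold regOmega
    have : ∑ g : G, (if 2 ∣ orderOf g then (0 : ℂ) else 1)
        * ((χ : G → ℂ) g / (χ : G → ℂ) 1)
        = (∑ g : G, (if 2 ∣ orderOf g then (0 : ℂ) else 1) * (χ : G → ℂ) g)
          / (χ : G → ℂ) 1 := by
      rw [Finset.sum_div]
      apply Finset.sum_congr rfl
      intro g _
      ring
    rw [this, hsplit, ← hTf, hS, apply_one_eq_charDegree]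
    field_simp
  intro hmem
  have hlocS : MemLocalRing M ((∑ g ∈ S, f g)
      / ((charDegree (χ : G → ℂ) : ℕ) : ℂ)) := by
    have h1 : MemLocalRing M (∑ g ∈ S, f g) :=
      memLocalRing_of_integral (IsIntegral.sum _ (fun g _ => hfint g))
    have h2 : MemLocalRing M ((1 : ℂ) / ((charDegree (χ : G → ℂ) : ℕ) : ℂ)) := by
      have := memLocalRing_natCast_div hM 1 (charDegree (χ : G → ℂ)) one_ne_zero
        (charDegree_ne_zero χ) (by
          rw [Nat.factorization_eq_zero_of_not_dvd]
          · exact Nat.zero_le _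
          · intro hdvd
            exact (Nat.not_even_iff_odd.mpr hodd) (even_iff_two_dvd.mpr hdvd))
      simpa using this
    have := memLocalRing_mul h1 h2
    convert this using 1
    ring
  have h2M : MemLocalIdeal M (2 : ℂ) := by
    have h2 : ((2 : ℕ) : AlgInt) ∈ M := (natCast_mem_iff hM 2).2 dvd_rfl
    have := memLocalIdeal_of_mem h2 hMtop
    convert this using 1
    push_cast
    rfl
  have h3 : MemLocalIdeal M (2 * ((∑ g ∈ S, f g)
      / ((charDegree (χ : G → ℂ) : ℕ) : ℂ))) := by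
    have := memLocalIdeal_mul_localRing hlocS h2M
    convert this using 1
    ring
  rw [hreg] at hmem
  have h4 := memLocalIdeal_sub hmem h3
  rw [add_sub_cancel_right] at h4
  exact not_memLocalIdeal_one h4

end Cfsg.Agent.Lib.Helper4.RealExt
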