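import Mathlib
import Cfsg.Agent.Lib.Helper4.RealNorm1

/-!
# S4865, piece B: the absolute odd-index package for real characters
-/

set_option autoImplicit false
set_option linter.style.haveILetI false
set_option linter.unusedSectionVars false
set_option linter.unusedVariables false

namespace Cfsg.Agent.Lib.Helper4.RealOddB

open Cfsg Cfsg.Agent.Lib.helper3.Irr Cfsg.Agent.Lib.helper3.CharBasic
open Cfsg.Agent.Lib.Helper4.FS Cfsg.Agent.Lib.Helper4.RealNorm
open scoped ComplexConjugate

/-- An involution of a finite set of odd size has a fixed point. -/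
theorem exists_fixed_of_involutive_odd {α : Type*} [DecidableEq α] (s : Finset α) (c : α → α)
    (hc : ∀ a ∈ s, c a ∈ s) (hinv : ∀ a ∈ s, c (c a) = a) (hodd : Odd s.card) :
    ∃ a ∈ s, c a = a := by
  by_contra hne
  push Not at hne
  have h0 : ∑ x ∈ s, (1 : ZMod 2) = 0 := by
    apply Finset.sum_involution (fun a _ => c a)
    · intro a ha
      decide
    · intro a ha _
      exact hne a ha
    · intro a ha
      exact hc a ha
    · intro a ha
      exact hinv a ha
  rw [Finset.sum_const, nsmul_eq_mul, mul_one] at h0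
  have h1 : (2 : ℕ) ∣ s.card := (ZMod.natCast_eq_zero_iff _ _).mp h0
  rw [← even_iff_two_dvd] at h1
  exact (Nat.not_even_iff_odd.mpr hodd) h1

variable {G : Type*} [Group G] [Fintype G] (N : Subgroup G) [hN : N.Normal] [Fintype N]

/-- The orbit of a class function of `N` under `G` has size dividing the index. -/
theorem orbit_ncard_dvd_index (θ : ↥N → ℂ) (hθ : IsClassFunction ↥N θ) :
    (Set.range (conjFun N θ)).ncard ∣ N.index := by
  classical
  letI := conjAct N
  have h1 : N ≤ MulAction.stabilizer G θ := by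
    intro n hn
    rw [MulAction.mem_stabilizer_iff]
    show conjFun N θ n⁻¹ = θ
    funext k
    unfold conjFun
    have : (⟨n⁻¹ * (k : G) * n⁻¹⁻¹, hN.conj_mem k k.2 n⁻¹⟩ : ↥N) =
        (⟨n, hn⟩ : ↥N)⁻¹ * k * (⟨n, hn⟩ : ↥N)⁻¹⁻¹ := by
      apply Subtype.ext
      simp
    rw [this]
    exact hθ k _
  have h2 := Subgroup.index_dvd_of_le h1
  have h3 : (MulAction.stabilizer G θ).index = (MulAction.orbit G θ).ncard :=
    MulAction.index_stabilizer G θ
  have h4 : MulAction.orbit G θ = Set.range (conjFun N θ) := by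
    ext ψ
    constructor
    · rintro ⟨g, rfl⟩
      exact ⟨g⁻¹, rfl⟩
    · rintro ⟨g, rfl⟩
      refine ⟨g⁻¹, ?_⟩
      show conjFun N θ g⁻¹⁻¹ = conjFun N θ g
      rw [inv_inv]
  rw [h3, h4] at h2
  exact h2

/-- A real irreducible character has a real irreducible constituent on a normal subgroup of odd
index. -/
theorem exists_real_under (hodd : Odd N.index) (χ : IrrCharacter G)
    (hχ : ∀ g, ((χ : G → ℂ) g).im = 0) :
    ∃ θ : IrrCharacter N, (∀ n, ((θ : N → ℂ) n).im = 0) ∧
      classInner (fun n : N => (χ : G → ℂ) n) (θ : N → ℂ) ≠ 0 := by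
  classical
  have hχc := isCharacter_of_isIrrCharacter χ.2
  have hres := isCharacter_restrict hχc N
  have hne : (fun n : N => (χ : G → ℂ) n) ≠ 0 := by
    intro h
    have h1 := congrFun h 1
    obtain ⟨d, hd, -, hdpos⟩ := Cfsg.Agent.Lib.helper3.Central.irr_degree_dvd_card χ.2
    have h2 : (χ : G → ℂ) 1 = 0 := h1
    rw [hd] at h2
    have : d = 0 := by exact_mod_cast h2
    omega
  obtain ⟨θ₀, hθ₀⟩ := exists_constituent hres hne
  -- the orbit
  set s : Finset (↥N → ℂ) := Finset.univ.image (conjFun N (θ₀ : N → ℂ)) with hs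
  have hsr : (s : Set (↥N → ℂ)) = Set.range (conjFun N (θ₀ : N → ℂ)) := by
    ext ψ
    simp [hs]
  have hcard : Odd s.card := by
    have h1 := orbit_ncard_dvd_index N (θ₀ : N → ℂ)
      (isClassFunction_of_isCharacter (isCharacter_of_isIrrCharacter θ₀.2))
    rw [← hsr, Set.ncard_coe_finset] at h1
    exact Odd.of_dvd_nat hodd h1
  -- complex conjugation preserves the orbit
  have hχreal : ∀ g, conj ((χ : G → ℂ) g) = (χ : G → ℂ) g :=
    fun g => Complex.conj_eq_iff_im.mpr (hχ g)
  have hconjmem : ∀ ψ ∈ s, (fun n => conj (ψ n)) ∈ s := by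
    intro ψ hψ
    obtain ⟨g, -, rfl⟩ := Finset.mem_image.mp hψ
    -- `conj θ₀` is a constituent
    let θc : IrrCharacter N := ⟨fun n => conj ((θ₀ : N → ℂ) n), isIrrCharacter_conj θ₀.2⟩
    have hθc : classInner (fun n : N => (χ : G → ℂ) n) (θc : N → ℂ) ≠ 0 := by
      have e : (fun n : N => (χ : G → ℂ) n) = fun n : N => conj ((χ : G → ℂ) n) := by
        funext n
        exact (hχreal n).symm
      rw [e]
      show classInner (fun n : N => conj ((χ : G → ℂ) n))
        (fun n => conj ((θ₀ : N → ℂ) n)) ≠ 0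
      rw [classInner_conj_conj]
      intro h
      apply hθ₀
      have := congrArg conj h
      simpa using this
    obtain ⟨g', hg'⟩ := Cfsg.Agent.Lib.helper3.RealOdd.exists_conj_of_constituents N χ θ₀ θc
      hθ₀ hθc
    apply Finset.mem_image.mpr
    refine ⟨g' * g, Finset.mem_univ _, ?_⟩
    rw [← conjFun_mul, ← hg']
    rfl
  obtain ⟨ψ, hψs, hψfix⟩ := exists_fixed_of_involutive_odd s (fun ψ => fun n => conj (ψ n))
    hconjmem (by
      intro ψ _
      funext n
      simp) hcard
  obtain ⟨g, -, rfl⟩ := Finset.mem_image.mp hψs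
  refine ⟨⟨conjFun N (θ₀ : N → ℂ) g, isIrrCharacter_conjFun N θ₀.2 g⟩, ?_, ?_⟩
  · intro n
    have := congrFun hψfix n
    exact Complex.conj_eq_iff_im.mp this
  · -- a conjugate of a constituent is a constituent
    have hcf := isClassFunction_of_isCharacter hχc
    have e : (fun n : N => (χ : G → ℂ) n) = conjFun N (fun n : N => (χ : G → ℂ) n) g := by
      funext n
      unfold conjFun
      exact (hcf (n : G) g).symm
    rw [e]
    show classInner (conjFun N (fun n : N => (χ : G → ℂ) n) g)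
      (conjFun N (θ₀ : N → ℂ) g) ≠ 0
    rw [conjFun_eq_comp, conjFun_eq_comp]
    have key := classInner_comp_mulEquiv (MulAut.conjNormal g : ↥N ≃* ↥N)
      (fun n : N => (χ : G → ℂ) n) (θ₀ : N → ℂ)
    intro h0
    apply hθ₀
    rw [← key]
    exact h0

/-- Over a real irreducible character of a normal subgroup of odd index lies at most one real
irreducible character (helper3's `RealOdd.real_over_unique`, arguments reordered). -/
theorem real_over_unique' (hodd : Odd N.index) (χ₁ χ₂ : IrrCharacter G)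
    (h₁ : ∀ g, ((χ₁ : G → ℂ) g).im = 0) (h₂ : ∀ g, ((χ₂ : G → ℂ) g).im = 0)
    (θ : IrrCharacter N) (hθ : ∀ n, ((θ : N → ℂ) n).im = 0)
    (c₁ : classInner (fun n : N => (χ₁ : G → ℂ) n) (θ : N → ℂ) ≠ 0)
    (c₂ : classInner (fun n : N => (χ₂ : G → ℂ) n) (θ : N → ℂ) ≠ 0) : χ₁ = χ₂ :=
  Cfsg.Agent.Lib.helper3.RealOdd.real_over_unique N hodd θ hθ χ₁ χ₂ h₁ h₂ c₁ c₂

/-- The multiplicity of a real `θ` in the real `χ` over it is one. -/
theorem real_over_mult_one (hodd : Odd N.index) (χ : IrrCharacter G)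
    (hχ : ∀ g, ((χ : G → ℂ) g).im = 0) (θ : IrrCharacter N)
    (hθ : ∀ n, ((θ : N → ℂ) n).im = 0)
    (c : classInner (fun n : N => (χ : G → ℂ) n) (θ : N → ℂ) ≠ 0) :
    classInner (fun n : N => (χ : G → ℂ) n) (θ : N → ℂ) = 1 := by
  classical
  have hsum := Cfsg.Agent.Lib.helper3.RealOdd.sum_fsInd_mul_classInner N hodd θ
  have hsingle : ∑ χ' : IrrCharacter G, fsInd (χ' : G → ℂ) *
      classInner (fun n : N => (χ' : G → ℂ) n) (θ : N → ℂ)
      = fsInd (χ : G → ℂ) * classInner (fun n : N => (χ : G → ℂ) n) (θ : N → ℂ) := by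
    apply Finset.sum_eq_single χ
    · intro χ' _ hχne
      by_contra hne'
      apply hχne
      have hχr : ∀ g : G, ((χ' : G → ℂ) g).im = 0 := by
        have := real_of_fsInd_ne_zero χ'.2 (left_ne_zero_of_mul hne')
        exact fun g => Complex.conj_eq_iff_im.mp (this g)
      exact real_over_unique' N hodd χ' χ hχr hχ θ hθ (right_ne_zero_of_mul hne') c
    · intro h
      exact absurd (Finset.mem_univ χ) h
  rw [hsingle] at hsum
  have hres := isCharacter_restrict (isCharacter_of_isIrrCharacter χ.2) N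
  obtain ⟨m, hm⟩ := exists_nat_classInner_of_isCharacter hres θ
  have hm' : classInner (fun n : N => (χ : G → ℂ) n) (θ : N → ℂ) = m := hm
  have hχreal : ∀ g : G, conj ((χ : G → ℂ) g) = (χ : G → ℂ) g :=
    fun g => Complex.conj_eq_iff_im.mpr (hχ g)
  have hθreal : ∀ n : N, conj ((θ : N → ℂ) n) = (θ : N → ℂ) n :=
    fun n => Complex.conj_eq_iff_im.mpr (hθ n)
  rw [hm'] at hsum ⊢
  rcases fsInd_eq_or_of_real χ.2 hχreal with h1 | h1 <;>
    rcases fsInd_eq_or_of_real θ.2 hθreal with h2 | h2 <;> rw [h1, h2] at hsum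
  · rw [one_mul] at hsum
    exact hsum
  · exfalso
    have h3 : ((m + 1 : ℕ) : ℂ) = 0 := by
      push_cast
      linear_combination hsum
    have : m + 1 = 0 := by exact_mod_cast h3
    omega
  · exfalso
    have h3 : ((m + 1 : ℕ) : ℂ) = 0 := by
      push_cast
      linear_combination -hsum
    have : m + 1 = 0 := by exact_mod_cast h3
    omega
  · linear_combination -hsum

/-- The degree of the real character over a real `θ`. -/
theorem real_over_apply_one (hodd : Odd N.index) [DecidableEq (↥N → ℂ)] (χ : IrrCharacter G)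
    (hχ : ∀ g, ((χ : G → ℂ) g).im = 0) (θ : IrrCharacter N)
    (hθ : ∀ n, ((θ : N → ℂ) n).im = 0)
    (c : classInner (fun n : N => (χ : G → ℂ) n) (θ : N → ℂ) ≠ 0) :
    (χ : G → ℂ) 1 =
      ((Finset.univ.image (conjFun N (θ : N → ℂ))).card : ℂ) * (θ : N → ℂ) 1 := by
  have hone := real_over_mult_one N hodd χ hχ θ hθ c
  have h := clifford N (χ : G → ℂ) χ.2 (θ : N → ℂ) θ.2 c
  rw [setOf_conj_eq, finsum_mem_coe_finset] at h
  have h1 := congrFun h 1
  rw [hone, one_smul, Finset.sum_apply] at h1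
  have h2 : ∀ ψ ∈ Finset.univ.image (conjFun N (θ : N → ℂ)), ψ 1 = (θ : N → ℂ) 1 := by
    intro ψ hψ
    obtain ⟨g, -, rfl⟩ := Finset.mem_image.mp hψ
    unfold conjFun
    have e : (⟨g * ((1 : ↥N) : G) * g⁻¹, hN.conj_mem (1 : ↥N) (1 : ↥N).2 g⟩ : ↥N) = 1 := by
      apply Subtype.ext
      simp
    rw [e]
  rw [Finset.sum_congr rfl h2, Finset.sum_const, nsmul_eq_mul] at h1
  exact h1

end Cfsg.Agent.Lib.Helper4.RealOddB
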