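import Mathlib
import Cfsg.Agent.H1.RealL0
import Cfsg.Agent.Lib.Helper4.RealOddB
import Cfsg.Agent.Lib.Helper8.IN1
import Cfsg.Agent.Lib.helper3.Degrees

/-!
# S4863, piece L3: if `K ⊴ X` has `p`-power index (`p` odd) and every real irreducible
character of `X` has degree prime to `p`, then every real irreducible character of `K`
is `X`-invariant.
-/

set_option autoImplicit false
set_option linter.style.haveILetI false
set_option linter.unusedSectionVars false
set_option linter.unusedVariables false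

namespace Cfsg.Agent.Lib.Helper4.RealL3

open Cfsg Cfsg.Agent.Lib.helper3.Irr Cfsg.Agent.Lib.helper3.CharBasic
open Cfsg.Agent.Lib.Helper4.FS Cfsg.Agent.Lib.Helper4.RealNorm
open Cfsg.Agent.H1.RealL
open scoped ComplexConjugate

universe u

theorem realInv_of_index_pow {X : Type u} [Group X] [Finite X] (p : ℕ) [hp : Fact p.Prime]
    (hp2 : p ≠ 2) (K : Subgroup X) [hK : K.Normal] (a : ℕ) (hidx : K.index = p ^ a)
    (hreal : ∀ χ : IrrCharacter X, (∀ g, ((χ : X → ℂ) g).im = 0) →
      ¬ p ∣ charDegree (χ : X → ℂ))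
    (P : Subgroup X) : RealInv K P := by
  classical
  letI : Fintype X := Fintype.ofFinite X
  letI : Fintype K := Fintype.ofFinite _
  intro θ hθ x hx k k' hk'
  have hodd : Odd K.index := by
    rw [hidx]
    exact Odd.pow (hp.out.odd_of_ne_two hp2)
  obtain ⟨χ, hχ, c⟩ := Cfsg.Agent.Lib.Helper8.IN.exists_real_over K hodd θ hθ
  have h1 := Cfsg.Agent.Lib.Helper4.RealOddB.real_over_apply_one K hodd χ hχ θ hθ c
  have h2 := Cfsg.Agent.Lib.Helper4.RealOddB.orbit_ncard_dvd_index K (θ : ↥K → ℂ)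
    (isClassFunction_of_isCharacter (isCharacter_of_isIrrCharacter θ.2))
  obtain ⟨d, hd, -, hdpos⟩ := Cfsg.Agent.Lib.helper3.Central.irr_degree_dvd_card θ.2
  set n := (Finset.univ.image (conjFun K (θ : ↥K → ℂ))).card with hn
  have hncard : (Set.range (conjFun K (θ : ↥K → ℂ))).ncard = n := by
    rw [hn, ← Set.ncard_coe_finset]
    congr 1
    ext ψ
    simp
  rw [hncard, hidx] at h2
  have h3 : (χ : X → ℂ) 1 = ((n * d : ℕ) : ℂ) := by
    rw [h1, hd]
    push_cast
    ring
  have h4 : charDegree (χ : X → ℂ) = n * d :=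
    Cfsg.Agent.Lib.Helper8.GSN.charDegree_eq_of_apply_one h3
  have h5 : ¬ p ∣ n := by
    intro h
    apply hreal χ hχ
    rw [h4]
    exact Dvd.dvd.mul_right h d
  obtain ⟨b, -, hb⟩ := (Nat.dvd_prime_pow hp.out).mp h2
  have hn1 : n = 1 := by
    rcases Nat.eq_zero_or_pos b with hb0 | hbpos
    · rw [hb, hb0, pow_zero]
    · exfalso
      apply h5
      rw [hb]
      exact dvd_pow_self p hbpos.ne'
  -- the orbit is a singleton
  have h6 : conjFun K (θ : ↥K → ℂ) x = conjFun K (θ : ↥K → ℂ) 1 := by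
    have hx' : conjFun K (θ : ↥K → ℂ) x ∈ Finset.univ.image (conjFun K (θ : ↥K → ℂ)) :=
      Finset.mem_image_of_mem _ (Finset.mem_univ _)
    have h1' : conjFun K (θ : ↥K → ℂ) 1 ∈ Finset.univ.image (conjFun K (θ : ↥K → ℂ)) :=
      Finset.mem_image_of_mem _ (Finset.mem_univ _)
    exact Finset.card_le_one.mp (le_of_eq hn1) _ hx' _ h1'
  have h7 := congrFun h6 k
  unfold conjFun at h7
  have e1 : (⟨x * (k : X) * x⁻¹, hK.conj_mem k k.2 x⟩ : ↥K) = k' := Subtype.ext hk'.symm
  have e2 : (⟨1 * (k : X) * (1 : X)⁻¹, hK.conj_mem k k.2 1⟩ : ↥K) = k := by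
    apply Subtype.ext
    simp
  rw [e1, e2] at h7
  exact h7

end Cfsg.Agent.Lib.Helper4.RealL3
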