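import Mathlib
import Cfsg.Agent.Lib.Helper4.RobDefs
import Cfsg.Agent.Lib.helper3.Inflate

set_option autoImplicit false

/-! Inflation of irreducible characters of `G ⧸ D`, as an `IrrCharacter G` (helper4, for S4443). -/

namespace Cfsg.Agent.Lib.Helper4.Rob

open Cfsg Cfsg.Agent.Lib.helper3.Irr

variable {G : Type*} [Group G] [Finite G]

/-- the inflation of an irreducible character of `G ⧸ D` -/
noncomputable def infl (D : Subgroup G) [D.Normal] (ψ : IrrCharacter (G ⧸ D)) : IrrCharacter G :=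
  ⟨inflate D (ψ : G ⧸ D → ℂ), isIrrCharacter_inflate D ψ.2⟩

theorem infl_apply (D : Subgroup G) [D.Normal] (ψ : IrrCharacter (G ⧸ D)) (g : G) :
    (infl D ψ : G → ℂ) g = (ψ : G ⧸ D → ℂ) (g : G ⧸ D) := rfl

theorem infl_injective (D : Subgroup G) [D.Normal] : Function.Injective (infl D) := by
  intro ψ φ h
  apply Subtype.ext
  apply inflate_injective D
  exact congrArg (fun χ : IrrCharacter G => (χ : G → ℂ)) h

theorem charDegree_infl (D : Subgroup G) [D.Normal] (ψ : IrrCharacter (G ⧸ D)) :
    charDegree (infl D ψ : G → ℂ) = charDegree (ψ : G ⧸ D → ℂ) := by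
  unfold charDegree
  rw [infl_apply, QuotientGroup.mk_one]

end Cfsg.Agent.Lib.Helper4.Rob
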