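import Mathlib
import Cfsg.Prelude.Def_Characters
import Cfsg.Prelude.Def_Blocks
import Cfsg.Agent.Lib.helper3.PKer1
import Cfsg.Agent.Lib.helper3.RealOdd3
import Cfsg.Agent.Lib.Helper4.RobDefs2

/-!
# S4861: the three character lemmas (C1, C2, C3) used by the group-theoretic skeleton
-/

set_option autoImplicit false
set_option linter.style.haveILetI false
set_option linter.unusedSectionVars false
set_option linter.unusedVariables false

namespace Cfsg.Agent.Lib.Helper4.RealSylC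

open Cfsg Cfsg.Agent.Lib.helper3.Irr Cfsg.Agent.Lib.helper3.CharBasic
open Cfsg.Agent.Lib.Helper4.FS
open scoped ComplexConjugate

universe u

variable {G : Type u} [Group G] [Finite G]

/-- (C1) If all real irreducible characters of `G` have degree prime to `p`, so do those of a
normal subgroup of odd index. -/
theorem not_dvd_degree_of_odd_index (p : ℕ) (N : Subgroup G) [N.Normal] (hodd : Odd N.index)
    (hreal : ∀ χ : IrrCharacter G, (∀ g, ((χ : G → ℂ) g).im = 0) →
      ¬ p ∣ charDegree (χ : G → ℂ)) :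
    ∀ θ : IrrCharacter ↥N, (∀ k, ((θ : ↥N → ℂ) k).im = 0) →
      ¬ p ∣ charDegree (θ : ↥N → ℂ) := by
  classical
  letI : Fintype G := Fintype.ofFinite G
  letI : Fintype N := Fintype.ofFinite N
  intro θ hθ
  obtain ⟨χ, hfs, hcon⟩ := Cfsg.Agent.Lib.helper3.RealOdd.exists_real_over N hodd θ hθ
  have hχr : ∀ g : G, ((χ : G → ℂ) g).im = 0 := by
    have := real_of_fsInd_ne_zero χ.2 hfs
    exact fun g => Complex.conj_eq_iff_im.mp (this g)
  have h1 := hreal χ hχr
  obtain ⟨dχ, hdχ, -, -⟩ := Cfsg.Agent.Lib.helper3.Central.irr_degree_dvd_card χ.2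
  obtain ⟨dθ, hdθ, -, -⟩ := Cfsg.Agent.Lib.helper3.Central.irr_degree_dvd_card θ.2
  have hdvd := constituent_degree_dvd N (χ : G → ℂ) χ.2 (θ : ↥N → ℂ) θ.2 hcon dχ dθ hdχ hdθ
  rw [Cfsg.Agent.Lib.helper3.Pdeg.charDegree_eq' hdχ] at h1
  rw [Cfsg.Agent.Lib.helper3.Pdeg.charDegree_eq' hdθ]
  exact fun h => h1 (h.trans hdvd)

/-- (C2) If all real irreducible characters of `G` have degree prime to `p`, so do those of a
quotient. -/
theorem not_dvd_degree_quot (p : ℕ) (N : Subgroup G) [N.Normal]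
    (hreal : ∀ χ : IrrCharacter G, (∀ g, ((χ : G → ℂ) g).im = 0) →
      ¬ p ∣ charDegree (χ : G → ℂ)) :
    ∀ ψ : IrrCharacter (G ⧸ N), (∀ g, ((ψ : G ⧸ N → ℂ) g).im = 0) →
      ¬ p ∣ charDegree (ψ : G ⧸ N → ℂ) := by
  intro ψ hψ
  rw [← Cfsg.Agent.Lib.Helper4.Rob.charDegree_infl N ψ]
  apply hreal (Cfsg.Agent.Lib.Helper4.Rob.infl N ψ)
  intro g
  rw [Cfsg.Agent.Lib.Helper4.Rob.infl_apply]
  exact hψ _

/-- (C3) A normal subgroup in which a Sylow `p`-subgroup has no nontrivial fixed point lies in the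
kernel of every irreducible character of degree prime to `p`.  (The hypotheses `hab`, `hcop` are
not needed.) -/
theorem apply_eq_one_of_centralizer_trivial (p : ℕ) [Fact p.Prime] (P : Sylow p G)
    (N : Subgroup G) [N.Normal] (hab : ∀ a ∈ N, ∀ b ∈ N, a * b = b * a)
    (hcop : ¬ p ∣ Nat.card N)
    (hC : ∀ n ∈ N, (∀ x ∈ (P : Subgroup G), x * n = n * x) → n = 1)
    (χ : IrrCharacter G) (hχ : ¬ p ∣ charDegree (χ : G → ℂ)) :
    ∀ n ∈ N, (χ : G → ℂ) n = (χ : G → ℂ) 1 := by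
  apply Cfsg.Agent.Lib.helper3.PKer.apply_eq_of_inf_centralizer_eq_bot p P N ?_ χ hχ
  rw [eq_bot_iff]
  intro n hn
  rw [Subgroup.mem_inf] at hn
  rw [Subgroup.mem_bot]
  apply hC n hn.1
  intro x hx
  exact (Subgroup.mem_centralizer_iff.mp hn.2 x hx)

end Cfsg.Agent.Lib.Helper4.RealSylC
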