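import Mathlib
import Cfsg.Agent.H1.RealL0
import Cfsg.Agent.Lib.Helper8.IN5
import Cfsg.Agent.Lib.Helper4.RealSylC

/-!
# S4863, piece L4: the assembly (Lemma L + S4861 ⇒ `U` has a normal Sylow `p`-subgroup)
-/

set_option autoImplicit false
set_option linter.style.haveILetI false
set_option linter.unusedSectionVars false
set_option linter.unusedVariables false
set_option maxHeartbeats 800000

namespace Cfsg.Agent.Lib.Helper4.RealL4

open Cfsg Cfsg.Agent.H1.RealL Cfsg.Agent.Lib.Helper8.IN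
open scoped commutatorElement

universe u

variable {G : Type u} [Group G] [Finite G]

/-- The subgroup generated by the `2`-elements of `G`, inside a subgroup `U` containing it, lies in
the subgroup generated by the `2`-elements of `U`. -/
theorem gen_two_subgroupOf_le (U : Subgroup G) (hKU : gen 2 G ≤ U) :
    (gen 2 G).subgroupOf U ≤ gen 2 ↥U := by
  have h1 : gen 2 G ≤ (gen 2 ↥U).map U.subtype := by
    rw [gen, gen, MonoidHom.map_closure, Subgroup.closure_le]
    rintro g ⟨k, hk⟩
    apply Subgroup.subset_closure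
    have hgU : g ∈ U := hKU (Subgroup.subset_closure ⟨k, hk⟩)
    refine ⟨⟨g, hgU⟩, ⟨k, ?_⟩, rfl⟩
    rw [← hk]
    exact Subgroup.orderOf_mk g hgU
  intro x hx
  rw [Subgroup.mem_subgroupOf] at hx
  obtain ⟨y, hy, hyx⟩ := h1 hx
  have : y = x := Subtype.ext hyx
  rw [← this]
  exact hy

/-- **L4.** -/
theorem normal_sylow_of_lemmaL (p : ℕ) [hp : Fact p.Prime]
    (hL : p ≠ 2 → LStmt.{u} p)
    (hL3 : p ≠ 2 → ∀ (X : Type u) [Group X] [Finite X] (K : Subgroup X) [K.Normal] (a : ℕ),
      K.index = p ^ a →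
      (∀ χ : IrrCharacter X, (∀ g, ((χ : X → ℂ) g).im = 0) → ¬ p ∣ charDegree (χ : X → ℂ)) →
      ∀ P : Subgroup X, RealInv K P)
    (hsolv : Group.IsSolvable ↥(gen p G))
    (hreal : ∀ χ : IrrCharacter G, (∀ g : G, ((χ : G → ℂ) g).im = 0) →
      ¬ p ∣ charDegree (χ : G → ℂ))
    (U : Subgroup G) (hU : U.Normal) (hKU : gen 2 G ≤ U)
    (hUp : ∃ a : ℕ, (gen 2 G).relIndex U = p ^ a) (Q : Sylow p ↥U) :
    (Q : Subgroup ↥U).Normal := by
  classical
  haveI hKn : (gen 2 G).Normal := gen_normal 2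
  have hoddK : Odd (gen 2 G).index := odd_index_gen_two
  obtain ⟨a, ha⟩ := hUp
  by_cases hp2 : p = 2
  · subst hp2
    have h1 : (gen 2 G).relIndex U ∣ (gen 2 G).index :=
      Subgroup.relIndex_dvd_index_of_normal (gen 2 G) U
    have h2 : Odd ((gen 2 G).relIndex U) := Odd.of_dvd_nat hoddK h1
    rw [ha] at h2
    have ha0 : a = 0 := by
      by_contra h
      exact (Nat.not_even_iff_odd.mpr h2) (Nat.even_pow.mpr ⟨even_two, h⟩)
    rw [ha0, pow_zero] at ha
    have hUK : U ≤ gen 2 G := Subgroup.relIndex_eq_one.mp ha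
    have hUeq : U = gen 2 G := le_antisymm hUK hKU
    subst hUeq
    exact normal_sylow_gen_two 2 hsolv hreal Q
  · haveI hLn : (gen p G).Normal := gen_normal p
    haveI hU' : U.Normal := hU
    obtain ⟨Q₀⟩ : Nonempty (Sylow p ↥(gen 2 G)) := inferInstance
    haveI hQ₀n : (Q₀ : Subgroup ↥(gen 2 G)).Normal := normal_sylow_gen_two p hsolv hreal Q₀
    haveI hQ₀c : (Q₀ : Subgroup ↥(gen 2 G)).Characteristic :=
      Sylow.characteristic_of_normal Q₀ hQ₀n
    set Q₀G : Subgroup G := (Q₀ : Subgroup ↥(gen 2 G)).map (gen 2 G).subtype with hQ₀G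
    haveI hQ₀Gn : Q₀G.Normal := ConjAct.normal_of_characteristic_of_normal
    have hQ₀GK : Q₀G ≤ gen 2 G := Subgroup.map_subtype_le _
    have hQ₀Gp : IsPGroup p ↥Q₀G := Q₀.2.map _
    -- the hypotheses of Lemma L in the group `U`
    have h5 : Q₀G.subgroupOf U ≤ (gen 2 G).subgroupOf U := Subgroup.subgroupOf_mono U hQ₀GK
    have h6 : ¬ p ∣ (Q₀G.subgroupOf U).relIndex ((gen 2 G).subgroupOf U) := by
      rw [Subgroup.relIndex_subgroupOf hKU]
      have e : Q₀G.subgroupOf (gen 2 G) = (Q₀ : Subgroup ↥(gen 2 G)) :=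
        Subgroup.comap_map_eq_self_of_injective (gen 2 G).subtype_injective _
      have e2 : Q₀G.relIndex (gen 2 G) = (Q₀ : Subgroup ↥(gen 2 G)).index := by
        unfold Subgroup.relIndex
        rw [e]
      rw [e2]
      exact Q₀.not_dvd_index
    have hidx : ((gen 2 G).subgroupOf U).index = p ^ a := ha
    have h7 : (gen 2 G).subgroupOf U ⊔ (Q : Subgroup ↥U) = ⊤ := by
      rw [← Subgroup.index_eq_one]
      have d1 : ((gen 2 G).subgroupOf U ⊔ (Q : Subgroup ↥U)).index ∣ p ^ a := by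
        rw [← hidx]
        exact Subgroup.index_dvd_of_le le_sup_left
      have d2 : ((gen 2 G).subgroupOf U ⊔ (Q : Subgroup ↥U)).index ∣ (Q : Subgroup ↥U).index :=
        Subgroup.index_dvd_of_le le_sup_right
      obtain ⟨b, -, hb⟩ := (Nat.dvd_prime_pow hp.out).mp d1
      rw [hb] at d2 ⊢
      rcases Nat.eq_zero_or_pos b with h0 | hpos
      · rw [h0, pow_zero]
      · exfalso
        exact Q.not_dvd_index ((dvd_pow_self p hpos.ne').trans d2)
    have h8 : (gen 2 G).subgroupOf U ≤
        Subgroup.closure {g : ↥U | ∃ k : ℕ, orderOf g = 2 ^ k} := gen_two_subgroupOf_le U hKU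
    have h9 : Group.IsSolvable ↥((gen p G).subgroupOf U) := by
      let f : ↥((gen p G).subgroupOf U) →* ↥(gen p G) :=
        (U.subtype.comp ((gen p G).subgroupOf U).subtype).codRestrict (gen p G)
          (fun x => x.2)
      have hf : Function.Injective f := by
        intro x y hxy
        have := congrArg Subtype.val hxy
        exact Subtype.ext (Subtype.ext this)
      exact Group.isSolvable_of_isSolvable_injective hf
    have hQL : (Q : Subgroup ↥U) ≤ (gen p G).subgroupOf U := by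
      intro x hx
      rw [Subgroup.mem_subgroupOf]
      have h1 : IsPGroup p ↥((Q : Subgroup ↥U).map U.subtype) := Q.2.map _
      exact le_gen_of_isPGroup p _ h1 (Subgroup.mem_map_of_mem U.subtype hx)
    have h10 : ⁅(gen 2 G).subgroupOf U, (Q : Subgroup ↥U)⁆ ≤ (gen p G).subgroupOf U :=
      (Subgroup.commutator_mono le_rfl hQL).trans (Subgroup.commutator_le_right _ _)
    have hoddU : Odd U.index := Odd.of_dvd_nat hoddK (Subgroup.index_dvd_of_le hKU)
    have hrealU := Cfsg.Agent.Lib.Helper4.RealSylC.not_dvd_degree_of_odd_index p U hoddU hreal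
    have h11 : RealInv ((gen 2 G).subgroupOf U) (Q : Subgroup ↥U) :=
      hL3 hp2 ↥U ((gen 2 G).subgroupOf U) a hidx hrealU (Q : Subgroup ↥U)
    have key := hL hp2 ↥U ((gen 2 G).subgroupOf U) (Q : Subgroup ↥U) ((gen p G).subgroupOf U)
      (Q₀G.subgroupOf U) inferInstance inferInstance inferInstance Q.2 h5 h6 h7 h8 h9 h10 h11
    have hQ₀Q : Q₀G.subgroupOf U ≤ (Q : Subgroup ↥U) :=
      le_sylow_of_normal Q (Q₀G.subgroupOf U) hQ₀Gp.comap_subtype
    have hcomm : ⁅(gen 2 G).subgroupOf U, (Q : Subgroup ↥U)⁆ ≤ (Q : Subgroup ↥U) :=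
      key.trans hQ₀Q
    have hKN : (gen 2 G).subgroupOf U ≤ Subgroup.normalizer ((Q : Subgroup ↥U) : Set ↥U) := by
      intro k hk
      rw [Subgroup.mem_normalizer_iff]
      intro h
      constructor
      · intro hh
        have h1 : ⁅k, h⁆ ∈ (Q : Subgroup ↥U) :=
          hcomm (Subgroup.commutator_mem_commutator hk hh)
        have h2 := Subgroup.mul_mem _ h1 hh
        have e : ⁅k, h⁆ * h = k * h * k⁻¹ := by
          rw [commutatorElement_def]
          group
        rwa [e] at h2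
      · intro hh
        have h1 : ⁅k⁻¹, k * h * k⁻¹⁆ ∈ (Q : Subgroup ↥U) :=
          hcomm (Subgroup.commutator_mem_commutator (Subgroup.inv_mem _ hk) hh)
        have h2 := Subgroup.mul_mem _ h1 hh
        have e : ⁅k⁻¹, k * h * k⁻¹⁆ * (k * h * k⁻¹) = h := by
          rw [commutatorElement_def]
          group
        rwa [e] at h2
    rw [← Subgroup.normalizer_eq_top_iff, eq_top_iff, ← h7]
    exact sup_le hKN Subgroup.le_normalizer

end Cfsg.Agent.Lib.Helper4.RealL4
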