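import Mathlib
import Cfsg.Agent.Lib.Helper4.RealNorm1
import Cfsg.Agent.Lib.helper3.GlP5
import Cfsg.Agent.Lib.Helper8.GS2

/-!
# S4864, part 2: reality and equivariance of the Glauberman correspondence for `P` acting on `K`
-/

set_option autoImplicit false
set_option linter.style.haveILetI false
set_option linter.unusedSectionVars false
set_option linter.unusedVariables false

namespace Cfsg.Agent.Lib.Helper4.RealNorm

open Cfsg Cfsg.Agent.Lib.helper3.Irr Cfsg.Agent.Lib.helper3.CharBasic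
open Cfsg.Agent.Lib.helper3.GlP Cfsg.Agent.Lib.helper3.Glaub
open Cfsg.Agent.Lib.Helper8.GS (ConjBy)
open scoped ComplexConjugate

universe u

variable {G : Type u} [Group G]

/-- The fixed points of `P` in `K`. -/
abbrev C0 (p : ℕ) (K : Subgroup G) (P : Sylow p G) : Subgroup G :=
  K ⊓ Subgroup.centralizer ((P : Subgroup G) : Set G)

theorem conjFun_eq_iff_invUnder (K : Subgroup G) [hK : K.Normal] (f : ↥K → ℂ) (s : G) :
    conjFun K f s = f ↔ InvUnder K f s := by
  constructor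
  · intro h g g' hg'
    have h1 := congrFun h g
    unfold conjFun at h1
    have : g' = ⟨s * g * s⁻¹, hK.conj_mem g g.2 s⟩ := Subtype.ext hg'
    rw [this]
    exact h1
  · intro h
    funext g
    exact h g ⟨s * g * s⁻¹, hK.conj_mem g g.2 s⟩ rfl

variable [Fintype G] (p : ℕ) [hp : Fact p.Prime] (K : Subgroup G) [hKn : K.Normal] [Fintype K]
  (P : Sylow p G) [Fintype ↥(C0 p K P)]

/-- The correspondence for `P` acting on the normal `p'`-subgroup `K`. -/
theorem corrK (hK : ¬ p ∣ Nat.card K) :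
    Corr p K (P : Subgroup G) (C0 p K P) inf_le_left := by
  have hnorm : (P : Subgroup G) ≤ Subgroup.normalizer (K : Set G) := by
    rw [Subgroup.normalizer_eq_top]
    exact le_top
  have hcop : (Nat.card K).Coprime (Nat.card (P : Subgroup G)) := by
    obtain ⟨k, hk⟩ := IsPGroup.iff_card.mp P.isPGroup'
    rw [hk]
    exact Nat.Coprime.pow_right k ((Nat.Prime.coprime_iff_not_dvd hp.out).mpr hK).symm
  exact corr_all p _ (P : Subgroup G) rfl P.isPGroup' K hnorm hcop _ rfl inf_le_left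

/-- The multiplicity function. -/
noncomputable def mult (χ : ↥K → ℂ) (β : ↥(C0 p K P) → ℂ) : ℂ :=
  classInner (fun c : ↥(C0 p K P) => χ ⟨c, (inf_le_left : C0 p K P ≤ K) c.2⟩) β

theorem mult_conj (χ : ↥K → ℂ) (β : ↥(C0 p K P) → ℂ) :
    mult p K P (fun k => conj (χ k)) (fun c => conj (β c)) = conj (mult p K P χ β) := by
  unfold mult
  exact classInner_conj_conj _ _

/-- The correspondent of a real invariant character is real. -/
theorem real_correspondent (hK : ¬ p ∣ Nat.card K) (χ : IrrCharacter K)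
    (hχP : ∀ s ∈ (P : Subgroup G), InvUnder K (χ : K → ℂ) s)
    (hχr : ∀ k, ((χ : K → ℂ) k).im = 0) (β : IrrCharacter ↥(C0 p K P)) (m : ℕ)
    (hm : mult p K P (χ : K → ℂ) (β : ↥(C0 p K P) → ℂ) = m) (hpm : ¬ p ∣ m) :
    ∀ c, ((β : ↥(C0 p K P) → ℂ) c).im = 0 := by
  obtain ⟨h1, -, -⟩ := corrK p K P hK
  obtain ⟨β₀, ε, hε, hβ₀⟩ := h1 χ hχP
  have key : ∀ β' : IrrCharacter ↥(C0 p K P), ∀ m' : ℕ,
      mult p K P (χ : K → ℂ) (β' : ↥(C0 p K P) → ℂ) = m' → ¬ p ∣ m' → β' = β₀ := by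
    intro β' m' hm' hpm'
    by_contra hne
    obtain ⟨a, ha, hmod⟩ := hβ₀ β'
    rw [if_neg hne] at hmod
    have ha' : (m' : ℂ) = a := by rw [← hm']; exact ha
    have : m' = a := by exact_mod_cast ha'
    have hdvd := Int.modEq_zero_iff_dvd.mp hmod
    apply hpm'
    rw [this]
    exact_mod_cast hdvd
  have e1 := key β m hm hpm
  let βc : IrrCharacter ↥(C0 p K P) :=
    ⟨fun c => conj ((β : ↥(C0 p K P) → ℂ) c), isIrrCharacter_conj β.2⟩
  have hmc : mult p K P (χ : K → ℂ) (βc : ↥(C0 p K P) → ℂ) = m := by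
    have hχc : (χ : K → ℂ) = fun k => conj ((χ : K → ℂ) k) := by
      funext k
      exact (Complex.conj_eq_iff_im.mpr (hχr k)).symm
    rw [hχc]
    show mult p K P (fun k => conj ((χ : K → ℂ) k))
      (fun c => conj ((β : ↥(C0 p K P) → ℂ) c)) = m
    rw [mult_conj, hm, Complex.conj_natCast]
  have e2 := key βc m hmc hpm
  intro c
  have : βc = β := e2.trans e1.symm
  have h3 := congrArg (fun b : IrrCharacter ↥(C0 p K P) => (b : ↥(C0 p K P) → ℂ) c) this
  exact Complex.conj_eq_iff_im.mp h3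

/-- An invariant character with a real correspondent is real. -/
theorem real_of_correspondent (hK : ¬ p ∣ Nat.card K) (χ : IrrCharacter K)
    (hχP : ∀ s ∈ (P : Subgroup G), InvUnder K (χ : K → ℂ) s)
    (β : IrrCharacter ↥(C0 p K P)) (hβr : ∀ c, ((β : ↥(C0 p K P) → ℂ) c).im = 0) (m : ℕ)
    (hm : mult p K P (χ : K → ℂ) (β : ↥(C0 p K P) → ℂ) = m) (hpm : ¬ p ∣ m) :
    ∀ k, ((χ : K → ℂ) k).im = 0 := by
  obtain ⟨-, h2, -⟩ := corrK p K P hK
  let χc : IrrCharacter K := ⟨fun k => conj ((χ : K → ℂ) k), isIrrCharacter_conj χ.2⟩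
  have hχcP : ∀ s ∈ (P : Subgroup G), InvUnder K (χc : K → ℂ) s := by
    intro s hs g g' hg
    show conj ((χ : K → ℂ) g') = conj ((χ : K → ℂ) g)
    rw [hχP s hs g g' hg]
  have hmc : mult p K P (χc : K → ℂ) (β : ↥(C0 p K P) → ℂ) = m := by
    have hβc : (β : ↥(C0 p K P) → ℂ) = fun c => conj ((β : ↥(C0 p K P) → ℂ) c) := by
      funext c
      exact (Complex.conj_eq_iff_im.mpr (hβr c)).symm
    rw [hβc]
    show mult p K P (fun k => conj ((χ : K → ℂ) k))
      (fun c => conj ((β : ↥(C0 p K P) → ℂ) c)) = m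
    rw [mult_conj, hm, Complex.conj_natCast]
  have e := h2 χ χc hχP hχcP β m m hm hpm hmc hpm
  intro k
  have h3 := congrArg (fun b : IrrCharacter K => (b : K → ℂ) k) e
  exact Complex.conj_eq_iff_im.mp h3.symm

/-- Uniqueness: two invariant characters with the same correspondent coincide. -/
theorem eq_of_correspondent (hK : ¬ p ∣ Nat.card K) (χ χ' : IrrCharacter K)
    (hχP : ∀ s ∈ (P : Subgroup G), InvUnder K (χ : K → ℂ) s)
    (hχ'P : ∀ s ∈ (P : Subgroup G), InvUnder K (χ' : K → ℂ) s)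
    (β : IrrCharacter ↥(C0 p K P)) (m m' : ℕ)
    (hm : mult p K P (χ : K → ℂ) (β : ↥(C0 p K P) → ℂ) = m) (hpm : ¬ p ∣ m)
    (hm' : mult p K P (χ' : K → ℂ) (β : ↥(C0 p K P) → ℂ) = m') (hpm' : ¬ p ∣ m') : χ = χ' := by
  obtain ⟨-, h2, -⟩ := corrK p K P hK
  exact h2 χ χ' hχP hχ'P β m m' hm hpm hm' hpm'

/-- Existence of an invariant character over a given character of the fixed points. -/
theorem exists_over_correspondent (hK : ¬ p ∣ Nat.card K) (β : IrrCharacter ↥(C0 p K P)) :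
    ∃ χ : IrrCharacter K, (∀ s ∈ (P : Subgroup G), InvUnder K (χ : K → ℂ) s) ∧
      ∃ m : ℕ, mult p K P (χ : K → ℂ) (β : ↥(C0 p K P) → ℂ) = m ∧ ¬ p ∣ m := by
  obtain ⟨-, -, h3⟩ := corrK p K P hK
  exact h3 β

/-- Existence of the correspondent. -/
theorem exists_correspondent (hK : ¬ p ∣ Nat.card K) (χ : IrrCharacter K)
    (hχP : ∀ s ∈ (P : Subgroup G), InvUnder K (χ : K → ℂ) s) :
    ∃ β : IrrCharacter ↥(C0 p K P), ∃ m : ℕ,
      mult p K P (χ : K → ℂ) (β : ↥(C0 p K P) → ℂ) = m ∧ ¬ p ∣ m := by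
  obtain ⟨h1, -, -⟩ := corrK p K P hK
  obtain ⟨β₀, ε, hε, hβ₀⟩ := h1 χ hχP
  obtain ⟨a, ha, hmod⟩ := hβ₀ β₀
  rw [if_pos rfl] at hmod
  exact ⟨β₀, a, ha, not_dvd_of_modEq_sign p hp.out a ε hε hmod⟩

end Cfsg.Agent.Lib.Helper4.RealNorm
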