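import Mathlib
import Cfsg.Agent.Lib.Helper4.RealNorm2
import Cfsg.Agent.Lib.Helper4.PRX2

/-!
# S4864, part 3: equivariance of the correspondence under `N_G(P)`
-/

set_option autoImplicit false
set_option linter.style.haveILetI false
set_option linter.unusedSectionVars false
set_option linter.unusedVariables false

namespace Cfsg.Agent.Lib.Helper4.RealNorm

open Cfsg Cfsg.Agent.Lib.helper3.Irr Cfsg.Agent.Lib.helper3.CharBasic
open Cfsg.Agent.Lib.helper3.GlP Cfsg.Agent.Lib.helper3.Glaub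
open Cfsg.Agent.Lib.Helper8.GS (ConjBy)
open scoped ComplexConjugate

universe u

variable {G : Type u} [Group G]

theorem inv_conj_mem_of_mem_normalizer (S : Subgroup G) {n : G}
    (hn : n ∈ Subgroup.normalizer (S : Set G)) {s : G} (hs : s ∈ S) : n⁻¹ * s * n ∈ S := by
  have := (Subgroup.mem_normalizer_iff.1 (Subgroup.inv_mem _ hn) s).1 hs
  simpa using this

theorem conj_mem_of_mem_normalizer (S : Subgroup G) {n : G}
    (hn : n ∈ Subgroup.normalizer (S : Set G)) {s : G} (hs : s ∈ S) : n * s * n⁻¹ ∈ S :=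
  (Subgroup.mem_normalizer_iff.1 hn s).1 hs

/-- `N_G(P)` normalizes `K ∩ C_G(P)`. -/
theorem mem_normalizer_C0 [Finite G] (p : ℕ) [hp : Fact p.Prime] (K : Subgroup G) [hKn : K.Normal]
    (P : Sylow p G) {n : G} (hn : n ∈ Subgroup.normalizer ((P : Subgroup G) : Set G)) :
    n ∈ Subgroup.normalizer ((C0 p K P : Subgroup G) : Set G) := by
  have key : ∀ m ∈ Subgroup.normalizer ((P : Subgroup G) : Set G), ∀ h ∈ C0 p K P,
      m * h * m⁻¹ ∈ C0 p K P := by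
    intro m hm h hh
    rw [Subgroup.mem_inf] at hh ⊢
    exact ⟨hKn.conj_mem h hh.1 m,
      Cfsg.Agent.Lib.Helper4.PRX.conj_mem_centralizer_of_mem_normalizer _ m hm h hh.2⟩
  rw [Subgroup.mem_normalizer_iff]
  intro h
  constructor
  · exact key n hn h
  · intro hh
    have := key n⁻¹ (Subgroup.inv_mem _ hn) _ hh
    have e : n⁻¹ * (n * h * n⁻¹) * n⁻¹⁻¹ = h := by group
    rwa [e] at this

variable [Fintype G] (p : ℕ) [hp : Fact p.Prime] (K : Subgroup G) [hKn : K.Normal] [Fintype K]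
  (P : Sylow p G) [Fintype ↥(C0 p K P)]

/-- Conjugation by `n ∈ N_G(P)` preserves multiplicities. -/
theorem mult_conjBy {n : G} (hn : n ∈ Subgroup.normalizer ((P : Subgroup G) : Set G))
    (χ ψ : ↥K → ℂ) (hψ : ConjBy K n χ ψ) (β β' : ↥(C0 p K P) → ℂ)
    (hβ : ConjBy (C0 p K P) n β β') :
    mult p K P ψ β' = mult p K P χ β := by
  classical
  have hnC := mem_normalizer_C0 p K P hn
  set σ : ↥(C0 p K P) ≃* ↥(C0 p K P) := conjN (C0 p K P) ⟨n, hnC⟩ with hσ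
  have h1 : (fun c : ↥(C0 p K P) => χ ⟨c, (inf_le_left : C0 p K P ≤ K) c.2⟩) =
      fun c => (fun c : ↥(C0 p K P) => ψ ⟨c, (inf_le_left : C0 p K P ≤ K) c.2⟩) (σ c) := by
    funext c
    exact (hψ ⟨c, (inf_le_left : C0 p K P ≤ K) c.2⟩
      ⟨σ c, (inf_le_left : C0 p K P ≤ K) (σ c).2⟩ rfl).symm
  have h2 : β = fun c => β' (σ c) := by
    funext c
    exact (hβ c (σ c) rfl).symm
  unfold mult
  conv_rhs => rw [h1, h2]
  exact (classInner_comp_mulEquiv σ _ β').symm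

/-- The conjugate by `n ∈ N_G(P)` of a `P`-invariant function is `P`-invariant. -/
theorem invUnder_conjBy {n : G} (hn : n ∈ Subgroup.normalizer ((P : Subgroup G) : Set G))
    (χ ψ : ↥K → ℂ) (hψ : ConjBy K n χ ψ)
    (hχP : ∀ s ∈ (P : Subgroup G), InvUnder K χ s) :
    ∀ s ∈ (P : Subgroup G), InvUnder K ψ s := by
  intro s hs g g' hg
  have hg0 : n⁻¹ * (g : G) * n ∈ K := by
    have := hKn.conj_mem g g.2 n⁻¹
    simpa using this
  have hg0' : n⁻¹ * (g' : G) * n ∈ K := by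
    have := hKn.conj_mem g' g'.2 n⁻¹
    simpa using this
  have e1 : ψ g = χ ⟨n⁻¹ * (g : G) * n, hg0⟩ := by
    apply hψ ⟨n⁻¹ * (g : G) * n, hg0⟩ g
    show (g : G) = n * (n⁻¹ * (g : G) * n) * n⁻¹
    group
  have e2 : ψ g' = χ ⟨n⁻¹ * (g' : G) * n, hg0'⟩ := by
    apply hψ ⟨n⁻¹ * (g' : G) * n, hg0'⟩ g'
    show (g' : G) = n * (n⁻¹ * (g' : G) * n) * n⁻¹
    group
  rw [e1, e2]
  apply hχP (n⁻¹ * s * n) (inv_conj_mem_of_mem_normalizer _ hn hs)
  show n⁻¹ * (g' : G) * n = n⁻¹ * s * n * (n⁻¹ * (g : G) * n) * (n⁻¹ * s * n)⁻¹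
  rw [hg]
  group

/-- Equivariance of the correspondence under `N_G(P)`. -/
theorem conjBy_of_correspondent (hK : ¬ p ∣ Nat.card K) {n : G}
    (hn : n ∈ Subgroup.normalizer ((P : Subgroup G) : Set G)) (χ χ' : IrrCharacter K)
    (hχP : ∀ s ∈ (P : Subgroup G), InvUnder K (χ : K → ℂ) s)
    (hχ'P : ∀ s ∈ (P : Subgroup G), InvUnder K (χ' : K → ℂ) s)
    (β β' : IrrCharacter ↥(C0 p K P))
    (hβ : ConjBy (C0 p K P) n (β : ↥(C0 p K P) → ℂ) (β' : ↥(C0 p K P) → ℂ)) (m m' : ℕ)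
    (hm : mult p K P (χ : K → ℂ) (β : ↥(C0 p K P) → ℂ) = m) (hpm : ¬ p ∣ m)
    (hm' : mult p K P (χ' : K → ℂ) (β' : ↥(C0 p K P) → ℂ) = m') (hpm' : ¬ p ∣ m') :
    ConjBy K n (χ : K → ℂ) (χ' : K → ℂ) := by
  have hnK : n ∈ Subgroup.normalizer (K : Set G) := by
    rw [Subgroup.normalizer_eq_top]
    trivial
  obtain ⟨ψ, hψ⟩ := Cfsg.Agent.Lib.Helper8.GS.exists_conjBy K n hnK χ
  have hψP := invUnder_conjBy p K P hn (χ : K → ℂ) (ψ : K → ℂ) hψ hχP
  have hmψ : mult p K P (ψ : K → ℂ) (β' : ↥(C0 p K P) → ℂ) = m := by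
    rw [mult_conjBy p K P hn (χ : K → ℂ) (ψ : K → ℂ) hψ _ _ hβ, hm]
  have e := eq_of_correspondent p K P hK ψ χ' hψP hχ'P β' m m' hmψ hpm hm' hpm'
  rw [← e]
  exact hψ

end Cfsg.Agent.Lib.Helper4.RealNorm
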