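import Mathlib
import Cfsg.Prelude.Def_Characters
import Cfsg.Agent.Lib.helper3.Irr12
import Cfsg.Agent.S4866

/-!
# S4864, part 4: the count of S4866 relative to a subgroup `N` of the ambient group
-/

set_option autoImplicit false
set_option linter.style.haveILetI false
set_option linter.unusedSectionVars false
set_option linter.unusedVariables false

namespace Cfsg.Agent.Lib.Helper4.RealNorm

open Cfsg Cfsg.Agent.Lib.helper3.Irr

universe u

/-- A map compatible with the relations and hitting every class gives an inequality of the numbers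
of classes. -/
theorem card_quot_le_of_surj {A B : Type*} [Finite A] (rA : A → A → Prop) (rB : B → B → Prop)
    (F : A → B) (h1 : ∀ x y, rA x y → rB (F x) (F y)) (h2 : ∀ b, ∃ a, rB (F a) b) :
    Nat.card (Quot rB) ≤ Nat.card (Quot rA) := by
  apply Nat.card_le_card_of_surjective (Quot.map F h1)
  intro q
  induction q using Quot.ind with
  | _ b =>
    obtain ⟨a, ha⟩ := h2 b
    exact ⟨Quot.mk _ a, Quot.sound ha⟩

/-- Exactness for an equivalence relation. -/
theorem quot_exact {A : Type*} (r : A → A → Prop) (h : Equivalence r) {a b : A}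
    (hab : Quot.mk r a = Quot.mk r b) : r a b :=
  h.eqvGen_iff.mp (Quot.eqvGen_exact hab)

variable {G : Type u} [Group G] [Finite G]

/-- The count of S4866 for `C ⊴ N`, both subgroups of the ambient group `G`. -/
theorem card_relative (N C : Subgroup G) (hCN : C ≤ N) [hnorm : (C.subgroupOf N).Normal]
    (hodd : Odd (C.subgroupOf N).index) :
    Nat.card (Quot (fun θ η : {θ : IrrCharacter ↥C // ∀ k : ↥C, ((θ : ↥C → ℂ) k).im = 0} =>
      ∃ n ∈ N, ∀ k k' : ↥C, (k' : G) = n * (k : G) * n⁻¹ →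
        (η.1 : ↥C → ℂ) k' = (θ.1 : ↥C → ℂ) k)) =
    Nat.card (Quot (fun x y : {x : ↥C // IsConj x x⁻¹} =>
      ∃ n ∈ N, (y.1 : G) = n * (x.1 : G) * n⁻¹)) := by
  have h := Cfsg.Agent.S4866.result (C.subgroupOf N) hodd
  let e : ↥(C.subgroupOf N) ≃* ↥C := Subgroup.subgroupOfEquivOfLe hCN
  have he : ∀ x : ↥(C.subgroupOf N), ((e x : ↥C) : G) = ((x : ↥N) : G) := fun _ => rfl
  have hes : ∀ c : ↥C, (((e.symm c : ↥(C.subgroupOf N)) : ↥N) : G) = (c : G) := fun _ => rfl
  -- the equivalence on real elements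
  let eC : {x : ↥(C.subgroupOf N) // IsConj x x⁻¹} ≃ {c : ↥C // IsConj c c⁻¹} :=
    Equiv.subtypeEquiv e.toEquiv (by
      intro x
      constructor
      · intro hx
        have := e.toMonoidHom.map_isConj hx
        simpa using this
      · intro hx
        have := e.symm.toMonoidHom.map_isConj hx
        simpa using this)
  have hC : Nat.card (Quot (fun x y : {x : ↥(C.subgroupOf N) // IsConj x x⁻¹} =>
      ∃ g : ↥N, (y.1 : ↥N) = g * x.1 * g⁻¹)) =
      Nat.card (Quot (fun x y : {x : ↥C // IsConj x x⁻¹} =>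
        ∃ n ∈ N, (y.1 : G) = n * (x.1 : G) * n⁻¹)) := by
    apply Nat.card_congr
    apply Quot.congr eC
    intro x y
    constructor
    · rintro ⟨n, hn⟩
      refine ⟨n.1, n.2, ?_⟩
      have := congrArg (Subtype.val : ↥N → G) hn
      simp only [Subgroup.coe_mul, Subgroup.coe_inv] at this
      exact this
    · rintro ⟨n, hn, h⟩
      refine ⟨⟨n, hn⟩, ?_⟩
      apply Subtype.ext
      simp only [Subgroup.coe_mul, Subgroup.coe_inv]
      exact h
  -- the equivalence on real characters
  let eI : {θ : IrrCharacter ↥(C.subgroupOf N) //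
      ∀ k : ↥(C.subgroupOf N), ((θ : ↥(C.subgroupOf N) → ℂ) k).im = 0} ≃
      {θ : IrrCharacter ↥C // ∀ k : ↥C, ((θ : ↥C → ℂ) k).im = 0} :=
    { toFun := fun θ => ⟨⟨fun c => (θ.1 : ↥(C.subgroupOf N) → ℂ) (e.symm c),
        isIrrCharacter_comp_mulEquiv e.symm θ.1.2⟩, fun c => θ.2 _⟩
      invFun := fun θ => ⟨⟨fun x => (θ.1 : ↥C → ℂ) (e x),
        isIrrCharacter_comp_mulEquiv e θ.1.2⟩, fun x => θ.2 _⟩
      left_inv := by
        intro θ
        apply Subtype.ext
        apply Subtype.ext
        funext x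
        simp
      right_inv := by
        intro θ
        apply Subtype.ext
        apply Subtype.ext
        funext x
        simp }
  have hI : Nat.card (Quot (fun θ η : {θ : IrrCharacter ↥(C.subgroupOf N) //
      ∀ k : ↥(C.subgroupOf N), ((θ : ↥(C.subgroupOf N) → ℂ) k).im = 0} =>
      ∃ g : ↥N, ∀ k k' : ↥(C.subgroupOf N), (k' : ↥N) = g * (k : ↥N) * g⁻¹ →
        (η.1 : ↥(C.subgroupOf N) → ℂ) k' = (θ.1 : ↥(C.subgroupOf N) → ℂ) k)) =
      Nat.card (Quot (fun θ η : {θ : IrrCharacter ↥C // ∀ k : ↥C, ((θ : ↥C → ℂ) k).im = 0} =>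
        ∃ n ∈ N, ∀ k k' : ↥C, (k' : G) = n * (k : G) * n⁻¹ →
          (η.1 : ↥C → ℂ) k' = (θ.1 : ↥C → ℂ) k)) := by
    apply Nat.card_congr
    apply Quot.congr eI
    intro θ η
    constructor
    · rintro ⟨n, hn⟩
      refine ⟨n.1, n.2, ?_⟩
      intro c c' hc
      apply hn (e.symm c) (e.symm c')
      apply Subtype.ext
      simp only [Subgroup.coe_mul, Subgroup.coe_inv]
      exact hc
    · rintro ⟨n, hn, h⟩
      refine ⟨⟨n, hn⟩, ?_⟩
      intro k k' hk
      have h1 := h (e k) (e k') (by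
        have := congrArg (Subtype.val : ↥N → G) hk
        simp only [Subgroup.coe_mul, Subgroup.coe_inv] at this
        exact this)
      have e1 : e.symm (e k) = k := e.symm_apply_apply k
      have e2 : e.symm (e k') = k' := e.symm_apply_apply k'
      have h2 : (η.1 : ↥(C.subgroupOf N) → ℂ) (e.symm (e k')) =
          (θ.1 : ↥(C.subgroupOf N) → ℂ) (e.symm (e k)) := h1
      rw [e1, e2] at h2
      exact h2
  rw [← hI, ← hC]
  exact h

end Cfsg.Agent.Lib.Helper4.RealNorm
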