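import Mathlib
import Cfsg.Agent.Lib.Helper4.RealNorm3
import Cfsg.Agent.Lib.Helper4.RealNorm4

/-!
# S4864, part 5: Theorem B — in the `p'`-case every real element of `K` is conjugate into `C_K(P)`
-/

set_option autoImplicit false
set_option linter.style.haveILetI false
set_option linter.unusedSectionVars false
set_option linter.unusedVariables false
set_option maxHeartbeats 800000

namespace Cfsg.Agent.Lib.Helper4.RealNorm

open Cfsg Cfsg.Agent.Lib.helper3.Irr Cfsg.Agent.Lib.helper3.CharBasic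
open Cfsg.Agent.Lib.helper3.GlP Cfsg.Agent.Lib.helper3.Glaub
open Cfsg.Agent.Lib.Helper8.GS (ConjBy)
open scoped ComplexConjugate

universe u

variable {G : Type u} [Group G] [Finite G]

/-- `N_K(P) = C_K(P)` for a normal `p'`-subgroup `K`. -/
theorem mem_centralizer_of_mem_normalizer_of_mem (p : ℕ) [hp : Fact p.Prime] (K : Subgroup G)
    [hKn : K.Normal] (hK : ¬ p ∣ Nat.card K) (P : Sylow p G) {x : G} (hxK : x ∈ K)
    (hxN : x ∈ Subgroup.normalizer ((P : Subgroup G) : Set G)) :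
    x ∈ Subgroup.centralizer ((P : Subgroup G) : Set G) := by
  rw [Subgroup.mem_centralizer_iff]
  intro u hu
  have h1 : x * u * x⁻¹ * u⁻¹ ∈ K := by
    have : u * x⁻¹ * u⁻¹ ∈ K := hKn.conj_mem _ (Subgroup.inv_mem _ hxK) u
    have h2 := Subgroup.mul_mem _ hxK this
    have e : x * (u * x⁻¹ * u⁻¹) = x * u * x⁻¹ * u⁻¹ := by group
    rwa [e] at h2
  have h2 : x * u * x⁻¹ * u⁻¹ ∈ (P : Subgroup G) :=
    Subgroup.mul_mem _ (conj_mem_of_mem_normalizer _ hxN hu) (Subgroup.inv_mem _ hu)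
  have h3 : x * u * x⁻¹ * u⁻¹ = 1 := by
    obtain ⟨k, hk⟩ := (P.isPGroup' ⟨_, h2⟩)
    have hk' : (x * u * x⁻¹ * u⁻¹) ^ p ^ k = 1 := by
      have h' := congrArg (Subtype.val : ↥(P : Subgroup G) → G) hk
      rw [Subgroup.coe_pow, Subgroup.coe_one] at h'
      exact h'
    have h4 : (x * u * x⁻¹ * u⁻¹) ^ Nat.card K = 1 := by
      have h := pow_card_eq_one' (G := ↥K) (x := ⟨_, h1⟩)
      have h' := congrArg (Subtype.val : ↥K → G) h
      rw [Subgroup.coe_pow, Subgroup.coe_one] at h'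
      exact h'
    have hcop : (p ^ k).Coprime (Nat.card K) :=
      Nat.Coprime.pow_left k ((Nat.Prime.coprime_iff_not_dvd hp.out).mpr hK)
    have h5 := pow_gcd_eq_one.mpr ⟨hk', h4⟩
    rw [Nat.Coprime.gcd_eq_one hcop, pow_one] at h5
    exact h5
  calc u * x = (x * u * x⁻¹ * u⁻¹)⁻¹ * (x * u) := by group
    _ = x * u := by rw [h3]; simp

/-- **Theorem B.**  Let `K` be a normal `p'`-subgroup of odd index of `G` and assume that all real
irreducible characters of `G` have degree prime to `p`.  Then every real element of `K` is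
`G`-conjugate to an element centralizing the Sylow `p`-subgroup `P`. -/
theorem real_conj_centralizer (p : ℕ) [hp : Fact p.Prime] (K : Subgroup G) [hKn : K.Normal]
    (hodd : Odd K.index) (hK : ¬ p ∣ Nat.card K)
    (hreal : ∀ χ : IrrCharacter G, (∀ g, ((χ : G → ℂ) g).im = 0) →
      ¬ p ∣ charDegree (χ : G → ℂ))
    (P : Sylow p G) (x : ↥K) (hx : IsConj x x⁻¹) :
    ∃ g : G, ∀ u ∈ (P : Subgroup G), u * (g * (x : G) * g⁻¹) = (g * (x : G) * g⁻¹) * u := by
  classical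
  letI : Fintype G := Fintype.ofFinite G
  letI : Fintype K := Fintype.ofFinite K
  letI : Fintype ↥(C0 p K P) := Fintype.ofFinite _
  set N : Subgroup G := Subgroup.normalizer ((P : Subgroup G) : Set G) with hNdef
  set C : Subgroup G := C0 p K P with hCdef
  have hCN : C ≤ N := fun c hc => Subgroup.centralizer_le_normalizer _ hc.2
  have hCK : C ≤ K := inf_le_left
  haveI hnorm : (C.subgroupOf N).Normal := by
    rw [Subgroup.normal_subgroupOf_iff_le_normalizer hCN]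
    intro n hn
    exact mem_normalizer_C0 p K P hn
  have hoddC : Odd (C.subgroupOf N).index := by
    have e : C.subgroupOf N = K.subgroupOf N := by
      ext y
      rw [Subgroup.mem_subgroupOf, Subgroup.mem_subgroupOf]
      constructor
      · intro h
        exact hCK h
      · intro h
        exact ⟨h, mem_centralizer_of_mem_normalizer_of_mem p K hK P h y.2⟩
    rw [e]
    have h1 : (K.subgroupOf N).index = K.relIndex N := rfl
    rw [h1]
    exact Odd.of_dvd_nat hodd (Subgroup.relIndex_dvd_index_of_normal K N)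
  have hT := card_relative N C hCN hoddC
  have hS := Cfsg.Agent.S4866.result K hodd
  -- the relations
  set rI : {θ : IrrCharacter ↥K // ∀ k : ↥K, ((θ : ↥K → ℂ) k).im = 0} →
      {θ : IrrCharacter ↥K // ∀ k : ↥K, ((θ : ↥K → ℂ) k).im = 0} → Prop :=
    fun θ η => ∃ g : G, ∀ k k' : ↥K, (k' : G) = g * (k : G) * g⁻¹ →
      (η.1 : ↥K → ℂ) k' = (θ.1 : ↥K → ℂ) k with hrI
  set rC : {x : ↥K // IsConj x x⁻¹} → {x : ↥K // IsConj x x⁻¹} → Prop :=
    fun x y => ∃ g : G, (y.1 : G) = g * x.1 * g⁻¹ with hrC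
  set rI' : {θ : IrrCharacter ↥C // ∀ k : ↥C, ((θ : ↥C → ℂ) k).im = 0} →
      {θ : IrrCharacter ↥C // ∀ k : ↥C, ((θ : ↥C → ℂ) k).im = 0} → Prop :=
    fun θ η => ∃ n ∈ N, ∀ k k' : ↥C, (k' : G) = n * (k : G) * n⁻¹ →
      (η.1 : ↥C → ℂ) k' = (θ.1 : ↥C → ℂ) k with hrI'
  set rC' : {x : ↥C // IsConj x x⁻¹} → {x : ↥C // IsConj x x⁻¹} → Prop :=
    fun x y => ∃ n ∈ N, (y.1 : G) = n * (x.1 : G) * n⁻¹ with hrC'
  -- the map on characters
  have hex : ∀ β : {θ : IrrCharacter ↥C // ∀ k : ↥C, ((θ : ↥C → ℂ) k).im = 0},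
      ∃ χ : IrrCharacter K, (∀ s ∈ (P : Subgroup G), InvUnder K (χ : K → ℂ) s) ∧
        ∃ m : ℕ, mult p K P (χ : K → ℂ) (β.1 : ↥C → ℂ) = m ∧ ¬ p ∣ m :=
    fun β => exists_over_correspondent p K P hK β.1
  choose Fχ hFP hFm using hex
  have hFr : ∀ β, ∀ k, ((Fχ β : K → ℂ) k).im = 0 := by
    intro β
    obtain ⟨m, hm, hpm⟩ := hFm β
    exact real_of_correspondent p K P hK (Fχ β) (hFP β) β.1 β.2 m hm hpm
  let F : {θ : IrrCharacter ↥C // ∀ k : ↥C, ((θ : ↥C → ℂ) k).im = 0} →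
      {θ : IrrCharacter ↥K // ∀ k : ↥K, ((θ : ↥K → ℂ) k).im = 0} := fun β => ⟨Fχ β, hFr β⟩
  have hle : Nat.card (Quot rI) ≤ Nat.card (Quot rI') := by
    apply card_quot_le_of_surj rI' rI F
    · rintro β η ⟨n, hn, hconj⟩
      obtain ⟨m, hm, hpm⟩ := hFm β
      obtain ⟨m', hm', hpm'⟩ := hFm η
      exact ⟨n, conjBy_of_correspondent p K P hK hn (Fχ β) (Fχ η) (hFP β) (hFP η) β.1 η.1 hconj
        m m' hm hpm hm' hpm'⟩
    · intro θ
      obtain ⟨g, hg⟩ := exists_pinv_conj_of_real p K hodd hreal P θ.1 θ.2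
      let θ₁ : IrrCharacter K := ⟨conjFun K (θ.1 : K → ℂ) g, isIrrCharacter_conjFun K θ.1.2 g⟩
      have hθ₁P : ∀ s ∈ (P : Subgroup G), InvUnder K (θ₁ : K → ℂ) s := by
        intro s hs
        exact (conjFun_eq_iff_invUnder K _ s).mp (hg s hs)
      have hθ₁r : ∀ k, ((θ₁ : K → ℂ) k).im = 0 := fun k => θ.2 _
      obtain ⟨β, m, hm, hpm⟩ := exists_correspondent p K P hK θ₁ hθ₁P
      have hβr := real_correspondent p K P hK θ₁ hθ₁P hθ₁r β m hm hpm
      refine ⟨⟨β, hβr⟩, ?_⟩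
      obtain ⟨m', hm', hpm'⟩ := hFm ⟨β, hβr⟩
      have e : Fχ ⟨β, hβr⟩ = θ₁ :=
        eq_of_correspondent p K P hK _ _ (hFP ⟨β, hβr⟩) hθ₁P β m' m hm' hpm' hm hpm
      refine ⟨g, ?_⟩
      intro k k' hk
      show (θ.1 : K → ℂ) k' = (Fχ ⟨β, hβr⟩ : K → ℂ) k
      rw [e]
      show (θ.1 : K → ℂ) k' = conjFun K (θ.1 : K → ℂ) g k
      unfold conjFun
      have e' : k' = ⟨g * (k : G) * g⁻¹, hKn.conj_mem k k.2 g⟩ := Subtype.ext hk
      rw [e']
  -- the relation `rC` is an equivalence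
  have hrCeq : Equivalence rC := by
    refine ⟨fun a => ⟨1, by simp⟩, ?_, ?_⟩
    · rintro a b ⟨g, hg⟩
      refine ⟨g⁻¹, ?_⟩
      rw [hg]
      group
    · rintro a b c ⟨g, hg⟩ ⟨h, hh⟩
      refine ⟨h * g, ?_⟩
      rw [hh, hg]
      group
  -- the map on real elements
  let f : {x : ↥C // IsConj x x⁻¹} → {x : ↥K // IsConj x x⁻¹} := fun c =>
    ⟨Subgroup.inclusion hCK c.1, by
      have := (Subgroup.inclusion hCK).map_isConj c.2
      rwa [map_inv] at this⟩
  have hf : ∀ a b, rC' a b → rC (f a) (f b) := by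
    rintro a b ⟨n, hn, h⟩
    exact ⟨n, h⟩
  have hinj : Function.Injective (Quot.map f hf) := by
    intro q q'
    induction q using Quot.ind with
    | _ c =>
      induction q' using Quot.ind with
      | _ c' =>
        intro h
        have h1 : rC (f c) (f c') := quot_exact rC hrCeq h
        obtain ⟨g, hg⟩ := h1
        have hg' : (c'.1 : G) = g * (c.1 : G) * g⁻¹ := hg
        have hc : (c.1 : G) ∈ Subgroup.centralizer ((P : Subgroup G) : Set G) := c.1.2.2
        have hc' : g⁻¹⁻¹ * (c.1 : G) * g⁻¹ ∈ Subgroup.centralizer ((P : Subgroup G) : Set G) := by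
          rw [inv_inv, ← hg']
          exact c'.1.2.2
        obtain ⟨n, hn, hnc⟩ := P.conj_eq_normalizer_conj_of_mem_centralizer (c.1 : G) g⁻¹ hc hc'
        apply Quot.sound
        refine ⟨n⁻¹, Subgroup.inv_mem _ hn, ?_⟩
        rw [hg', inv_inv]
        rw [inv_inv] at hnc
        exact hnc
  have hcard : Nat.card (Quot rC) ≤ Nat.card (Quot rC') := by
    calc Nat.card (Quot rC) = Nat.card (Quot rI) := hS.symm
      _ ≤ Nat.card (Quot rI') := hle
      _ = Nat.card (Quot rC') := hT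
  have hbij := hinj.bijective_of_nat_card_le hcard
  obtain ⟨q, hq⟩ := hbij.2 (Quot.mk rC ⟨x, hx⟩)
  induction q using Quot.ind with
  | _ c =>
    have h1 : rC (f c) ⟨x, hx⟩ := quot_exact rC hrCeq hq
    obtain ⟨g, hg⟩ := h1
    have hg' : (x : G) = g * (c.1 : G) * g⁻¹ := hg
    refine ⟨g⁻¹, ?_⟩
    have e : g⁻¹ * (x : G) * g⁻¹⁻¹ = (c.1 : G) := by
      rw [hg']
      group
    rw [e]
    intro u hu
    exact (Subgroup.mem_centralizer_iff.mp c.1.2.2 u hu)

end Cfsg.Agent.Lib.Helper4.RealNorm
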