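import Mathlib
import Cfsg.Agent.Lib.Helper4.RealNorm5
import Cfsg.Agent.Lib.Helper4.RealSylC
import Cfsg.Agent.Lib.Helper8.IN5
import Cfsg.Agent.Lib.helper3.RealOdd2

/-!
# S4864, part 6: the reduction to the `p'`-case
-/

set_option autoImplicit false
set_option linter.style.haveILetI false
set_option linter.unusedSectionVars false
set_option linter.unusedVariables false
set_option maxHeartbeats 800000

namespace Cfsg.Agent.Lib.Helper4.RealNorm

open Cfsg Cfsg.Agent.Lib.helper3.Irr Cfsg.Agent.Lib.helper3.CharBasic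
open scoped Pointwise

universe u

variable {G : Type u} [Group G]

/-- An element commuting with `P` modulo a normal subgroup `Q ≤ P` normalizes `P`. -/
theorem mem_normalizer_of_commute_quot (P Q : Subgroup G) [hQ : Q.Normal] (hQP : Q ≤ P) (y : G)
    (h : ∀ u ∈ P, (QuotientGroup.mk' Q u) * (QuotientGroup.mk' Q y) =
      (QuotientGroup.mk' Q y) * (QuotientGroup.mk' Q u)) :
    y ∈ Subgroup.normalizer (P : Set G) := by
  rw [Subgroup.mem_normalizer_iff]
  intro v
  constructor
  · intro hv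
    have h1 : y * v * y⁻¹ * v⁻¹ ∈ Q := by
      rw [← QuotientGroup.eq_one_iff]
      have h2 := h v hv
      show QuotientGroup.mk' Q (y * v * y⁻¹ * v⁻¹) = 1
      rw [map_mul, map_mul, map_mul, map_inv, map_inv, ← h2]
      group
    have h3 := Subgroup.mul_mem _ (hQP h1) hv
    have e : y * v * y⁻¹ * v⁻¹ * v = y * v * y⁻¹ := by group
    rwa [e] at h3
  · intro hv
    have h1 : y⁻¹ * (y * v * y⁻¹) * y * (y * v * y⁻¹)⁻¹ ∈ Q := by
      rw [← QuotientGroup.eq_one_iff]
      have h2 := h _ hv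
      show QuotientGroup.mk' Q (y⁻¹ * (y * v * y⁻¹) * y * (y * v * y⁻¹)⁻¹) = 1
      rw [map_mul, map_mul, map_mul, map_inv, map_inv, mul_assoc ((QuotientGroup.mk' Q y)⁻¹),
        h2]
      group
    have h3 := Subgroup.mul_mem _ (hQP h1) hv
    have e : y⁻¹ * (y * v * y⁻¹) * y * (y * v * y⁻¹)⁻¹ * (y * v * y⁻¹) = v := by group
    rwa [e] at h3

variable [Finite G]

/-- **S4864.**  The normalizer of a Sylow `p`-subgroup meets every real class. -/
theorem normalizer_meets_real_class (p : ℕ) [hp : Fact p.Prime]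
    (hsolv : Group.IsSolvable ↥(Subgroup.closure {g : G | ∃ k : ℕ, orderOf g = p ^ k}))
    (hreal : ∀ χ : IrrCharacter G, (∀ g : G, ((χ : G → ℂ) g).im = 0) →
      ¬ p ∣ charDegree (χ : G → ℂ))
    (P : Sylow p G) (x : G) (hx : IsConj x x⁻¹) :
    ∃ y ∈ Subgroup.normalizer ((P : Subgroup G) : Set G), IsConj x y := by
  classical
  set K : Subgroup G := Cfsg.Agent.Lib.Helper8.IN.gen 2 G with hKdef
  haveI hKn : K.Normal := Cfsg.Agent.Lib.Helper8.IN.gen_normal 2
  have hodd : Odd K.index := Cfsg.Agent.Lib.Helper8.IN.odd_index_gen_two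
  obtain ⟨Q⟩ : Nonempty (Sylow p ↥K) := inferInstance
  haveI hQn : (Q : Subgroup ↥K).Normal :=
    Cfsg.Agent.Lib.Helper8.IN.normal_sylow_gen_two p hsolv hreal Q
  haveI hQc : (Q : Subgroup ↥K).Characteristic := Sylow.characteristic_of_normal Q hQn
  set QG : Subgroup G := (Q : Subgroup ↥K).map K.subtype with hQGdef
  haveI hQGn : QG.Normal := ConjAct.normal_of_characteristic_of_normal
  have hQGp : IsPGroup p ↥QG := Q.2.map K.subtype
  have hQGP : QG ≤ (P : Subgroup G) := Cfsg.Agent.Lib.Helper8.IN.le_sylow_of_normal P QG hQGp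
  have hQGK : QG ≤ K := Subgroup.map_subtype_le _
  -- the quotient
  set f : G →* G ⧸ QG := QuotientGroup.mk' QG with hfdef
  have hfs : Function.Surjective f := QuotientGroup.mk'_surjective QG
  set Kb : Subgroup (G ⧸ QG) := K.map f with hKbdef
  haveI hKbn : Kb.Normal := hKn.map f hfs
  have hker : f.ker ≤ K := by
    rw [hfdef, QuotientGroup.ker_mk']
    exact hQGK
  have hidx : Kb.index = K.index := Subgroup.index_map_eq K hfs hker
  have hoddb : Odd Kb.index := by rw [hidx]; exact hodd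
  have hKb : ¬ p ∣ Nat.card Kb := by
    have h1 : Nat.card Kb * Kb.index = Nat.card (G ⧸ QG) := Subgroup.card_mul_index Kb
    have h2 : Nat.card G = Nat.card (G ⧸ QG) * Nat.card QG :=
      Subgroup.card_eq_card_quotient_mul_card_subgroup QG
    have h3 : Nat.card K * K.index = Nat.card G := Subgroup.card_mul_index K
    have h4 : Nat.card QG = Nat.card (Q : Subgroup ↥K) :=
      Nat.card_congr ((Q : Subgroup ↥K).equivMapOfInjective K.subtype
        K.subtype_injective).symm.toEquiv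
    have h5 : Nat.card (Q : Subgroup ↥K) * (Q : Subgroup ↥K).index = Nat.card K :=
      Subgroup.card_mul_index _
    have hpos : 0 < K.index := Nat.pos_of_ne_zero Subgroup.index_ne_zero_of_finite
    have hposQ : 0 < Nat.card (Q : Subgroup ↥K) := Nat.card_pos
    have h6 : Nat.card Kb = (Q : Subgroup ↥K).index := by
      have e1 : Nat.card Kb * K.index * Nat.card (Q : Subgroup ↥K) =
          Nat.card (Q : Subgroup ↥K) * (Q : Subgroup ↥K).index * K.index := by
        rw [h5, h3, h2, ← h1, hidx, h4]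
      have e2 : Nat.card Kb * (K.index * Nat.card (Q : Subgroup ↥K)) =
          (Q : Subgroup ↥K).index * (K.index * Nat.card (Q : Subgroup ↥K)) := by
        rw [← mul_assoc, e1]; ring
      exact Nat.eq_of_mul_eq_mul_right (Nat.mul_pos hpos hposQ) e2
    rw [h6]
    exact Q.not_dvd_index
  have hrealb := Cfsg.Agent.Lib.Helper4.RealSylC.not_dvd_degree_quot p QG hreal
  -- `x` is a real element of `K`
  obtain ⟨hxK, hxr⟩ := Cfsg.Agent.Lib.helper3.RealOdd.real_mem_of_odd_index K hodd hx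
  let φ : ↥K →* ↥Kb := f.subgroupMap K
  have hxb : IsConj (φ ⟨x, hxK⟩) (φ ⟨x, hxK⟩)⁻¹ := by
    have := φ.map_isConj hxr
    rwa [map_inv] at this
  obtain ⟨Pb⟩ : Nonempty (Sylow p (G ⧸ QG)) := inferInstance
  obtain ⟨gb, hgb⟩ := real_conj_centralizer p Kb hoddb hKb hrealb Pb (φ ⟨x, hxK⟩) hxb
  have hφx : ((φ ⟨x, hxK⟩ : ↥Kb) : G ⧸ QG) = f x := rfl
  rw [hφx] at hgb
  -- the image of `P` lies in a conjugate of `Pb`
  have hPf : IsPGroup p ↥((P : Subgroup G).map f) := P.2.map f
  obtain ⟨S, hS⟩ := hPf.exists_le_sylow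
  obtain ⟨hb, hhb⟩ := MulAction.exists_smul_eq (G ⧸ QG) Pb S
  obtain ⟨g, rfl⟩ := hfs gb
  obtain ⟨h, rfl⟩ := hfs hb
  refine ⟨(h * g) * x * (h * g)⁻¹, ?_, isConj_iff.mpr ⟨h * g, rfl⟩⟩
  apply mem_normalizer_of_commute_quot (P : Subgroup G) QG hQGP
  intro u hu
  have hu1 : f u ∈ (S : Subgroup (G ⧸ QG)) := hS (Subgroup.mem_map_of_mem f hu)
  rw [← hhb, Sylow.smul_def, Sylow.pointwise_smul_def,
    Subgroup.mem_smul_pointwise_iff_exists] at hu1
  obtain ⟨ub, hub, hub2⟩ := hu1
  rw [MulAut.smul_def, MulAut.conj_apply] at hub2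
  have hc := hgb ub hub
  show f u * f ((h * g) * x * (h * g)⁻¹) = f ((h * g) * x * (h * g)⁻¹) * f u
  rw [← hub2]
  simp only [map_mul, map_inv]
  calc f h * ub * (f h)⁻¹ * (f h * f g * f x * (f h * f g)⁻¹)
      = f h * (ub * (f g * f x * (f g)⁻¹)) * (f h)⁻¹ := by group
    _ = f h * ((f g * f x * (f g)⁻¹) * ub) * (f h)⁻¹ := by rw [hc]
    _ = f h * f g * f x * (f h * f g)⁻¹ * (f h * ub * (f h)⁻¹) := by group

end Cfsg.Agent.Lib.Helper4.RealNorm
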