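import Mathlib
import Cfsg.Prelude.Def_Characters
import Cfsg.Prelude.Def_Blocks
import Cfsg.Agent.Lib.helper3.PKer2
import Cfsg.Agent.Lib.helper3.Berger2
import Cfsg.Agent.Lib.helper3.RealOdd1
import Cfsg.Agent.Lib.helper3.Irr9

/-!
# S4581, Claim A, character part

If all odd-degree irreducible characters of `G` are real, `K ≤ G` has odd index, `M ⊴ G` lies in
`K`, and `μ` is a linear character of `K`, then the restriction of `μ` to `M` is `G`-conjugate to
its complex conjugate.
-/

set_option autoImplicit false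
set_option linter.style.haveILetI false
set_option linter.unusedSectionVars false
set_option linter.unusedVariables false

namespace Cfsg.Agent.Lib.Helper4.RealOddA

open Cfsg Cfsg.Agent.Lib.helper3.Irr Cfsg.Agent.Lib.helper3.CharBasic
open Cfsg.Agent.Lib.helper3.IndFun
open scoped ComplexConjugate

theorem exists_conj_of_odd_index {G : Type*} [Group G] [Fintype G] (K M : Subgroup G)
    [hM : M.Normal] (hMK : M ≤ K) (hodd : Odd K.index) (μ : ↥K →* ℂˣ)
    (h : ∀ χ : IrrCharacter G, Odd (charDegree (χ : G → ℂ)) → ∀ g : G, ((χ : G → ℂ) g).im = 0) :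
    ∃ g : G, ∀ m : ↥M, ((μ ⟨g * (m : G) * g⁻¹, hMK (hM.conj_mem m m.2 g)⟩ : ℂˣ) : ℂ)
      = conj ((μ ⟨m, hMK m.2⟩ : ℂˣ) : ℂ) := by
  classical
  letI : Fintype ↥K := Fintype.ofFinite _
  letI : Fintype ↥M := Fintype.ofFinite _
  set lamK : ↥K → ℂ := fun k => ((μ k : ℂˣ) : ℂ) with hlamK
  have hlamKc : IsCharacter ↥K lamK := Cfsg.Agent.Lib.helper3.Lin.isCharacter_of_hom μ
  have hlamK1 : lamK 1 = 1 := by simp [hlamK]
  have hlamKirr : IsIrrCharacter ↥K lamK := isIrrCharacter_of_linear hlamKc hlamK1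
  -- the induced character
  have hΦ : IsCharacter G (indFun K lamK) := isCharacter_indFun K lamK hlamKc
  have hΦ1 : indFun K lamK 1 = ((K.index : ℕ) : ℂ) := by
    rw [indFun_apply_one, hlamK1, mul_one]
  haveI : Fact (Nat.Prime 2) := ⟨Nat.prime_two⟩
  obtain ⟨χ, hχne, hχdeg⟩ := Cfsg.Agent.Lib.helper3.PKer.exists_constituent_pdeg 2 hΦ K.index hΦ1
    (by
      intro h2
      exact (Nat.not_even_iff_odd.mpr hodd) (even_iff_two_dvd.mpr h2))
  have hχodd : Odd (charDegree (χ : G → ℂ)) := by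
    rcases Nat.even_or_odd (charDegree (χ : G → ℂ)) with he | ho
    · exact absurd (even_iff_two_dvd.mp he) hχdeg
    · exact ho
  have hχreal := h χ hχodd
  have hχc := isCharacter_of_isIrrCharacter χ.2
  have hcf := isClassFunction_of_isCharacter hχc
  -- Frobenius reciprocity
  have hfr := frobenius_reciprocity K lamK (χ : G → ℂ) hcf
  rw [hfr] at hχne
  have hresK : IsCharacter ↥K (fun k : ↥K => (χ : G → ℂ) k) := isCharacter_restrict hχc K
  have hK1 : classInner (fun k : ↥K => (χ : G → ℂ) k) lamK ≠ 0 := by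
    intro h0
    apply hχne
    rw [← classInner_conj_symm, h0]
    simp
  -- the restriction of `μ` to `M`
  set lamM : ↥M → ℂ := fun m => ((μ ⟨m, hMK m.2⟩ : ℂˣ) : ℂ) with hlamM
  have hlamMc : IsCharacter ↥M lamM :=
    Cfsg.Agent.Lib.helper3.Lin.isCharacter_of_hom (μ.comp (Subgroup.inclusion hMK))
  have hlamM1 : lamM 1 = 1 := by
    have : (⟨((1 : ↥M) : G), hMK (1 : ↥M).2⟩ : ↥K) = 1 := rfl
    show ((μ ⟨((1 : ↥M) : G), hMK (1 : ↥M).2⟩ : ℂˣ) : ℂ) = 1
    rw [this, map_one, Units.val_one]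
  have hlamMirr : IsIrrCharacter ↥M lamM := isIrrCharacter_of_linear hlamMc hlamM1
  have hself : classInner (fun m : ↥M => lamK (Subgroup.inclusion hMK m)) lamM ≠ 0 := by
    have e : (fun m : ↥M => lamK (Subgroup.inclusion hMK m)) = lamM := rfl
    rw [e, irr_classInner_self hlamMirr]
    exact one_ne_zero
  have hM1 : classInner (fun m : ↥M => (χ : G → ℂ) m) lamM ≠ 0 :=
    Cfsg.Agent.Lib.helper3.Berger.classInner_comp_ne_zero_of_constituent
      (Subgroup.inclusion hMK) hresK hlamKirr hK1 hlamMirr hself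
  -- the conjugate is a constituent too
  have hχr : ∀ g, conj ((χ : G → ℂ) g) = (χ : G → ℂ) g :=
    fun g => Complex.conj_eq_iff_im.mpr (hχreal g)
  let θ : IrrCharacter ↥M := ⟨lamM, hlamMirr⟩
  let θc : IrrCharacter ↥M := ⟨fun n => conj (lamM n), isIrrCharacter_conj hlamMirr⟩
  have hθc : classInner (fun n : ↥M => (χ : G → ℂ) n) (θc : ↥M → ℂ) ≠ 0 := by
    have e : (fun n : ↥M => (χ : G → ℂ) n) = fun n : ↥M => conj ((χ : G → ℂ) n) := by
      funext n
      exact (hχr n).symm
    rw [e]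
    show classInner (fun n : ↥M => conj ((χ : G → ℂ) n)) (fun n => conj (lamM n)) ≠ 0
    rw [classInner_conj_conj]
    intro h0
    apply hM1
    have := congrArg conj h0
    simpa using this
  obtain ⟨g, hg⟩ := Cfsg.Agent.Lib.helper3.RealOdd.exists_conj_of_constituents M χ θ θc hM1 hθc
  refine ⟨g, fun m => ?_⟩
  have := congrFun hg m
  exact this.symm
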