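import Mathlib

/-!
# S4581, Claim A, group-theoretic lemmas on homomorphisms of an abelian normal subgroup
-/

set_option autoImplicit false
set_option linter.style.haveILetI false
set_option linter.unusedSectionVars false
set_option linter.unusedVariables false

namespace Cfsg.Agent.Lib.Helper4.RealOddA

/-- A nontrivial element of a finite abelian subgroup is detected by a linear character. -/
theorem exists_hom_ne_one {G : Type*} [Group G] (M : Subgroup G) [Finite M]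
    (hMab : ∀ a ∈ M, ∀ b ∈ M, a * b = b * a) (c : ↥M) (hc : c ≠ 1) :
    ∃ lam : ↥M →* ℂˣ, lam c ≠ 1 := by
  letI : CommGroup ↥M :=
    { (inferInstance : Group ↥M) with mul_comm := fun a b => Subtype.ext (hMab a a.2 b b.2) }
  exact CommGroup.exists_apply_ne_one_of_hasEnoughRootsOfUnity ↥M ℂ hc

/-- The norm of a homomorphism under a finite subgroup `P`: it is `P`-invariant and on elements
centralised by `P` it is the `|P|`-th power. -/
theorem exists_invariant_hom {G : Type*} [Group G] (P M : Subgroup G) [hM : M.Normal] [Finite ↥P]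
    (lam : ↥M →* ℂˣ) :
    ∃ θ : ↥M →* ℂˣ,
      (∀ u ∈ P, ∀ m : ↥M, θ ⟨u * (m : G) * u⁻¹, hM.conj_mem m m.2 u⟩ = θ m) ∧
      ∀ c : ↥M, (∀ u ∈ P, u * (c : G) = c * u) → θ c = lam c ^ Nat.card P := by
  classical
  letI : Fintype ↥P := Fintype.ofFinite _
  let θ : ↥M →* ℂˣ :=
    ∏ u : ↥P, lam.comp ((MulAut.conjNormal (u : G) : ↥M ≃* ↥M) : ↥M →* ↥M)
  have hθ : ∀ m : ↥M, θ m = ∏ u : ↥P, lam (MulAut.conjNormal (u : G) m) := by
    intro m
    show (∏ u : ↥P, lam.comp ((MulAut.conjNormal (u : G) : ↥M ≃* ↥M) : ↥M →* ↥M)) m = _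
    rw [MonoidHom.finsetProd_apply]
    rfl
  refine ⟨θ, ?_, ?_⟩
  · intro v hv m
    rw [hθ, hθ]
    have e : ∀ u : ↥P, lam (MulAut.conjNormal (u : G) ⟨v * (m : G) * v⁻¹, hM.conj_mem m m.2 v⟩)
        = (fun w : ↥P => lam (MulAut.conjNormal (w : G) m)) (Equiv.mulRight (⟨v, hv⟩ : ↥P) u) := by
      intro u
      show _ = lam (MulAut.conjNormal ((u * (⟨v, hv⟩ : ↥P) : ↥P) : G) m)
      congr 1
      apply Subtype.ext
      rw [MulAut.conjNormal_apply, MulAut.conjNormal_apply]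
      show (u : G) * (v * (m : G) * v⁻¹) * (u : G)⁻¹ = ((u : G) * v) * (m : G) * ((u : G) * v)⁻¹
      group
    rw [Finset.prod_congr rfl (fun u _ => e u)]
    exact Equiv.prod_comp (Equiv.mulRight (⟨v, hv⟩ : ↥P))
      (fun w : ↥P => lam (MulAut.conjNormal (w : G) m))
  · intro c hc
    rw [hθ]
    have e : ∀ u : ↥P, lam (MulAut.conjNormal (u : G) c) = lam c := by
      intro u
      congr 1
      apply Subtype.ext
      rw [MulAut.conjNormal_apply, hc u u.2, mul_inv_cancel_right]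
    rw [Finset.prod_congr rfl (fun u _ => e u), Finset.prod_const, Finset.card_univ,
      Nat.card_eq_fintype_card]

/-- A `P`-invariant homomorphism of a normal subgroup `M` meeting `P` trivially extends to
`P ⊔ M`. -/
theorem exists_hom_sup {G : Type*} [Group G] {A : Type*} [CommGroup A] (P M : Subgroup G)
    [hM : M.Normal] (hPM : P ⊓ M = ⊥) (θ : ↥M →* A)
    (hinv : ∀ u ∈ P, ∀ m : ↥M, θ ⟨u * (m : G) * u⁻¹, hM.conj_mem m m.2 u⟩ = θ m) :
    ∃ μ : ↥(P ⊔ M) →* A, ∀ m : ↥M, μ ⟨m, (le_sup_right : M ≤ P ⊔ M) m.2⟩ = θ m := by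
  classical
  have hdecomp : ∀ k : ↥(P ⊔ M), ∃ m : ↥M, ∃ u ∈ P, (k : G) = u * m := by
    intro k
    have hk : (k : G) ∈ ((P ⊔ M : Subgroup G) : Set G) := k.2
    rw [Subgroup.mul_normal] at hk
    obtain ⟨u, hu, m, hm, h⟩ := Set.mem_mul.mp hk
    exact ⟨⟨m, hm⟩, u, hu, h.symm⟩
  choose part hpart using hdecomp
  have huniq : ∀ (u u' : G) (m m' : ↥M), u ∈ P → u' ∈ P → u * (m : G) = u' * (m' : G) →
      m = m' := by
    intro u u' m m' hu hu' h
    have h1 : u'⁻¹ * u = (m' : G) * (m : G)⁻¹ := by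
      have : u'⁻¹ * (u * (m : G)) * (m : G)⁻¹ = u'⁻¹ * (u' * (m' : G)) * (m : G)⁻¹ := by rw [h]
      simpa [mul_assoc] using this
    have h2 : u'⁻¹ * u ∈ P ⊓ M :=
      ⟨P.mul_mem (P.inv_mem hu') hu, h1 ▸ M.mul_mem m'.2 (M.inv_mem m.2)⟩
    rw [hPM, Subgroup.mem_bot] at h2
    rw [h2] at h1
    apply Subtype.ext
    have h3 : (m' : G) = (m : G) := by
      have := congrArg (· * (m : G)) h1
      simpa using this.symm
    exact h3.symm
  refine ⟨MonoidHom.mk' (fun k => θ (part k)) ?_, ?_⟩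
  · intro k k'
    obtain ⟨u, hu, hk⟩ := hpart k
    obtain ⟨u', hu', hk'⟩ := hpart k'
    obtain ⟨u'', hu'', hkk'⟩ := hpart (k * k')
    have hm1 : u'⁻¹ * (part k : G) * u'⁻¹⁻¹ ∈ M := hM.conj_mem _ (part k).2 _
    have e : part (k * k') = ⟨u'⁻¹ * (part k : G) * u'⁻¹⁻¹, hm1⟩ * part k' := by
      apply huniq u'' (u * u') _ _ hu'' (P.mul_mem hu hu')
      rw [← hkk']
      show (k : G) * (k' : G) = _
      rw [hk, hk']
      show _ = u * u' * ((u'⁻¹ * (part k : G) * u'⁻¹⁻¹) * (part k' : G))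
      group
    show θ (part (k * k')) = θ (part k) * θ (part k')
    rw [e, map_mul, hinv u'⁻¹ (P.inv_mem hu') (part k)]
  · intro m
    show θ (part ⟨m, _⟩) = θ m
    obtain ⟨u, hu, hk⟩ := hpart ⟨m, (le_sup_right : M ≤ P ⊔ M) m.2⟩
    congr 1
    refine huniq u 1 (part ⟨m, (le_sup_right : M ≤ P ⊔ M) m.2⟩) m hu P.one_mem ?_
    rw [← hk]
    simp

end Cfsg.Agent.Lib.Helper4.RealOddA
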