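import Mathlib
import Cfsg.Prelude.Def_Characters
import Cfsg.Prelude.Def_Blocks
import Cfsg.Agent.Lib.Helper4.RealOddA1
import Cfsg.Agent.Lib.Helper4.RealOddA2
import Cfsg.Agent.Lib.Helper4.RealNorm1
import Cfsg.Agent.Lib.Helper8.IN7
import Cfsg.Agent.Lib.Helper8.IN5
import Cfsg.Agent.Lib.Helper6.RealSylow2
import Cfsg.Agent.Lib.helper3.Inflate

/-!
# S4581, Claim A: if all odd-degree irreducible characters of a solvable group are real, then a
Sylow 2-subgroup is self-normalising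
-/

set_option autoImplicit false
set_option linter.style.haveILetI false
set_option linter.unusedSectionVars false
set_option linter.unusedVariables false

namespace Cfsg.Agent.Lib.Helper4.RealOddA

open Cfsg Cfsg.Agent.Lib.helper3.Irr Cfsg.Agent.Lib.helper3.CharBasic
open Cfsg.Agent.Lib.Helper4.RealNorm
open scoped ComplexConjugate

universe u

/-- A real complex number whose odd power is one is one. -/
theorem eq_one_of_real_of_odd_pow {z : ℂ} (hz : conj z = z) {r : ℕ} (hr : Odd r)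
    (hpow : z ^ r = 1) : z = 1 := by
  have h1 : ((z.re : ℝ) : ℂ) = z := Complex.conj_eq_iff_re.mp hz
  rw [← h1] at hpow ⊢
  have h2 : (z.re) ^ r = 1 := by exact_mod_cast hpow
  have h3 : z.re = 1 := hr.strictMono_pow.injective (by simpa using h2)
  rw [h3]
  simp

/-- The key step of Claim A: no nontrivial element of the odd abelian normal subgroup `M` is
centralised by `P`. -/
theorem centralizer_trivial {G : Type u} [Group G] [Finite G] (P : Sylow 2 G) (M : Subgroup G)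
    [hM : M.Normal] (hMab : ∀ a ∈ M, ∀ b ∈ M, a * b = b * a) (r : ℕ) (hr : r.Prime) (hr2 : r ≠ 2)
    (hexp : ∀ m ∈ M, m ^ r = 1)
    (hdec : ∀ x ∈ Subgroup.normalizer ((P : Subgroup G) : Set G),
      ∃ u ∈ (P : Subgroup G), ∃ c ∈ M, x = u * c)
    (h : ∀ χ : IrrCharacter G, Odd (charDegree (χ : G → ℂ)) → ∀ g : G, ((χ : G → ℂ) g).im = 0)
    (c : G) (hc : c ∈ M) (hcent : ∀ v ∈ (P : Subgroup G), v * c = c * v) : c = 1 := by
  classical
  letI : Fintype G := Fintype.ofFinite G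
  haveI : Fact r.Prime := ⟨hr⟩
  have hrodd : Odd r := hr.odd_of_ne_two hr2
  by_contra hcne
  have hcne' : (⟨c, hc⟩ : ↥M) ≠ 1 := by
    intro h1
    exact hcne (congrArg Subtype.val h1)
  obtain ⟨lam, hlam⟩ := exists_hom_ne_one M hMab ⟨c, hc⟩ hcne'
  obtain ⟨θ, hθinv, hθc⟩ := exists_invariant_hom (P : Subgroup G) M lam
  have hθc' := hθc ⟨c, hc⟩ hcent
  -- `θ c ≠ 1`
  have hcr : (⟨c, hc⟩ : ↥M) ^ r = 1 := by
    apply Subtype.ext
    simpa using hexp c hc
  have hθcr : (θ ⟨c, hc⟩) ^ r = 1 := by rw [← map_pow, hcr, map_one]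
  have hθne : θ ⟨c, hc⟩ ≠ 1 := by
    intro h1
    rw [hθc'] at h1
    have hlr : (lam ⟨c, hc⟩) ^ r = 1 := by rw [← map_pow, hcr, map_one]
    have d1 := orderOf_dvd_of_pow_eq_one h1
    have d2 := orderOf_dvd_of_pow_eq_one hlr
    obtain ⟨k, hk⟩ := IsPGroup.exists_card_eq P.2
    have hk' : Nat.card ↥(P : Subgroup G) = 2 ^ k := hk
    rw [hk'] at d1
    have hcop : Nat.Coprime (2 ^ k) r :=
      Nat.Coprime.pow_left k ((Nat.coprime_primes Nat.prime_two hr).mpr (Ne.symm hr2))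
    have d3 := Nat.dvd_gcd d1 d2
    rw [hcop.gcd_eq_one, Nat.dvd_one, orderOf_eq_one_iff] at d3
    exact hlam d3
  -- the intersection `P ⊓ M`
  have hMr : IsPGroup r ↥M := by
    intro m
    refine ⟨1, ?_⟩
    apply Subtype.ext
    simpa using hexp m m.2
  haveI : Fact (Nat.Prime 2) := ⟨Nat.prime_two⟩
  have hdisj : (P : Subgroup G) ⊓ M = ⊥ :=
    (IsPGroup.disjoint_of_ne 2 r (Ne.symm hr2) _ _ P.2 hMr).eq_bot
  obtain ⟨μ, hμ⟩ := exists_hom_sup (P : Subgroup G) M hdisj θ hθinv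
  -- odd index
  have hodd : Odd ((P : Subgroup G) ⊔ M).index := by
    have h1 : ((P : Subgroup G) ⊔ M).index ∣ (P : Subgroup G).index :=
      Subgroup.index_dvd_of_le le_sup_left
    have h2 : ¬ 2 ∣ (P : Subgroup G).index := P.not_dvd_index
    rcases Nat.even_or_odd ((P : Subgroup G) ⊔ M).index with he | ho
    · exact absurd ((even_iff_two_dvd.mp he).trans h1) h2
    · exact ho
  obtain ⟨g, hg⟩ := exists_conj_of_odd_index ((P : Subgroup G) ⊔ M) M le_sup_right hodd μ h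
  -- the function `Θ`
  set Θ : ↥M → ℂ := fun m => ((θ m : ℂˣ) : ℂ) with hΘ
  have hΘg : ∀ m : ↥M, Θ ⟨g * (m : G) * g⁻¹, hM.conj_mem m m.2 g⟩ = conj (Θ m) := by
    intro m
    have h1 := hg m
    have h2 := hμ ⟨g * (m : G) * g⁻¹, hM.conj_mem m m.2 g⟩
    have h3 := hμ m
    show ((θ ⟨g * (m : G) * g⁻¹, hM.conj_mem m m.2 g⟩ : ℂˣ) : ℂ) = conj ((θ m : ℂˣ) : ℂ)
    rw [← h2, ← h3]
    exact h1
  have hΘinv : ∀ u ∈ (P : Subgroup G), ∀ m : ↥M,
      Θ ⟨u * (m : G) * u⁻¹, hM.conj_mem m m.2 u⟩ = Θ m := by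
    intro u hu m
    show ((θ ⟨u * (m : G) * u⁻¹, hM.conj_mem m m.2 u⟩ : ℂˣ) : ℂ) = ((θ m : ℂˣ) : ℂ)
    rw [hθinv u hu m]
  letI := conjAct M
  have hsm : ∀ (x : G) (f : ↥M → ℂ), x • f = conjFun M f x⁻¹ := fun x f => rfl
  have hbar : g⁻¹ • Θ = fun m => conj (Θ m) := by
    rw [hsm, inv_inv]
    funext m
    exact hΘg m
  have ha : ∀ x ∈ (P : Subgroup G), x • Θ = Θ := by
    intro x hx
    rw [hsm]
    funext m
    exact hΘinv x⁻¹ (inv_mem hx) m
  have hga : ∀ x ∈ (P : Subgroup G), x • (g⁻¹ • Θ) = g⁻¹ • Θ := by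
    intro x hx
    rw [hbar, hsm]
    funext m
    show conj (Θ ⟨x⁻¹ * (m : G) * x⁻¹⁻¹, _⟩) = conj (Θ m)
    rw [hΘinv x⁻¹ (inv_mem hx) m]
  obtain ⟨n, hn, hnΘ⟩ := Cfsg.Agent.Lib.Helper8.IN.exists_normalizer_smul_eq P Θ g⁻¹ ha hga
  -- `n` fixes `Θ`
  have hnfix : n • Θ = Θ := by
    obtain ⟨u, hu, c', hc', rfl⟩ := hdec n hn
    rw [hsm]
    funext m
    show Θ ⟨(u * c')⁻¹ * (m : G) * (u * c')⁻¹⁻¹, _⟩ = Θ m
    have hm' : u⁻¹ * (m : G) * u⁻¹⁻¹ ∈ M := hM.conj_mem m m.2 u⁻¹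
    have e : (u * c')⁻¹ * (m : G) * (u * c')⁻¹⁻¹ = u⁻¹ * (m : G) * u⁻¹⁻¹ := by
      have hcomm := hMab c' hc' _ hm'
      have : (u * c')⁻¹ * (m : G) * (u * c')⁻¹⁻¹ = c'⁻¹ * ((u⁻¹ * (m : G) * u⁻¹⁻¹) * c') := by
        group
      rw [this, ← hcomm]
      group
    have e' : (⟨(u * c')⁻¹ * (m : G) * (u * c')⁻¹⁻¹, hM.conj_mem m m.2 (u * c')⁻¹⟩ : ↥M)
        = ⟨u⁻¹ * (m : G) * u⁻¹⁻¹, hm'⟩ := Subtype.ext e
    rw [e']
    exact hΘinv u⁻¹ (inv_mem hu) m
  rw [hnfix, hbar] at hnΘ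
  have hreal : conj (Θ ⟨c, hc⟩) = Θ ⟨c, hc⟩ := (congrFun hnΘ ⟨c, hc⟩).symm
  have hpow : (Θ ⟨c, hc⟩) ^ r = 1 := by
    show (((θ ⟨c, hc⟩ : ℂˣ) : ℂ)) ^ r = 1
    rw [← Units.val_pow_eq_pow_val, hθcr, Units.val_one]
  have h1 := eq_one_of_real_of_odd_pow hreal hrodd hpow
  apply hθne
  apply Units.ext
  exact h1

/-- The induction for Claim A. -/
theorem normalizer_eq_aux : ∀ (n : ℕ) (G : Type u) [Group G] [Finite G] [Group.IsSolvable G],
    Nat.card G = n → ∀ (P : Sylow 2 G),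
    (∀ χ : IrrCharacter G, Odd (charDegree (χ : G → ℂ)) → ∀ g : G, ((χ : G → ℂ) g).im = 0) →
    Subgroup.normalizer ((P : Subgroup G) : Set G) = (P : Subgroup G) := by
  intro n
  induction n using Nat.strong_induction_on with
  | _ n ih =>
  intro G _ _ _ hcard P h
  classical
  haveI : Fact (Nat.Prime 2) := ⟨Nat.prime_two⟩
  apply le_antisymm _ Subgroup.le_normalizer
  by_cases hnt : Nontrivial G
  swap
  · rw [not_nontrivial_iff_subsingleton] at hnt
    intro x _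
    rw [Subsingleton.elim x 1]
    exact one_mem _
  obtain ⟨M, hMmin⟩ := Cfsg.Agent.Lib.Helper6.RealSylow.exists_isMinNormal (G := G)
  haveI hMn : M.Normal := hMmin.1
  have hMab := hMmin.comm_of_solvable (inferInstance : Group.IsSolvable ↥M)
  have hMcard : Nat.card M ≠ 1 := by
    intro h1
    exact hMmin.2.1 (Subgroup.card_eq_one.mp h1)
  obtain ⟨r, hr, hrdvd⟩ := Nat.exists_prime_and_dvd hMcard
  haveI : Fact r.Prime := ⟨hr⟩
  have hexp := hMmin.pow_eq_one hMab hrdvd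
  -- the induction hypothesis on the quotient
  have hlt : Nat.card (G ⧸ M) < Nat.card G :=
    Cfsg.Agent.Lib.Helper6.RealSylow.card_quot_lt M hMmin.2.1
  have hq : ∀ ψ : IrrCharacter (G ⧸ M), Odd (charDegree (ψ : G ⧸ M → ℂ)) →
      ∀ q, ((ψ : G ⧸ M → ℂ) q).im = 0 := by
    intro ψ hψ q
    obtain ⟨g, rfl⟩ := QuotientGroup.mk_surjective q
    exact h ⟨inflate M (ψ : G ⧸ M → ℂ), isIrrCharacter_inflate M ψ.2⟩ hψ g
  have hIH := ih (Nat.card (G ⧸ M)) (hcard ▸ hlt) (G ⧸ M) rfl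
    (P.mapSurjective (QuotientGroup.mk'_surjective M)) hq
  rw [Sylow.coe_mapSurjective] at hIH
  have hdec : ∀ x ∈ Subgroup.normalizer ((P : Subgroup G) : Set G),
      ∃ u ∈ (P : Subgroup G), ∃ c ∈ M, x = u * c := by
    intro x hx
    have h1 : (QuotientGroup.mk' M x) ∈ Subgroup.normalizer
        (((P : Subgroup G).map (QuotientGroup.mk' M) : Subgroup (G ⧸ M)) : Set (G ⧸ M)) :=
      Subgroup.le_normalizer_map _ ⟨x, hx, rfl⟩
    rw [hIH] at h1
    obtain ⟨u, hu, hux⟩ := h1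
    refine ⟨u, hu, u⁻¹ * x, ?_, by group⟩
    exact QuotientGroup.eq.mp hux
  intro x hx
  obtain ⟨u, hu, c, hc, rfl⟩ := hdec x hx
  have hcN : c ∈ Subgroup.normalizer ((P : Subgroup G) : Set G) := by
    have : c = u⁻¹ * (u * c) := by group
    rw [this]
    exact mul_mem (inv_mem (Subgroup.le_normalizer hu)) hx
  by_cases hr2 : r = 2
  · have hM2 : IsPGroup 2 ↥M := by
      intro m
      refine ⟨1, ?_⟩
      apply Subtype.ext
      have := hexp m m.2
      rw [hr2] at this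
      simpa using this
    exact mul_mem hu (Cfsg.Agent.Lib.Helper8.IN.le_sylow_of_normal P M hM2 hc)
  · have hMr : IsPGroup r ↥M := by
      intro m
      refine ⟨1, ?_⟩
      apply Subtype.ext
      simpa using hexp m m.2
    have hdisj : (P : Subgroup G) ⊓ M = ⊥ :=
      (IsPGroup.disjoint_of_ne 2 r (Ne.symm hr2) _ _ P.2 hMr).eq_bot
    have hcent : ∀ v ∈ (P : Subgroup G), v * c = c * v := by
      intro v hv
      have h1 : c * v * c⁻¹ * v⁻¹ ∈ (P : Subgroup G) ⊓ M := by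
        constructor
        · exact Subgroup.mul_mem _ ((Subgroup.mem_normalizer_iff.mp hcN v).mp hv)
            (Subgroup.inv_mem _ hv)
        · have : c * v * c⁻¹ * v⁻¹ = c * (v * c⁻¹ * v⁻¹) := by group
          rw [this]
          exact mul_mem hc (hMn.conj_mem _ (inv_mem hc) v)
      rw [hdisj, Subgroup.mem_bot] at h1
      have h2 : c * v = (c * v * c⁻¹ * v⁻¹) * (v * c) := by group
      rw [h1, one_mul] at h2
      exact h2.symm
    have hc1 := centralizer_trivial P M hMab r hr hr2 hexp hdec h c hc hcent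
    rw [hc1, mul_one]
    exact hu

/-- **Claim A** of S4581: if every odd-degree irreducible character of the solvable group `G` is
real, then a Sylow 2-subgroup of `G` is self-normalising. -/
theorem normalizer_eq_of_all_odd_real {G : Type u} [Group G] [Finite G] [Group.IsSolvable G]
    (P : Sylow 2 G)
    (h : ∀ χ : IrrCharacter G, Odd (charDegree (χ : G → ℂ)) → ∀ g : G, ((χ : G → ℂ) g).im = 0) :
    Subgroup.normalizer ((P : Subgroup G) : Set G) = (P : Subgroup G) :=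
  normalizer_eq_aux (Nat.card G) G rfl P h

end Cfsg.Agent.Lib.Helper4.RealOddA
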