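import Mathlib
import Cfsg.Prelude.Def_Characters
import Cfsg.Prelude.Def_Blocks
import Cfsg.Agent.Lib.helper3.RealOdd1
import Cfsg.Agent.Lib.helper3.Clifford2
import Cfsg.Agent.Lib.helper3.Pdeg2
import Cfsg.Agent.Lib.helper3.Irr15
import Cfsg.Agent.Lib.Helper4.RealNorm1
import Cfsg.Agent.Lib.Helper4.RealOddB
import Cfsg.Agent.Lib.Helper8.IN7

/-!
# S4581, Theorem I', group A: `P`-invariant constituents of odd-degree characters
-/

set_option autoImplicit false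
set_option linter.style.haveILetI false
set_option linter.unusedSectionVars false
set_option linter.unusedVariables false

namespace Cfsg.Agent.Lib.Helper4.RealOddIA

open Cfsg Cfsg.Agent.Lib.helper3.Irr Cfsg.Agent.Lib.helper3.CharBasic
open Cfsg.Agent.Lib.helper3.IndFun Cfsg.Agent.Lib.Helper4.RealNorm
open scoped ComplexConjugate

universe u

variable {G : Type u} [Group G] [Fintype G]

/-- A conjugate of a constituent is a constituent. -/
theorem conj_constituent (Q : Subgroup G) [hQ : Q.Normal] [Fintype Q] (χ : IrrCharacter G)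
    (θ : Q → ℂ) (g : G) (h : classInner (fun q : Q => (χ : G → ℂ) q) θ ≠ 0) :
    classInner (fun q : Q => (χ : G → ℂ) q) (conjFun Q θ g) ≠ 0 := by
  have hχc := isCharacter_of_isIrrCharacter χ.2
  have hcf := isClassFunction_of_isCharacter hχc
  have e : (fun n : Q => (χ : G → ℂ) n) = conjFun Q (fun n : Q => (χ : G → ℂ) n) g := by
    funext n
    unfold conjFun
    exact (hcf (n : G) g).symm
  rw [e, conjFun_eq_comp, conjFun_eq_comp]
  have key := classInner_comp_mulEquiv (MulAut.conjNormal g : ↥Q ≃* ↥Q)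
    (fun n : Q => (χ : G → ℂ) n) θ
  intro h0
  apply h
  rw [← key]
  exact h0

/-- (A1) a `P`-invariant constituent exists. -/
theorem exists_pinv_over (Q : Subgroup G) [hQ : Q.Normal] [Fintype Q] (P : Sylow 2 G)
    (χ : IrrCharacter G) (hodd : Odd (charDegree (χ : G → ℂ))) :
    ∃ μ : IrrCharacter Q, (∀ u ∈ (P : Subgroup G), conjFun Q (μ : Q → ℂ) u = (μ : Q → ℂ)) ∧
      classInner (fun q : Q => (χ : G → ℂ) q) (μ : Q → ℂ) ≠ 0 := by
  classical
  haveI : Fact (Nat.Prime 2) := ⟨Nat.prime_two⟩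
  have hχc := isCharacter_of_isIrrCharacter χ.2
  have hres := isCharacter_restrict hχc Q
  have hne : (fun n : Q => (χ : G → ℂ) n) ≠ 0 := by
    intro h
    have h1 := congrFun h 1
    obtain ⟨d, hd, -, hdpos⟩ := Cfsg.Agent.Lib.helper3.Central.irr_degree_dvd_card χ.2
    have h2 : (χ : G → ℂ) 1 = 0 := h1
    rw [hd] at h2
    have : d = 0 := by exact_mod_cast h2
    omega
  obtain ⟨θ₀, hθ₀⟩ := exists_constituent hres hne
  have hχ2 : ¬ 2 ∣ charDegree (χ : G → ℂ) := by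
    intro h2
    exact (Nat.not_even_iff_odd.mpr hodd) (even_iff_two_dvd.mpr h2)
  obtain ⟨g, hg⟩ := exists_pinv_conj 2 Q P χ hχ2 θ₀ hθ₀
  exact ⟨⟨conjFun Q (θ₀ : Q → ℂ) g, isIrrCharacter_conjFun Q θ₀.2 g⟩, hg,
    conj_constituent Q χ _ g hθ₀⟩

/-- (A2) two `P`-invariant constituents are conjugate under the normaliser of `P`. -/
theorem exists_normalizer_conj (Q : Subgroup G) [hQ : Q.Normal] [Fintype Q] (P : Sylow 2 G)
    (χ : IrrCharacter G) (μ μ' : IrrCharacter Q)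
    (hμ : ∀ u ∈ (P : Subgroup G), conjFun Q (μ : Q → ℂ) u = (μ : Q → ℂ))
    (hμ' : ∀ u ∈ (P : Subgroup G), conjFun Q (μ' : Q → ℂ) u = (μ' : Q → ℂ))
    (h : classInner (fun q : Q => (χ : G → ℂ) q) (μ : Q → ℂ) ≠ 0)
    (h' : classInner (fun q : Q => (χ : G → ℂ) q) (μ' : Q → ℂ) ≠ 0) :
    ∃ n ∈ Subgroup.normalizer ((P : Subgroup G) : Set G),
      (μ' : Q → ℂ) = conjFun Q (μ : Q → ℂ) n := by
  classical
  haveI : Fact (Nat.Prime 2) := ⟨Nat.prime_two⟩
  obtain ⟨x, hx⟩ := Cfsg.Agent.Lib.helper3.RealOdd.exists_conj_of_constituents Q χ μ μ' h h'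
  letI := conjAct Q
  have hsm : ∀ (y : G) (f : ↥Q → ℂ), y • f = conjFun Q f y⁻¹ := fun _ _ => rfl
  have ha : ∀ y ∈ (P : Subgroup G), y • (μ : Q → ℂ) = (μ : Q → ℂ) := by
    intro y hy
    rw [hsm]
    exact hμ y⁻¹ (inv_mem hy)
  have hxb : x⁻¹ • (μ : Q → ℂ) = (μ' : Q → ℂ) := by
    rw [hsm, inv_inv]
    exact hx.symm
  have hga : ∀ y ∈ (P : Subgroup G), y • (x⁻¹ • (μ : Q → ℂ)) = x⁻¹ • (μ : Q → ℂ) := by
    intro y hy
    rw [hxb, hsm]
    exact hμ' y⁻¹ (inv_mem hy)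
  obtain ⟨n, hn, hnμ⟩ := Cfsg.Agent.Lib.Helper8.IN.exists_normalizer_smul_eq P (μ : Q → ℂ) x⁻¹
    ha hga
  refine ⟨n⁻¹, inv_mem hn, ?_⟩
  rw [hxb, hsm] at hnμ
  exact hnμ.symm

/-- (A3) constituents of a real character of odd degree are real. -/
theorem real_of_real_odd_over (Q : Subgroup G) [hQ : Q.Normal] [Fintype Q]
    (χ : IrrCharacter G) (hr : ∀ g : G, ((χ : G → ℂ) g).im = 0)
    (hodd : Odd (charDegree (χ : G → ℂ))) (μ : IrrCharacter Q)
    (h : classInner (fun q : Q => (χ : G → ℂ) q) (μ : Q → ℂ) ≠ 0) :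
    ∀ q : Q, ((μ : Q → ℂ) q).im = 0 := by
  classical
  obtain ⟨dχ, hdχ, -, -⟩ := Cfsg.Agent.Lib.helper3.Central.irr_degree_dvd_card χ.2
  have hdodd : Odd dχ := by
    rwa [Cfsg.Agent.Lib.helper3.Pdeg.charDegree_eq' hdχ] at hodd
  set s : Finset (↥Q → ℂ) := Finset.univ.image (conjFun Q (μ : Q → ℂ)) with hs
  have hsr : (s : Set (↥Q → ℂ)) = Set.range (conjFun Q (μ : Q → ℂ)) := by
    ext ψ
    simp [hs]
  have hcard : Odd s.card := by
    have h1 := orbit_ncard_dvd Q (χ : G → ℂ) χ.2 (μ : Q → ℂ) μ.2 h dχ hdχ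
    rw [← hsr, Set.ncard_coe_finset] at h1
    exact Odd.of_dvd_nat hdodd h1
  have hχreal : ∀ g, conj ((χ : G → ℂ) g) = (χ : G → ℂ) g :=
    fun g => Complex.conj_eq_iff_im.mpr (hr g)
  have hconjmem : ∀ ψ ∈ s, (fun n => conj (ψ n)) ∈ s := by
    intro ψ hψ
    obtain ⟨g, -, rfl⟩ := Finset.mem_image.mp hψ
    let θc : IrrCharacter Q := ⟨fun n => conj ((μ : Q → ℂ) n), isIrrCharacter_conj μ.2⟩
    have hθc : classInner (fun n : Q => (χ : G → ℂ) n) (θc : Q → ℂ) ≠ 0 := by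
      have e : (fun n : Q => (χ : G → ℂ) n) = fun n : Q => conj ((χ : G → ℂ) n) := by
        funext n
        exact (hχreal n).symm
      rw [e]
      show classInner (fun n : Q => conj ((χ : G → ℂ) n))
        (fun n => conj ((μ : Q → ℂ) n)) ≠ 0
      rw [classInner_conj_conj]
      intro h0
      apply h
      have := congrArg conj h0
      simpa using this
    obtain ⟨g', hg'⟩ := Cfsg.Agent.Lib.helper3.RealOdd.exists_conj_of_constituents Q χ μ θc
      h hθc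
    apply Finset.mem_image.mpr
    refine ⟨g' * g, Finset.mem_univ _, ?_⟩
    rw [← conjFun_mul, ← hg']
    rfl
  obtain ⟨ψ, hψs, hψfix⟩ :=
    Cfsg.Agent.Lib.Helper4.RealOddB.exists_fixed_of_involutive_odd s
      (fun ψ => fun n => conj (ψ n)) hconjmem (by
        intro ψ _
        funext n
        simp) hcard
  obtain ⟨g, -, rfl⟩ := Finset.mem_image.mp hψs
  intro q
  have hq : g⁻¹ * (q : G) * g⁻¹⁻¹ ∈ Q := hQ.conj_mem q q.2 g⁻¹
  have h1 := congrFun hψfix ⟨g⁻¹ * (q : G) * g⁻¹⁻¹, hq⟩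
  have h2 : conjFun Q (μ : Q → ℂ) g ⟨g⁻¹ * (q : G) * g⁻¹⁻¹, hq⟩ = (μ : Q → ℂ) q := by
    unfold conjFun
    have e : (⟨g * (g⁻¹ * (q : G) * g⁻¹⁻¹) * g⁻¹,
        hQ.conj_mem _ hq g⟩ : ↥Q) = q := by
      apply Subtype.ext
      show g * (g⁻¹ * (q : G) * g⁻¹⁻¹) * g⁻¹ = q
      group
    exact congrArg (μ : Q → ℂ) e
  simp only [h2] at h1
  exact Complex.conj_eq_iff_im.mp h1

/-- (A4) constituents on a normal `2`-subgroup of an odd-degree character are linear. -/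
theorem linear_of_odd_over (Q : Subgroup G) [hQ : Q.Normal] [Fintype Q] (hQ2 : IsPGroup 2 Q)
    (χ : IrrCharacter G) (hodd : Odd (charDegree (χ : G → ℂ))) (μ : IrrCharacter Q)
    (h : classInner (fun q : Q => (χ : G → ℂ) q) (μ : Q → ℂ) ≠ 0) :
    (μ : Q → ℂ) 1 = 1 := by
  classical
  haveI : Fact (Nat.Prime 2) := ⟨Nat.prime_two⟩
  obtain ⟨dχ, hdχ, -, -⟩ := Cfsg.Agent.Lib.helper3.Central.irr_degree_dvd_card χ.2
  obtain ⟨dμ, hdμ, hdvdQ, -⟩ := Cfsg.Agent.Lib.helper3.Central.irr_degree_dvd_card μ.2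
  have hdodd : Odd dχ := by
    rwa [Cfsg.Agent.Lib.helper3.Pdeg.charDegree_eq' hdχ] at hodd
  have hdvd := constituent_degree_dvd Q (χ : G → ℂ) χ.2 (μ : Q → ℂ) μ.2 h dχ dμ hdχ hdμ
  have hμodd : Odd dμ := Odd.of_dvd_nat hdodd hdvd
  obtain ⟨k, hk⟩ := IsPGroup.exists_card_eq hQ2
  rw [hk] at hdvdQ
  have hd1 : dμ = 1 := by
    apply Nat.Coprime.eq_one_of_dvd _ hdvdQ
    exact Nat.Coprime.pow_right k (Nat.coprime_two_right.mpr hμodd)
  rw [hdμ, hd1]
  simp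

end Cfsg.Agent.Lib.Helper4.RealOddIA
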