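import Mathlib
import Cfsg.Prelude.Def_Characters
import Cfsg.Agent.Lib.Helper4.FS
import Cfsg.Agent.Lib.helper3.Central
import Cfsg.Agent.Lib.helper3.RepEquiv

/-!
# Real representations and the Frobenius--Schur indicator

* `isIrreducible_of_equiv`: irreducibility transfers along an equivalence of representations.
* `exists_real_form`: an irreducible complex matrix representation with Frobenius--Schur indicator
  `1` is conjugate to a representation by real matrices.
-/

namespace Cfsg.Agent.Lib.Helper4.RealRep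

open Cfsg Module Cfsg.Agent.Lib.helper3.IndFun Cfsg.Agent.Lib.helper3.CharBasic
open Cfsg.Agent.Lib.helper3.Irr
open scoped ComplexConjugate

section transfer

variable {G : Type*} [Group G] {V W : Type*} [AddCommGroup V] [Module ℂ V] [AddCommGroup W]
  [Module ℂ W]

/-- Irreducibility transfers along an equivalence of representations. -/
theorem isIrreducible_of_equiv {ρ : Representation ℂ G V} {σ : Representation ℂ G W}
    (e : ρ.Equiv σ) (hσ : σ.IsIrreducible) : ρ.IsIrreducible := by
  have heint : ∀ (g : G) (v : V), e (ρ g v) = σ g (e v) := fun g v =>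
    Representation.IntertwiningMap.isIntertwining _ _ e.toIntertwiningMap g v
  have hinj : Function.Injective e := e.toLinearEquiv.injective
  have hsurj : Function.Surjective e := e.toLinearEquiv.surjective
  let F : Subrepresentation ρ → Subrepresentation σ := fun U =>
    { toSubmodule := U.toSubmodule.map e.toLinearEquiv.toLinearMap
      apply_mem_toSubmodule := by
        rintro g _ ⟨v, hv, rfl⟩
        exact ⟨ρ g v, U.apply_mem_toSubmodule g hv, heint g v⟩ }
  have hF : ∀ (U : Subrepresentation ρ) (w : W), w ∈ (F U).toSubmodule ↔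
      ∃ v ∈ U.toSubmodule, e v = w := fun U w => Iff.rfl
  refine { exists_pair_ne := ⟨⊥, ⊤, ?_⟩, eq_bot_or_eq_top := ?_ }
  · intro h
    have hV : ∀ v : V, v = 0 := by
      intro v
      have h1 : v ∈ (⊤ : Subrepresentation ρ).toSubmodule := Submodule.mem_top
      rw [← h] at h1
      exact (Submodule.mem_bot ℂ).mp h1
    have hW : ∀ w : W, w = 0 := by
      intro w
      obtain ⟨v, rfl⟩ := hsurj w
      rw [hV v, map_zero]
    have : (⊥ : Subrepresentation σ) = ⊤ := by
      apply Subrepresentation.toSubmodule_injective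
      apply le_antisymm bot_le
      intro w _
      rw [hW w]
      exact Submodule.zero_mem _
    exact bot_ne_top this
  · intro U
    rcases eq_bot_or_eq_top (F U) with h | h
    · left
      apply Subrepresentation.toSubmodule_injective
      apply le_antisymm _ bot_le
      intro v hv
      have h1 : e v ∈ (F U).toSubmodule := (hF U _).mpr ⟨v, hv, rfl⟩
      rw [h] at h1
      have h2 : e v = 0 := (Submodule.mem_bot ℂ).mp h1
      have h3 : v = 0 := hinj (h2.trans (map_zero e).symm)
      rw [h3]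
      exact Submodule.zero_mem _
    · right
      apply Subrepresentation.toSubmodule_injective
      apply le_antisymm le_top
      intro v _
      have h1 : e v ∈ (F U).toSubmodule := by
        rw [h]
        exact Submodule.mem_top
      obtain ⟨u, hu, hue⟩ := (hF U _).mp h1
      rw [← hinj hue]
      exact hu

end transfer

section cj

variable {m : Type*} [Fintype m] [DecidableEq m]

/-- entrywise complex conjugation of a matrix -/
def cj (M : Matrix m m ℂ) : Matrix m m ℂ := M.map (starRingEnd ℂ)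

theorem cj_apply (M : Matrix m m ℂ) (i j : m) : cj M i j = conj (M i j) := rfl

theorem cj_mul (M N : Matrix m m ℂ) : cj (M * N) = cj M * cj N := by
  unfold cj
  exact Matrix.map_mul

theorem cj_add (M N : Matrix m m ℂ) : cj (M + N) = cj M + cj N := by
  ext i j
  simp [cj_apply]

theorem cj_smul (c : ℂ) (M : Matrix m m ℂ) : cj (c • M) = conj c • cj M := by
  ext i j
  simp [cj_apply]

theorem cj_one : cj (1 : Matrix m m ℂ) = 1 := by
  ext i j
  rw [cj_apply, Matrix.one_apply]
  split_ifs <;> simp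

theorem cj_cj (M : Matrix m m ℂ) : cj (cj M) = M := by
  ext i j
  simp [cj_apply]

theorem conjTranspose_eq (M : Matrix m m ℂ) : M.conjTranspose = (cj M).transpose := by
  ext i j
  rfl

theorem conjTranspose_transpose_eq (M : Matrix m m ℂ) : M.conjTranspose.transpose = cj M := by
  ext i j
  rfl

theorem cj_transpose (M : Matrix m m ℂ) : cj M.transpose = M.conjTranspose := by
  ext i j
  rfl

theorem cj_injective : Function.Injective (cj : Matrix m m ℂ → Matrix m m ℂ) := by
  intro M N h
  rw [← cj_cj M, h, cj_cj]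

end cj

section unitary

open scoped ComplexOrder

variable {G : Type*} [Group G] [Fintype G] {n : ℕ}

/-- The averaged hermitian form of a finite matrix group is positive definite and invariant. -/
theorem exists_invariant_posDef (X : G → Matrix (Fin n) (Fin n) ℂ)
    (hmul : ∀ g h, X (g * h) = X g * X h) (h1 : X 1 = 1) :
    ∃ H : Matrix (Fin n) (Fin n) ℂ, H.PosDef ∧ ∀ h : G, (X h).conjTranspose * H * X h = H := by
  classical
  refine ⟨∑ g : G, (X g).conjTranspose * X g, ?_, ?_⟩
  · apply Matrix.posDef_sum Finset.univ_nonempty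
    intro g _
    apply Matrix.PosDef.conjTranspose_mul_self
    intro v w hvw
    have h2 : X g⁻¹ * X g = 1 := by rw [← hmul, inv_mul_cancel, h1]
    have h3 := congrArg (fun u => (X g⁻¹).mulVec u) hvw
    simp only [Matrix.mulVec_mulVec, h2, Matrix.one_mulVec] at h3
    exact h3
  · intro h
    rw [Finset.mul_sum, Finset.sum_mul]
    apply Fintype.sum_equiv (Equiv.mulRight h)
    intro g
    simp only [Equiv.coe_mulRight]
    rw [hmul, Matrix.conjTranspose_mul]
    simp only [Matrix.mul_assoc]

end unitary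

section realform

open scoped ComplexOrder

variable {G : Type*} [Group G] [Fintype G] {n : ℕ}

/-- A finite irreducible matrix group preserving a nondegenerate symmetric bilinear form is
conjugate to a group of real matrices. -/
theorem exists_real_conjugate (X : G → Matrix (Fin n) (Fin n) ℂ)
    (hmul : ∀ g h, X (g * h) = X g * X h) (h1 : X 1 = 1) (hn : 0 < n)
    (hschur : ∀ T : Matrix (Fin n) (Fin n) ℂ, (∀ g, X g * T = T * X g) → ∃ c : ℂ, T = c • 1)
    (B : Matrix (Fin n) (Fin n) ℂ) (hdet : B.det ≠ 0)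
    (hinv : ∀ g, X g * B * (X g).transpose = B) (hsym : B.transpose = B) :
    ∃ S : Matrix (Fin n) (Fin n) ℂ, IsUnit S.det ∧
      ∀ g, cj (S⁻¹ * X g * S) = S⁻¹ * X g * S := by
  classical
  obtain ⟨H, hHpd, hHinv⟩ := exists_invariant_posDef X hmul h1
  have hHherm : H.conjTranspose = H := hHpd.isHermitian
  have hXinv : ∀ g, X g⁻¹ * X g = 1 := by
    intro g
    rw [← hmul, inv_mul_cancel, h1]
  have hXinv' : ∀ g, X g * X g⁻¹ = 1 := by
    intro g
    rw [← hmul, mul_inv_cancel, h1]
  have hAB : ∀ g : G, X g * B = B * (X g⁻¹).transpose := by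
    intro g
    have h2 : X g * B * (X g).transpose * (X g⁻¹).transpose = B * (X g⁻¹).transpose := by
      rw [hinv g]
    rw [Matrix.mul_assoc, ← Matrix.transpose_mul, hXinv, Matrix.transpose_one,
      Matrix.mul_one] at h2
    exact h2
  -- the intertwiner between the conjugate representation and the representation
  obtain ⟨C, hC⟩ : ∃ C : Matrix (Fin n) (Fin n) ℂ, C = B * H.transpose := ⟨_, rfl⟩
  have hHt : ∀ g, H.transpose * cj (X g) = (X g⁻¹).transpose * H.transpose := by
    intro g
    have h2 := congrArg Matrix.transpose (hHinv g)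
    rw [Matrix.transpose_mul, Matrix.transpose_mul, conjTranspose_transpose_eq] at h2
    have h3 : (X g⁻¹).transpose * ((X g).transpose * (H.transpose * cj (X g)))
        = (X g⁻¹).transpose * H.transpose := by rw [h2]
    rw [← Matrix.mul_assoc, ← Matrix.transpose_mul, hXinv', Matrix.transpose_one,
      Matrix.one_mul] at h3
    exact h3
  have hCX : ∀ g, C * cj (X g) = X g * C := by
    intro g
    rw [hC, Matrix.mul_assoc, hHt g, ← Matrix.mul_assoc, ← hAB g, Matrix.mul_assoc]
  have hcomm : ∀ g, X g * (C * cj C) = (C * cj C) * X g := by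
    intro g
    have h2 : cj C * X g = cj (X g) * cj C := by
      have := congrArg cj (hCX g)
      rw [cj_mul, cj_mul, cj_cj] at this
      exact this
    rw [← Matrix.mul_assoc, ← hCX g, Matrix.mul_assoc, Matrix.mul_assoc, h2]
  obtain ⟨lam, hlam⟩ := hschur _ hcomm
  -- positivity of `lam`
  have hcjB : cj B = B.conjTranspose := by
    conv_lhs => rw [← hsym]
    exact cj_transpose B
  have hcjC : cj C = B.conjTranspose * H := by
    rw [hC, cj_mul, cj_transpose, hHherm, hcjB]
  have hBu : IsUnit B := (Matrix.isUnit_iff_isUnit_det B).mpr (isUnit_iff_ne_zero.mpr hdet)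
  have hP : (B * H.transpose * B.conjTranspose).PosDef :=
    (Matrix.IsUnit.posDef_star_right_conjugate_iff hBu (x := H.transpose)).mpr hHpd.transpose
  have hHu : IsUnit H := hHpd.isUnit
  have hPH : B * H.transpose * B.conjTranspose * H = lam • 1 := by
    rw [← hlam, hcjC, hC, Matrix.mul_assoc (B * H.transpose)]
  have hlamH : (lam • H).PosDef := by
    have := (Matrix.IsUnit.posDef_star_left_conjugate_iff hHu
      (x := B * H.transpose * B.conjTranspose)).mpr hP
    rw [Matrix.star_eq_conjTranspose, hHherm, Matrix.mul_assoc, hPH, Matrix.mul_smul,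
      Matrix.mul_one] at this
    exact this
  have ha := hHpd.diag_pos (i := (⟨0, hn⟩ : Fin n))
  have hla := hlamH.diag_pos (i := (⟨0, hn⟩ : Fin n))
  rw [Matrix.smul_apply, smul_eq_mul] at hla
  set a : ℂ := H ⟨0, hn⟩ ⟨0, hn⟩ with hadef
  have hlam_pos : 0 < lam.re ∧ lam.im = 0 := by
    rw [Complex.pos_iff] at ha hla
    obtain ⟨ha1, ha2⟩ := ha
    obtain ⟨hla1, hla2⟩ := hla
    rw [Complex.mul_re, ← ha2, mul_zero, sub_zero] at hla1
    rw [Complex.mul_im, ← ha2, mul_zero, zero_add] at hla2
    constructor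
    · exact (mul_pos_iff_of_pos_right ha1).mp hla1
    · rcases mul_eq_zero.mp hla2.symm with h | h
      · exact h
      · exact absurd h ha1.ne'
  obtain ⟨s, hs⟩ : ∃ s : ℝ, s = Real.sqrt lam.re := ⟨_, rfl⟩
  have hs0 : 0 < s := by rw [hs]; exact Real.sqrt_pos.mpr hlam_pos.1
  have hs2 : ((s : ℂ)) ^ 2 = lam := by
    have h2 : lam = ((lam.re : ℝ) : ℂ) := by
      apply Complex.ext
      · simp
      · simp [hlam_pos.2]
    rw [h2, ← Complex.ofReal_pow, hs, Real.sq_sqrt hlam_pos.1.le]
  have hsC : (s : ℂ) ≠ 0 := by exact_mod_cast hs0.ne'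
  obtain ⟨C', hC'⟩ : ∃ C' : Matrix (Fin n) (Fin n) ℂ, C' = ((s : ℂ)⁻¹) • C := ⟨_, rfl⟩
  have hcjC' : cj C' = ((s : ℂ)⁻¹) • cj C := by
    rw [hC', cj_smul, map_inv₀, Complex.conj_ofReal]
  have hCC' : C' * cj C' = 1 := by
    rw [hcjC', hC', Matrix.smul_mul, Matrix.mul_smul, smul_smul, hlam, smul_smul]
    have : (s : ℂ)⁻¹ * (s : ℂ)⁻¹ * lam = 1 := by
      rw [← hs2]
      field_simp
    rw [this, one_smul]
  have hC'X : ∀ g, C' * cj (X g) = X g * C' := by
    intro g
    rw [hC', Matrix.smul_mul, hCX g, Matrix.mul_smul]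
  -- Hilbert 90: choose `t` with `S = (1 + t i) + (1 - t i) C'` invertible
  have hfin := Matrix.finite_spectrum C'
  have hden : ∀ t : ℝ, (1 - (t : ℂ) * Complex.I) ≠ 0 := by
    intro t h
    have := congrArg Complex.re h
    simp at this
  let z : ℝ → ℂ := fun t => -((1 + (t : ℂ) * Complex.I) / (1 - (t : ℂ) * Complex.I))
  have hzinj : Function.Injective z := by
    intro t t' h
    simp only [z, neg_inj] at h
    rw [div_eq_div_iff (hden t) (hden t')] at h
    have := congrArg Complex.im h
    simp at this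
    linarith
  obtain ⟨t, ht⟩ : ∃ t : ℝ, z t ∉ spectrum ℂ C' := by
    have := (hfin.preimage (hzinj.injOn)).exists_notMem
    obtain ⟨t, ht⟩ := this
    exact ⟨t, fun h => ht h⟩
  have hunit : IsUnit (algebraMap ℂ (Matrix (Fin n) (Fin n) ℂ) (z t) - C') := by
    rw [spectrum.mem_iff, not_not] at ht
    exact ht
  obtain ⟨S, hS⟩ : ∃ S : Matrix (Fin n) (Fin n) ℂ, S =
    (1 + (t : ℂ) * Complex.I) • (1 : Matrix (Fin n) (Fin n) ℂ) + (1 - (t : ℂ) * Complex.I) • C' :=
    ⟨_, rfl⟩
  have hSeq : S = (-(1 - (t : ℂ) * Complex.I)) •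
      (algebraMap ℂ (Matrix (Fin n) (Fin n) ℂ) (z t) - C') := by
    rw [Algebra.algebraMap_eq_smul_one, smul_sub, smul_smul]
    have : -(1 - (t : ℂ) * Complex.I) * z t = (1 + (t : ℂ) * Complex.I) := by
      simp only [z]
      have := hden t
      field_simp
    rw [this, hS, neg_smul, sub_neg_eq_add]
  have hSdet : IsUnit S.det := by
    rw [hSeq, Matrix.det_smul]
    apply IsUnit.mul
    · apply IsUnit.pow
      rw [isUnit_iff_ne_zero]
      exact neg_ne_zero.mpr (hden t)
    · exact (Matrix.isUnit_iff_isUnit_det _).mp hunit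
  have hcjS : C' * cj S = S := by
    rw [hS, cj_add, cj_smul, cj_smul, cj_one, Matrix.mul_add, Matrix.mul_smul, Matrix.mul_smul,
      Matrix.mul_one, hCC']
    have e1 : conj (1 + (t : ℂ) * Complex.I) = 1 - (t : ℂ) * Complex.I := by
      simp [sub_eq_add_neg]
    have e2 : conj (1 - (t : ℂ) * Complex.I) = 1 + (t : ℂ) * Complex.I := by
      simp [sub_eq_add_neg]
    rw [e1, e2, add_comm]
  refine ⟨S, hSdet, ?_⟩
  intro g
  have hSS : S⁻¹ * S = 1 := Matrix.nonsing_inv_mul S hSdet
  have hSS' : S * S⁻¹ = 1 := Matrix.mul_nonsing_inv S hSdet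
  have h3 : S * cj S⁻¹ = C' := by
    calc S * cj S⁻¹ = (C' * cj S) * cj S⁻¹ := by rw [hcjS]
      _ = C' * cj (S * S⁻¹) := by rw [Matrix.mul_assoc, cj_mul]
      _ = C' := by rw [hSS', cj_one, Matrix.mul_one]
  have h2 : S * cj (S⁻¹ * X g * S) = X g * S := by
    rw [cj_mul, cj_mul, ← Matrix.mul_assoc, ← Matrix.mul_assoc, h3, hC'X g, Matrix.mul_assoc,
      hcjS]
  have h4 : S * (S⁻¹ * X g * S) = X g * S := by
    rw [← Matrix.mul_assoc, ← Matrix.mul_assoc, hSS', Matrix.one_mul]
  have h5 := congrArg (fun M => S⁻¹ * M) (h2.trans h4.symm)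
  simp only [← Matrix.mul_assoc, hSS, Matrix.one_mul] at h5
  simp only [Matrix.mul_assoc] at h5 ⊢
  exact h5

end realform

section main

variable {G : Type*} [Group G] [Fintype G]

/-- A multiplicative family of real matrices, as a real representation. -/
noncomputable def repOfMatrix {n : ℕ} (R : G → Matrix (Fin n) (Fin n) ℝ)
    (hmul : ∀ g h, R (g * h) = R g * R h) (h1 : R 1 = 1) : Representation ℝ G (Fin n → ℝ) where
  toFun g := Matrix.toLin' (R g)
  map_one' := by rw [h1, Matrix.toLin'_one]; rfl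
  map_mul' g h := by rw [hmul, Matrix.toLin'_mul]; rfl

theorem repOfMatrix_apply {n : ℕ} (R : G → Matrix (Fin n) (Fin n) ℝ)
    (hmul : ∀ g h, R (g * h) = R g * R h) (h1 : R 1 = 1) (g : G) :
    repOfMatrix R hmul h1 g = Matrix.toLin' (R g) := rfl

/-- **Frobenius--Schur.** An irreducible complex representation with indicator `1` is realizable
over the reals. -/
theorem exists_real_rep_of_fsInd_eq_one (d : ℕ) (ρ : Representation ℂ G (Fin d → ℂ))
    (hirr : ρ.IsIrreducible) (hν : fsInd ρ.character = 1) :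
    ∃ ρR : Representation ℝ G (Fin d → ℝ),
      ∀ g, ((LinearMap.trace ℝ (Fin d → ℝ) (ρR g) : ℝ) : ℂ) = ρ.character g := by
  classical
  haveI := hirr
  have hχ : IsIrrCharacter G ρ.character := ⟨d, ρ, hirr, rfl⟩
  have hreal : ∀ g, conj (ρ.character g) = ρ.character g :=
    FS.real_of_fsInd_ne_zero hχ (by rw [hν]; exact one_ne_zero)
  obtain ⟨B, hdet, hinv, hsym⟩ := FS.exists_invariant_form d ρ hirr hreal
  rw [hν, one_smul] at hsym
  obtain ⟨X, hX⟩ : ∃ X : G → Matrix (Fin d) (Fin d) ℂ, X = fun g => LinearMap.toMatrix' (ρ g) :=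
    ⟨_, rfl⟩
  have hXg : ∀ g, LinearMap.toMatrix' (ρ g) = X g := fun g => by rw [hX]
  have hρX : ∀ g, ρ g = Matrix.toLin' (X g) := fun g => by rw [hX, Matrix.toLin'_toMatrix']
  simp only [hXg] at hinv
  have hmul : ∀ g h : G, X (g * h) = X g * X h := by
    intro g h
    simp only [hX]
    rw [map_mul, ← LinearMap.toMatrix'_mul]
  have hX1 : X 1 = 1 := by
    simp only [hX]
    rw [map_one]
    exact LinearMap.toMatrix'_one
  have hd : 0 < d := by
    have := Cfsg.Agent.Lib.helper3.Central.finrank_ne_zero_of_irreducible ρ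
    rw [Module.finrank_fin_fun] at this
    have h2 : d ≠ 0 := by exact_mod_cast this
    omega
  have hschur : ∀ T : Matrix (Fin d) (Fin d) ℂ, (∀ g, X g * T = T * X g) →
      ∃ c : ℂ, T = c • 1 := by
    intro T hT
    obtain ⟨c, hc⟩ := Cfsg.Agent.Lib.helper3.Central.exists_eq_smul_id ρ (Matrix.toLin' T) (by
      intro g v
      rw [hρX g, ← LinearMap.comp_apply, ← LinearMap.comp_apply, ← Matrix.toLin'_mul,
        ← Matrix.toLin'_mul, hT g])
    refine ⟨c, ?_⟩
    apply Matrix.toLin'.injective
    rw [hc, map_smul, Matrix.toLin'_one]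
  obtain ⟨S, hSdet, hSreal⟩ := exists_real_conjugate X hmul hX1 hd hschur B hdet hinv hsym
  have hSS : S⁻¹ * S = 1 := Matrix.nonsing_inv_mul S hSdet
  have hSS' : S * S⁻¹ = 1 := Matrix.mul_nonsing_inv S hSdet
  obtain ⟨R, hR⟩ : ∃ R : G → Matrix (Fin d) (Fin d) ℂ, R = fun g => S⁻¹ * X g * S := ⟨_, rfl⟩
  have hRg : ∀ g, R g = S⁻¹ * X g * S := fun g => by rw [hR]
  have hRmul : ∀ g h, R (g * h) = R g * R h := by
    intro g h
    rw [hRg, hRg, hRg, hmul]
    calc S⁻¹ * (X g * X h) * S = S⁻¹ * X g * 1 * (X h * S) := by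
          simp only [Matrix.mul_assoc, Matrix.one_mul]
      _ = S⁻¹ * X g * S * (S⁻¹ * X h * S) := by
          rw [← hSS']
          simp only [Matrix.mul_assoc]
  have hR1 : R 1 = 1 := by
    rw [hRg, hX1, Matrix.mul_one, hSS]
  have hRreal : ∀ g i j, ((R g i j).re : ℂ) = R g i j := by
    intro g i j
    have h2 := congrFun (congrFun (hSreal g) i) j
    rw [cj_apply, ← hRg] at h2
    exact Complex.conj_eq_iff_re.mp h2
  obtain ⟨R', hR'⟩ : ∃ R' : G → Matrix (Fin d) (Fin d) ℝ, R' = fun g => (R g).map Complex.re :=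
    ⟨_, rfl⟩
  have hR'map : ∀ g, (R' g).map (Complex.ofRealHom : ℝ →+* ℂ) = R g := by
    intro g
    ext i j
    rw [hR']
    simp only [Matrix.map_apply, Complex.ofRealHom_eq_coe]
    exact hRreal g i j
  have hinjmap : Function.Injective
      (fun M : Matrix (Fin d) (Fin d) ℝ => M.map (Complex.ofRealHom : ℝ →+* ℂ)) :=
    Matrix.map_injective Complex.ofReal_injective
  have hR'mul : ∀ g h, R' (g * h) = R' g * R' h := by
    intro g h
    apply hinjmap
    show (R' (g * h)).map (Complex.ofRealHom : ℝ →+* ℂ)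
      = (R' g * R' h).map (Complex.ofRealHom : ℝ →+* ℂ)
    rw [Matrix.map_mul, hR'map, hR'map, hR'map, hRmul]
  have hR'1 : R' 1 = 1 := by
    apply hinjmap
    show (R' 1).map (Complex.ofRealHom : ℝ →+* ℂ)
      = (1 : Matrix (Fin d) (Fin d) ℝ).map (Complex.ofRealHom : ℝ →+* ℂ)
    rw [hR'map, hR1, Matrix.map_one _ (map_zero _) (map_one _)]
  refine ⟨repOfMatrix R' hR'mul hR'1, ?_⟩
  intro g
  rw [repOfMatrix_apply, Matrix.trace_toLin'_eq]
  have h2 : ((Matrix.trace (R' g) : ℝ) : ℂ) = Matrix.trace (R g) := by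
    rw [← hR'map g]
    simp only [Matrix.trace, Matrix.diag_apply, Matrix.map_apply, Complex.ofRealHom_eq_coe]
    push_cast
    rfl
  rw [h2, hRg, Matrix.trace_mul_cycle, hSS', Matrix.one_mul]
  unfold Representation.character
  rw [hρX g, Matrix.trace_toLin'_eq]

end main

end Cfsg.Agent.Lib.Helper4.RealRep
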