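import Mathlib
import Cfsg.Agent.Lib.Helper4.RobDefs
import Cfsg.Agent.Lib.Helper4.PSepNormal
import Cfsg.Agent.Lib.helper3.DefectOrder3
import Cfsg.Agent.Lib.helper3.CentSupp3
import Cfsg.Agent.Lib.helper3.BlockMinMax3
import Cfsg.Agent.Lib.helper3.FirstMain2

set_option autoImplicit false
set_option linter.style.haveILetI false
set_option linter.unusedSectionVars false
set_option maxHeartbeats 1000000

/-! Robinson's count of the blocks with a normal defect group: the block-theoretic pieces (D1), (D2)
(helper4). -/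

namespace Cfsg.Agent.Lib.Helper4.Rob

open Cfsg Cfsg.Agent.Lib.helper3.CharBasic Cfsg.Agent.Lib.helper3.Irr
open Cfsg.Agent.Lib.helper3.Central Cfsg.Agent.Lib.helper3.LocalM
open Cfsg.Agent.Lib.helper3.Block Cfsg.Agent.Lib.helper3.Lin
open Cfsg.Agent.Lib.Helper4.PSepDet Cfsg.Agent.Lib.Helper4.PSepNormal
open Classical

variable {M : Ideal AlgInt} {G : Type*} [Group G] [Finite G]

theorem good_conj {p : ℕ} [hp : Fact p.Prime] (D : Subgroup G) [hDn : D.Normal] {x : G}
    (hx : Good p D x) (t : G) : Good p D (t * x * t⁻¹) := by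
  letI : Fintype G := Fintype.ofFinite G
  obtain ⟨hreg, Q, hQ⟩ := hx
  refine ⟨?_, ?_⟩
  · have : orderOf (t * x * t⁻¹) = orderOf x := (MulAut.conj t).orderOf_eq x
    rw [this]; exact hreg
  · -- a Sylow subgroup of the conjugate centralizer
    have hDp : IsPGroup p D := by rw [← hQ]; exact Q.2.map _
    have hDC : D ≤ Subgroup.centralizer ({t * x * t⁻¹} : Set G) := by
      intro d hd
      have h1 : t⁻¹ * d * t⁻¹⁻¹ ∈ D := hDn.conj_mem d hd t⁻¹
      have h2 : t⁻¹ * d * t⁻¹⁻¹ ∈ Subgroup.centralizer ({x} : Set G) := by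
        rw [← hQ] at h1
        exact Subgroup.map_subtype_le _ h1
      rw [Subgroup.mem_centralizer_iff] at h2 ⊢
      intro b hb
      rw [Set.mem_singleton_iff] at hb
      rw [hb]
      have h3 := h2 x rfl
      rw [inv_inv] at h3
      calc t * x * t⁻¹ * d = t * (x * (t⁻¹ * d * t)) * t⁻¹ := by group
        _ = t * ((t⁻¹ * d * t) * x) * t⁻¹ := by rw [h3]
        _ = d * (t * x * t⁻¹) := by group
    obtain ⟨Q', hQ'⟩ := (hDp.comap_subtype (H := D)
      (K := Subgroup.centralizer ({t * x * t⁻¹} : Set G))).exists_le_sylow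
    refine ⟨Q', ?_⟩
    have hle : D ≤ (Q' : Subgroup ↥(Subgroup.centralizer ({t * x * t⁻¹} : Set G))).map
        (Subgroup.centralizer ({t * x * t⁻¹} : Set G)).subtype := by
      intro d hd
      refine ⟨⟨d, hDC hd⟩, hQ' ?_, rfl⟩
      show d ∈ D
      exact hd
    have hcard1 : Nat.card (Subgroup.centralizer ({t * x * t⁻¹} : Set G)) =
        Nat.card (Subgroup.centralizer ({x} : Set G)) := by
      have h1 := Subgroup.card_mul_index (Subgroup.centralizer ({t * x * t⁻¹} : Set G))
      have h2 := Subgroup.card_mul_index (Subgroup.centralizer ({x} : Set G))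
      have h3 : (Subgroup.centralizer ({t * x * t⁻¹} : Set G)).index =
          (Subgroup.centralizer ({x} : Set G)).index := index_centralizer_conj x t
      rw [h3, ← h2] at h1
      exact Nat.eq_of_mul_eq_mul_right (Nat.pos_of_ne_zero Subgroup.index_ne_zero_of_finite) h1
    have hcard : Nat.card ((Q' : Subgroup ↥(Subgroup.centralizer ({t * x * t⁻¹} : Set G))).map
        (Subgroup.centralizer ({t * x * t⁻¹} : Set G)).subtype) = Nat.card D := by
      rw [Subgroup.card_map_of_injective (Subgroup.subtype_injective _),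
        factorization_centralizer D x ⟨Q, hQ⟩, ← hcard1]
      exact Sylow.card_eq_multiplicity Q'
    exact (Subgroup.eq_of_le_of_card_ge hle hcard.le).symm

theorem good_of_isConj {p : ℕ} [hp : Fact p.Prime] (D : Subgroup G) [hDn : D.Normal] {x y : G}
    (hx : Good p D x) (h : IsConj x y) : Good p D y := by
  obtain ⟨t, rfl⟩ := isConj_iff.mp h
  exact good_conj D hx t

/-- (D1), general form: a unit value of the central character at a good element forces the defect
group `D`. -/
theorem isDefectGroup_of_not_memLocalIdeal {p : ℕ} [hp : Fact p.Prime] (hM : IsPModular p M)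
    (D : Subgroup G) [hDn : D.Normal] (χ : IrrCharacter G)
    (hdeg : (charDegree (χ : G → ℂ)).factorization p = ad p D) (x : G) (hx : Good p D x)
    (h : ¬ MemLocalIdeal M (centralChar (χ : G → ℂ) x)) :
    IsDefectGroup p M (blockOf M (χ : G → ℂ)) D ∧
      blockDefect p (blockOf M (χ : G → ℂ)) = (Nat.card D).factorization p := by
  letI : Fintype G := Fintype.ofFinite G
  haveI hMp := isPrime_of_isPModular hM
  have hMtop : M ≠ ⊤ := hM.2.1.ne_top
  obtain ⟨-, hDx⟩ := hx
  have hDp : IsPGroup p D := by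
    obtain ⟨Q, hQ⟩ := hDx
    rw [← hQ]; exact Q.2.map _
  have hle : (Nat.card D).factorization p ≤ (Nat.card G).factorization p := by
    have h3 := Subgroup.card_mul_index D
    rw [← h3, Nat.factorization_mul Nat.card_pos.ne' Subgroup.index_ne_zero_of_finite]
    exact Nat.le_add_right _ _
  unfold ad at hdeg
  set B : Set (IrrCharacter G) := blockOf M (χ : G → ℂ) with hBdef
  have hB : IsPBlock M B := ⟨χ, rfl⟩
  have hmem : χ ∈ B := sameBlock_refl hMtop _
  obtain ⟨D', hD'⟩ := exists_isDefectGroup hM B hB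
  have hcard := Cfsg.Agent.S0908.result p M hM B hB D' hD'
  obtain ⟨g, hg, P, hP⟩ := id hD'
  have hge : (Nat.card D).factorization p ≤ blockDefect p B := by
    unfold blockDefect
    have hle' : sInf ((fun ψ : IrrCharacter G => (charDegree (ψ : G → ℂ)).factorization p) '' B)
        ≤ (charDegree (χ : G → ℂ)).factorization p :=
      Nat.sInf_le ⟨χ, hmem, rfl⟩
    rw [hdeg] at hle'
    omega
  obtain ⟨y, Q, hyQ⟩ := (min_max hM B hB g hg P x).2 ⟨χ, hmem, h⟩
  rw [← hP] at hyQ
  have hDC : D ≤ Subgroup.centralizer ({x} : Set G) := by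
    obtain ⟨Q₀, hQ₀⟩ := hDx
    rw [← hQ₀]
    exact Subgroup.map_subtype_le _
  have hDQ : D ≤ (Q : Subgroup ↥(Subgroup.centralizer ({x} : Set G))).map
      (Subgroup.centralizer ({x} : Set G)).subtype :=
    le_map_sylow_of_normal D hDp _ hDC Q
  have hQcard : Nat.card ((Q : Subgroup ↥(Subgroup.centralizer ({x} : Set G))).map
      (Subgroup.centralizer ({x} : Set G)).subtype) = Nat.card D := by
    rw [Subgroup.card_map_of_injective (Subgroup.subtype_injective _),
      factorization_centralizer D x hDx]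
    exact Sylow.card_eq_multiplicity Q
  have hQD : (Q : Subgroup ↥(Subgroup.centralizer ({x} : Set G))).map
      (Subgroup.centralizer ({x} : Set G)).subtype = D :=
    (Subgroup.eq_of_le_of_card_ge hDQ hQcard.le).symm
  rw [hQD] at hyQ
  have hD'D : D' ≤ D := by
    intro u hu
    have h1 : y * u * y⁻¹ ∈ D := hyQ ⟨u, hu, rfl⟩
    have h2 := hDn.conj_mem _ h1 y⁻¹
    have h3 : y⁻¹ * (y * u * y⁻¹) * y⁻¹⁻¹ = u := by group
    rwa [h3] at h2
  have hDcard : Nat.card D = p ^ (Nat.card D).factorization p := by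
    obtain ⟨n, hn⟩ := hDp.exists_card_eq
    rw [hn, factorization_eq_of_card_eq_pow rfl]
  have hcardge : Nat.card D ≤ Nat.card D' := by
    rw [hcard, hDcard]
    exact Nat.pow_le_pow_right hp.out.pos hge
  have hEq : D' = D := Subgroup.eq_of_le_of_card_ge hD'D hcardge
  refine ⟨hEq ▸ hD', ?_⟩
  rw [hEq, hDcard] at hcard
  exact (Nat.pow_right_injective hp.out.two_le hcard).symm

/-- (D1) -/
theorem memLocalIdeal_centralChar_of_not_defectGroup {p : ℕ} [hp : Fact p.Prime]
    (hM : IsPModular p M) (D : Subgroup G) [hDn : D.Normal] (χ : IrrCharacter G)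
    (hdeg : (charDegree (χ : G → ℂ)).factorization p = ad p D) (x : G) (hx : Good p D x)
    (hB : ¬ IsDefectGroup p M (blockOf M (χ : G → ℂ)) D) :
    MemLocalIdeal M (centralChar (χ : G → ℂ) x) := by
  by_contra h
  exact hB (isDefectGroup_of_not_memLocalIdeal hM D χ hdeg x hx h).1

/-- the idempotent coefficients of a block with normal defect group `D` are supported, modulo the
local ideal, on the good elements -/
theorem memLocalIdeal_blockCoeff_of_not_good {p : ℕ} [hp : Fact p.Prime] (hM : IsPModular p M)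
    (D : Subgroup G) [hDn : D.Normal] (hD : IsPGroup p D) (B : Set (IrrCharacter G))
    (hB : IsPBlock M B) (hBD : IsDefectGroup p M B D) (g : G) (hg : ¬ Good p D g) :
    MemLocalIdeal M (blockCoeff B g) := by
  letI : Fintype G := Fintype.ofFinite G
  haveI hMp := isPrime_of_isPModular hM
  have hMtop : M ≠ ⊤ := hM.2.1.ne_top
  by_cases hsing : p ∣ orderOf g
  · rw [blockCoeff_eq_zero_of_dvd hM B hB g hsing]
    exact memLocalIdeal_zero hMtop
  by_cases hgC : g ∈ Subgroup.centralizer (D : Set G)
  swap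
  · haveI : Fintype (Subgroup.centralizer (D : Set G)) := Fintype.ofFinite _
    rw [blockCoeff_eq_zero_of_vanish hM (Subgroup.centralizer (D : Set G))
      (fun χ h hh => memLocalIdeal_centralChar_of_notMem_centralizer hM D hD χ h hh) B hB g hgC]
    exact memLocalIdeal_zero hMtop
  by_contra hcon
  apply hg
  refine ⟨hsing, ?_⟩
  obtain ⟨g₀, hg₀, P₀, hP₀⟩ := hBD
  obtain ⟨y, Q, hyQ⟩ := (min_max hM B hB g₀ hg₀ P₀ g).1 hcon
  rw [← hP₀, map_conj_of_normal D y] at hyQ
  refine ⟨Q, le_antisymm hyQ ?_⟩
  have hDC : D ≤ Subgroup.centralizer ({g} : Set G) := by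
    intro d hd
    rw [Subgroup.mem_centralizer_iff] at hgC ⊢
    intro b hb
    rw [Set.mem_singleton_iff] at hb
    rw [hb]
    exact (hgC d hd).symm
  exact le_map_sylow_of_normal D hD _ hDC Q

/-- (D2) -/
theorem sum_blockCoeff_mul_centralChar {p : ℕ} [hp : Fact p.Prime] (hM : IsPModular p M)
    (D : Subgroup G) [hDn : D.Normal] (hD : IsPGroup p D) {ι : Type*} [Fintype ι] (x : ι → G)
    (hx : ∀ i, Good p D (x i)) (hcomplete : ∀ g, Good p D g → ∃ i, IsConj (x i) g)
    (hinj : ∀ i j, IsConj (x i) (x j) → i = j) (B : Set (IrrCharacter G)) (hB : IsPBlock M B)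
    (hBD : IsDefectGroup p M B D) (ψ : IrrCharacter G) :
    MemLocalIdeal M (∑ i, blockCoeff B (x i) * centralChar (ψ : G → ℂ) (x i)
      - (if ψ ∈ B then 1 else 0)) := by
  letI : Fintype G := Fintype.ofFinite G
  haveI hMp := isPrime_of_isPModular hM
  have hMtop : M ≠ ⊤ := hM.2.1.ne_top
  set f : ConjClasses G → ℂ := fun C =>
    blockCoeff B (Quotient.out C) * centralChar (ψ : G → ℂ) (Quotient.out C) with hf
  have hsum := sum_classes_blockCoeff_mul_centralChar B ψ
  have hfx : ∀ i, f (ConjClasses.mk (x i)) =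
      blockCoeff B (x i) * centralChar (ψ : G → ℂ) (x i) := by
    intro i
    have h1 : IsConj (x i) (Quotient.out (ConjClasses.mk (x i))) := by
      rw [← ConjClasses.mk_eq_mk_iff_isConj]
      exact (Quotient.out_eq (ConjClasses.mk (x i))).symm
    obtain ⟨t, ht⟩ := isConj_iff.mp h1
    rw [hf]
    simp only
    rw [← ht, blockCoeff_conj, centralChar_conj]
  -- the classes of the `x i`
  have hinj' : Function.Injective (fun i => ConjClasses.mk (x i)) := by
    intro i j hij
    exact hinj i j (ConjClasses.mk_eq_mk_iff_isConj.mp hij)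
  have hsplit : ∑ C : ConjClasses G, f C =
      ∑ i, f (ConjClasses.mk (x i)) +
        ∑ C ∈ Finset.univ.filter (fun C : ConjClasses G => ¬ Good p D (Quotient.out C)), f C := by
    rw [← Finset.sum_filter_add_sum_filter_not Finset.univ
      (fun C : ConjClasses G => Good p D (Quotient.out C))]
    congr 1
    rw [← Finset.sum_image (f := f) (s := Finset.univ) (g := fun i => ConjClasses.mk (x i))
      (fun a _ b _ hab => hinj' hab)]
    apply Finset.sum_congr _ (fun _ _ => rfl)
    ext C
    simp only [Finset.mem_filter, Finset.mem_univ, true_and, Finset.mem_image]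
    constructor
    · intro hC
      obtain ⟨i, hi⟩ := hcomplete _ hC
      refine ⟨i, ?_⟩
      rw [← Quotient.out_eq C]
      exact ConjClasses.mk_eq_mk_iff_isConj.mpr hi
    · rintro ⟨i, rfl⟩
      have h1 : IsConj (x i) (Quotient.out (ConjClasses.mk (x i))) := by
        rw [← ConjClasses.mk_eq_mk_iff_isConj]
        exact (Quotient.out_eq (ConjClasses.mk (x i))).symm
      exact good_of_isConj D (hx i) h1
  have hrest : MemLocalIdeal M
      (∑ C ∈ Finset.univ.filter (fun C : ConjClasses G => ¬ Good p D (Quotient.out C)), f C) := by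
    apply memLocalIdeal_sum
    intro C hC
    simp only [Finset.mem_filter, Finset.mem_univ, true_and] at hC
    rw [hf]
    simp only
    rw [mul_comm]
    exact memLocalIdeal_mul_integral
      (memLocalIdeal_blockCoeff_of_not_good hM D hD B hB hBD _ hC)
      (isIntegral_centralChar ψ.2 _)
  have hfinal : ∑ i, blockCoeff B (x i) * centralChar (ψ : G → ℂ) (x i)
      - (if ψ ∈ B then 1 else 0) =
      - ∑ C ∈ Finset.univ.filter (fun C : ConjClasses G => ¬ Good p D (Quotient.out C)), f C := by
    rw [← hsum, hsplit]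
    simp only [hfx]
    ring
  rw [hfinal]
  exact memLocalIdeal_neg hrest

end Cfsg.Agent.Lib.Helper4.Rob
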