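import Mathlib
import Cfsg.Agent.Lib.Helper4.RobDefs2
import Cfsg.Agent.Lib.Helper4.RobBlocks
import Cfsg.Agent.Lib.helper3.TwoDeg4
import Cfsg.Agent.Lib.helper3.Irr13
import Cfsg.Agent.Lib.helper3.SecMain11
import Cfsg.Agent.Lib.helper3.BlockCover2

set_option autoImplicit false
set_option linter.style.haveILetI false
set_option linter.unusedSectionVars false
set_option maxHeartbeats 1000000

/-! Robinson's count: elementary lemmas for the assembly (helper4). -/

namespace Cfsg.Agent.Lib.Helper4.Rob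

open Cfsg Cfsg.Agent.Lib.helper3.CharBasic Cfsg.Agent.Lib.helper3.Irr
open Cfsg.Agent.Lib.helper3.Central Cfsg.Agent.Lib.helper3.LocalM
open Cfsg.Agent.Lib.helper3.Block Cfsg.Agent.Lib.helper3.Lin
open Cfsg.Agent.Lib.Helper4.PSepDet Cfsg.Agent.Lib.Helper4.PSepNormal
open scoped ComplexConjugate
open Classical

variable {M : Ideal AlgInt} {G : Type*} [Group G] [Finite G]

theorem centralizer_inv (x : G) :
    Subgroup.centralizer ({x⁻¹} : Set G) = Subgroup.centralizer ({x} : Set G) := by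
  ext g
  simp only [Subgroup.mem_centralizer_iff, Set.mem_singleton_iff, forall_eq]
  constructor
  · intro h
    calc x * g = x * (g * x⁻¹) * x := by group
      _ = x * (x⁻¹ * g) * x := by rw [h]
      _ = g * x := by group
  · intro h
    calc x⁻¹ * g = x⁻¹ * (g * x) * x⁻¹ := by group
      _ = x⁻¹ * (x * g) * x⁻¹ := by rw [h]
      _ = g * x⁻¹ := by group

theorem good_inv {p : ℕ} [hp : Fact p.Prime] (D : Subgroup G) {x : G} (hx : Good p D x) :
    Good p D x⁻¹ := by
  unfold Good at hx ⊢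
  rw [orderOf_inv, centralizer_inv]
  exact hx

/-- the `p'`-part `k_x` of the class size of a good element -/
noncomputable def kk (p : ℕ) (D : Subgroup G) (x : G) : ℕ :=
  (Subgroup.centralizer ({x} : Set G)).index / p ^ ad p D

theorem kk_inv (p : ℕ) (D : Subgroup G) (x : G) : kk p D x⁻¹ = kk p D x := by
  unfold kk
  rw [centralizer_inv]

theorem index_eq_pow_mul_kk {p : ℕ} [hp : Fact p.Prime] (D : Subgroup G) {x : G}
    (hx : Good p D x) :
    (Subgroup.centralizer ({x} : Set G)).index = p ^ ad p D * kk p D x := by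
  unfold kk
  have h := factorization_index_centralizer D x hx.2
  have hdvd : p ^ ad p D ∣ (Subgroup.centralizer ({x} : Set G)).index := by
    unfold ad
    rw [← h]
    exact Nat.ordProj_dvd _ _
  exact (Nat.mul_div_cancel' hdvd).symm

theorem not_dvd_kk {p : ℕ} [hp : Fact p.Prime] (D : Subgroup G) {x : G} (hx : Good p D x) :
    ¬ p ∣ kk p D x := by
  have h := factorization_index_centralizer D x hx.2
  unfold kk ad
  rw [← h]
  exact Nat.not_dvd_ordCompl hp.out Subgroup.index_ne_zero_of_finite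

/-- the `p'`-part of the degree of a character of `p`-defect zero of `G ⧸ D` -/
noncomputable def cc (p : ℕ) (D : Subgroup G) [D.Normal] (ψ : IrrCharacter (G ⧸ D)) : ℕ :=
  charDegree (ψ : G ⧸ D → ℂ) / p ^ ad p D

theorem charDegree_eq_pow_mul_cc {p : ℕ} [hp : Fact p.Prime] (D : Subgroup G) [D.Normal]
    (ψ : IrrCharacter (G ⧸ D))
    (hdeg : (charDegree (ψ : G ⧸ D → ℂ)).factorization p = ad p D) :
    charDegree (ψ : G ⧸ D → ℂ) = p ^ ad p D * cc p D ψ := by
  unfold cc
  have hdvd : p ^ ad p D ∣ charDegree (ψ : G ⧸ D → ℂ) := by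
    rw [← hdeg]
    exact Nat.ordProj_dvd _ _
  exact (Nat.mul_div_cancel' hdvd).symm

/-- the basic identity `k_x ψ(x̄) = c_ψ ω_{infl ψ}(x)` -/
theorem kk_mul_apply {p : ℕ} [hp : Fact p.Prime] (D : Subgroup G) [D.Normal]
    (ψ : IrrCharacter (G ⧸ D))
    (hdeg : (charDegree (ψ : G ⧸ D → ℂ)).factorization p = ad p D) {x : G} (hx : Good p D x) :
    (kk p D x : ℂ) * (ψ : G ⧸ D → ℂ) (x : G ⧸ D) =
      (cc p D ψ : ℂ) * centralChar (infl D ψ : G → ℂ) x := by
  unfold centralChar
  rw [infl_apply, infl_apply, QuotientGroup.mk_one,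
    Cfsg.Agent.Lib.helper3.TwoDeg.apply_one_eq_charDegree' ψ, charDegree_eq_pow_mul_cc D ψ hdeg,
    index_eq_pow_mul_kk D hx]
  have hp0 : ((p : ℂ)) ^ ad p D ≠ 0 := pow_ne_zero _ (Nat.cast_ne_zero.mpr hp.out.ne_zero)
  have hc0 : (cc p D ψ : ℂ) ≠ 0 := by
    intro h0
    have h1 : cc p D ψ = 0 := by exact_mod_cast h0
    have h2 := charDegree_eq_pow_mul_cc D ψ hdeg
    rw [h1, mul_zero] at h2
    obtain ⟨d, hd, hd1⟩ := exists_pos_nat_apply_one ψ.2
    have h3 := Cfsg.Agent.Lib.helper3.Pdeg.charDegree_eq' hd1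
    omega
  push_cast
  field_simp

end Cfsg.Agent.Lib.Helper4.Rob
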