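import Mathlib
import Cfsg.Agent.Lib.Helper4.RobAsm1
import Cfsg.Agent.Lib.helper3.HeightZero5
import Cfsg.Agent.S0908

set_option autoImplicit false
set_option linter.style.haveILetI false
set_option linter.unusedSectionVars false
set_option maxHeartbeats 1000000

/-! Robinson's count, piece D3 (a): the degrees of the inflated characters in a block with
normal defect group `D` (helper4, backup). -/

namespace Cfsg.Agent.Lib.Helper4.Rob

open Cfsg Cfsg.Agent.Lib.helper3.CharBasic Cfsg.Agent.Lib.helper3.Irr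
open Cfsg.Agent.Lib.helper3.Central Cfsg.Agent.Lib.helper3.LocalM
open Cfsg.Agent.Lib.helper3.Block Cfsg.Agent.Lib.helper3.Lin
open scoped ComplexConjugate
open Classical

variable {M : Ideal AlgInt} {G : Type*} [Group G] [Finite G]

theorem minExp_eq_ad {p : ℕ} [hp : Fact p.Prime] (hM : IsPModular p M) (D : Subgroup G)
    (hD : IsPGroup p D) (B : Set (IrrCharacter G)) (hB : IsPBlock M B)
    (hBD : IsDefectGroup p M B D) : minExp p B = ad p D := by
  letI : Fintype G := Fintype.ofFinite G
  have hMtop : M ≠ ⊤ := hM.2.1.ne_top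
  obtain ⟨χ, rfl⟩ := id hB
  have hχ : χ ∈ blockOf M (χ : G → ℂ) := sameBlock_refl hMtop _
  have hcard := Cfsg.Agent.S0908.result p M hM _ hB D hBD
  rw [blockDefect_eq] at hcard
  have hle := minExp_le_factorization_card (p := p) hχ
  unfold ad
  rw [hcard, Nat.factorization_pow_self hp.out]
  omega

theorem factorization_card_quot' {p : ℕ} [hp : Fact p.Prime] (D : Subgroup G) [D.Normal] :
    (Nat.card (G ⧸ D)).factorization p = ad p D := by
  unfold ad
  have h3 := Subgroup.card_mul_index D
  rw [← h3, Nat.factorization_mul Nat.card_pos.ne' Subgroup.index_ne_zero_of_finite,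
    Subgroup.index_eq_card]
  simp

/-- (D3a) -/
theorem factorization_of_infl_mem {p : ℕ} [hp : Fact p.Prime] (hM : IsPModular p M)
    (D : Subgroup G) [D.Normal] (hD : IsPGroup p D) (B : Set (IrrCharacter G))
    (hB : IsPBlock M B) (hBD : IsDefectGroup p M B D) (ψ : IrrCharacter (G ⧸ D))
    (hψ : infl D ψ ∈ B) : (charDegree (ψ : G ⧸ D → ℂ)).factorization p = ad p D := by
  letI : Fintype G := Fintype.ofFinite G
  apply le_antisymm
  · obtain ⟨d, hd1, hddvd, hdpos⟩ := irr_degree_dvd_card ψ.2
    have hcd : charDegree (ψ : G ⧸ D → ℂ) = d := Cfsg.Agent.Lib.helper3.Pdeg.charDegree_eq' hd1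
    rw [hcd, ← factorization_card_quot' D]
    exact (Nat.factorization_le_iff_dvd hdpos.ne' Nat.card_pos.ne').2 hddvd p
  · rw [← minExp_eq_ad hM D hD B hB hBD, ← charDegree_infl]
    exact minExp_le hψ

end Cfsg.Agent.Lib.Helper4.Rob
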