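import Mathlib
import Cfsg.Agent.Lib.Helper4.RobD3a
import Cfsg.Agent.Lib.helper3.DefectOrder3
import Cfsg.Agent.Lib.helper3.RankOne2
import Cfsg.Agent.Lib.helper3.Inflate2
import Cfsg.Agent.H9.S4737A

set_option autoImplicit false
set_option linter.style.haveILetI false
set_option linter.unusedSectionVars false
set_option maxHeartbeats 1000000

/-! Robinson's count, piece D3 (b), (c): sums of character values over a normal `p`-subgroup
(helper4, backup). -/

namespace Cfsg.Agent.Lib.Helper4.Rob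

open Cfsg Cfsg.Agent.Lib.helper3.CharBasic Cfsg.Agent.Lib.helper3.Irr
open Cfsg.Agent.Lib.helper3.Central Cfsg.Agent.Lib.helper3.LocalM
open Cfsg.Agent.Lib.helper3.Block Cfsg.Agent.Lib.helper3.Lin
open scoped ComplexConjugate
open Classical

variable {M : Ideal AlgInt} {G : Type*} [Group G] [Fintype G]

theorem card_filter_mem (D : Subgroup G) :
    (Finset.univ.filter (fun t : G => t ∈ D)).card = Nat.card D := by
  rw [Nat.card_eq_fintype_card]
  symm
  apply Fintype.card_of_subtype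
  intro x
  simp

/-- (D3b) -/
theorem sum_subgroup_apply (D : Subgroup G) [hDn : D.Normal] (χ : IrrCharacter G) :
    ((∀ s ∈ D, (χ : G → ℂ) s = (χ : G → ℂ) 1) ∧
      ∑ t ∈ Finset.univ.filter (fun t : G => t ∈ D), (χ : G → ℂ) t =
        (Nat.card D : ℂ) * (χ : G → ℂ) 1) ∨
    ((¬ ∀ s ∈ D, (χ : G → ℂ) s = (χ : G → ℂ) 1) ∧
      ∑ t ∈ Finset.univ.filter (fun t : G => t ∈ D), (χ : G → ℂ) t = 0) := by
  by_cases h : ∀ s ∈ D, (χ : G → ℂ) s = (χ : G → ℂ) 1
  · left
    refine ⟨h, ?_⟩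
    rw [Finset.sum_congr rfl (fun t ht => h t (Finset.mem_filter.mp ht).2), Finset.sum_const,
      nsmul_eq_mul, card_filter_mem]
  · right
    refine ⟨h, ?_⟩
    push_neg at h
    obtain ⟨s, hs, hne⟩ := h
    have h1 := Cfsg.Agent.H9.S4737A.sum_mul_of_conjInvariant χ.2
      (Finset.univ.filter (fun t : G => t ∈ D)) (by
        intro t ht g
        rw [Finset.mem_filter] at ht ⊢
        exact ⟨Finset.mem_univ _, hDn.conj_mem t ht.2 g⟩) s
    have h2 : ∑ t ∈ Finset.univ.filter (fun t : G => t ∈ D), (χ : G → ℂ) (s * t) =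
        ∑ t ∈ Finset.univ.filter (fun t : G => t ∈ D), (χ : G → ℂ) t := by
      apply Finset.sum_nbij' (fun t => s * t) (fun t => s⁻¹ * t)
      · intro t ht
        rw [Finset.mem_filter] at ht ⊢
        exact ⟨Finset.mem_univ _, D.mul_mem hs ht.2⟩
      · intro t ht
        rw [Finset.mem_filter] at ht ⊢
        exact ⟨Finset.mem_univ _, D.mul_mem (D.inv_mem hs) ht.2⟩
      · intro t _
        group
      · intro t _
        group
      · intro t _
        rfl
    rw [h2] at h1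
    obtain ⟨d, hd, hd1⟩ := exists_pos_nat_apply_one χ.2
    have hd0 : (χ : G → ℂ) 1 ≠ 0 := by
      rw [hd1]
      exact Nat.cast_ne_zero.mpr hd.ne'
    set σ := ∑ t ∈ Finset.univ.filter (fun t : G => t ∈ D), (χ : G → ℂ) t with hσ
    have h3 : σ * ((χ : G → ℂ) 1 - (χ : G → ℂ) s) = 0 := by
      have : σ * (χ : G → ℂ) 1 = σ * (χ : G → ℂ) s := by
        calc σ * (χ : G → ℂ) 1 = (σ / (χ : G → ℂ) 1 * (χ : G → ℂ) s) * (χ : G → ℂ) 1 := by
              rw [← h1]
          _ = σ * (χ : G → ℂ) s := by field_simp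
      rw [mul_sub, this, sub_self]
    rcases mul_eq_zero.mp h3 with h4 | h4
    · exact h4
    · exact absurd (sub_eq_zero.mp h4).symm hne

theorem dvd_orderOf_of_mem {p : ℕ} [hp : Fact p.Prime] (D : Subgroup G) (hD : IsPGroup p D)
    {u : G} (hu : u ∈ D) (hne : u ≠ 1) : p ∣ orderOf u := by
  obtain ⟨k, hk⟩ := hD ⟨u, hu⟩
  have h1 : u ^ p ^ k = 1 := by
    have := congrArg Subtype.val hk
    simpa using this
  have h2 : orderOf u ∣ p ^ k := orderOf_dvd_of_pow_eq_one h1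
  obtain ⟨j, -, hj⟩ := (Nat.dvd_prime_pow hp.out).mp h2
  rcases Nat.eq_zero_or_pos j with h0 | h0
  · rw [h0, pow_zero, orderOf_eq_one_iff] at hj
    exact absurd hj hne
  · rw [hj]
    exact dvd_pow_self p h0.ne'

/-- (D3c) -/
theorem sum_sq_eq_card_mul {p : ℕ} [hp : Fact p.Prime] (hM : IsPModular p M) (D : Subgroup G)
    [hDn : D.Normal] (hD : IsPGroup p D) (B : Set (IrrCharacter G)) (hB : IsPBlock M B) :
    ∑ χ ∈ Finset.univ.filter (fun χ : IrrCharacter G => χ ∈ B), ((χ : G → ℂ) 1) ^ 2 =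
      (Nat.card D : ℂ) * ∑ χ ∈ Finset.univ.filter (fun χ : IrrCharacter G => χ ∈ B ∧
        ∀ s ∈ D, (χ : G → ℂ) s = (χ : G → ℂ) 1), ((χ : G → ℂ) 1) ^ 2 := by
  have hG0 : (Nat.card G : ℂ) ≠ 0 := Nat.cast_ne_zero.mpr Nat.card_pos.ne'
  -- the coefficients on `D`
  have h1 : ∀ u ∈ Finset.univ.filter (fun t : G => t ∈ D), u ≠ 1 →
      ∑ χ ∈ Finset.univ.filter (fun χ : IrrCharacter G => χ ∈ B),
        (χ : G → ℂ) 1 * conj ((χ : G → ℂ) u) = 0 := by
    intro u hu hne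
    have h2 := blockCoeff_eq_zero_of_dvd hM B hB u
      (dvd_orderOf_of_mem D hD (Finset.mem_filter.mp hu).2 hne)
    rw [blockCoeff_eq_sum_filter] at h2
    rcases mul_eq_zero.mp h2 with h3 | h3
    · exact absurd (inv_eq_zero.mp h3) hG0
    · exact h3
  have h2 : ∑ u ∈ Finset.univ.filter (fun t : G => t ∈ D),
      ∑ χ ∈ Finset.univ.filter (fun χ : IrrCharacter G => χ ∈ B),
        (χ : G → ℂ) 1 * conj ((χ : G → ℂ) u) =
      ∑ χ ∈ Finset.univ.filter (fun χ : IrrCharacter G => χ ∈ B),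
        (χ : G → ℂ) 1 * conj ((χ : G → ℂ) 1) := by
    rw [Finset.sum_eq_single_of_mem (1 : G)
      (Finset.mem_filter.mpr ⟨Finset.mem_univ _, D.one_mem⟩) h1]
  rw [Finset.sum_comm] at h2
  have hreal : ∀ χ : IrrCharacter G, conj ((χ : G → ℂ) 1) = (χ : G → ℂ) 1 := by
    intro χ
    obtain ⟨d, hd, hd1⟩ := exists_pos_nat_apply_one χ.2
    rw [hd1]
    exact Complex.conj_natCast d
  have h3 : ∀ χ : IrrCharacter G,
      ∑ u ∈ Finset.univ.filter (fun t : G => t ∈ D), (χ : G → ℂ) 1 * conj ((χ : G → ℂ) u) =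
      if (∀ s ∈ D, (χ : G → ℂ) s = (χ : G → ℂ) 1) then
        (Nat.card D : ℂ) * ((χ : G → ℂ) 1) ^ 2 else 0 := by
    intro χ
    rw [← Finset.mul_sum, ← map_sum]
    rcases sum_subgroup_apply D χ with ⟨h, hs⟩ | ⟨h, hs⟩
    · rw [if_pos h, hs, map_mul, hreal, Complex.conj_natCast]
      ring
    · rw [if_neg h, hs, map_zero, mul_zero]
  simp only [h3] at h2
  rw [Finset.sum_ite, Finset.sum_const_zero, add_zero, Finset.filter_filter, ← Finset.mul_sum] at h2
  rw [h2]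
  apply Finset.sum_congr rfl
  intro χ _
  rw [hreal, sq]

end Cfsg.Agent.Lib.Helper4.Rob
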