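import Mathlib
import Cfsg.Agent.Lib.Helper4.RobD3b

set_option autoImplicit false
set_option linter.style.haveILetI false
set_option linter.unusedSectionVars false
set_option maxHeartbeats 1000000

/-! Robinson's count, piece D3: the numbers `s_B` are prime to `p` (helper4, backup). -/

namespace Cfsg.Agent.Lib.Helper4.Rob

open Cfsg Cfsg.Agent.Lib.helper3.CharBasic Cfsg.Agent.Lib.helper3.Irr
open Cfsg.Agent.Lib.helper3.Central Cfsg.Agent.Lib.helper3.LocalM
open Cfsg.Agent.Lib.helper3.Block Cfsg.Agent.Lib.helper3.Lin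
open scoped ComplexConjugate
open Classical

variable {M : Ideal AlgInt} {G : Type*} [Group G]

section aux

variable [Fintype G]

/-- the characters of `B` with `D` in the kernel are the inflations -/
theorem image_infl_filter (D : Subgroup G) [D.Normal] (B : Set (IrrCharacter G)) :
    (Finset.univ.filter (fun ψ : IrrCharacter (G ⧸ D) => infl D ψ ∈ B)).image (infl D) =
      Finset.univ.filter (fun χ : IrrCharacter G => χ ∈ B ∧
        ∀ s ∈ D, (χ : G → ℂ) s = (χ : G → ℂ) 1) := by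
  ext χ
  simp only [Finset.mem_image, Finset.mem_filter, Finset.mem_univ, true_and]
  constructor
  · rintro ⟨ψ, hψ, rfl⟩
    refine ⟨hψ, ?_⟩
    intro s hs
    rw [infl_apply, infl_apply, QuotientGroup.mk_one]
    exact congrArg _ ((QuotientGroup.eq_one_iff _).mpr hs)
  · rintro ⟨hχ, hker⟩
    obtain ⟨ψ, hψ, hψ2⟩ := exists_eq_inflate χ.2 D (by
      intro g n hn
      exact apply_mul_of_apply_eq_one (isCharacter_of_isIrrCharacter χ.2) (hker n hn) g)
    have heq : infl D ⟨ψ, hψ⟩ = χ := by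
      apply Subtype.ext
      exact hψ2.symm
    refine ⟨⟨ψ, hψ⟩, ?_, heq⟩
    rw [heq]
    exact hχ

/-- (D3), `Fintype` form -/
theorem exists_sB_aux (p : ℕ) [hp : Fact p.Prime] (M : Ideal AlgInt) (hM : IsPModular p M)
    (D : Subgroup G) [D.Normal] (hD : IsPGroup p D) (B : Set (IrrCharacter G))
    (hB : IsPBlock M B) (hBD : IsDefectGroup p M B D) :
    (∀ ψ : IrrCharacter (G ⧸ D), infl D ψ ∈ B →
      (charDegree (ψ : G ⧸ D → ℂ)).factorization p = ad p D) ∧
    ∃ s : ℕ, ¬ p ∣ s ∧ (s : ℂ) = ∑ᶠ ψ ∈ {ψ : IrrCharacter (G ⧸ D) | infl D ψ ∈ B},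
      ((charDegree (ψ : G ⧸ D → ℂ) / p ^ ad p D : ℕ) : ℂ) ^ 2 := by
  have hMtop : M ≠ ⊤ := hM.2.1.ne_top
  have hD3a := fun ψ hψ => factorization_of_infl_mem hM D hD B hB hBD ψ hψ
  refine ⟨hD3a, ?_⟩
  set Zf : Finset (IrrCharacter (G ⧸ D)) :=
    Finset.univ.filter (fun ψ : IrrCharacter (G ⧸ D) => infl D ψ ∈ B) with hZf
  set s : ℕ := ∑ ψ ∈ Zf, (cc p D ψ) ^ 2 with hs
  refine ⟨s, ?_, ?_⟩
  swap
  · rw [finsum_mem_def, finsum_eq_sum_of_fintype, hs, hZf, Finset.sum_filter]
    push_cast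
    apply Finset.sum_congr rfl
    intro ψ _
    rw [Set.indicator_apply]
    rfl
  -- the sum of the squares of the degrees
  set Bf : Finset (IrrCharacter G) := Finset.univ.filter (fun χ : IrrCharacter G => χ ∈ B)
    with hBf
  set N : ℕ := ∑ χ ∈ Bf, charDegree (χ : G → ℂ) ^ 2 with hN
  have hfact : N.factorization p = (Nat.card G).factorization p + minExp p B :=
    factorization_sum_sq hM B hB Bf (by
    intro χ
    rw [hBf, Finset.mem_filter]
    simp)
  rw [minExp_eq_ad hM D hD B hB hBD] at hfact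
  have hNeq : N = Nat.card D * (p ^ (2 * ad p D) * s) := by
    have h1 : (N : ℂ) = ∑ χ ∈ Bf, ((χ : G → ℂ) 1) ^ 2 := by
      rw [hN]
      push_cast
      apply Finset.sum_congr rfl
      intro χ _
      rw [Cfsg.Agent.Lib.helper3.TwoDeg.apply_one_eq_charDegree' χ]
    have h2 : ∑ χ ∈ Bf, ((χ : G → ℂ) 1) ^ 2 =
        (Nat.card D : ℂ) * ∑ χ ∈ Zf.image (infl D), ((χ : G → ℂ) 1) ^ 2 := by
      rw [hZf, image_infl_filter]
      exact sum_sq_eq_card_mul hM D hD B hB
    rw [Finset.sum_image (fun a _ b _ hab => infl_injective D hab)] at h2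
    have h3 : ∑ ψ ∈ Zf, ((infl D ψ : G → ℂ) 1) ^ 2 = ((p ^ (2 * ad p D) * s : ℕ) : ℂ) := by
      rw [hs, Finset.mul_sum]
      push_cast
      apply Finset.sum_congr rfl
      intro ψ hψ
      have hmem : infl D ψ ∈ B := (Finset.mem_filter.mp hψ).2
      rw [infl_apply, QuotientGroup.mk_one,
        Cfsg.Agent.Lib.helper3.TwoDeg.apply_one_eq_charDegree' ψ,
        charDegree_eq_pow_mul_cc D ψ (hD3a ψ hmem)]
      push_cast
      ring
    have h4 : (N : ℂ) = ((Nat.card D * (p ^ (2 * ad p D) * s) : ℕ) : ℂ) := by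
      rw [h1, h2, h3]
      push_cast
      ring
    exact_mod_cast h4
  -- `N ≠ 0`
  obtain ⟨χ₀, hχ₀⟩ := id hB
  have hχ₀B : χ₀ ∈ B := by
    rw [hχ₀]
    exact sameBlock_refl hMtop _
  have hN0 : N ≠ 0 := by
    have hmem : χ₀ ∈ Bf := by
      rw [hBf, Finset.mem_filter]
      exact ⟨Finset.mem_univ _, hχ₀B⟩
    have hle : charDegree (χ₀ : G → ℂ) ^ 2 ≤ N :=
      Finset.single_le_sum (f := fun χ : IrrCharacter G => charDegree (χ : G → ℂ) ^ 2)
        (fun _ _ => Nat.zero_le _) hmem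
    obtain ⟨d, hd, hd1⟩ := exists_pos_nat_apply_one χ₀.2
    have hcd := Cfsg.Agent.Lib.helper3.Pdeg.charDegree_eq' hd1
    have : 0 < charDegree (χ₀ : G → ℂ) ^ 2 := by
      rw [hcd]
      positivity
    omega
  have hs0 : s ≠ 0 := by
    intro h0
    rw [h0, mul_zero, mul_zero] at hNeq
    exact hN0 hNeq
  -- valuations
  obtain ⟨n, hn⟩ := hD.exists_card_eq
  have hDfac : (Nat.card D).factorization p = n := by
    rw [hn, Nat.factorization_pow_self hp.out]
  have hle : (Nat.card D).factorization p ≤ (Nat.card G).factorization p := by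
    have h3 := Subgroup.card_mul_index D
    rw [← h3, Nat.factorization_mul Nat.card_pos.ne' Subgroup.index_ne_zero_of_finite]
    exact Nat.le_add_right _ _
  have hpow0 : p ^ (2 * ad p D) ≠ 0 := pow_ne_zero _ hp.out.ne_zero
  have e1 : N.factorization p =
      (Nat.card D).factorization p + (2 * ad p D + s.factorization p) := by
    rw [hNeq, Nat.factorization_mul Nat.card_pos.ne' (mul_ne_zero hpow0 hs0),
      Nat.factorization_mul hpow0 hs0]
    simp only [Finsupp.coe_add, Pi.add_apply]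
    rw [Nat.factorization_pow_self hp.out]
  rw [e1] at hfact
  have hsfac : s.factorization p = 0 := by
    unfold ad at hfact
    omega
  rcases (Nat.factorization_eq_zero_iff s p).mp hsfac with h | h | h
  · exact absurd hp.out h
  · exact h
  · exact absurd h hs0

end aux

/-- (D3) -/
theorem exists_sB [Finite G] (p : ℕ) [hp : Fact p.Prime] (M : Ideal AlgInt) (hM : IsPModular p M)
    (D : Subgroup G) [D.Normal] (hD : IsPGroup p D) (B : Set (IrrCharacter G))
    (hB : IsPBlock M B) (hBD : IsDefectGroup p M B D) :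
    (∀ ψ : IrrCharacter (G ⧸ D), infl D ψ ∈ B →
      (charDegree (ψ : G ⧸ D → ℂ)).factorization p = ad p D) ∧
    ∃ s : ℕ, ¬ p ∣ s ∧ (s : ℂ) = ∑ᶠ ψ ∈ {ψ : IrrCharacter (G ⧸ D) | infl D ψ ∈ B},
      ((charDegree (ψ : G ⧸ D → ℂ) / p ^ ad p D : ℕ) : ℂ) ^ 2 := by
  letI : Fintype G := Fintype.ofFinite G
  exact exists_sB_aux p M hM D hD B hB hBD

end Cfsg.Agent.Lib.Helper4.Rob
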