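import Mathlib
import Cfsg.Agent.Lib.Helper4.RobAsm1
import Cfsg.Agent.Lib.Helper4.RobD3c

set_option autoImplicit false
set_option linter.style.haveILetI false
set_option linter.unusedSectionVars false
set_option maxHeartbeats 1000000

/-! Robinson's count: the main congruence (helper4). -/

namespace Cfsg.Agent.Lib.Helper4.Rob

open Cfsg Cfsg.Agent.Lib.helper3.CharBasic Cfsg.Agent.Lib.helper3.Irr
open Cfsg.Agent.Lib.helper3.Central Cfsg.Agent.Lib.helper3.LocalM
open Cfsg.Agent.Lib.helper3.Block Cfsg.Agent.Lib.helper3.Lin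
open Cfsg.Agent.Lib.Helper4.PSepDet Cfsg.Agent.Lib.Helper4.PSepNormal
open scoped ComplexConjugate
open Classical

variable {M : Ideal AlgInt} {G : Type*} [Group G] [Finite G]

/-- the blocks with defect group `D` -/
abbrev Tau (p : ℕ) (M : Ideal AlgInt) (D : Subgroup G) : Type _ :=
  {B : Set (IrrCharacter G) // IsPBlock M B ∧ IsDefectGroup p M B D}

theorem exists_mem_of_isPBlock (hMtop : M ≠ ⊤) (B : Set (IrrCharacter G)) (hB : IsPBlock M B) :
    ∃ χ : IrrCharacter G, χ ∈ B := by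
  obtain ⟨χ, rfl⟩ := hB
  exact ⟨χ, sameBlock_refl hMtop _⟩

/-- a chosen member of a block -/
noncomputable def psiB {p : ℕ} (hM : IsPModular p M) (D : Subgroup G) (B : Tau p M D) :
    IrrCharacter G :=
  (exists_mem_of_isPBlock hM.2.1.ne_top B.1 B.2.1).choose

theorem psiB_mem {p : ℕ} (hM : IsPModular p M) (D : Subgroup G) (B : Tau p M D) :
    psiB hM D B ∈ B.1 :=
  (exists_mem_of_isPBlock hM.2.1.ne_top B.1 B.2.1).choose_spec

/-- the numbers `s_B` -/
noncomputable def sB {p : ℕ} [Fact p.Prime] (hM : IsPModular p M) (D : Subgroup G) [D.Normal]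
    (hD : IsPGroup p D) (B : Tau p M D) : ℕ :=
  (exists_sB p M hM D hD B.1 B.2.1 B.2.2).2.choose

theorem not_dvd_sB {p : ℕ} [Fact p.Prime] (hM : IsPModular p M) (D : Subgroup G) [D.Normal]
    (hD : IsPGroup p D) (B : Tau p M D) : ¬ p ∣ sB hM D hD B :=
  (exists_sB p M hM D hD B.1 B.2.1 B.2.2).2.choose_spec.1

theorem sB_eq {p : ℕ} [Fact p.Prime] (hM : IsPModular p M) (D : Subgroup G) [D.Normal]
    (hD : IsPGroup p D) (B : Tau p M D) :
    (sB hM D hD B : ℂ) = ∑ ψ : IrrCharacter (G ⧸ D),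
      if infl D ψ ∈ B.1 then ((cc p D ψ : ℕ) : ℂ) ^ 2 else 0 := by
  have h := (exists_sB p M hM D hD B.1 B.2.1 B.2.2).2.choose_spec.2
  unfold sB
  rw [h, finsum_mem_def, finsum_eq_sum_of_fintype]
  apply Finset.sum_congr rfl
  intro ψ _
  rw [Set.indicator_apply]
  rfl

theorem factorization_card_quot {p : ℕ} [hp : Fact p.Prime] (D : Subgroup G) [D.Normal] :
    (Nat.card (G ⧸ D)).factorization p = ad p D := by
  unfold ad
  have h3 := Subgroup.card_mul_index D
  rw [← h3, Nat.factorization_mul Nat.card_pos.ne' Subgroup.index_ne_zero_of_finite,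
    Subgroup.index_eq_card]
  simp

end Cfsg.Agent.Lib.Helper4.Rob
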