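import Mathlib
import Cfsg.Agent.Lib.Helper4.RobAsm2

set_option autoImplicit false
set_option linter.style.haveILetI false
set_option linter.unusedSectionVars false
set_option maxHeartbeats 1000000

/-! Robinson's count: the main congruence (helper4). -/

namespace Cfsg.Agent.Lib.Helper4.Rob

open Cfsg Cfsg.Agent.Lib.helper3.CharBasic Cfsg.Agent.Lib.helper3.Irr
open Cfsg.Agent.Lib.helper3.Central Cfsg.Agent.Lib.helper3.LocalM
open Cfsg.Agent.Lib.helper3.Block Cfsg.Agent.Lib.helper3.Lin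
open Cfsg.Agent.Lib.Helper4.PSepDet Cfsg.Agent.Lib.Helper4.PSepNormal
open scoped ComplexConjugate
open Classical

variable {M : Ideal AlgInt} {G : Type*} [Group G] [Finite G]

/-- the term of `ψ` -/
noncomputable def tt (p : ℕ) (D : Subgroup G) [D.Normal] (x y : G) (ψ : IrrCharacter (G ⧸ D)) :
    ℂ :=
  if (charDegree (ψ : G ⧸ D → ℂ)).factorization p = ad p D then
    ((cc p D ψ : ℕ) : ℂ) ^ 2 * centralChar (infl D ψ : G → ℂ) x *
      centralChar (infl D ψ : G → ℂ) y⁻¹
  else 0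

/-- the term of `ψ`, blockwise -/
noncomputable def tt' {p : ℕ} [Fact p.Prime] (hM : IsPModular p M) (D : Subgroup G) [D.Normal]
    (x y : G) (ψ : IrrCharacter (G ⧸ D)) : ℂ :=
  ∑ B : Tau p M D, if infl D ψ ∈ B.1 then
    ((cc p D ψ : ℕ) : ℂ) ^ 2 * centralChar (psiB hM D B : G → ℂ) x *
      centralChar (psiB hM D B : G → ℂ) y⁻¹ else 0

theorem memLocalIdeal_tt_sub {p : ℕ} [hp : Fact p.Prime] (hM : IsPModular p M) (D : Subgroup G)
    [D.Normal] (hD : IsPGroup p D) (x y : G) (hx : Good p D x)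
    (ψ : IrrCharacter (G ⧸ D)) : MemLocalIdeal M (tt p D x y ψ - tt' hM D x y ψ) := by
  letI : Fintype G := Fintype.ofFinite G
  haveI hMp := isPrime_of_isPModular hM
  have hMtop : M ≠ ⊤ := hM.2.1.ne_top
  set χ : IrrCharacter G := infl D ψ with hχ
  set B₀ : Set (IrrCharacter G) := blockOf M (χ : G → ℂ) with hB₀
  have hχB₀ : χ ∈ B₀ := sameBlock_refl hMtop _
  have hB₀b : IsPBlock M B₀ := ⟨χ, rfl⟩
  by_cases hdef : IsDefectGroup p M B₀ D
  · -- the block of `χ` has defect group `D`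
    set b₀ : Tau p M D := ⟨B₀, hB₀b, hdef⟩ with hb₀
    have hiff : ∀ B : Tau p M D, χ ∈ B.1 ↔ B = b₀ := by
      intro B
      constructor
      · intro h
        apply Subtype.ext
        exact isPBlock_eq_of_mem B.2.1 hB₀b χ h hχB₀
      · rintro rfl
        exact hχB₀
    have hZ : (charDegree (ψ : G ⧸ D → ℂ)).factorization p = ad p D :=
      (exists_sB p M hM D hD B₀ hB₀b hdef).1 ψ hχB₀
    have h1 : tt' hM D x y ψ = ((cc p D ψ : ℕ) : ℂ) ^ 2 * centralChar (psiB hM D b₀ : G → ℂ) x *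
        centralChar (psiB hM D b₀ : G → ℂ) y⁻¹ := by
      unfold tt'
      simp only [← hχ, hiff]
      rw [Finset.sum_ite_eq' Finset.univ b₀]
      simp
    have h2 : tt p D x y ψ = ((cc p D ψ : ℕ) : ℂ) ^ 2 * centralChar (χ : G → ℂ) x *
        centralChar (χ : G → ℂ) y⁻¹ := by
      unfold tt
      rw [if_pos hZ]
    rw [h1, h2]
    have hsame : SameBlock M (χ : G → ℂ) (psiB hM D b₀ : G → ℂ) := psiB_mem hM D b₀
    have e1 : ((cc p D ψ : ℕ) : ℂ) ^ 2 * centralChar (χ : G → ℂ) x * centralChar (χ : G → ℂ) y⁻¹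
        - ((cc p D ψ : ℕ) : ℂ) ^ 2 * centralChar (psiB hM D b₀ : G → ℂ) x *
          centralChar (psiB hM D b₀ : G → ℂ) y⁻¹ =
        (((cc p D ψ : ℕ) : ℂ) ^ 2 * centralChar (χ : G → ℂ) y⁻¹) *
          (centralChar (χ : G → ℂ) x - centralChar (psiB hM D b₀ : G → ℂ) x) +
        (((cc p D ψ : ℕ) : ℂ) ^ 2 * centralChar (psiB hM D b₀ : G → ℂ) x) *
          (centralChar (χ : G → ℂ) y⁻¹ - centralChar (psiB hM D b₀ : G → ℂ) y⁻¹) := by ring
    rw [e1]
    have hcint : IsIntegral ℤ (((cc p D ψ : ℕ) : ℂ) ^ 2) := (isIntegral_natCast _).pow 2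
    exact memLocalIdeal_add
      (memLocalIdeal_mul_integral (hsame x) (hcint.mul (isIntegral_centralChar χ.2 _)))
      (memLocalIdeal_mul_integral (hsame y⁻¹)
        (hcint.mul (isIntegral_centralChar (psiB hM D b₀).2 _)))
  · have h1 : tt' hM D x y ψ = 0 := by
      unfold tt'
      apply Finset.sum_eq_zero
      intro B _
      rw [if_neg]
      intro h
      apply hdef
      have := isPBlock_eq_of_mem B.2.1 hB₀b χ h hχB₀
      rw [← this]
      exact B.2.2
    rw [h1, sub_zero]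
    unfold tt
    by_cases hZ : (charDegree (ψ : G ⧸ D → ℂ)).factorization p = ad p D
    · rw [if_pos hZ]
      have hdeg : (charDegree (χ : G → ℂ)).factorization p = ad p D := by
        rw [hχ, charDegree_infl]; exact hZ
      have hmem := memLocalIdeal_centralChar_of_not_defectGroup hM D χ hdeg x hx hdef
      have hcint : IsIntegral ℤ (((cc p D ψ : ℕ) : ℂ) ^ 2) := (isIntegral_natCast _).pow 2
      have e1 : ((cc p D ψ : ℕ) : ℂ) ^ 2 * centralChar (χ : G → ℂ) x *
          centralChar (χ : G → ℂ) y⁻¹ =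
          (((cc p D ψ : ℕ) : ℂ) ^ 2 * centralChar (χ : G → ℂ) y⁻¹) * centralChar (χ : G → ℂ) x := by
        ring
      rw [e1]
      exact memLocalIdeal_mul_integral hmem (hcint.mul (isIntegral_centralChar χ.2 _))
    · rw [if_neg hZ]
      exact memLocalIdeal_zero hMtop

theorem sum_tt' {p : ℕ} [hp : Fact p.Prime] (hM : IsPModular p M) (D : Subgroup G)
    [D.Normal] (hD : IsPGroup p D) (x y : G) :
    ∑ ψ : IrrCharacter (G ⧸ D), tt' hM D x y ψ =
      ∑ B : Tau p M D, (sB hM D hD B : ℂ) * centralChar (psiB hM D B : G → ℂ) x *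
          centralChar (psiB hM D B : G → ℂ) y⁻¹ := by
  unfold tt'
  rw [Finset.sum_comm]
  apply Finset.sum_congr rfl
  intro B _
  rw [sB_eq, Finset.sum_mul, Finset.sum_mul]
  apply Finset.sum_congr rfl
  intro ψ _
  by_cases h : infl D ψ ∈ B.1
  · rw [if_pos h, if_pos h]
  · rw [if_neg h, if_neg h, zero_mul, zero_mul]

end Cfsg.Agent.Lib.Helper4.Rob
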