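import Mathlib
import Cfsg.Agent.Lib.Helper4.RobAsm3
import Cfsg.Agent.Lib.Helper5.RobB
import Cfsg.Agent.H2.RobC2

set_option autoImplicit false
set_option linter.style.haveILetI false
set_option linter.unusedSectionVars false
set_option maxHeartbeats 1000000

/-! Robinson's count: the main congruence (helper4). -/

namespace Cfsg.Agent.Lib.Helper4.Rob

open Cfsg Cfsg.Agent.Lib.helper3.CharBasic Cfsg.Agent.Lib.helper3.Irr
open Cfsg.Agent.Lib.helper3.Central Cfsg.Agent.Lib.helper3.LocalM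
open Cfsg.Agent.Lib.helper3.Block Cfsg.Agent.Lib.helper3.Lin
open Cfsg.Agent.Lib.Helper4.PSepDet Cfsg.Agent.Lib.Helper4.PSepNormal
open Cfsg.Agent.Lib.Helper5.RobB Cfsg.Agent.H2.RobC
open scoped ComplexConjugate
open Classical

variable {M : Ideal AlgInt} {G : Type*} [Group G] [Finite G]

theorem kk_mul_term {p : ℕ} [hp : Fact p.Prime] (D : Subgroup G) [D.Normal]
    (x y : G) (hx : Good p D x) (hy : Good p D y) (ψ : IrrCharacter (G ⧸ D)) :
    (kk p D x : ℂ) * (kk p D y : ℂ) *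
      Set.indicator {χ : IrrCharacter (G ⧸ D) | (charDegree (χ : G ⧸ D → ℂ)).factorization p
          = (Nat.card (G ⧸ D)).factorization p}
        (fun χ => (χ : G ⧸ D → ℂ) (x : G ⧸ D) * conj ((χ : G ⧸ D → ℂ) (y : G ⧸ D))) ψ =
      tt p D x y ψ := by
  rw [Set.indicator_apply]
  unfold tt
  simp only [Set.mem_setOf_eq, factorization_card_quot]
  by_cases hZ : (charDegree (ψ : G ⧸ D → ℂ)).factorization p = ad p D
  · rw [if_pos hZ, if_pos hZ]
    have h1 := kk_mul_apply D ψ hZ hx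
    have h2 := kk_mul_apply D ψ hZ (good_inv D hy)
    rw [kk_inv] at h2
    have h3 : conj ((ψ : G ⧸ D → ℂ) (y : G ⧸ D)) = (ψ : G ⧸ D → ℂ) ((y⁻¹ : G) : G ⧸ D) := by
      rw [QuotientGroup.mk_inv]
      exact (isCharacter_apply_inv (isCharacter_of_isIrrCharacter ψ.2) _).symm
    rw [h3]
    calc (kk p D x : ℂ) * (kk p D y : ℂ) *
          ((ψ : G ⧸ D → ℂ) (x : G ⧸ D) * (ψ : G ⧸ D → ℂ) ((y⁻¹ : G) : G ⧸ D))
        = ((kk p D x : ℂ) * (ψ : G ⧸ D → ℂ) (x : G ⧸ D)) *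
          ((kk p D y : ℂ) * (ψ : G ⧸ D → ℂ) ((y⁻¹ : G) : G ⧸ D)) := by ring
      _ = _ := by rw [h1, h2]; ring
  · rw [if_neg hZ, if_neg hZ, mul_zero]

/-- the main congruence -/
theorem main_congr {p : ℕ} [hp : Fact p.Prime] (hM : IsPModular p M) (D : Subgroup G)
    [D.Normal] (hD : IsPGroup p D) (x y : G) (hx : Good p D x) (hy : Good p D y) :
    MemLocalIdeal M ((kk p D x : ℂ) * (cnt p x y : ℂ) *
        ((Nat.card ↥(Subgroup.centralizer ({(y : G ⧸ D)} : Set (G ⧸ D))) * kk p D y : ℕ) : ℂ)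
      - ∑ B : Tau p M D, (sB hM D hD B : ℂ) * centralChar (psiB hM D B : G → ℂ) x *
          centralChar (psiB hM D B : G → ℂ) y⁻¹) := by
  haveI hMp := isPrime_of_isPModular hM
  have hMtop : M ≠ ⊤ := hM.2.1.ne_top
  have ha := card_centralizer_mul_cnt p M hM (x : G ⧸ D) (y : G ⧸ D)
  rw [cnt_quot p D hD x y hx hy, finsum_mem_def, finsum_eq_sum_of_fintype] at ha
  have hb := memLocalIdeal_mul_integral ha
    (c := (kk p D x : ℂ) * (kk p D y : ℂ)) ((isIntegral_natCast _).mul (isIntegral_natCast _))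
  rw [mul_sub, Finset.mul_sum] at hb
  simp only [kk_mul_term D x y hx hy] at hb
  have hc : MemLocalIdeal M (∑ ψ : IrrCharacter (G ⧸ D), tt p D x y ψ -
      ∑ ψ : IrrCharacter (G ⧸ D), tt' hM D x y ψ) := by
    rw [← Finset.sum_sub_distrib]
    apply memLocalIdeal_sum
    intro ψ _
    exact memLocalIdeal_tt_sub hM D hD x y hx ψ
  rw [sum_tt' hM D hD] at hc
  have hd := memLocalIdeal_add hb hc
  have e : (kk p D x : ℂ) * (cnt p x y : ℂ) *
        ((Nat.card ↥(Subgroup.centralizer ({(y : G ⧸ D)} : Set (G ⧸ D))) * kk p D y : ℕ) : ℂ)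
      - ∑ B : Tau p M D, (sB hM D hD B : ℂ) * centralChar (psiB hM D B : G → ℂ) x *
          centralChar (psiB hM D B : G → ℂ) y⁻¹ =
      ((kk p D x : ℂ) * (kk p D y : ℂ) *
        ((Nat.card ↥(Subgroup.centralizer ({(y : G ⧸ D)} : Set (G ⧸ D))) : ℂ) * (cnt p x y : ℂ))
        - ∑ ψ : IrrCharacter (G ⧸ D), tt p D x y ψ) +
      (∑ ψ : IrrCharacter (G ⧸ D), tt p D x y ψ -
        ∑ B : Tau p M D, (sB hM D hD B : ℂ) * centralChar (psiB hM D B : G → ℂ) x *
          centralChar (psiB hM D B : G → ℂ) y⁻¹) := by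
    push_cast
    ring
  rw [e]
  exact hd

end Cfsg.Agent.Lib.Helper4.Rob
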