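import Mathlib
import Cfsg.Prelude.Def_RootSubgroups
import Cfsg.Agent.H2.RankOne

/-!
General commutator/normalizer lemmas used for the chain `⁅A, B⁆, ⁅B, C⁆ ∈ S` of abstract root
subgroups (helper4).
-/

set_option autoImplicit false

namespace Cfsg.Agent.Lib.Helper4.RootChain

open Cfsg Cfsg.Agent.H2.RankOne
open scoped commutatorElement

variable {G : Type*} [Group G]

/-- `⁅P₁ ⊔ P₂, Q⁆ ≤ K` as soon as `⁅P₁, Q⁆, ⁅P₂, Q⁆ ≤ K` and `P₁, P₂` normalize `K`. -/
theorem commutator_sup_le {K P₁ P₂ Q : Subgroup G}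
    (hn₁ : P₁ ≤ Subgroup.normalizer (K : Set G)) (hn₂ : P₂ ≤ Subgroup.normalizer (K : Set G))
    (h₁ : ⁅P₁, Q⁆ ≤ K) (h₂ : ⁅P₂, Q⁆ ≤ K) : ⁅P₁ ⊔ P₂, Q⁆ ≤ K := by
  rw [Subgroup.commutator_le]
  intro x hx q hq
  have key : ∀ x ∈ P₁ ⊔ P₂, x ∈ Subgroup.normalizer (K : Set G) ∧ ⁅x, q⁆ ∈ K := by
    apply sup_induction
    · intro a ha
      exact ⟨hn₁ ha, h₁ (Subgroup.commutator_mem_commutator ha hq)⟩
    · intro a ha
      exact ⟨hn₂ ha, h₂ (Subgroup.commutator_mem_commutator ha hq)⟩
    · refine ⟨Subgroup.one_mem _, ?_⟩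
      rw [commutatorElement_one_left]; exact K.one_mem
    · rintro x y ⟨hxn, hxq⟩ ⟨hyn, hyq⟩
      refine ⟨Subgroup.mul_mem _ hxn hyn, ?_⟩
      have e : ⁅x * y, q⁆ = x * ⁅y, q⁆ * x⁻¹ * ⁅x, q⁆ := by
        simp only [commutatorElement_def]; group
      rw [e]
      exact K.mul_mem ((Subgroup.mem_normalizer_iff.1 hxn _).1 hyq) hxq
  exact (key x hx).2

theorem commutator_le_sup_right {K P Q₁ Q₂ : Subgroup G}
    (hn₁ : Q₁ ≤ Subgroup.normalizer (K : Set G)) (hn₂ : Q₂ ≤ Subgroup.normalizer (K : Set G))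
    (h₁ : ⁅P, Q₁⁆ ≤ K) (h₂ : ⁅P, Q₂⁆ ≤ K) : ⁅P, Q₁ ⊔ Q₂⁆ ≤ K := by
  rw [Subgroup.commutator_comm]
  apply commutator_sup_le hn₁ hn₂
  · rw [Subgroup.commutator_comm]; exact h₁
  · rw [Subgroup.commutator_comm]; exact h₂

/-- if every element of `P` conjugates `H` into `H`, every element of `P` normalizes `H` -/
theorem le_normalizer_of_conjBy_le {H P : Subgroup G} (h : ∀ p ∈ P, conjBy H p ≤ H) :
    P ≤ Subgroup.normalizer (H : Set G) := by
  intro p hp
  rw [← conjBy_eq_self_iff]
  apply le_antisymm (h p hp)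
  have h1 := h p⁻¹ (P.inv_mem hp)
  intro x hx
  rw [mem_conjBy]
  apply h1
  rw [mem_conjBy]
  have e : (p⁻¹)⁻¹ * (p⁻¹ * x * p) * p⁻¹ = x := by group
  rw [e]; exact hx

theorem conjBy_sup (H K : Subgroup G) (g : G) : conjBy (H ⊔ K) g = conjBy H g ⊔ conjBy K g :=
  Subgroup.map_sup H K _

theorem conjBy_mono {H K : Subgroup G} (h : H ≤ K) (g : G) : conjBy H g ≤ conjBy K g :=
  Subgroup.map_mono h

theorem conjBy_eq_self_of_mem_centralizer {H : Subgroup G} {g : G}
    (hg : g ∈ Subgroup.centralizer (H : Set G)) : conjBy H g = H := by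
  rw [conjBy_eq_self_iff]
  exact Subgroup.centralizer_le_normalizer _ hg

theorem commutator_eq_bot_of_le_centralizer {H K : Subgroup G}
    (h : H ≤ Subgroup.centralizer (K : Set G)) : ⁅H, K⁆ = ⊥ := by
  rw [Subgroup.commutator_eq_bot_iff_le_centralizer]
  exact h

theorem le_centralizer_of_commutator_eq_bot {H K : Subgroup G} (h : ⁅H, K⁆ = ⊥) :
    H ≤ Subgroup.centralizer (K : Set G) := by
  rw [Subgroup.commutator_eq_bot_iff_le_centralizer] at h
  exact h

theorem le_centralizer_symm {H K : Subgroup G} (h : H ≤ Subgroup.centralizer (K : Set G)) :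
    K ≤ Subgroup.centralizer (H : Set G) := by
  intro k hk
  rw [Subgroup.mem_centralizer_iff]
  intro x hx
  have := h hx
  rw [Subgroup.mem_centralizer_iff] at this
  exact (this k hk).symm

/-- the commutator of two subgroups centralized by `P` is centralized by `P` -/
theorem commutator_le_centralizer {H K P : Subgroup G} (hH : H ≤ Subgroup.centralizer (P : Set G))
    (hK : K ≤ Subgroup.centralizer (P : Set G)) : ⁅H, K⁆ ≤ Subgroup.centralizer (P : Set G) := by
  rw [Subgroup.commutator_le]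
  intro x hx y hy
  rw [commutatorElement_def]
  exact Subgroup.mul_mem _ (Subgroup.mul_mem _ (Subgroup.mul_mem _ (hH hx) (hK hy))
    (Subgroup.inv_mem _ (hH hx))) (Subgroup.inv_mem _ (hK hy))

theorem commutator_le_sup' (A B : Subgroup G) : ⁅A, B⁆ ≤ A ⊔ B := by
  rw [Subgroup.commutator_le]
  intro a ha b hb
  rw [commutatorElement_def]
  exact Subgroup.mul_mem _ (Subgroup.mul_mem _ (Subgroup.mul_mem _ (Subgroup.mem_sup_left ha)
    (Subgroup.mem_sup_right hb)) (Subgroup.mem_sup_left (A.inv_mem ha)))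
    (Subgroup.mem_sup_right (B.inv_mem hb))

/-- a subgroup is commutative as soon as it centralizes itself -/
theorem isMulCommutative_of_le_centralizer {H : Subgroup G}
    (h : H ≤ Subgroup.centralizer (H : Set G)) : IsMulCommutative ↥H := by
  rw [isMulCommutative_iff]
  intro x y
  apply Subtype.ext
  have := h x.2
  rw [Subgroup.mem_centralizer_iff] at this
  exact (this y y.2).symm

theorem le_centralizer_of_isMulCommutative {H : Subgroup G} (h : IsMulCommutative ↥H) :
    H ≤ Subgroup.centralizer (H : Set G) := by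
  intro x hx
  rw [Subgroup.mem_centralizer_iff]
  intro y hy
  have h2 : (⟨y, hy⟩ : H) * ⟨x, hx⟩ = ⟨x, hx⟩ * ⟨y, hy⟩ := isMulCommutative_iff.1 h _ _
  exact congrArg Subtype.val h2

/-- the join of two commuting commutative subgroups is commutative -/
theorem isMulCommutative_sup {H K : Subgroup G} (hH : IsMulCommutative ↥H) (hK : IsMulCommutative ↥K)
    (hHK : H ≤ Subgroup.centralizer (K : Set G)) : IsMulCommutative ↥(H ⊔ K) := by
  apply isMulCommutative_of_le_centralizer
  have hKH := le_centralizer_symm hHK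
  have h1 : H ≤ Subgroup.centralizer ((H ⊔ K : Subgroup G) : Set G) := by
    apply le_centralizer_symm
    exact sup_le (le_centralizer_of_isMulCommutative hH) hKH
  have h2 : K ≤ Subgroup.centralizer ((H ⊔ K : Subgroup G) : Set G) := by
    apply le_centralizer_symm
    exact sup_le hHK (le_centralizer_of_isMulCommutative hK)
  exact sup_le h1 h2

/-- nilpotency of a subgroup from a descending chain of subgroups of the ambient group -/
theorem isNilpotent_of_series (R : Subgroup G) (H : ℕ → Subgroup G) (n : ℕ) (h0 : R ≤ H 0)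
    (hn : H n = ⊥) (hstep : ∀ i, ⁅H i, R⁆ ≤ H (i + 1)) : Group.IsNilpotent ↥R := by
  rw [nilpotent_iff_finite_descending_central_series]
  refine ⟨n, fun i => (H i).subgroupOf R, ⟨?_, ?_⟩, ?_⟩
  · rw [Subgroup.subgroupOf_eq_top]; exact h0
  · intro x i hx g
    rw [Subgroup.mem_subgroupOf] at hx ⊢
    have := hstep i (Subgroup.commutator_mem_commutator hx g.2)
    rw [commutatorElement_def] at this
    simpa [commutatorElement_def] using this
  · show (H n).subgroupOf R = ⊥
    rw [hn]; simp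

end Cfsg.Agent.Lib.Helper4.RootChain
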