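import Mathlib
import Cfsg.Prelude.Def_RootSubgroups
import Cfsg.Agent.H2.RankOne
import Cfsg.Agent.H2.RootSub
import Cfsg.Agent.H2.RootSub2
import Cfsg.Agent.H2.RootSub3
import Cfsg.Agent.H2.RootSub5
import Cfsg.Agent.Lib.Helper4.RootChainA

/-!
The chain configuration `⁅A, B⁆ ∈ S`, `⁅C, B⁆ ∈ S`, `⁅A, C⁆ = ⊥`, `A ≠ C` of abstract root
subgroups: basic facts (helper4).
-/

set_option autoImplicit false

namespace Cfsg.Agent.Lib.Helper4.RootChain

open Cfsg Cfsg.Agent.H2.RankOne Cfsg.Agent.H2.RootSub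
open scoped commutatorElement

variable {G : Type*} [Group G] {S : Set (Subgroup G)}

/-- for `1 ≠ a ∈ A` every element of `⁅A, B⁆` is a commutator `⁅a, b⁆` -/
theorem exists_comm_eq {A B : Subgroup G} (h : RootCommutatorCase S A B) {a : G} (ha : a ∈ A)
    (ha1 : a ≠ 1) {c : G} (hc : c ∈ ⁅A, B⁆) : ∃ b ∈ B, ⁅a, b⁆ = c := by
  have ha1' : a⁻¹ ≠ 1 := by simpa using ha1
  obtain ⟨b, hb, hbc⟩ := comm_surjective' h (A.inv_mem ha) ha1' hc
  refine ⟨b⁻¹, B.inv_mem hb, ?_⟩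
  rw [commutatorElement_def, ← hbc]; group

theorem rcc_le_centralizer_left {A B : Subgroup G} (h : RootCommutatorCase S A B) :
    ⁅A, B⁆ ≤ Subgroup.centralizer (A : Set G) := by
  intro c hc
  rw [Subgroup.mem_centralizer_iff]
  intro x hx
  exact (h.2.1 c hc x (Subgroup.mem_sup_left hx)).symm

theorem rcc_le_centralizer_right {A B : Subgroup G} (h : RootCommutatorCase S A B) :
    ⁅A, B⁆ ≤ Subgroup.centralizer (B : Set G) := by
  intro c hc
  rw [Subgroup.mem_centralizer_iff]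
  intro x hx
  exact (h.2.1 c hc x (Subgroup.mem_sup_right hx)).symm

/-- the chain configuration -/
structure Chain (S : Set (Subgroup G)) (A B C : Subgroup G) : Prop where
  hS : IsRootSubgroupSet S
  hA : A ∈ S
  hB : B ∈ S
  hC : C ∈ S
  hAB : ⁅A, B⁆ ∈ S
  hCB : ⁅C, B⁆ ∈ S
  hne : A ≠ C
  hAC : A ≤ Subgroup.centralizer (C : Set G)

namespace Chain

variable {A B C : Subgroup G}

theorem symm (q : Chain S A B C) : Chain S C B A :=
  ⟨q.hS, q.hC, q.hB, q.hA, q.hCB, q.hAB, q.hne.symm, le_centralizer_symm q.hAC⟩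

theorem rccAB (q : Chain S A B C) : RootCommutatorCase S A B :=
  commutatorCase_of_commutator_mem q.hS q.hA q.hB q.hAB

theorem rccBA (q : Chain S A B C) : RootCommutatorCase S B A :=
  commutatorCase_of_commutator_mem q.hS q.hB q.hA (by rw [Subgroup.commutator_comm]; exact q.hAB)

theorem N_le_centA (q : Chain S A B C) : ⁅A, B⁆ ≤ Subgroup.centralizer (A : Set G) :=
  rcc_le_centralizer_left q.rccAB

theorem N_le_centB (q : Chain S A B C) : ⁅A, B⁆ ≤ Subgroup.centralizer (B : Set G) :=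
  rcc_le_centralizer_right q.rccAB

theorem A_le_centN (q : Chain S A B C) : A ≤ Subgroup.centralizer ((⁅A, B⁆ : Subgroup G) : Set G) :=
  le_centralizer_symm q.N_le_centA

theorem B_le_centN (q : Chain S A B C) : B ≤ Subgroup.centralizer ((⁅A, B⁆ : Subgroup G) : Set G) :=
  le_centralizer_symm q.N_le_centB

theorem commA (q : Chain S A B C) : A ≤ Subgroup.centralizer (A : Set G) :=
  le_centralizer_of_isMulCommutative (q.hS.commutative A q.hA)

theorem commB (q : Chain S A B C) : B ≤ Subgroup.centralizer (B : Set G) :=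
  le_centralizer_of_isMulCommutative (q.hS.commutative B q.hB)

theorem commN (q : Chain S A B C) :
    ⁅A, B⁆ ≤ Subgroup.centralizer ((⁅A, B⁆ : Subgroup G) : Set G) :=
  le_centralizer_of_isMulCommutative (q.hS.commutative _ q.hAB)

/-- `b A b⁻¹ ≤ A N` -/
theorem conjBy_A_le (q : Chain S A B C) {b : G} (hb : b ∈ B) : conjBy A b ≤ A ⊔ ⁅A, B⁆ :=
  conjBy_le_sup_commutator hb

/-- `N ≤ ⟨A, b A b⁻¹⟩` for `b ≠ 1` -/
theorem N_le_sup_conjBy (q : Chain S A B C) {b : G} (hb : b ∈ B) (hb1 : b ≠ 1) :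
    ⁅A, B⁆ ≤ A ⊔ conjBy A b := by
  intro n hn
  have hn' : n ∈ ⁅B, A⁆ := by rw [Subgroup.commutator_comm]; exact hn
  obtain ⟨a, ha, hab⟩ := exists_comm_eq q.rccBA hb hb1 hn'
  rw [← hab, commutatorElement_def]
  have h1 : b * a * b⁻¹ ∈ conjBy A b := conj_mem_conjBy ha b
  have e : b * a * b⁻¹ * a⁻¹ = (b * a * b⁻¹) * a⁻¹ := by group
  rw [e]
  exact Subgroup.mul_mem _ (Subgroup.mem_sup_right h1) (Subgroup.mem_sup_left (A.inv_mem ha))

theorem sup_conjBy_eq (q : Chain S A B C) {b : G} (hb : b ∈ B) (hb1 : b ≠ 1) :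
    A ⊔ conjBy A b = A ⊔ ⁅A, B⁆ := by
  apply le_antisymm
  · exact sup_le le_sup_left (q.conjBy_A_le hb)
  · exact sup_le le_sup_left (q.N_le_sup_conjBy hb hb1)

theorem exists_ne_one (q : Chain S A B C) {D : Subgroup G} (hD : D ∈ S) : ∃ d ∈ D, d ≠ 1 := by
  have := q.hS.ne_bot D hD
  rw [Ne, Subgroup.eq_bot_iff_forall] at this
  push Not at this
  exact this

/-- `C` centralizes `⁅A, ⁅C, B⁆⁆` -/
theorem L_le_centC (q : Chain S A B C) : ⁅A, ⁅C, B⁆⁆ ≤ Subgroup.centralizer (C : Set G) :=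
  commutator_le_centralizer q.hAC q.symm.N_le_centA

/-- `A` and `⁅C, B⁆` do not form a rank one pair -/
theorem not_rankOne (q : Chain S A B C) : ¬ IsRankOnePair A ⁅C, B⁆ := by
  intro h
  obtain ⟨c, hc, hc1⟩ := q.exists_ne_one q.hC
  obtain ⟨m, hm, hm1⟩ := q.exists_ne_one q.hCB
  obtain ⟨b, hb, hbm⟩ := comm_surjective' q.symm.rccAB hc hc1 hm
  have hm' : c⁻¹ * b⁻¹ * c * b ∈ ⁅C, B⁆ := comm_mem hc hb
  have hm'1 : c⁻¹ * b⁻¹ * c * b ≠ 1 := by rw [hbm]; exact hm1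
  have hz : c ∈ Subgroup.centralizer (((⁅C, B⁆ : Subgroup G) ⊔ A : Subgroup G) : Set G) := by
    have h1 : (⁅C, B⁆ : Subgroup G) ⊔ A ≤ Subgroup.centralizer (C : Set G) :=
      sup_le q.symm.N_le_centA q.hAC
    exact le_centralizer_symm h1 hc
  have := mul_notMem_rootElements q.hS q.hCB q.hA (RankOnePair_symm h) hz hc1 _ hm' hm'1
  apply this
  refine ⟨?_, conjBy C b⁻¹, q.hS.conj_mem C q.hC _, ?_⟩
  · intro hh
    apply hc1
    have e : c * (c⁻¹ * b⁻¹ * c * b) = b⁻¹ * c * b := by group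
    rw [e] at hh
    have e2 : c = b * (b⁻¹ * c * b) * b⁻¹ := by group
    rw [e2, hh]; group
  · rw [mem_conjBy]
    have e : (b⁻¹)⁻¹ * (c * (c⁻¹ * b⁻¹ * c * b)) * b⁻¹ = c := by group
    rw [e]; exact hc

/-- either `A` centralizes `⁅C, B⁆` or they are in the commutator case -/
theorem dichotomy (q : Chain S A B C) :
    ⁅A, ⁅C, B⁆⁆ = ⊥ ∨ RootCommutatorCase S A ⁅C, B⁆ := by
  rcases q.hS.pair A q.hA _ q.hCB with h | h | h
  · exact Or.inl h
  · exact absurd h q.not_rankOne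
  · exact Or.inr h

/-- three subgroups lemma: `⁅A, ⁅C, B⁆⁆ = ⊥` implies `⁅C, ⁅A, B⁆⁆ = ⊥` -/
theorem L'_eq_bot_of (q : Chain S A B C) (h : ⁅A, ⁅C, B⁆⁆ = ⊥) : ⁅C, ⁅A, B⁆⁆ = ⊥ := by
  rw [Subgroup.commutator_comm]
  apply Subgroup.commutator_commutator_eq_bot_of_rotate
  · rw [Subgroup.commutator_comm B C, Subgroup.commutator_comm]; exact h
  · rw [commutator_eq_bot_of_le_centralizer (le_centralizer_symm q.hAC)]
    exact Subgroup.commutator_bot_left B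

theorem L_eq_bot_iff (q : Chain S A B C) : ⁅A, ⁅C, B⁆⁆ = ⊥ ↔ ⁅C, ⁅A, B⁆⁆ = ⊥ :=
  ⟨q.L'_eq_bot_of, q.symm.L'_eq_bot_of⟩

/-- `A` centralizes `L = ⁅A, ⁅C, B⁆⁆` -/
theorem L_le_centA (q : Chain S A B C) : ⁅A, ⁅C, B⁆⁆ ≤ Subgroup.centralizer (A : Set G) := by
  rcases q.dichotomy with h | h
  · rw [h]; exact bot_le
  · exact rcc_le_centralizer_left h

/-- `⁅C, B⁆` centralizes `L = ⁅A, ⁅C, B⁆⁆` -/
theorem L_le_centM (q : Chain S A B C) :
    ⁅A, ⁅C, B⁆⁆ ≤ Subgroup.centralizer ((⁅C, B⁆ : Subgroup G) : Set G) := by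
  rcases q.dichotomy with h | h
  · rw [h]; exact bot_le
  · exact rcc_le_centralizer_right h

end Chain

end Cfsg.Agent.Lib.Helper4.RootChain
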