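import Mathlib
import Cfsg.Prelude.Def_RootSubgroups
import Cfsg.Agent.H2.RankOne
import Cfsg.Agent.H2.RootSub
import Cfsg.Agent.H2.RootSub2
import Cfsg.Agent.H2.RootSub3
import Cfsg.Agent.H2.RootSub5
import Cfsg.Agent.Lib.Helper4.RootChainA
import Cfsg.Agent.Lib.Helper4.RootChainB

/-!
The chain configuration of abstract root subgroups: the subgroups `X = ⟨A, b C b⁻¹⟩`,
`Y = ⟨b A b⁻¹, C⟩` (helper4).
-/

set_option autoImplicit false

namespace Cfsg.Agent.Lib.Helper4.RootChain

open Cfsg Cfsg.Agent.H2.RankOne Cfsg.Agent.H2.RootSub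
open scoped commutatorElement

variable {G : Type*} [Group G] {S : Set (Subgroup G)}

theorem conjBy_le_centralizer_conjBy {H K : Subgroup G} (h : H ≤ Subgroup.centralizer (K : Set G))
    (g : G) : conjBy H g ≤ Subgroup.centralizer ((conjBy K g : Subgroup G) : Set G) := by
  intro x hx
  rw [mem_conjBy] at hx
  rw [Subgroup.mem_centralizer_iff]
  intro y hy
  have hy' : g⁻¹ * y * g ∈ K := mem_conjBy.1 hy
  have h1 := h hx
  rw [Subgroup.mem_centralizer_iff] at h1
  have h2 := h1 _ hy'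
  calc y * x = g * ((g⁻¹ * y * g) * (g⁻¹ * x * g)) * g⁻¹ := by group
    _ = g * ((g⁻¹ * x * g) * (g⁻¹ * y * g)) * g⁻¹ := by rw [h2]
    _ = x * y := by group

namespace Chain

variable {A B C : Subgroup G}

/-- `C ⊔ ⁅C, B⁆` centralizes `C` -/
theorem CM_le_centC (q : Chain S A B C) : C ⊔ ⁅C, B⁆ ≤ Subgroup.centralizer (C : Set G) :=
  sup_le q.symm.commA q.symm.N_le_centA

theorem AN_le_centA (q : Chain S A B C) : A ⊔ ⁅A, B⁆ ≤ Subgroup.centralizer (A : Set G) :=
  sup_le q.commA q.N_le_centA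

/-- `X` and `Y` commute -/
theorem X_le_centY (q : Chain S A B C) {b : G} (hb : b ∈ B) :
    A ⊔ conjBy C b ≤ Subgroup.centralizer ((conjBy A b ⊔ C : Subgroup G) : Set G) := by
  apply sup_le
  · apply le_centralizer_symm
    apply sup_le
    · exact le_trans (q.conjBy_A_le hb) q.AN_le_centA
    · exact le_centralizer_symm q.hAC
  · apply le_centralizer_symm
    apply sup_le
    · exact conjBy_le_centralizer_conjBy q.hAC b
    · apply le_centralizer_symm
      exact le_trans (q.symm.conjBy_A_le hb) q.CM_le_centC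

theorem comm_XY (q : Chain S A B C) {b : G} (hb : b ∈ B) :
    ⁅A ⊔ conjBy C b, conjBy A b ⊔ C⁆ = ⊥ :=
  commutator_eq_bot_of_le_centralizer (q.X_le_centY hb)

/-- `C ⊔ ⁅C, B⁆` is commutative -/
theorem CM_comm (q : Chain S A B C) :
    C ⊔ ⁅C, B⁆ ≤ Subgroup.centralizer ((C ⊔ ⁅C, B⁆ : Subgroup G) : Set G) := by
  apply sup_le
  · exact le_centralizer_symm q.CM_le_centC
  · apply le_centralizer_symm
    exact sup_le q.symm.A_le_centN q.symm.commN

/-- if `A` centralizes `⁅C, B⁆` then `X` is commutative -/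
theorem X_comm_of (q : Chain S A B C) (h : ⁅A, ⁅C, B⁆⁆ = ⊥) {b : G} (hb : b ∈ B) :
    IsMulCommutative ↥(A ⊔ conjBy C b) := by
  have hAM : A ≤ Subgroup.centralizer ((⁅C, B⁆ : Subgroup G) : Set G) :=
    le_centralizer_of_commutator_eq_bot h
  have hT : IsMulCommutative ↥(A ⊔ (C ⊔ ⁅C, B⁆)) := by
    apply isMulCommutative_sup (q.hS.commutative A q.hA)
      (isMulCommutative_of_le_centralizer q.CM_comm)
    apply le_centralizer_symm
    exact sup_le (le_centralizer_symm q.hAC) (le_centralizer_symm hAM)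
  have hle : A ⊔ conjBy C b ≤ A ⊔ (C ⊔ ⁅C, B⁆) :=
    sup_le le_sup_left (le_trans (q.symm.conjBy_A_le hb) le_sup_right)
  apply isMulCommutative_of_le_centralizer
  have h1 := le_centralizer_of_isMulCommutative hT
  exact le_trans hle (le_trans h1 (Subgroup.centralizer_le hle))

/-- if `X` is commutative then `A` centralizes `⁅C, B⁆` -/
theorem L_eq_bot_of_X_comm (q : Chain S A B C) {b : G} (hb : b ∈ B) (hb1 : b ≠ 1)
    (h : IsMulCommutative ↥(A ⊔ conjBy C b)) : ⁅A, ⁅C, B⁆⁆ = ⊥ := by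
  apply commutator_eq_bot_of_le_centralizer
  have h1 := le_centralizer_of_isMulCommutative h
  have h2 : A ≤ Subgroup.centralizer ((conjBy C b : Subgroup G) : Set G) :=
    le_trans le_sup_left (le_trans h1 (Subgroup.centralizer_le
      (show conjBy C b ≤ A ⊔ conjBy C b from le_sup_right)))
  apply le_centralizer_symm
  refine le_trans (q.symm.N_le_sup_conjBy hb hb1) ?_
  exact sup_le (le_centralizer_symm q.hAC) (le_centralizer_symm h2)

/-- in the non-commuting case `X` has class two -/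
theorem X_class_two (q : Chain S A B C) {b : G} (hb : b ∈ B) :
    ⁅⁅A ⊔ conjBy C b, A ⊔ conjBy C b⁆, A ⊔ conjBy C b⁆ = ⊥ := by
  set L := ⁅A, ⁅C, B⁆⁆ with hL
  have hA : A ≤ Subgroup.centralizer (L : Set G) := le_centralizer_symm q.L_le_centA
  have hC : C ≤ Subgroup.centralizer (L : Set G) := le_centralizer_symm q.L_le_centC
  have hM : ⁅C, B⁆ ≤ Subgroup.centralizer (L : Set G) := le_centralizer_symm q.L_le_centM
  have hCb : conjBy C b ≤ Subgroup.centralizer (L : Set G) :=
    le_trans (q.symm.conjBy_A_le hb) (sup_le hC hM)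
  have hX : A ⊔ conjBy C b ≤ Subgroup.centralizer (L : Set G) := sup_le hA hCb
  have cn := Subgroup.centralizer_le_normalizer (L : Set G)
  have hACb : ⁅A, conjBy C b⁆ ≤ L := by
    refine le_trans (Subgroup.commutator_mono le_rfl (q.symm.conjBy_A_le hb)) ?_
    apply commutator_le_sup_right (le_trans hC cn) (le_trans hM cn)
    · rw [commutator_eq_bot_of_le_centralizer q.hAC]; exact bot_le
    · exact le_rfl
  have hCbCb : ⁅conjBy C b, conjBy C b⁆ ≤ L := by
    have : conjBy C b ≤ Subgroup.centralizer ((conjBy C b : Subgroup G) : Set G) :=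
      le_trans (q.symm.conjBy_A_le hb) (le_trans q.CM_comm
        (Subgroup.centralizer_le (q.symm.conjBy_A_le hb)))
    rw [commutator_eq_bot_of_le_centralizer this]; exact bot_le
  have hXX : ⁅A ⊔ conjBy C b, A ⊔ conjBy C b⁆ ≤ L := by
    apply commutator_sup_le (le_trans hA cn) (le_trans hCb cn)
    · apply commutator_le_sup_right (le_trans hA cn) (le_trans hCb cn)
      · rw [commutator_eq_bot_of_le_centralizer q.commA]; exact bot_le
      · exact hACb
    · apply commutator_le_sup_right (le_trans hA cn) (le_trans hCb cn)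
      · rw [Subgroup.commutator_comm]; exact hACb
      · exact hCbCb
  rw [eq_bot_iff]
  refine le_trans (Subgroup.commutator_mono hXX le_rfl) ?_
  rw [commutator_eq_bot_of_le_centralizer (le_centralizer_symm hX)]

/-- `X Y = A N C M` -/
theorem XY_eq (q : Chain S A B C) {b : G} (hb : b ∈ B) (hb1 : b ≠ 1) :
    (A ⊔ conjBy C b) ⊔ (conjBy A b ⊔ C) = (A ⊔ ⁅A, B⁆) ⊔ (C ⊔ ⁅C, B⁆) := by
  rw [sup_sup_sup_comm, sup_comm (conjBy C b) C, q.sup_conjBy_eq hb hb1,
    q.symm.sup_conjBy_eq hb hb1]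

/-- `B` normalizes `W = A N C M` -/
theorem B_le_normalizer_W (q : Chain S A B C) :
    B ≤ Subgroup.normalizer (((A ⊔ ⁅A, B⁆) ⊔ (C ⊔ ⁅C, B⁆) : Subgroup G) : Set G) := by
  apply le_normalizer_of_conjBy_le
  intro b hb
  rw [conjBy_sup, conjBy_sup, conjBy_sup]
  have h1 : conjBy ⁅A, B⁆ b = ⁅A, B⁆ := conjBy_eq_self_of_mem_centralizer (q.B_le_centN hb)
  have h2 : conjBy ⁅C, B⁆ b = ⁅C, B⁆ := conjBy_eq_self_of_mem_centralizer (q.symm.B_le_centN hb)
  rw [h1, h2]
  apply sup_le
  · exact le_trans (sup_le (q.conjBy_A_le hb) le_sup_right) le_sup_left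
  · exact le_trans (sup_le (q.symm.conjBy_A_le hb) le_sup_right) le_sup_right

theorem R_le_normalizer_W (q : Chain S A B C) :
    A ⊔ B ⊔ C ≤ Subgroup.normalizer (((A ⊔ ⁅A, B⁆) ⊔ (C ⊔ ⁅C, B⁆) : Subgroup G) : Set G) := by
  apply sup_le (sup_le ?_ q.B_le_normalizer_W) ?_
  · exact le_trans (le_trans le_sup_left le_sup_left) Subgroup.le_normalizer
  · exact le_trans (le_trans le_sup_left le_sup_right) Subgroup.le_normalizer

theorem W_sup_B (q : Chain S A B C) :
    ((A ⊔ ⁅A, B⁆) ⊔ (C ⊔ ⁅C, B⁆)) ⊔ B = A ⊔ B ⊔ C := by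
  apply le_antisymm
  · apply sup_le (sup_le (sup_le ?_ ?_) (sup_le ?_ ?_)) ?_
    · exact le_trans le_sup_left le_sup_left
    · exact le_trans (commutator_le_sup' A B) le_sup_left
    · exact le_sup_right
    · refine le_trans (commutator_le_sup' C B) (sup_le le_sup_right ?_)
      exact le_trans le_sup_right le_sup_left
    · exact le_trans le_sup_right le_sup_left
  · apply sup_le (sup_le ?_ le_sup_right) ?_
    · exact le_trans (le_trans le_sup_left le_sup_left) le_sup_left
    · exact le_trans (le_trans le_sup_left le_sup_right) le_sup_left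

end Chain

end Cfsg.Agent.Lib.Helper4.RootChain
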