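import Mathlib
import Cfsg.Prelude.Def_RootSubgroups
import Cfsg.Agent.H2.RankOne
import Cfsg.Agent.H2.RootSub
import Cfsg.Agent.H2.RootSub2
import Cfsg.Agent.H2.RootSub3
import Cfsg.Agent.H2.RootSub5
import Cfsg.Agent.Lib.Helper4.RootChainA
import Cfsg.Agent.Lib.Helper4.RootChainB
import Cfsg.Agent.Lib.Helper4.RootChainC

/-!
The chain configuration of abstract root subgroups: `⟨A, B, C⟩` is nilpotent (helper4).
-/

set_option autoImplicit false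

namespace Cfsg.Agent.Lib.Helper4.RootChain

open Cfsg Cfsg.Agent.H2.RankOne Cfsg.Agent.H2.RootSub
open scoped commutatorElement

variable {G : Type*} [Group G] {S : Set (Subgroup G)}

/-- Hall–Witt with one trivial term -/
theorem hall_witt_aux {a b c : G} (hac : a * c = c * a) :
    b * ⁅a⁻¹, ⁅b⁻¹, c⁆⁆⁻¹ * b⁻¹ = a⁻¹ * ⁅c, ⁅a, b⁆⁆ * a := by
  have h1 : ⁅c⁻¹, a⁻¹⁆ = 1 := by
    rw [commutatorElement_eq_one_iff_mul_comm]
    have : (a * c)⁻¹ = (c * a)⁻¹ := by rw [hac]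
    simpa [mul_inv_rev] using this
  have h2 : ⁅c, ⁅a, b⁆⁆ =
      a * c * ⁅b, ⁅c⁻¹, a⁻¹⁆⁆⁻¹ * c⁻¹ * b * ⁅a⁻¹, ⁅b⁻¹, c⁆⁆⁻¹ * b⁻¹ * a⁻¹ := by
    simp only [commutatorElement_def]; group
  rw [h2, h1, commutatorElement_one_right]
  group

namespace Chain

variable {A B C : Subgroup G}

theorem rccBC (q : Chain S A B C) : RootCommutatorCase S B C :=
  q.symm.rccBA

/-- `b L b⁻¹ ≤ L'` for `1 ≠ b ∈ B` -/
theorem conjBy_L_le (q : Chain S A B C) {b : G} (hb : b ∈ B) (hb1 : b ≠ 1) :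
    conjBy ⁅A, ⁅C, B⁆⁆ b ≤ ⁅C, ⁅A, B⁆⁆ := by
  rcases q.dichotomy with h | h
  · rw [h]
    intro x hx
    rw [mem_conjBy, Subgroup.mem_bot] at hx
    have e : x = b * (b⁻¹ * x * b) * b⁻¹ := by group
    rw [e, hx]; simp
  · intro x hx
    rw [mem_conjBy] at hx
    obtain ⟨a, ha, ha1⟩ := q.exists_ne_one q.hA
    have ha1' : a⁻¹ ≠ 1 := by simpa using ha1
    have hb1' : b⁻¹ ≠ 1 := by simpa using hb1
    obtain ⟨m, hm, hml⟩ := exists_comm_eq h (A.inv_mem ha) ha1' (Subgroup.inv_mem _ hx)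
    have hm' : m ∈ ⁅B, C⁆ := by rw [Subgroup.commutator_comm]; exact hm
    obtain ⟨c, hc, hcm⟩ := exists_comm_eq q.rccBC (B.inv_mem hb) hb1' hm'
    have hac : a * c = c * a := by
      have := q.hAC ha
      rw [Subgroup.mem_centralizer_iff] at this
      exact (this c hc).symm
    have key := hall_witt_aux (b := b) hac
    rw [hcm, hml, inv_inv] at key
    have hmem : ⁅c, ⁅a, b⁆⁆ ∈ ⁅C, ⁅A, B⁆⁆ :=
      Subgroup.commutator_mem_commutator hc (Subgroup.commutator_mem_commutator ha hb)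
    have hcent := q.symm.L_le_centC hmem
    rw [Subgroup.mem_centralizer_iff] at hcent
    have e : x = b * (b⁻¹ * x * b) * b⁻¹ := by group
    rw [e, key]
    have e2 : a⁻¹ * ⁅c, ⁅a, b⁆⁆ * a = ⁅c, ⁅a, b⁆⁆ := by
      rw [mul_assoc, ← hcent a ha]; group
    rw [e2]; exact hmem

/-- `B` normalizes `L ⊔ L'` -/
theorem conjBy_Z_le (q : Chain S A B C) {b : G} (hb : b ∈ B) :
    conjBy (⁅A, ⁅C, B⁆⁆ ⊔ ⁅C, ⁅A, B⁆⁆) b ≤ ⁅A, ⁅C, B⁆⁆ ⊔ ⁅C, ⁅A, B⁆⁆ := by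
  by_cases hb1 : b = 1
  · rw [hb1, conjBy_one]
  · rw [conjBy_sup]
    exact sup_le (le_trans (q.conjBy_L_le hb hb1) le_sup_right)
      (le_trans (q.symm.conjBy_L_le hb hb1) le_sup_left)

theorem B_le_normalizer_Z (q : Chain S A B C) :
    B ≤ Subgroup.normalizer ((⁅A, ⁅C, B⁆⁆ ⊔ ⁅C, ⁅A, B⁆⁆ : Subgroup G) : Set G) :=
  le_normalizer_of_conjBy_le (fun _ hb => q.conjBy_Z_le hb)

theorem A_le_centZ (q : Chain S A B C) :
    A ≤ Subgroup.centralizer ((⁅A, ⁅C, B⁆⁆ ⊔ ⁅C, ⁅A, B⁆⁆ : Subgroup G) : Set G) :=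
  le_centralizer_symm (sup_le q.L_le_centA q.symm.L_le_centC)

theorem R_le_normalizer_Z (q : Chain S A B C) :
    A ⊔ B ⊔ C ≤ Subgroup.normalizer ((⁅A, ⁅C, B⁆⁆ ⊔ ⁅C, ⁅A, B⁆⁆ : Subgroup G) : Set G) := by
  have cn := Subgroup.centralizer_le_normalizer
    ((⁅A, ⁅C, B⁆⁆ ⊔ ⁅C, ⁅A, B⁆⁆ : Subgroup G) : Set G)
  refine sup_le (sup_le (le_trans q.A_le_centZ cn) q.B_le_normalizer_Z) ?_
  have := q.symm.A_le_centZ
  rw [sup_comm] at this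
  exact le_trans this cn

/-- `⁅L, B⁆ ≤ L ⊔ L'` -/
theorem comm_LB_le (q : Chain S A B C) : ⁅⁅A, ⁅C, B⁆⁆, B⁆ ≤ ⁅A, ⁅C, B⁆⁆ ⊔ ⁅C, ⁅A, B⁆⁆ := by
  rw [Subgroup.commutator_le]
  intro l hl b hb
  rw [commutatorElement_def]
  have h1 : b * l⁻¹ * b⁻¹ ∈ conjBy (⁅A, ⁅C, B⁆⁆ ⊔ ⁅C, ⁅A, B⁆⁆) b :=
    conj_mem_conjBy (Subgroup.mem_sup_left (Subgroup.inv_mem _ hl)) b
  have h2 := q.conjBy_Z_le hb h1
  have e : l * b * l⁻¹ * b⁻¹ = l * (b * l⁻¹ * b⁻¹) := by group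
  rw [e]
  exact Subgroup.mul_mem _ (Subgroup.mem_sup_left hl) h2

/-- `L` and `B` do not form a rank one pair -/
theorem not_rankOne_LB (q : Chain S A B C) (hL : ⁅A, ⁅C, B⁆⁆ ∈ S) :
    ¬ IsRankOnePair ⁅A, ⁅C, B⁆⁆ B := by
  intro h
  have hLne : ⁅A, ⁅C, B⁆⁆ ≠ ⊥ := q.hS.ne_bot _ hL
  have hL'ne : ⁅C, ⁅A, B⁆⁆ ≠ ⊥ := fun hh => hLne (q.L_eq_bot_iff.2 hh)
  have hL' : ⁅C, ⁅A, B⁆⁆ ∈ S := by
    rcases q.symm.dichotomy with h1 | h1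
    · exact absurd h1 hL'ne
    · exact h1.1
  obtain ⟨l, hl, hl1⟩ := exists_nonidentity_left h
  obtain ⟨b, hb, hb1, hlb⟩ := h.cond_left l hl hl1
  have hb1' : b⁻¹ ≠ 1 := by simpa using hb1
  have hle : conjBy B l⁻¹ ≤ ⁅C, ⁅A, B⁆⁆ := by
    rw [← hlb]; exact q.conjBy_L_le (B.inv_mem hb) hb1'
  have hpair := isRankOnePair_conjBy (RankOnePair_symm h) l⁻¹
  have hBS : conjBy B l⁻¹ ∈ S := q.hS.conj_mem B q.hB _
  have hLS : conjBy ⁅A, ⁅C, B⁆⁆ l⁻¹ ∈ S := q.hS.conj_mem _ hL _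
  have heq : conjBy B l⁻¹ = ⁅C, ⁅A, B⁆⁆ := by
    rcases inf_eq_bot_or_eq q.hS hBS hLS hpair hL' with h1 | h1
    · rw [inf_eq_left.2 hle] at h1
      exact absurd h1 (q.hS.ne_bot _ hBS)
    · exact h1
  -- `A` centralizes `conjBy B l⁻¹`, and `l` centralizes `A`
  have hA1 : A ≤ Subgroup.centralizer ((conjBy B l⁻¹ : Subgroup G) : Set G) := by
    rw [heq]; exact le_centralizer_symm q.symm.L_le_centC
  have hA2 := conjBy_le_centralizer_conjBy hA1 l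
  rw [conjBy_mul] at hA2
  have e : l * l⁻¹ = 1 := by group
  rw [e, conjBy_one] at hA2
  have hA3 : conjBy A l = A :=
    conjBy_eq_self_of_mem_centralizer (q.L_le_centA hl)
  rw [hA3] at hA2
  exact q.hS.ne_bot _ q.hAB (commutator_eq_bot_of_le_centralizer hA2)

/-- `⁅⁅L, B⁆, B⁆ = ⊥` -/
theorem comm_LB_B (q : Chain S A B C) :
    ⁅⁅A, ⁅C, B⁆⁆, B⁆ ≤ Subgroup.centralizer (B : Set G) := by
  rcases q.dichotomy with h | h
  · rw [h, Subgroup.commutator_bot_left]; exact bot_le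
  · rcases q.hS.pair _ h.1 B q.hB with h1 | h1 | h1
    · rw [h1]; exact bot_le
    · exact absurd h1 (q.not_rankOne_LB h.1)
    · exact rcc_le_centralizer_right h1

end Chain

end Cfsg.Agent.Lib.Helper4.RootChain
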