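import Mathlib
import Cfsg.Prelude.Def_RootSubgroups
import Cfsg.Agent.H2.RankOne
import Cfsg.Agent.H2.RootSub
import Cfsg.Agent.H2.RootSub2
import Cfsg.Agent.H2.RootSub3
import Cfsg.Agent.H2.RootSub5
import Cfsg.Agent.Lib.Helper4.RootChainA
import Cfsg.Agent.Lib.Helper4.RootChainB
import Cfsg.Agent.Lib.Helper4.RootChainC
import Cfsg.Agent.Lib.Helper4.RootChainD

/-!
The chain configuration of abstract root subgroups: the central series of `⟨A, B, C⟩` (helper4).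
-/

set_option autoImplicit false

namespace Cfsg.Agent.Lib.Helper4.RootChain

open Cfsg Cfsg.Agent.H2.RankOne Cfsg.Agent.H2.RootSub
open scoped commutatorElement

variable {G : Type*} [Group G] {S : Set (Subgroup G)}

theorem bot_le' (K : Subgroup G) {H : Subgroup G} (h : H = ⊥) : H ≤ K := by rw [h]; exact bot_le

namespace Chain

variable {A B C : Subgroup G}

theorem N_le_R (q : Chain S A B C) : ⁅A, B⁆ ≤ A ⊔ B ⊔ C :=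
  le_trans (commutator_le_sup' A B) le_sup_left

theorem M_le_R (q : Chain S A B C) : ⁅C, B⁆ ≤ A ⊔ B ⊔ C :=
  le_trans (commutator_le_sup' C B) (sup_le le_sup_right (le_trans le_sup_right le_sup_left))

theorem L_le_R (q : Chain S A B C) : ⁅A, ⁅C, B⁆⁆ ≤ A ⊔ B ⊔ C :=
  le_trans (commutator_le_sup' _ _) (sup_le (le_trans le_sup_left le_sup_left) q.M_le_R)

theorem L'_le_R (q : Chain S A B C) : ⁅C, ⁅A, B⁆⁆ ≤ A ⊔ B ⊔ C :=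
  le_trans (commutator_le_sup' _ _) (sup_le le_sup_right q.N_le_R)

/-- `A` normalizes `H₁ = N M L L'` -/
theorem A_conjBy_H1_le (q : Chain S A B C) {a : G} (ha : a ∈ A) :
    conjBy ((⁅A, B⁆ ⊔ ⁅C, B⁆) ⊔ (⁅A, ⁅C, B⁆⁆ ⊔ ⁅C, ⁅A, B⁆⁆)) a ≤
      (⁅A, B⁆ ⊔ ⁅C, B⁆) ⊔ (⁅A, ⁅C, B⁆⁆ ⊔ ⁅C, ⁅A, B⁆⁆) := by
  rw [conjBy_sup, conjBy_sup]
  have h1 : conjBy ⁅A, B⁆ a = ⁅A, B⁆ := conjBy_eq_self_of_mem_centralizer (q.A_le_centN ha)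
  have h2 : conjBy (⁅A, ⁅C, B⁆⁆ ⊔ ⁅C, ⁅A, B⁆⁆) a = ⁅A, ⁅C, B⁆⁆ ⊔ ⁅C, ⁅A, B⁆⁆ :=
    conjBy_eq_self_of_mem_centralizer (q.A_le_centZ ha)
  have h3 : conjBy ⁅C, B⁆ a ≤ ⁅C, B⁆ ⊔ ⁅A, ⁅C, B⁆⁆ := by
    have := conjBy_le_sup_commutator (A := ⁅C, B⁆) (B := A) ha
    rw [Subgroup.commutator_comm ⁅C, B⁆ A] at this
    exact this
  rw [h1, h2]
  refine sup_le (sup_le (le_trans le_sup_left le_sup_left) (le_trans h3 ?_)) le_sup_right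
  exact sup_le (le_trans le_sup_right le_sup_left) (le_trans le_sup_left le_sup_right)

theorem B_conjBy_H1_le (q : Chain S A B C) {b : G} (hb : b ∈ B) :
    conjBy ((⁅A, B⁆ ⊔ ⁅C, B⁆) ⊔ (⁅A, ⁅C, B⁆⁆ ⊔ ⁅C, ⁅A, B⁆⁆)) b ≤
      (⁅A, B⁆ ⊔ ⁅C, B⁆) ⊔ (⁅A, ⁅C, B⁆⁆ ⊔ ⁅C, ⁅A, B⁆⁆) := by
  rw [conjBy_sup, conjBy_sup]
  have h1 : conjBy ⁅A, B⁆ b = ⁅A, B⁆ := conjBy_eq_self_of_mem_centralizer (q.B_le_centN hb)
  have h2 : conjBy ⁅C, B⁆ b = ⁅C, B⁆ := conjBy_eq_self_of_mem_centralizer (q.symm.B_le_centN hb)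
  rw [h1, h2]
  exact sup_le le_sup_left (le_trans (q.conjBy_Z_le hb) le_sup_right)

theorem H1_symm (q : Chain S A B C) :
    (⁅C, B⁆ ⊔ ⁅A, B⁆) ⊔ (⁅C, ⁅A, B⁆⁆ ⊔ ⁅A, ⁅C, B⁆⁆) =
      (⁅A, B⁆ ⊔ ⁅C, B⁆) ⊔ (⁅A, ⁅C, B⁆⁆ ⊔ ⁅C, ⁅A, B⁆⁆) := by
  rw [sup_comm ⁅C, B⁆, sup_comm ⁅C, ⁅A, B⁆⁆]

theorem R_le_normalizer_H1 (q : Chain S A B C) :
    A ⊔ B ⊔ C ≤ Subgroup.normalizer
      (((⁅A, B⁆ ⊔ ⁅C, B⁆) ⊔ (⁅A, ⁅C, B⁆⁆ ⊔ ⁅C, ⁅A, B⁆⁆) : Subgroup G) : Set G) := by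
  refine sup_le (sup_le ?_ ?_) ?_
  · exact le_normalizer_of_conjBy_le (fun _ ha => q.A_conjBy_H1_le ha)
  · exact le_normalizer_of_conjBy_le (fun _ hb => q.B_conjBy_H1_le hb)
  · apply le_normalizer_of_conjBy_le
    intro c hc
    have := q.symm.A_conjBy_H1_le hc
    rw [q.H1_symm] at this
    exact this

/-- `H₃ = ⁅L, B⁆ ⊔ ⁅L', B⁆` is central in `R` -/
theorem R_le_centH3 (q : Chain S A B C) :
    A ⊔ B ⊔ C ≤ Subgroup.centralizer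
      ((⁅⁅A, ⁅C, B⁆⁆, B⁆ ⊔ ⁅⁅C, ⁅A, B⁆⁆, B⁆ : Subgroup G) : Set G) := by
  apply le_centralizer_symm
  have hZ : ⁅⁅A, ⁅C, B⁆⁆, B⁆ ⊔ ⁅⁅C, ⁅A, B⁆⁆, B⁆ ≤ ⁅A, ⁅C, B⁆⁆ ⊔ ⁅C, ⁅A, B⁆⁆ := by
    refine sup_le q.comm_LB_le ?_
    have := q.symm.comm_LB_le
    rw [sup_comm] at this
    exact this
  have hA : ⁅A, ⁅C, B⁆⁆ ⊔ ⁅C, ⁅A, B⁆⁆ ≤ Subgroup.centralizer (A : Set G) :=
    le_centralizer_symm q.A_le_centZ
  have hC : ⁅A, ⁅C, B⁆⁆ ⊔ ⁅C, ⁅A, B⁆⁆ ≤ Subgroup.centralizer (C : Set G) := by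
    have := le_centralizer_symm q.symm.A_le_centZ
    rw [sup_comm] at this
    exact this
  have hB : ⁅⁅A, ⁅C, B⁆⁆, B⁆ ⊔ ⁅⁅C, ⁅A, B⁆⁆, B⁆ ≤ Subgroup.centralizer (B : Set G) :=
    sup_le q.comm_LB_B q.symm.comm_LB_B
  intro x hx
  have h1 := hA (hZ hx)
  have h2 := hB hx
  have h3 := hC (hZ hx)
  have : A ⊔ B ⊔ C ≤ Subgroup.centralizer ({x} : Set G) := by
    refine sup_le (sup_le ?_ ?_) ?_
    · intro a ha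
      rw [Subgroup.mem_centralizer_iff] at h1
      rw [Subgroup.mem_centralizer_singleton_iff]
      exact h1 a ha
    · intro a ha
      rw [Subgroup.mem_centralizer_iff] at h2
      rw [Subgroup.mem_centralizer_singleton_iff]
      exact h2 a ha
    · intro a ha
      rw [Subgroup.mem_centralizer_iff] at h3
      rw [Subgroup.mem_centralizer_singleton_iff]
      exact h3 a ha
  rw [Subgroup.mem_centralizer_iff]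
  intro y hy
  have := this hy
  rw [Subgroup.mem_centralizer_singleton_iff] at this
  exact this

end Chain

end Cfsg.Agent.Lib.Helper4.RootChain
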