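import Mathlib
import Cfsg.Prelude.Def_RootSubgroups
import Cfsg.Agent.H2.RankOne
import Cfsg.Agent.H2.RootSub
import Cfsg.Agent.H2.RootSub2
import Cfsg.Agent.H2.RootSub3
import Cfsg.Agent.H2.RootSub5
import Cfsg.Agent.Lib.Helper4.RootChainA
import Cfsg.Agent.Lib.Helper4.RootChainB
import Cfsg.Agent.Lib.Helper4.RootChainC
import Cfsg.Agent.Lib.Helper4.RootChainD
import Cfsg.Agent.Lib.Helper4.RootChainE

/-!
The chain configuration of abstract root subgroups: nilpotency of `⟨A, B, C⟩` (helper4).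
-/

set_option autoImplicit false

namespace Cfsg.Agent.Lib.Helper4.RootChain

open Cfsg Cfsg.Agent.H2.RankOne Cfsg.Agent.H2.RootSub
open scoped commutatorElement

variable {G : Type*} [Group G] {S : Set (Subgroup G)}

/-- `⁅P, A ⊔ B ⊔ C⁆ ≤ K` from the three pieces -/
theorem commutator_le_sup3 {K P A B C : Subgroup G}
    (hn : A ⊔ B ⊔ C ≤ Subgroup.normalizer (K : Set G))
    (h₁ : ⁅P, A⁆ ≤ K) (h₂ : ⁅P, B⁆ ≤ K) (h₃ : ⁅P, C⁆ ≤ K) : ⁅P, A ⊔ B ⊔ C⁆ ≤ K := by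
  have hA : A ≤ Subgroup.normalizer (K : Set G) := le_trans (le_trans le_sup_left le_sup_left) hn
  have hB : B ≤ Subgroup.normalizer (K : Set G) := le_trans (le_trans le_sup_right le_sup_left) hn
  have hC : C ≤ Subgroup.normalizer (K : Set G) := le_trans le_sup_right hn
  exact commutator_le_sup_right (sup_le hA hB) hC (commutator_le_sup_right hA hB h₁ h₂) h₃

namespace Chain

variable {A B C : Subgroup G}

theorem step0 (q : Chain S A B C) :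
    ⁅A ⊔ B ⊔ C, A ⊔ B ⊔ C⁆ ≤ (⁅A, B⁆ ⊔ ⁅C, B⁆) ⊔ (⁅A, ⁅C, B⁆⁆ ⊔ ⁅C, ⁅A, B⁆⁆) := by
  have hn := q.R_le_normalizer_H1
  have hA := le_trans (le_trans le_sup_left le_sup_left) hn
  have hB := le_trans (le_trans le_sup_right le_sup_left) hn
  have hC := le_trans le_sup_right hn
  apply commutator_sup_le (sup_le hA hB) hC (commutator_sup_le hA hB ?_ ?_) ?_
  · apply commutator_le_sup3 hn
    · exact bot_le' _ (commutator_eq_bot_of_le_centralizer q.commA)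
    · exact le_trans le_sup_left le_sup_left
    · exact bot_le' _ (commutator_eq_bot_of_le_centralizer q.hAC)
  · apply commutator_le_sup3 hn
    · rw [Subgroup.commutator_comm]; exact le_trans le_sup_left le_sup_left
    · exact bot_le' _ (commutator_eq_bot_of_le_centralizer q.commB)
    · rw [Subgroup.commutator_comm]; exact le_trans le_sup_right le_sup_left
  · apply commutator_le_sup3 hn
    · exact bot_le' _ (commutator_eq_bot_of_le_centralizer (le_centralizer_symm q.hAC))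
    · exact le_trans le_sup_right le_sup_left
    · exact bot_le' _ (commutator_eq_bot_of_le_centralizer q.symm.commA)

theorem comm_N_R (q : Chain S A B C) :
    ⁅⁅A, B⁆, A ⊔ B ⊔ C⁆ ≤ ⁅A, ⁅C, B⁆⁆ ⊔ ⁅C, ⁅A, B⁆⁆ := by
  apply commutator_le_sup3 q.R_le_normalizer_Z
  · exact bot_le' _ (commutator_eq_bot_of_le_centralizer q.N_le_centA)
  · exact bot_le' _ (commutator_eq_bot_of_le_centralizer q.N_le_centB)
  · rw [Subgroup.commutator_comm]; exact le_sup_right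

theorem comm_L_R (q : Chain S A B C) (K : Subgroup G)
    (hn : A ⊔ B ⊔ C ≤ Subgroup.normalizer (K : Set G)) (hK : ⁅⁅A, ⁅C, B⁆⁆, B⁆ ≤ K) :
    ⁅⁅A, ⁅C, B⁆⁆, A ⊔ B ⊔ C⁆ ≤ K := by
  apply commutator_le_sup3 hn
  · exact bot_le' _ (commutator_eq_bot_of_le_centralizer q.L_le_centA)
  · exact hK
  · exact bot_le' _ (commutator_eq_bot_of_le_centralizer q.L_le_centC)

theorem R_symm (A B C : Subgroup G) : C ⊔ B ⊔ A = A ⊔ B ⊔ C :=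
  calc C ⊔ B ⊔ A = A ⊔ (C ⊔ B) := sup_comm _ _
    _ = A ⊔ (B ⊔ C) := by rw [sup_comm C B]
    _ = A ⊔ B ⊔ C := (sup_assoc _ _ _).symm

theorem step1 (q : Chain S A B C) :
    ⁅(⁅A, B⁆ ⊔ ⁅C, B⁆) ⊔ (⁅A, ⁅C, B⁆⁆ ⊔ ⁅C, ⁅A, B⁆⁆), A ⊔ B ⊔ C⁆ ≤
      ⁅A, ⁅C, B⁆⁆ ⊔ ⁅C, ⁅A, B⁆⁆ := by
  have hn := q.R_le_normalizer_Z
  have hN := le_trans q.N_le_R hn
  have hM := le_trans q.M_le_R hn
  have hL := le_trans q.L_le_R hn
  have hL' := le_trans q.L'_le_R hn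
  apply commutator_sup_le (sup_le hN hM) (sup_le hL hL')
  · apply commutator_sup_le hN hM q.comm_N_R
    have := q.symm.comm_N_R
    rw [R_symm A B C, sup_comm ⁅C, ⁅A, B⁆⁆ ⁅A, ⁅C, B⁆⁆] at this
    exact this
  · apply commutator_sup_le hL hL' (q.comm_L_R _ hn q.comm_LB_le)
    have hn' : C ⊔ B ⊔ A ≤ Subgroup.normalizer
        ((⁅A, ⁅C, B⁆⁆ ⊔ ⁅C, ⁅A, B⁆⁆ : Subgroup G) : Set G) := by
      rw [R_symm]; exact hn
    have hk : ⁅⁅C, ⁅A, B⁆⁆, B⁆ ≤ ⁅A, ⁅C, B⁆⁆ ⊔ ⁅C, ⁅A, B⁆⁆ := by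
      have := q.symm.comm_LB_le
      rw [sup_comm] at this
      exact this
    have := q.symm.comm_L_R _ hn' hk
    rw [R_symm] at this
    exact this

theorem step2 (q : Chain S A B C) :
    ⁅⁅A, ⁅C, B⁆⁆ ⊔ ⁅C, ⁅A, B⁆⁆, A ⊔ B ⊔ C⁆ ≤ ⁅⁅A, ⁅C, B⁆⁆, B⁆ ⊔ ⁅⁅C, ⁅A, B⁆⁆, B⁆ := by
  have hn : A ⊔ B ⊔ C ≤ Subgroup.normalizer
      ((⁅⁅A, ⁅C, B⁆⁆, B⁆ ⊔ ⁅⁅C, ⁅A, B⁆⁆, B⁆ : Subgroup G) : Set G) :=
    le_trans q.R_le_centH3 (Subgroup.centralizer_le_normalizer _)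
  have hL := le_trans q.L_le_R hn
  have hL' := le_trans q.L'_le_R hn
  apply commutator_sup_le hL hL' (q.comm_L_R _ hn le_sup_left)
  have hn' : C ⊔ B ⊔ A ≤ Subgroup.normalizer
      ((⁅⁅A, ⁅C, B⁆⁆, B⁆ ⊔ ⁅⁅C, ⁅A, B⁆⁆, B⁆ : Subgroup G) : Set G) := by
    rw [R_symm]; exact hn
  have := q.symm.comm_L_R _ hn' le_sup_right
  rw [R_symm] at this
  exact this

theorem step3 (q : Chain S A B C) :
    ⁅⁅⁅A, ⁅C, B⁆⁆, B⁆ ⊔ ⁅⁅C, ⁅A, B⁆⁆, B⁆, A ⊔ B ⊔ C⁆ = ⊥ :=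
  commutator_eq_bot_of_le_centralizer (le_centralizer_symm q.R_le_centH3)

/-- `⟨A, B, C⟩` is nilpotent -/
theorem isNilpotent (q : Chain S A B C) : Group.IsNilpotent ↥(A ⊔ B ⊔ C) := by
  let H : ℕ → Subgroup G := fun i =>
    match i with
    | 0 => A ⊔ B ⊔ C
    | 1 => (⁅A, B⁆ ⊔ ⁅C, B⁆) ⊔ (⁅A, ⁅C, B⁆⁆ ⊔ ⁅C, ⁅A, B⁆⁆)
    | 2 => ⁅A, ⁅C, B⁆⁆ ⊔ ⁅C, ⁅A, B⁆⁆
    | 3 => ⁅⁅A, ⁅C, B⁆⁆, B⁆ ⊔ ⁅⁅C, ⁅A, B⁆⁆, B⁆
    | _ => ⊥
  apply isNilpotent_of_series (A ⊔ B ⊔ C) H 4 le_rfl rfl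
  intro i
  match i with
  | 0 => exact q.step0
  | 1 => exact q.step1
  | 2 => exact q.step2
  | 3 => exact le_of_eq q.step3
  | (n + 4) =>
    show ⁅(⊥ : Subgroup G), A ⊔ B ⊔ C⁆ ≤ ⊥
    rw [Subgroup.commutator_bot_left]

end Chain

end Cfsg.Agent.Lib.Helper4.RootChain
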