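import Mathlib
import Cfsg.Prelude.Def_RootSubgroups
import Cfsg.Agent.H2.RankOne
import Cfsg.Agent.H2.RootSub
import Cfsg.Agent.H2.RootSub2
import Cfsg.Agent.H2.RootSub3
import Cfsg.Agent.H2.RootSub4
import Cfsg.Agent.H2.RootSub5
import Cfsg.Agent.Lib.Helper4.RootChainA
import Cfsg.Agent.Lib.Helper4.RootChainB
import Cfsg.Agent.Lib.Helper4.RootChainC

/-!
Lines through a member `A` of a set of abstract root subgroups and a rank one partner of `A`
(helper4).  `comm_comm_eq_of_linePartner` is adapted from helper2's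
`exists_commutator_eq_of_linePartner`.
-/

set_option autoImplicit false

namespace Cfsg.Agent.Lib.Helper4.RootLine

open Cfsg Cfsg.Agent.H2.RankOne Cfsg.Agent.H2.RootSub Cfsg.Agent.Lib.Helper4.RootChain
open scoped commutatorElement

variable {G : Type*} [Group G] {S : Set (Subgroup G)}

/-- `A ⊔ b A b⁻¹ = A ⊔ ⁅A, B⁆` for `1 ≠ b ∈ B` in the commutator case -/
theorem sup_conjBy_eq_of_rcc {A B : Subgroup G} (h : RootCommutatorCase S B A) {b : G}
    (hb : b ∈ B) (hb1 : b ≠ 1) : A ⊔ conjBy A b = A ⊔ ⁅A, B⁆ := by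
  apply le_antisymm
  · exact sup_le le_sup_left (conjBy_le_sup_commutator hb)
  · refine sup_le le_sup_left ?_
    intro n hn
    have hn' : n ∈ ⁅B, A⁆ := by rw [Subgroup.commutator_comm]; exact hn
    obtain ⟨a, ha, hab⟩ := exists_comm_eq h hb hb1 hn'
    rw [← hab, commutatorElement_def]
    have h1 : b * a * b⁻¹ ∈ conjBy A b := conj_mem_conjBy ha b
    have e : b * a * b⁻¹ * a⁻¹ = (b * a * b⁻¹) * a⁻¹ := by group
    rw [e]
    exact Subgroup.mul_mem _ (Subgroup.mem_sup_right h1) (Subgroup.mem_sup_left (A.inv_mem ha))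

/-- if `D` is a rank one partner of `A`, `B` a line partner of `A` in the commutator case with `D`,
then `A`, `⁅D, B⁆` are in the commutator case and `⁅A, ⁅D, B⁆⁆ = B` -/
theorem comm_comm_eq_of_linePartner (hS : IsRootSubgroupSet S) {A D B B₁ : Subgroup G}
    (hA : A ∈ S) (hD : D ∈ S) (hAD : IsRankOnePair A D) (hB : B ∈ linePartners S A)
    (hB₁ : B₁ ∈ S) (hBB₁ : IsRankOnePair B B₁) (h : RootCommutatorCase S D B) :
    RootCommutatorCase S A ⁅D, B⁆ ∧ ⁅A, ⁅D, B⁆⁆ = B := by
  have hB' := hB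
  obtain ⟨⟨hBS, hBA, hcomm⟩, hpart⟩ := hB'
  have hDA := RankOnePair_symm hAD
  -- the commutator case: `F = ⁅D, B⁆`
  have hF := h.1
  obtain ⟨a, ha, ha1⟩ := exists_nonidentity_left hAD
  obtain ⟨d, hd, hd1, had⟩ := hAD.cond_left a ha ha1
  obtain ⟨b, hb, hb1⟩ := exists_ne_one_of_mem hS hBS
  have hf : b⁻¹ * d⁻¹ * b * d ∈ ⁅D, B⁆ := by
    rw [Subgroup.commutator_comm]; exact comm_mem hb hd
  have hbf : d⁻¹ * b * d = b * (b⁻¹ * d⁻¹ * b * d) := by group
  have hab : a * b = b * a := commute_of_commutator_eq_bot hcomm ha hb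
  -- `y = a (d⁻¹ b d) a⁻¹` centralizes `D`
  have hy : ∀ d' ∈ D, (a * (d⁻¹ * b * d) * a⁻¹) * d' = d' * (a * (d⁻¹ * b * d) * a⁻¹) := by
    intro d' hd'
    have h1 : a⁻¹ * d' * a ∈ conjBy D a⁻¹ := by
      rw [mem_conjBy]
      have e : (a⁻¹)⁻¹ * (a⁻¹ * d' * a) * a⁻¹ = d' := by group
      rw [e]; exact hd'
    rw [← had, mem_conjBy] at h1
    have h2 := commute_of_commutator_eq_bot hcomm h1 hb
    have e1 : d' = a * d⁻¹ * ((d⁻¹)⁻¹ * (a⁻¹ * d' * a) * d⁻¹) * d * a⁻¹ := by group
    rw [e1]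
    generalize (d⁻¹)⁻¹ * (a⁻¹ * d' * a) * d⁻¹ = a' at h2
    calc a * (d⁻¹ * b * d) * a⁻¹ * (a * d⁻¹ * a' * d * a⁻¹)
        = a * d⁻¹ * (b * a') * d * a⁻¹ := by group
      _ = a * d⁻¹ * (a' * b) * d * a⁻¹ := by rw [h2]
      _ = a * d⁻¹ * a' * d * a⁻¹ * (a * (d⁻¹ * b * d) * a⁻¹) := by group
  have hfD : ∀ d' ∈ D, (b⁻¹ * d⁻¹ * b * d) * d' = d' * (b⁻¹ * d⁻¹ * b * d) :=
    fun d' hd' => h.2.1 _ hf d' (Subgroup.mem_sup_left hd')
  have hfb : (b⁻¹ * d⁻¹ * b * d) * b = b * (b⁻¹ * d⁻¹ * b * d) :=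
    h.2.1 _ hf b (Subgroup.mem_sup_right hb)
  have hdb : d * b ≠ b * d := commutatorCase_not_commute hS hD hA hDA h hd hd1 hb hb1
  rcases hS.pair A hA _ hF with h' | h' | h'
  · -- `⁅A, F⁆ = ⊥`
    exfalso
    apply hdb
    have haf := commute_of_commutator_eq_bot h' ha hf
    have hyD : b * (b⁻¹ * d⁻¹ * b * d) ∈ Subgroup.centralizer (D : Set G) := by
      rw [Subgroup.mem_centralizer_iff]
      intro d' hd'
      have := hy d' hd'
      rw [hbf] at this
      have e : a * (b * (b⁻¹ * d⁻¹ * b * d)) * a⁻¹ = b * (b⁻¹ * d⁻¹ * b * d) := by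
        calc a * (b * (b⁻¹ * d⁻¹ * b * d)) * a⁻¹
            = (a * b) * (b⁻¹ * d⁻¹ * b * d) * a⁻¹ := by group
          _ = (b * a) * (b⁻¹ * d⁻¹ * b * d) * a⁻¹ := by rw [hab]
          _ = b * (a * (b⁻¹ * d⁻¹ * b * d)) * a⁻¹ := by group
          _ = b * ((b⁻¹ * d⁻¹ * b * d) * a) * a⁻¹ := by rw [haf]
          _ = b * (b⁻¹ * d⁻¹ * b * d) := by group
      rw [e] at this
      exact this.symm
    have hfD' : (b⁻¹ * d⁻¹ * b * d) ∈ Subgroup.centralizer (D : Set G) := by
      rw [Subgroup.mem_centralizer_iff]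
      intro d' hd'
      exact (hfD d' hd').symm
    have hbD : b ∈ Subgroup.centralizer (D : Set G) := by
      have := Subgroup.mul_mem _ hyD (Subgroup.inv_mem _ hfD')
      rwa [mul_inv_cancel_right] at this
    rw [Subgroup.mem_centralizer_iff] at hbD
    exact hbD d hd
  · -- `(A, F)` rank one
    exfalso
    have hBD : RootCommutatorCase S B D :=
      commutatorCase_of_commutator_mem hS hBS hD (by rw [Subgroup.commutator_comm]; exact hF)
    have hpart' := isSubgroupPartition_sup_commutator hS hBS hB₁ hBB₁ hBD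
    have hline : B ∈ linePartners S ⁅D, B⁆ := by
      rw [Subgroup.commutator_comm D B]
      refine ⟨⟨hBS, commutatorCase_ne hS hBD, ?_⟩, ?_⟩
      · rw [Subgroup.commutator_eq_bot_iff_le_centralizer]
        intro c hc
        rw [Subgroup.mem_centralizer_iff]
        intro b' hb'
        exact (hBD.2.1 c hc b' (Subgroup.mem_sup_left hb')).symm
      · rw [sup_comm]; exact hpart'
    exact linePartner_not_commute hS hF hA (RankOnePair_symm h') hline hcomm
  · -- commutator case, `E = ⁅A, F⁆`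
    have he : (b⁻¹ * d⁻¹ * b * d)⁻¹ * a * (b⁻¹ * d⁻¹ * b * d) * a⁻¹ ∈ ⁅A, ⁅D, B⁆⁆ := by
      rw [Subgroup.commutator_comm]
      have := comm_mem hf (A.inv_mem ha)
      rwa [inv_inv] at this
    generalize hfdef : b⁻¹ * d⁻¹ * b * d = f at *
    generalize hedef : f⁻¹ * a * f * a⁻¹ = e at *
    have hafe : a * f * a⁻¹ = f * e := by rw [← hedef]; group
    have heA : ∀ a' ∈ A, e * a' = a' * e := fun a' ha' => h'.2.1 e he a' (Subgroup.mem_sup_left ha')
    -- `z = b e` centralizes `A ⊔ D`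
    have hzD : b * e ∈ Subgroup.centralizer (D : Set G) := by
      have hyD : a * (d⁻¹ * b * d) * a⁻¹ ∈ Subgroup.centralizer (D : Set G) := by
        rw [Subgroup.mem_centralizer_iff]
        intro d' hd'
        exact (hy d' hd').symm
      have hfD' : f ∈ Subgroup.centralizer (D : Set G) := by
        rw [Subgroup.mem_centralizer_iff]
        intro d' hd'
        exact (hfD d' hd').symm
      have e1 : a * (d⁻¹ * b * d) * a⁻¹ = f * (b * e) := by
        rw [hbf]
        calc a * (b * f) * a⁻¹ = (a * b) * a⁻¹ * (a * f * a⁻¹) := by group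
          _ = (b * a) * a⁻¹ * (f * e) := by rw [hab, hafe]
          _ = (b * f) * e := by group
          _ = (f * b) * e := by rw [hfb]
          _ = f * (b * e) := by group
      rw [e1] at hyD
      have := Subgroup.mul_mem _ (Subgroup.inv_mem _ hfD') hyD
      rwa [inv_mul_cancel_left] at this
    by_cases hz : b * e = 1
    · -- `B = ⁅A, F⁆`
      have heb : e = b⁻¹ := (eq_inv_of_mul_eq_one_right hz)
      have heB : e ∈ B := by rw [heb]; exact B.inv_mem hb
      have he1 : e ≠ 1 := by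
        rw [heb]; simpa using hb1
      exact ⟨h', (eq_of_inf_ne_bot hS hBS hB₁ hBB₁ h'.1 heB he he1).symm⟩
    · exfalso
      have hcent : b * e ∈ Subgroup.centralizer ((A ⊔ D : Subgroup G) : Set G) := by
        have h1 : A ≤ Subgroup.centralizer {b * e} := by
          intro a' ha'
          rw [Subgroup.mem_centralizer_iff]
          intro w hw
          rw [Set.mem_singleton_iff] at hw
          subst hw
          have h2 := commute_of_commutator_eq_bot hcomm ha' hb
          rw [mul_assoc, heA a' ha', ← mul_assoc, ← h2, mul_assoc]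
        have h2 : D ≤ Subgroup.centralizer {b * e} := by
          intro d' hd'
          rw [Subgroup.mem_centralizer_iff]
          intro w hw
          rw [Set.mem_singleton_iff] at hw
          subst hw
          rw [Subgroup.mem_centralizer_iff] at hzD
          exact (hzD d' hd').symm
        rw [Subgroup.mem_centralizer_iff]
        intro w hw
        have := (sup_le h1 h2) hw
        rw [Subgroup.mem_centralizer_iff] at this
        exact (this _ rfl).symm
      apply mul_notMem_rootElements hS hA hD hAD hcent hz a ha ha1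
      obtain ⟨f', hf', hconj⟩ := mul_eq_conj hS hA hD hAD h' ha ha1 he
      have hf'b : f' * b = b * f' := h.2.1 f' hf' b (Subgroup.mem_sup_right hb)
      have hba1 : b * a ≠ 1 := by
        intro hh
        apply hBA
        have h1 : b = a⁻¹ := eq_inv_of_mul_eq_one_left hh
        have h2 : b ∈ A := by rw [h1]; exact A.inv_mem ha
        exact (eq_of_inf_ne_bot hS hA hD hAD hBS h2 hb hb1).symm
      obtain ⟨E, hE, hmem⟩ := hpart.2.1 _ (Subgroup.mul_mem _ (Subgroup.mem_sup_right hb)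
        (Subgroup.mem_sup_left ha)) hba1
      have hf'b' : b * f'⁻¹ = f'⁻¹ * b := by
        calc b * f'⁻¹ = f'⁻¹ * (f' * b) * f'⁻¹ := by group
          _ = f'⁻¹ * (b * f') * f'⁻¹ := by rw [hf'b]
          _ = f'⁻¹ * b := by group
      have hza : b * e * a = f'⁻¹ * (b * a) * f' := by
        calc b * e * a = b * (e * a) := by group
          _ = b * (a * e) := by rw [heA a ha]
          _ = b * (f'⁻¹ * a * f') := by rw [hconj]
          _ = (b * f'⁻¹) * a * f' := by group
          _ = (f'⁻¹ * b) * a * f' := by rw [hf'b']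
          _ = f'⁻¹ * (b * a) * f' := by group
      refine ⟨?_, conjBy E f'⁻¹, hS.conj_mem E hE.1 f'⁻¹, ?_⟩
      · rw [hza]
        intro hh
        apply hba1
        have e2 : b * a = f' * (f'⁻¹ * (b * a) * f') * f'⁻¹ := by group
        rw [e2, hh]; group
      · rw [mem_conjBy, hza]
        have e2 : (f'⁻¹)⁻¹ * (f'⁻¹ * (b * a) * f') * f'⁻¹ = b * a := by group
        rw [e2]; exact hmem


end Cfsg.Agent.Lib.Helper4.RootLine
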