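import Mathlib
import Cfsg.Prelude.Def_RootSubgroups
import Cfsg.Agent.H2.RankOne
import Cfsg.Agent.H2.RootSub
import Cfsg.Agent.H2.RootSub2
import Cfsg.Agent.H2.RootSub3
import Cfsg.Agent.H2.RootSub4
import Cfsg.Agent.H2.RootSub5
import Cfsg.Agent.Lib.Helper4.RootChainA
import Cfsg.Agent.Lib.Helper4.RootChainB
import Cfsg.Agent.Lib.Helper4.RootChainC
import Cfsg.Agent.Lib.Helper4.RootLineA

/-!
Existence of a line partner of `A` in the commutator case with a rank one partner of `A` (helper4).
-/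

set_option autoImplicit false

namespace Cfsg.Agent.Lib.Helper4.RootLine

open Cfsg Cfsg.Agent.H2.RankOne Cfsg.Agent.H2.RootSub Cfsg.Agent.Lib.Helper4.RootChain
open scoped commutatorElement

variable {G : Type*} [Group G] {S : Set (Subgroup G)}

theorem conjBy_conjBy_inv (H : Subgroup G) (g : G) : conjBy (conjBy H g⁻¹) g = H := by
  rw [conjBy_mul]
  have e : g * g⁻¹ = 1 := by group
  rw [e, conjBy_one]

theorem conjBy_inv_conjBy (H : Subgroup G) (g : G) : conjBy (conjBy H g) g⁻¹ = H := by
  rw [conjBy_mul]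
  have e : g⁻¹ * g = 1 := by group
  rw [e, conjBy_one]

/-- the members of the line `A ⁅A, E⁆` other than `A` are line partners of `A` -/
theorem mem_linePartners_of_mem_membersIn (hS : IsRootSubgroupSet S) {A B E : Subgroup G}
    (hA : A ∈ S) (hB : B ∈ S) (hAB : IsRankOnePair A B) (hE : E ∈ S) (hAE : ⁅A, E⁆ ∈ S)
    {F : Subgroup G} (hF : F ∈ membersIn S (A ⊔ ⁅A, E⁆)) (hFA : F ≠ A) : F ∈ linePartners S A := by
  have rccAE : RootCommutatorCase S A E := commutatorCase_of_commutator_mem hS hA hE hAE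
  have rccEA : RootCommutatorCase S E A :=
    commutatorCase_of_commutator_mem hS hE hA (by rw [Subgroup.commutator_comm]; exact hAE)
  have hline : A ∈ linePartners S ⁅A, E⁆ := mem_linePartners_commutator hS hA hB hAB rccAE
  have hC₀ : ⁅A, E⁆ ∈ linePartners S A := linePartners_symm hAE hline
  have hF' := hF
  rw [membersIn_sup_commutator hS hA hB hAB rccAE] at hF'
  rcases hF' with ⟨e, he, rfl⟩ | hF'
  · have he1 : e ≠ 1 := by
      intro hh
      apply hFA
      show conjBy A e = A
      rw [hh, conjBy_one]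
    have hsup : A ⊔ conjBy A e = A ⊔ ⁅A, E⁆ := sup_conjBy_eq_of_rcc rccEA he he1
    refine ⟨⟨hF.1, hFA, ?_⟩, ?_⟩
    · apply commutator_eq_bot_of_le_centralizer
      apply le_centralizer_symm
      refine le_trans hF.2 (sup_le ?_ (rcc_le_centralizer_left rccAE))
      exact le_centralizer_of_isMulCommutative (hS.commutative A hA)
    · show IsSubgroupPartition (A ⊔ conjBy A e) (membersIn S (A ⊔ conjBy A e))
      rw [hsup]; exact hC₀.2
  · rw [Set.mem_singleton_iff] at hF'
    rw [hF']; exact hC₀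

/-- a rank one partner `B` of `A` is in the commutator case with some line partner of `A`, as soon
as `A` is in the commutator case with some member -/
theorem exists_linePartner_rcc (hS : IsRootSubgroupSet S) {A B E : Subgroup G}
    (hA : A ∈ S) (hB : B ∈ S) (hAB : IsRankOnePair A B) (hE : E ∈ S) (hAE : ⁅A, E⁆ ∈ S) :
    ∃ C ∈ linePartners S A, RootCommutatorCase S B C := by
  have rccAE : RootCommutatorCase S A E := commutatorCase_of_commutator_mem hS hA hE hAE
  have hline : A ∈ linePartners S ⁅A, E⁆ := mem_linePartners_commutator hS hA hB hAB rccAE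
  have hC₀ : ⁅A, E⁆ ∈ linePartners S A := linePartners_symm hAE hline
  have hpart := hC₀.2
  rcases hS.pair B hB _ hAE with h | h | h
  · exact absurd h (linePartner_not_commute hS hA hB hAB hC₀)
  · -- rank one pair `(B, C₀)`
    obtain ⟨b, hb, hb1⟩ := exists_nonidentity_right hAB
    obtain ⟨a, ha, ha1, hab⟩ := hAB.cond_right b hb hb1
    obtain ⟨c, hc, hc1, hcb⟩ := h.cond_left b hb hb1
    -- `N = A C₀` is commutative
    have hAcomm := le_centralizer_of_isMulCommutative (hS.commutative A hA)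
    have hCcomm := le_centralizer_of_isMulCommutative (hS.commutative _ hAE)
    have hAC : A ≤ Subgroup.centralizer ((⁅A, E⁆ : Subgroup G) : Set G) :=
      le_centralizer_symm (rcc_le_centralizer_left rccAE)
    have hN : IsMulCommutative ↥(A ⊔ ⁅A, E⁆) :=
      isMulCommutative_sup (hS.commutative A hA) (hS.commutative _ hAE) hAC
    have hNc := le_centralizer_of_isMulCommutative hN
    have hNb := conjBy_le_centralizer_conjBy hNc b⁻¹
    have h1 : conjBy B a⁻¹ ≤ conjBy (A ⊔ ⁅A, E⁆) b⁻¹ := by
      rw [hab]; exact conjBy_mono le_sup_left _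
    have h2 : conjBy B c⁻¹ ≤ conjBy (A ⊔ ⁅A, E⁆) b⁻¹ := by
      rw [hcb]; exact conjBy_mono le_sup_right _
    have h3 : conjBy B a⁻¹ ≤ Subgroup.centralizer ((conjBy B c⁻¹ : Subgroup G) : Set G) :=
      le_trans h1 (le_trans hNb (Subgroup.centralizer_le h2))
    have h4 := conjBy_le_centralizer_conjBy h3 a
    rw [conjBy_conjBy_inv, conjBy_mul] at h4
    -- `d = a c⁻¹`
    have hdN : a * c⁻¹ ∈ A ⊔ ⁅A, E⁆ :=
      Subgroup.mul_mem _ (Subgroup.mem_sup_left ha) (Subgroup.mem_sup_right (Subgroup.inv_mem _ hc))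
    have hAC₀ : A ≠ ⁅A, E⁆ := commutatorCase_ne hS rccAE
    have hd1 : a * c⁻¹ ≠ 1 := by
      intro hh
      have hac : a = c := by
        have := mul_inv_eq_one.1 hh
        exact this
      have : a ∈ (⁅A, E⁆ : Subgroup G) := by rw [hac]; exact hc
      exact hAC₀ (eq_of_inf_ne_bot hS hA hB hAB hAE ha this ha1)
    obtain ⟨F, hF, hdF⟩ := hpart.2.1 _ hdN hd1
    have hFA : F ≠ A := by
      intro hh
      rw [hh] at hdF
      have hcA : c ∈ A := by
        have := A.mul_mem (A.inv_mem hdF) ha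
        have e : (a * c⁻¹)⁻¹ * a = c := by group
        rwa [e] at this
      exact hAC₀ (eq_of_inf_ne_bot hS hA hB hAB hAE hcA hc hc1)
    have hFl : F ∈ linePartners S A := mem_linePartners_of_mem_membersIn hS hA hB hAB hE hAE hF hFA
    refine ⟨F, hFl, ?_⟩
    rcases hS.pair B hB F hF.1 with h' | h' | h'
    · exact absurd h' (linePartner_not_commute hS hA hB hAB hFl)
    · exfalso
      apply linePartner_not_commute hS hA hB hAB hFl
      obtain ⟨b', hb', hb'1, hFb⟩ := h'.cond_right _ hdF hd1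
      -- `conjBy B d⁻¹ ≤ C(B)`
      have h5 := conjBy_le_centralizer_conjBy h4 (a * c⁻¹)⁻¹
      rw [conjBy_inv_conjBy] at h5
      have h6 : conjBy B (a * c⁻¹)⁻¹ ≤ Subgroup.centralizer (B : Set G) := h5
      rw [← hFb] at h6
      have h7 := conjBy_le_centralizer_conjBy h6 b'
      rw [conjBy_conjBy_inv, conjBy_eq_self_of_mem hb'] at h7
      exact commutator_eq_bot_of_le_centralizer (le_centralizer_symm h7)
    · exact h'
  · exact ⟨_, hC₀, h⟩

end Cfsg.Agent.Lib.Helper4.RootLine
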