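import Mathlib
import Cfsg.Prelude.Def_RootSubgroups
import Cfsg.Agent.H2.RankOne
import Cfsg.Agent.H2.RootSub
import Cfsg.Agent.H2.RootSub2
import Cfsg.Agent.H2.RootSub3
import Cfsg.Agent.H2.RootSub4
import Cfsg.Agent.H2.RootSub5
import Cfsg.Agent.S5019
import Cfsg.Agent.Lib.Helper4.RootChainA
import Cfsg.Agent.Lib.Helper4.RootChainB
import Cfsg.Agent.Lib.Helper4.RootChainC
import Cfsg.Agent.Lib.Helper4.RootLineA
import Cfsg.Agent.Lib.Helper4.RootLineB

/-!
Transfer of rank one pairs to the subgroup they generate, the conjugation action on an abelian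
normalized subgroup, and: rank one pairs with a suitable line partner are special (helper4).
-/

set_option autoImplicit false

namespace Cfsg.Agent.Lib.Helper4.RootLine

open Cfsg Cfsg.Agent.H2.RankOne Cfsg.Agent.H2.RootSub Cfsg.Agent.Lib.Helper4.RootChain
open scoped commutatorElement

variable {G : Type*} [Group G] {S : Set (Subgroup G)}

section Transfer

theorem conjBy_subgroupOf_eq {X H K : Subgroup G} {x y : ↥X}
    (h : conjBy H (x : G) = conjBy K (y : G)) :
    conjBy (H.subgroupOf X) x = conjBy (K.subgroupOf X) y := by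
  ext z
  rw [mem_conjBy, mem_conjBy, Subgroup.mem_subgroupOf, Subgroup.mem_subgroupOf]
  have e1 : ((x⁻¹ * z * x : ↥X) : G) = (x : G)⁻¹ * (z : G) * (x : G) := by simp
  have e2 : ((y⁻¹ * z * y : ↥X) : G) = (y : G)⁻¹ * (z : G) * (y : G) := by simp
  rw [e1, e2, ← mem_conjBy, ← mem_conjBy, h]

theorem rankOneCondition_subgroupOf {X A B : Subgroup G} (hB : B ≤ X)
    (h : RankOneCondition A B) : RankOneCondition (A.subgroupOf X) (B.subgroupOf X) := by
  intro a ha ha1
  rw [Subgroup.mem_subgroupOf] at ha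
  have ha1' : (a : G) ≠ 1 := fun hh => ha1 (Subtype.ext hh)
  obtain ⟨b, hb, hb1, hab⟩ := h (a : G) ha ha1'
  refine ⟨⟨b, hB hb⟩, Subgroup.mem_subgroupOf.2 hb, fun hh => hb1 (congrArg Subtype.val hh), ?_⟩
  apply conjBy_subgroupOf_eq
  simpa using hab

theorem isRankOneGroup_subgroupOf {A B : Subgroup G} (h : IsRankOnePair A B) :
    IsRankOneGroup ↥(A ⊔ B) (A.subgroupOf (A ⊔ B)) (B.subgroupOf (A ⊔ B)) := by
  have hA : A ≤ A ⊔ B := le_sup_left
  have hB : B ≤ A ⊔ B := le_sup_right
  refine ⟨?_, ?_, ?_, ?_, ?_, ?_⟩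
  · rw [← Subgroup.subgroupOf_sup hA hB, Subgroup.subgroupOf_self]
  · intro hh
    rw [Subgroup.subgroupOf_inj, inf_eq_left.2 hA, inf_eq_left.2 hB] at hh
    exact h.ne hh
  · have := h.nilpotent_left
    exact Group.nilpotent_of_mulEquiv (Subgroup.subgroupOfEquivOfLe hA).symm
  · have := h.nilpotent_right
    exact Group.nilpotent_of_mulEquiv (Subgroup.subgroupOfEquivOfLe hB).symm
  · exact rankOneCondition_subgroupOf hB h.cond_left
  · exact rankOneCondition_subgroupOf hA h.cond_right

theorem isMulCommutative_subgroupOf {X A : Subgroup G} (hA : IsMulCommutative ↥A) :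
    IsMulCommutative ↥(A.subgroupOf X) := by
  rw [isMulCommutative_iff]
  intro x y
  apply Subtype.ext
  apply Subtype.ext
  have hx : ((x : ↥X) : G) ∈ A := Subgroup.mem_subgroupOf.1 x.2
  have hy : ((y : ↥X) : G) ∈ A := Subgroup.mem_subgroupOf.1 y.2
  have h2 : (⟨_, hx⟩ : A) * ⟨_, hy⟩ = ⟨_, hy⟩ * ⟨_, hx⟩ := isMulCommutative_iff.1 hA _ _
  have h3 := congrArg Subtype.val h2
  simpa using h3

theorem isSpecial_of_subgroupOf {A B : Subgroup G} (hp : IsRankOnePair A B)
    (h : IsSpecialRankOnePair (A.subgroupOf (A ⊔ B)) (B.subgroupOf (A ⊔ B))) :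
    IsSpecialRankOnePair A B := by
  refine ⟨hp, ?_⟩
  intro a ha ha1 b hb hb1 hab
  have haX : a ∈ A ⊔ B := Subgroup.mem_sup_left ha
  have hbX : b ∈ A ⊔ B := Subgroup.mem_sup_right hb
  have key := h.2 ⟨a, haX⟩ (Subgroup.mem_subgroupOf.2 ha) (fun hh => ha1 (congrArg Subtype.val hh))
    ⟨b, hbX⟩ (Subgroup.mem_subgroupOf.2 hb) (fun hh => hb1 (congrArg Subtype.val hh))
    (by apply conjBy_subgroupOf_eq; simpa using hab)
  have := congrArg Subtype.val key
  simpa using this

end Transfer

section Action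

@[reducible] def commGroupOfLe (V : Subgroup G) (hV : V ≤ Subgroup.centralizer (V : Set G)) :
    CommGroup ↥V :=
  { (inferInstance : Group ↥V) with
    mul_comm := fun x y => Subtype.ext (by
      have := hV x.2
      rw [Subgroup.mem_centralizer_iff] at this
      exact (this y y.2).symm) }

theorem conj_mem_of_le_normalizer {K V : Subgroup G} (hK : K ≤ Subgroup.normalizer (V : Set G))
    (k : ↥K) (v : ↥V) : (k : G) * (v : G) * (k : G)⁻¹ ∈ V :=
  (Subgroup.mem_normalizer_iff.1 (hK k.2) _).1 v.2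

@[reducible] def conjAct (K V : Subgroup G) (hK : K ≤ Subgroup.normalizer (V : Set G))
    (hV : V ≤ Subgroup.centralizer (V : Set G)) :
    letI := commGroupOfLe V hV
    DistribMulAction ↥K (Additive ↥V) :=
  letI := commGroupOfLe V hV
  { smul := fun k v => Additive.ofMul ⟨(k : G) * ((Additive.toMul v : ↥V) : G) * (k : G)⁻¹,
      conj_mem_of_le_normalizer hK k (Additive.toMul v)⟩
    one_smul := fun v => by
      show Additive.ofMul _ = v
      apply Additive.toMul.injective
      apply Subtype.ext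
      simp
    mul_smul := fun k k' v => by
      apply Additive.toMul.injective
      apply Subtype.ext
      show ((k * k' : ↥K) : G) * _ * ((k * k' : ↥K) : G)⁻¹ =
        (k : G) * ((k' : G) * _ * (k' : G)⁻¹) * (k : G)⁻¹
      rw [Subgroup.coe_mul]; group
    smul_zero := fun k => by
      apply Additive.toMul.injective
      apply Subtype.ext
      show (k : G) * ((1 : ↥V) : G) * (k : G)⁻¹ = ((1 : ↥V) : G)
      simp
    smul_add := fun k v w => by
      apply Additive.toMul.injective
      apply Subtype.ext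
      show (k : G) * (((Additive.toMul v * Additive.toMul w : ↥V)) : G) * (k : G)⁻¹ =
        ((k : G) * ((Additive.toMul v : ↥V) : G) * (k : G)⁻¹) *
          ((k : G) * ((Additive.toMul w : ↥V) : G) * (k : G)⁻¹)
      rw [Subgroup.coe_mul]; group }

/-- the value of `k • n - n` for the conjugation action -/
theorem conjAct_smul_sub (K V : Subgroup G) (hK : K ≤ Subgroup.normalizer (V : Set G))
    (hV : V ≤ Subgroup.centralizer (V : Set G)) (k : ↥K) (n : Additive ↥V) :
    letI := commGroupOfLe V hV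
    letI := conjAct K V hK hV
    ((Additive.toMul (k • n - n) : ↥V) : G) =
      (k : G) * ((Additive.toMul n : ↥V) : G) * (k : G)⁻¹ * ((Additive.toMul n : ↥V) : G)⁻¹ := by
  let _ := commGroupOfLe V hV
  let _ := conjAct K V hK hV
  show ((Additive.toMul (k • n) / Additive.toMul n : ↥V) : G) = _
  rw [div_eq_mul_inv, Subgroup.coe_mul, Subgroup.coe_inv]
  rfl

theorem conjAct_smul (K V : Subgroup G) (hK : K ≤ Subgroup.normalizer (V : Set G))
    (hV : V ≤ Subgroup.centralizer (V : Set G)) (k : ↥K) (n : Additive ↥V) :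
    letI := commGroupOfLe V hV
    letI := conjAct K V hK hV
    ((Additive.toMul (k • n) : ↥V) : G) =
      (k : G) * ((Additive.toMul n : ↥V) : G) * (k : G)⁻¹ := rfl

end Action

end Cfsg.Agent.Lib.Helper4.RootLine
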