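import Mathlib
import Cfsg.Prelude.Def_RootSubgroups
import Cfsg.Agent.H2.RankOne
import Cfsg.Agent.H2.RootSub
import Cfsg.Agent.H2.RootSub2
import Cfsg.Agent.H2.RootSub3
import Cfsg.Agent.H2.RootSub4
import Cfsg.Agent.H2.RootSub5
import Cfsg.Agent.S5019
import Cfsg.Agent.Lib.Helper4.RootChainA
import Cfsg.Agent.Lib.Helper4.RootChainB
import Cfsg.Agent.Lib.Helper4.RootChainC
import Cfsg.Agent.Lib.Helper4.RootLineA
import Cfsg.Agent.Lib.Helper4.RootLineB
import Cfsg.Agent.Lib.Helper4.RootLineC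

/-!
A rank one pair `(A, B)` of abstract root subgroups with a line partner `C` of `A` in the
commutator case with `B` is special (helper4).
-/

set_option autoImplicit false

namespace Cfsg.Agent.Lib.Helper4.RootLine

open Cfsg Cfsg.Agent.H2.RankOne Cfsg.Agent.H2.RootSub Cfsg.Agent.Lib.Helper4.RootChain
open scoped commutatorElement

variable {G : Type*} [Group G] {S : Set (Subgroup G)}

theorem isSpecial_of_linePartner (hS : IsRootSubgroupSet S) {A B C C₁ : Subgroup G}
    (hA : A ∈ S) (hB : B ∈ S) (hAB : IsRankOnePair A B) (hC : C ∈ linePartners S A)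
    (hC₁ : C₁ ∈ S) (hCC₁ : IsRankOnePair C C₁) (hBC : RootCommutatorCase S B C) :
    IsSpecialRankOnePair A B := by
  obtain ⟨rccAM, hAMC⟩ := comm_comm_eq_of_linePartner hS hA hB hAB hC hC₁ hCC₁ hBC
  have hCS : C ∈ S := hC.1.1
  have hCA : C ≤ Subgroup.centralizer (A : Set G) :=
    le_centralizer_symm (le_centralizer_of_commutator_eq_bot hC.1.2.2)
  have hMB : ⁅B, C⁆ ≤ Subgroup.centralizer (B : Set G) := rcc_le_centralizer_left hBC
  have hMC : ⁅B, C⁆ ≤ Subgroup.centralizer (C : Set G) := rcc_le_centralizer_right hBC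
  -- `V = C M`
  have hVcomm : IsMulCommutative ↥(C ⊔ ⁅B, C⁆) :=
    isMulCommutative_sup (hS.commutative C hCS) (hS.commutative _ hBC.1) (le_centralizer_symm hMC)
  have hV := le_centralizer_of_isMulCommutative hVcomm
  have hAn : A ≤ Subgroup.normalizer ((C ⊔ ⁅B, C⁆ : Subgroup G) : Set G) := by
    apply le_normalizer_of_conjBy_le
    intro a ha
    rw [conjBy_sup, conjBy_eq_self_of_mem_centralizer (le_centralizer_symm hCA ha)]
    refine sup_le le_sup_left ?_
    have := conjBy_le_sup_commutator (A := ⁅B, C⁆) (B := A) ha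
    rw [Subgroup.commutator_comm ⁅B, C⁆ A, hAMC, sup_comm] at this
    exact this
  have hBn : B ≤ Subgroup.normalizer ((C ⊔ ⁅B, C⁆ : Subgroup G) : Set G) := by
    apply le_normalizer_of_conjBy_le
    intro b hb
    rw [conjBy_sup, conjBy_eq_self_of_mem_centralizer (le_centralizer_symm hMB hb)]
    refine sup_le ?_ le_sup_right
    have := conjBy_le_sup_commutator (A := C) (B := B) hb
    rw [Subgroup.commutator_comm C B] at this
    exact this
  have hXn : A ⊔ B ≤ Subgroup.normalizer ((C ⊔ ⁅B, C⁆ : Subgroup G) : Set G) := sup_le hAn hBn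
  have hAV : ⁅A, C ⊔ ⁅B, C⁆⁆ ≤ C := by
    apply commutator_le_sup_right Subgroup.le_normalizer
      (le_trans hMC (Subgroup.centralizer_le_normalizer _))
    · rw [hC.1.2.2]; exact bot_le
    · rw [hAMC]
  -- the action
  letI := commGroupOfLe (C ⊔ ⁅B, C⁆) hV
  letI := conjAct (A ⊔ B) (C ⊔ ⁅B, C⁆) hXn hV
  apply isSpecial_of_subgroupOf hAB
  apply Cfsg.Agent.S5019.result (isRankOneGroup_subgroupOf hAB)
    ⟨isMulCommutative_subgroupOf (hS.commutative A hA), isMulCommutative_subgroupOf (hS.commutative B hB)⟩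
    (N := Additive ↥(C ⊔ ⁅B, C⁆))
  · intro a ha a' ha' n
    rw [Subgroup.mem_subgroupOf] at ha ha'
    apply Additive.toMul.injective
    apply Subtype.ext
    rw [conjAct_smul, conjAct_smul_sub]
    have hmem : (a : G) * ((Additive.toMul n : ↥(C ⊔ ⁅B, C⁆)) : G) * (a : G)⁻¹ *
        ((Additive.toMul n : ↥(C ⊔ ⁅B, C⁆)) : G)⁻¹ ∈ C := by
      rw [← commutatorElement_def]
      exact hAV (Subgroup.commutator_mem_commutator ha (Additive.toMul n).2)
    have := hCA hmem
    rw [Subgroup.mem_centralizer_iff] at this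
    rw [this _ ha']
    group
  · obtain ⟨m₀, hm₀, hm₀1⟩ := exists_ne_one_of_mem hS hBC.1
    obtain ⟨b, hb, hb1⟩ := exists_nonidentity_right hAB
    obtain ⟨c, hc, hbc⟩ := exists_comm_eq hBC hb hb1 hm₀
    -- some `a ∈ A` does not commute with `m₀`
    have hex : ∃ a ∈ A, a * m₀ ≠ m₀ * a := by
      by_contra hcon
      push Not at hcon
      have h1 := rccAM.2.2.2 m₀ hm₀ hm₀1
      have h2 : Subgroup.closure ((fun a : G => a * m₀ * a⁻¹ * m₀⁻¹) '' (A : Set G)) = ⊥ := by
        rw [Subgroup.closure_eq_bot_iff]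
        rintro _ ⟨a, ha, rfl⟩
        rw [Set.mem_singleton_iff]
        show a * m₀ * a⁻¹ * m₀⁻¹ = 1
        rw [hcon a ha]; group
      rw [h2] at h1
      exact hS.ne_bot _ rccAM.1 h1.symm
    obtain ⟨a, ha, ham⟩ := hex
    refine ⟨⟨b, Subgroup.mem_sup_right hb⟩, ⟨a, Subgroup.mem_sup_left ha⟩,
      Additive.ofMul ⟨c, Subgroup.mem_sup_left hc⟩, ?_⟩
    intro hh
    have h1 := congrArg (fun t => ((Additive.toMul t : ↥(C ⊔ ⁅B, C⁆)) : G)) hh
    beta_reduce at h1
    rw [conjAct_smul, conjAct_smul_sub] at h1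
    have e : b * c * b⁻¹ * c⁻¹ = m₀ := by rw [← hbc, commutatorElement_def]
    change a * (b * c * b⁻¹ * c⁻¹) * a⁻¹ = b * c * b⁻¹ * c⁻¹ at h1
    rw [e] at h1
    apply ham
    calc a * m₀ = (a * m₀ * a⁻¹) * a := by group
      _ = m₀ * a := by rw [h1]

end Cfsg.Agent.Lib.Helper4.RootLine
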