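import Mathlib
import Cfsg.Prelude.Def_RootSubgroups
import Cfsg.Agent.H2.RankOne
import Cfsg.Agent.H2.RootSub
import Cfsg.Agent.H2.RootSub2
import Cfsg.Agent.H2.RootSub3
import Cfsg.Agent.H2.RootSub4
import Cfsg.Agent.H2.RootSub5
import Cfsg.Agent.Lib.Helper4.RootChainA
import Cfsg.Agent.Lib.Helper4.RootChainB
import Cfsg.Agent.Lib.Helper4.RootChainC
import Cfsg.Agent.Lib.Helper4.RootLineA
import Cfsg.Agent.Lib.Helper4.RootLineB
import Cfsg.Agent.Lib.Helper4.RootLineE

/-!
Partitioned commutative subgroups `N`: existence of a good line through each member (helper4).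
-/

set_option autoImplicit false

namespace Cfsg.Agent.Lib.Helper4.RootLine

open Cfsg Cfsg.Agent.H2.RankOne Cfsg.Agent.H2.RootSub Cfsg.Agent.Lib.Helper4.RootChain
open scoped commutatorElement

variable {G : Type*} [Group G] {S : Set (Subgroup G)}

/-- the hypotheses on `N`: commutative and partitioned by the members of `S` inside it -/
structure PartLine (S : Set (Subgroup G)) (N : Subgroup G) : Prop where
  hS : IsRootSubgroupSet S
  hF : ∀ A ∈ S, ¬ IsIsolatedIn (FAdj S) S A
  comm : N ≤ Subgroup.centralizer (N : Set G)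
  part : IsSubgroupPartition N (membersIn S N)

namespace PartLine

variable {N : Subgroup G}

theorem exists_partner (q : PartLine S N) {A : Subgroup G} (hA : A ∈ S) :
    ∃ D ∈ S, IsRankOnePair A D :=
  exists_partner_of_not_isolated hA (q.hF A hA)

theorem commute (q : PartLine S N) {x y : G} (hx : x ∈ N) (hy : y ∈ N) : x * y = y * x := by
  have := q.comm hx
  rw [Subgroup.mem_centralizer_iff] at this
  exact (this y hy).symm

theorem comm_eq_bot (q : PartLine S N) {P P' : Subgroup G} (hP : P ≤ N) (hP' : P' ≤ N) :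
    ⁅P, P'⁆ = ⊥ :=
  commutator_eq_bot_of_le_centralizer (le_trans hP (le_trans q.comm (Subgroup.centralizer_le hP')))

/-- different members inside `N` meet trivially -/
theorem eq_of_mem_of_mem (q : PartLine S N) {P P' : Subgroup G} (hP : P ∈ S) (hP' : P' ∈ S)
    {x : G} (hx : x ∈ P) (hx' : x ∈ P') (hx1 : x ≠ 1) : P = P' := by
  obtain ⟨D, hD, hPD⟩ := q.exists_partner hP
  exact eq_of_inf_ne_bot q.hS hP hD hPD hP' hx hx' hx1

theorem root_of_mem (q : PartLine S N) {x : G} (hx : x ∈ N) (hx1 : x ≠ 1) :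
    x ∈ rootElements S := by
  obtain ⟨E, hE, hxE⟩ := q.part.2.1 x hx hx1
  exact ⟨hx1, E, hE.1, hxE⟩

/-- a rank one partner of `P` commutes with no other member of `S` inside `N` -/
theorem not_commute (q : PartLine S N) {P P' D : Subgroup G} (hP : P ∈ membersIn S N)
    (hP' : P' ∈ membersIn S N) (hne : P' ≠ P) (hD : D ∈ S) (hPD : IsRankOnePair P D) :
    ⁅D, P'⁆ ≠ ⊥ := by
  intro hbot
  obtain ⟨p', hp', hp'1⟩ := exists_ne_one_of_mem q.hS hP'.1
  obtain ⟨p, hp, hp1⟩ := exists_nonidentity_left hPD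
  have hcent : p' ∈ Subgroup.centralizer ((P ⊔ D : Subgroup G) : Set G) := by
    have h1 : P ⊔ D ≤ Subgroup.centralizer ({p'} : Set G) := by
      apply sup_le
      · intro x hx
        rw [Subgroup.mem_centralizer_singleton_iff]
        exact q.commute (hP.2 hx) (hP'.2 hp')
      · intro d hd
        rw [Subgroup.mem_centralizer_singleton_iff]
        have := le_centralizer_of_commutator_eq_bot hbot hd
        rw [Subgroup.mem_centralizer_iff] at this
        exact (this p' hp').symm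
    rw [Subgroup.mem_centralizer_iff]
    intro w hw
    have := h1 hw
    rw [Subgroup.mem_centralizer_singleton_iff] at this
    exact this
  apply mul_notMem_rootElements q.hS hP.1 hD hPD hcent hp'1 p hp hp1
  apply q.root_of_mem (N.mul_mem (hP'.2 hp') (hP.2 hp))
  intro hh
  apply hne
  have h1 : p' = p⁻¹ := eq_inv_of_mul_eq_one_left hh
  have h2 : p' ∈ P := by rw [h1]; exact P.inv_mem hp
  exact q.eq_of_mem_of_mem hP'.1 hP.1 hp' h2 hp'1

/-- through every member `P` of `S` inside `N` (when there is another one) there is a good line,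
determined by a given rank one partner `D` of `P` -/
theorem exists_good_of_partner (q : PartLine S N) {P P' D : Subgroup G} (hP : P ∈ membersIn S N)
    (hP' : P' ∈ membersIn S N) (hne : P' ≠ P) (hD : D ∈ S) (hPD : IsRankOnePair P D) :
    ∃ Q ∈ membersIn S N, Q ≠ P ∧ RootCommutatorCase S D Q ∧ RootCommutatorCase S P ⁅D, Q⁆ ∧
      ⁅P, ⁅D, Q⁆⁆ = Q := by
  -- the commutator case
  have key : ∀ Q ∈ membersIn S N, Q ≠ P → RootCommutatorCase S D Q →
      ∃ Q ∈ membersIn S N, Q ≠ P ∧ RootCommutatorCase S D Q ∧ RootCommutatorCase S P ⁅D, Q⁆ ∧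
        ⁅P, ⁅D, Q⁆⁆ = Q := by
    intro Q hQ hQP hrcc
    obtain ⟨Q₁, hQ₁, hQQ₁⟩ := q.exists_partner hQ.1
    have hroot : ∀ a ∈ P, ∀ b ∈ Q, b * a ≠ 1 → b * a ∈ rootElements S :=
      fun a ha b hb hba => q.root_of_mem (N.mul_mem (hQ.2 hb) (hP.2 ha)) hba
    obtain ⟨h1, h2⟩ := comm_comm_eq_of_partition q.hS hP.1 hD hPD hQ.1 hQP
      (q.comm_eq_bot hP.2 hQ.2) hroot hQ₁ hQQ₁ hrcc
    exact ⟨Q, hQ, hQP, hrcc, h1, h2⟩
  rcases q.hS.pair D hD P' hP'.1 with h | h | h
  · exact absurd h (q.not_commute hP hP' hne hD hPD)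
  · -- rank one pair `(D, P')`
    obtain ⟨d, hd, hd1⟩ := exists_nonidentity_right hPD
    obtain ⟨a, ha, ha1, hab⟩ := hPD.cond_right d hd hd1
    obtain ⟨c, hc, hc1, hcb⟩ := h.cond_left d hd hd1
    have hNb := conjBy_le_centralizer_conjBy q.comm d⁻¹
    have h1 : conjBy D a⁻¹ ≤ conjBy N d⁻¹ := by
      rw [hab]; exact conjBy_mono hP.2 _
    have h2 : conjBy D c⁻¹ ≤ conjBy N d⁻¹ := by
      rw [hcb]; exact conjBy_mono hP'.2 _
    have h3 : conjBy D a⁻¹ ≤ Subgroup.centralizer ((conjBy D c⁻¹ : Subgroup G) : Set G) :=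
      le_trans h1 (le_trans hNb (Subgroup.centralizer_le h2))
    have h4 := conjBy_le_centralizer_conjBy h3 a
    rw [conjBy_conjBy_inv, conjBy_mul] at h4
    have hdN : a * c⁻¹ ∈ N := N.mul_mem (hP.2 ha) (N.inv_mem (hP'.2 hc))
    have hd1' : a * c⁻¹ ≠ 1 := by
      intro hh
      have hac : a = c := mul_inv_eq_one.1 hh
      have : a ∈ P' := by rw [hac]; exact hc
      exact hne (q.eq_of_mem_of_mem hP.1 hP'.1 ha this ha1).symm
    obtain ⟨Q, hQ, hdQ⟩ := q.part.2.1 _ hdN hd1'
    have hQP : Q ≠ P := by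
      intro hh
      rw [hh] at hdQ
      have hcP : c ∈ P := by
        have := P.mul_mem (P.inv_mem hdQ) ha
        have e : (a * c⁻¹)⁻¹ * a = c := by group
        rwa [e] at this
      exact hne (q.eq_of_mem_of_mem hP.1 hP'.1 hcP hc hc1).symm
    apply key Q hQ hQP
    rcases q.hS.pair D hD Q hQ.1 with h' | h' | h'
    · exact absurd h' (q.not_commute hP hQ hQP hD hPD)
    · exfalso
      apply q.not_commute hP hQ hQP hD hPD
      obtain ⟨b', hb', hb'1, hFb⟩ := h'.cond_right _ hdQ hd1'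
      have h5 := conjBy_le_centralizer_conjBy h4 (a * c⁻¹)⁻¹
      rw [conjBy_inv_conjBy] at h5
      rw [← hFb] at h5
      have h7 := conjBy_le_centralizer_conjBy h5 b'
      rw [conjBy_conjBy_inv, conjBy_eq_self_of_mem hb'] at h7
      exact commutator_eq_bot_of_le_centralizer (le_centralizer_symm h7)
    · exact h'
  · exact key P' hP' hne h

/-- through every member `P` of `S` inside `N` (when there is another one) there is a good line -/
theorem exists_good (q : PartLine S N) {P P' : Subgroup G} (hP : P ∈ membersIn S N)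
    (hP' : P' ∈ membersIn S N) (hne : P' ≠ P) :
    ∃ Q ∈ membersIn S N, Q ≠ P ∧ ∃ F ∈ S, RootCommutatorCase S P F ∧ ⁅P, F⁆ = Q := by
  obtain ⟨D, hD, hPD⟩ := q.exists_partner hP.1
  obtain ⟨Q, hQ, hQP, hrcc, h1, h2⟩ := q.exists_good_of_partner hP hP' hne hD hPD
  exact ⟨Q, hQ, hQP, _, hrcc.1, h1, h2⟩

end PartLine

end Cfsg.Agent.Lib.Helper4.RootLine
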