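import Mathlib
import Cfsg.Prelude.Def_RootSubgroups
import Cfsg.Agent.H2.RankOne
import Cfsg.Agent.H2.RootSub
import Cfsg.Agent.H2.RootSub2
import Cfsg.Agent.H2.RootSub3
import Cfsg.Agent.H2.RootSub4
import Cfsg.Agent.H2.RootSub5
import Cfsg.Agent.Lib.Helper4.RootChainA
import Cfsg.Agent.Lib.Helper4.RootChainB
import Cfsg.Agent.Lib.Helper4.RootChainC
import Cfsg.Agent.Lib.Helper4.RootLineA
import Cfsg.Agent.Lib.Helper4.RootLineB
import Cfsg.Agent.Lib.Helper4.RootLineE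
import Cfsg.Agent.Lib.Helper4.RootLineF

/-!
Partitioned commutative subgroups `N = P ⊔ P'`: `N` is a good line, and the members of `S`
normalizing `N` generate a group that is doubly transitive on the members inside `N` (helper4).
-/

set_option autoImplicit false

namespace Cfsg.Agent.Lib.Helper4.RootLine

open Cfsg Cfsg.Agent.H2.RankOne Cfsg.Agent.H2.RootSub Cfsg.Agent.Lib.Helper4.RootChain
open scoped commutatorElement Pointwise

variable {G : Type*} [Group G] {S : Set (Subgroup G)}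

namespace PartLine

variable {N : Subgroup G}

/-- a good line through `P` inside `N = P ⊔ P'` is all of `N` -/
theorem good_eq (q : PartLine S N) {P P' Q F : Subgroup G} (hP : P ∈ membersIn S N)
    (hP' : P' ∈ membersIn S N) (hN : N = P ⊔ P') (hQ : Q ∈ membersIn S N) (hQP : Q ≠ P)
    (hrcc : RootCommutatorCase S P F) (hPF : ⁅P, F⁆ = Q) : P ⊔ ⁅P, F⁆ = N := by
  apply le_antisymm
  · rw [hPF]; exact sup_le hP.2 hQ.2
  · rw [hPF]
    obtain ⟨D, hD, hPD⟩ := q.exists_partner hP.1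
    have hpart := isSubgroupPartition_sup_commutator q.hS hP.1 hD hPD hrcc
    rw [hPF] at hpart
    have hP'le : P' ≤ P ⊔ Q := by
      obtain ⟨q₀, hq₀, hq₀1⟩ := exists_ne_one_of_mem q.hS hQ.1
      have hq₀N : q₀ ∈ ((P ⊔ P' : Subgroup G) : Set G) := by
        rw [← hN]; exact hQ.2 hq₀
      have hle : P ≤ Subgroup.normalizer (P' : Set G) := by
        refine le_trans ?_ (Subgroup.centralizer_le_normalizer _)
        exact le_trans hP.2 (le_trans q.comm (Subgroup.centralizer_le hP'.2))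
      rw [Subgroup.coe_mul_of_left_le_normalizer_right P _ hle, Set.mem_mul] at hq₀N
      obtain ⟨p, hp, p', hp', hpp'⟩ := hq₀N
      have hp'mem : p' ∈ P ⊔ Q := by
        have e : p' = p⁻¹ * q₀ := by rw [← hpp']; group
        rw [e]
        exact Subgroup.mul_mem _ (Subgroup.mem_sup_left (P.inv_mem hp)) (Subgroup.mem_sup_right hq₀)
      have hp'1 : p' ≠ 1 := by
        intro hh
        rw [hh, mul_one] at hpp'
        rw [← hpp'] at hq₀
        rw [← hpp'] at hq₀1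
        exact hQP (q.eq_of_mem_of_mem hQ.1 hP.1 hq₀ hp hq₀1)
      obtain ⟨E, hE, hp'E⟩ := hpart.2.1 p' hp'mem hp'1
      have : E = P' := q.eq_of_mem_of_mem hE.1 hP'.1 hp'E hp' hp'1
      rw [← this]; exact hE.2
    rw [hN]
    exact sup_le le_sup_left hP'le

/-- a good line structure on `N` -/
structure Good (S : Set (Subgroup G)) (N P F : Subgroup G) : Prop where
  hP : P ∈ S
  hF : F ∈ S
  rcc : RootCommutatorCase S P F
  eq : P ⊔ ⁅P, F⁆ = N

theorem exists_good' (q : PartLine S N) {P P' : Subgroup G} (hP : P ∈ membersIn S N)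
    (hP' : P' ∈ membersIn S N) (hne : P' ≠ P) (hN : N = P ⊔ P') :
    ∃ F, Good S N P F := by
  obtain ⟨Q, hQ, hQP, F, hF, hrcc, hPF⟩ := q.exists_good hP hP' hne
  exact ⟨F, hP.1, hF, hrcc, q.good_eq hP hP' hN hQ hQP hrcc hPF⟩

namespace Good

variable {P F : Subgroup G}

theorem mem_iff (g : Good S N P F) (q : PartLine S N) {E : Subgroup G} :
    E ∈ membersIn S N ↔ (∃ f ∈ F, E = conjBy P f) ∨ E = ⁅P, F⁆ := by
  obtain ⟨D, hD, hPD⟩ := q.exists_partner g.hP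
  rw [← g.eq, membersIn_sup_commutator q.hS g.hP hD hPD g.rcc]
  constructor
  · rintro (⟨f, hf, rfl⟩ | h)
    · exact Or.inl ⟨f, hf, rfl⟩
    · exact Or.inr h
  · rintro (⟨f, hf, rfl⟩ | h)
    · exact Or.inl ⟨f, hf, rfl⟩
    · exact Or.inr h

theorem Q_mem (g : Good S N P F) (q : PartLine S N) : ⁅P, F⁆ ∈ membersIn S N :=
  (g.mem_iff q).2 (Or.inr rfl)

theorem conjBy_Q (g : Good S N P F) {f : G} (hf : f ∈ F) : conjBy ⁅P, F⁆ f = ⁅P, F⁆ :=
  conjBy_eq_self_of_mem_centralizer (le_centralizer_symm (rcc_le_centralizer_right g.rcc) hf)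

theorem F_le_normalizer (g : Good S N P F) : F ≤ Subgroup.normalizer (N : Set G) := by
  apply le_normalizer_of_conjBy_le
  intro f hf
  rw [← g.eq, conjBy_sup, g.conjBy_Q hf]
  exact sup_le (conjBy_le_sup_commutator hf) le_sup_right

theorem F_le_T (g : Good S N P F) : F ≤ ⨆ E ∈ normalizingMembers S N, E :=
  le_iSup₂_of_le F ⟨g.hF, g.F_le_normalizer⟩ le_rfl

/-- `F` is transitive on the members other than `Q = ⁅P, F⁆` -/
theorem trans (g : Good S N P F) (q : PartLine S N) {E E' : Subgroup G}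
    (hE : E ∈ membersIn S N) (hE' : E' ∈ membersIn S N) (hEQ : E ≠ ⁅P, F⁆) (hE'Q : E' ≠ ⁅P, F⁆) :
    ∃ f ∈ F, conjBy E f = E' ∧ conjBy ⁅P, F⁆ f = ⁅P, F⁆ := by
  rcases (g.mem_iff q).1 hE with ⟨f₁, hf₁, rfl⟩ | h
  · rcases (g.mem_iff q).1 hE' with ⟨f₂, hf₂, rfl⟩ | h'
    · refine ⟨f₂ * f₁⁻¹, F.mul_mem hf₂ (F.inv_mem hf₁), ?_, g.conjBy_Q (F.mul_mem hf₂ (F.inv_mem hf₁))⟩
      rw [conjBy_mul]
      have e : f₂ * f₁⁻¹ * f₁ = f₂ := by group
      rw [e]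
    · exact absurd h' hE'Q
  · exact absurd h hEQ

/-- `b P b⁻¹ ≠ P` for `1 ≠ f ∈ F` -/
theorem conjBy_ne (g : Good S N P F) (q : PartLine S N) {f : G} (hf : f ∈ F) (hf1 : f ≠ 1) :
    conjBy P f ≠ P := by
  intro hh
  have hPQ : P ≠ ⁅P, F⁆ := commutatorCase_ne q.hS g.rcc
  have h1 := g.rcc.2.2.2 f hf hf1
  have h2 : Subgroup.closure ((fun a : G => a * f * a⁻¹ * f⁻¹) '' (P : Set G)) = ⊥ := by
    rw [Subgroup.closure_eq_bot_iff]
    rintro _ ⟨a, ha, rfl⟩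
    rw [Set.mem_singleton_iff]
    show a * f * a⁻¹ * f⁻¹ = 1
    by_contra hne
    apply hPQ
    have hmemQ : a * f * a⁻¹ * f⁻¹ ∈ ⁅P, F⁆ := by
      rw [← commutatorElement_def]; exact Subgroup.commutator_mem_commutator ha hf
    have hmemP : a * f * a⁻¹ * f⁻¹ ∈ P := by
      have h3 : f * a⁻¹ * f⁻¹ ∈ conjBy P f := conj_mem_conjBy (P.inv_mem ha) f
      rw [hh] at h3
      have e : a * f * a⁻¹ * f⁻¹ = a * (f * a⁻¹ * f⁻¹) := by group
      rw [e]; exact P.mul_mem ha h3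
    exact q.eq_of_mem_of_mem g.hP g.rcc.1 hmemP hmemQ hne
  rw [h2] at h1
  exact q.hS.ne_bot _ g.rcc.1 h1.symm

/-- there is a member different from `Q` and from any given `Q'` -/
theorem exists_third (g : Good S N P F) (q : PartLine S N) (Q' : Subgroup G) :
    ∃ E ∈ membersIn S N, E ≠ ⁅P, F⁆ ∧ E ≠ Q' := by
  have hPQ : P ≠ ⁅P, F⁆ := commutatorCase_ne q.hS g.rcc
  have hPmem : P ∈ membersIn S N := (g.mem_iff q).2 (Or.inl ⟨1, F.one_mem, (conjBy_one P).symm⟩)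
  by_cases hPQ' : P = Q'
  · obtain ⟨f, hf, hf1⟩ := exists_ne_one_of_mem q.hS g.hF
    have hmem : conjBy P f ∈ membersIn S N := (g.mem_iff q).2 (Or.inl ⟨f, hf, rfl⟩)
    refine ⟨conjBy P f, hmem, ?_, ?_⟩
    · intro hh
      -- `conjBy P f = Q` would give `P = Q` after conjugating back
      have h1 : conjBy (conjBy P f) f⁻¹ = conjBy ⁅P, F⁆ f⁻¹ := by rw [hh]
      rw [conjBy_inv_conjBy, g.conjBy_Q (F.inv_mem hf)] at h1
      exact hPQ h1
    · rw [← hPQ']; exact g.conjBy_ne q hf hf1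
  · exact ⟨P, hPmem, hPQ, hPQ'⟩

end Good

/-- two good lines with different distinguished points: double transitivity -/
theorem two_transitive (q : PartLine S N) {P F P₂ F₂ : Subgroup G} (g : Good S N P F)
    (g₂ : Good S N P₂ F₂) (hne : ⁅P, F⁆ ≠ ⁅P₂, F₂⁆) :
    ∀ C₁ ∈ membersIn S N, ∀ C₂ ∈ membersIn S N, ∀ D₁ ∈ membersIn S N, ∀ D₂ ∈ membersIn S N,
      C₁ ≠ C₂ → D₁ ≠ D₂ →
      ∃ x ∈ ⨆ E ∈ normalizingMembers S N, E, conjBy C₁ x = D₁ ∧ conjBy C₂ x = D₂ := by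
  set T := ⨆ E ∈ normalizingMembers S N, E with hT
  have hTn : T ≤ Subgroup.normalizer (N : Set G) := by
    apply iSup₂_le
    intro E hE
    exact hE.2
  have hmemT : ∀ x ∈ T, ∀ E ∈ membersIn S N, conjBy E x ∈ membersIn S N := by
    intro x hx E hE
    refine ⟨q.hS.conj_mem E hE.1 x, ?_⟩
    have h1 : conjBy N x = N := conjBy_eq_self_iff.2 (hTn hx)
    rw [← h1]
    exact conjBy_mono hE.2 x
  -- every member can be moved to `Q = ⁅P, F⁆`
  have hmove : ∀ E ∈ membersIn S N, ∃ x ∈ T, conjBy E x = ⁅P, F⁆ := by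
    intro E hE
    by_cases hEQ : E = ⁅P, F⁆
    · exact ⟨1, T.one_mem, by rw [conjBy_one, hEQ]⟩
    · by_cases hEQ₂ : E = ⁅P₂, F₂⁆
      · obtain ⟨E₁, hE₁, hE₁Q, hE₁Q₂⟩ := g.exists_third q ⁅P₂, F₂⁆
        obtain ⟨f, hf, hf1, _⟩ := g.trans q hE hE₁ hEQ hE₁Q
        obtain ⟨f', hf', hf'1, _⟩ := g₂.trans q hE₁ (g.Q_mem q) hE₁Q₂ hne
        refine ⟨f' * f, T.mul_mem (g₂.F_le_T hf') (g.F_le_T hf), ?_⟩
        rw [← conjBy_mul, hf1, hf'1]
      · obtain ⟨f', hf', hf'1, _⟩ := g₂.trans q hE (g.Q_mem q) hEQ₂ hne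
        exact ⟨f', g₂.F_le_T hf', hf'1⟩
  intro C₁ hC₁ C₂ hC₂ D₁ hD₁ D₂ hD₂ hC hD
  obtain ⟨x, hx, hxC⟩ := hmove C₁ hC₁
  obtain ⟨y, hy, hyD⟩ := hmove D₁ hD₁
  have hC₂' : conjBy C₂ x ≠ ⁅P, F⁆ := by
    intro hh
    rw [← hxC] at hh
    exact hC (conjBy_injective x hh).symm
  have hD₂' : conjBy D₂ y ≠ ⁅P, F⁆ := by
    intro hh
    rw [← hyD] at hh
    exact hD (conjBy_injective y hh).symm
  obtain ⟨f, hf, hf1, hf2⟩ := g.trans q (hmemT x hx C₂ hC₂) (hmemT y hy D₂ hD₂) hC₂' hD₂'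
  refine ⟨y⁻¹ * (f * x), T.mul_mem (T.inv_mem hy) (T.mul_mem (g.F_le_T hf) hx), ?_, ?_⟩
  · rw [← conjBy_mul, ← conjBy_mul, hxC, hf2, ← hyD, conjBy_inv_conjBy]
  · rw [← conjBy_mul, ← conjBy_mul, hf1, conjBy_inv_conjBy]

end PartLine

end Cfsg.Agent.Lib.Helper4.RootLine
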