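import Mathlib
import Cfsg.Prelude.Def_RootSubgroups
import Cfsg.Agent.H2.RankOne
import Cfsg.Agent.H2.RootSub
import Cfsg.Agent.H2.RootSub2
import Cfsg.Agent.H2.RootSub3
import Cfsg.Agent.H2.RootSub4
import Cfsg.Agent.H2.RootSub5
import Cfsg.Agent.Lib.Helper4.RootChainA
import Cfsg.Agent.Lib.Helper4.RootChainB
import Cfsg.Agent.Lib.Helper4.RootChainC
import Cfsg.Agent.Lib.Helper4.RootLineA
import Cfsg.Agent.Lib.Helper4.RootLineB
import Cfsg.Agent.Lib.Helper4.RootLineE
import Cfsg.Agent.Lib.Helper4.RootLineF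
import Cfsg.Agent.Lib.Helper4.RootLineG

/-!
Line partners: conjugation invariance, members of a good line, and conjugacy of line partners of `A`
to `A` inside `⟨Λ_A, B⟩` (helper4).
-/

set_option autoImplicit false

namespace Cfsg.Agent.Lib.Helper4.RootLine

open Cfsg Cfsg.Agent.H2.RankOne Cfsg.Agent.H2.RootSub Cfsg.Agent.Lib.Helper4.RootChain
open scoped commutatorElement Pointwise

variable {G : Type*} [Group G] {S : Set (Subgroup G)}

theorem conjBy_le_conjBy_iff {H K : Subgroup G} (g : G) : conjBy H g ≤ conjBy K g ↔ H ≤ K := by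
  constructor
  · intro h
    have := conjBy_mono h g⁻¹
    rwa [conjBy_inv_conjBy, conjBy_inv_conjBy] at this
  · intro h; exact conjBy_mono h g

theorem conjBy_bot (g : G) : conjBy (⊥ : Subgroup G) g = ⊥ := Subgroup.map_bot _

theorem conjBy_inf (H K : Subgroup G) (g : G) : conjBy (H ⊓ K) g = conjBy H g ⊓ conjBy K g :=
  Subgroup.map_inf H K _ (MulAut.conj g).injective

theorem conjBy_commutator (H K : Subgroup G) (g : G) :
    conjBy ⁅H, K⁆ g = ⁅conjBy H g, conjBy K g⁆ := Subgroup.map_commutator H K _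

/-- line partners are invariant under conjugation -/
theorem linePartners_conjBy (hS : IsRootSubgroupSet S) {A B : Subgroup G}
    (hB : B ∈ linePartners S A) (g : G) : conjBy B g ∈ linePartners S (conjBy A g) := by
  obtain ⟨⟨hBS, hBA, hcomm⟩, hp1, hp2, hp3⟩ := hB
  have hmem : ∀ E, E ∈ membersIn S (conjBy A g ⊔ conjBy B g) ↔
      conjBy E g⁻¹ ∈ membersIn S (A ⊔ B) := by
    intro E
    constructor
    · rintro ⟨hE, hle⟩
      refine ⟨hS.conj_mem E hE _, ?_⟩
      have := conjBy_mono hle g⁻¹
      rwa [← conjBy_sup, conjBy_inv_conjBy] at this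
    · rintro ⟨hE, hle⟩
      have h1 := hS.conj_mem _ hE g
      rw [conjBy_conjBy_inv] at h1
      refine ⟨h1, ?_⟩
      have := conjBy_mono hle g
      rwa [conjBy_conjBy_inv, conjBy_sup] at this
  refine ⟨⟨hS.conj_mem B hBS g, fun hh => hBA (conjBy_injective g hh), ?_⟩, ?_, ?_, ?_⟩
  · rw [← conjBy_commutator, hcomm, conjBy_bot]
  · intro E hE; exact hE.2
  · intro x hx hx1
    rw [← conjBy_sup, mem_conjBy] at hx
    have hx1' : g⁻¹ * x * g ≠ 1 := by
      intro hh
      apply hx1
      have e : x = g * (g⁻¹ * x * g) * g⁻¹ := by group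
      rw [e, hh]; group
    obtain ⟨E, hE, hxE⟩ := hp2 _ hx hx1'
    refine ⟨conjBy E g, (hmem _).2 (by rw [conjBy_inv_conjBy]; exact hE), ?_⟩
    rw [mem_conjBy]; exact hxE
  · intro E hE E' hE' hne
    have h1 := hp3 _ ((hmem E).1 hE) _ ((hmem E').1 hE')
      (fun hh => hne (conjBy_injective g⁻¹ hh))
    rw [← conjBy_inf] at h1
    have := congrArg (fun H => conjBy H g) h1
    beta_reduce at this
    rwa [conjBy_conjBy_inv, conjBy_bot] at this

namespace PartLine

variable {N : Subgroup G}

namespace Good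

variable {P F : Subgroup G}

/-- the members of a good line other than `P` are line partners of `P` -/
theorem mem_linePartners (g : Good S N P F) (q : PartLine S N) {E : Subgroup G}
    (hE : E ∈ membersIn S N) (hEP : E ≠ P) : E ∈ linePartners S P := by
  have hPm : P ∈ membersIn S N := ⟨g.hP, by rw [← g.eq]; exact le_sup_left⟩
  have hsup : P ⊔ E = N := by
    rcases (g.mem_iff q).1 hE with ⟨f, hf, rfl⟩ | h
    · have hf1 : f ≠ 1 := by
        intro hh
        apply hEP
        rw [hh, conjBy_one]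
      have rccFP : RootCommutatorCase S F P :=
        commutatorCase_of_commutator_mem q.hS g.hF g.hP
          (by rw [Subgroup.commutator_comm]; exact g.rcc.1)
      rw [sup_conjBy_eq_of_rcc rccFP hf hf1, g.eq]
    · rw [h, g.eq]
  refine ⟨⟨hE.1, hEP, q.comm_eq_bot hPm.2 hE.2⟩, ?_⟩
  rw [hsup]; exact q.part

end Good

end PartLine

end Cfsg.Agent.Lib.Helper4.RootLine
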