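import Mathlib
import Cfsg.Prelude.Def_RootSubgroups
import Cfsg.Agent.H2.RankOne
import Cfsg.Agent.H2.RootSub
import Cfsg.Agent.H2.RootSub2
import Cfsg.Agent.H2.RootSub3
import Cfsg.Agent.H2.RootSub4
import Cfsg.Agent.H2.RootSub5
import Cfsg.Agent.Lib.Helper4.RootChainA
import Cfsg.Agent.Lib.Helper4.RootChainB
import Cfsg.Agent.Lib.Helper4.RootChainC
import Cfsg.Agent.Lib.Helper4.RootLineA
import Cfsg.Agent.Lib.Helper4.RootLineB
import Cfsg.Agent.Lib.Helper4.RootLineE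
import Cfsg.Agent.Lib.Helper4.RootLineF
import Cfsg.Agent.Lib.Helper4.RootLineG
import Cfsg.Agent.Lib.Helper4.RootLineH

/-!
Every line partner of `A` is conjugate to `A` inside any subgroup containing the line partners of
`A` and a rank one partner of `A`; `A` lies in the subgroup generated by its line partners (helper4).
-/

set_option autoImplicit false

namespace Cfsg.Agent.Lib.Helper4.RootLine

open Cfsg Cfsg.Agent.H2.RankOne Cfsg.Agent.H2.RootSub Cfsg.Agent.Lib.Helper4.RootChain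
open scoped commutatorElement Pointwise

variable {G : Type*} [Group G] {S : Set (Subgroup G)}

theorem not_isolated_of_partner {X Y : Subgroup G} (hX : X ∈ S) (hY : Y ∈ S)
    (h : IsRankOnePair X Y) : ¬ IsIsolatedIn (FAdj S) S X :=
  fun hiso => (hiso.2 Y).1 ⟨hX, hY, h⟩

theorem partLine_of_linePartner (hS : IsRootSubgroupSet S)
    (hpartner : ∀ X ∈ S, ∃ Y ∈ S, IsRankOnePair X Y) {A C : Subgroup G} (hA : A ∈ S)
    (hC : C ∈ linePartners S A) : PartLine S (A ⊔ C) := by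
  refine ⟨hS, ?_, ?_, hC.2⟩
  · intro X hX
    obtain ⟨Y, hY, hXY⟩ := hpartner X hX
    exact not_isolated_of_partner hX hY hXY
  · exact le_centralizer_of_isMulCommutative
      (isMulCommutative_sup (hS.commutative A hA) (hS.commutative C hC.1.1)
        (le_centralizer_of_commutator_eq_bot hC.1.2.2))

/-- every line partner of `A` is conjugate to `A` under `G₀ ⊇ ⟨Λ_A, B⟩` -/
theorem exists_conjBy_eq_of_linePartner (hS : IsRootSubgroupSet S)
    (hpartner : ∀ X ∈ S, ∃ Y ∈ S, IsRankOnePair X Y) {A B : Subgroup G} (hA : A ∈ S) (hB : B ∈ S)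
    (hAB : IsRankOnePair A B) (G₀ : Subgroup G) (hΛ : ∀ C ∈ linePartners S A, C ≤ G₀)
    (hBG : B ≤ G₀) {C : Subgroup G} (hC : C ∈ linePartners S A) :
    ∃ g ∈ G₀, conjBy C g = A := by
  have q := partLine_of_linePartner hS hpartner hA hC
  have hAm : A ∈ membersIn S (A ⊔ C) := ⟨hA, le_sup_left⟩
  have hCm : C ∈ membersIn S (A ⊔ C) := ⟨hC.1.1, le_sup_right⟩
  obtain ⟨Q, hQ, hQA, rccBQ, rccAF, hAFQ⟩ := q.exists_good_of_partner hAm hCm hC.1.2.1 hB hAB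
  have hgood : PartLine.Good S (A ⊔ C) A ⁅B, Q⁆ :=
    ⟨hA, rccBQ.1, rccAF, q.good_eq hAm hCm rfl hQ hQA rccAF hAFQ⟩
  have hQl : Q ∈ linePartners S A := hgood.mem_linePartners q hQ hQA
  have hFG : ⁅B, Q⁆ ≤ G₀ := le_trans (commutator_le_sup' B Q) (sup_le hBG (hΛ Q hQl))
  have hAQ' : A ≠ ⁅A, ⁅B, Q⁆⁆ := commutatorCase_ne hS rccAF
  by_cases hCQ : C = ⁅A, ⁅B, Q⁆⁆
  · -- the special point
    obtain ⟨D', hD', hQD'⟩ := hpartner Q hQ.1
    obtain ⟨Qs, hQs, hQsQ, rccD'Qs, rccQ_, hQ_⟩ :=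
      q.exists_good_of_partner hQ hAm hQA.symm hD' hQD'
    have hQsQ' : Qs ≠ ⁅A, ⁅B, Q⁆⁆ := by rw [hAFQ]; exact hQsQ
    rcases (hgood.mem_iff q).1 hQs with ⟨f, hf, hQsf⟩ | h
    swap
    · exact absurd h hQsQ'
    have hES : conjBy ⁅D', Qs⁆ f⁻¹ ∈ S := hS.conj_mem _ rccD'Qs.1 _
    have hQf : conjBy Q f⁻¹ = Q := by
      have := hgood.conjBy_Q (Subgroup.inv_mem _ hf)
      rwa [hAFQ] at this
    have hQE : ⁅Q, conjBy ⁅D', Qs⁆ f⁻¹⁆ = A := by
      calc ⁅Q, conjBy ⁅D', Qs⁆ f⁻¹⁆ = ⁅conjBy Q f⁻¹, conjBy ⁅D', Qs⁆ f⁻¹⁆ := by rw [hQf]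
        _ = conjBy ⁅Q, ⁅D', Qs⁆⁆ f⁻¹ := (conjBy_commutator _ _ _).symm
        _ = conjBy (conjBy A f) f⁻¹ := by rw [hQ_, hQsf]
        _ = A := conjBy_inv_conjBy A f
    set E := conjBy ⁅D', Qs⁆ f⁻¹ with hEdef
    have rccQE : RootCommutatorCase S Q E :=
      commutatorCase_of_commutator_mem hS hQ.1 hES (by rw [hQE]; exact hA)
    have rccEQ : RootCommutatorCase S E Q :=
      commutatorCase_of_commutator_mem hS hES hQ.1 (by rw [Subgroup.commutator_comm, hQE]; exact hA)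
    obtain ⟨E₁, hE₁, hEE₁⟩ := hpartner E hES
    have hEl : E ∈ linePartners S A := by
      have := mem_linePartners_commutator hS hES hE₁ hEE₁ rccEQ
      rwa [Subgroup.commutator_comm, hQE] at this
    have hEG : E ≤ G₀ := hΛ E hEl
    obtain ⟨e, he, he1⟩ := exists_ne_one_of_mem hS hES
    have he1' : e⁻¹ ≠ 1 := by simpa using he1
    have hNQA : Q ⊔ A = A ⊔ C := by
      have := hgood.eq
      rw [hAFQ, sup_comm] at this
      exact this
    have hgood₂ : PartLine.Good S (A ⊔ C) Q E := ⟨hQ.1, hES, rccQE, by rw [hQE]; exact hNQA⟩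
    have hQ₁m : conjBy Q e⁻¹ ∈ membersIn S (A ⊔ C) := by
      refine ⟨hS.conj_mem Q hQ.1 _, ?_⟩
      have := conjBy_le_sup_commutator (A := Q) (B := E) (E.inv_mem he)
      rw [hQE, hNQA] at this
      exact this
    have hQ₁ne : conjBy Q e⁻¹ ≠ ⁅A, ⁅B, Q⁆⁆ := by
      rw [hAFQ]; exact hgood₂.conjBy_ne q (E.inv_mem he) he1'
    obtain ⟨f₂, hf₂, hf₂1, _⟩ := hgood.trans q hQ₁m hAm hQ₁ne hAQ'
    refine ⟨f₂ * e⁻¹, G₀.mul_mem (hFG hf₂) (G₀.inv_mem (hEG he)), ?_⟩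
    rw [hCQ, hAFQ, ← conjBy_mul]
    exact hf₂1
  · rcases (hgood.mem_iff q).1 hCm with ⟨f, hf, hCf⟩ | h
    · refine ⟨f⁻¹, G₀.inv_mem (hFG hf), ?_⟩
      rw [hCf]; exact conjBy_inv_conjBy A f
    · exact absurd h hCQ

/-- `A` lies in the subgroup generated by its line partners (when there is one) -/
theorem le_iSup_linePartners (hS : IsRootSubgroupSet S)
    (hpartner : ∀ X ∈ S, ∃ Y ∈ S, IsRankOnePair X Y) {A C : Subgroup G} (hA : A ∈ S)
    (hC : C ∈ linePartners S A) : A ≤ ⨆ E ∈ linePartners S A, E := by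
  have q := partLine_of_linePartner hS hpartner hA hC
  have hAm : A ∈ membersIn S (A ⊔ C) := ⟨hA, le_sup_left⟩
  have hCm : C ∈ membersIn S (A ⊔ C) := ⟨hC.1.1, le_sup_right⟩
  obtain ⟨F, hgood⟩ := q.exists_good' hAm hCm hC.1.2.1 rfl
  obtain ⟨f, hf, hf1⟩ := exists_ne_one_of_mem hS hgood.hF
  have h1 : conjBy A f ∈ membersIn S (A ⊔ C) := (hgood.mem_iff q).2 (Or.inl ⟨f, hf, rfl⟩)
  have h2 : conjBy A f ∈ linePartners S A :=
    hgood.mem_linePartners q h1 (hgood.conjBy_ne q hf hf1)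
  have h3 : ⁅A, F⁆ ∈ linePartners S A :=
    hgood.mem_linePartners q (hgood.Q_mem q) (commutatorCase_ne hS hgood.rcc).symm
  have h4 : conjBy (A ⊔ ⁅A, F⁆) f = A ⊔ ⁅A, F⁆ := by
    rw [hgood.eq]; exact conjBy_eq_self_iff.2 (hgood.F_le_normalizer hf)
  rw [conjBy_sup, hgood.conjBy_Q hf] at h4
  calc A ≤ A ⊔ ⁅A, F⁆ := le_sup_left
    _ = conjBy A f ⊔ ⁅A, F⁆ := h4.symm
    _ ≤ ⨆ E ∈ linePartners S A, E :=
      sup_le (le_iSup₂_of_le _ h2 le_rfl) (le_iSup₂_of_le _ h3 le_rfl)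

end Cfsg.Agent.Lib.Helper4.RootLine
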