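import Mathlib
import Cfsg.Prelude.Def_RootSubgroups
import Cfsg.Agent.H2.RankOne
import Cfsg.Agent.H2.RootSub
import Cfsg.Agent.H2.RootSub2
import Cfsg.Agent.H2.RootSub3
import Cfsg.Agent.H2.RootSub4
import Cfsg.Agent.H2.RootSub5
import Cfsg.Agent.S5036
import Cfsg.Agent.Lib.Helper4.RootChainA
import Cfsg.Agent.Lib.Helper4.RootChainB
import Cfsg.Agent.Lib.Helper4.RootChainC
import Cfsg.Agent.Lib.Helper4.RootLineA
import Cfsg.Agent.Lib.Helper4.RootLineB
import Cfsg.Agent.Lib.Helper4.RootLineE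
import Cfsg.Agent.Lib.Helper4.RootLineF
import Cfsg.Agent.Lib.Helper4.RootLineG
import Cfsg.Agent.Lib.Helper4.RootLineH
import Cfsg.Agent.Lib.Helper4.RootLineI

/-!
Weak TI-subsets of a class of abstract root subgroups: the stabilizer of a family of subgroups
under conjugation and the basic closure properties (helper4).
-/

set_option autoImplicit false

namespace Cfsg.Agent.Lib.Helper4.RootLine

open Cfsg Cfsg.Agent.H2.RankOne Cfsg.Agent.H2.RootSub Cfsg.Agent.Lib.Helper4.RootChain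
open scoped commutatorElement Pointwise

variable {G : Type*} [Group G] {S : Set (Subgroup G)}

/-- the stabilizer of a family of subgroups under conjugation -/
def famStab (Δ : Set (Subgroup G)) : Subgroup G where
  carrier := {g | (fun A => conjBy A g) '' Δ = Δ}
  one_mem' := by
    show (fun A => conjBy A 1) '' Δ = Δ
    simp [conjBy_one]
  mul_mem' := by
    intro g h hg hh
    show (fun A => conjBy A (g * h)) '' Δ = Δ
    have e : (fun A : Subgroup G => conjBy A (g * h)) =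
        (fun A => conjBy A g) ∘ (fun A => conjBy A h) := by
      funext A; simp only [Function.comp]; rw [conjBy_mul]
    rw [e, Set.image_comp]
    have hh' : (fun A => conjBy A h) '' Δ = Δ := hh
    rw [hh']; exact hg
  inv_mem' := by
    intro g hg
    show (fun A => conjBy A g⁻¹) '' Δ = Δ
    have hg' : (fun A => conjBy A g) '' Δ = Δ := hg
    conv_lhs => rw [← hg']
    rw [← Set.image_comp]
    have e : ((fun A : Subgroup G => conjBy A g⁻¹) ∘ (fun A => conjBy A g)) = id := by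
      funext A; simp only [Function.comp]; rw [conjBy_inv_conjBy]; rfl
    rw [e, Set.image_id]

theorem conjBy_mem_of_mem_famStab {Δ : Set (Subgroup G)} {g : G} (hg : g ∈ famStab Δ)
    {A : Subgroup G} (hA : A ∈ Δ) : conjBy A g ∈ Δ := by
  have hg' : (fun A => conjBy A g) '' Δ = Δ := hg
  rw [← hg']
  exact ⟨A, hA, rfl⟩

/-- a member of `S` normalizing a member of a weak TI-subset `Δ` stabilizes `Δ` -/
theorem le_famStab_of_normalizes {Δ : Set (Subgroup G)} (hΔ : IsWeakTISubset S Δ)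
    {E A' : Subgroup G} (hE : E ∈ S) (hA' : A' ∈ Δ) (hn : ∀ e ∈ E, conjBy A' e = A') :
    E ≤ famStab Δ := by
  intro e he
  by_cases he1 : e = 1
  · rw [he1]; exact (famStab Δ).one_mem
  · rcases hΔ.2.2.2 e ⟨he1, E, hE, he⟩ with h | h
    · exact h
    · exfalso
      have h1 : A' ∈ (fun A => conjBy A e) '' Δ := ⟨A', hA', hn e he⟩
      exact (Set.disjoint_left.1 h) h1 hA'

theorem le_famStab_of_mem {Δ : Set (Subgroup G)} (hΔ : IsWeakTISubset S Δ)
    {A : Subgroup G} (hA : A ∈ Δ) : A ≤ famStab Δ :=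
  le_famStab_of_normalizes hΔ (hΔ.1 hA) hA (fun _ he => conjBy_eq_self_of_mem he)

theorem le_famStab_of_centralizes {Δ : Set (Subgroup G)} (hΔ : IsWeakTISubset S Δ)
    {E A' : Subgroup G} (hE : E ∈ S) (hA' : A' ∈ Δ)
    (hc : E ≤ Subgroup.centralizer (A' : Set G)) : E ≤ famStab Δ :=
  le_famStab_of_normalizes hΔ hE hA'
    (fun _ he => conjBy_eq_self_of_mem_centralizer (hc he))

/-- if a weak TI-subset contains a rank one pair `(A, B)`, it contains all line partners of `A`,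
each with a rank one partner in `Δ` -/
theorem mem_of_linePartner {Δ : Set (Subgroup G)} (hS : IsRootSubgroupSet S)
    (hpartner : ∀ X ∈ S, ∃ Y ∈ S, IsRankOnePair X Y) (hΔ : IsWeakTISubset S Δ)
    {A B : Subgroup G} (hA : A ∈ Δ) (hB : B ∈ Δ) (hAB : IsRankOnePair A B) {C : Subgroup G}
    (hC : C ∈ linePartners S A) : C ∈ Δ ∧ ∃ B' ∈ Δ, IsRankOnePair C B' := by
  have hΛ : ∀ C ∈ linePartners S A, C ≤ famStab Δ := by
    intro C hC
    apply le_famStab_of_centralizes hΔ hC.1.1 hA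
    exact le_centralizer_symm (le_centralizer_of_commutator_eq_bot hC.1.2.2)
  obtain ⟨g, hg, hCg⟩ := exists_conjBy_eq_of_linePartner hS hpartner (hΔ.1 hA) (hΔ.1 hB) hAB
    (famStab Δ) hΛ (le_famStab_of_mem hΔ hB) hC
  have hg' := (famStab Δ).inv_mem hg
  have hCe : C = conjBy A g⁻¹ := conjBy_eq_iff.1 hCg
  refine ⟨by rw [hCe]; exact conjBy_mem_of_mem_famStab hg' hA,
    conjBy B g⁻¹, conjBy_mem_of_mem_famStab hg' hB, ?_⟩
  rw [hCe]; exact isRankOnePair_conjBy hAB g⁻¹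

/-- a weak TI-subset containing two members in the commutator case contains a rank one pair -/
theorem exists_rankOne_of_rcc {Δ : Set (Subgroup G)} (hS : IsRootSubgroupSet S)
    (hpartner : ∀ X ∈ S, ∃ Y ∈ S, IsRankOnePair X Y) (hΔ : IsWeakTISubset S Δ)
    {A B : Subgroup G} (hA : A ∈ Δ) (hB : B ∈ Δ) (hrcc : RootCommutatorCase S A B) :
    ∃ A' ∈ Δ, ∃ B' ∈ Δ, IsRankOnePair A' B' := by
  have hAS := hΔ.1 hA
  have hBS := hΔ.1 hB
  obtain ⟨D, hD, hAD⟩ := hpartner A hAS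
  have hline : A ∈ linePartners S ⁅A, B⁆ := mem_linePartners_commutator hS hAS hD hAD hrcc
  have hQl : ⁅A, B⁆ ∈ linePartners S A := linePartners_symm hrcc.1 hline
  have q := partLine_of_linePartner hS hpartner hAS hQl
  have hAm : A ∈ membersIn S (A ⊔ ⁅A, B⁆) := ⟨hAS, le_sup_left⟩
  have hQm : ⁅A, B⁆ ∈ membersIn S (A ⊔ ⁅A, B⁆) := ⟨hrcc.1, le_sup_right⟩
  have hAQ : A ≠ ⁅A, B⁆ := commutatorCase_ne hS hrcc
  obtain ⟨F₂, g₂⟩ := q.exists_good' hQm hAm hAQ (sup_comm _ _)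
  -- `Q₂ = ⁅Q, F₂⁆` is a `B`-conjugate of `A`
  have hQ₂m := g₂.Q_mem q
  have hQ₂ne : ⁅⁅A, B⁆, F₂⁆ ≠ ⁅A, B⁆ := (commutatorCase_ne hS g₂.rcc).symm
  have hQ₂m' := hQ₂m
  rw [membersIn_sup_commutator hS hAS hD hAD hrcc] at hQ₂m'
  rcases hQ₂m' with ⟨b₀, hb₀, hQ₂b⟩ | h
  swap
  · rw [Set.mem_singleton_iff] at h
    exact absurd h hQ₂ne
  have hQ₂b' : conjBy A b₀ = ⁅⁅A, B⁆, F₂⁆ := hQ₂b
  have hQ₂Δ : ⁅⁅A, B⁆, F₂⁆ ∈ Δ := by
    rw [← hQ₂b']
    exact conjBy_mem_of_mem_famStab (le_famStab_of_mem hΔ hB hb₀) hA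
  -- `F₂` centralizes `Q₂`, hence stabilizes `Δ`
  have hF₂st : F₂ ≤ famStab Δ :=
    le_famStab_of_centralizes hΔ g₂.hF hQ₂Δ
      (le_centralizer_symm (rcc_le_centralizer_right g₂.rcc))
  -- `(B, F₂)` is a rank one pair
  have hcomm : ⁅⁅⁅A, B⁆, F₂⁆, B⁆ = ⁅A, B⁆ := by
    rw [← hQ₂b']; exact commutator_conjBy_of_mem_right hb₀
  have hpair : IsRankOnePair B F₂ := by
    have h1 : ⁅⁅⁅A, B⁆, F₂⁆, B⁆ ∈ S := by rw [hcomm]; exact hrcc.1
    have h2 : ⁅F₂, ⁅⁅⁅A, B⁆, F₂⁆, B⁆⁆ = ⁅⁅A, B⁆, F₂⁆ := by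
      rw [hcomm, Subgroup.commutator_comm]
    exact (Cfsg.Agent.S5036.result hS hQ₂m.1 hBS h1 g₂.hF h2).1
  obtain ⟨x, hx, hFx⟩ := exists_conjBy_eq_right hpair
  have hxst : x ∈ famStab Δ := (sup_le (le_famStab_of_mem hΔ hB) hF₂st) hx
  refine ⟨B, hB, F₂, ?_, hpair⟩
  rw [hFx]; exact conjBy_mem_of_mem_famStab hxst hB

end Cfsg.Agent.Lib.Helper4.RootLine
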