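import Mathlib
import Cfsg.Agent.H9.DicksonMain
import Cfsg.Agent.H9.DicksonMax2
import Cfsg.Agent.H9.PGLBasic

set_option autoImplicit false

/-! A consequence of Dickson's theorem (helper9's `Cfsg.Agent.H9.Dickson*`): a subgroup of `SL₂(F)`
containing the centre, a lower unitriangular element and a large upper root group `u (A G)`
has `|A G| ^ m = |F|` for some `m`. -/

namespace Cfsg.Agent.Lib.Helper4.SL2Dick

open Matrix
open Cfsg.Agent.H9.AutPSL2
open Cfsg.Agent.H9.DicksonSS
open Cfsg.Agent.H9.DicksonCE
open Cfsg.Agent.H9.DicksonQ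
open Cfsg.Agent.H9.DicksonConcl
open Cfsg.Agent.H9.DicksonUN
open Cfsg.Agent.H9.DicksonMax

universe u

variable {F : Type u} [Field F] [Fintype F]

local notation "SL2" => Matrix.SpecialLinearGroup (Fin 2) F
local notation "PSL2" => Matrix.ProjectiveSpecialLinearGroup (Fin 2) F

omit [Fintype F] in
theorem l_pow' (a : F) (k : ℕ) : (l a) ^ k = l (k * a) := by
  induction k with
  | zero => simp [l_zero]
  | succ k ih => rw [pow_succ, ih, ← l_add]; push_cast; ring_nf

omit [Fintype F] in
theorem pr_l_pow' (p : ℕ) [Fact p.Prime] [CharP F p] (b : F) : (pr (l b) : PSL2) ^ p = 1 := by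
  rw [← map_pow, l_pow', CharP.cast_eq_zero F p, zero_mul, l_zero, map_one]

omit [Fintype F] in
theorem pr_eq_iff (x y : SL2) : (pr x : PSL2) = pr y ↔ x = y ∨ x = -y := by
  unfold pr
  rw [QuotientGroup.mk'_apply, QuotientGroup.mk'_apply, QuotientGroup.eq, mem_center_iff']
  constructor
  · rintro (h | h)
    · left
      have : y = x * (x⁻¹ * y) := by group
      rw [this, h, mul_one]
    · right
      have : y = x * (x⁻¹ * y) := by group
      rw [this, h]
      simp
  · rintro (h | h)
    · left; rw [h]; group
    · right; rw [h]; simp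

omit [Fintype F] in
theorem pr_u_l_ne' {c b : F} (hc : c ≠ 0) (hb : b ≠ 0) :
    (pr (u c) * pr (l b) : PSL2) ≠ pr (l b) * pr (u c) := by
  rw [← map_mul, ← map_mul, Ne, pr_eq_iff]
  rintro (h | h)
  · have h00 := congrArg (fun g : SL2 => g.1 0 0) h
    simp only [mul_00, u_00, u_01, l_00, l_10, l_01, u_10] at h00
    have : c * b = 0 := by linear_combination h00
    rcases mul_eq_zero.1 this with h | h
    · exact hc h
    · exact hb h
  · have h01 := congrArg (fun g : SL2 => g.1 0 1) h
    have h00 := congrArg (fun g : SL2 => g.1 0 0) h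
    simp only [mul_00, mul_01, u_00, u_01, l_00, l_10, l_01, l_11, u_10, u_11,
      Matrix.SpecialLinearGroup.coe_neg, Matrix.neg_apply] at h01 h00
    have h2c : 2 * c = 0 := by linear_combination h01
    rcases mul_eq_zero.1 h2c with h2 | h2
    · have : c * b = 0 := by linear_combination h00 - h2
      rcases mul_eq_zero.1 this with h | h
      · exact hc h
      · exact hb h
    · exact hc h2

end Cfsg.Agent.Lib.Helper4.SL2Dick
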