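import Mathlib
import Cfsg.Agent.Lib.Helper4.SL2DickA

set_option autoImplicit false

namespace Cfsg.Agent.Lib.Helper4.SL2Dick

open Matrix
open Cfsg.Agent.H9.AutPSL2
open Cfsg.Agent.H9.DicksonSS
open Cfsg.Agent.H9.DicksonCE
open Cfsg.Agent.H9.DicksonQ
open Cfsg.Agent.H9.DicksonConcl
open Cfsg.Agent.H9.DicksonUN
open Cfsg.Agent.H9.DicksonMax

universe u

variable {F : Type u} [Field F] [Fintype F]

local notation "SL2" => Matrix.SpecialLinearGroup (Fin 2) F
local notation "PSL2" => Matrix.ProjectiveSpecialLinearGroup (Fin 2) F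

/-- the order of the image of `G` in `PSL₂` -/
theorem card_map_pr (G : Subgroup SL2) (hZ : Subgroup.center SL2 ≤ G) {c : F} (hc : c ≠ 0)
    (hu : u c ∈ G) :
    Nat.card ↥(G.map (pr : SL2 →* PSL2)) =
      Nat.card (A G) * Nat.card (theta G).range * (1 + (Om G).ncard) := by
  have hz : 0 < Nat.card (ZG G) := Nat.card_pos
  have hG := card_G_eq G hZ hc hu
  have hcardeq := card_eq (prG G) (prG_surjective G) (prG_ker G)
  rw [hG] at hcardeq
  exact (Nat.eq_of_mul_eq_mul_left hz hcardeq).symm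

/-- `|A G|` is a power of `p` -/
theorem card_A_eq_pow (p : ℕ) [Fact p.Prime] [CharP F p] (A : AddSubgroup F) :
    ∃ s, Nat.card A = p ^ s := by
  obtain ⟨n, -, hn⟩ := FiniteField.card F p
  have h1 : Nat.card A ∣ Nat.card F := AddSubgroup.card_addSubgroup_dvd_card A
  rw [Nat.card_eq_fintype_card (α := F), hn] at h1
  obtain ⟨s, -, hs⟩ := (Nat.dvd_prime_pow (Fact.out : p.Prime)).1 h1
  exact ⟨s, hs⟩

/-- `p` does not divide `t` -/
theorem not_dvd_theta (p : ℕ) [Fact p.Prime] [CharP F p] (G : Subgroup SL2) :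
    ¬ p ∣ Nat.card (theta G).range := by
  intro h
  have hdvd := card_range_theta_dvd G
  set M := Cfsg.Agent.H9.DicksonUN.Mul (A G) with hM
  have : CharP M p := RingHom.charP M.subtype Subtype.val_injective p
  let _ : Fintype M := Fintype.ofFinite M
  obtain ⟨n, -, hn⟩ := FiniteField.card M p
  rw [Nat.card_eq_fintype_card (α := M), hn] at hdvd
  have h1 : p ∣ p ^ (n : ℕ) - 1 := h.trans hdvd
  have h2 : p ∣ p ^ (n : ℕ) := dvd_pow_self p n.ne_zero
  have h3 : 1 ≤ p ^ (n : ℕ) := Nat.one_le_pow _ _ (Fact.out : p.Prime).pos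
  have h4 : p ∣ 1 := by
    have := Nat.dvd_sub h2 h1
    rwa [Nat.sub_sub_self h3] at this
  exact (Fact.out : p.Prime).one_lt.ne' (Nat.dvd_one.1 h4)

end Cfsg.Agent.Lib.Helper4.SL2Dick
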