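import Mathlib
import Cfsg.Agent.Lib.Helper4.SL2DickB

set_option autoImplicit false

namespace Cfsg.Agent.Lib.Helper4.SL2Dick

open Matrix
open Cfsg.Agent.H9.AutPSL2
open Cfsg.Agent.H9.DicksonSS
open Cfsg.Agent.H9.DicksonCE
open Cfsg.Agent.H9.DicksonQ
open Cfsg.Agent.H9.DicksonConcl
open Cfsg.Agent.H9.DicksonUN
open Cfsg.Agent.H9.DicksonMax

universe u

theorem card_alt4 : Nat.card (alternatingGroup (Fin 4)) = 12 := by
  have h := two_mul_card_alternatingGroup (α := Fin 4)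
  rw [Fintype.card_perm, Fintype.card_fin] at h
  rw [Nat.card_eq_fintype_card]
  have : Nat.factorial 4 = 24 := rfl
  omega

theorem card_alt5 : Nat.card (alternatingGroup (Fin 5)) = 60 := by
  have h := two_mul_card_alternatingGroup (α := Fin 5)
  rw [Fintype.card_perm, Fintype.card_fin] at h
  rw [Nat.card_eq_fintype_card]
  have : Nat.factorial 5 = 120 := rfl
  omega

theorem card_sym4 : Nat.card (Equiv.Perm (Fin 4)) = 24 := by
  rw [Nat.card_eq_fintype_card, Fintype.card_perm, Fintype.card_fin]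
  rfl

/-- arithmetic: a `p`-power dividing `a * b` with `b` prime to `p` divides `a` -/
theorem pow_dvd_of_dvd_mul {p s a b : ℕ} (hp : p.Prime) (h : p ^ s ∣ a * b) (hb : ¬ p ∣ b) :
    p ^ s ∣ a :=
  (Nat.Coprime.pow_left s ((Nat.Prime.coprime_iff_not_dvd hp).2 hb)).dvd_of_dvd_mul_right h

variable {F : Type u} [Field F] [Fintype F]

local notation "SL2" => Matrix.SpecialLinearGroup (Fin 2) F
local notation "PSL2" => Matrix.ProjectiveSpecialLinearGroup (Fin 2) F

/-- **Consequence of Dickson's theorem.** If `G ≤ SL₂(F)` contains the centre, a nontrivial lower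
unitriangular element, and its upper root group `A G` has order `≥ 61` divisible by `p²`, then
`|A G| ^ m = |F|` for some `m`. -/
theorem card_A_pow_eq (q p : ℕ) [Fact p.Prime] [CharP F p] (hq : Fintype.card F = q)
    (G : Subgroup SL2) (hZ : Subgroup.center SL2 ≤ G) {b : F} (hb : b ≠ 0) (hl : l b ∈ G)
    (hS : 61 ≤ Nat.card (A G)) (hp2 : p ^ 2 ∣ Nat.card (A G)) :
    ∃ m, Nat.card (A G) ^ m = q := by
  classical
  have hpp : p.Prime := Fact.out
  obtain ⟨c, hcA, hc⟩ : ∃ c ∈ A G, c ≠ 0 := by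
    by_contra hcon
    push Not at hcon
    have : A G = ⊥ := by
      rw [eq_bot_iff]
      intro a ha
      rw [AddSubgroup.mem_bot]
      exact hcon a ha
    rw [this] at hS
    simp at hS
  have hu : u c ∈ G := hcA
  have hconcl := caseII q p hq G hZ hc hu
  have hcardH := card_map_pr G hZ hc hu
  obtain ⟨s, hs⟩ := card_A_eq_pow p (A G)
  have hpT : ¬ p ∣ Nat.card (theta G).range := not_dvd_theta p G
  have hpS : p ∣ Nat.card (A G) := dvd_trans (dvd_pow_self p two_ne_zero) hp2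
  have hpΩ : ¬ p ∣ 1 + (Om G).ncard := by
    intro h
    have h1 : p ∣ (Om G).ncard := hpS.trans (card_A_dvd_Om G)
    have h2 : p ∣ 1 := (Nat.dvd_add_left h1).1 h
    exact hpp.one_lt.ne' (Nat.dvd_one.1 h2)
  have hSH : Nat.card (A G) ∣ Nat.card ↥(G.map (pr : SL2 →* PSL2)) := by
    rw [hcardH, mul_assoc]; exact dvd_mul_right _ _
  obtain ⟨e, -, he⟩ := FiniteField.card F p
  rw [hq] at he
  have hpq : p ∣ q := by rw [he]; exact dvd_pow_self p e.ne_zero
  have hq2 : 2 ≤ q := by rw [← hq]; exact Fintype.one_lt_card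
  rcases hconcl with ⟨k, hk, h | ⟨⟨f⟩⟩⟩ | ⟨P, K, hK, ⟨f⟩⟩ | ⟨⟨f⟩⟩ | ⟨⟨f⟩⟩ | ⟨⟨f⟩⟩ |
    ⟨K, i1, i2, m, hm, ⟨⟨f⟩⟩ | ⟨⟨f⟩⟩⟩
  · -- cyclic
    exfalso
    have hd2 : Nat.gcd 2 (q - 1) ∣ 2 := Nat.gcd_dvd_left _ _
    have hdq : Nat.gcd 2 (q - 1) ∣ q - 1 := Nat.gcd_dvd_right _ _
    have hdq' : Nat.gcd 2 (q - 1) ∣ q + 1 := by
      have : q + 1 = (q - 1) + 2 := by omega
      rw [this]; exact dvd_add hdq hd2
    have hpk : ¬ p ∣ k := by
      intro hpk
      rcases hk with hk | hk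
      · have h1 : p ∣ q + 1 := (hpk.trans hk).trans (Nat.div_dvd_of_dvd hdq')
        have h2 : p ∣ 1 := (Nat.dvd_add_right hpq).1 h1
        exact hpp.one_lt.ne' (Nat.dvd_one.1 h2)
      · have h1 : p ∣ q - 1 := (hpk.trans hk).trans (Nat.div_dvd_of_dvd hdq)
        have h3 : p ∣ q - (q - 1) := Nat.dvd_sub hpq h1
        have h4 : q - (q - 1) = 1 := by omega
        rw [h4] at h3
        exact hpp.one_lt.ne' (Nat.dvd_one.1 h3)
    exact hpk (hpS.trans (by rw [← h.2]; exact hSH))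
  · -- dihedral
    exfalso
    have hd2 : Nat.gcd 2 (q - 1) ∣ 2 := Nat.gcd_dvd_left _ _
    have hdq : Nat.gcd 2 (q - 1) ∣ q - 1 := Nat.gcd_dvd_right _ _
    have hdq' : Nat.gcd 2 (q - 1) ∣ q + 1 := by
      have : q + 1 = (q - 1) + 2 := by omega
      rw [this]; exact dvd_add hdq hd2
    have hpk : ¬ p ∣ k := by
      intro hpk
      rcases hk with hk | hk
      · have h1 : p ∣ q + 1 := (hpk.trans hk).trans (Nat.div_dvd_of_dvd hdq')
        have h2 : p ∣ 1 := (Nat.dvd_add_right hpq).1 h1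
        exact hpp.one_lt.ne' (Nat.dvd_one.1 h2)
      · have h1 : p ∣ q - 1 := (hpk.trans hk).trans (Nat.div_dvd_of_dvd hdq)
        have h3 : p ∣ q - (q - 1) := Nat.dvd_sub hpq h1
        have h4 : q - (q - 1) = 1 := by omega
        rw [h4] at h3
        exact hpp.one_lt.ne' (Nat.dvd_one.1 h3)
    have hcard : Nat.card ↥(G.map (pr : SL2 →* PSL2)) = 2 * k := by
      rw [Nat.card_congr f.toEquiv, DihedralGroup.nat_card]
    have h1 : p ^ 2 ∣ 2 * k := hp2.trans (by rw [← hcard]; exact hSH)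
    have h2 : p ^ 2 ∣ 2 := pow_dvd_of_dvd_mul hpp h1 hpk
    have h3 := Nat.le_of_dvd (by norm_num) h2
    have h4 : 2 ≤ p := hpp.two_le
    nlinarith
  · -- Borel
    exfalso
    have hmu : (pr (u c) : PSL2) ∈ G.map (pr : SL2 →* PSL2) := ⟨u c, hu, rfl⟩
    have hml : (pr (l b) : PSL2) ∈ G.map (pr : SL2 →* PSL2) := ⟨l b, hl, rfl⟩
    apply no_borel' p (X := ↥(G.map (pr : SL2 →* PSL2))) ⟨_, hmu⟩ ⟨_, hml⟩ 1 1 _ _ _
      (K.subtype.comp f.toMonoidHom) (K.subtype_injective.comp f.injective) P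
    · intro x
      exact hK (f x).2
    · apply Subtype.ext
      rw [pow_one]
      exact pr_u_pow p c
    · apply Subtype.ext
      rw [pow_one]
      exact pr_l_pow' p b
    · intro h
      exact pr_u_l_ne' hc hb (congrArg Subtype.val h)
  · exfalso
    have hcard : Nat.card ↥(G.map (pr : SL2 →* PSL2)) = 12 := by
      rw [Nat.card_congr f.toEquiv, card_alt4]
    rw [hcard] at hSH
    have := Nat.le_of_dvd (by norm_num) hSH
    omega
  · exfalso
    have hcard : Nat.card ↥(G.map (pr : SL2 →* PSL2)) = 24 := by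
      rw [Nat.card_congr f.toEquiv, card_sym4]
    rw [hcard] at hSH
    have := Nat.le_of_dvd (by norm_num) hSH
    omega
  · exfalso
    have hcard : Nat.card ↥(G.map (pr : SL2 →* PSL2)) = 60 := by
      rw [Nat.card_congr f.toEquiv, card_alt5]
    rw [hcard] at hSH
    have := Nat.le_of_dvd (by norm_num) hSH
    omega
  · -- `PSL₂(K)`
    refine ⟨m, ?_⟩
    have hm0 : m ≠ 0 := by
      rintro rfl
      rw [pow_zero] at hm
      omega
    have hκq : Fintype.card K ∣ q := by rw [← hm]; exact dvd_pow_self _ hm0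
    rw [he] at hκq
    obtain ⟨j, -, hj⟩ := (Nat.dvd_prime_pow hpp).1 hκq
    have hκ2 : 2 ≤ Fintype.card K := Fintype.one_lt_card
    have hj0 : j ≠ 0 := by
      rintro rfl
      rw [pow_zero] at hj
      omega
    have hpκ : p ∣ Fintype.card K := by rw [hj]; exact dvd_pow_self p hj0
    have hcard := card_PSL2_mul K
    rw [← Nat.card_congr f.toEquiv] at hcard
    have hpκ2 : ¬ p ∣ Fintype.card K ^ 2 - 1 := by
      intro h
      have h1 : p ∣ Fintype.card K ^ 2 := hpκ.trans (dvd_pow_self _ two_ne_zero)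
      have h2 : 1 ≤ Fintype.card K ^ 2 := Nat.one_le_pow _ _ (by omega)
      have h3 := Nat.dvd_sub h1 h
      rw [Nat.sub_sub_self h2] at h3
      exact hpp.one_lt.ne' (Nat.dvd_one.1 h3)
    have hpd : ¬ p ∣ Nat.gcd 2 (Fintype.card K - 1) := by
      intro h
      have h1 : p ∣ Fintype.card K - 1 := h.trans (Nat.gcd_dvd_right _ _)
      have h3 := Nat.dvd_sub hpκ h1
      have h4 : Fintype.card K - (Fintype.card K - 1) = 1 := by omega
      rw [h4] at h3
      exact hpp.one_lt.ne' (Nat.dvd_one.1 h3)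
    -- `s ≤ j`
    have h1 : p ^ s ∣ Fintype.card K * (Fintype.card K ^ 2 - 1) := by
      rw [← hs, ← hcard]
      exact hSH.trans (dvd_mul_right _ _)
    have h2 : p ^ s ∣ p ^ j := by
      rw [← hj]; exact pow_dvd_of_dvd_mul hpp h1 hpκ2
    have hsj : s ≤ j := (Nat.pow_dvd_pow_iff_le_right hpp.one_lt).1 h2
    -- `j ≤ s`
    have h3 : p ^ j ∣ Nat.card (A G) * Nat.card (theta G).range * (1 + (Om G).ncard) *
        Nat.gcd 2 (Fintype.card K - 1) := by
      rw [← hcardH, hcard, ← hj]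
      exact dvd_mul_right _ _
    have h4 : p ^ j ∣ p ^ s := by
      rw [← hs]
      exact pow_dvd_of_dvd_mul hpp (pow_dvd_of_dvd_mul hpp (pow_dvd_of_dvd_mul hpp h3 hpd) hpΩ) hpT
    have hjs : j ≤ s := (Nat.pow_dvd_pow_iff_le_right hpp.one_lt).1 h4
    have : s = j := le_antisymm hsj hjs
    rw [hs, this, ← hj, hm]
  · -- `PGL₂(K)`
    refine ⟨m, ?_⟩
    have hm0 : m ≠ 0 := by
      rintro rfl
      rw [pow_zero] at hm
      omega
    have hκq : Fintype.card K ∣ q := by rw [← hm]; exact dvd_pow_self _ hm0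
    rw [he] at hκq
    obtain ⟨j, -, hj⟩ := (Nat.dvd_prime_pow hpp).1 hκq
    have hκ2 : 2 ≤ Fintype.card K := Fintype.one_lt_card
    have hj0 : j ≠ 0 := by
      rintro rfl
      rw [pow_zero] at hj
      omega
    have hpκ : p ∣ Fintype.card K := by rw [hj]; exact dvd_pow_self p hj0
    have hcard := Cfsg.Agent.H9.PGL.card_PGL (F := K)
    rw [← Nat.card_congr f.toEquiv] at hcard
    have hpκ2 : ¬ p ∣ Fintype.card K ^ 2 - 1 := by
      intro h
      have h1 : p ∣ Fintype.card K ^ 2 := hpκ.trans (dvd_pow_self _ two_ne_zero)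
      have h2 : 1 ≤ Fintype.card K ^ 2 := Nat.one_le_pow _ _ (by omega)
      have h3 := Nat.dvd_sub h1 h
      rw [Nat.sub_sub_self h2] at h3
      exact hpp.one_lt.ne' (Nat.dvd_one.1 h3)
    have h1 : p ^ s ∣ Fintype.card K * (Fintype.card K ^ 2 - 1) := by
      rw [← hs, ← hcard]
      exact hSH
    have h2 : p ^ s ∣ p ^ j := by
      rw [← hj]; exact pow_dvd_of_dvd_mul hpp h1 hpκ2
    have hsj : s ≤ j := (Nat.pow_dvd_pow_iff_le_right hpp.one_lt).1 h2
    have h3 : p ^ j ∣ Nat.card (A G) * Nat.card (theta G).range * (1 + (Om G).ncard) := by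
      rw [← hcardH, hcard, ← hj]
      exact dvd_mul_right _ _
    have h4 : p ^ j ∣ p ^ s := by
      rw [← hs]
      exact pow_dvd_of_dvd_mul hpp (pow_dvd_of_dvd_mul hpp h3 hpΩ) hpT
    have hjs : j ≤ s := (Nat.pow_dvd_pow_iff_le_right hpp.one_lt).1 h4
    have : s = j := le_antisymm hsj hjs
    rw [hs, this, ← hj, hm]

end Cfsg.Agent.Lib.Helper4.SL2Dick
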