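import Mathlib
import Cfsg.Agent.Lib.Helper4.SL2DickC

set_option autoImplicit false

namespace Cfsg.Agent.Lib.Helper4.SL2Dick

open Matrix
open Cfsg.Agent.H9.AutPSL2
open Cfsg.Agent.H9.DicksonUN

universe u

variable {F : Type u} [Field F]

local notation "SL2" => Matrix.SpecialLinearGroup (Fin 2) F

/-- adjoining the centre does not change the upper root group -/
theorem A_sup_center (p : ℕ) [Fact p.Prime] [CharP F p] (G : Subgroup SL2) (a : F) :
    a ∈ A (G ⊔ Subgroup.center SL2) ↔ a ∈ A G := by
  constructor
  · intro ha
    rw [mem_A, Subgroup.mem_sup_of_normal_right] at ha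
    obtain ⟨y, hy, z, hz, hyz⟩ := ha
    rcases (mem_center_iff' z).1 hz with rfl | rfl
    · rw [mul_one] at hyz
      rw [mem_A, ← hyz]; exact hy
    · -- `y = - u a`
      have hy' : y = -u a := by
        rw [← hyz]; simp
      have h2 : u (2 * a) ∈ G := by
        have : u (2 * a) = y * y := by
          rw [hy', two_mul, u_add]; simp
        rw [this]; exact G.mul_mem hy hy
      have h2' : (2 * a) ∈ A G := h2
      by_cases hp2 : p = 2
      · -- characteristic two: `-1 = 1`
        have h20 : (2 : F) = 0 := by
          have := CharP.cast_eq_zero F p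
          rw [hp2] at this
          exact_mod_cast this
        have hneg : (-1 : SL2) = 1 := by
          apply ext4 <;> simp [Matrix.SpecialLinearGroup.coe_neg] <;>
            linear_combination (-1 : F) * h20
        have : y = u a := by
          rw [← hyz, hneg, mul_one]
        rw [mem_A, ← this]; exact hy
      · -- odd characteristic: `a = ((p+1)/2) • (2a)`
        have hodd : Odd p := (Fact.out : p.Prime).odd_of_ne_two hp2
        obtain ⟨k, hk⟩ := hodd
        have h3 : (k + 1) • (2 * a) ∈ A G := (A G).nsmul_mem h2' (k + 1)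
        have h4 : (k + 1) • (2 * a) = a := by
          rw [nsmul_eq_mul]
          have h5 : ((p : ℕ) : F) = 0 := CharP.cast_eq_zero F p
          rw [hk] at h5
          push_cast at h5 ⊢
          linear_combination a * h5
        rwa [h4] at h3
  · intro ha
    exact (le_sup_left : G ≤ G ⊔ Subgroup.center SL2) ha

variable [Fintype F]

/-- **Consequence of Dickson's theorem**, without assuming that `G` contains the centre. -/
theorem card_A_pow_eq' (q p : ℕ) [Fact p.Prime] [CharP F p] (hq : Fintype.card F = q)
    (G : Subgroup SL2) {b : F} (hb : b ≠ 0) (hl : l b ∈ G)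
    (hS : 61 ≤ Nat.card (A G)) (hp2 : p ^ 2 ∣ Nat.card (A G)) :
    ∃ m, Nat.card (A G) ^ m = q := by
  have hA : A (G ⊔ Subgroup.center SL2) = A G := by
    ext a; exact A_sup_center p G a
  have := card_A_pow_eq q p hq (G ⊔ Subgroup.center SL2) le_sup_right hb
    ((le_sup_left : G ≤ G ⊔ Subgroup.center SL2) hl) (by rw [hA]; exact hS) (by rw [hA]; exact hp2)
  rwa [hA] at this

end Cfsg.Agent.Lib.Helper4.SL2Dick
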