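import Mathlib
import Cfsg.Agent.H1.Basic
import Cfsg.Agent.H1.Card
import Cfsg.Agent.Lib.helper3.Central

set_option autoImplicit false

/-!
# Groups with a self-centralizing element of prime order

`x : G` has prime order `p` and `C_G(x) = ⟨x⟩`.
-/

namespace Cfsg.Agent.Lib.Helper4.SelfCentP

open Cfsg.Agent.H1

variable {G : Type*} [Group G]

section basic

variable {p : ℕ} {x : G}

theorem card_P (hx : orderOf x = p) : Nat.card (Subgroup.zpowers x) = p := by
  rw [Nat.card_zpowers, hx]

theorem x_ne_one (hp : p.Prime) (hx : orderOf x = p) : x ≠ 1 := by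
  rintro rfl
  rw [orderOf_one] at hx
  exact hp.one_lt.ne' hx.symm

theorem orderOf_eq_of_mem (hp : p.Prime) (hx : orderOf x = p) {y : G}
    (hy : y ∈ Subgroup.zpowers x) (hy1 : y ≠ 1) : orderOf y = p := by
  have h1 : orderOf y ∣ p := by
    have := orderOf_dvd_natCard (⟨y, hy⟩ : Subgroup.zpowers x)
    rw [Subgroup.orderOf_mk, card_P hx] at this
    exact this
  rcases (Nat.dvd_prime hp).mp h1 with h | h
  · exact absurd (orderOf_eq_one_iff.mp h) hy1
  · exact h

theorem zpowers_eq_of_mem [Finite G] (hp : p.Prime) (hx : orderOf x = p) {y : G}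
    (hy : y ∈ Subgroup.zpowers x) (hy1 : y ≠ 1) : Subgroup.zpowers y = Subgroup.zpowers x := by
  apply Subgroup.eq_of_le_of_card_ge
  · rw [Subgroup.zpowers_le]; exact hy
  · rw [Nat.card_zpowers, Nat.card_zpowers, hx, orderOf_eq_of_mem hp hx hy hy1]

theorem centralizer_eq_of_mem [Finite G] (hp : p.Prime) (hx : orderOf x = p)
    (hC : Subgroup.centralizer ({x} : Set G) = Subgroup.zpowers x) {y : G}
    (hy : y ∈ Subgroup.zpowers x) (hy1 : y ≠ 1) :
    Subgroup.centralizer ({y} : Set G) = Subgroup.zpowers x := by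
  have hxy : x ∈ Subgroup.zpowers y := by
    rw [zpowers_eq_of_mem hp hx hy hy1]; exact Subgroup.mem_zpowers x
  rw [← hC]
  ext g
  rw [Subgroup.mem_centralizer_singleton_iff, Subgroup.mem_centralizer_singleton_iff]
  constructor
  · intro h
    obtain ⟨k, rfl⟩ := Subgroup.mem_zpowers_iff.mp hxy
    exact ((Commute.zpow_right (show Commute g y from h) k)).eq
  · intro h
    obtain ⟨k, rfl⟩ := Subgroup.mem_zpowers_iff.mp hy
    exact ((Commute.zpow_right (show Commute g x from h) k)).eq

/-- `⟨x⟩` is a Sylow `p`-subgroup -/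
theorem exists_sylow [Finite G] [hpf : Fact p.Prime] (hx : orderOf x = p)
    (hC : Subgroup.centralizer ({x} : Set G) = Subgroup.zpowers x) :
    ∃ Q : Sylow p G, (Q : Subgroup G) = Subgroup.zpowers x := by
  have hp := hpf.out
  have hPp : IsPGroup p (Subgroup.zpowers x) :=
    IsPGroup.of_card (n := 1) (by rw [card_P hx, pow_one])
  obtain ⟨Q, hQ⟩ := hPp.exists_le_sylow
  refine ⟨Q, ?_⟩
  have hxQ : x ∈ (Q : Subgroup G) := hQ (Subgroup.mem_zpowers x)
  haveI : Nontrivial (Q : Subgroup G) :=
    ⟨⟨⟨x, hxQ⟩, 1, fun h => x_ne_one hp hx (congrArg Subtype.val h)⟩⟩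
  haveI := (Q.isPGroup').center_nontrivial
  obtain ⟨z, hz1⟩ := exists_ne (1 : Subgroup.center (Q : Subgroup G))
  have hzx : ((z : (Q : Subgroup G)) : G) * x = x * ((z : (Q : Subgroup G)) : G) := by
    have := Subgroup.mem_center_iff.mp z.2 ⟨x, hxQ⟩
    have h2 := congrArg Subtype.val this
    simpa using h2.symm
  have hzP : ((z : (Q : Subgroup G)) : G) ∈ Subgroup.zpowers x := by
    rw [← hC, Subgroup.mem_centralizer_singleton_iff]
    exact hzx
  have hz1' : ((z : (Q : Subgroup G)) : G) ≠ 1 := by
    intro h
    apply hz1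
    apply Subtype.ext
    apply Subtype.ext
    simpa using h
  have hCz := centralizer_eq_of_mem hp hx hC hzP hz1'
  apply le_antisymm
  · intro q hq
    rw [← hCz, Subgroup.mem_centralizer_singleton_iff]
    have := Subgroup.mem_center_iff.mp z.2 ⟨q, hq⟩
    have h2 := congrArg Subtype.val this
    simpa using h2
  · exact hQ

/-- every element of order `p` is conjugate to a nonidentity element of `⟨x⟩` -/
theorem exists_conj_mem [Finite G] [hpf : Fact p.Prime] (hx : orderOf x = p)
    (hC : Subgroup.centralizer ({x} : Set G) = Subgroup.zpowers x) {g : G}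
    (hg : orderOf g = p) : ∃ h : G, h * g * h⁻¹ ∈ Subgroup.zpowers x ∧ h * g * h⁻¹ ≠ 1 := by
  have hp := hpf.out
  obtain ⟨Q, hQ⟩ := exists_sylow hx hC
  have hgp : IsPGroup p (Subgroup.zpowers g) :=
    IsPGroup.of_card (n := 1) (by rw [Nat.card_zpowers, hg, pow_one])
  obtain ⟨Q', hQ'⟩ := hgp.exists_le_sylow
  obtain ⟨h, hh⟩ := MulAction.exists_smul_eq G Q' Q
  refine ⟨h, ?_, ?_⟩
  · rw [← hQ, ← hh]
    exact (conj_mem_sylow_smul h g Q').mpr (hQ' (Subgroup.mem_zpowers g))
  · intro h1
    have : g = 1 := by
      have : g = h⁻¹ * (h * g * h⁻¹) * h := by group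
      rw [this, h1]; group
    rw [this, orderOf_one] at hg
    exact hp.one_lt.ne' hg.symm

/-- the number of subgroups of order `p` is the index of the normalizer of `⟨x⟩` -/
theorem card_subgroups_eq_index [Finite G] [hpf : Fact p.Prime] (hx : orderOf x = p)
    (hC : Subgroup.centralizer ({x} : Set G) = Subgroup.zpowers x) :
    Nat.card {H : Subgroup G // Nat.card H = p} =
      (Subgroup.normalizer (Subgroup.zpowers x : Set G)).index := by
  obtain ⟨Q, hQ⟩ := exists_sylow hx hC
  have hk : (Nat.card G).factorization p = 1 := by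
    have h1 := Q.card_eq_multiplicity
    rw [hQ, card_P hx] at h1
    have h2 : p ^ 1 = p ^ (Nat.card G).factorization p := by rw [pow_one]; exact h1
    exact (Nat.pow_right_injective hpf.out.two_le h2).symm
  have e : {H : Subgroup G // Nat.card H = p} ≃ Sylow p G :=
    { toFun := fun H => Sylow.ofCard H.1 (by rw [hk, pow_one]; exact H.2)
      invFun := fun R => ⟨R.1, by rw [R.card_eq_multiplicity, hk, pow_one]⟩
      left_inv := fun H => rfl
      right_inv := fun R => Sylow.ext rfl }
  rw [Nat.card_congr e, Sylow.card_eq_index_normalizer Q]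
  have hset : (Q : Set G) = (Subgroup.zpowers x : Set G) := by rw [← hQ]; rfl
  rw [hset]

end basic

section normal

variable [Finite G] {p : ℕ} {x : G} (S : Subgroup G) [hS : S.Normal]

/-- If `x` acts on the normal subgroup `S` without nontrivial fixed points, every element of `S`
is a commutator `s x s⁻¹ x⁻¹` with `s ∈ S`. -/
theorem exists_comm_eq (hfree : ∀ s ∈ S, s * x = x * s → s = 1) (u : G) (hu : u ∈ S) :
    ∃ s ∈ S, s * x * s⁻¹ * x⁻¹ = u := by
  have hmem : ∀ s : S, (s : G) * x * (s : G)⁻¹ * x⁻¹ ∈ S := by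
    intro s
    have h1 : x * (s : G)⁻¹ * x⁻¹ ∈ S := hS.conj_mem _ (S.inv_mem s.2) x
    have : (s : G) * x * (s : G)⁻¹ * x⁻¹ = (s : G) * (x * (s : G)⁻¹ * x⁻¹) := by group
    rw [this]
    exact S.mul_mem s.2 h1
  let ψ : S → S := fun s => ⟨(s : G) * x * (s : G)⁻¹ * x⁻¹, hmem s⟩
  have hinj : Function.Injective ψ := by
    intro s s' h
    have h1 : (s : G) * x * (s : G)⁻¹ * x⁻¹ = (s' : G) * x * (s' : G)⁻¹ * x⁻¹ :=
      congrArg Subtype.val h
    have h2 : (s : G) * x * (s : G)⁻¹ = (s' : G) * x * (s' : G)⁻¹ := mul_right_cancel h1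
    have h3 : ((s' : G)⁻¹ * (s : G)) * x = x * ((s' : G)⁻¹ * (s : G)) := by
      calc ((s' : G)⁻¹ * (s : G)) * x = (s' : G)⁻¹ * ((s : G) * x * (s : G)⁻¹) * (s : G) := by group
        _ = (s' : G)⁻¹ * ((s' : G) * x * (s' : G)⁻¹) * (s : G) := by rw [h2]
        _ = x * ((s' : G)⁻¹ * (s : G)) := by group
    have h4 := hfree _ (S.mul_mem (S.inv_mem s'.2) s.2) h3
    apply Subtype.ext
    exact (inv_mul_eq_one.mp h4).symm
  have hsurj : Function.Surjective ψ := Finite.surjective_of_injective hinj
  obtain ⟨s, hs⟩ := hsurj ⟨u, hu⟩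
  exact ⟨s, s.2, congrArg Subtype.val hs⟩

/-- If `x` of prime order `p` acts on the normal subgroup `S` without nontrivial fixed points,
then `|S| ≡ 1 (mod p)`. -/
theorem card_mod_eq_one [hpf : Fact p.Prime] (hx : orderOf x = p)
    (hfree : ∀ s ∈ S, s * x = x * s → s = 1) : Nat.card S % p = 1 := by
  have hPp : IsPGroup p (Subgroup.zpowers x) :=
    IsPGroup.of_card (n := 1) (by rw [card_P hx, pow_one])
  letI : MulAction (Subgroup.zpowers x) S :=
    MulAction.compHom S ((MulAut.conjNormal (H := S)).comp (Subgroup.zpowers x).subtype)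
  have hsmul : ∀ (z : Subgroup.zpowers x) (s : S), ((z • s : S) : G) = z * s * (z : G)⁻¹ := by
    intro z s
    rfl
  have h1 := hPp.card_modEq_card_fixedPoints S
  have h2 : Nat.card (MulAction.fixedPoints (Subgroup.zpowers x) S) = 1 := by
    rw [Nat.card_eq_one_iff_unique]
    refine ⟨⟨?_⟩, ⟨⟨1, ?_⟩⟩⟩
    · rintro ⟨a, ha⟩ ⟨b, hb⟩
      have hfix : ∀ c : S, c ∈ MulAction.fixedPoints (Subgroup.zpowers x) S → c = 1 := by
        intro c hc
        have h3 := hc ⟨x, Subgroup.mem_zpowers x⟩
        have h4 : x * (c : G) * x⁻¹ = c := by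
          have := congrArg Subtype.val h3
          rw [hsmul] at this
          exact this
        have h5 : (c : G) * x = x * (c : G) := by
          calc (c : G) * x = (x * (c : G) * x⁻¹) * x := by rw [h4]
            _ = x * (c : G) := by group
        exact Subtype.ext (hfree c c.2 h5)
      apply Subtype.ext
      exact (hfix a ha).trans (hfix b hb).symm
    · intro z
      apply Subtype.ext
      rw [hsmul]
      simp
  rw [h2] at h1
  have hp1 : 1 % p = 1 := Nat.mod_eq_of_lt hpf.out.one_lt
  rw [← hp1]
  exact h1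

end normal

section counting

open Classical in
/-- the number of elements of order `p` is `(p - 1)` times the number of subgroups of order `p` -/
theorem card_order_p [Fintype G] {p : ℕ} (hp : p.Prime) :
    (Finset.univ.filter (fun g : G => orderOf g = p)).card =
      Nat.card {H : Subgroup G // Nat.card H = p} * (p - 1) := by
  classical
  have hfib := Finset.card_eq_sum_card_fiberwise
    (f := fun g : G => Subgroup.zpowers g)
    (s := Finset.univ.filter (fun g : G => orderOf g = p))
    (t := Finset.univ.filter (fun H : Subgroup G => Nat.card H = p))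
    (by
      intro g hg
      have hg' : orderOf g = p := (Finset.mem_filter.mp hg).2
      rw [Finset.mem_coe, Finset.mem_filter]
      exact ⟨Finset.mem_univ _, by rw [Nat.card_zpowers, hg']⟩)
  rw [hfib]
  have hconst : ∀ H ∈ Finset.univ.filter (fun H : Subgroup G => Nat.card H = p),
      ((Finset.univ.filter (fun g : G => orderOf g = p)).filter
        (fun g => Subgroup.zpowers g = H)).card = p - 1 := by
    intro H hH
    have hHp : Nat.card H = p := (Finset.mem_filter.mp hH).2
    have hset : (Finset.univ.filter (fun g : G => orderOf g = p)).filter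
        (fun g => Subgroup.zpowers g = H) = (Finset.univ.filter (fun g : G => g ∈ H)).erase 1 := by
      ext g
      simp only [Finset.mem_filter, Finset.mem_univ, true_and, Finset.mem_erase]
      constructor
      · rintro ⟨ho, hz⟩
        refine ⟨?_, ?_⟩
        · rintro rfl
          rw [orderOf_one] at ho
          exact hp.one_lt.ne' ho.symm
        · rw [← hz]; exact Subgroup.mem_zpowers g
      · rintro ⟨h1, hgH⟩
        have hdvd : orderOf g ∣ p := by
          have := orderOf_dvd_natCard (⟨g, hgH⟩ : H)
          rwa [Subgroup.orderOf_mk, hHp] at this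
        have ho : orderOf g = p := by
          rcases (Nat.dvd_prime hp).mp hdvd with h | h
          · exact absurd (orderOf_eq_one_iff.mp h) h1
          · exact h
        refine ⟨ho, ?_⟩
        apply Subgroup.eq_of_le_of_card_ge
        · rw [Subgroup.zpowers_le]; exact hgH
        · rw [Nat.card_zpowers, ho, hHp]
    rw [hset, Finset.card_erase_of_mem (by simp [H.one_mem])]
    congr 1
    rw [← hHp, Nat.card_eq_fintype_card, Fintype.card_subtype]
  rw [Finset.sum_congr rfl hconst, Finset.sum_const, smul_eq_mul]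
  congr 1
  rw [Nat.card_eq_fintype_card, Fintype.card_subtype]

open Classical in
/-- With `x` self-centralizing of prime order `p`: the number of classes of elements of order `p`
times the index of `⟨x⟩` in its normalizer is `p - 1`. -/
theorem card_classes_mul [Finite G] {p : ℕ} [hpf : Fact p.Prime] {x : G} (hx : orderOf x = p)
    (hC : Subgroup.centralizer ({x} : Set G) = Subgroup.zpowers x) :
    Nat.card {C : ConjClasses G // ∃ g ∈ C.carrier, orderOf g = p} *
      (Subgroup.zpowers x).relIndex (Subgroup.normalizer (Subgroup.zpowers x : Set G)) = p - 1 := by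
  classical
  letI : Fintype G := Fintype.ofFinite G
  have hp := hpf.out
  -- fiberwise count over classes
  have hfib := Finset.card_eq_sum_card_fiberwise
    (f := fun g : G => ConjClasses.mk g)
    (s := Finset.univ.filter (fun g : G => orderOf g = p))
    (t := Finset.univ.filter (fun C : ConjClasses G => ∃ g ∈ C.carrier, orderOf g = p))
    (by
      intro g hg
      have hg' : orderOf g = p := (Finset.mem_filter.mp hg).2
      rw [Finset.mem_coe, Finset.mem_filter]
      exact ⟨Finset.mem_univ _, g, ConjClasses.mem_carrier_mk, hg'⟩)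
  have hconst : ∀ C ∈ Finset.univ.filter
      (fun C : ConjClasses G => ∃ g ∈ C.carrier, orderOf g = p),
      ((Finset.univ.filter (fun g : G => orderOf g = p)).filter
        (fun g => ConjClasses.mk g = C)).card = (Subgroup.zpowers x).index := by
    intro C hCm
    obtain ⟨g₀, hg₀C, hg₀⟩ := (Finset.mem_filter.mp hCm).2
    obtain ⟨h, hmem, hne⟩ := exists_conj_mem hx hC hg₀
    set y := h * g₀ * h⁻¹ with hy
    have hCy : C = ConjClasses.mk y := by
      rw [← ConjClasses.mem_carrier_iff_mk_eq.mp hg₀C, ConjClasses.mk_eq_mk_iff_isConj]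
      exact isConj_iff.mpr ⟨h, rfl⟩
    have hset : (Finset.univ.filter (fun g : G => orderOf g = p)).filter
        (fun g => ConjClasses.mk g = C) = Finset.univ.filter (fun g : G => IsConj y g) := by
      ext g
      simp only [Finset.mem_filter, Finset.mem_univ, true_and]
      rw [hCy, ConjClasses.mk_eq_mk_iff_isConj]
      constructor
      · rintro ⟨-, hc⟩
        exact hc.symm
      · intro hc
        refine ⟨?_, hc.symm⟩
        obtain ⟨c, hc'⟩ := isConj_iff.mp hc
        rw [← hc']
        have hsc : SemiconjBy c y (c * y * c⁻¹) := by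
          show c * y = c * y * c⁻¹ * c
          group
        rw [← SemiconjBy.orderOf_eq _ hsc]
        exact orderOf_eq_of_mem hp hx hmem hne
    rw [hset, Cfsg.Agent.Lib.helper3.Central.card_class_eq_index y,
      centralizer_eq_of_mem hp hx hC hmem hne]
  rw [Finset.sum_congr rfl hconst, Finset.sum_const, smul_eq_mul, card_order_p hp,
    card_subgroups_eq_index hx hC] at hfib
  have ht : Nat.card {C : ConjClasses G // ∃ g ∈ C.carrier, orderOf g = p} =
      (Finset.univ.filter
        (fun C : ConjClasses G => ∃ g ∈ C.carrier, orderOf g = p)).card := by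
    rw [Nat.card_eq_fintype_card, Fintype.card_subtype]
  rw [ht]
  set N := Subgroup.normalizer (Subgroup.zpowers x : Set G) with hN
  have hidx : (Subgroup.zpowers x).relIndex N * N.index = (Subgroup.zpowers x).index :=
    Subgroup.relIndex_mul_index Subgroup.le_normalizer
  rw [← hidx] at hfib
  have hNpos : 0 < N.index := Nat.pos_of_ne_zero Subgroup.index_ne_zero_of_finite
  apply Nat.eq_of_mul_eq_mul_right hNpos
  rw [mul_assoc, ← hfib, mul_comm]

end counting

end Cfsg.Agent.Lib.Helper4.SelfCentP
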