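import Mathlib
import Cfsg.Agent.Lib.Helper4.SelfCentP

set_option autoImplicit false

/-!
# Groups with a self-centralizing element of prime order, part 2
-/

namespace Cfsg.Agent.Lib.Helper4.SelfCentP

open scoped commutatorElement

variable {G : Type*} [Group G] [Finite G] {p : ℕ} {x : G}

/-- a subgroup of order prime to `p` meets `⟨x⟩` trivially -/
theorem inf_zpowers_of_not_dvd (hp : p.Prime) (hx : orderOf x = p) (S : Subgroup G)
    (hnd : ¬ p ∣ Nat.card S) : ∀ s ∈ S, s ∈ Subgroup.zpowers x → s = 1 := by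
  intro s hs hsP
  by_contra hs1
  have ho := orderOf_eq_of_mem hp hx hsP hs1
  apply hnd
  rw [← ho]
  have := orderOf_dvd_natCard (⟨s, hs⟩ : S)
  rwa [Subgroup.orderOf_mk] at this

theorem free_of_not_dvd (hp : p.Prime) (hx : orderOf x = p)
    (hC : Subgroup.centralizer ({x} : Set G) = Subgroup.zpowers x) (S : Subgroup G)
    (hnd : ¬ p ∣ Nat.card S) : ∀ s ∈ S, s * x = x * s → s = 1 := by
  intro s hs hsx
  apply inf_zpowers_of_not_dvd hp hx S hnd s hs
  rw [← hC, Subgroup.mem_centralizer_singleton_iff]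
  exact hsx

/-- a normal subgroup of order prime to `p` meets the normalizer of `⟨x⟩` trivially -/
theorem inf_normalizer_of_not_dvd (hp : p.Prime) (hx : orderOf x = p)
    (hC : Subgroup.centralizer ({x} : Set G) = Subgroup.zpowers x) (S : Subgroup G)
    [hS : S.Normal] (hnd : ¬ p ∣ Nat.card S) :
    ∀ s ∈ S, s ∈ Subgroup.normalizer (Subgroup.zpowers x : Set G) → s = 1 := by
  intro s hsS hsN
  apply free_of_not_dvd hp hx hC S hnd s hsS
  have h1 : s * x * s⁻¹ ∈ Subgroup.zpowers x :=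
    (Subgroup.mem_normalizer_iff.mp hsN x).mp (Subgroup.mem_zpowers x)
  have h2 : s * x * s⁻¹ * x⁻¹ ∈ Subgroup.zpowers x :=
    (Subgroup.zpowers x).mul_mem h1 ((Subgroup.zpowers x).inv_mem (Subgroup.mem_zpowers x))
  have h3 : s * x * s⁻¹ * x⁻¹ ∈ S := by
    have : s * x * s⁻¹ * x⁻¹ = s * (x * s⁻¹ * x⁻¹) := by group
    rw [this]
    exact S.mul_mem hsS (hS.conj_mem _ (S.inv_mem hsS) x)
  have h4 := inf_zpowers_of_not_dvd hp hx S hnd _ h3 h2
  calc s * x = (s * x * s⁻¹ * x⁻¹) * x * s := by group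
    _ = x * s := by rw [h4, one_mul]

/-- the order of the group -/
theorem card_eq (hx : orderOf x = p) :
    Nat.card G = p * ((Subgroup.zpowers x).relIndex
      (Subgroup.normalizer (Subgroup.zpowers x : Set G)) *
      (Subgroup.normalizer (Subgroup.zpowers x : Set G)).index) := by
  rw [Subgroup.relIndex_mul_index Subgroup.le_normalizer, ← card_P hx,
    Subgroup.card_mul_index]

/-- the order of the normalizer -/
theorem card_normalizer (hx : orderOf x = p) :
    Nat.card (Subgroup.normalizer (Subgroup.zpowers x : Set G)) =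
      p * (Subgroup.zpowers x).relIndex (Subgroup.normalizer (Subgroup.zpowers x : Set G)) := by
  have h1 := card_eq (G := G) hx
  have h2 := (Subgroup.normalizer (Subgroup.zpowers x : Set G)).card_mul_index
  have hpos : 0 < (Subgroup.normalizer (Subgroup.zpowers x : Set G)).index :=
    Nat.pos_of_ne_zero Subgroup.index_ne_zero_of_finite
  apply Nat.eq_of_mul_eq_mul_right hpos
  rw [h2, h1, mul_assoc]

/-- commutators modulo a normal subgroup -/
theorem comm_mul_mem (S : Subgroup G) [hS : S.Normal] (n₁ n₂ s₁ s₂ : G) (hs₁ : s₁ ∈ S)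
    (hs₂ : s₂ ∈ S) : (n₁ * n₂ * n₁⁻¹ * n₂⁻¹)⁻¹ * ⁅n₁ * s₁, n₂ * s₂⁆ ∈ S := by
  apply (QuotientGroup.eq_one_iff (N := S) _).mp
  have e1 : ((s₁ : G) : G ⧸ S) = 1 := (QuotientGroup.eq_one_iff _).mpr hs₁
  have e2 : ((s₂ : G) : G ⧸ S) = 1 := (QuotientGroup.eq_one_iff _).mpr hs₂
  rw [commutatorElement_def]
  simp only [QuotientGroup.mk_mul, QuotientGroup.mk_inv, e1, e2, mul_one]
  group

end Cfsg.Agent.Lib.Helper4.SelfCentP
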