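import Mathlib

set_option autoImplicit false
set_option linter.unusedSectionVars false

namespace Cfsg.Agent.Lib.Helper4.SelfPaired

variable {G : Type*} [Group G] [Fintype G] {Ω : Type*} [Fintype Ω] [DecidableEq Ω] [MulAction G Ω]

/-- the number of group elements interchanging two points -/
def swapCount (a b : Ω) : ℕ := (Finset.univ.filter (fun g : G => g • a = b ∧ g • b = a)).card

/-- the number of group elements fixing two points -/
def fixCount (a b : Ω) : ℕ := (Finset.univ.filter (fun g : G => g • a = a ∧ g • b = b)).card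

theorem fixCount_pos (a b : Ω) : 0 < fixCount (G := G) a b := by
  unfold fixCount
  rw [Finset.card_pos]
  exact ⟨1, by simp⟩

theorem swapCount_eq_of_exists (a b : Ω) (t : G) (hta : t • a = b) (htb : t • b = a) :
    swapCount (G := G) a b = fixCount (G := G) a b := by
  unfold swapCount fixCount
  apply Finset.card_equiv (Equiv.mulLeft t⁻¹)
  intro g
  simp only [Finset.mem_filter, Finset.mem_univ, true_and, Equiv.coe_mulLeft, mul_smul]
  rw [inv_smul_eq_iff, inv_smul_eq_iff, hta, htb]

theorem swapCount_le (a b : Ω) : swapCount (G := G) a b ≤ fixCount (G := G) a b := by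
  by_cases h : ∃ t : G, t • a = b ∧ t • b = a
  · obtain ⟨t, hta, htb⟩ := h
    exact le_of_eq (swapCount_eq_of_exists a b t hta htb)
  · have : swapCount (G := G) a b = 0 := by
      unfold swapCount
      rw [Finset.card_eq_zero, Finset.filter_eq_empty_iff]
      intro g _ hg
      exact h ⟨g, hg⟩
    rw [this]
    exact Nat.zero_le _

theorem exists_of_swapCount_ne_zero (a b : Ω) (h : swapCount (G := G) a b ≠ 0) :
    ∃ t : G, t • a = b ∧ t • b = a := by
  unfold swapCount at h
  obtain ⟨g, hg⟩ := Finset.card_pos.mp (Nat.pos_of_ne_zero h)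
  rw [Finset.mem_filter] at hg
  exact ⟨g, hg.2⟩

theorem sum_card_fixed_sq :
    ∑ g : G, (Finset.univ.filter (fun a : Ω => (g * g) • a = a)).card =
      ∑ a : Ω, ∑ b : Ω, swapCount (G := G) a b := by
  have h1 : ∀ g : G, (Finset.univ.filter (fun a : Ω => (g * g) • a = a)).card =
      ∑ a : Ω, ∑ b : Ω, if g • a = b ∧ g • b = a then 1 else 0 := by
    intro g
    rw [Finset.card_filter]
    apply Finset.sum_congr rfl
    intro a _
    rw [Finset.sum_eq_single (g • a)]
    · simp [mul_smul]
    · intro b _ hb
      rw [if_neg]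
      intro h
      exact hb h.1.symm
    · intro h
      exact absurd (Finset.mem_univ _) h
  rw [Finset.sum_congr rfl (fun g _ => h1 g), Finset.sum_comm]
  apply Finset.sum_congr rfl
  intro a _
  rw [Finset.sum_comm]
  apply Finset.sum_congr rfl
  intro b _
  unfold swapCount
  rw [Finset.card_filter]

theorem sum_sq_card_fixed :
    ∑ g : G, (Finset.univ.filter (fun a : Ω => g • a = a)).card ^ 2 =
      ∑ a : Ω, ∑ b : Ω, fixCount (G := G) a b := by
  have h1 : ∀ g : G, (Finset.univ.filter (fun a : Ω => g • a = a)).card ^ 2 =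
      ∑ a : Ω, ∑ b : Ω, if g • a = a ∧ g • b = b then 1 else 0 := by
    intro g
    rw [sq, Finset.card_filter, Finset.sum_mul_sum]
    apply Finset.sum_congr rfl
    intro a _
    apply Finset.sum_congr rfl
    intro b _
    by_cases ha : g • a = a <;> by_cases hb : g • b = b <;> simp [ha, hb]
  rw [Finset.sum_congr rfl (fun g _ => h1 g), Finset.sum_comm]
  apply Finset.sum_congr rfl
  intro a _
  rw [Finset.sum_comm]
  apply Finset.sum_congr rfl
  intro b _
  unfold fixCount
  rw [Finset.card_filter]

/-- all pairs are interchanged iff the two counts agree -/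
theorem forall_swap_iff :
    (∀ a b : Ω, ∃ g : G, g • a = b ∧ g • b = a) ↔
      ∑ g : G, (Finset.univ.filter (fun a : Ω => (g * g) • a = a)).card =
        ∑ g : G, (Finset.univ.filter (fun a : Ω => g • a = a)).card ^ 2 := by
  rw [sum_card_fixed_sq, sum_sq_card_fixed]
  constructor
  · intro h
    apply Finset.sum_congr rfl
    intro a _
    apply Finset.sum_congr rfl
    intro b _
    obtain ⟨t, hta, htb⟩ := h a b
    exact swapCount_eq_of_exists a b t hta htb
  · intro h a b
    apply exists_of_swapCount_ne_zero
    have h1 : ∀ a ∈ (Finset.univ : Finset Ω), ∑ b : Ω, swapCount (G := G) a b ≤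
        ∑ b : Ω, fixCount (G := G) a b :=
      fun a _ => Finset.sum_le_sum (fun b _ => swapCount_le a b)
    have h2 := (Finset.sum_eq_sum_iff_of_le h1).mp h a (Finset.mem_univ a)
    have h3 := (Finset.sum_eq_sum_iff_of_le (fun b _ => swapCount_le (G := G) a b)).mp h2 b
      (Finset.mem_univ b)
    rw [h3]
    exact (fixCount_pos a b).ne'

end Cfsg.Agent.Lib.Helper4.SelfPaired
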