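import Mathlib
import Cfsg.Agent.S0022
import Cfsg.Agent.S0030
import Cfsg.Agent.H1.CoprimeAction
import Cfsg.Agent.Lib.Lead.Conj
import Cfsg.Agent.Lib.Helper7.CoprimeGen5

/-!
# Closure of "good" invariant subgroups under generation (solvable case)

`A` abelian acting coprimely on a solvable group `X`; for every `D ≤ A` with `A / D` cyclic a subgroup
`T D ≤ C_X(D)` is given, `A`-invariant, such that `X = ⟨T D, N⟩` and every `⟨T D₁, T D₂⟩ N` is *good* modulo
`N`, that is `C_{⟨T D₁, T D₂⟩ N}(D₃) ≤ T D₃ N`.  Then `X` itself is good modulo `N`.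
-/

set_option autoImplicit false
set_option linter.style.haveILetI false
set_option linter.unusedVariables false
set_option linter.unusedSectionVars false

open scoped commutatorElement Pointwise

namespace Cfsg.Agent.Lib.Helper4.SigX

open Cfsg.Agent.Lib.Lead.Conj Cfsg.Agent.Lib.Helper7

universe u

variable {G : Type u} [Group G]

theorem le_normalizer_sup [Finite G] {H K₁ K₂ : Subgroup G}
    (h₁ : H ≤ Subgroup.normalizer (K₁ : Set G)) (h₂ : H ≤ Subgroup.normalizer (K₂ : Set G)) :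
    H ≤ Subgroup.normalizer ((K₁ ⊔ K₂ : Subgroup G) : Set G) := by
  intro y hy
  apply mem_normalizer_of_conj_mem
  intro g hg
  have hmap : (K₁ ⊔ K₂).map (MulAut.conj y).toMonoidHom ≤ K₁ ⊔ K₂ := by
    rw [Subgroup.map_sup]
    apply sup_le
    · rintro _ ⟨k, hk, rfl⟩
      exact Subgroup.mem_sup_left ((Subgroup.mem_normalizer_iff.mp (h₁ hy) k).mp hk)
    · rintro _ ⟨k, hk, rfl⟩
      exact Subgroup.mem_sup_right ((Subgroup.mem_normalizer_iff.mp (h₂ hy) k).mp hk)
  exact hmap ⟨g, hg, rfl⟩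

theorem le_normalizer_inf {H K₁ K₂ : Subgroup G}
    (h₁ : H ≤ Subgroup.normalizer (K₁ : Set G)) (h₂ : H ≤ Subgroup.normalizer (K₂ : Set G)) :
    H ≤ Subgroup.normalizer ((K₁ ⊓ K₂ : Subgroup G) : Set G) :=
  (le_inf h₁ h₂).trans Subgroup.inf_normalizer_le_normalizer_inf

/-- Dedekind's modular law -/
theorem inf_sup_le_of_le {M T N : Subgroup G} (hNM : N ≤ M)
    (hTN : T ≤ Subgroup.normalizer (N : Set G)) : M ⊓ (T ⊔ N) ≤ (M ⊓ T) ⊔ N := by
  intro x hx
  obtain ⟨hxM, hxTN⟩ := Subgroup.mem_inf.mp hx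
  rw [sup_comm] at hxTN
  obtain ⟨n, hn, a, ha, rfl⟩ := (Cfsg.Agent.H1.mem_sup_of_le_normalizer N T hTN).mp hxTN
  have haM : a ∈ M := by
    have : a = n⁻¹ * (n * a) := by group
    rw [this]
    exact M.mul_mem (M.inv_mem (hNM hn)) hxM
  exact Subgroup.mul_mem _ (Subgroup.mem_sup_right hn)
    (Subgroup.mem_sup_left (Subgroup.mem_inf.mpr ⟨haM, ha⟩))

theorem isSolvable_of_le_comm {A D : Subgroup G} (hcomm : ∀ x ∈ A, ∀ y ∈ A, x * y = y * x)
    (hD : D ≤ A) : Group.IsSolvable ↥D := by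
  apply Group.isSolvable_of_comm
  intro a b
  apply Subtype.ext
  exact hcomm a (hD a.2) b (hD b.2)

/-- fixed points of a product -/
theorem sup_inf_centralizer_le [Finite G] (D H Y : Subgroup G)
    (hDH : D ≤ Subgroup.normalizer (H : Set G)) (hDY : D ≤ Subgroup.normalizer (Y : Set G))
    (hHY : H ≤ Subgroup.normalizer (Y : Set G))
    (hcop : (Nat.card ↥D).Coprime (Nat.card ↥(H ⊔ Y : Subgroup G))) (hsolv : Group.IsSolvable ↥D) :
    (H ⊔ Y) ⊓ Subgroup.centralizer (D : Set G) ≤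
      (H ⊓ Subgroup.centralizer (D : Set G)) ⊔ (Y ⊓ Subgroup.centralizer (D : Set G)) := by
  intro k hk
  have hXY : ∀ k ∈ H ⊔ Y, ∃ x ∈ H, ∃ y ∈ Y, k = x * y := by
    intro k hk
    have h := Subgroup.coe_mul_of_left_le_normalizer_right H Y hHY
    have : k ∈ ((H ⊔ Y : Subgroup G) : Set G) := hk
    rw [h] at this
    obtain ⟨x, hx, y, hy, rfl⟩ := this
    exact ⟨x, hx, y, hy, rfl⟩
  obtain ⟨x, hx, y, hy, rfl⟩ := Cfsg.Agent.S0030.result D (H ⊔ Y) (le_normalizer_sup hDH hDY) hcop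
    (Or.inl hsolv) H Y le_sup_left le_sup_right hDH hDY hXY k hk
  exact Subgroup.mul_mem _ (Subgroup.mem_sup_left hx) (Subgroup.mem_sup_right hy)

/-- a solvable group is not perfect modulo a proper normal subgroup -/
theorem commutator_sup_ne (X N : Subgroup G) (hNX : N ≤ X)
    (hXN : X ≤ Subgroup.normalizer (N : Set G)) (hne : N ≠ X) (hsolv : Group.IsSolvable ↥X) :
    ⁅X, X⁆ ⊔ N ≠ X := by
  intro heq
  haveI hn : (N.subgroupOf X).Normal :=
    (Subgroup.normal_subgroupOf_iff_le_normalizer hNX).mpr hXN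
  haveI : Nontrivial (↥X ⧸ N.subgroupOf X) := by
    rw [QuotientGroup.nontrivial_iff]
    intro h
    apply hne
    rw [Subgroup.subgroupOf_eq_top] at h
    exact le_antisymm hNX h
  haveI := hsolv
  haveI : Group.IsSolvable (↥X ⧸ N.subgroupOf X) := inferInstance
  have h1 := Group.IsSolvable.commutator_lt_top_of_nontrivial (↥X ⧸ N.subgroupOf X)
  apply h1.ne
  have h2 : commutator (↥X ⧸ N.subgroupOf X) =
      (commutator ↥X).map (QuotientGroup.mk' (N.subgroupOf X)) := by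
    rw [commutator_def, commutator_def, Subgroup.map_commutator, ← MonoidHom.range_eq_map,
      MonoidHom.range_eq_top.mpr (QuotientGroup.mk'_surjective _)]
  have h3 : (commutator ↥X).map X.subtype = ⁅X, X⁆ := by
    rw [commutator_def, Subgroup.map_commutator, ← MonoidHom.range_eq_map, Subgroup.range_subtype]
  rw [h2, eq_top_iff]
  rintro q -
  obtain ⟨x, rfl⟩ := QuotientGroup.mk'_surjective _ q
  have hx : (x : G) ∈ ⁅X, X⁆ ⊔ N := by rw [heq]; exact x.2
  have hcX' : ⁅X, X⁆ ≤ X := by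
    rw [Subgroup.commutator_le]
    intro a ha b hb
    exact X.mul_mem (X.mul_mem (X.mul_mem ha hb) (X.inv_mem ha)) (X.inv_mem hb)
  have hcN : ⁅X, X⁆ ≤ Subgroup.normalizer (N : Set G) := hcX'.trans hXN
  rw [sup_comm] at hx
  obtain ⟨n, hn', c, hc, hxe⟩ := (Cfsg.Agent.H1.mem_sup_of_le_normalizer N ⁅X, X⁆ hcN).mp hx
  rw [← h3] at hc
  obtain ⟨c', hc', hcc'⟩ := hc
  refine ⟨c', hc', ?_⟩
  rw [QuotientGroup.mk'_apply, QuotientGroup.mk'_apply, QuotientGroup.eq]
  rw [Subgroup.mem_subgroupOf]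
  have : ((c'⁻¹ * x : ↥X) : G) = c⁻¹ * (n * c) := by
    rw [Subgroup.coe_mul, Subgroup.coe_inv, hxe]
    congr 1
    rw [← hcc']
    rfl
  rw [this]
  have hcX : c ∈ Subgroup.normalizer (N : Set G) := by
    apply hXN
    rw [← hcc']
    exact c'.2
  have := (Subgroup.mem_normalizer_iff.mp (Subgroup.inv_mem _ hcX) n).mp hn'
  simpa [mul_assoc] using this

theorem card_lt_of_le_ne [Finite G] {H K : Subgroup G} (hHK : H ≤ K) (hne : H ≠ K) :
    Nat.card ↥H < Nat.card ↥K := by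
  by_contra hcon
  push Not at hcon
  exact hne (Subgroup.eq_of_le_of_card_ge hHK hcon)

/-- **Closure under generation**, solvable case. -/
theorem good_of_solvable [Finite G] (A : Subgroup G) (hAcomm : ∀ x ∈ A, ∀ y ∈ A, x * y = y * x) :
    ∀ (n : ℕ) (X N : Subgroup G) (T : Subgroup G → Subgroup G),
      Nat.card ↥X - Nat.card ↥N = n → N ≤ X → X ≤ Subgroup.normalizer (N : Set G) →
      A ≤ Subgroup.normalizer (X : Set G) → A ≤ Subgroup.normalizer (N : Set G) →
      (Nat.card ↥A).Coprime (Nat.card ↥X) → Group.IsSolvable ↥X →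
      (∀ D ∈ cocyclic A, T D ≤ X) →
      (∀ D ∈ cocyclic A, T D ≤ Subgroup.centralizer (D : Set G)) →
      (∀ D ∈ cocyclic A, A ≤ Subgroup.normalizer (T D : Set G)) →
      X ≤ (⨆ D ∈ cocyclic A, T D) ⊔ N →
      (∀ D1 ∈ cocyclic A, ∀ D2 ∈ cocyclic A, ∀ D3 ∈ cocyclic A,
        ((T D1 ⊔ T D2) ⊔ N) ⊓ Subgroup.centralizer (D3 : Set G) ≤ T D3 ⊔ N) →
      ∀ D ∈ cocyclic A, X ⊓ Subgroup.centralizer (D : Set G) ≤ T D ⊔ N := by
  intro n
  induction n using Nat.strong_induction_on with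
  | _ n ih =>
  intro X N T hn hNX hXN hAX hAN hcop hsolv hTX hTC hAT hgx hpair
  by_cases hXeqN : N = X
  · intro D hD
    exact inf_le_left.trans (hXeqN ▸ le_sup_right)
  have hTN : ∀ D ∈ cocyclic A, T D ≤ Subgroup.normalizer (N : Set G) :=
    fun D hD => (hTX D hD).trans hXN
  have hcopY : ∀ Y : Subgroup G, Y ≤ X → (Nat.card ↥A).Coprime (Nat.card ↥Y) := fun Y hY =>
    Nat.Coprime.coprime_dvd_right (Subgroup.card_dvd_of_le hY) hcop
  have hcopD : ∀ D ∈ cocyclic A, ∀ Y : Subgroup G, Y ≤ X →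
      (Nat.card ↥D).Coprime (Nat.card ↥Y) := fun D hD Y hY =>
    Nat.Coprime.coprime_dvd_left (Subgroup.card_dvd_of_le hD.1) (hcopY Y hY)
  have hsolD : ∀ D ∈ cocyclic A, Group.IsSolvable ↥D := fun D hD =>
    isSolvable_of_le_comm hAcomm hD.1
  by_cases hcaseA : ∃ Y : Subgroup G, N ≤ Y ∧ Y ≤ X ∧ Y ≠ N ∧ Y ≠ X ∧
      X ≤ Subgroup.normalizer (Y : Set G) ∧ A ≤ Subgroup.normalizer (Y : Set G) ∧
      Y ≤ (⨆ D ∈ cocyclic A, T D ⊓ Y) ⊔ N
  · obtain ⟨Y, hNY, hYX, hYN, hYneX, hXY, hAY, hYgen⟩ := hcaseA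
    have hcardNY : Nat.card ↥N < Nat.card ↥Y := card_lt_of_le_ne hNY (Ne.symm hYN)
    have hcardYX : Nat.card ↥Y < Nat.card ↥X := card_lt_of_le_ne hYX hYneX
    have hsolvY : Group.IsSolvable ↥Y :=
      Group.isSolvable_of_isSolvable_injective (f := Subgroup.inclusion hYX)
        (Subgroup.inclusion_injective _)
    -- (a)
    have ha := ih (Nat.card ↥Y - Nat.card ↥N) (by omega) Y N (fun D => T D ⊓ Y) rfl hNY
      (hYX.trans hXN) hAY hAN (hcopY Y hYX) hsolvY (fun D hD => inf_le_right)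
      (fun D hD => inf_le_left.trans (hTC D hD)) (fun D hD => le_normalizer_inf (hAT D hD) hAY)
      hYgen (by
        intro D1 hD1 D2 hD2 D3 hD3
        have h1 : (T D1 ⊓ Y ⊔ T D2 ⊓ Y) ⊔ N ≤ Y := sup_le (sup_le inf_le_right inf_le_right) hNY
        have h2 : (T D1 ⊓ Y ⊔ T D2 ⊓ Y) ⊔ N ≤ (T D1 ⊔ T D2) ⊔ N :=
          sup_le_sup_right (sup_le_sup inf_le_left inf_le_left) N
        calc ((T D1 ⊓ Y ⊔ T D2 ⊓ Y) ⊔ N) ⊓ Subgroup.centralizer (D3 : Set G)
            ≤ Y ⊓ (((T D1 ⊔ T D2) ⊔ N) ⊓ Subgroup.centralizer (D3 : Set G)) :=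
              le_inf (inf_le_left.trans h1) (inf_le_inf_right _ h2)
          _ ≤ Y ⊓ (T D3 ⊔ N) := inf_le_inf_left _ (hpair D1 hD1 D2 hD2 D3 hD3)
          _ ≤ (Y ⊓ T D3) ⊔ N := inf_sup_le_of_le hNY (hTN D3 hD3)
          _ = T D3 ⊓ Y ⊔ N := by rw [inf_comm])
    -- (b)
    have hb := ih (Nat.card ↥X - Nat.card ↥Y) (by omega) X Y T rfl hYX hXY hAX hAY hcop hsolv
      hTX hTC hAT (hgx.trans (sup_le_sup_left hNY _)) (by
        intro D1 hD1 D2 hD2 D3 hD3
        have hPX : (T D1 ⊔ T D2) ⊔ N ≤ X := sup_le (sup_le (hTX D1 hD1) (hTX D2 hD2)) hNX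
        have hAP : A ≤ Subgroup.normalizer (((T D1 ⊔ T D2) ⊔ N : Subgroup G) : Set G) :=
          le_normalizer_sup (le_normalizer_sup (hAT D1 hD1) (hAT D2 hD2)) hAN
        have hle : (T D1 ⊔ T D2) ⊔ Y ≤ ((T D1 ⊔ T D2) ⊔ N) ⊔ Y :=
          sup_le_sup_right le_sup_left Y
        calc ((T D1 ⊔ T D2) ⊔ Y) ⊓ Subgroup.centralizer (D3 : Set G)
            ≤ (((T D1 ⊔ T D2) ⊔ N) ⊔ Y) ⊓ Subgroup.centralizer (D3 : Set G) :=
              inf_le_inf_right _ hle
          _ ≤ (((T D1 ⊔ T D2) ⊔ N) ⊓ Subgroup.centralizer (D3 : Set G)) ⊔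
              (Y ⊓ Subgroup.centralizer (D3 : Set G)) :=
              sup_inf_centralizer_le D3 _ Y (hD3.1.trans hAP) (hD3.1.trans hAY) (hPX.trans hXY)
                (hcopD D3 hD3 _ (sup_le hPX hYX)) (hsolD D3 hD3)
          _ ≤ (T D3 ⊔ N) ⊔ Y := sup_le_sup (hpair D1 hD1 D2 hD2 D3 hD3) inf_le_left
          _ ≤ T D3 ⊔ Y := sup_le (sup_le le_sup_left (hNY.trans le_sup_right)) le_sup_right)
    -- (c)
    intro D hD
    have h1 := hb D hD
    have h2 := ha D hD
    have hTNX : T D ⊔ N ≤ X := sup_le (hTX D hD) hNX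
    have hATN : A ≤ Subgroup.normalizer ((T D ⊔ N : Subgroup G) : Set G) :=
      le_normalizer_sup (hAT D hD) hAN
    calc X ⊓ Subgroup.centralizer (D : Set G)
        ≤ (T D ⊔ Y) ⊓ Subgroup.centralizer (D : Set G) := le_inf h1 inf_le_right
      _ ≤ ((T D ⊔ N) ⊔ Y) ⊓ Subgroup.centralizer (D : Set G) :=
          inf_le_inf_right _ (sup_le_sup_right le_sup_left Y)
      _ ≤ ((T D ⊔ N) ⊓ Subgroup.centralizer (D : Set G)) ⊔
            (Y ⊓ Subgroup.centralizer (D : Set G)) :=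
          sup_inf_centralizer_le D _ Y (hD.1.trans hATN) (hD.1.trans hAY) (hTNX.trans hXY)
            (hcopD D hD _ (sup_le hTNX hYX)) (hsolD D hD)
      _ ≤ (T D ⊔ N) ⊔ (T D ⊓ Y ⊔ N) := sup_le_sup inf_le_left h2
      _ ≤ T D ⊔ N := sup_le le_rfl (sup_le (inf_le_left.trans le_sup_left) le_sup_right)
  · push Not at hcaseA
    -- Step A and (B0)
    have hB0 : ∀ M : Subgroup G, N ≤ M → M ≤ X → M ≠ X → X ≤ Subgroup.normalizer (M : Set G) →
        A ≤ Subgroup.normalizer (M : Set G) → ∀ D ∈ cocyclic A, M ⊓ T D ≤ N := by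
      intro M hNM hMX hMne hXM hAM
      obtain ⟨cl, hcl⟩ : ∃ cl : Subgroup G, cl = (⨆ D ∈ cocyclic A, M ⊓ T D) ⊔ N := ⟨_, rfl⟩
      have hpiece : ∀ D ∈ cocyclic A, M ⊓ T D ≤ cl := by
        intro D hD
        rw [hcl]
        exact (le_iSup₂_of_le (f := fun D (_ : D ∈ cocyclic A) => M ⊓ T D) D hD le_rfl).trans
          le_sup_left
      have hclM : cl ≤ M := by
        rw [hcl]; exact sup_le (iSup₂_le fun D hD => inf_le_left) hNM
      have hNcl : N ≤ cl := by rw [hcl]; exact le_sup_right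
      have hAcl : A ≤ Subgroup.normalizer (cl : Set G) := by
        rw [hcl]
        exact le_normalizer_sup (le_normalizer_iSup₂ _ A
          (fun D hD => le_normalizer_inf hAM (hAT D hD))) hAN
      have hXcl : X ≤ Subgroup.normalizer (cl : Set G) := by
        refine hgx.trans (sup_le (iSup₂_le ?_) (hNcl.trans Subgroup.le_normalizer))
        intro D' hD' t ht
        have htX : t ∈ X := hTX D' hD' ht
        apply mem_normalizer_of_conj_mem
        intro r hr
        have hmap : cl.map (MulAut.conj t).toMonoidHom ≤ cl := by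
          conv_lhs => rw [hcl]
          rw [Subgroup.map_sup, Subgroup.map_iSup]
          apply sup_le
          · apply iSup_le
            intro D
            rw [Subgroup.map_iSup]
            apply iSup_le
            intro hD
            -- the auxiliary group `R`
            obtain ⟨R, hR⟩ : ∃ R : Subgroup G, R = M ⊓ ((T D ⊔ T D') ⊔ N) := ⟨_, rfl⟩
            have h1 : (M ⊓ T D).map (MulAut.conj t).toMonoidHom ≤ R := by
              rintro _ ⟨y, hy, rfl⟩
              obtain ⟨hyM, hyT⟩ := Subgroup.mem_inf.mp hy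
              rw [hR]
              refine Subgroup.mem_inf.mpr ⟨?_, ?_⟩
              · exact (Subgroup.mem_normalizer_iff.mp (hXM htX) y).mp hyM
              · apply Subgroup.mem_sup_left
                exact Subgroup.mul_mem _ (Subgroup.mul_mem _ (Subgroup.mem_sup_right ht)
                  (Subgroup.mem_sup_left hyT)) (Subgroup.inv_mem _ (Subgroup.mem_sup_right ht))
            refine h1.trans ?_
            have hAR : A ≤ Subgroup.normalizer (R : Set G) := by
              rw [hR]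
              exact le_normalizer_inf hAM
                (le_normalizer_sup (le_normalizer_sup (hAT D hD) (hAT D' hD')) hAN)
            have hRX : R ≤ X := by rw [hR]; exact inf_le_left.trans hMX
            have hgenR := hgen_eq hAcomm (Nat.card ↥R) R rfl hAR (hcopY R hRX)
            rw [← hgenR]
            unfold hgen
            apply iSup₂_le
            intro D'' hD''
            calc R ⊓ Subgroup.centralizer (D'' : Set G)
                ≤ M ⊓ (((T D ⊔ T D') ⊔ N) ⊓ Subgroup.centralizer (D'' : Set G)) := by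
                  rw [hR]
                  exact le_inf (inf_le_left.trans inf_le_left) (inf_le_inf_right _ inf_le_right)
              _ ≤ M ⊓ (T D'' ⊔ N) := inf_le_inf_left _ (hpair D hD D' hD' D'' hD'')
              _ ≤ (M ⊓ T D'') ⊔ N := inf_sup_le_of_le hNM (hTN D'' hD'')
              _ ≤ cl := sup_le (hpiece D'' hD'') hNcl
          · rintro _ ⟨x, hx, rfl⟩
            exact hNcl ((Subgroup.mem_normalizer_iff.mp (hXN htX) x).mp hx)
        exact hmap ⟨r, hr, rfl⟩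
      have hclgen : cl ≤ (⨆ D ∈ cocyclic A, T D ⊓ cl) ⊔ N := by
        conv_lhs => rw [hcl]
        apply sup_le_sup_right
        apply iSup₂_mono
        intro D hD
        exact le_inf inf_le_right (hpiece D hD)
      by_contra hcon
      push Not at hcon
      obtain ⟨D, hD, hDn⟩ := hcon
      have hclN : cl ≠ N := by
        intro h
        apply hDn
        rw [← h]
        exact hpiece D hD
      have hclX : cl ≠ X := fun h => hMne (le_antisymm hMX (h ▸ hclM))
      exact hcaseA cl hNcl (hclM.trans hMX) hclN hclX hXcl hAcl hclgen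
    -- a maximal invariant normal subgroup with abelian quotient
    have hder : ⁅X, X⁆ ⊔ N ≠ X := commutator_sup_ne X N hNX hXN hXeqN hsolv
    have hcX : ⁅X, X⁆ ≤ X := by
      rw [Subgroup.commutator_le]
      intro a ha b hb
      exact X.mul_mem (X.mul_mem (X.mul_mem ha hb) (X.inv_mem ha)) (X.inv_mem hb)
    have hAc : A ≤ Subgroup.normalizer ((⁅X, X⁆ : Subgroup G) : Set G) := by
      intro a ha
      apply mem_normalizer_of_conj_mem
      intro r hr
      have hmap : (⁅X, X⁆).map (MulAut.conj a).toMonoidHom ≤ ⁅X, X⁆ := by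
        rw [Subgroup.map_commutator]
        have : X.map (MulAut.conj a).toMonoidHom ≤ X := by
          rintro _ ⟨x, hx, rfl⟩
          exact (Subgroup.mem_normalizer_iff.mp (hAX ha) x).mp hx
        exact Subgroup.commutator_mono this this
      exact hmap ⟨r, hr, rfl⟩
    obtain ⟨M, hM⟩ := Set.Finite.exists_maximal
      (Set.toFinite {M : Subgroup G | ⁅X, X⁆ ⊔ N ≤ M ∧ M ≤ X ∧ M ≠ X ∧
        A ≤ Subgroup.normalizer (M : Set G)})
      ⟨⁅X, X⁆ ⊔ N, le_rfl, sup_le hcX hNX, hder, le_normalizer_sup hAc hAN⟩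
    obtain ⟨⟨hdM, hMX, hMne, hAM⟩, hMmax⟩ := hM
    have hNM : N ≤ M := le_sup_right.trans hdM
    have hXM : X ≤ Subgroup.normalizer (M : Set G) := by
      intro x hx
      apply mem_normalizer_of_conj_mem
      intro m hm
      have h1 : x * m * x⁻¹ * m⁻¹ ∈ M := by
        apply hdM
        apply Subgroup.mem_sup_left
        exact Subgroup.commutator_mem_commutator hx (hMX hm)
      have : x * m * x⁻¹ = (x * m * x⁻¹ * m⁻¹) * m := by group
      rw [this]
      exact M.mul_mem h1 hm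
    have hB := hB0 M hNM hMX hMne hXM hAM
    have hex : ∃ D₀ ∈ cocyclic A, ¬ T D₀ ≤ M := by
      by_contra hcon
      push Not at hcon
      exact hMne (le_antisymm hMX (hgx.trans (sup_le (iSup₂_le hcon) hNM)))
    obtain ⟨D₀, hD₀, hTD₀⟩ := hex
    have hXeq : T D₀ ⊔ M = X := by
      by_contra hne
      have hmem : T D₀ ⊔ M ∈ {M : Subgroup G | ⁅X, X⁆ ⊔ N ≤ M ∧ M ≤ X ∧ M ≠ X ∧
          A ≤ Subgroup.normalizer (M : Set G)} :=
        ⟨hdM.trans le_sup_right, sup_le (hTX D₀ hD₀) hMX, hne,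
          le_normalizer_sup (hAT D₀ hD₀) hAM⟩
      have := hMmax hmem le_sup_right
      exact hTD₀ (le_sup_left.trans this)
    -- `D₀` centralizes `X` modulo `M`
    have hcent : ∀ d ∈ D₀, ∀ x ∈ X, d * x * d⁻¹ * x⁻¹ ∈ M := by
      intro d hd x hx
      rw [← hXeq, sup_comm] at hx
      obtain ⟨m, hm, t, ht, rfl⟩ :=
        (Cfsg.Agent.H1.mem_sup_of_le_normalizer M (T D₀) ((hTX D₀ hD₀).trans hXM)).mp hx
      have hdt : d * t = t * d :=
        Subgroup.mem_centralizer_iff.mp (hTC D₀ hD₀ ht) d hd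
      have hdm : d * m * d⁻¹ ∈ M := (Subgroup.mem_normalizer_iff.mp (hAM (hD₀.1 hd)) m).mp hm
      have h3 : d * t * d⁻¹ = t := by rw [hdt]; group
      have : d * (m * t) * d⁻¹ * (m * t)⁻¹ = (d * m * d⁻¹) * m⁻¹ := by
        calc d * (m * t) * d⁻¹ * (m * t)⁻¹
            = (d * m * d⁻¹) * (d * t * d⁻¹) * t⁻¹ * m⁻¹ := by group
          _ = (d * m * d⁻¹) * m⁻¹ := by rw [h3]; group
      rw [this]
      exact M.mul_mem hdm (M.inv_mem hm)
    have hall : ∀ D ∈ cocyclic A, T D ≤ T D₀ ⊔ N := by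
      intro D hD t ht
      have hD₀T : D₀ ≤ Subgroup.normalizer ((T D : Subgroup G) : Set G) := hD₀.1.trans (hAT D hD)
      have hfix : ∀ d ∈ D₀, d * t * d⁻¹ * t⁻¹ ∈ T D ⊓ N := by
        intro d hd
        have h1 : d * t * d⁻¹ * t⁻¹ ∈ T D :=
          Subgroup.mul_mem _ ((Subgroup.mem_normalizer_iff.mp (hD₀T hd) t).mp ht)
            (Subgroup.inv_mem _ ht)
        refine Subgroup.mem_inf.mpr ⟨h1, ?_⟩
        exact hB D hD (Subgroup.mem_inf.mpr ⟨hcent d hd t (hTX D hD ht), h1⟩)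
      obtain ⟨c, hc, hkc⟩ := Cfsg.Agent.S0022.result D₀ (T D) hD₀T
        (hcopD D₀ hD₀ _ (hTX D hD)) (Or.inl (hsolD D₀ hD₀)) (T D ⊓ N) inf_le_left
        (le_normalizer_inf Subgroup.le_normalizer (hTN D hD))
        (le_normalizer_inf hD₀T (hD₀.1.trans hAN)) t ht hfix
      obtain ⟨hcT, hcC⟩ := Subgroup.mem_inf.mp hc
      have hc' : c ∈ T D₀ ⊔ N :=
        hpair D hD D hD D₀ hD₀ (Subgroup.mem_inf.mpr
          ⟨Subgroup.mem_sup_left (Subgroup.mem_sup_left hcT), hcC⟩)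
      have : t = c * (t⁻¹ * c)⁻¹ := by group
      rw [this]
      exact Subgroup.mul_mem _ hc'
        (Subgroup.inv_mem _ (Subgroup.mem_sup_right (Subgroup.mem_inf.mp hkc).2))
    have hXle : X ≤ T D₀ ⊔ N := hgx.trans (sup_le (iSup₂_le hall) le_sup_right)
    intro D3 hD3
    calc X ⊓ Subgroup.centralizer (D3 : Set G)
        ≤ ((T D₀ ⊔ T D₀) ⊔ N) ⊓ Subgroup.centralizer (D3 : Set G) :=
          inf_le_inf_right _ (hXle.trans (sup_le_sup_right le_sup_left N))
      _ ≤ T D3 ⊔ N := hpair D₀ hD₀ D₀ hD₀ D3 hD3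

end Cfsg.Agent.Lib.Helper4.SigX
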