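import Mathlib

set_option autoImplicit false

namespace Cfsg.Agent.Lib.Helper4.StabDescent

open MulAction SubMulAction
open scoped Pointwise

universe u v

/-- faithfulness passes to the point stabiliser acting on the complement of the point -/
theorem faithful_ofStabilizer {G : Type u} {X : Type v} [Group G] [MulAction G X]
    [FaithfulSMul G X] (a : X) : FaithfulSMul (stabilizer G a) (ofStabilizer G a) := by
  constructor
  intro g₁ g₂ h
  apply Subtype.ext
  apply FaithfulSMul.eq_of_smul_eq_smul (α := X)
  intro x
  by_cases hx : x = a
  · subst hx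
    rw [g₁.2, g₂.2]
  · have := h ⟨x, hx⟩
    exact congrArg Subtype.val this

/-- elementwise descent: if the stabiliser in `H` of `a` (seen inside the stabiliser of `a` in `G`)
is `k`-transitive on the complement and `H` is transitive, then `H` is `k+1`-transitive -/
theorem isMultiplyPretransitive_succ_of_subgroupOf {G : Type u} {X : Type v} [Group G]
    [MulAction G X] (H : Subgroup G) [IsPretransitive H X] (a : X) {k : ℕ}
    (h : IsMultiplyPretransitive (H.subgroupOf (stabilizer G a)) (ofStabilizer G a) k) :
    IsMultiplyPretransitive H X (k + 1) := by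
  rw [ofStabilizer.isMultiplyPretransitive (a := a)]
  constructor
  intro x y
  -- lift to embeddings into `ofStabilizer G a`
  let x' : Fin k ↪ ofStabilizer G a :=
    ⟨fun i => ⟨(x i : X), (x i).2⟩, fun i j hij => x.injective (Subtype.ext (congrArg Subtype.val hij))⟩
  let y' : Fin k ↪ ofStabilizer G a :=
    ⟨fun i => ⟨(y i : X), (y i).2⟩, fun i j hij => y.injective (Subtype.ext (congrArg Subtype.val hij))⟩
  obtain ⟨g, hg⟩ := h.exists_smul_eq x' y'
  have hgH : (g : stabilizer G a).1 ∈ H := g.2
  have hga : (⟨(g : stabilizer G a).1, hgH⟩ : H) ∈ stabilizer H a := by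
    rw [mem_stabilizer_iff]
    exact (g : stabilizer G a).2
  refine ⟨⟨⟨(g : stabilizer G a).1, hgH⟩, hga⟩, ?_⟩
  ext i
  have := congrArg (fun e : Fin k ↪ ofStabilizer G a => ((e i : ofStabilizer G a) : X)) hg
  exact this


/-- a nontrivial normal subgroup of a faithful primitive group is transitive -/
theorem isPretransitive_of_normal_of_faithful {G : Type u} {X : Type v} [Group G] [MulAction G X]
    [IsPreprimitive G X] [FaithfulSMul G X] (H : Subgroup G) [H.Normal]
    (hH : ∃ h ∈ H, h ≠ 1) : IsPretransitive H X := by
  apply IsQuasiPreprimitive.isPretransitive_of_normal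
  intro hfix
  obtain ⟨h, hhH, hh1⟩ := hH
  apply hh1
  apply FaithfulSMul.eq_of_smul_eq_smul (α := X)
  intro x
  have hx : x ∈ fixedPoints H X := by rw [hfix]; trivial
  rw [one_smul]
  exact hx ⟨h, hhH⟩

theorem finite_of_faithful {G : Type u} {X : Type v} [Group G] [MulAction G X] [Finite X]
    [FaithfulSMul G X] : Finite G :=
  Finite.of_injective (MulAction.toPermHom G X) MulAction.toPerm_injective

theorem card_le_factorial {G : Type u} {X : Type v} [Group G] [MulAction G X] [Fintype X]
    [FaithfulSMul G X] : Nat.card G ≤ (Fintype.card X).factorial := by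
  classical
  have : Nat.card G ≤ Nat.card (Equiv.Perm X) :=
    Nat.card_le_card_of_injective (MulAction.toPermHom G X) MulAction.toPerm_injective
  rwa [Nat.card_eq_fintype_card (α := Equiv.Perm X), Fintype.card_perm] at this

/-- a faithful triply transitive group of degree 3 or 4 is the full symmetric group -/
theorem card_eq_factorial_of_three {G : Type u} {X : Type v} [Group G] [MulAction G X] [Fintype X]
    [FaithfulSMul G X] (h3 : IsMultiplyPretransitive G X 3) (hX : 3 ≤ Fintype.card X)
    (hX4 : Fintype.card X ≤ 4) : Nat.card G = (Fintype.card X).factorial := by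
  classical
  have : Finite G := finite_of_faithful (X := X)
  obtain ⟨s, hs⟩ : ∃ s : Finset X, s.card = 3 := Finset.exists_subset_card_eq (s := Finset.univ) (by simpa using hX) |>.imp fun s h => h.2
  have hs' : (s : Set X).ncard = 3 := by rw [Set.ncard_coe_finset, hs]
  have := h3.index_of_fixingSubgroup_mul hs'
  rw [Nat.card_eq_fintype_card] at this
  have h1 : (Fintype.card X - 3).factorial = 1 := by
    have : Fintype.card X - 3 ≤ 1 := by omega
    interval_cases (Fintype.card X - 3) <;> rfl
  rw [h1, mul_one] at this
  apply le_antisymm card_le_factorial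
  rw [← this]
  exact Nat.le_of_dvd Nat.card_pos (Subgroup.index_dvd_card _)

theorem card_eq_card_mul_card_stabilizer {G : Type u} {X : Type v} [Group G] [MulAction G X]
    [Fintype X] [Finite G] [IsPretransitive G X] (a : X) :
    Nat.card G = Fintype.card X * Nat.card (stabilizer G a) := by
  rw [← Subgroup.index_mul_card (stabilizer G a), index_stabilizer_of_transitive,
    Nat.card_eq_fintype_card]

end Cfsg.Agent.Lib.Helper4.StabDescent
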