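import Mathlib
import Cfsg.Prelude.Def_Characters
import Cfsg.Prelude.Def_Blocks
import Cfsg.Agent.Lib.helper3.Irr13
import Cfsg.Agent.Lib.helper3.NormalAvg
import Cfsg.Agent.Lib.Helper4.FS

/-!
# Strongly real characters, I: the Frobenius--Schur count over a normal subgroup

`∑_{χ, N ⊄ ker χ} ν(χ) χ(1) = #{s : s² = 1} - #{s : s² ∈ N} / |N|`.
-/

set_option autoImplicit false
set_option linter.style.haveILetI false
set_option linter.unusedVariables false
set_option linter.unusedSectionVars false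

namespace Cfsg.Agent.Lib.Helper4.StrReal

open Cfsg Module Cfsg.Agent.Lib.helper3.IndFun Cfsg.Agent.Lib.helper3.CharBasic
open Cfsg.Agent.Lib.helper3.Irr
open scoped ComplexConjugate
open Classical

variable {G : Type*} [Group G] [Fintype G]

/-- `N` lies in the kernel of `χ` -/
def InKer (N : Subgroup G) (χ : IrrCharacter G) : Prop :=
  ∀ u ∈ N, (χ : G → ℂ) u = (χ : G → ℂ) 1

theorem card_sq_mem_eq_sum (N : Subgroup G) :
    Nat.card {s : G // s * s ∈ N} = ∑ n : N, Nat.card {s : G // s * s = (n : G)} := by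
  rw [← Nat.card_sigma]
  apply Nat.card_congr
  refine ⟨fun s => ⟨⟨s.1 * s.1, s.2⟩, ⟨s.1, rfl⟩⟩, fun t => ⟨t.2.1, ?_⟩, ?_, ?_⟩
  · rw [t.2.2]; exact t.1.2
  · intro s; rfl
  · rintro ⟨⟨n, hn⟩, ⟨s, hs⟩⟩
    simp only at hs
    subst hs
    rfl

/-- the Frobenius--Schur count of the characters with `N` in the kernel -/
theorem sum_inKer (N : Subgroup G) [N.Normal] :
    (Nat.card {s : G // s * s ∈ N} : ℂ) =
      (Nat.card N : ℂ) * ∑ χ : IrrCharacter G,
        (if InKer N χ then fsInd (χ : G → ℂ) * (χ : G → ℂ) 1 else 0) := by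
  rw [card_sq_mem_eq_sum]
  push_cast
  have h1 : ∀ n : N, (Nat.card {s : G // s * s = (n : G)} : ℂ) =
      ∑ χ : IrrCharacter G, fsInd (χ : G → ℂ) * (χ : G → ℂ) (n : G) := fun n =>
    card_sqrt_eq_sum (n : G)
  rw [Finset.sum_congr rfl (fun n _ => h1 n), Finset.sum_comm, Finset.mul_sum]
  apply Finset.sum_congr rfl
  intro χ _
  rw [← Finset.mul_sum]
  have h2 := sum_apply_mul_normal χ N 1
  simp only [one_mul] at h2
  rw [h2]
  by_cases hK : InKer N χ
  · rw [if_pos hK, if_pos (show ∀ u ∈ N, (χ : G → ℂ) u = (χ : G → ℂ) 1 from hK)]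
    ring
  · rw [if_neg hK, if_neg (show ¬ ∀ u ∈ N, (χ : G → ℂ) u = (χ : G → ℂ) 1 from hK)]
    ring

/-- the Frobenius--Schur count of the characters without `N` in the kernel -/
theorem sum_not_inKer (N : Subgroup G) [N.Normal] :
    (Nat.card N : ℂ) * ∑ χ : IrrCharacter G,
        (if InKer N χ then 0 else fsInd (χ : G → ℂ) * (χ : G → ℂ) 1) =
      (Nat.card N : ℂ) * (Nat.card {s : G // s * s = 1} : ℂ) -
        (Nat.card {s : G // s * s ∈ N} : ℂ) := by
  rw [sum_inKer N, card_sqrt_eq_sum (1 : G), ← mul_sub, ← Finset.sum_sub_distrib]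
  congr 1
  apply Finset.sum_congr rfl
  intro χ _
  by_cases hK : InKer N χ
  · rw [if_pos hK, if_pos hK, sub_self]
  · rw [if_neg hK, if_neg hK, sub_zero]

end Cfsg.Agent.Lib.Helper4.StrReal
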