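import Mathlib
import Cfsg.Prelude.Def_Characters
import Cfsg.Prelude.Def_Blocks
import Cfsg.Agent.Lib.helper3.AlgInt
import Cfsg.Agent.Lib.helper3.Lin
import Cfsg.Agent.Lib.Helper4.StrRealA

/-!
# Strongly real characters, II: characters not trivial on an inverted odd normal subgroup have
even degree
-/

set_option autoImplicit false
set_option linter.style.haveILetI false
set_option linter.unusedVariables false
set_option linter.unusedSectionVars false

namespace Cfsg.Agent.Lib.Helper4.StrReal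

open Cfsg Module Cfsg.Agent.Lib.helper3.IndFun Cfsg.Agent.Lib.helper3.CharBasic
open Cfsg.Agent.Lib.helper3.Irr
open scoped ComplexConjugate
open Classical

variable {G : Type*} [Group G] [Fintype G]

theorem ne_inv_of_odd {N : Type*} [Group N] [Finite N] (hodd : Odd (Nat.card N)) {n : N}
    (hn : n ≠ 1) : n ≠ n⁻¹ := by
  intro h
  apply hn
  have h2 : n ^ 2 = 1 := by
    rw [pow_two]
    nth_rewrite 2 [h]
    exact mul_inv_cancel n
  have h3 : orderOf n ∣ 2 := orderOf_dvd_of_pow_eq_one h2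
  have h4 : orderOf n ∣ Nat.card N := orderOf_dvd_natCard n
  have h5 : orderOf n ∣ Nat.gcd 2 (Nat.card N) := Nat.dvd_gcd h3 h4
  have h6 : Nat.gcd 2 (Nat.card N) = 1 := by
    rw [Nat.coprime_two_left.mpr hodd]
  rw [h6, Nat.dvd_one, orderOf_eq_one_iff] at h5
  exact h5

/-- a sum of an inversion-invariant function over a group of odd order -/
theorem sum_eq_one_add_two_mul {N : Type*} [Group N] [Fintype N] (hodd : Odd (Nat.card N))
    (f : N → ℂ) (hf : ∀ n, f n⁻¹ = f n) :
    ∃ S : Finset N, ∑ n : N, f n = f 1 + 2 * ∑ n ∈ S, f n := by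
  letI : LinearOrder N := LinearOrder.lift' (Fintype.equivFin N) (Equiv.injective _)
  refine ⟨Finset.univ.filter (fun n : N => n < n⁻¹), ?_⟩
  have h1 : ∑ n : N, f n = ∑ n ∈ Finset.univ.filter (fun n : N => n < n⁻¹), f n +
      ∑ n ∈ Finset.univ.filter (fun n : N => ¬ n < n⁻¹), f n :=
    (Finset.sum_filter_add_sum_filter_not _ _ _).symm
  have h2 : ∑ n ∈ Finset.univ.filter (fun n : N => ¬ n < n⁻¹), f n =
      ∑ n ∈ (Finset.univ.filter (fun n : N => ¬ n < n⁻¹)).filter (fun n : N => n⁻¹ < n), f n +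
      ∑ n ∈ (Finset.univ.filter (fun n : N => ¬ n < n⁻¹)).filter (fun n : N => ¬ n⁻¹ < n), f n :=
    (Finset.sum_filter_add_sum_filter_not _ _ _).symm
  have h3 : (Finset.univ.filter (fun n : N => ¬ n < n⁻¹)).filter (fun n : N => ¬ n⁻¹ < n) =
      {1} := by
    ext n
    simp only [Finset.mem_filter, Finset.mem_univ, true_and, Finset.mem_singleton]
    constructor
    · rintro ⟨ha, hb⟩
      by_contra hn
      have := ne_inv_of_odd hodd hn
      rcases lt_trichotomy n n⁻¹ with h | h | h
      · exact ha h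
      · exact this h
      · exact hb h
    · rintro rfl
      simp
  have h4 : ∑ n ∈ (Finset.univ.filter (fun n : N => ¬ n < n⁻¹)).filter (fun n : N => n⁻¹ < n), f n =
      ∑ n ∈ Finset.univ.filter (fun n : N => n < n⁻¹), f n := by
    apply Finset.sum_nbij' (fun n => n⁻¹) (fun n => n⁻¹)
    · intro n hn
      simp only [Finset.mem_filter, Finset.mem_univ, true_and] at hn ⊢
      rw [inv_inv]
      exact hn.2
    · intro n hn
      simp only [Finset.mem_filter, Finset.mem_univ, true_and] at hn ⊢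
      rw [inv_inv]
      exact ⟨not_lt.mpr hn.le, hn⟩
    · intro n _
      exact inv_inv n
    · intro n _
      exact inv_inv n
    · intro n _
      exact (hf n).symm
  rw [h1, h2, h3, h4, Finset.sum_singleton]
  ring

theorem two_dvd_charDegree_of_not_inKer (N : Subgroup G) [N.Normal] (hodd : Odd (Nat.card N))
    (z : G) (hz : ∀ n ∈ N, z * n * z⁻¹ = n⁻¹) (χ : IrrCharacter G) (hK : ¬ InKer N χ) :
    2 ∣ charDegree (χ : G → ℂ) := by
  have hchar := isCharacter_of_isIrrCharacter χ.2
  have hcf := isClassFunction_of_isCharacter hchar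
  have h0 : ∑ n : N, (χ : G → ℂ) (n : G) = 0 := by
    have h2 := sum_apply_mul_normal χ N 1
    simp only [one_mul] at h2
    rw [h2, if_neg (show ¬ ∀ u ∈ N, (χ : G → ℂ) u = (χ : G → ℂ) 1 from hK)]
  have hf : ∀ n : N, (χ : G → ℂ) ((n⁻¹ : N) : G) = (χ : G → ℂ) (n : G) := by
    intro n
    rw [Subgroup.coe_inv, ← hz n n.2]
    exact hcf (n : G) z
  obtain ⟨S, hS⟩ := sum_eq_one_add_two_mul hodd (fun n : N => (χ : G → ℂ) (n : G)) hf
  rw [h0] at hS
  obtain ⟨d, hd0, hd1⟩ := exists_pos_nat_apply_one χ.2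
  have hdeg : charDegree (χ : G → ℂ) = d := by
    unfold charDegree
    rw [hd1, Complex.natCast_re, Nat.floor_natCast]
  rw [hdeg]
  have hw : IsIntegral ℤ (- ∑ n ∈ S, (χ : G → ℂ) (n : G)) := by
    apply IsIntegral.neg
    apply IsIntegral.sum
    intro n _
    exact Cfsg.Agent.Lib.helper3.Lin.isIntegral_of_isCharacter hchar (n : G)
  have h5 : ((d : ℤ) : ℂ) = ((2 : ℤ) : ℂ) * (- ∑ n ∈ S, (χ : G → ℂ) (n : G)) := by
    simp only [Subgroup.coe_one] at hS
    rw [hd1] at hS
    push_cast
    linear_combination -hS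
  have h6 := Cfsg.Agent.Lib.helper3.AlgInt.int_dvd_of_eq_mul_isIntegral hw h5 (by norm_num)
  exact_mod_cast h6

end Cfsg.Agent.Lib.Helper4.StrReal
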