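import Mathlib

/-!
# Strongly real characters, III: the group theory of `G = N ⋊ P`

`N` an abelian normal subgroup of odd order, the unique minimal normal subgroup, `P ≠ 1` a
complementary `2`-subgroup: a central involution of `P` inverts `N`, and the count of the square
roots of `1`.
-/

set_option autoImplicit false
set_option linter.style.haveILetI false
set_option linter.unusedVariables false
set_option linter.unusedSectionVars false

open scoped Pointwise

namespace Cfsg.Agent.Lib.Helper4.StrReal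

variable {G : Type*} [Group G]

theorem exists_mul_of_sup_eq_top (N P : Subgroup G) [N.Normal] (hprod : N ⊔ P = ⊤) (g : G) :
    ∃ n ∈ N, ∃ u ∈ P, g = n * u := by
  have h1 : g ∈ ((N ⊔ P : Subgroup G) : Set G) := by
    rw [hprod]; exact Set.mem_univ g
  rw [Subgroup.normal_mul, Set.mem_mul] at h1
  obtain ⟨n, hn, u, hu, rfl⟩ := h1
  exact ⟨n, hn, u, hu, rfl⟩

/-- a subgroup normalized by `N` and by `P` is normal -/
theorem normal_of_conj_mem (N P : Subgroup G) [N.Normal] (hprod : N ⊔ P = ⊤) (X : Subgroup G)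
    (hN : ∀ n ∈ N, ∀ x ∈ X, n * x * n⁻¹ ∈ X) (hP : ∀ u ∈ P, ∀ x ∈ X, u * x * u⁻¹ ∈ X) :
    X.Normal := by
  refine ⟨fun x hx g => ?_⟩
  obtain ⟨n, hn, u, hu, rfl⟩ := exists_mul_of_sup_eq_top N P hprod g
  have e : n * u * x * (n * u)⁻¹ = n * (u * x * u⁻¹) * n⁻¹ := by group
  rw [e]
  exact hN n hn _ (hP u hu x hx)

/-- a central involution of `P` -/
theorem exists_central_involution [Finite G] (P : Subgroup G) (hP : IsPGroup 2 ↥P) (hP1 : P ≠ ⊥) :
    ∃ z ∈ P, z ≠ 1 ∧ z * z = 1 ∧ ∀ u ∈ P, u * z = z * u := by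
  haveI : Nontrivial ↥P := (Subgroup.nontrivial_iff_ne_bot P).mpr hP1
  haveI : Fact (Nat.Prime 2) := ⟨Nat.prime_two⟩
  haveI := hP.center_nontrivial
  have hZ : IsPGroup 2 ↥(Subgroup.center ↥P) := hP.to_subgroup _
  obtain ⟨k, hk⟩ := IsPGroup.iff_card.mp hZ
  have hk0 : k ≠ 0 := by
    rintro rfl
    rw [pow_zero] at hk
    have : Subsingleton ↥(Subgroup.center ↥P) := (Nat.card_eq_one_iff_unique.mp hk).1
    exact not_subsingleton _ this
  have h2 : 2 ∣ Nat.card ↥(Subgroup.center ↥P) := by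
    rw [hk]; exact dvd_pow_self 2 hk0
  obtain ⟨x, hx⟩ := exists_prime_orderOf_dvd_card' 2 h2
  refine ⟨((x : ↥P) : G), (x : ↥P).2, ?_, ?_, ?_⟩
  · intro h
    have h1 : x = 1 := by
      apply Subtype.ext
      apply Subtype.ext
      simpa using h
    rw [h1, orderOf_one] at hx
    norm_num at hx
  · have h1 : x ^ 2 = 1 := by rw [← hx]; exact pow_orderOf_eq_one x
    have h2 := congrArg (fun y : ↥(Subgroup.center ↥P) => ((y : ↥P) : G)) h1
    simp only [pow_two, Subgroup.coe_mul, Subgroup.coe_one] at h2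
    exact h2
  · intro u hu
    have h1 := Subgroup.mem_center_iff.mp x.2 ⟨u, hu⟩
    exact congrArg Subtype.val h1

variable (N P : Subgroup G) [hNn : N.Normal]

/-- a central involution of `P` inverts `N` -/
theorem inverts_of_central_involution
    (hNcomm : ∀ a ∈ N, ∀ b ∈ N, a * b = b * a) (hdisj : N ⊓ P = ⊥) (hprod : N ⊔ P = ⊤)
    (hmin : N ≠ ⊥ ∧ ∀ M : Subgroup G, M.Normal → M ≠ ⊥ → N ≤ M)
    {z : G} (hzP : z ∈ P) (hz1 : z ≠ 1) (hzz : z * z = 1) (hzc : ∀ u ∈ P, u * z = z * u) :
    ∀ n ∈ N, z * n * z⁻¹ = n⁻¹ := by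
  have hzinv : z⁻¹ = z := inv_eq_of_mul_eq_one_right hzz
  -- the centralizer of `z` in `N`
  set C : Subgroup G := N ⊓ Subgroup.centralizer ({z} : Set G) with hC
  have hCn : C.Normal := by
    apply normal_of_conj_mem N P hprod
    · intro n hn x hx
      have hxN : x ∈ N := hx.1
      have e : n * x * n⁻¹ = x := by
        rw [hNcomm n hn x hxN]; group
      rw [e]; exact hx
    · intro u hu x hx
      refine Subgroup.mem_inf.mpr ⟨hNn.conj_mem x hx.1 u, ?_⟩
      rw [Subgroup.mem_centralizer_singleton_iff]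
      have hxz : x * z = z * x := Subgroup.mem_centralizer_singleton_iff.mp hx.2
      have huz := hzc u hu
      have huz' : u⁻¹ * z = z * u⁻¹ := by
        calc u⁻¹ * z = u⁻¹ * (z * u) * u⁻¹ := by group
          _ = u⁻¹ * (u * z) * u⁻¹ := by rw [huz]
          _ = z * u⁻¹ := by group
      calc u * x * u⁻¹ * z = u * x * (u⁻¹ * z) := by group
        _ = u * x * (z * u⁻¹) := by rw [huz']
        _ = u * (x * z) * u⁻¹ := by group
        _ = u * (z * x) * u⁻¹ := by rw [hxz]
        _ = (u * z) * x * u⁻¹ := by group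
        _ = (z * u) * x * u⁻¹ := by rw [huz]
        _ = z * (u * x * u⁻¹) := by group
  -- the centralizer of `N` in `P`
  set D : Subgroup G := P ⊓ Subgroup.centralizer (N : Set G) with hD
  have hDn : D.Normal := by
    apply normal_of_conj_mem N P hprod
    · intro n hn x hx
      have hxn : n * x = x * n := (Subgroup.mem_centralizer_iff.mp hx.2 n hn)
      have e : n * x * n⁻¹ = x := by rw [hxn]; group
      rw [e]; exact hx
    · intro u hu x hx
      refine Subgroup.mem_inf.mpr ⟨P.mul_mem (P.mul_mem hu hx.1) (P.inv_mem hu), ?_⟩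
      rw [Subgroup.mem_centralizer_iff]
      intro m hm
      have hm' : u⁻¹ * m * u ∈ N := by
        have := hNn.conj_mem m hm u⁻¹
        rwa [inv_inv] at this
      have h1 := Subgroup.mem_centralizer_iff.mp hx.2 _ hm'
      calc m * (u * x * u⁻¹) = u * ((u⁻¹ * m * u) * x) * u⁻¹ := by group
        _ = u * (x * (u⁻¹ * m * u)) * u⁻¹ := by rw [h1]
        _ = u * x * u⁻¹ * m := by group
  have hDbot : D = ⊥ := by
    by_contra hne
    have h1 := hmin.2 D hDn hne
    apply hmin.1
    rw [eq_bot_iff, ← hdisj]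
    exact le_inf le_rfl (h1.trans inf_le_left)
  have hCbot : C = ⊥ := by
    by_contra hne
    have h1 := hmin.2 C hCn hne
    have hzD : z ∈ D := by
      refine Subgroup.mem_inf.mpr ⟨hzP, ?_⟩
      rw [Subgroup.mem_centralizer_iff]
      intro m hm
      have := (Subgroup.mem_inf.mp (h1 hm)).2
      rw [Subgroup.mem_centralizer_singleton_iff] at this
      exact this
    rw [hDbot, Subgroup.mem_bot] at hzD
    exact hz1 hzD
  intro n hn
  have hzn : z * n * z⁻¹ ∈ N := hNn.conj_mem n hn z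
  have hc : n * (z * n * z⁻¹) ∈ C := by
    refine Subgroup.mem_inf.mpr ⟨N.mul_mem hn hzn, ?_⟩
    rw [Subgroup.mem_centralizer_singleton_iff]
    have h1 := hNcomm n hn _ hzn
    rw [hzinv] at h1 ⊢
    calc n * (z * n * z) * z = n * z * n * (z * z) := by group
      _ = n * z * n := by rw [hzz, mul_one]
      _ = (z * z) * n * z * n := by rw [hzz, one_mul]
      _ = z * ((z * n * z) * n) := by group
      _ = z * (n * (z * n * z)) := by rw [h1]
  rw [hCbot, Subgroup.mem_bot] at hc
  exact eq_inv_of_mul_eq_one_right hc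

end Cfsg.Agent.Lib.Helper4.StrReal
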