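import Mathlib
import Cfsg.Agent.Lib.Helper4.StrRealC

/-!
# Strongly real characters, IV: counting the square roots of `1` in `G = N ⋊ P`
-/

set_option autoImplicit false
set_option linter.style.haveILetI false
set_option linter.unusedVariables false
set_option linter.unusedSectionVars false

open scoped Pointwise

namespace Cfsg.Agent.Lib.Helper4.StrReal

variable {G : Type*} [Group G] [Finite G] (N P : Subgroup G) [hNn : N.Normal]

theorem card_sq_mem (N : Subgroup G) [hNn : N.Normal] :
    Nat.card {s : G // s * s ∈ N} = Nat.card N * Nat.card {q : G ⧸ N // q * q = 1} := by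
  have h1 := QuotientGroup.card_preimage_mk N {q : G ⧸ N | q * q = 1}
  rw [← Nat.card_congr (Equiv.subtypeEquivRight _) ] at h1
  · exact h1
  · intro s
    simp only [Set.mem_preimage, Set.mem_setOf_eq]
    rw [← QuotientGroup.mk_mul, QuotientGroup.eq_one_iff]

theorem exists_lift_sq (hdisj : N ⊓ P = ⊥) (hprod : N ⊔ P = ⊤) (q : G ⧸ N) (hq : q * q = 1) :
    ∃ s : G, (s : G ⧸ N) = q ∧ s * s = 1 := by
  obtain ⟨g, rfl⟩ := QuotientGroup.mk_surjective q
  obtain ⟨n, hn, u, hu, rfl⟩ := exists_mul_of_sup_eq_top N P hprod g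
  have h1 : ((n * u : G) : G ⧸ N) = (u : G ⧸ N) := by
    rw [QuotientGroup.mk_mul, (QuotientGroup.eq_one_iff n).mpr hn, one_mul]
  refine ⟨u, h1.symm, ?_⟩
  rw [h1, ← QuotientGroup.mk_mul, QuotientGroup.eq_one_iff] at hq
  have h2 : u * u ∈ N ⊓ P := Subgroup.mem_inf.mpr ⟨hq, P.mul_mem hu hu⟩
  rwa [hdisj, Subgroup.mem_bot] at h2

theorem card_sq_ge (hdisj : N ⊓ P = ⊥) (hprod : N ⊔ P = ⊤)
    {z : G} (hzP : z ∈ P) (hz1 : z ≠ 1) (hzz : z * z = 1) (hzinv : ∀ n ∈ N, z * n * z⁻¹ = n⁻¹) :
    Nat.card {q : G ⧸ N // q * q = 1} + Nat.card N ≤ Nat.card {s : G // s * s = 1} + 1 := by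
  classical
  let A := {q : G ⧸ N // q * q = 1 ∧ q ≠ (z : G ⧸ N)}
  -- first injection
  have hA : Nat.card {q : G ⧸ N // q * q = 1} ≤ Nat.card A + 1 := by
    rw [← Finite.card_option]
    let g : {q : G ⧸ N // q * q = 1} → Option A := fun q =>
      if h : (q : G ⧸ N) = (z : G ⧸ N) then none else some ⟨q.1, q.2, h⟩
    apply Nat.card_le_card_of_injective g
    intro q q' hqq
    simp only [g] at hqq
    by_cases h : (q : G ⧸ N) = (z : G ⧸ N)
    · by_cases h' : (q' : G ⧸ N) = (z : G ⧸ N)
      · exact Subtype.ext (h.trans h'.symm)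
      · rw [dif_pos h, dif_neg h'] at hqq
        exact absurd hqq (by simp)
    · by_cases h' : (q' : G ⧸ N) = (z : G ⧸ N)
      · rw [dif_neg h, dif_pos h'] at hqq
        exact absurd hqq (by simp)
      · rw [dif_neg h, dif_neg h'] at hqq
        have := Option.some.inj hqq
        exact Subtype.ext (congrArg (fun a : A => (a : G ⧸ N)) this)
  -- second injection
  have hlift : ∀ a : A, ∃ s : G, (s : G ⧸ N) = (a : G ⧸ N) ∧ s * s = 1 := fun a =>
    exists_lift_sq N P hdisj hprod a.1 a.2.1
  have hnz : ∀ n : N, ((n : G) * z) * ((n : G) * z) = 1 := by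
    intro n
    have h1 := hzinv n n.2
    calc ((n : G) * z) * ((n : G) * z) = (n : G) * (z * (n : G) * z⁻¹) * (z * z) := by group
      _ = 1 := by rw [h1, hzz, mul_one, mul_inv_cancel]
  let f : A ⊕ N → {s : G // s * s = 1} := fun x =>
    match x with
    | Sum.inl a => ⟨Classical.choose (hlift a), (Classical.choose_spec (hlift a)).2⟩
    | Sum.inr n => ⟨(n : G) * z, hnz n⟩
  have hf : Function.Injective f := by
    intro x y hxy
    have hxy' := congrArg Subtype.val hxy
    rcases x with a | n <;> rcases y with b | m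
    · simp only [f] at hxy'
      have h1 := (Classical.choose_spec (hlift a)).1
      have h2 := (Classical.choose_spec (hlift b)).1
      rw [hxy'] at h1
      congr 1
      exact Subtype.ext (h1.symm.trans h2)
    · exfalso
      simp only [f] at hxy'
      have h1 := (Classical.choose_spec (hlift a)).1
      rw [hxy', QuotientGroup.mk_mul, (QuotientGroup.eq_one_iff (m : G)).mpr m.2, one_mul] at h1
      exact a.2.2 h1.symm
    · exfalso
      simp only [f] at hxy'
      have h1 := (Classical.choose_spec (hlift b)).1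
      rw [← hxy', QuotientGroup.mk_mul, (QuotientGroup.eq_one_iff (n : G)).mpr n.2, one_mul] at h1
      exact b.2.2 h1.symm
    · simp only [f] at hxy'
      congr 1
      exact Subtype.ext (mul_right_cancel hxy')
  have h3 := Nat.card_le_card_of_injective f hf
  rw [Nat.card_sum] at h3
  omega

/-- the counting inequality -/
theorem card_sq_ineq (hdisj : N ⊓ P = ⊥) (hprod : N ⊔ P = ⊤)
    {z : G} (hzP : z ∈ P) (hz1 : z ≠ 1) (hzz : z * z = 1) (hzinv : ∀ n ∈ N, z * n * z⁻¹ = n⁻¹) :
    Nat.card {s : G // s * s ∈ N} + Nat.card N * Nat.card N ≤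
      Nat.card N * Nat.card {s : G // s * s = 1} + Nat.card N := by
  rw [card_sq_mem N]
  have h := card_sq_ge N P hdisj hprod hzP hz1 hzz hzinv
  nlinarith [h]

end Cfsg.Agent.Lib.Helper4.StrReal
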