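import Mathlib
import Cfsg.Prelude.Def_Characters
import Cfsg.Prelude.Def_Blocks
import Cfsg.Agent.Lib.helper3.Lin
import Cfsg.Agent.Lib.helper3.MackeyLin
import Cfsg.Agent.Lib.Helper4.StrRealB
import Cfsg.Agent.Lib.Helper4.StrRealC

/-!
# Strongly real characters, V: the linear strongly real characters of `G = N ⋊ P`

Their number is at most the index of the Frattini subgroup of `P`.
-/

set_option autoImplicit false
set_option linter.style.haveILetI false
set_option linter.unusedVariables false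
set_option linter.unusedSectionVars false

namespace Cfsg.Agent.Lib.Helper4.StrReal

open Cfsg Module Cfsg.Agent.Lib.helper3.IndFun Cfsg.Agent.Lib.helper3.CharBasic
open Cfsg.Agent.Lib.helper3.Irr Cfsg.Agent.Lib.helper3.Lin Cfsg.Agent.Lib.helper3.MackeyLin
open Cfsg.Agent.Lib.Helper4.FS
open scoped ComplexConjugate
open Classical

variable {G : Type*} [Group G] [Fintype G]

theorem apply_one_eq_charDegree (χ : IrrCharacter G) :
    (χ : G → ℂ) 1 = (charDegree (χ : G → ℂ) : ℂ) := by
  obtain ⟨d, hd0, hd1⟩ := exists_pos_nat_apply_one χ.2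
  have hdeg : charDegree (χ : G → ℂ) = d := by
    unfold charDegree
    rw [hd1, Complex.natCast_re, Nat.floor_natCast]
  rw [hdeg, hd1]

theorem charDegree_pos (χ : IrrCharacter G) : 0 < charDegree (χ : G → ℂ) := by
  obtain ⟨d, hd0, hd1⟩ := exists_pos_nat_apply_one χ.2
  have hdeg : charDegree (χ : G → ℂ) = d := by
    unfold charDegree
    rw [hd1, Complex.natCast_re, Nat.floor_natCast]
  rw [hdeg]; exact hd0

/-- a linear character with indicator `1` has square `1` -/
theorem mul_self_eq_one_of_fsInd (χ : IrrCharacter G) (h1 : (χ : G → ℂ) 1 = 1)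
    (hν : fsInd (χ : G → ℂ) = 1) (g : G) : (χ : G → ℂ) g * (χ : G → ℂ) g = 1 := by
  have hchar := isCharacter_of_isIrrCharacter χ.2
  have hreal := real_of_fsInd_ne_zero χ.2 (by rw [hν]; exact one_ne_zero) g
  have := mul_conj_eq_one_of_linear hchar h1 g
  rwa [hreal] at this

theorem apply_eq_one_of_odd (N : Subgroup G) (hodd : Odd (Nat.card N)) (χ : IrrCharacter G)
    (h1 : (χ : G → ℂ) 1 = 1) (hν : fsInd (χ : G → ℂ) = 1) {n : G} (hn : n ∈ N) :
    (χ : G → ℂ) n = 1 := by
  have hchar := isCharacter_of_isIrrCharacter χ.2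
  have hsq := mul_self_eq_one_of_fsInd χ h1 hν n
  have hpow : n ^ Nat.card N = 1 := by
    have := pow_card_eq_one' (G := N) (x := ⟨n, hn⟩)
    exact congrArg Subtype.val this
  have h2 := pow_eq_one_of_linear hchar h1 n (Nat.card N) hpow
  obtain ⟨k, hk⟩ := hodd
  rw [hk, pow_succ, pow_mul, pow_two, hsq, one_pow, one_mul] at h2
  exact h2

/-- the Frattini subgroup lies in the kernel of every homomorphism of square `1` -/
theorem frattini_le_ker {P : Type*} [Group P] [Finite P] (ψ : P →* ℂˣ)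
    (hsq : ∀ u, ψ u * ψ u = 1) : frattini P ≤ ψ.ker := by
  have hpm : ∀ u, ψ u = 1 ∨ ψ u = -1 := by
    intro u
    have h1 : ((ψ u : ℂˣ) : ℂ) * ((ψ u : ℂˣ) : ℂ) = 1 := by
      have := congrArg (fun a : ℂˣ => (a : ℂ)) (hsq u)
      simpa using this
    rcases mul_self_eq_one_iff.mp h1 with h | h
    · left; exact Units.ext h
    · right; exact Units.ext (by simpa using h)
  by_contra hle
  obtain ⟨x, hxΦ, hxk⟩ := SetLike.not_le_iff_exists.mp hle
  rw [MonoidHom.mem_ker] at hxk
  have hx : ψ x = -1 := (hpm x).resolve_left hxk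
  have htop : ψ.ker ⊔ frattini P = ⊤ := by
    rw [eq_top_iff]
    intro u _
    by_cases hu : ψ u = 1
    · exact (le_sup_left : ψ.ker ≤ _) (MonoidHom.mem_ker.mpr hu)
    · have hu' : ψ u = -1 := (hpm u).resolve_left hu
      have h1 : u * x⁻¹ ∈ ψ.ker := by
        rw [MonoidHom.mem_ker, map_mul, map_inv, hu', hx]
        simp
      have e : u = (u * x⁻¹) * x := by group
      rw [e]
      exact Subgroup.mul_mem_sup h1 hxΦ
  have := frattini_nongenerating htop
  apply hxk
  rw [← MonoidHom.mem_ker, this]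
  exact Subgroup.mem_top x

/-- linear strongly real characters -/
def LinReal (G : Type*) [Group G] [Fintype G] : Type _ :=
  {χ : IrrCharacter G // charDegree (χ : G → ℂ) = 1 ∧ fsInd (χ : G → ℂ) = 1}

noncomputable instance : Fintype (LinReal G) := by
  unfold LinReal; infer_instance

theorem LinReal.apply_one (χ : LinReal G) : (χ.1 : G → ℂ) 1 = 1 := by
  rw [apply_one_eq_charDegree, χ.2.1, Nat.cast_one]

/-- the unit-valued homomorphism of a linear strongly real character -/
noncomputable def LinReal.hom (χ : LinReal G) : G →* ℂˣ :=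
  (toHom (isCharacter_of_isIrrCharacter χ.1.2) χ.apply_one).toHomUnits

theorem LinReal.hom_apply (χ : LinReal G) (g : G) : ((χ.hom g : ℂˣ) : ℂ) = (χ.1 : G → ℂ) g := by
  unfold LinReal.hom
  rw [MonoidHom.coe_toHomUnits, toHom_apply]

theorem LinReal.hom_sq (χ : LinReal G) (g : G) : χ.hom g * χ.hom g = 1 := by
  apply Units.ext
  rw [Units.val_mul, χ.hom_apply, Units.val_one]
  exact mul_self_eq_one_of_fsInd χ.1 χ.apply_one χ.2.2 g

variable (N P : Subgroup G) [hNn : N.Normal]

/-- the homomorphism on `P / Φ(P)` -/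
noncomputable def LinReal.quotHom (χ : LinReal G) : (↥P ⧸ frattini ↥P) →* ℂ :=
  (Units.coeHom ℂ).comp (QuotientGroup.lift (frattini ↥P) (χ.hom.comp P.subtype)
    (frattini_le_ker (χ.hom.comp P.subtype) (fun u => χ.hom_sq (u : G))))

theorem LinReal.quotHom_mk (χ : LinReal G) (u : ↥P) :
    χ.quotHom P (u : ↥P ⧸ frattini ↥P) = (χ.1 : G → ℂ) (u : G) := by
  unfold LinReal.quotHom
  rw [MonoidHom.comp_apply, QuotientGroup.lift_mk, MonoidHom.comp_apply, Units.coeHom_apply,
    Subgroup.coe_subtype, χ.hom_apply]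

theorem LinReal.quotHom_injective (hodd : Odd (Nat.card N)) (hprod : N ⊔ P = ⊤) :
    Function.Injective (fun χ : LinReal G => χ.quotHom P) := by
  intro χ χ' h
  apply Subtype.ext
  apply Subtype.ext
  funext g
  obtain ⟨n, hn, u, hu, rfl⟩ := exists_mul_of_sup_eq_top N P hprod g
  have hc := isCharacter_of_isIrrCharacter χ.1.2
  have hc' := isCharacter_of_isIrrCharacter χ'.1.2
  rw [map_mul_of_apply_one_eq_one hc χ.apply_one, map_mul_of_apply_one_eq_one hc' χ'.apply_one,
    apply_eq_one_of_odd N hodd χ.1 χ.apply_one χ.2.2 hn,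
    apply_eq_one_of_odd N hodd χ'.1 χ'.apply_one χ'.2.2 hn, one_mul, one_mul]
  have h1 := congrArg (fun f : (↥P ⧸ frattini ↥P) →* ℂ => f ((⟨u, hu⟩ : ↥P) : ↥P ⧸ frattini ↥P)) h
  simp only [LinReal.quotHom_mk] at h1
  exact h1

/-- the number of linear strongly real characters is at most `[P : Φ(P)]` -/
theorem card_linReal_le (hodd : Odd (Nat.card N)) (hprod : N ⊔ P = ⊤) :
    Fintype.card (LinReal G) ≤ (frattini ↥P).index := by
  have hli : LinearIndependent ℂ (fun χ : LinReal G => (χ.quotHom P : (↥P ⧸ frattini ↥P) → ℂ)) :=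
    (linearIndependent_monoidHom (↥P ⧸ frattini ↥P) ℂ).comp _
      (LinReal.quotHom_injective N P hodd hprod)
  letI : Fintype (↥P ⧸ frattini ↥P) := Fintype.ofFinite _
  have h1 := hli.fintype_card_le_finrank
  rw [Module.finrank_fintype_fun_eq_card] at h1
  rw [Subgroup.index_eq_card, Nat.card_eq_fintype_card]
  exact h1

end Cfsg.Agent.Lib.Helper4.StrReal
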