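import Mathlib
import Cfsg.Prelude.Def_Characters
import Cfsg.Prelude.Def_Blocks
import Cfsg.Agent.Lib.Helper4.StrRealD
import Cfsg.Agent.Lib.Helper4.StrRealE

/-!
# Strongly real characters, VI: the average degree inequality for `G = N ⋊ P`
-/

set_option autoImplicit false
set_option linter.style.haveILetI false
set_option linter.unusedVariables false
set_option linter.unusedSectionVars false

namespace Cfsg.Agent.Lib.Helper4.StrReal

open Cfsg Module Cfsg.Agent.Lib.helper3.IndFun Cfsg.Agent.Lib.helper3.CharBasic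
open Cfsg.Agent.Lib.helper3.Irr Cfsg.Agent.Lib.helper3.Lin Cfsg.Agent.Lib.helper3.MackeyLin
open Cfsg.Agent.Lib.Helper4.FS
open scoped ComplexConjugate
open Classical

variable {G : Type*} [Group G] [Fintype G] (N P : Subgroup G) [hNn : N.Normal]

/-- the sum of the degrees of the strongly real characters not trivial on `N` -/
theorem sum_degree_ge
    (hNcomm : ∀ a ∈ N, ∀ b ∈ N, a * b = b * a) (hodd : Odd (Nat.card N))
    (hP : IsPGroup 2 ↥P) (hP1 : P ≠ ⊥) (hdisj : N ⊓ P = ⊥) (hprod : N ⊔ P = ⊤)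
    (hmin : N ≠ ⊥ ∧ ∀ M : Subgroup G, M.Normal → M ≠ ⊥ → N ≤ M) :
    Nat.card N - 1 ≤ ∑ χ ∈ Finset.univ.filter (fun χ : IrrCharacter G =>
      2 ∣ charDegree (χ : G → ℂ) ∧ fsInd (χ : G → ℂ) = 1), charDegree (χ : G → ℂ) := by
  obtain ⟨z, hzP, hz1, hzz, hzc⟩ := exists_central_involution P hP hP1
  have hzinv := inverts_of_central_involution N P hNcomm hdisj hprod hmin hzP hz1 hzz hzc
  have hcount := card_sq_ineq N P hdisj hprod hzP hz1 hzz hzinv
  have hsum := sum_not_inKer N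
  -- the two sets of characters
  set B := Finset.univ.filter (fun χ : IrrCharacter G => ¬ InKer N χ ∧ fsInd (χ : G → ℂ) = 1)
    with hB
  set Bm := Finset.univ.filter (fun χ : IrrCharacter G => ¬ InKer N χ ∧ fsInd (χ : G → ℂ) = -1)
    with hBm
  have hterm : ∀ χ : IrrCharacter G,
      (if InKer N χ then (0 : ℂ) else fsInd (χ : G → ℂ) * (χ : G → ℂ) 1) =
      ((if ¬ InKer N χ ∧ fsInd (χ : G → ℂ) = 1 then charDegree (χ : G → ℂ) else 0 : ℕ) : ℂ) -
      ((if ¬ InKer N χ ∧ fsInd (χ : G → ℂ) = -1 then charDegree (χ : G → ℂ) else 0 : ℕ) : ℂ) := by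
    intro χ
    rw [apply_one_eq_charDegree χ]
    have hne : (1 : ℂ) ≠ -1 := by norm_num
    by_cases hK : InKer N χ
    · simp [hK]
    · rcases fsInd_cases χ.2 with h | h
      · simp [hK, h.1]
      · rcases h.1 with h1 | h1
        · simp [hK, h1, hne]
        · simp [hK, h1, hne.symm]
  have hsum' : ∑ χ : IrrCharacter G,
      (if InKer N χ then (0 : ℂ) else fsInd (χ : G → ℂ) * (χ : G → ℂ) 1) =
      ((∑ χ ∈ B, charDegree (χ : G → ℂ) : ℕ) : ℂ) - ((∑ χ ∈ Bm, charDegree (χ : G → ℂ) : ℕ) : ℂ) := by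
    rw [Finset.sum_congr rfl (fun χ _ => hterm χ), Finset.sum_sub_distrib, hB, hBm,
      Finset.sum_filter, Finset.sum_filter]
    push_cast
    rfl
  rw [hsum'] at hsum
  have hint : (Nat.card N : ℤ) * ((∑ χ ∈ B, charDegree (χ : G → ℂ) : ℕ) -
      (∑ χ ∈ Bm, charDegree (χ : G → ℂ) : ℕ)) =
      (Nat.card N : ℤ) * (Nat.card {s : G // s * s = 1} : ℤ) -
        (Nat.card {s : G // s * s ∈ N} : ℤ) := by
    exact_mod_cast hsum
  have hNpos : 0 < Nat.card N := Nat.card_pos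
  have hBE : ∑ χ ∈ B, charDegree (χ : G → ℂ) ≤
      ∑ χ ∈ Finset.univ.filter (fun χ : IrrCharacter G =>
        2 ∣ charDegree (χ : G → ℂ) ∧ fsInd (χ : G → ℂ) = 1), charDegree (χ : G → ℂ) := by
    apply Finset.sum_le_sum_of_subset
    intro χ hχ
    rw [hB, Finset.mem_filter] at hχ
    rw [Finset.mem_filter]
    exact ⟨Finset.mem_univ _, two_dvd_charDegree_of_not_inKer N hodd z hzinv χ hχ.2.1, hχ.2.2⟩
  refine le_trans ?_ hBE
  have h1 : (Nat.card N : ℤ) * ((Nat.card N : ℤ) - 1) ≤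
      (Nat.card N : ℤ) * ((∑ χ ∈ B, charDegree (χ : G → ℂ) : ℕ) : ℤ) := by
    have hc : ((Nat.card {s : G // s * s ∈ N} : ℕ) : ℤ) + (Nat.card N : ℤ) * (Nat.card N : ℤ) ≤
        (Nat.card N : ℤ) * (Nat.card {s : G // s * s = 1} : ℤ) + (Nat.card N : ℤ) := by
      exact_mod_cast hcount
    have hBm0 : (0 : ℤ) ≤ (Nat.card N : ℤ) * ((∑ χ ∈ Bm, charDegree (χ : G → ℂ) : ℕ) : ℤ) := by
      positivity
    nlinarith [hint, hc, hBm0]
  have h2 : ((Nat.card N : ℤ) - 1) ≤ ((∑ χ ∈ B, charDegree (χ : G → ℂ) : ℕ) : ℤ) :=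
    le_of_mul_le_mul_left h1 (by exact_mod_cast hNpos)
  omega

/-- the inequality: `4 |𝒮| ≤ 3 ∑_{𝒮} χ(1)` -/
theorem main_ineq
    (hNcomm : ∀ a ∈ N, ∀ b ∈ N, a * b = b * a) (hodd : Odd (Nat.card N))
    (hP : IsPGroup 2 ↥P) (hP1 : P ≠ ⊥) (hdisj : N ⊓ P = ⊥) (hprod : N ⊔ P = ⊤)
    (hmin : N ≠ ⊥ ∧ ∀ M : Subgroup G, M.Normal → M ≠ ⊥ → N ≤ M)
    (hfr : (frattini ↥P).index ≤ Nat.card ↥N - 1) :
    4 * (Finset.univ.filter (fun χ : IrrCharacter G =>
        (charDegree (χ : G → ℂ) = 1 ∨ 2 ∣ charDegree (χ : G → ℂ)) ∧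
          fsInd (χ : G → ℂ) = 1)).card ≤
      3 * ∑ χ ∈ Finset.univ.filter (fun χ : IrrCharacter G =>
        (charDegree (χ : G → ℂ) = 1 ∨ 2 ∣ charDegree (χ : G → ℂ)) ∧
          fsInd (χ : G → ℂ) = 1), charDegree (χ : G → ℂ) := by
  set A := Finset.univ.filter (fun χ : IrrCharacter G =>
    charDegree (χ : G → ℂ) = 1 ∧ fsInd (χ : G → ℂ) = 1) with hA
  set E := Finset.univ.filter (fun χ : IrrCharacter G =>
    2 ∣ charDegree (χ : G → ℂ) ∧ fsInd (χ : G → ℂ) = 1) with hE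
  have hS : Finset.univ.filter (fun χ : IrrCharacter G =>
      (charDegree (χ : G → ℂ) = 1 ∨ 2 ∣ charDegree (χ : G → ℂ)) ∧ fsInd (χ : G → ℂ) = 1) =
      A ∪ E := by
    ext χ
    simp only [hA, hE, Finset.mem_filter, Finset.mem_univ, true_and, Finset.mem_union]
    tauto
  have hdisjAE : Disjoint A E := by
    rw [Finset.disjoint_left]
    intro χ h1 h2
    rw [hA, Finset.mem_filter] at h1
    rw [hE, Finset.mem_filter] at h2
    have := h2.2.1
    rw [h1.2.1] at this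
    omega
  rw [hS, Finset.card_union_of_disjoint hdisjAE, Finset.sum_union hdisjAE]
  have hAsum : ∑ χ ∈ A, charDegree (χ : G → ℂ) = A.card := by
    rw [Finset.card_eq_sum_ones]
    apply Finset.sum_congr rfl
    intro χ hχ
    rw [hA, Finset.mem_filter] at hχ
    exact hχ.2.1
  have hAcard : A.card = Fintype.card (LinReal G) := by
    exact (Fintype.card_of_subtype (p := fun χ : IrrCharacter G =>
      charDegree (χ : G → ℂ) = 1 ∧ fsInd (χ : G → ℂ) = 1) A (fun χ => by rw [hA]; simp)).symm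
  have hA_le : A.card ≤ Nat.card N - 1 := by
    rw [hAcard]
    exact (card_linReal_le N P hodd hprod).trans hfr
  have hE_ge := sum_degree_ge N P hNcomm hodd hP hP1 hdisj hprod hmin
  rw [← hE] at hE_ge
  have hE2 : 2 * E.card ≤ ∑ χ ∈ E, charDegree (χ : G → ℂ) := by
    rw [Finset.card_eq_sum_ones, Finset.mul_sum]
    apply Finset.sum_le_sum
    intro χ hχ
    rw [hE, Finset.mem_filter] at hχ
    have hpos := charDegree_pos χ
    obtain ⟨k, hk⟩ := hχ.2.1
    omega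
  rw [hAsum]
  omega

end Cfsg.Agent.Lib.Helper4.StrReal
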