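import Mathlib
import Cfsg.Prelude.Def_GeometricClasses
import Cfsg.Agent.Lib.Helper4.OrthB

set_option autoImplicit false
open Cfsg

/-!
Subfield structures: the fixed field of the Frobenius, rational vectors, membership in the
subfield subgroup, and the stabilizer of the rational points.
-/

namespace Cfsg.Agent.Lib.Helper4.Subf

open Matrix Cfsg.Agent.Lib.Helper4.Orth

section Field

variable {F : Type*} [Field F] [Fintype F]

lemma mem_subfield_iff_pow (F₀ : Subfield F) (q : ℕ) (hq : Nat.card F₀ = q) (x : F) :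
    x ∈ F₀ ↔ x ^ q = x := by
  classical
  have : Fintype F₀ := Fintype.ofFinite _
  have hq' : Fintype.card F₀ = q := by rw [← hq, Nat.card_eq_fintype_card]
  have hq1 : 1 < q := by rw [← hq']; exact Fintype.one_lt_card
  constructor
  · intro hx
    have := FiniteField.pow_card (⟨x, hx⟩ : F₀)
    rw [hq'] at this
    have h2 := congrArg (Subtype.val) this
    simpa using h2
  · intro hx
    let p : Polynomial F := Polynomial.X ^ q - Polynomial.X
    have hp0 : p ≠ 0 := FiniteField.X_pow_card_sub_X_ne_zero F hq1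
    have hdeg : p.natDegree = q := FiniteField.X_pow_card_sub_X_natDegree_eq F hq1
    have hsub : (Finset.univ.image (fun y : F₀ => (y : F))) ⊆ p.roots.toFinset := by
      intro y hy
      rw [Finset.mem_image] at hy
      obtain ⟨y', -, rfl⟩ := hy
      rw [Multiset.mem_toFinset, Polynomial.mem_roots hp0]
      have := FiniteField.pow_card y'
      rw [hq'] at this
      have h2 := congrArg (Subtype.val) this
      simp only [Polynomial.IsRoot, p, Polynomial.eval_sub, Polynomial.eval_pow, Polynomial.eval_X]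
      rw [sub_eq_zero]
      simpa using h2
    have hcard1 : (Finset.univ.image (fun y : F₀ => (y : F))).card = q := by
      rw [Finset.card_image_of_injective _ Subtype.val_injective, Finset.card_univ, hq']
    have hcard2 : p.roots.toFinset.card ≤ q := by
      calc p.roots.toFinset.card ≤ Multiset.card p.roots := Multiset.toFinset_card_le _
        _ ≤ p.natDegree := Polynomial.card_roots' p
        _ = q := hdeg
    have heq := Finset.eq_of_subset_of_card_le hsub (by rw [hcard1]; exact hcard2)
    have hxr : x ∈ p.roots.toFinset := by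
      rw [Multiset.mem_toFinset, Polynomial.mem_roots hp0]
      simp only [Polynomial.IsRoot, p, Polynomial.eval_sub, Polynomial.eval_pow, Polynomial.eval_X]
      rw [hx, sub_self]
    rw [← heq, Finset.mem_image] at hxr
    obtain ⟨y, -, rfl⟩ := hxr
    exact y.2

/-- a quadratic extension is spanned by `1` and any element outside the subfield -/
lemma exists_decomp (F₀ : Subfield F) (hcard : Fintype.card F = Nat.card F₀ ^ 2) (θ : F)
    (hθ : θ ∉ F₀) (x : F) : ∃ α ∈ F₀, ∃ β ∈ F₀, x = α + θ * β := by
  classical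
  have : Fintype F₀ := Fintype.ofFinite _
  let φ : F₀ × F₀ → F := fun p => (p.1 : F) + θ * (p.2 : F)
  have hinj : Function.Injective φ := by
    rintro ⟨a, b⟩ ⟨a', b'⟩ h
    have h' : (a : F) + θ * (b : F) = (a' : F) + θ * (b' : F) := h
    by_cases hb : b = b'
    · subst hb
      have : (a : F) = (a' : F) := by linear_combination h'
      rw [Subtype.ext this]
    · exfalso
      apply hθ
      have hne : (b : F) - (b' : F) ≠ 0 := by
        intro h0
        exact hb (Subtype.ext (sub_eq_zero.1 h0))
      have : θ = ((a' : F) - (a : F)) * ((b : F) - (b' : F))⁻¹ := by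
        field_simp
        linear_combination h'
      rw [this]
      exact F₀.mul_mem (F₀.sub_mem a'.2 a.2) (F₀.inv_mem (F₀.sub_mem b.2 b'.2))
  have hbij : Function.Bijective φ := by
    rw [Fintype.bijective_iff_injective_and_card]
    refine ⟨hinj, ?_⟩
    rw [Fintype.card_prod, hcard, Nat.card_eq_fintype_card, sq]
  obtain ⟨⟨a, b⟩, hab⟩ := hbij.2 x
  exact ⟨a, a.2, b, b.2, hab.symm⟩

end Field

section Rat

variable {n : ℕ} {F : Type*} [Field F] (F₀ : Subfield F)

/-- vectors with entries in the subfield -/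
def IsRat (a : Fin n → F) : Prop := ∀ i, a i ∈ F₀

variable {F₀}

lemma IsRat.zero : IsRat F₀ (0 : Fin n → F) := fun _ => F₀.zero_mem

lemma IsRat.add {a b : Fin n → F} (ha : IsRat F₀ a) (hb : IsRat F₀ b) : IsRat F₀ (a + b) :=
  fun i => F₀.add_mem (ha i) (hb i)

lemma IsRat.sub {a b : Fin n → F} (ha : IsRat F₀ a) (hb : IsRat F₀ b) : IsRat F₀ (a - b) :=
  fun i => F₀.sub_mem (ha i) (hb i)

lemma IsRat.neg {a : Fin n → F} (ha : IsRat F₀ a) : IsRat F₀ (-a) :=
  fun i => F₀.neg_mem (ha i)

lemma IsRat.smul {a : Fin n → F} (ha : IsRat F₀ a) {c : F} (hc : c ∈ F₀) : IsRat F₀ (c • a) :=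
  fun i => F₀.mul_mem hc (ha i)

lemma IsRat.single (i : Fin n) {c : F} (hc : c ∈ F₀) : IsRat F₀ (Pi.single i c : Fin n → F) := by
  intro j
  rw [Pi.single_apply]
  split_ifs
  · exact hc
  · exact F₀.zero_mem

lemma IsRat.dot {a b : Fin n → F} (ha : IsRat F₀ a) (hb : IsRat F₀ b) : a ⬝ᵥ b ∈ F₀ :=
  F₀.sum_mem fun i _ => F₀.mul_mem (ha i) (hb i)

/-- every vector is `a + θ b` with `a`, `b` rational -/
lemma exists_rat_decomp [Fintype F] (hcard : Fintype.card F = Nat.card F₀ ^ 2) (θ : F)
    (hθ : θ ∉ F₀) (x : Fin n → F) : ∃ a b : Fin n → F, IsRat F₀ a ∧ IsRat F₀ b ∧ x = a + θ • b := by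
  choose α hα β hβ h using fun i => exists_decomp F₀ hcard θ hθ (x i)
  exact ⟨α, β, hα, hβ, funext fun i => by rw [h i]; rfl⟩

end Rat

end Cfsg.Agent.Lib.Helper4.Subf
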