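import Mathlib
import Cfsg.Prelude.Def_GeometricClasses
import Cfsg.Agent.Lib.Helper4.SubfA

set_option autoImplicit false
open Cfsg

/-!
Membership in the subfield subgroup `subfieldSubgroup F₀ P`: in terms of the action on the
rational points `P a` (`a` with entries in `F₀`).
-/

namespace Cfsg.Agent.Lib.Helper4.Subf

open Matrix Cfsg.Agent.Lib.Helper4.Orth
open scoped Pointwise

section Mem

variable {n : ℕ} {F : Type*} [Field F] (F₀ : Subfield F)

/-- a `GL` element with entries in `F₀` is in the range of `GL_n(F₀) → GL_n(F)` -/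
lemma mem_range_of_entries (B : GL (Fin n) F)
    (h : ∀ i j, (B : Matrix (Fin n) (Fin n) F) i j ∈ F₀) :
    B ∈ (Matrix.GeneralLinearGroup.map (F₀.subtype : F₀ →+* F)).range := by
  let B₀ : Matrix (Fin n) (Fin n) F₀ := fun i j => ⟨(B : Matrix (Fin n) (Fin n) F) i j, h i j⟩
  have hmap : B₀.map F₀.subtype = (B : Matrix (Fin n) (Fin n) F) := by
    ext i j; rfl
  have hdet : F₀.subtype B₀.det = (B : Matrix (Fin n) (Fin n) F).det := by
    rw [RingHom.map_det, RingHom.mapMatrix_apply, hmap]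
  have hdet0 : B₀.det ≠ 0 := by
    intro h0
    rw [h0, map_zero] at hdet
    have := (Matrix.GeneralLinearGroup.det B).ne_zero
    exact this hdet.symm
  refine ⟨Matrix.GeneralLinearGroup.mkOfDetNeZero B₀ hdet0, ?_⟩
  apply Units.ext
  ext i j
  rw [Matrix.GeneralLinearGroup.map_apply]
  rfl

/-- the scalar matrix `c • 1` as an element of `GL` -/
def scal (c : Fˣ) : GL (Fin n) F := Units.map (Matrix.scalar (Fin n) : F →+* _).toMonoidHom c

lemma scal_mem (c : Fˣ) : (scal c : GL (Fin n) F) ∈ Cfsg.Geo.scalars (Fin n) F := ⟨c, rfl⟩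

lemma scal_mulVec (c : Fˣ) (x : Fin n → F) :
    ((scal c : GL (Fin n) F) : Matrix (Fin n) (Fin n) F) *ᵥ x = (c : F) • x := by
  have : ((scal c : GL (Fin n) F) : Matrix (Fin n) (Fin n) F) = (c : F) • (1 : Matrix _ _ F) := by
    simp [scal, Matrix.smul_one_eq_diagonal]
  rw [this, Matrix.smul_mulVec, Matrix.one_mulVec]

lemma isRat_mulVec {A : Matrix (Fin n) (Fin n) F} (hA : ∀ i j, A i j ∈ F₀) {a : Fin n → F}
    (ha : IsRat F₀ a) : IsRat F₀ (A *ᵥ a) :=
  fun i => by
    rw [Matrix.mulVec, dotProduct]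
    exact F₀.sum_mem fun j _ => F₀.mul_mem (hA i j) (ha j)

variable (P : GL (Fin n) F)

/-- `g` maps every rational point `P a` to `c` times a rational point: then `g` is in the
subfield group. -/
lemma mem_subfield_of_smul (g : GL (Fin n) F) (c : F) (hc : c ≠ 0)
    (h : ∀ a, IsRat F₀ a → ∃ b, IsRat F₀ b ∧
      (g : Matrix (Fin n) (Fin n) F) *ᵥ ((P : Matrix (Fin n) (Fin n) F) *ᵥ a) =
        c • (P : Matrix (Fin n) (Fin n) F) *ᵥ b) :
    g ∈ Cfsg.Geo.subfieldSubgroup F₀ P := by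
  classical
  set cu : Fˣ := Units.mk0 c hc with hcu
  set B : GL (Fin n) F := P⁻¹ * g * P * (scal cu)⁻¹ with hB
  have hBv : ∀ x, (B : Matrix (Fin n) (Fin n) F) *ᵥ x =
      ((P⁻¹ : GL (Fin n) F) : Matrix (Fin n) (Fin n) F) *ᵥ ((g : Matrix (Fin n) (Fin n) F) *ᵥ
        ((P : Matrix (Fin n) (Fin n) F) *ᵥ (c⁻¹ • x))) := by
    intro x
    have e : (scal cu : GL (Fin n) F)⁻¹ = scal cu⁻¹ := by
      rw [scal, scal, map_inv]
    rw [hB, e, mul_mulVec, mul_mulVec, mul_mulVec, scal_mulVec]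
    simp [hcu]
  have hBe : ∀ i j, (B : Matrix (Fin n) (Fin n) F) i j ∈ F₀ := by
    intro i j
    obtain ⟨b, hb, hgb⟩ := h (Pi.single j 1) (IsRat.single j F₀.one_mem)
    have h1 : (B : Matrix (Fin n) (Fin n) F) *ᵥ (Pi.single j 1) = b := by
      rw [hBv, Matrix.mulVec_smul, Matrix.mulVec_smul, hgb, Matrix.mulVec_smul,
        Matrix.mulVec_smul, smul_smul, inv_mul_cancel₀ hc, one_smul, inv_mulVec_mulVec]
    have h2 : (B : Matrix (Fin n) (Fin n) F) i j = b i := by
      rw [← h1, Matrix.mulVec_single_one]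
      rfl
    rw [h2]
    exact hb i
  have hBr := mem_range_of_entries F₀ B hBe
  have hg : g = P * (B * scal cu) * P⁻¹ := by
    rw [hB]; group
  rw [Cfsg.Geo.subfieldSubgroup, Subgroup.mem_map]
  refine ⟨B * scal cu, Subgroup.mul_mem_sup hBr (scal_mem cu), ?_⟩
  rw [hg]
  rfl

/-- an element of the subfield group maps rational points to a fixed multiple of rational
points -/
lemma mem_subfield_elim (g : GL (Fin n) F) (hg : g ∈ Cfsg.Geo.subfieldSubgroup F₀ P) :
    ∃ c : F, c ≠ 0 ∧ ∀ a, IsRat F₀ a → ∃ b, IsRat F₀ b ∧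
      (g : Matrix (Fin n) (Fin n) F) *ᵥ ((P : Matrix (Fin n) (Fin n) F) *ᵥ a) =
        c • (P : Matrix (Fin n) (Fin n) F) *ᵥ b := by
  classical
  rw [Cfsg.Geo.subfieldSubgroup, Subgroup.mem_map] at hg
  obtain ⟨k, hk, rfl⟩ := hg
  have hk' : k ∈ (((Matrix.GeneralLinearGroup.map (F₀.subtype : F₀ →+* F)).range :
      Subgroup (GL (Fin n) F)) : Set (GL (Fin n) F)) *
      ((Cfsg.Geo.scalars (Fin n) F : Subgroup (GL (Fin n) F)) : Set (GL (Fin n) F)) := by
    rw [← Subgroup.mul_normal]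
    exact hk
  obtain ⟨A, ⟨A₀, rfl⟩, S, hS, rfl⟩ := Set.mem_mul.1 hk'
  obtain ⟨c, hSc⟩ := (Cfsg.Geo.mem_scalars_iff S).1 hS
  refine ⟨c, c.ne_zero, fun a ha => ?_⟩
  refine ⟨(Matrix.GeneralLinearGroup.map (F₀.subtype : F₀ →+* F) A₀ :
    Matrix (Fin n) (Fin n) F) *ᵥ a, isRat_mulVec F₀ (fun i j => ?_) ha, ?_⟩
  · rw [Matrix.GeneralLinearGroup.map_apply]
    exact (A₀.1 i j).2
  · have e : (MulAut.conj P).toMonoidHom
        (Matrix.GeneralLinearGroup.map (F₀.subtype : F₀ →+* F) A₀ * S) =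
        P * (Matrix.GeneralLinearGroup.map (F₀.subtype : F₀ →+* F) A₀ * S) * P⁻¹ := rfl
    rw [e, mul_mulVec, mul_mulVec, mul_mulVec, inv_mulVec_mulVec, hSc, Matrix.smul_mulVec,
      Matrix.one_mulVec, Matrix.mulVec_smul, Matrix.mulVec_smul]

/-- **Stabilizer of the rational points**: if `g` maps every rational point to a multiple of a
rational point, it lies in the subfield group. -/
lemma mem_subfield_of_rat (hn : 0 < n) (σ : F →+* F) (hσ : ∀ x, x ∈ F₀ ↔ σ x = x)
    (g : GL (Fin n) F)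
    (h : ∀ a, IsRat F₀ a → ∃ (c : F) (b : Fin n → F), IsRat F₀ b ∧
      (g : Matrix (Fin n) (Fin n) F) *ᵥ ((P : Matrix (Fin n) (Fin n) F) *ᵥ a) =
        c • (P : Matrix (Fin n) (Fin n) F) *ᵥ b) :
    g ∈ Cfsg.Geo.subfieldSubgroup F₀ P := by
  classical
  set B : GL (Fin n) F := P⁻¹ * g * P with hB
  have hBv : ∀ a, IsRat F₀ a → ∃ (c : F) (b : Fin n → F), IsRat F₀ b ∧
      (B : Matrix (Fin n) (Fin n) F) *ᵥ a = c • b := by
    intro a ha
    obtain ⟨c, b, hb, hgb⟩ := h a ha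
    refine ⟨c, b, hb, ?_⟩
    rw [hB, mul_mulVec, mul_mulVec, hgb, Matrix.mulVec_smul, inv_mulVec_mulVec]
  have hBinj : ∀ x, (B : Matrix (Fin n) (Fin n) F) *ᵥ x = 0 → x = 0 := by
    intro x hx
    have := inv_mulVec_mulVec B x
    rw [hx, Matrix.mulVec_zero] at this
    exact this.symm
  have hσv : ∀ r : Fin n → F, IsRat F₀ r → (fun i => σ (r i)) = r := fun r hr =>
    funext fun i => (hσ _).1 (hr i)
  let e : Fin n → Fin n → F := fun j => Pi.single j 1
  have he : ∀ j, IsRat F₀ (e j) := fun j => IsRat.single j F₀.one_mem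
  choose c r hr hBe using fun j => hBv (e j) (he j)
  have hej : ∀ j, e j ≠ 0 := by
    intro j h0
    have := congrFun h0 j
    simp [e] at this
  have hc0 : ∀ j, c j ≠ 0 := by
    intro j h0
    apply hej j
    apply hBinj
    rw [hBe, h0, zero_smul]
  let i₀ : Fin n := ⟨0, hn⟩
  -- the key claim
  have key : ∀ j, σ (c j / c i₀) = c j / c i₀ := by
    intro j
    by_cases hj : j = i₀
    · rw [hj, div_self (hc0 i₀), map_one]
    obtain ⟨d, s, hs, hd⟩ := hBv (e i₀ + e j) ((he i₀).add (he j))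
    rw [Matrix.mulVec_add, hBe, hBe] at hd
    have hd0 : d ≠ 0 := by
      intro h0
      have h1 : (B : Matrix (Fin n) (Fin n) F) *ᵥ (e i₀ + e j) = 0 := by
        rw [Matrix.mulVec_add, hBe, hBe, hd, h0, zero_smul]
      have h2 := congrFun (hBinj _ h1) i₀
      simp [e, Ne.symm hj] at h2
    -- apply σ entrywise
    have hd' : σ (c i₀) • r i₀ + σ (c j) • r j = σ d • s := by
      have := congrArg (fun v : Fin n → F => fun i => σ (v i)) hd
      simp only [Pi.add_apply, Pi.smul_apply, smul_eq_mul, map_add, map_mul] at this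
      have h1 := hσv _ (hr i₀)
      have h2 := hσv _ (hr j)
      have h3 := hσv _ hs
      funext i
      have := congrFun this i
      rw [congrFun h1 i, congrFun h2 i, congrFun h3 i] at this
      simpa using this
    -- independence of `r i₀`, `r j`
    have hind : ∀ α β : F, α • r i₀ + β • r j = 0 → α = 0 ∧ β = 0 := by
      intro α β hαβ
      have h1 : (B : Matrix (Fin n) (Fin n) F) *ᵥ ((α / c i₀) • e i₀ + (β / c j) • e j) = 0 := by
        rw [Matrix.mulVec_add, Matrix.mulVec_smul, Matrix.mulVec_smul, hBe, hBe, smul_smul,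
          smul_smul, div_mul_cancel₀ _ (hc0 i₀), div_mul_cancel₀ _ (hc0 j), hαβ]
      have h2 := hBinj _ h1
      have h3 := congrFun h2 i₀
      have h4 := congrFun h2 j
      simp [e, Ne.symm hj, hj] at h3 h4
      constructor
      · rcases h3 with h3 | h3
        · exact h3
        · exact absurd h3 (hc0 i₀)
      · rcases h4 with h4 | h4
        · exact h4
        · exact absurd h4 (hc0 j)
    have hcomb : (σ d * c i₀ - d * σ (c i₀)) • r i₀ + (σ d * c j - d * σ (c j)) • r j = 0 := by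
      have : σ d • (c i₀ • r i₀ + c j • r j) - d • (σ (c i₀) • r i₀ + σ (c j) • r j) = 0 := by
        rw [hd, hd', smul_smul, smul_smul, mul_comm, sub_self]
      rw [← this]
      module
    obtain ⟨h1, h2⟩ := hind _ _ hcomb
    have hσc0 : σ (c i₀) ≠ 0 := by
      rw [Ne, map_eq_zero]; exact hc0 i₀
    rw [map_div₀, div_eq_div_iff hσc0 (hc0 i₀)]
    have hσd : σ d ≠ 0 := by
      rw [Ne, map_eq_zero]; exact hd0
    apply mul_left_cancel₀ hσd
    apply mul_left_cancel₀ hd0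
    linear_combination (σ d * c j) * h1 - (σ d * c i₀) * h2
  have hent : ∀ i j, ((c i₀)⁻¹ • (B : Matrix (Fin n) (Fin n) F)) i j ∈ F₀ := by
    intro i j
    have h1 : (B : Matrix (Fin n) (Fin n) F) i j = c j * r j i := by
      have := congrFun (hBe j) i
      rw [Matrix.mulVec_single_one] at this
      exact this
    rw [Matrix.smul_apply, h1, smul_eq_mul]
    have h2 : (c i₀)⁻¹ * (c j * r j i) = (c j / c i₀) * r j i := by
      field_simp
    rw [h2]
    exact F₀.mul_mem ((hσ _).2 (key j)) (hr j i)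
  apply mem_subfield_of_smul F₀ P g (c i₀) (hc0 i₀)
  intro a ha
  refine ⟨((c i₀)⁻¹ • (B : Matrix (Fin n) (Fin n) F)) *ᵥ a, isRat_mulVec F₀ hent ha, ?_⟩
  rw [Matrix.smul_mulVec, Matrix.mulVec_smul, smul_smul, mul_inv_cancel₀ (hc0 i₀), one_smul, hB,
    mul_mulVec, mul_mulVec, mulVec_inv_mulVec]

end Mem


end Cfsg.Agent.Lib.Helper4.Subf
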