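import Mathlib
import Cfsg.Prelude.Def_GeometricClasses
import Cfsg.Agent.Lib.Helper4.SubfB
import Cfsg.Agent.Lib.Helper8.SUMaxA

set_option autoImplicit false
open Cfsg

/-!
The symplectic subfield subgroup of the unitary group: the alternating form `om` on the
coordinates, and the rational symplectic transvections `tau`.
-/

namespace Cfsg.Agent.Lib.Helper4.Subf

open Matrix Cfsg.Agent.Lib.Helper4.Orth Cfsg.Agent.Lib.Helper8.Unitary
  Cfsg.Agent.Lib.Helper8.SUGen Cfsg.Agent.Lib.Helper8.SUMax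

section Om

variable {n : ℕ} {F : Type*} [Field F] {σ : F ≃+* F} (f : (Fin n → F) → (Fin n → F) → F)
variable (ζ : F) (P : GL (Fin n) F)

/-- the form `ζ f(P a, P b)` on coordinates -/
def om (a b : Fin n → F) : F :=
  ζ * f ((P : Matrix (Fin n) (Fin n) F) *ᵥ a) ((P : Matrix (Fin n) (Fin n) F) *ᵥ b)

/-- the symplectic transvection on coordinates -/
def tau (v : Fin n → F) (c : F) (x : Fin n → F) : Fin n → F := x + (c * om f ζ P x v) • v

variable {f} (hf : Cfsg.Geo.IsUnitaryForm σ f)
include hf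

lemma om_add_left (a a' b : Fin n → F) : om f ζ P (a + a') b = om f ζ P a b + om f ζ P a' b := by
  rw [om, om, om, Matrix.mulVec_add, hf.add_left, mul_add]

lemma om_smul_left (c : F) (a b : Fin n → F) : om f ζ P (c • a) b = c * om f ζ P a b := by
  rw [om, om, Matrix.mulVec_smul, hf.smul_left]; ring

lemma om_add_right (a b b' : Fin n → F) : om f ζ P a (b + b') = om f ζ P a b + om f ζ P a b' := by
  rw [om, om, om, Matrix.mulVec_add, f_add_right hf, mul_add]

lemma om_smul_right (c : F) (a b : Fin n → F) : om f ζ P a (c • b) = σ c * om f ζ P a b := by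
  rw [om, om, Matrix.mulVec_smul, f_smul_right hf]; ring

lemma om_zero_left (b : Fin n → F) : om f ζ P 0 b = 0 := by
  rw [om, Matrix.mulVec_zero, f_zero_left hf, mul_zero]

lemma om_zero_right (a : Fin n → F) : om f ζ P a 0 = 0 := by
  rw [om, Matrix.mulVec_zero, f_zero_right hf, mul_zero]

lemma om_neg_left (a b : Fin n → F) : om f ζ P (-a) b = - om f ζ P a b := by
  have := om_smul_left ζ P hf (-1) a b
  simpa using this

lemma om_sub_left (a a' b : Fin n → F) : om f ζ P (a - a') b = om f ζ P a b - om f ζ P a' b := by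
  rw [sub_eq_add_neg, om_add_left ζ P hf, om_neg_left ζ P hf, sub_eq_add_neg]

lemma om_neg_right (a b : Fin n → F) : om f ζ P a (-b) = - om f ζ P a b := by
  rw [om, om, Matrix.mulVec_neg, f_neg_right hf, mul_neg]

lemma om_sub_right (a b b' : Fin n → F) : om f ζ P a (b - b') = om f ζ P a b - om f ζ P a b' := by
  rw [sub_eq_add_neg, om_add_right ζ P hf, om_neg_right ζ P hf, sub_eq_add_neg]

lemma tau_add (v : Fin n → F) (c : F) (x y : Fin n → F) :
    tau f ζ P v c (x + y) = tau f ζ P v c x + tau f ζ P v c y := by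
  rw [tau, tau, tau, om_add_left ζ P hf]
  module

lemma tau_smul (v : Fin n → F) (c d : F) (x : Fin n → F) :
    tau f ζ P v c (d • x) = d • tau f ζ P v c x := by
  rw [tau, tau, om_smul_left ζ P hf]
  module

variable (F₀ : Subfield F) (hσ : ∀ x, x ∈ F₀ ↔ σ x = x)
include hσ

lemma om_smul_right_rat (c : F) (hc : c ∈ F₀) (a b : Fin n → F) :
    om f ζ P a (c • b) = c * om f ζ P a b := by
  rw [om_smul_right ζ P hf, (hσ c).1 hc]

variable (hP : Cfsg.Geo.IsFormRationalStructure f F₀ ζ P)
variable (halt : ∀ u, IsRat F₀ u → f ((P : Matrix (Fin n) (Fin n) F) *ᵥ u)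
  ((P : Matrix (Fin n) (Fin n) F) *ᵥ u) = 0)

omit hf hσ in
include hP in
lemma om_mem {a b : Fin n → F} (ha : IsRat F₀ a) (hb : IsRat F₀ b) : om f ζ P a b ∈ F₀ :=
  hP a b ha hb

omit hf hσ in
include halt in
lemma om_self {a : Fin n → F} (ha : IsRat F₀ a) : om f ζ P a a = 0 := by
  rw [om, halt a ha, mul_zero]

omit hσ in
include halt in
lemma om_skew {a b : Fin n → F} (ha : IsRat F₀ a) (hb : IsRat F₀ b) :
    om f ζ P b a = - om f ζ P a b := by
  have h := om_self ζ P F₀ halt (ha.add hb)
  rw [om_add_left ζ P hf, om_add_right ζ P hf, om_add_right ζ P hf, om_self ζ P F₀ halt ha,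
    om_self ζ P F₀ halt hb] at h
  linear_combination h

include hP in
omit hf hσ in
lemma tau_rat {v : Fin n → F} (hv : IsRat F₀ v) {c : F} (hc : c ∈ F₀) {x : Fin n → F}
    (hx : IsRat F₀ x) : IsRat F₀ (tau f ζ P v c x) :=
  hx.add (hv.smul (F₀.mul_mem hc (om_mem ζ P F₀ hP hx hv)))

omit hσ in
include halt in
lemma tau_inj {v : Fin n → F} (hv : IsRat F₀ v) (c : F) (y : Fin n → F)
    (h : tau f ζ P v c y = 0) : y = 0 := by
  have h1 : y = -((c * om f ζ P y v) • v) := by
    rw [tau] at h
    exact eq_neg_of_add_eq_zero_left h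
  have h2 : om f ζ P y v = 0 := by
    have := congrArg (fun t => om f ζ P t v) h1
    simp only [om_neg_left ζ P hf, om_smul_left ζ P hf, om_self ζ P F₀ halt hv, mul_zero,
      neg_zero] at this
    exact this
  rw [h1, h2, mul_zero, zero_smul, neg_zero]

end Om

end Cfsg.Agent.Lib.Helper4.Subf
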