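import Mathlib
import Cfsg.Prelude.Def_GeometricClasses
import Cfsg.Agent.Lib.Helper4.SubfC

set_option autoImplicit false
open Cfsg

/-!
The symplectic subfield subgroup of the unitary group: the unitary transvections with rational
centre lie in the subfield group and act as symplectic transvections on the coordinates.
-/

namespace Cfsg.Agent.Lib.Helper4.Subf

open Matrix Cfsg.Agent.Lib.Helper4.Orth Cfsg.Agent.Lib.Helper8.Unitary
  Cfsg.Agent.Lib.Helper8.SUGen Cfsg.Agent.Lib.Helper8.SUMax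

section Grp

variable {n : ℕ} {F : Type*} [Field F] {σ : F ≃+* F} {f : (Fin n → F) → (Fin n → F) → F}
variable (ζ : F) (P : GL (Fin n) F)
variable (hf : Cfsg.Geo.IsUnitaryForm σ f)
variable (F₀ : Subfield F) (hσ : ∀ x, x ∈ F₀ ↔ σ x = x)
variable (hP : Cfsg.Geo.IsFormRationalStructure f F₀ ζ P)
variable (halt : ∀ u, IsRat F₀ u → f ((P : Matrix (Fin n) (Fin n) F) *ᵥ u)
  ((P : Matrix (Fin n) (Fin n) F) *ᵥ u) = 0)
variable (hζ : ζ + σ ζ = 0)

include hσ hζ in
/-- action of the unitary transvection with rational centre -/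
lemma ut_rat_mulVec {v : Fin n → F} (hv : IsRat F₀ v) {c : F} (hc : c ∈ F₀) (x : Fin n → F) :
    ((ut hf ((P : Matrix (Fin n) (Fin n) F) *ᵥ v) (halt v hv) (-(c * ζ)) : GL (Fin n) F) :
      Matrix (Fin n) (Fin n) F) *ᵥ ((P : Matrix (Fin n) (Fin n) F) *ᵥ x) =
      (P : Matrix (Fin n) (Fin n) F) *ᵥ (tau f ζ P v c x) := by
  have h1 : σ (-(c * ζ)) = c * ζ := by
    rw [map_neg, map_mul, (hσ c).1 hc]; linear_combination (-c) * hζ
  rw [ut_mulVec, tau, Matrix.mulVec_add, Matrix.mulVec_smul, om, h1, mul_assoc]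

include hσ hζ hP in
lemma ut_rat_mem {v : Fin n → F} (hv : IsRat F₀ v) {c : F} (hc : c ∈ F₀) :
    ut hf ((P : Matrix (Fin n) (Fin n) F) *ᵥ v) (halt v hv) (-(c * ζ)) ∈
      Cfsg.Geo.subfieldSubgroup F₀ P ⊓ SUf f := by
  refine ⟨?_, ut_mem_SUf hf _ _ _ ?_⟩
  · apply mem_subfield_of_smul F₀ P _ 1 one_ne_zero
    intro a ha
    refine ⟨tau f ζ P v c a, tau_rat ζ P F₀ hP hv hc ha, ?_⟩
    rw [ut_rat_mulVec ζ P hf F₀ hσ halt hζ hv hc, one_smul]
  · rw [map_neg, map_mul, (hσ c).1 hc]; linear_combination (-c) * hζ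

variable (hζ0 : ζ ≠ 0) (M : Subgroup (GL (Fin n) F))
variable (hHM : Cfsg.Geo.subfieldSubgroup F₀ P ⊓ SUf f ≤ M) (hMS : M ≤ SUf f)

include hσ hζ hP hζ0 hHM halt in
/-- rational points are centres of unitary transvections of `M` -/
lemma rat_mem_SSu {a : Fin n → F} (ha : IsRat F₀ a) :
    (P : Matrix (Fin n) (Fin n) F) *ᵥ a ∈ SSu hf M := by
  refine ⟨halt a ha, fun z hz => ?_⟩
  have hσζ : σ ζ = -ζ := by linear_combination hζ
  have hσz : σ z = -z := by linear_combination hz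
  have hc : -z / ζ ∈ F₀ := by
    rw [hσ, map_div₀, map_neg, hσζ, hσz]
    field_simp
  have e : z = -((-z / ζ) * ζ) := by
    field_simp
  have := ut_rat_mem ζ P hf F₀ hσ hP halt hζ ha hc
  rw [← e] at this
  exact hHM this

include hσ hζ hP hHM hMS halt in
/-- the set of centres is invariant under the rational symplectic transvections -/
lemma step {v : Fin n → F} (hv : IsRat F₀ v) {c : F} (hc : c ∈ F₀) (x : Fin n → F)
    (hx : (P : Matrix (Fin n) (Fin n) F) *ᵥ x ∈ SSu hf M) :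
    (P : Matrix (Fin n) (Fin n) F) *ᵥ (tau f ζ P v c x) ∈ SSu hf M := by
  have := SSu_mulVec hf M hMS _ (hHM (ut_rat_mem ζ P hf F₀ hσ hP halt hζ hv hc)) _ hx
  rw [ut_rat_mulVec ζ P hf F₀ hσ halt hζ hv hc] at this
  exact this

end Grp

end Cfsg.Agent.Lib.Helper4.Subf
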