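import Mathlib
import Cfsg.Prelude.Def_GeometricClasses
import Cfsg.Agent.Lib.Helper4.SubfD

set_option autoImplicit false
open Cfsg

/-!
The symplectic subfield subgroup of the unitary group: moving pairs of rational vectors by
rational symplectic transvections (Witt's lemma for pairs, by hand).
-/

namespace Cfsg.Agent.Lib.Helper4.Subf

open Matrix Cfsg.Agent.Lib.Helper4.Orth Cfsg.Agent.Lib.Helper8.Unitary
  Cfsg.Agent.Lib.Helper8.SUGen Cfsg.Agent.Lib.Helper8.SUMax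

/-- independence over the subfield -/
def Ind {n : ℕ} {F : Type*} [Field F] (F₀ : Subfield F) (a b : Fin n → F) : Prop :=
  ∀ α β : F, α ∈ F₀ → β ∈ F₀ → α • a + β • b = 0 → α = 0 ∧ β = 0

section Moves

variable {n : ℕ} {F : Type*} [Field F] {σ : F ≃+* F} {f : (Fin n → F) → (Fin n → F) → F}
variable (ζ : F) (P : GL (Fin n) F)
variable (hf : Cfsg.Geo.IsUnitaryForm σ f)
variable (F₀ : Subfield F) (hσ : ∀ x, x ∈ F₀ ↔ σ x = x)
variable (hP : Cfsg.Geo.IsFormRationalStructure f F₀ ζ P)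
variable (halt : ∀ u, IsRat F₀ u → f ((P : Matrix (Fin n) (Fin n) F) *ᵥ u)
  ((P : Matrix (Fin n) (Fin n) F) *ᵥ u) = 0)
variable (hζ : ζ + σ ζ = 0)

include hf halt in
lemma tau_move {a a' : Fin n → F} (ha : IsRat F₀ a) (h : om f ζ P a a' ≠ 0) :
    tau f ζ P (a' - a) (om f ζ P a a')⁻¹ a = a' := by
  rw [tau, om_sub_right ζ P hf, om_self ζ P F₀ halt ha, sub_zero, inv_mul_cancel₀ h, one_smul]
  abel

omit σ in
lemma tau_fix {a w : Fin n → F} (h : om f ζ P a w = 0) (c : F) : tau f ζ P w c a = a := by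
  rw [tau, h, mul_zero, zero_smul, add_zero]

include hf in
lemma tau_pair (θ : F) (w : Fin n → F) (c : F) (a b : Fin n → F) :
    tau f ζ P w c (a + θ • b) = tau f ζ P w c a + θ • tau f ζ P w c b := by
  rw [tau_add ζ P hf, tau_smul ζ P hf]

include hf halt in
lemma Ind.tau {a b : Fin n → F} (h : Ind F₀ a b) {w : Fin n → F} (hw : IsRat F₀ w) (c : F) :
    Ind F₀ (tau f ζ P w c a) (tau f ζ P w c b) := by
  intro α β hα hβ h0
  rw [← tau_smul ζ P hf, ← tau_smul ζ P hf, ← tau_add ζ P hf] at h0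
  exact h α β hα hβ (tau_inj ζ P hf F₀ halt hw c _ h0)

variable (M : Subgroup (GL (Fin n) F))
variable (hHM : Cfsg.Geo.subfieldSubgroup F₀ P ⊓ SUf f ≤ M) (hMS : M ≤ SUf f)

include hσ hζ hP hHM hMS halt in
/-- moving the first vector of a pair -/
lemma moveA (θ : F) {a a' b : Fin n → F} (ha : IsRat F₀ a) (ha' : IsRat F₀ a')
    (h : om f ζ P a a' ≠ 0)
    (hS : (P : Matrix (Fin n) (Fin n) F) *ᵥ (a + θ • b) ∈ SSu hf M) :
    (P : Matrix (Fin n) (Fin n) F) *ᵥ
      (a' + θ • tau f ζ P (a' - a) (om f ζ P a a')⁻¹ b) ∈ SSu hf M := by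
  have := step ζ P hf F₀ hσ hP halt hζ M hHM hMS (ha'.sub ha)
    (F₀.inv_mem (om_mem ζ P F₀ hP ha ha')) _ hS
  rw [tau_pair ζ P hf, tau_move ζ P hf F₀ halt ha h] at this
  exact this

include hσ hζ hP hHM hMS halt in
/-- moving the second vector of a pair, fixing the first -/
lemma moveB (θ : F) {a b b' : Fin n → F} (hb : IsRat F₀ b) (hb' : IsRat F₀ b')
    (hab : om f ζ P a b = 0) (hab' : om f ζ P a b' = 0) (h : om f ζ P b b' ≠ 0)
    (hS : (P : Matrix (Fin n) (Fin n) F) *ᵥ (a + θ • b) ∈ SSu hf M) :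
    (P : Matrix (Fin n) (Fin n) F) *ᵥ (a + θ • b') ∈ SSu hf M := by
  have := step ζ P hf F₀ hσ hP halt hζ M hHM hMS (hb'.sub hb)
    (F₀.inv_mem (om_mem ζ P F₀ hP hb hb')) _ hS
  rw [tau_pair ζ P hf, tau_move ζ P hf F₀ halt hb h, tau_fix ζ P (by
    rw [om_sub_right ζ P hf, hab, hab', sub_zero])] at this
  exact this

end Moves

end Cfsg.Agent.Lib.Helper4.Subf
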