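import Mathlib
import Cfsg.Prelude.Def_GeometricClasses
import Cfsg.Agent.Lib.Helper4.SubfE

set_option autoImplicit false
open Cfsg

/-!
The symplectic subfield subgroup of the unitary group: existence lemmas for the alternating form
on the rational vectors.
-/

namespace Cfsg.Agent.Lib.Helper4.Subf

open Matrix Cfsg.Agent.Lib.Helper4.Orth Cfsg.Agent.Lib.Helper8.Unitary
  Cfsg.Agent.Lib.Helper8.SUGen Cfsg.Agent.Lib.Helper8.SUMax

section Dec

variable {n : ℕ} {F : Type*} [Field F] (F₀ : Subfield F) (θ : F) (hθ : θ ∉ F₀)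

include hθ in
lemma decomp_unique {a b a' b' : Fin n → F} (ha : IsRat F₀ a) (hb : IsRat F₀ b)
    (ha' : IsRat F₀ a') (hb' : IsRat F₀ b') (h : a + θ • b = a' + θ • b') : a = a' ∧ b = b' := by
  have hb_eq : b = b' := by
    funext i
    by_contra hne
    apply hθ
    have hi := congrFun h i
    simp only [Pi.add_apply, Pi.smul_apply, smul_eq_mul] at hi
    have hne' : b i - b' i ≠ 0 := sub_ne_zero.2 hne
    have : θ = (a' i - a i) * (b i - b' i)⁻¹ := by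
      field_simp
      linear_combination hi
    rw [this]
    exact F₀.mul_mem (F₀.sub_mem (ha' i) (ha i)) (F₀.inv_mem (F₀.sub_mem (hb i) (hb' i)))
  refine ⟨?_, hb_eq⟩
  rw [hb_eq] at h
  exact add_right_cancel h

omit hθ in
lemma exists_smul_of_not_ind {a b : Fin n → F} (ha : IsRat F₀ a) (hb : IsRat F₀ b)
    (h : ¬ Ind F₀ a b) : ∃ (c : F) (r : Fin n → F), IsRat F₀ r ∧ a + θ • b = c • r := by
  rw [Ind] at h
  push Not at h
  obtain ⟨α, β, hα, hβ, h0, hne⟩ := h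
  by_cases hβ0 : β = 0
  · have hα0 : α ≠ 0 := fun h => hne h hβ0
    rw [hβ0, zero_smul, add_zero] at h0
    have ha0 : a = 0 := by
      have := congrArg (fun t => α⁻¹ • t) h0
      simpa [smul_smul, inv_mul_cancel₀ hα0] using this
    exact ⟨θ, b, hb, by rw [ha0, zero_add]⟩
  · have hb' : b = (-α / β) • a := by
      have : β • b = -(α • a) := eq_neg_of_add_eq_zero_right h0
      have := congrArg (fun t => β⁻¹ • t) this
      simp only [smul_smul, inv_mul_cancel₀ hβ0, one_smul] at this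
      rw [this]
      module
    refine ⟨1 + θ * (-α / β), a, ha, ?_⟩
    rw [hb']
    module

end Dec

section Exist

variable {n : ℕ} {F : Type*} [Field F] [Fintype F] {σ : F ≃+* F}
  {f : (Fin n → F) → (Fin n → F) → F}
variable (ζ : F) (P : GL (Fin n) F)
variable (hf : Cfsg.Geo.IsUnitaryForm σ f)
variable (F₀ : Subfield F) (hσ : ∀ x, x ∈ F₀ ↔ σ x = x)
variable (hP : Cfsg.Geo.IsFormRationalStructure f F₀ ζ P)
variable (halt : ∀ u, IsRat F₀ u → f ((P : Matrix (Fin n) (Fin n) F) *ᵥ u)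
  ((P : Matrix (Fin n) (Fin n) F) *ᵥ u) = 0)
variable (hcard : Fintype.card F = Nat.card F₀ ^ 2) (θ : F) (hθ : θ ∉ F₀) (hζ0 : ζ ≠ 0)

include hcard hθ in
lemma not_ind_of_smul {a b r : Fin n → F} (ha : IsRat F₀ a) (hb : IsRat F₀ b)
    (hr : IsRat F₀ r) (c : F) (h : a + θ • b = c • r) : ¬ Ind F₀ a b := by
  intro hI
  obtain ⟨α, hα, β, hβ, hc⟩ := exists_decomp F₀ hcard θ hθ c
  have h' : a + θ • b = α • r + θ • (β • r) := by
    rw [h, hc]; module
  obtain ⟨h1, h2⟩ := decomp_unique F₀ θ hθ ha hb (hr.smul hα) (hr.smul hβ) h'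
  have h3 : β • a + (-α) • b = 0 := by
    rw [h1, h2]; module
  obtain ⟨h4, h5⟩ := hI β (-α) hβ (F₀.neg_mem hα) h3
  have h6 : α = 0 := neg_eq_zero.1 h5
  have ha0 : a = 0 := by rw [h1, h6, zero_smul]
  have h7 := hI 1 0 F₀.one_mem F₀.zero_mem (by rw [ha0, smul_zero, zero_smul, add_zero])
  exact one_ne_zero h7.1

include hf hcard hθ hζ0 in
lemma om_nondeg {a : Fin n → F} (ha0 : a ≠ 0) :
    ∃ v, IsRat F₀ v ∧ om f ζ P a v ≠ 0 := by
  have hPa : (P : Matrix (Fin n) (Fin n) F) *ᵥ a ≠ 0 := by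
    intro h0
    apply ha0
    have := inv_mulVec_mulVec P a
    rw [h0, Matrix.mulVec_zero] at this
    exact this.symm
  obtain ⟨-, ⟨y, hy⟩⟩ := hf.nondegenerate _ hPa
  obtain ⟨r, s, hr, hs, hrs⟩ := exists_rat_decomp hcard θ hθ
    (((P⁻¹ : GL (Fin n) F) : Matrix (Fin n) (Fin n) F) *ᵥ y)
  have hy' : y = (P : Matrix (Fin n) (Fin n) F) *ᵥ (r + θ • s) := by
    rw [← hrs, mulVec_inv_mulVec]
  by_contra hcon
  push Not at hcon
  apply hy
  have h1 := hcon r hr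
  have h2 := hcon s hs
  rw [om] at h1 h2
  rw [hy', Matrix.mulVec_add, Matrix.mulVec_smul, f_add_right hf, f_smul_right hf,
    (mul_eq_zero.1 h1).resolve_left hζ0, (mul_eq_zero.1 h2).resolve_left hζ0]
  ring

include hf hcard hθ hζ0 halt in
/-- two non-zero rational vectors are linked by a rational vector non-perpendicular to both -/
lemma exists_link_rat {a a' : Fin n → F} (ha : IsRat F₀ a) (ha' : IsRat F₀ a') (ha0 : a ≠ 0)
    (ha'0 : a' ≠ 0) : ∃ v, IsRat F₀ v ∧ om f ζ P a v ≠ 0 ∧ om f ζ P v a' ≠ 0 := by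
  obtain ⟨v₁, hv₁, h1⟩ := om_nondeg ζ P hf F₀ hcard θ hθ hζ0 ha0
  obtain ⟨v₂, hv₂, h2⟩ := om_nondeg ζ P hf F₀ hcard θ hθ hζ0 ha'0
  have h2' : om f ζ P v₂ a' ≠ 0 := by
    rw [om_skew ζ P hf F₀ halt ha' hv₂]; exact neg_ne_zero.2 h2
  by_cases h3 : om f ζ P v₁ a' = 0
  · by_cases h4 : om f ζ P a v₂ = 0
    · refine ⟨v₁ + v₂, hv₁.add hv₂, ?_, ?_⟩
      · rw [om_add_right ζ P hf, h4, add_zero]; exact h1
      · rw [om_add_left ζ P hf, h3, zero_add]; exact h2'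
    · exact ⟨v₂, hv₂, h4, h2'⟩
  · exact ⟨v₁, hv₁, h1, h3⟩

include hf hσ hP hcard hθ hζ0 halt in
lemma exists_perp_not {a b : Fin n → F} (ha : IsRat F₀ a) (hb : IsRat F₀ b)
    (hI : Ind F₀ a b) : ∃ v, IsRat F₀ v ∧ om f ζ P a v = 0 ∧ om f ζ P b v ≠ 0 := by
  by_contra hcon
  push Not at hcon
  have ha0 : a ≠ 0 := by
    intro h0
    have := hI 1 0 F₀.one_mem F₀.zero_mem (by rw [h0, smul_zero, zero_smul, add_zero])
    exact one_ne_zero this.1
  obtain ⟨v₀, hv₀, h0⟩ := om_nondeg ζ P hf F₀ hcard θ hθ hζ0 ha0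
  have hm0 := om_mem ζ P F₀ hP ha hv₀
  set v₁ := (om f ζ P a v₀)⁻¹ • v₀ with hv₁def
  have hv₁ : IsRat F₀ v₁ := hv₀.smul (F₀.inv_mem hm0)
  have h1 : om f ζ P a v₁ = 1 := by
    rw [hv₁def, om_smul_right_rat ζ P hf F₀ hσ _ (F₀.inv_mem hm0), inv_mul_cancel₀ h0]
  set γ := om f ζ P b v₁ with hγ
  have hγm : γ ∈ F₀ := om_mem ζ P F₀ hP hb hv₁
  have hall : ∀ v, IsRat F₀ v → om f ζ P (b - γ • a) v = 0 := by
    intro v hv
    have hm := om_mem ζ P F₀ hP ha hv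
    have h2 := hcon (v - om f ζ P a v • v₁) (hv.sub (hv₁.smul hm)) (by
      rw [om_sub_right ζ P hf, om_smul_right_rat ζ P hf F₀ hσ _ hm, h1, mul_one, sub_self])
    rw [om_sub_right ζ P hf, om_smul_right_rat ζ P hf F₀ hσ _ hm] at h2
    rw [om_sub_left ζ P hf, om_smul_left ζ P hf]
    linear_combination h2
  have hz : b - γ • a = 0 := by
    by_contra hne
    obtain ⟨v, hv, hv0⟩ := om_nondeg ζ P hf F₀ hcard θ hθ hζ0 hne
    exact hv0 (hall v hv)
  have := hI (-γ) 1 (F₀.neg_mem hγm) F₀.one_mem (by rw [← hz]; module)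
  exact one_ne_zero this.2

include hf hσ hP hcard hθ hζ0 halt in
lemma exists_link_perp {a b b' : Fin n → F} (ha : IsRat F₀ a) (hb : IsRat F₀ b)
    (hb' : IsRat F₀ b') (hI : Ind F₀ a b) (hI' : Ind F₀ a b') :
    ∃ v, IsRat F₀ v ∧ om f ζ P a v = 0 ∧ om f ζ P b v ≠ 0 ∧ om f ζ P v b' ≠ 0 := by
  obtain ⟨v₁, hv₁, h1a, h1⟩ := exists_perp_not ζ P hf F₀ hσ hP halt hcard θ hθ hζ0 ha hb hI
  obtain ⟨v₂, hv₂, h2a, h2⟩ := exists_perp_not ζ P hf F₀ hσ hP halt hcard θ hθ hζ0 ha hb' hI'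
  have h2' : om f ζ P v₂ b' ≠ 0 := by
    rw [om_skew ζ P hf F₀ halt hb' hv₂]; exact neg_ne_zero.2 h2
  by_cases h3 : om f ζ P v₁ b' = 0
  · by_cases h4 : om f ζ P b v₂ = 0
    · refine ⟨v₁ + v₂, hv₁.add hv₂, ?_, ?_, ?_⟩
      · rw [om_add_right ζ P hf, h1a, h2a, add_zero]
      · rw [om_add_right ζ P hf, h4, add_zero]; exact h1
      · rw [om_add_left ζ P hf, h3, zero_add]; exact h2'
    · exact ⟨v₂, hv₂, h2a, h4, h2'⟩
  · exact ⟨v₁, hv₁, h1a, h1, h3⟩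

include hf hσ halt in
omit [Fintype F] in
lemma om_pair_self {a b : Fin n → F} (ha : IsRat F₀ a) (hb : IsRat F₀ b) :
    om f ζ P (a + θ • b) (a + θ • b) = (σ θ - θ) * om f ζ P a b := by
  rw [om_add_left ζ P hf, om_add_right ζ P hf, om_add_right ζ P hf, om_smul_left ζ P hf,
    om_smul_left ζ P hf, om_smul_right ζ P hf, om_smul_right ζ P hf, om_self ζ P F₀ halt ha,
    om_self ζ P F₀ halt hb, om_skew ζ P hf F₀ halt ha hb]
  ring

include hf hσ halt hθ hζ0 in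
omit [Fintype F] in
lemma iso_iff_om {a b : Fin n → F} (ha : IsRat F₀ a) (hb : IsRat F₀ b) :
    f ((P : Matrix (Fin n) (Fin n) F) *ᵥ (a + θ • b))
      ((P : Matrix (Fin n) (Fin n) F) *ᵥ (a + θ • b)) = 0 ↔ om f ζ P a b = 0 := by
  have h := om_pair_self ζ P hf F₀ hσ halt θ ha hb
  have hne : σ θ - θ ≠ 0 := by
    intro h0
    exact hθ ((hσ θ).2 (sub_eq_zero.1 h0))
  constructor
  · intro h0
    rw [om, h0, mul_zero] at h
    exact ((mul_eq_zero.1 h.symm).resolve_left hne)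
  · intro h0
    rw [h0, mul_zero, om] at h
    exact (mul_eq_zero.1 h).resolve_left hζ0

end Exist

end Cfsg.Agent.Lib.Helper4.Subf
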