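import Mathlib
import Cfsg.Prelude.Def_GeometricClasses
import Cfsg.Agent.Lib.Helper4.SubfF

set_option autoImplicit false
open Cfsg

/-!
The symplectic subfield subgroup of the unitary group: overgroups contain all unitary
transvections.
-/

namespace Cfsg.Agent.Lib.Helper4.Subf

open Matrix Cfsg.Agent.Lib.Helper4.Orth Cfsg.Agent.Lib.Helper8.Unitary
  Cfsg.Agent.Lib.Helper8.SUGen Cfsg.Agent.Lib.Helper8.SUMax

section Final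

variable {n : ℕ} {F : Type*} [Field F] [Fintype F] {σ : F ≃+* F}
  {f : (Fin n → F) → (Fin n → F) → F}
variable (ζ : F) (P : GL (Fin n) F)
variable (hf : Cfsg.Geo.IsUnitaryForm σ f)
variable (F₀ : Subfield F) (hσ : ∀ x, x ∈ F₀ ↔ σ x = x)
variable (hP : Cfsg.Geo.IsFormRationalStructure f F₀ ζ P)
variable (halt : ∀ u, IsRat F₀ u → f ((P : Matrix (Fin n) (Fin n) F) *ᵥ u)
  ((P : Matrix (Fin n) (Fin n) F) *ᵥ u) = 0)
variable (hcard : Fintype.card F = Nat.card F₀ ^ 2) (θ : F) (hθ : θ ∉ F₀) (hζ0 : ζ ≠ 0)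
variable (hζ : ζ + σ ζ = 0)
variable (M : Subgroup (GL (Fin n) F))
variable (hHM : Cfsg.Geo.subfieldSubgroup F₀ P ⊓ SUf f ≤ M) (hMS : M ≤ SUf f)

omit [Fintype F] in
lemma Ind.left_ne_zero {a b : Fin n → F} (hI : Ind F₀ a b) : a ≠ 0 := by
  intro h0
  have := hI 1 0 F₀.one_mem F₀.zero_mem (by rw [h0, smul_zero, zero_smul, add_zero])
  exact one_ne_zero this.1

include hf hσ hP halt hcard hθ hζ0 hζ hHM hMS in
/-- every isotropic vector is a centre of `M` once a non-rational one is -/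
theorem SSu_univ {a₁ b₁ : Fin n → F} (ha₁ : IsRat F₀ a₁) (hb₁ : IsRat F₀ b₁)
    (hI₁ : Ind F₀ a₁ b₁)
    (hS₁ : (P : Matrix (Fin n) (Fin n) F) *ᵥ (a₁ + θ • b₁) ∈ SSu hf M)
    (x : Fin n → F) (hx : f x x = 0) : x ∈ SSu hf M := by
  obtain ⟨a, b, ha, hb, hab⟩ := exists_rat_decomp hcard θ hθ
    (((P⁻¹ : GL (Fin n) F) : Matrix (Fin n) (Fin n) F) *ᵥ x)
  have hx' : x = (P : Matrix (Fin n) (Fin n) F) *ᵥ (a + θ • b) := by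
    rw [← hab, mulVec_inv_mulVec]
  by_cases hI : Ind F₀ a b
  · have ha0 : a ≠ 0 := Ind.left_ne_zero F₀ hI
    have ha₁0 : a₁ ≠ 0 := Ind.left_ne_zero F₀ hI₁
    obtain ⟨v, hv, h1, h2⟩ := exists_link_rat ζ P hf F₀ halt hcard θ hθ hζ0 ha₁ ha ha₁0 ha0
    have hS₂ := moveA ζ P hf F₀ hσ hP halt hζ M hHM hMS θ ha₁ hv h1 hS₁
    have hI₂ := hI₁.tau ζ P hf F₀ halt (hv.sub ha₁) (om f ζ P a₁ v)⁻¹
    rw [tau_move ζ P hf F₀ halt ha₁ h1] at hI₂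
    have hm1 : (om f ζ P a₁ v)⁻¹ ∈ F₀ := F₀.inv_mem (om_mem ζ P F₀ hP ha₁ hv)
    have hb₂ : IsRat F₀ (tau f ζ P (v - a₁) (om f ζ P a₁ v)⁻¹ b₁) :=
      tau_rat ζ P F₀ hP (hv.sub ha₁) hm1 hb₁
    set b₂ := tau f ζ P (v - a₁) (om f ζ P a₁ v)⁻¹ b₁ with hb₂def
    have hS₃ := moveA ζ P hf F₀ hσ hP halt hζ M hHM hMS θ hv ha h2 hS₂
    have hI₃ := hI₂.tau ζ P hf F₀ halt (ha.sub hv) (om f ζ P v a)⁻¹
    rw [tau_move ζ P hf F₀ halt hv h2] at hI₃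
    have hm2 : (om f ζ P v a)⁻¹ ∈ F₀ := F₀.inv_mem (om_mem ζ P F₀ hP hv ha)
    have hb₃ : IsRat F₀ (tau f ζ P (a - v) (om f ζ P v a)⁻¹ b₂) :=
      tau_rat ζ P F₀ hP (ha.sub hv) hm2 hb₂
    set b₃ := tau f ζ P (a - v) (om f ζ P v a)⁻¹ b₂ with hb₃def
    have h3 : om f ζ P a b₃ = 0 :=
      (iso_iff_om ζ P hf F₀ hσ halt θ hθ hζ0 ha hb₃).1 (SSu_iso hf M _ hS₃)
    have h4 : om f ζ P a b = 0 :=
      (iso_iff_om ζ P hf F₀ hσ halt θ hθ hζ0 ha hb).1 (by rw [← hx']; exact hx)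
    obtain ⟨w, hw, hw1, hw2, hw3⟩ :=
      exists_link_perp ζ P hf F₀ hσ hP halt hcard θ hθ hζ0 ha hb₃ hb hI₃ hI
    have hS₄ := moveB ζ P hf F₀ hσ hP halt hζ M hHM hMS θ hb₃ hw h3 hw1 hw2 hS₃
    have hS₅ := moveB ζ P hf F₀ hσ hP halt hζ M hHM hMS θ hw hb hw1 h4 hw3 hS₄
    rw [hx']
    exact hS₅
  · obtain ⟨c, r, hr, hcr⟩ := exists_smul_of_not_ind F₀ θ ha hb hI
    rw [hx', hcr, Matrix.mulVec_smul]
    exact SSu_smul hf M c _ (rat_mem_SSu ζ P hf F₀ hσ hP halt hζ hζ0 M hHM hr)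

include hf hσ hP halt hcard hθ hζ0 hζ hHM hMS in
/-- an element of `M` outside the subfield group produces a non-rational centre -/
lemma exists_nonrat (hn : 0 < n) (g : GL (Fin n) F) (hgM : g ∈ M)
    (hg : g ∉ Cfsg.Geo.subfieldSubgroup F₀ P) :
    ∃ a₁ b₁ : Fin n → F, IsRat F₀ a₁ ∧ IsRat F₀ b₁ ∧ Ind F₀ a₁ b₁ ∧
      (P : Matrix (Fin n) (Fin n) F) *ᵥ (a₁ + θ • b₁) ∈ SSu hf M := by
  have h1 : ∃ a, IsRat F₀ a ∧ ∀ (c : F) (b : Fin n → F), IsRat F₀ b →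
      (g : Matrix (Fin n) (Fin n) F) *ᵥ ((P : Matrix (Fin n) (Fin n) F) *ᵥ a) ≠
        c • (P : Matrix (Fin n) (Fin n) F) *ᵥ b := by
    by_contra hcon
    push Not at hcon
    apply hg
    apply mem_subfield_of_rat F₀ P hn (σ : F →+* F) (fun x => hσ x) g
    intro a ha
    obtain ⟨c, b, hb, h⟩ := hcon a ha
    exact ⟨c, b, hb, h⟩
  obtain ⟨a, ha, hne⟩ := h1
  have hS := SSu_mulVec hf M hMS g hgM _ (rat_mem_SSu ζ P hf F₀ hσ hP halt hζ hζ0 M hHM ha)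
  obtain ⟨a₁, b₁, ha₁, hb₁, hab⟩ := exists_rat_decomp hcard θ hθ
    (((P⁻¹ : GL (Fin n) F) : Matrix (Fin n) (Fin n) F) *ᵥ
      ((g : Matrix (Fin n) (Fin n) F) *ᵥ ((P : Matrix (Fin n) (Fin n) F) *ᵥ a)))
  have hx' : (g : Matrix (Fin n) (Fin n) F) *ᵥ ((P : Matrix (Fin n) (Fin n) F) *ᵥ a) =
      (P : Matrix (Fin n) (Fin n) F) *ᵥ (a₁ + θ • b₁) := by
    rw [← hab, mulVec_inv_mulVec]
  refine ⟨a₁, b₁, ha₁, hb₁, ?_, ?_⟩
  · by_contra hI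
    obtain ⟨c, r, hr, hcr⟩ := exists_smul_of_not_ind F₀ θ ha₁ hb₁ hI
    apply hne c r hr
    rw [hx', hcr, Matrix.mulVec_smul]
  · rw [← hx']
    exact hS

end Final

end Cfsg.Agent.Lib.Helper4.Subf
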