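import Mathlib
import Cfsg.Prelude.Def_GeometricClasses
import Cfsg.Agent.Lib.Helper4.SubfG

set_option autoImplicit false
open Cfsg

/-!
The symplectic subfield subgroup of the unitary group is a proper subgroup.
-/

namespace Cfsg.Agent.Lib.Helper4.Subf

open Matrix Cfsg.Agent.Lib.Helper4.Orth Cfsg.Agent.Lib.Helper8.Unitary
  Cfsg.Agent.Lib.Helper8.SUGen Cfsg.Agent.Lib.Helper8.SUMax

section Proper

variable {n : ℕ} {F : Type*} [Field F] [Fintype F] {σ : F ≃+* F}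
  {f : (Fin n → F) → (Fin n → F) → F}
variable (ζ : F) (P : GL (Fin n) F)
variable (hf : Cfsg.Geo.IsUnitaryForm σ f)
variable (F₀ : Subfield F) (hσ : ∀ x, x ∈ F₀ ↔ σ x = x)
variable (hP : Cfsg.Geo.IsFormRationalStructure f F₀ ζ P)
variable (halt : ∀ u, IsRat F₀ u → f ((P : Matrix (Fin n) (Fin n) F) *ᵥ u)
  ((P : Matrix (Fin n) (Fin n) F) *ᵥ u) = 0)
variable (hcard : Fintype.card F = Nat.card F₀ ^ 2) (θ : F) (hθ : θ ∉ F₀) (hζ0 : ζ ≠ 0)

include hf hσ hP halt in
omit [Fintype F] in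
/-- an independent pair of rational vectors perpendicular for `om` -/
lemma exists_ind_iso (hn : 3 ≤ n) :
    ∃ a b : Fin n → F, IsRat F₀ a ∧ IsRat F₀ b ∧ Ind F₀ a b ∧ om f ζ P a b = 0 := by
  classical
  let i0 : Fin n := ⟨0, by omega⟩
  let i1 : Fin n := ⟨1, by omega⟩
  let i2 : Fin n := ⟨2, by omega⟩
  have h01 : i0 ≠ i1 := by simp [i0, i1, Fin.ext_iff]
  have h02 : i0 ≠ i2 := by simp [i0, i2, Fin.ext_iff]
  have h12 : i1 ≠ i2 := by simp [i1, i2, Fin.ext_iff]
  have he : ∀ i : Fin n, IsRat F₀ (Pi.single i (1 : F) : Fin n → F) :=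
    fun i => IsRat.single i F₀.one_mem
  by_cases h : om f ζ P (Pi.single i0 1) (Pi.single i1 1) = 0
  · refine ⟨Pi.single i0 1, Pi.single i1 1, he i0, he i1, ?_, h⟩
    intro α β _ _ h0
    have h3 := congrFun h0 i0
    have h4 := congrFun h0 i1
    simp [Pi.single_apply, h01, h01.symm] at h3 h4
    exact ⟨h3, h4⟩
  · have hm1 := om_mem ζ P F₀ hP (he i0) (he i1)
    have hm2 := om_mem ζ P F₀ hP (he i0) (he i2)
    refine ⟨Pi.single i0 1, om f ζ P (Pi.single i0 1) (Pi.single i2 1) • Pi.single i1 1 -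
      om f ζ P (Pi.single i0 1) (Pi.single i1 1) • Pi.single i2 1, he i0,
      ((he i1).smul hm2).sub ((he i2).smul hm1), ?_, ?_⟩
    · intro α β _ _ h0
      have h3 := congrFun h0 i0
      have h4 := congrFun h0 i2
      simp [Pi.single_apply, h01, h02, h02.symm, h12, h12.symm, h01.symm] at h3 h4
      refine ⟨h3, ?_⟩
      rcases h4 with h4 | h4
      · exact h4
      · exact absurd h4 h
    · rw [om_sub_right ζ P hf, om_smul_right_rat ζ P hf F₀ hσ _ hm2,
        om_smul_right_rat ζ P hf F₀ hσ _ hm1]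
      ring

include hf hσ hP halt hcard hθ hζ0 in
/-- the special unitary group is not contained in the subfield group -/
lemma exists_notMem (hn : 3 ≤ n) :
    ∃ t ∈ SUf f, t ∉ Cfsg.Geo.subfieldSubgroup F₀ P := by
  classical
  obtain ⟨a, b, ha, hb, hI, hab⟩ := exists_ind_iso ζ P hf F₀ hσ hP halt hn
  let i0 : Fin n := ⟨0, by omega⟩
  have he : IsRat F₀ (Pi.single i0 (1 : F) : Fin n → F) := IsRat.single i0 F₀.one_mem
  have hPinj : ∀ x : Fin n → F, (P : Matrix (Fin n) (Fin n) F) *ᵥ x = 0 → x = 0 := by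
    intro x h0
    have := inv_mulVec_mulVec P x
    rw [h0, Matrix.mulVec_zero] at this
    exact this.symm
  have hu0 : (P : Matrix (Fin n) (Fin n) F) *ᵥ (Pi.single i0 1) ≠ 0 := by
    intro h0
    have := congrFun (hPinj _ h0) i0
    simp at this
  have hu'0 : (P : Matrix (Fin n) (Fin n) F) *ᵥ (a + θ • b) ≠ 0 := by
    intro h0
    have h1 := hPinj _ h0
    exact not_ind_of_smul F₀ hcard θ hθ ha hb ha 0 (by rw [h1, zero_smul]) hI
  have hu' := (iso_iff_om ζ P hf F₀ hσ halt θ hθ hζ0 ha hb).2 hab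
  obtain ⟨t, ht, htu⟩ := trans_iso hf hn _ _ hu0 hu'0 (halt _ he) hu'
  refine ⟨t, TT_le_SUf hf ht, fun hmem => ?_⟩
  obtain ⟨c, -, hc⟩ := mem_subfield_elim F₀ P t hmem
  obtain ⟨r, hr, hcr⟩ := hc _ he
  rw [htu, ← Matrix.mulVec_smul] at hcr
  have h2 : a + θ • b = c • r := by
    have := congrArg (fun y => ((P⁻¹ : GL (Fin n) F) : Matrix (Fin n) (Fin n) F) *ᵥ y) hcr
    simpa only [inv_mulVec_mulVec] using this
  exact not_ind_of_smul F₀ hcard θ hθ ha hb hr c h2 hI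

end Proper

end Cfsg.Agent.Lib.Helper4.Subf
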