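import Mathlib
import Cfsg.Agent.S5631
import Cfsg.Agent.Lib.Helper4.SubfB

set_option autoImplicit false

/-! Linear subfield subgroups (S5639): transvection calculus. -/

namespace Cfsg.Agent.Lib.Helper4.SubfL

open Matrix Cfsg.Agent.S5631 Cfsg.Agent.Lib.Helper4.Subf

variable {n : ℕ} {F : Type*} [Field F]

/-- total transvection `x ↦ x + (f ⬝ x) v`, trivial unless `f ⬝ v = 0` -/
noncomputable def T (v f : Fin n → F) : GL (Fin n) F :=
  open Classical in if h : f ⬝ᵥ v = 0 then tv v f h else 1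

lemma T_val {v f : Fin n → F} (h : f ⬝ᵥ v = 0) :
    ((T v f : GL (Fin n) F) : Matrix (Fin n) (Fin n) F) = 1 + Matrix.vecMulVec v f := by
  rw [T, dif_pos h]; rfl

lemma T_mulVec {v f : Fin n → F} (h : f ⬝ᵥ v = 0) (x : Fin n → F) :
    ((T v f : GL (Fin n) F) : Matrix (Fin n) (Fin n) F) *ᵥ x = x + (f ⬝ᵥ x) • v := by
  rw [T, dif_pos h, tv_coe, tvM_mulVec]

lemma T_vecMul {v f : Fin n → F} (h : f ⬝ᵥ v = 0) (φ : Fin n → F) :
    φ ᵥ* ((T v f : GL (Fin n) F) : Matrix (Fin n) (Fin n) F) = φ + (φ ⬝ᵥ v) • f := by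
  rw [T_val h, Matrix.vecMul_add, Matrix.vecMul_one, Matrix.vecMul_vecMulVec]

lemma T_mem_SL (v f : Fin n → F) : T v f ∈ Cfsg.Geo.specialLinear (Fin n) F := by
  by_cases h : f ⬝ᵥ v = 0
  · rw [T, dif_pos h]; exact tv_mem_specialLinear v f h
  · rw [T, dif_neg h]; exact Subgroup.one_mem _

lemma gl_ext (g h : GL (Fin n) F)
    (H : ∀ x, (g : Matrix (Fin n) (Fin n) F) *ᵥ x = (h : Matrix (Fin n) (Fin n) F) *ᵥ x) : g = h := by
  apply Units.ext
  ext i j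
  have := congrFun (H (Pi.single j 1)) i
  rwa [Matrix.mulVec_single_one, Matrix.mulVec_single_one] at this

lemma T_zero_left (f : Fin n → F) : T (0 : Fin n → F) f = 1 := by
  apply gl_ext
  intro x
  rw [T_mulVec (by simp)]
  simp

lemma T_zero_right (v : Fin n → F) : T v (0 : Fin n → F) = 1 := by
  apply gl_ext
  intro x
  rw [T_mulVec (by simp)]
  simp

lemma T_mul {v v' f : Fin n → F} (h : f ⬝ᵥ v = 0) (h' : f ⬝ᵥ v' = 0) :
    T v f * T v' f = T (v + v') f := by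
  apply gl_ext
  intro x
  have h'' : f ⬝ᵥ (v + v') = 0 := by rw [dotProduct_add, h, h', add_zero]
  rw [Units.val_mul, ← Matrix.mulVec_mulVec, T_mulVec h', T_mulVec h, T_mulVec h'']
  rw [dotProduct_add, dotProduct_smul, h', smul_zero, add_zero, smul_add]
  abel

lemma T_inv {v f : Fin n → F} (h : f ⬝ᵥ v = 0) : (T v f)⁻¹ = T (-v) f := by
  have h' : f ⬝ᵥ (-v) = 0 := by rw [dotProduct_neg, h, neg_zero]
  rw [inv_eq_iff_mul_eq_one, T_mul h h', add_neg_cancel, T_zero_left]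

lemma T_smul (c : F) (v f : Fin n → F) : T (c • v) f = T v (c • f) := by
  by_cases hc : c = 0
  · subst hc; simp [T_zero_left, T_zero_right]
  by_cases h : f ⬝ᵥ v = 0
  · have h1 : f ⬝ᵥ (c • v) = 0 := by rw [dotProduct_smul, h, smul_zero]
    have h2 : (c • f) ⬝ᵥ v = 0 := by rw [smul_dotProduct, h, smul_zero]
    apply gl_ext
    intro x
    rw [T_mulVec h1, T_mulVec h2, smul_dotProduct, smul_smul, smul_eq_mul, mul_comm]
  · have h1 : ¬ f ⬝ᵥ (c • v) = 0 := by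
      rw [dotProduct_smul, smul_eq_mul, mul_eq_zero]; tauto
    have h2 : ¬ (c • f) ⬝ᵥ v = 0 := by
      rw [smul_dotProduct, smul_eq_mul, mul_eq_zero]; tauto
    rw [T, T, dif_neg h1, dif_neg h2]

lemma conj_T (g : GL (Fin n) F) {v f : Fin n → F} (h : f ⬝ᵥ v = 0) :
    g * T v f * g⁻¹ = T ((g : Matrix (Fin n) (Fin n) F) *ᵥ v)
      (f ᵥ* ((g⁻¹ : GL (Fin n) F) : Matrix (Fin n) (Fin n) F)) := by
  have h' : (f ᵥ* ((g⁻¹ : GL (Fin n) F) : Matrix (Fin n) (Fin n) F)) ⬝ᵥ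
      ((g : Matrix (Fin n) (Fin n) F) *ᵥ v) = 0 := by
    rw [Matrix.dotProduct_mulVec, Matrix.vecMul_vecMul, ← Units.val_mul, inv_mul_cancel,
      Units.val_one, Matrix.vecMul_one, h]
  apply Units.ext
  rw [Units.val_mul, Units.val_mul, T_val h, T_val h']
  exact conj_tvM g v f

/-- commutator of two transvections: centre of the first, axis of the second -/
lemma comm_T {a ψ b φ : Fin n → F} (h1 : ψ ⬝ᵥ a = 0) (h2 : φ ⬝ᵥ b = 0) (h3 : φ ⬝ᵥ a = 0) :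
    T a ψ * T b φ * (T a ψ)⁻¹ * (T b φ)⁻¹ = T ((ψ ⬝ᵥ b) • a) φ := by
  have e1 : ((T a ψ : GL (Fin n) F) : Matrix (Fin n) (Fin n) F) *ᵥ b = b + (ψ ⬝ᵥ b) • a :=
    T_mulVec h1 b
  have e2 : φ ᵥ* (((T a ψ)⁻¹ : GL (Fin n) F) : Matrix (Fin n) (Fin n) F) = φ := by
    rw [T_inv h1, T_vecMul (by rw [dotProduct_neg, h1, neg_zero]), dotProduct_neg, h3, neg_zero,
      zero_smul, add_zero]
  rw [conj_T _ h2, e1, e2, T_inv h2]
  have h4 : φ ⬝ᵥ (b + (ψ ⬝ᵥ b) • a) = 0 := by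
    rw [dotProduct_add, dotProduct_smul, h2, h3, smul_zero, add_zero]
  have h5 : φ ⬝ᵥ (-b) = 0 := by rw [dotProduct_neg, h2, neg_zero]
  rw [T_mul h4 h5]
  congr 1
  abel

end Cfsg.Agent.Lib.Helper4.SubfL
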