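import Mathlib
import Cfsg.Agent.Lib.Helper4.SubfL1

set_option autoImplicit false

/-! Linear subfield subgroups (S5639): the parameter ring of an overgroup. -/

namespace Cfsg.Agent.Lib.Helper4.SubfL

open Matrix Cfsg.Agent.S5631 Cfsg.Agent.Lib.Helper4.Subf

variable {n : ℕ} {F : Type*} [Field F] (F₀ : Subfield F)

/-- the coordinate vector -/
def e (i : Fin n) : Fin n → F := Pi.single i 1

lemma e_dot (i : Fin n) (x : Fin n → F) : e i ⬝ᵥ x = x i := by
  rw [e, single_dotProduct, one_mul]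

lemma dot_e (i : Fin n) (x : Fin n → F) : x ⬝ᵥ e i = x i := by
  rw [e, dotProduct_single, mul_one]

lemma e_dot_e {i j : Fin n} (h : i ≠ j) : (e i : Fin n → F) ⬝ᵥ e j = 0 := by
  rw [e_dot, e, Pi.single_apply, if_neg h]

lemma e_dot_e_self (i : Fin n) : (e i : Fin n → F) ⬝ᵥ e i = 1 := by
  rw [e_dot, e, Pi.single_apply, if_pos rfl]

lemma e_dot_smul_e {i j : Fin n} (h : i ≠ j) (c : F) : (e i : Fin n → F) ⬝ᵥ (c • e j) = 0 := by
  rw [dotProduct_smul, e_dot_e h, smul_zero]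

lemma isRat_e (i : Fin n) : IsRat F₀ (e i : Fin n → F) := IsRat.single i F₀.one_mem

variable {F₀}

/-- rational transvections lie in the subfield group -/
lemma rat_T_mem_subfield {v f : Fin n → F} (hv : IsRat F₀ v) (hf : IsRat F₀ f) :
    T v f ∈ Cfsg.Geo.subfieldSubgroup F₀ (1 : GL (Fin n) F) := by
  apply mem_subfield_of_smul F₀ 1 _ 1 one_ne_zero
  intro a ha
  by_cases h : f ⬝ᵥ v = 0
  · refine ⟨a + (f ⬝ᵥ a) • v, ha.add (hv.smul (hf.dot ha)), ?_⟩
    rw [Units.val_one, Matrix.one_mulVec, T_mulVec h, one_smul, Matrix.one_mulVec]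
  · refine ⟨a, ha, ?_⟩
    rw [T, dif_neg h, Units.val_one, Matrix.one_mulVec, one_smul, Matrix.one_mulVec]

variable (X : Subgroup (GL (Fin n) F))
variable (hHX : Cfsg.Geo.subfieldSubgroup F₀ (1 : GL (Fin n) F) ⊓
  Cfsg.Geo.specialLinear (Fin n) F ≤ X)

include hHX in
lemma rat_T_mem {v f : Fin n → F} (hv : IsRat F₀ v) (hf : IsRat F₀ f) : T v f ∈ X :=
  hHX ⟨rat_T_mem_subfield hv hf, T_mem_SL v f⟩

/-- the parameters `c` all of whose elementary transvections lie in `X` -/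
def Rs : Set F := {c | ∀ i j : Fin n, i ≠ j → T (c • (e i : Fin n → F)) (e j) ∈ X}

include hHX in
lemma Rs_of_mem {c : F} (hc : c ∈ F₀) : c ∈ Rs X := fun i j _ =>
  rat_T_mem X hHX ((isRat_e F₀ i).smul hc) (isRat_e F₀ j)

lemma Rs_add {c d : F} (hc : c ∈ Rs X) (hd : d ∈ Rs X) : c + d ∈ Rs X := by
  intro i j hij
  have := X.mul_mem (hc i j hij) (hd i j hij)
  rwa [T_mul (e_dot_smul_e hij.symm c) (e_dot_smul_e hij.symm d), ← add_smul] at this

lemma Rs_mul (hn : 3 ≤ n) {c d : F} (hc : c ∈ Rs X) (hd : d ∈ Rs X) : c * d ∈ Rs X := by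
  intro i j hij
  obtain ⟨k, hki, hkj⟩ : ∃ k : Fin n, k ≠ i ∧ k ≠ j := by
    by_contra hcon
    push Not at hcon
    have h1 : (Finset.univ : Finset (Fin n)) ⊆ {i, j} := by
      intro k _
      by_cases hk : k = i
      · simp [hk]
      · simp [hcon k hk]
    have h2 := Finset.card_le_card h1
    rw [Finset.card_univ, Fintype.card_fin] at h2
    have h3 : ({i, j} : Finset (Fin n)).card ≤ 2 := Finset.card_le_two
    omega
  have h1 : (e k : Fin n → F) ⬝ᵥ (c • e i) = 0 := e_dot_smul_e hki c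
  have h2 : (e j : Fin n → F) ⬝ᵥ (d • e k) = 0 := e_dot_smul_e hkj.symm d
  have h3 : (e j : Fin n → F) ⬝ᵥ (c • e i) = 0 := e_dot_smul_e hij.symm c
  have hcomm := comm_T h1 h2 h3
  have hmem : T (c • (e i : Fin n → F)) (e k) * T (d • (e k : Fin n → F)) (e j) *
      (T (c • (e i : Fin n → F)) (e k))⁻¹ * (T (d • (e k : Fin n → F)) (e j))⁻¹ ∈ X :=
    X.mul_mem (X.mul_mem (X.mul_mem (hc i k hki.symm) (hd k j hkj)) (X.inv_mem (hc i k hki.symm)))
      (X.inv_mem (hd k j hkj))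
  rw [hcomm, dotProduct_smul, e_dot_e_self, smul_smul, smul_eq_mul, mul_one, mul_comm] at hmem
  exact hmem

/-- the parameter ring as a subalgebra -/
def Rsub (hn : 3 ≤ n) : Subalgebra F₀ F where
  carrier := Rs X
  mul_mem' := fun hc hd => Rs_mul X hn hc hd
  add_mem' := fun hc hd => Rs_add X hc hd
  algebraMap_mem' := fun r => Rs_of_mem X hHX r.2

lemma mem_Rsub (hn : 3 ≤ n) (c : F) : c ∈ Rsub X hHX hn ↔ c ∈ Rs X := Iff.rfl

include hHX in
/-- step (a): change the axis -/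
lemma Rs_step_a {c : F} {i j k : Fin n} (hij : i ≠ j) (hki : k ≠ i)
    (h : T (c • (e i : Fin n → F)) (e j) ∈ X) : T (c • (e i : Fin n → F)) (e k) ∈ X := by
  by_cases hkj : k = j
  · rw [hkj]; exact h
  have h1 : (e j : Fin n → F) ⬝ᵥ (c • e i) = 0 := e_dot_smul_e hij.symm c
  have h2 : (e k : Fin n → F) ⬝ᵥ (e j) = 0 := e_dot_e hkj
  have h3 : (e k : Fin n → F) ⬝ᵥ (c • e i) = 0 := e_dot_smul_e hki c
  have hcomm := comm_T h1 h2 h3
  have hr : T (e j : Fin n → F) (e k) ∈ X := rat_T_mem X hHX (isRat_e F₀ j) (isRat_e F₀ k)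
  have hmem := X.mul_mem (X.mul_mem (X.mul_mem h hr) (X.inv_mem h)) (X.inv_mem hr)
  rw [hcomm, e_dot_e_self, one_smul] at hmem
  exact hmem

include hHX in
/-- step (b): change the centre -/
lemma Rs_step_b {c : F} {i k k' : Fin n} (hki : k ≠ i) (hk'k : k' ≠ k)
    (h : T (c • (e i : Fin n → F)) (e k) ∈ X) : T (c • (e k' : Fin n → F)) (e k) ∈ X := by
  by_cases hk'i : k' = i
  · rw [hk'i]; exact h
  have h1 : (e i : Fin n → F) ⬝ᵥ (e k') = 0 := e_dot_e (Ne.symm hk'i)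
  have h2 : (e k : Fin n → F) ⬝ᵥ (c • e i) = 0 := e_dot_smul_e hki c
  have h3 : (e k : Fin n → F) ⬝ᵥ (e k') = 0 := e_dot_e hk'k.symm
  have hcomm := comm_T h1 h2 h3
  have hr : T (e k' : Fin n → F) (e i) ∈ X := rat_T_mem X hHX (isRat_e F₀ k') (isRat_e F₀ i)
  have hmem := X.mul_mem (X.mul_mem (X.mul_mem hr h) (X.inv_mem hr)) (X.inv_mem h)
  rw [hcomm, dotProduct_smul, e_dot_e_self, smul_eq_mul, mul_one] at hmem
  exact hmem

include hHX in
/-- one elementary transvection with parameter `c` in `X` puts `c` in the parameter ring -/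
lemma Rs_of_one (hn : 3 ≤ n) {c : F} {i j : Fin n} (hij : i ≠ j)
    (h : T (c • (e i : Fin n → F)) (e j) ∈ X) : c ∈ Rs X := by
  intro k' k hk'k
  by_cases hki : k = i
  · -- target `(k', i)`
    subst hki
    obtain ⟨m, hmk, hmk'⟩ : ∃ m : Fin n, m ≠ k ∧ m ≠ k' := by
      by_contra hcon
      push Not at hcon
      have h1 : (Finset.univ : Finset (Fin n)) ⊆ {k, k'} := by
        intro m _
        by_cases hm : m = k
        · simp [hm]
        · simp [hcon m hm]
      have h2 := Finset.card_le_card h1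
      rw [Finset.card_univ, Fintype.card_fin] at h2
      have h3 : ({k, k'} : Finset (Fin n)).card ≤ 2 := Finset.card_le_two
      omega
    have s1 := Rs_step_a X hHX hij hmk h
    have s2 := Rs_step_b X hHX hmk hmk'.symm s1
    exact Rs_step_a X hHX hmk'.symm hk'k.symm s2
  · have s1 := Rs_step_a X hHX hij hki h
    exact Rs_step_b X hHX hki hk'k s1

end Cfsg.Agent.Lib.Helper4.SubfL
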