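import Mathlib
import Cfsg.Agent.Lib.Helper4.SubfL2

set_option autoImplicit false

/-! Linear subfield subgroups (S5639): transvections in `X` with a rational axis or centre. -/

namespace Cfsg.Agent.Lib.Helper4.SubfL

open Matrix Cfsg.Agent.S5631 Cfsg.Agent.Lib.Helper4.Subf

variable {n : ℕ} {F : Type*} [Field F] {F₀ : Subfield F}
variable (X : Subgroup (GL (Fin n) F))
variable (hHX : Cfsg.Geo.subfieldSubgroup F₀ (1 : GL (Fin n) F) ⊓
  Cfsg.Geo.specialLinear (Fin n) F ≤ X)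

lemma exists_ne_ne (hn : 3 ≤ n) (i j : Fin n) : ∃ k : Fin n, k ≠ i ∧ k ≠ j := by
  by_contra hcon
  push Not at hcon
  have h1 : (Finset.univ : Finset (Fin n)) ⊆ {i, j} := by
    intro k _
    by_cases hk : k = i
    · simp [hk]
    · simp [hcon k hk]
  have h2 := Finset.card_le_card h1
  rw [Finset.card_univ, Fintype.card_fin] at h2
  have h3 : ({i, j} : Finset (Fin n)).card ≤ 2 := Finset.card_le_two
  omega

include hHX in
/-- a transvection in `X` with a coordinate axis has its centre over the parameter ring -/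
lemma coords_of_axis (hn : 3 ≤ n) {w : Fin n → F} {j : Fin n} (hwj : w j = 0)
    (h : T w (e j) ∈ X) (i : Fin n) : w i ∈ Rs X := by
  by_cases hij : i = j
  · rw [hij, hwj]; exact Rs_of_mem X hHX F₀.zero_mem
  obtain ⟨k, hki, hkj⟩ := exists_ne_ne hn i j
  have h1 : (e i : Fin n → F) ⬝ᵥ (e k) = 0 := e_dot_e hki.symm
  have h2 : (e j : Fin n → F) ⬝ᵥ w = 0 := by rw [e_dot, hwj]
  have h3 : (e j : Fin n → F) ⬝ᵥ (e k) = 0 := e_dot_e hkj.symm
  have hcomm := comm_T h1 h2 h3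
  have hr : T (e k : Fin n → F) (e i) ∈ X := rat_T_mem X hHX (isRat_e F₀ k) (isRat_e F₀ i)
  have hmem := X.mul_mem (X.mul_mem (X.mul_mem hr h) (X.inv_mem hr)) (X.inv_mem h)
  rw [hcomm, e_dot] at hmem
  exact Rs_of_one X hHX hn hkj hmem

include hHX in
/-- a transvection in `X` with a coordinate centre has its axis over the parameter ring -/
lemma coords_of_centre (hn : 3 ≤ n) {ψ : Fin n → F} {i : Fin n} (hψi : ψ i = 0)
    (h : T (e i) ψ ∈ X) (j : Fin n) : ψ j ∈ Rs X := by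
  by_cases hij : j = i
  · rw [hij, hψi]; exact Rs_of_mem X hHX F₀.zero_mem
  obtain ⟨k, hki, hkj⟩ := exists_ne_ne hn i j
  have h1 : ψ ⬝ᵥ (e i) = 0 := by rw [dot_e, hψi]
  have h2 : (e k : Fin n → F) ⬝ᵥ (e j) = 0 := e_dot_e hkj
  have h3 : (e k : Fin n → F) ⬝ᵥ (e i) = 0 := e_dot_e hki
  have hcomm := comm_T h1 h2 h3
  have hr : T (e j : Fin n → F) (e k) ∈ X := rat_T_mem X hHX (isRat_e F₀ j) (isRat_e F₀ k)
  have hmem := X.mul_mem (X.mul_mem (X.mul_mem h hr) (X.inv_mem h)) (X.inv_mem hr)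
  rw [hcomm, dot_e] at hmem
  exact Rs_of_one X hHX hn hki.symm hmem

variable (hR : ∀ c ∈ Rs X, c ∈ F₀)

include hHX hR in
/-- **rational axis ⇒ rational centre** -/
lemma rat_of_rat_axis (hn : 3 ≤ n) {w φ : Fin n → F} (hφ : IsRat F₀ φ) (hφ0 : φ ≠ 0)
    (hφw : φ ⬝ᵥ w = 0) (h : T w φ ∈ X) : IsRat F₀ w := by
  obtain ⟨j, hj⟩ : ∃ j, φ j ≠ 0 := by
    by_contra hcon
    push Not at hcon
    exact hφ0 (funext hcon)
  set η : Fin n → F := (φ j)⁻¹ • φ - e j with hη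
  have hηr : IsRat F₀ η := (hφ.smul (F₀.inv_mem (hφ j))).sub (isRat_e F₀ j)
  have hηe : η ⬝ᵥ (e j) = 0 := by
    rw [hη, sub_dotProduct, smul_dotProduct, dot_e, e_dot_e_self, smul_eq_mul, inv_mul_cancel₀ hj,
      sub_self]
  have hg₀ : T (e j) η ∈ X := rat_T_mem X hHX (isRat_e F₀ j) hηr
  have hconj := X.mul_mem (X.mul_mem hg₀ h) (X.inv_mem hg₀)
  rw [conj_T _ hφw, T_inv hηe, T_vecMul (by rw [dotProduct_neg, hηe, neg_zero]), T_mulVec hηe] at hconj
  have e1 : φ + (φ ⬝ᵥ (-(e j : Fin n → F))) • η = (φ j) • (e j : Fin n → F) := by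
    rw [dotProduct_neg, dot_e, hη, smul_sub, smul_smul, neg_mul, mul_inv_cancel₀ hj]
    module
  rw [e1, ← T_smul] at hconj
  set w' := φ j • (w + (η ⬝ᵥ w) • (e j : Fin n → F)) with hw'
  have hw'j : w' j = 0 := by
    have h1 : η ⬝ᵥ w = - w j := by
      rw [hη, sub_dotProduct, smul_dotProduct, hφw, smul_zero, e_dot, zero_sub]
    rw [hw', h1]
    simp [e]
  have hw'r : IsRat F₀ w' := fun i => hR _ (coords_of_axis X hHX hn hw'j hconj i)
  -- recover `w`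
  have hw1 : IsRat F₀ (w + (η ⬝ᵥ w) • (e j : Fin n → F)) := by
    have : w + (η ⬝ᵥ w) • (e j : Fin n → F) = (φ j)⁻¹ • w' := by
      rw [hw', smul_smul, inv_mul_cancel₀ hj, one_smul]
    rw [this]
    exact hw'r.smul (F₀.inv_mem (hφ j))
  have hηw : η ⬝ᵥ w ∈ F₀ := by
    have h2 : η ⬝ᵥ (w + (η ⬝ᵥ w) • (e j : Fin n → F)) = η ⬝ᵥ w := by
      rw [dotProduct_add, dotProduct_smul, hηe, smul_zero, add_zero]
    rw [← h2]
    exact hηr.dot hw1
  have : w = (w + (η ⬝ᵥ w) • (e j : Fin n → F)) - (η ⬝ᵥ w) • (e j : Fin n → F) := by abel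
  rw [this]
  exact hw1.sub ((isRat_e F₀ j).smul hηw)

end Cfsg.Agent.Lib.Helper4.SubfL
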