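import Mathlib
import Cfsg.Agent.Lib.Helper4.SubfL3

set_option autoImplicit false

/-! Linear subfield subgroups (S5639): rational centre, and vectors killed by a rational
functional. -/

namespace Cfsg.Agent.Lib.Helper4.SubfL

open Matrix Cfsg.Agent.S5631 Cfsg.Agent.Lib.Helper4.Subf

variable {n : ℕ} {F : Type*} [Field F] {F₀ : Subfield F}
variable (X : Subgroup (GL (Fin n) F))
variable (hHX : Cfsg.Geo.subfieldSubgroup F₀ (1 : GL (Fin n) F) ⊓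
  Cfsg.Geo.specialLinear (Fin n) F ≤ X)
variable (hR : ∀ c ∈ Rs X, c ∈ F₀)

include hHX hR in
/-- **rational centre ⇒ rational axis** -/
lemma rat_of_rat_centre (hn : 3 ≤ n) {a ψ : Fin n → F} (ha : IsRat F₀ a) (ha0 : a ≠ 0)
    (hψa : ψ ⬝ᵥ a = 0) (h : T a ψ ∈ X) : IsRat F₀ ψ := by
  obtain ⟨i, hi⟩ : ∃ i, a i ≠ 0 := by
    by_contra hcon
    push Not at hcon
    exact ha0 (funext hcon)
  set ξ : Fin n → F := (a i)⁻¹ • a - e i with hξ
  have hξr : IsRat F₀ ξ := (ha.smul (F₀.inv_mem (ha i))).sub (isRat_e F₀ i)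
  have heξ : (e i : Fin n → F) ⬝ᵥ ξ = 0 := by
    rw [hξ, dotProduct_sub, dotProduct_smul, e_dot, e_dot_e_self, smul_eq_mul, inv_mul_cancel₀ hi,
      sub_self]
  have hg₁ : T ξ (e i) ∈ X := rat_T_mem X hHX hξr (isRat_e F₀ i)
  have hconj := X.mul_mem (X.mul_mem (X.inv_mem hg₁) h) hg₁
  have hinv : T ξ (e i : Fin n → F) = ((T ξ (e i))⁻¹)⁻¹ := (inv_inv _).symm
  rw [hinv] at hconj
  rw [inv_inv] at hconj
  have hconj' : (T ξ (e i))⁻¹ * T a ψ * ((T ξ (e i : Fin n → F))⁻¹)⁻¹ ∈ X := by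
    rw [inv_inv]; exact hconj
  rw [conj_T _ hψa, inv_inv, T_vecMul heξ, T_inv heξ,
    T_mulVec (by rw [dotProduct_neg, heξ, neg_zero])] at hconj'
  have e1 : a + ((e i : Fin n → F) ⬝ᵥ a) • (-ξ) = (a i) • (e i : Fin n → F) := by
    rw [e_dot, hξ, smul_neg, smul_sub, smul_smul, mul_inv_cancel₀ hi]
    module
  rw [e1, T_smul] at hconj'
  set ψ' := (a i) • (ψ + (ψ ⬝ᵥ ξ) • (e i : Fin n → F)) with hψ'
  have hψξ : ψ ⬝ᵥ ξ = - ψ i := by
    rw [hξ, dotProduct_sub, dotProduct_smul, hψa, smul_zero, dot_e, zero_sub]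
  have hψ'i : ψ' i = 0 := by
    rw [hψ', hψξ]
    simp [e]
  have hψ'r : IsRat F₀ ψ' := fun j => hR _ (coords_of_centre X hHX hn hψ'i hconj' j)
  have h1 : IsRat F₀ (ψ + (ψ ⬝ᵥ ξ) • (e i : Fin n → F)) := by
    have : ψ + (ψ ⬝ᵥ ξ) • (e i : Fin n → F) = (a i)⁻¹ • ψ' := by
      rw [hψ', smul_smul, inv_mul_cancel₀ hi, one_smul]
    rw [this]
    exact hψ'r.smul (F₀.inv_mem (ha i))
  have hψξ' : ψ ⬝ᵥ ξ ∈ F₀ := by
    have h2 : (ψ + (ψ ⬝ᵥ ξ) • (e i : Fin n → F)) ⬝ᵥ ξ = ψ ⬝ᵥ ξ := by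
      rw [add_dotProduct, smul_dotProduct, heξ, smul_zero, add_zero]
    rw [← h2]
    exact h1.dot hξr
  have : ψ = (ψ + (ψ ⬝ᵥ ξ) • (e i : Fin n → F)) - (ψ ⬝ᵥ ξ) • (e i : Fin n → F) := by abel
  rw [this]
  exact h1.sub ((isRat_e F₀ i).smul hψξ')

include hHX hR in
/-- if the centre `v` of a transvection in `X` is killed by a nonzero rational functional, then
`v` is proportional to a rational vector -/
lemma exists_smul_rat (hn : 3 ≤ n) {v ψ φ : Fin n → F} (hψv : ψ ⬝ᵥ v = 0) (hψ0 : ψ ≠ 0)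
    (hφ : IsRat F₀ φ) (hφ0 : φ ≠ 0) (hφv : φ ⬝ᵥ v = 0) (h : T v ψ ∈ X) :
    ∃ c : F, c ≠ 0 ∧ IsRat F₀ (c • v) := by
  by_cases hex : ∃ b, IsRat F₀ b ∧ φ ⬝ᵥ b = 0 ∧ ψ ⬝ᵥ b ≠ 0
  · obtain ⟨b, hb, hφb, hψb⟩ := hex
    have hr : T b φ ∈ X := rat_T_mem X hHX hb hφ
    have hcomm := comm_T hψv hφb hφv
    have hmem := X.mul_mem (X.mul_mem (X.mul_mem h hr) (X.inv_mem h)) (X.inv_mem hr)
    rw [hcomm] at hmem
    refine ⟨ψ ⬝ᵥ b, hψb, rat_of_rat_axis X hHX hR hn hφ hφ0 ?_ hmem⟩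
    rw [dotProduct_smul, hφv, smul_zero]
  · push Not at hex
    obtain ⟨j, hj⟩ : ∃ j, φ j ≠ 0 := by
      by_contra hcon
      push Not at hcon
      exact hφ0 (funext hcon)
    have hprop : ∀ i, ψ i = (ψ j / φ j) * φ i := by
      intro i
      have hb : IsRat F₀ (φ j • (e i : Fin n → F) - φ i • (e j : Fin n → F)) :=
        ((isRat_e F₀ i).smul (hφ j)).sub ((isRat_e F₀ j).smul (hφ i))
      have h0 : φ ⬝ᵥ (φ j • (e i : Fin n → F) - φ i • (e j : Fin n → F)) = 0 := by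
        rw [dotProduct_sub, dotProduct_smul, dotProduct_smul, dot_e, dot_e, smul_eq_mul,
          smul_eq_mul]
        ring
      have h1 := hex _ hb h0
      rw [dotProduct_sub, dotProduct_smul, dotProduct_smul, dot_e, dot_e, smul_eq_mul,
        smul_eq_mul] at h1
      field_simp
      linear_combination h1
    have hψeq : ψ = (ψ j / φ j) • φ := by
      funext i
      rw [Pi.smul_apply, smul_eq_mul]
      exact hprop i
    have hlam : ψ j / φ j ≠ 0 := by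
      intro h0
      apply hψ0
      rw [hψeq, h0, zero_smul]
    refine ⟨ψ j / φ j, hlam, ?_⟩
    rw [hψeq, ← T_smul] at h
    apply rat_of_rat_axis X hHX hR hn hφ hφ0 _ h
    rw [dotProduct_smul, hφv, smul_zero]

end Cfsg.Agent.Lib.Helper4.SubfL
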