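import Mathlib
import Cfsg.Agent.Lib.Helper4.SubfL4

set_option autoImplicit false

/-! Linear subfield subgroups (S5639): an element of `X` mapping a coordinate vector to a multiple
of a rational vector lies in the subfield group. -/

namespace Cfsg.Agent.Lib.Helper4.SubfL

open Matrix Cfsg.Agent.S5631 Cfsg.Agent.Lib.Helper4.Subf

variable {n : ℕ} {F : Type*} [Field F] {F₀ : Subfield F}

lemma inv_mulVec_mulVec' (g : GL (Fin n) F) (x : Fin n → F) :
    ((g⁻¹ : GL (Fin n) F) : Matrix (Fin n) (Fin n) F) *ᵥ ((g : Matrix (Fin n) (Fin n) F) *ᵥ x) = x := by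
  rw [Matrix.mulVec_mulVec, ← Units.val_mul, inv_mul_cancel, Units.val_one, Matrix.one_mulVec]

lemma scal_val (c : Fˣ) :
    ((scal c : GL (Fin n) F) : Matrix (Fin n) (Fin n) F) = (c : F) • (1 : Matrix _ _ F) := by
  simp [scal, Matrix.smul_one_eq_diagonal]

lemma vecMul_scal (c : Fˣ) (φ : Fin n → F) :
    φ ᵥ* ((scal c : GL (Fin n) F) : Matrix (Fin n) (Fin n) F) = (c : F) • φ := by
  rw [scal_val, Matrix.vecMul_smul, Matrix.vecMul_one]

lemma scal_mem_subfield (c : Fˣ) :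
    (scal c : GL (Fin n) F) ∈ Cfsg.Geo.subfieldSubgroup F₀ (1 : GL (Fin n) F) := by
  apply mem_subfield_of_smul F₀ 1 _ (c : F) c.ne_zero
  intro a ha
  refine ⟨a, ha, ?_⟩
  rw [Units.val_one, Matrix.one_mulVec, scal_mulVec]

lemma rat_mem_subfield (D : GL (Fin n) F)
    (h : ∀ i j, (D : Matrix (Fin n) (Fin n) F) i j ∈ F₀) :
    D ∈ Cfsg.Geo.subfieldSubgroup F₀ (1 : GL (Fin n) F) := by
  apply mem_subfield_of_smul F₀ 1 _ 1 one_ne_zero
  intro a ha
  refine ⟨(D : Matrix (Fin n) (Fin n) F) *ᵥ a, isRat_mulVec F₀ h ha, ?_⟩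
  rw [Units.val_one, Matrix.one_mulVec, one_smul, Matrix.one_mulVec]

variable (X : Subgroup (GL (Fin n) F))
variable (hHX : Cfsg.Geo.subfieldSubgroup F₀ (1 : GL (Fin n) F) ⊓
  Cfsg.Geo.specialLinear (Fin n) F ≤ X)
variable (hXS : X ≤ Cfsg.Geo.specialLinear (Fin n) F)
variable (hR : ∀ c ∈ Rs X, c ∈ F₀)

include hHX hXS hR in
/-- an element of `X` mapping `e i` to a multiple of a rational vector is in the subfield group -/
lemma mem_subfield_of_map_e (hn : 3 ≤ n) (g : GL (Fin n) F) (hg : g ∈ X) (i : Fin n) (c : F)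
    (hc : c ≠ 0) (a : Fin n → F) (ha : IsRat F₀ a) (ha0 : a ≠ 0)
    (hga : (g : Matrix (Fin n) (Fin n) F) *ᵥ (e i) = c • a) :
    g ∈ Cfsg.Geo.subfieldSubgroup F₀ (1 : GL (Fin n) F) := by
  classical
  set cu : Fˣ := Units.mk0 c hc with hcu
  have hginv : ((g⁻¹ : GL (Fin n) F) : Matrix (Fin n) (Fin n) F) *ᵥ a = c⁻¹ • (e i : Fin n → F) := by
    have h1 : a = c⁻¹ • ((g : Matrix (Fin n) (Fin n) F) *ᵥ (e i)) := by
      rw [hga, smul_smul, inv_mul_cancel₀ hc, one_smul]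
    rw [h1, Matrix.mulVec_smul, inv_mulVec_mulVec']
  -- rows `j ≠ i` of `c • g⁻¹` are rational
  have hrows : ∀ j, j ≠ i → IsRat F₀ (c • ((e j : Fin n → F) ᵥ*
      ((g⁻¹ : GL (Fin n) F) : Matrix (Fin n) (Fin n) F))) := by
    intro j hji
    have h0 : (e j : Fin n → F) ⬝ᵥ (e i) = 0 := e_dot_e hji
    have hr : T (e i : Fin n → F) (e j) ∈ X := rat_T_mem X hHX (isRat_e F₀ i) (isRat_e F₀ j)
    have hconj := X.mul_mem (X.mul_mem hg hr) (X.inv_mem hg)
    rw [conj_T _ h0, hga, T_smul] at hconj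
    apply rat_of_rat_centre X hHX hR hn ha ha0 _ hconj
    rw [smul_dotProduct, ← Matrix.dotProduct_mulVec, hginv, dotProduct_smul, h0, smul_zero,
      smul_zero]
  -- a rational functional with `d ⬝ a = 1`
  obtain ⟨k, hk⟩ : ∃ k, a k ≠ 0 := by
    by_contra hcon
    push Not at hcon
    exact ha0 (funext hcon)
  set d : Fin n → F := (a k)⁻¹ • e k with hd
  have hdr : IsRat F₀ d := (isRat_e F₀ k).smul (F₀.inv_mem (ha k))
  have hda : d ⬝ᵥ a = 1 := by
    rw [hd, smul_dotProduct, e_dot, smul_eq_mul, inv_mul_cancel₀ hk]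
  set μ : Fin n → F := c⁻¹ • (d ᵥ* (g : Matrix (Fin n) (Fin n) F)) - e i with hμ
  have hμi : μ ⬝ᵥ (e i) = 0 := by
    rw [hμ, sub_dotProduct, smul_dotProduct, ← Matrix.dotProduct_mulVec, hga, dotProduct_smul, hda,
      e_dot_e_self, smul_eq_mul, smul_eq_mul, mul_one, inv_mul_cancel₀ hc, sub_self]
  set T' : GL (Fin n) F := T (e i) μ with hT'
  set Dg : GL (Fin n) F := T' * g⁻¹ * scal cu with hDg
  have hrowD : ∀ j, (e j : Fin n → F) ᵥ* (Dg : Matrix (Fin n) (Fin n) F) =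
      c • (((e j : Fin n → F) + ((e j : Fin n → F) ⬝ᵥ (e i)) • μ) ᵥ*
        ((g⁻¹ : GL (Fin n) F) : Matrix (Fin n) (Fin n) F)) := by
    intro j
    rw [hDg, Units.val_mul, Units.val_mul, ← Matrix.vecMul_vecMul, ← Matrix.vecMul_vecMul,
      vecMul_scal, hT', T_vecMul hμi]
    rfl
  have hDe : ∀ j l, (Dg : Matrix (Fin n) (Fin n) F) j l ∈ F₀ := by
    intro j l
    have h1 : (Dg : Matrix (Fin n) (Fin n) F) j l =
        ((e j : Fin n → F) ᵥ* (Dg : Matrix (Fin n) (Fin n) F)) l := by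
      rw [e, Matrix.single_one_vecMul]
      rfl
    rw [h1, hrowD]
    by_cases hji : j = i
    · subst hji
      rw [e_dot_e_self, one_smul, hμ]
      have h2 : (e j : Fin n → F) + (c⁻¹ • (d ᵥ* (g : Matrix (Fin n) (Fin n) F)) - e j) =
          c⁻¹ • (d ᵥ* (g : Matrix (Fin n) (Fin n) F)) := by abel
      rw [h2, Matrix.smul_vecMul, Matrix.vecMul_vecMul, ← Units.val_mul, mul_inv_cancel,
        Units.val_one, Matrix.vecMul_one, smul_smul, mul_inv_cancel₀ hc, one_smul]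
      exact hdr l
    · rw [e_dot_e hji, zero_smul, add_zero]
      exact hrows j hji l
  have hDmem : Dg ∈ Cfsg.Geo.subfieldSubgroup F₀ (1 : GL (Fin n) F) := rat_mem_subfield Dg hDe
  have hgeq : g = scal cu * Dg⁻¹ * T' := by
    rw [hDg]; group
  set h : GL (Fin n) F := scal cu * Dg⁻¹ with hh
  have hhmem : h ∈ Cfsg.Geo.subfieldSubgroup F₀ (1 : GL (Fin n) F) :=
    Subgroup.mul_mem _ (scal_mem_subfield cu) (Subgroup.inv_mem _ hDmem)
  have hT'SL : T' ∈ Cfsg.Geo.specialLinear (Fin n) F := T_mem_SL _ _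
  have hhSL : h ∈ Cfsg.Geo.specialLinear (Fin n) F := by
    have : h = g * T'⁻¹ := by rw [hgeq]; group
    rw [this]
    exact Subgroup.mul_mem _ (hXS hg) (Subgroup.inv_mem _ hT'SL)
  have hhX : h ∈ X := hHX ⟨hhmem, hhSL⟩
  have hT'X : T' ∈ X := by
    have : T' = h⁻¹ * g := by rw [hgeq]; group
    rw [this]
    exact X.mul_mem (X.inv_mem hhX) hg
  have hμi' : μ i = 0 := by rw [← dot_e i μ]; exact hμi
  have hμr : IsRat F₀ μ := fun j => hR _ (coords_of_centre X hHX hn hμi' hT'X j)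
  have hT'mem : T' ∈ Cfsg.Geo.subfieldSubgroup F₀ (1 : GL (Fin n) F) :=
    rat_T_mem_subfield (isRat_e F₀ i) hμr
  rw [hgeq]
  exact Subgroup.mul_mem _ hhmem hT'mem

end Cfsg.Agent.Lib.Helper4.SubfL
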