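import Mathlib
import Cfsg.Agent.Lib.Helper4.SubfL5
import Cfsg.Agent.H9.AutPSL2Basic

set_option autoImplicit false

/-! Linear subfield subgroups (S5639): the subgroup of `SL₂(F)` induced on a line `⟨u, v⟩` by
the elements of `X` acting trivially on the quotient. -/

namespace Cfsg.Agent.Lib.Helper4.SubfL

open Matrix Cfsg.Agent.S5631 Cfsg.Agent.Lib.Helper4.Subf
open Cfsg.Agent.H9.AutPSL2

variable {n : ℕ} {F : Type*} [Field F]

local notation "SL2" => Matrix.SpecialLinearGroup (Fin 2) F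

/-- `y` acts on the line `⟨u, v⟩` by the matrix `A` and trivially on the quotient -/
def ActsAs (u v : Fin n → F) (y : GL (Fin n) F) (A : SL2) : Prop :=
  (∀ x, ∃ α β : F, (y : Matrix (Fin n) (Fin n) F) *ᵥ x - x = α • u + β • v) ∧
  (y : Matrix (Fin n) (Fin n) F) *ᵥ u = A.1 0 0 • u + A.1 1 0 • v ∧
  (y : Matrix (Fin n) (Fin n) F) *ᵥ v = A.1 0 1 • u + A.1 1 1 • v

lemma actsAs_one (u v : Fin n → F) : ActsAs u v 1 (1 : SL2) := by
  refine ⟨fun x => ⟨0, 0, by simp⟩, by simp, by simp⟩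

lemma actsAs_mul {u v : Fin n → F} {y y' : GL (Fin n) F} {A A' : SL2}
    (h : ActsAs u v y A) (h' : ActsAs u v y' A') : ActsAs u v (y * y') (A * A') := by
  obtain ⟨h1, h2, h3⟩ := h
  obtain ⟨h1', h2', h3'⟩ := h'
  refine ⟨fun x => ?_, ?_, ?_⟩
  · obtain ⟨α', β', hx'⟩ := h1' x
    obtain ⟨α, β, hx⟩ := h1 x
    refine ⟨α' * A.1 0 0 + β' * A.1 0 1 + α, α' * A.1 1 0 + β' * A.1 1 1 + β, ?_⟩
    have e1 : (y' : Matrix (Fin n) (Fin n) F) *ᵥ x = x + (α' • u + β' • v) := by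
      rw [← hx']; abel
    rw [Units.val_mul, ← Matrix.mulVec_mulVec, e1, Matrix.mulVec_add, Matrix.mulVec_add,
      Matrix.mulVec_smul, Matrix.mulVec_smul, h2, h3]
    have e2 : (y : Matrix (Fin n) (Fin n) F) *ᵥ x = x + (α • u + β • v) := by
      rw [← hx]; abel
    rw [e2]
    module
  · rw [Units.val_mul, ← Matrix.mulVec_mulVec, h2', Matrix.mulVec_add, Matrix.mulVec_smul,
      Matrix.mulVec_smul, h2, h3, mul_00, mul_10]
    module
  · rw [Units.val_mul, ← Matrix.mulVec_mulVec, h3', Matrix.mulVec_add, Matrix.mulVec_smul,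
      Matrix.mulVec_smul, h2, h3, mul_01, mul_11]
    module

lemma mulVec_inv_mulVec' (g : GL (Fin n) F) (x : Fin n → F) :
    (g : Matrix (Fin n) (Fin n) F) *ᵥ (((g⁻¹ : GL (Fin n) F) : Matrix (Fin n) (Fin n) F) *ᵥ x) = x := by
  rw [Matrix.mulVec_mulVec, ← Units.val_mul, mul_inv_cancel, Units.val_one, Matrix.one_mulVec]

lemma actsAs_inv {u v : Fin n → F} {y : GL (Fin n) F} {A : SL2}
    (h : ActsAs u v y A) : ActsAs u v y⁻¹ A⁻¹ := by
  obtain ⟨h1, h2, h3⟩ := h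
  have hdet := det_eq A
  refine ⟨fun x => ?_, ?_, ?_⟩
  · obtain ⟨α, β, hx⟩ := h1 (((y⁻¹ : GL (Fin n) F) : Matrix (Fin n) (Fin n) F) *ᵥ x)
    rw [mulVec_inv_mulVec'] at hx
    refine ⟨-α, -β, ?_⟩
    rw [neg_smul, neg_smul, ← neg_add, ← hx]
    abel
  · rw [inv_00, inv_10]
    have e : u = (y : Matrix (Fin n) (Fin n) F) *ᵥ (A.1 1 1 • u + (-A.1 1 0) • v) := by
      rw [Matrix.mulVec_add, Matrix.mulVec_smul, Matrix.mulVec_smul, h2, h3]
      have : A.1 1 1 • (A.1 0 0 • u + A.1 1 0 • v) + (-A.1 1 0) • (A.1 0 1 • u + A.1 1 1 • v) =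
          (A.1 0 0 * A.1 1 1 - A.1 0 1 * A.1 1 0) • u := by module
      rw [this, hdet, one_smul]
    conv_lhs => rw [e]
    rw [inv_mulVec_mulVec']
  · rw [inv_01, inv_11]
    have e : v = (y : Matrix (Fin n) (Fin n) F) *ᵥ ((-A.1 0 1) • u + A.1 0 0 • v) := by
      rw [Matrix.mulVec_add, Matrix.mulVec_smul, Matrix.mulVec_smul, h2, h3]
      have : (-A.1 0 1) • (A.1 0 0 • u + A.1 1 0 • v) + A.1 0 0 • (A.1 0 1 • u + A.1 1 1 • v) =
          (A.1 0 0 * A.1 1 1 - A.1 0 1 * A.1 1 0) • v := by module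
      rw [this, hdet, one_smul]
    conv_lhs => rw [e]
    rw [inv_mulVec_mulVec']

/-- the subgroup of `SL₂(F)` induced on `⟨u, v⟩` -/
def Gl (X : Subgroup (GL (Fin n) F)) (u v : Fin n → F) : Subgroup SL2 where
  carrier := {A | ∃ y ∈ X, ActsAs u v y A}
  mul_mem' := by
    rintro A A' ⟨y, hy, h⟩ ⟨y', hy', h'⟩
    exact ⟨y * y', X.mul_mem hy hy', actsAs_mul h h'⟩
  one_mem' := ⟨1, X.one_mem, actsAs_one u v⟩
  inv_mem' := by
    rintro A ⟨y, hy, h⟩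
    exact ⟨y⁻¹, X.inv_mem hy, actsAs_inv h⟩

lemma mem_Gl (X : Subgroup (GL (Fin n) F)) (u v : Fin n → F) (A : SL2) :
    A ∈ Gl X u v ↔ ∃ y ∈ X, ActsAs u v y A := Iff.rfl

/-- transvections with centre `u` -/
lemma actsAs_T_u {u v φ : Fin n → F} (hφu : φ ⬝ᵥ u = 0) :
    ActsAs u v (T u φ) (Cfsg.Agent.H9.AutPSL2.u (φ ⬝ᵥ v)) := by
  refine ⟨fun x => ⟨φ ⬝ᵥ x, 0, ?_⟩, ?_, ?_⟩
  · rw [T_mulVec hφu]; module
  · rw [T_mulVec hφu, hφu]; simp
  · rw [T_mulVec hφu]; simp [add_comm]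

/-- transvections with centre `v` -/
lemma actsAs_T_v {u v ψ : Fin n → F} (hψv : ψ ⬝ᵥ v = 0) :
    ActsAs u v (T v ψ) (l (ψ ⬝ᵥ u)) := by
  refine ⟨fun x => ⟨0, ψ ⬝ᵥ x, ?_⟩, ?_, ?_⟩
  · rw [T_mulVec hψv]; module
  · rw [T_mulVec hψv]; simp
  · rw [T_mulVec hψv, hψv]; simp

end Cfsg.Agent.Lib.Helper4.SubfL
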