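import Mathlib
import Cfsg.Agent.Lib.Helper4.SubfL6

set_option autoImplicit false

/-! Linear subfield subgroups (S5639): the upper root group of the induced `SL₂`-subgroup. -/

namespace Cfsg.Agent.Lib.Helper4.SubfL

open Matrix Cfsg.Agent.S5631 Cfsg.Agent.Lib.Helper4.Subf
open Cfsg.Agent.H9.AutPSL2

variable {n : ℕ} {F : Type*} [Field F] {F₀ : Subfield F}

local notation "SL2" => Matrix.SpecialLinearGroup (Fin 2) F

/-- a nonzero rational functional vanishing at `e i` and at a rational vector `w` -/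
lemma exists_rat_perp (hn : 3 ≤ n) (i : Fin n) {w : Fin n → F} (hw : IsRat F₀ w) :
    ∃ φ : Fin n → F, IsRat F₀ φ ∧ φ ≠ 0 ∧ φ i = 0 ∧ φ ⬝ᵥ w = 0 := by
  obtain ⟨j₁, hj₁⟩ : ∃ j₁ : Fin n, j₁ ≠ i := by
    obtain ⟨k, hk, -⟩ := exists_ne_ne hn i i
    exact ⟨k, hk⟩
  obtain ⟨j₂, hj₂i, hj₂⟩ := exists_ne_ne hn i j₁
  by_cases h0 : w j₁ = 0 ∧ w j₂ = 0
  · refine ⟨e j₁, isRat_e F₀ j₁, ?_, ?_, ?_⟩
    · intro h
      have := congrFun h j₁
      simp [e] at this
    · simp [e, hj₁.symm]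
    · rw [e_dot]; exact h0.1
  · refine ⟨w j₂ • (e j₁ : Fin n → F) - w j₁ • (e j₂ : Fin n → F),
      ((isRat_e F₀ j₁).smul (hw j₂)).sub ((isRat_e F₀ j₂).smul (hw j₁)), ?_, ?_, ?_⟩
    · intro h
      apply h0
      have h1 := congrFun h j₁
      have h2 := congrFun h j₂
      simp [e, hj₂, hj₂.symm] at h1 h2
      exact ⟨h2, h1⟩
    · simp [e, hj₁.symm, hj₂i.symm]
    · rw [sub_dotProduct, smul_dotProduct, smul_dotProduct, e_dot, e_dot, smul_eq_mul, smul_eq_mul]
      ring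

variable (X : Subgroup (GL (Fin n) F))
variable (hHX : Cfsg.Geo.subfieldSubgroup F₀ (1 : GL (Fin n) F) ⊓
  Cfsg.Geo.specialLinear (Fin n) F ≤ X)
variable (hXS : X ≤ Cfsg.Geo.specialLinear (Fin n) F)
variable (hR : ∀ c ∈ Rs X, c ∈ F₀)

include hHX hXS hR in
/-- an element of `X` fixing `e i` maps rational vectors to rational vectors -/
lemma rat_of_fix_e (hn : 3 ≤ n) (y : GL (Fin n) F) (hy : y ∈ X) (i : Fin n)
    (hyi : (y : Matrix (Fin n) (Fin n) F) *ᵥ (e i) = e i) {a : Fin n → F} (ha : IsRat F₀ a) :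
    IsRat F₀ ((y : Matrix (Fin n) (Fin n) F) *ᵥ a) := by
  have hei0 : (e i : Fin n → F) ≠ 0 := by
    intro h
    have := congrFun h i
    simp [e] at this
  have hmem := mem_subfield_of_map_e X hHX hXS hR hn y hy i 1 one_ne_zero (e i) (isRat_e F₀ i) hei0
    (by rw [hyi, one_smul])
  obtain ⟨c, hc, hcr⟩ := mem_subfield_elim F₀ 1 y hmem
  simp only [Units.val_one, Matrix.one_mulVec] at hcr
  obtain ⟨b, hb, hyb⟩ := hcr (e i) (isRat_e F₀ i)
  rw [hyi] at hyb
  have hcF : c ∈ F₀ := by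
    have h1 := congrFun hyb i
    simp only [e, Pi.single_eq_same, Pi.smul_apply, smul_eq_mul] at h1
    have hbi : b i ≠ 0 := by
      intro h0
      rw [h0, mul_zero] at h1
      exact one_ne_zero h1
    have : c = (b i)⁻¹ := by
      field_simp
      exact h1.symm
    rw [this]
    exact F₀.inv_mem (hb i)
  obtain ⟨b', hb', hyb'⟩ := hcr a ha
  rw [hyb']
  exact hb'.smul hcF

include hHX hXS hR in
/-- **the upper root group**: if `u a` is induced on `⟨e i, v⟩` with `v` totally irrational, then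
`a = φ ⬝ v` for a rational `φ` vanishing at `e i`. -/
lemma root_group_sub (hn : 3 ≤ n) (i : Fin n) (v : Fin n → F)
    (hv : ∀ φ : Fin n → F, IsRat F₀ φ → φ ≠ 0 → φ ⬝ᵥ v ≠ 0) (a : F)
    (ha : Cfsg.Agent.H9.AutPSL2.u a ∈ Gl X (e i) v) :
    ∃ φ : Fin n → F, IsRat F₀ φ ∧ φ i = 0 ∧ a = φ ⬝ᵥ v := by
  obtain ⟨y, hy, h1, h2, h3⟩ := ha
  simp only [u_00, u_01, u_10, u_11, one_smul, zero_smul, add_zero] at h2 h3
  -- `y` is rational
  have hyr : ∀ {x : Fin n → F}, IsRat F₀ x → IsRat F₀ ((y : Matrix (Fin n) (Fin n) F) *ᵥ x) :=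
    fun hx => rat_of_fix_e X hHX hXS hR hn y hy i h2 hx
  -- `y e_k - e_k` is a rational multiple of `e i`
  set wk : Fin n → (Fin n → F) := fun k =>
    (y : Matrix (Fin n) (Fin n) F) *ᵥ (e k : Fin n → F) - (e k : Fin n → F) with hwk
  have hcol : ∀ k : Fin n, (y : Matrix (Fin n) (Fin n) F) *ᵥ (e k) - e k =
      (wk k i) • (e i : Fin n → F) := by
    intro k
    obtain ⟨α, β, hαβ⟩ := h1 (e k)
    have hwr : IsRat F₀ ((y : Matrix (Fin n) (Fin n) F) *ᵥ (e k) - e k) :=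
      (hyr (isRat_e F₀ k)).sub (isRat_e F₀ k)
    have hβ : β = 0 := by
      by_contra hβ
      obtain ⟨φ, hφ, hφ0, hφi, hφw⟩ := exists_rat_perp (F₀ := F₀) hn i hwr
      rw [hαβ, dotProduct_add, dotProduct_smul, dotProduct_smul, dot_e, hφi, smul_zero, zero_add,
        smul_eq_mul] at hφw
      rcases mul_eq_zero.1 hφw with h | h
      · exact hβ h
      · exact hv φ hφ hφ0 h
    rw [hβ, zero_smul, add_zero] at hαβ
    have : wk k i = α := by
      rw [hwk]
      show ((y : Matrix (Fin n) (Fin n) F) *ᵥ (e k : Fin n → F) - (e k : Fin n → F)) i = α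
      rw [hαβ]; simp [e]
    rw [this, hαβ]
  set φ' : Fin n → F := fun k => wk k i with hφ'
  have hφ'r : IsRat F₀ φ' := fun k => ((hyr (isRat_e F₀ k)).sub (isRat_e F₀ k)) i
  have hφ'i : φ' i = 0 := by
    show ((y : Matrix (Fin n) (Fin n) F) *ᵥ (e i : Fin n → F) - (e i : Fin n → F)) i = 0
    rw [h2, sub_self]; rfl
  -- `y x = x + (φ' ⬝ x) e i`
  have hyx : ∀ x, (y : Matrix (Fin n) (Fin n) F) *ᵥ x = x + (φ' ⬝ᵥ x) • (e i : Fin n → F) := by
    intro x
    have hM : (y : Matrix (Fin n) (Fin n) F) = 1 + Matrix.vecMulVec (e i) φ' := by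
      ext l k
      have h4 := congrFun (hcol k) l
      rw [Pi.sub_apply, Pi.smul_apply, smul_eq_mul] at h4
      have h5 : ((y : Matrix (Fin n) (Fin n) F) *ᵥ (e k)) l = (y : Matrix (Fin n) (Fin n) F) l k := by
        rw [e, Matrix.mulVec_single_one]; rfl
      rw [h5] at h4
      rw [Matrix.add_apply, Matrix.vecMulVec_apply, Matrix.one_apply]
      have h6 : (e k : Fin n → F) l = if l = k then 1 else 0 := by
        rw [e, Pi.single_apply]
      rw [h6] at h4
      rw [mul_comm]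
      linear_combination h4
    rw [hM, Matrix.add_mulVec, Matrix.one_mulVec, Matrix.vecMulVec_mulVec]
    congr 1
    ext l
    simp [mul_comm]
  refine ⟨φ', hφ'r, hφ'i, ?_⟩
  have h7 := hyx v
  rw [h3] at h7
  -- compare coefficients of `e i`
  have h8 : (a - φ' ⬝ᵥ v) • (e i : Fin n → F) = 0 := by
    rw [sub_smul]
    have : a • (e i : Fin n → F) = (φ' ⬝ᵥ v) • (e i : Fin n → F) := by
      have := h7
      rw [add_comm] at this
      exact add_left_cancel this
    rw [this, sub_self]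
  have h9 := congrFun h8 i
  simp only [e, Pi.smul_apply, Pi.single_eq_same, smul_eq_mul, mul_one, Pi.zero_apply] at h9
  exact sub_eq_zero.1 h9

end Cfsg.Agent.Lib.Helper4.SubfL
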