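import Mathlib
import Cfsg.Agent.Lib.Helper4.SubfL7
import Cfsg.Agent.Lib.Helper4.SL2DickD

set_option autoImplicit false

/-! Linear subfield subgroups (S5639): a totally irrational transvection in `X` is impossible when
the parameter ring is `F₀` (via Dickson's theorem). -/

namespace Cfsg.Agent.Lib.Helper4.SubfL

open Matrix Cfsg.Agent.S5631 Cfsg.Agent.Lib.Helper4.Subf
open Cfsg.Agent.H9.AutPSL2 Cfsg.Agent.H9.DicksonUN

variable {n : ℕ} {F : Type*} [Field F] {F₀ : Subfield F}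

local notation "SL2" => Matrix.SpecialLinearGroup (Fin 2) F

/-- extension by zero of a rational functional on the coordinates `≠ i` -/
def ext0 (i : Fin n) (φ : {k : Fin n // k ≠ i} → F₀) : Fin n → F :=
  fun k => if h : k ≠ i then (φ ⟨k, h⟩ : F) else 0

lemma ext0_rat (i : Fin n) (φ : {k : Fin n // k ≠ i} → F₀) : IsRat F₀ (ext0 i φ) := by
  intro k
  unfold ext0
  split_ifs with h
  · exact (φ ⟨k, h⟩).2
  · exact F₀.zero_mem

lemma ext0_i (i : Fin n) (φ : {k : Fin n // k ≠ i} → F₀) : ext0 i φ i = 0 := by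
  unfold ext0
  rw [dif_neg (by simp)]

lemma ext0_injective (i : Fin n) : Function.Injective (ext0 (F₀ := F₀) i) := by
  intro φ φ' h
  funext ⟨k, hk⟩
  have := congrFun h k
  unfold ext0 at this
  rw [dif_pos hk, dif_pos hk] at this
  exact Subtype.ext this

variable (X : Subgroup (GL (Fin n) F))
variable (hHX : Cfsg.Geo.subfieldSubgroup F₀ (1 : GL (Fin n) F) ⊓
  Cfsg.Geo.specialLinear (Fin n) F ≤ X)
variable (hXS : X ≤ Cfsg.Geo.specialLinear (Fin n) F)
variable (hR : ∀ c ∈ Rs X, c ∈ F₀)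

include hHX hXS hR in
/-- the upper root group of the induced subgroup is in bijection with `F₀^(n-1)` -/
lemma card_root_group [Finite F] (hn : 3 ≤ n) (i : Fin n) (v : Fin n → F)
    (hv : ∀ φ : Fin n → F, IsRat F₀ φ → φ ≠ 0 → φ ⬝ᵥ v ≠ 0) :
    Nat.card (A (Gl X (e i) v)) = Nat.card F₀ ^ (n - 1) := by
  classical
  have hmemA : ∀ φ : {k : Fin n // k ≠ i} → F₀, ext0 i φ ⬝ᵥ v ∈ A (Gl X (e i) v) := by
    intro φ
    have h0 : ext0 i φ ⬝ᵥ (e i) = 0 := by rw [dot_e, ext0_i]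
    exact ⟨T (e i) (ext0 i φ), rat_T_mem X hHX (isRat_e F₀ i) (ext0_rat i φ), actsAs_T_u h0⟩
  let f : ({k : Fin n // k ≠ i} → F₀) → A (Gl X (e i) v) := fun φ => ⟨ext0 i φ ⬝ᵥ v, hmemA φ⟩
  have hinj : Function.Injective f := by
    intro φ φ' h
    have h1 : ext0 i φ ⬝ᵥ v = ext0 i φ' ⬝ᵥ v := congrArg Subtype.val h
    apply ext0_injective i
    by_contra hne
    have h2 : (ext0 i φ - ext0 i φ') ⬝ᵥ v = 0 := by rw [sub_dotProduct, h1, sub_self]
    exact hv _ ((ext0_rat i φ).sub (ext0_rat i φ')) (sub_ne_zero.2 hne) h2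
  have hsurj : Function.Surjective f := by
    rintro ⟨a, ha⟩
    obtain ⟨φ, hφ, hφi, rfl⟩ := root_group_sub X hHX hXS hR hn i v hv a ha
    refine ⟨fun k => ⟨φ k.1, hφ k.1⟩, ?_⟩
    apply Subtype.ext
    show ext0 i (fun k => (⟨φ k.1, hφ k.1⟩ : F₀)) ⬝ᵥ v = φ ⬝ᵥ v
    congr 1
    funext k
    unfold ext0
    split_ifs with h
    · rfl
    · push Not at h
      rw [h, hφi]
  rw [← Nat.card_congr (Equiv.ofBijective f ⟨hinj, hsurj⟩), Nat.card_fun]
  congr 1
  rw [Nat.card_eq_fintype_card, Fintype.card_subtype_compl, Fintype.card_fin,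
    Fintype.card_subtype_eq]

end Cfsg.Agent.Lib.Helper4.SubfL
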