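import Mathlib
import Cfsg.Agent.Lib.Helper4.SubfL8

set_option autoImplicit false

/-! Linear subfield subgroups (S5639): no totally irrational transvection. -/

namespace Cfsg.Agent.Lib.Helper4.SubfL

open Matrix Cfsg.Agent.S5631 Cfsg.Agent.Lib.Helper4.Subf
open Cfsg.Agent.H9.AutPSL2 Cfsg.Agent.H9.DicksonUN

variable {n : ℕ} {F : Type*} [Field F] [Fintype F] {F₀ : Subfield F}

variable (X : Subgroup (GL (Fin n) F))
variable (hHX : Cfsg.Geo.subfieldSubgroup F₀ (1 : GL (Fin n) F) ⊓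
  Cfsg.Geo.specialLinear (Fin n) F ≤ X)
variable (hXS : X ≤ Cfsg.Geo.specialLinear (Fin n) F)
variable (hR : ∀ c ∈ Rs X, c ∈ F₀)

include hHX hXS hR in
/-- **no totally irrational transvection** (uses Dickson's theorem) -/
lemma no_totally_irrational (hn : 7 ≤ n) (r : ℕ) (hr : r.Prime)
    (hcard : Fintype.card F = Nat.card F₀ ^ r) (i : Fin n) (v ψ : Fin n → F)
    (hv : ∀ φ : Fin n → F, IsRat F₀ φ → φ ≠ 0 → φ ⬝ᵥ v ≠ 0)
    (hψv : ψ ⬝ᵥ v = 0) (hψi : ψ i ≠ 0) (hT : T v ψ ∈ X) : False := by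
  classical
  set p := ringChar F with hp
  haveI : CharP F p := ringChar.charP F
  haveI : Fact p.Prime := ⟨CharP.char_is_prime F p⟩
  have hpp : p.Prime := Fact.out
  set G := Gl X (e i : Fin n → F) v with hG
  have hl : l (ψ i) ∈ G := by
    have := actsAs_T_v (u := (e i : Fin n → F)) hψv
    rw [dot_e] at this
    exact ⟨T v ψ, hT, this⟩
  have hcardA := card_root_group X hHX hXS hR (by omega) i v hv
  set q₀ := Nat.card F₀ with hq₀
  have hq₀2 : 2 ≤ q₀ := Finite.one_lt_card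
  -- `p ∣ q₀`
  have hpq₀ : p ∣ q₀ := by
    haveI : CharP F₀ p := RingHom.charP F₀.subtype Subtype.val_injective p
    let _ : Fintype F₀ := Fintype.ofFinite F₀
    obtain ⟨k, -, hk⟩ := FiniteField.card F₀ p
    rw [hq₀, Nat.card_eq_fintype_card, hk]
    exact dvd_pow_self p k.ne_zero
  have hp2 : p ^ 2 ∣ Nat.card (A G) := by
    rw [hcardA]
    exact (pow_dvd_pow_of_dvd hpq₀ 2).trans (pow_dvd_pow q₀ (by omega))
  have hS : 61 ≤ Nat.card (A G) := by
    rw [hcardA]
    calc 61 ≤ 2 ^ 6 := by norm_num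
      _ ≤ q₀ ^ 6 := Nat.pow_le_pow_left hq₀2 6
      _ ≤ q₀ ^ (n - 1) := Nat.pow_le_pow_right (by omega) (by omega)
  obtain ⟨m, hm⟩ := Cfsg.Agent.Lib.Helper4.SL2Dick.card_A_pow_eq' (Fintype.card F) p rfl G hψi hl hS hp2
  rw [hcardA, hcard, ← pow_mul] at hm
  have hmr : (n - 1) * m = r := Nat.pow_right_injective hq₀2 hm
  have hdvd : (n - 1) ∣ r := ⟨m, hmr.symm⟩
  have hnr : n - 1 = r := by
    rcases (Nat.dvd_prime hr).1 hdvd with h | h
    · omega
    · exact h
  -- `n ≤ r` from total irrationality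
  let g : (Fin n → F₀) → F := fun φ => (fun k => (φ k : F)) ⬝ᵥ v
  have hginj : Function.Injective g := by
    intro φ φ' h
    by_contra hne
    have h1 : ((fun k => (φ k : F)) - (fun k => (φ' k : F))) ⬝ᵥ v = 0 := by
      rw [sub_dotProduct]
      exact sub_eq_zero.2 h
    refine hv _ ?_ ?_ h1
    · intro k
      exact F₀.sub_mem (φ k).2 (φ' k).2
    · intro h0
      apply hne
      funext k
      have := congrFun h0 k
      simp only [Pi.sub_apply, Pi.zero_apply] at this
      exact Subtype.ext (sub_eq_zero.1 this)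
  have hle := Nat.card_le_card_of_injective g hginj
  rw [Nat.card_fun, Nat.card_eq_fintype_card (α := Fin n), Fintype.card_fin,
    Nat.card_eq_fintype_card (α := F), hcard] at hle
  have hnr' : n ≤ r := (Nat.pow_le_pow_iff_right (by omega)).1 hle
  omega

end Cfsg.Agent.Lib.Helper4.SubfL
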