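import Mathlib
import Cfsg.Agent.Lib.Helper4.SubfL9

set_option autoImplicit false

/-! Linear subfield subgroups (S5639): assembly. -/

namespace Cfsg.Agent.Lib.Helper4.SubfL

open Matrix Cfsg.Agent.S5631 Cfsg.Agent.Lib.Helper4.Subf

variable {n : ℕ} {F : Type*} [Field F]

/-- a subgroup of `GL` containing all elementary transvections contains `SL` -/
lemma specialLinear_le_of_elem [Nontrivial (Fin n)] (M : Subgroup (GL (Fin n) F))
    (hM : ∀ (i j : Fin n) (c : F), i ≠ j → T (c • (e i : Fin n → F)) (e j) ∈ M) :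
    Cfsg.Geo.specialLinear (Fin n) F ≤ M := by
  have htr : ∀ (i j : Fin n) (hij : i ≠ j) (c : F),
      Matrix.SpecialLinearGroup.toGL (Matrix.SpecialLinearGroup.transvection hij c) ∈ M := by
    intro i j hij c
    have h0 : (e j : Fin n → F) ⬝ᵥ (c • (e i : Fin n → F)) = 0 := e_dot_smul_e hij.symm c
    have : Matrix.SpecialLinearGroup.toGL (Matrix.SpecialLinearGroup.transvection hij c) =
        T (c • (e i : Fin n → F)) (e j) := by
      apply Units.ext
      rw [T_val h0]
      show (Matrix.SpecialLinearGroup.transvection hij c).1 = _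
      rw [Matrix.SpecialLinearGroup.transvection_coe, single_eq_vecMulVec]
      congr 2
      ext k
      simp [e, Pi.single_apply]
    rw [this]; exact hM i j c hij
  have hall : ∀ A : Matrix.SpecialLinearGroup (Fin n) F, Matrix.SpecialLinearGroup.toGL A ∈ M := by
    intro A
    refine Matrix.SpecialLinearGroup.diagonal_transvection_induction'
      (fun A => Matrix.SpecialLinearGroup.toGL A ∈ M) A ?_ htr
      (fun A B hA hB => by rw [map_mul]; exact M.mul_mem hA hB)
    intro i j hij c hc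
    rw [Cfsg.Agent.Lib.Helper5.SLn.diag2n_decompose hij c hc]
    simp only [map_mul]
    exact mul_mem (mul_mem (mul_mem (mul_mem (mul_mem (htr _ _ _ _) (htr _ _ _ _)) (htr _ _ _ _))
      (htr _ _ _ _)) (htr _ _ _ _)) (htr _ _ _ _)
  intro g hg
  rw [Cfsg.Geo.specialLinear, MonoidHom.mem_ker] at hg
  have hdet : (g : Matrix (Fin n) (Fin n) F).det = 1 := by
    have := congrArg Units.val hg
    rwa [Matrix.GeneralLinearGroup.val_det_apply] at this
  have : g = Matrix.SpecialLinearGroup.toGL ⟨(g : Matrix (Fin n) (Fin n) F), hdet⟩ := Units.ext rfl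
  rw [this]
  exact hall _

variable [Fintype F] {F₀ : Subfield F}

/-- the degree of `F` over `F₀` -/
lemma finrank_eq_of_card (r : ℕ) (hcard : Fintype.card F = Nat.card F₀ ^ r) :
    Module.finrank F₀ F = r := by
  have h1 := Module.natCard_eq_pow_finrank (K := F₀) (V := F)
  rw [Nat.card_eq_fintype_card, hcard] at h1
  have h2 : 2 ≤ Nat.card F₀ := Finite.one_lt_card
  exact (Nat.pow_right_injective h2 h1).symm

variable (X : Subgroup (GL (Fin n) F))
variable (hHX : Cfsg.Geo.subfieldSubgroup F₀ (1 : GL (Fin n) F) ⊓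
  Cfsg.Geo.specialLinear (Fin n) F ≤ X)
variable (hXS : X ≤ Cfsg.Geo.specialLinear (Fin n) F)

include hHX hXS in
/-- if the parameter ring is `F₀`, then `X` is inside the subfield group -/
lemma le_subfield_of_Rs (hn : 7 ≤ n) (r : ℕ) (hr : r.Prime)
    (hcard : Fintype.card F = Nat.card F₀ ^ r) (hR : ∀ c ∈ Rs X, c ∈ F₀) :
    X ≤ Cfsg.Geo.subfieldSubgroup F₀ (1 : GL (Fin n) F) := by
  intro g hg
  by_contra hgH
  set i₀ : Fin n := ⟨0, by omega⟩ with hi₀
  set j₀ : Fin n := ⟨1, by omega⟩ with hj₀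
  have hij : i₀ ≠ j₀ := by
    intro h
    have := congrArg Fin.val h
    simp [hi₀, hj₀] at this
  set v : Fin n → F := (g : Matrix (Fin n) (Fin n) F) *ᵥ (e i₀) with hv
  set ψ : Fin n → F := (e j₀ : Fin n → F) ᵥ* ((g⁻¹ : GL (Fin n) F) : Matrix (Fin n) (Fin n) F)
    with hψ
  have h0 : (e j₀ : Fin n → F) ⬝ᵥ (e i₀) = 0 := e_dot_e hij.symm
  have hT : T v ψ ∈ X := by
    have hr0 : T (e i₀ : Fin n → F) (e j₀) ∈ X := rat_T_mem X hHX (isRat_e F₀ i₀) (isRat_e F₀ j₀)
    have := X.mul_mem (X.mul_mem hg hr0) (X.inv_mem hg)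
    rwa [conj_T _ h0] at this
  have hψv : ψ ⬝ᵥ v = 0 := by
    rw [hψ, hv, Matrix.dotProduct_mulVec, Matrix.vecMul_vecMul, ← Units.val_mul, inv_mul_cancel,
      Units.val_one, Matrix.vecMul_one, h0]
  have hei : ∀ k : Fin n, (e k : Fin n → F) ≠ 0 := by
    intro k h
    have := congrFun h k
    simp [e] at this
  have hv0 : v ≠ 0 := by
    intro h
    have h1 := inv_mulVec_mulVec' g (e i₀)
    rw [← hv, h, Matrix.mulVec_zero] at h1
    exact hei i₀ h1.symm
  have hψ0 : ψ ≠ 0 := by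
    intro h
    have h1 : ψ ᵥ* (g : Matrix (Fin n) (Fin n) F) = e j₀ := by
      rw [hψ, Matrix.vecMul_vecMul, ← Units.val_mul, inv_mul_cancel, Units.val_one,
        Matrix.vecMul_one]
    rw [h, Matrix.zero_vecMul] at h1
    exact hei j₀ h1.symm
  have hvirr : ∀ φ : Fin n → F, IsRat F₀ φ → φ ≠ 0 → φ ⬝ᵥ v ≠ 0 := by
    intro φ hφ hφ0 hφv
    obtain ⟨c, hc, hcr⟩ := exists_smul_rat X hHX hR (by omega) hψv hψ0 hφ hφ0 hφv hT
    apply hgH
    apply mem_subfield_of_map_e X hHX hXS hR (by omega) g hg i₀ c⁻¹ (inv_ne_zero hc) (c • v) hcr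
    · intro h
      rcases smul_eq_zero.1 h with h | h
      · exact hc h
      · exact hv0 h
    · rw [smul_smul, inv_mul_cancel₀ hc, one_smul]
  obtain ⟨i, hi⟩ : ∃ i, ψ i ≠ 0 := by
    by_contra hcon
    push Not at hcon
    exact hψ0 (funext hcon)
  exact no_totally_irrational X hHX hXS hR hn r hr hcard i v ψ hvirr hψv hi hT

include hHX hXS in
/-- **dichotomy for overgroups of the subfield group in `SL_n(F)`** -/
theorem overgroup_dichotomy (hn : 7 ≤ n) (r : ℕ) (hr : r.Prime)
    (hcard : Fintype.card F = Nat.card F₀ ^ r) :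
    X ≤ Cfsg.Geo.subfieldSubgroup F₀ (1 : GL (Fin n) F) ∨
      X = Cfsg.Geo.specialLinear (Fin n) F := by
  have hn3 : 3 ≤ n := by omega
  have hprime : (Module.finrank F₀ F).Prime := by rw [finrank_eq_of_card r hcard]; exact hr
  have hsimple := Subalgebra.isSimpleOrder_of_finrank_prime F₀ F hprime
  rcases hsimple.eq_bot_or_eq_top (Rsub X hHX hn3) with h | h
  · left
    apply le_subfield_of_Rs X hHX hXS hn r hr hcard
    intro c hc
    have hc' : c ∈ Rsub X hHX hn3 := hc
    rw [h, Algebra.mem_bot] at hc'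
    obtain ⟨x, rfl⟩ := hc'
    exact x.2
  · right
    apply le_antisymm hXS
    haveI : Nontrivial (Fin n) := ⟨⟨⟨0, by omega⟩, ⟨1, by omega⟩, by simp⟩⟩
    apply specialLinear_le_of_elem
    intro i j c hij
    have hc : c ∈ Rsub X hHX hn3 := by rw [h]; trivial
    exact hc i j hij

end Cfsg.Agent.Lib.Helper4.SubfL
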