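import Mathlib
import Cfsg.Agent.Lib.Helper4.SubfL10

set_option autoImplicit false

/-! Linear subfield subgroups (S5639): properness, maximality, conjugation transfer. -/

namespace Cfsg.Agent.Lib.Helper4.SubfL

open Matrix Cfsg.Agent.S5631 Cfsg.Agent.Lib.Helper4.Subf

/-- transport of `IsMaximalIn` along a group isomorphism -/
lemma isMaximalIn_map {G : Type*} [Group G] (φ : G ≃* G) {K H : Subgroup G}
    (h : Cfsg.Geo.IsMaximalIn K H) :
    Cfsg.Geo.IsMaximalIn (K.map φ.toMonoidHom) (H.map φ.toMonoidHom) := by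
  have hinj : Function.Injective φ.toMonoidHom := φ.injective
  obtain ⟨hlt, hmax⟩ := h
  refine ⟨?_, ?_⟩
  · exact (Subgroup.map_lt_map_iff_of_injective hinj).2 hlt
  · intro M hHM hMK
    have hM : (M.comap φ.toMonoidHom).map φ.toMonoidHom = M :=
      Subgroup.map_comap_eq_self_of_surjective φ.surjective M
    have h1 : H ≤ M.comap φ.toMonoidHom := Subgroup.map_le_iff_le_comap.1 hHM
    have h2 : M.comap φ.toMonoidHom ≤ K := by
      intro x hx
      have : φ.toMonoidHom x ∈ K.map φ.toMonoidHom := hMK hx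
      obtain ⟨y, hy, hyx⟩ := this
      rwa [← hinj hyx]
    rcases hmax _ h1 h2 with h | h
    · left; rw [← hM, h]
    · right; rw [← hM, h]

variable {n : ℕ} {F : Type*} [Field F]

/-- the subfield group for `P` is the conjugate of the one for `1` -/
lemma subfieldSubgroup_eq_map (F₀ : Subfield F) (P : GL (Fin n) F) :
    Cfsg.Geo.subfieldSubgroup F₀ P =
      (Cfsg.Geo.subfieldSubgroup F₀ (1 : GL (Fin n) F)).map (MulAut.conj P).toMonoidHom := by
  have h1 : Cfsg.Geo.subfieldSubgroup F₀ (1 : GL (Fin n) F) =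
      ((Matrix.GeneralLinearGroup.map (F₀.subtype : F₀ →+* F)).range ⊔
        Cfsg.Geo.scalars (Fin n) F) := by
    rw [Cfsg.Geo.subfieldSubgroup]
    ext x
    simp [Subgroup.mem_map]
  rw [h1]
  rfl

/-- `SL` is invariant under conjugation -/
lemma specialLinear_map_conj (P : GL (Fin n) F) :
    (Cfsg.Geo.specialLinear (Fin n) F).map (MulAut.conj P).toMonoidHom =
      Cfsg.Geo.specialLinear (Fin n) F := by
  haveI : (Cfsg.Geo.specialLinear (Fin n) F).Normal := by
    rw [Cfsg.Geo.specialLinear]; infer_instance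
  ext x
  constructor
  · rintro ⟨y, hy, rfl⟩
    exact ‹(Cfsg.Geo.specialLinear (Fin n) F).Normal›.conj_mem y hy P
  · intro hx
    refine ⟨P⁻¹ * x * P, ?_, ?_⟩
    · have := ‹(Cfsg.Geo.specialLinear (Fin n) F).Normal›.conj_mem x hx P⁻¹
      rwa [inv_inv] at this
    · show P * (P⁻¹ * x * P) * P⁻¹ = x
      group

variable [Fintype F] {F₀ : Subfield F}

lemma exists_not_mem_subfield (r : ℕ) (hr : r.Prime)
    (hcard : Fintype.card F = Nat.card F₀ ^ r) : ∃ c : F, c ∉ F₀ := by
  by_contra h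
  push Not at h
  have htop : F₀ = ⊤ := by
    ext x; simp [h x]
  have h1 : Nat.card F₀ = Fintype.card F := by
    rw [htop, ← Nat.card_eq_fintype_card]
    exact Nat.card_congr (Subfield.topEquiv (K := F)).toEquiv
  have h2 : 2 ≤ Nat.card F₀ := Finite.one_lt_card
  rw [← h1] at hcard
  have h3 : Nat.card F₀ ^ 1 = Nat.card F₀ ^ r := by rw [pow_one]; exact hcard
  have := Nat.pow_right_injective h2 h3
  have := hr.two_le
  omega

/-- the subfield group is a proper subgroup of `SL` -/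
lemma subfield_inf_lt (hn : 2 ≤ n) (r : ℕ) (hr : r.Prime)
    (hcard : Fintype.card F = Nat.card F₀ ^ r) :
    Cfsg.Geo.subfieldSubgroup F₀ (1 : GL (Fin n) F) ⊓ Cfsg.Geo.specialLinear (Fin n) F <
      Cfsg.Geo.specialLinear (Fin n) F := by
  refine lt_of_le_of_ne inf_le_right ?_
  intro heq
  obtain ⟨c, hc⟩ := exists_not_mem_subfield r hr hcard
  set i₀ : Fin n := ⟨0, by omega⟩ with hi₀
  set j₀ : Fin n := ⟨1, by omega⟩ with hj₀
  have hij : i₀ ≠ j₀ := by
    intro h
    have := congrArg Fin.val h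
    simp [hi₀, hj₀] at this
  have h0 : (e j₀ : Fin n → F) ⬝ᵥ (c • (e i₀ : Fin n → F)) = 0 := e_dot_smul_e hij.symm c
  have hmem : T (c • (e i₀ : Fin n → F)) (e j₀) ∈
      Cfsg.Geo.subfieldSubgroup F₀ (1 : GL (Fin n) F) := by
    have : T (c • (e i₀ : Fin n → F)) (e j₀) ∈
        Cfsg.Geo.subfieldSubgroup F₀ (1 : GL (Fin n) F) ⊓ Cfsg.Geo.specialLinear (Fin n) F := by
      rw [heq]; exact T_mem_SL _ _
    exact this.1
  obtain ⟨d, hd, hdr⟩ := mem_subfield_elim F₀ 1 _ hmem
  simp only [Units.val_one, Matrix.one_mulVec] at hdr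
  obtain ⟨b, hb, hgb⟩ := hdr (e i₀) (isRat_e F₀ i₀)
  rw [T_mulVec h0, e_dot_e hij.symm, zero_smul, add_zero] at hgb
  have hdF : d ∈ F₀ := by
    have h1 := congrFun hgb i₀
    simp only [e, Pi.single_eq_same, Pi.smul_apply, smul_eq_mul] at h1
    have hbi : b i₀ ≠ 0 := by
      intro h0
      rw [h0, mul_zero] at h1
      exact one_ne_zero h1
    have : d = (b i₀)⁻¹ := by
      field_simp
      exact h1.symm
    rw [this]
    exact F₀.inv_mem (hb i₀)
  obtain ⟨b', hb', hgb'⟩ := hdr (e j₀) (isRat_e F₀ j₀)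
  rw [T_mulVec h0, e_dot_e_self, one_smul] at hgb'
  have h1 := congrFun hgb' i₀
  simp only [e, Pi.add_apply, Pi.smul_apply, Pi.single_eq_same, smul_eq_mul, mul_one] at h1
  rw [Pi.single_eq_of_ne hij, zero_add] at h1
  apply hc
  rw [h1]
  exact F₀.mul_mem hdF (hb' i₀)

/-- **maximality of the subfield group in `SL_n(F)`** for `P = 1` -/
theorem subfield_isMaximalIn_one (hn : 7 ≤ n) (r : ℕ) (hr : r.Prime)
    (hcard : Fintype.card F = Nat.card F₀ ^ r) :
    Cfsg.Geo.IsMaximalIn (Cfsg.Geo.specialLinear (Fin n) F)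
      (Cfsg.Geo.subfieldSubgroup F₀ (1 : GL (Fin n) F) ⊓ Cfsg.Geo.specialLinear (Fin n) F) := by
  refine ⟨subfield_inf_lt (by omega) r hr hcard, ?_⟩
  intro M hHM hMS
  rcases overgroup_dichotomy M hHM hMS hn r hr hcard with h | h
  · left
    exact le_antisymm (le_inf h hMS) hHM
  · right; exact h

/-- **maximality of the subfield group in `SL_n(F)`** -/
theorem subfield_isMaximalIn (hn : 7 ≤ n) (r : ℕ) (hr : r.Prime)
    (hcard : Fintype.card F = Nat.card F₀ ^ r) (P : GL (Fin n) F) :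
    Cfsg.Geo.IsMaximalIn (Cfsg.Geo.specialLinear (Fin n) F)
      (Cfsg.Geo.subfieldSubgroup F₀ P ⊓ Cfsg.Geo.specialLinear (Fin n) F) := by
  have h := isMaximalIn_map (MulAut.conj P) (subfield_isMaximalIn_one (F₀ := F₀) hn r hr hcard)
  rw [specialLinear_map_conj] at h
  have hinj : Function.Injective (MulAut.conj P).toMonoidHom := (MulAut.conj P).injective
  rw [Subgroup.map_inf _ _ _ hinj, specialLinear_map_conj, ← subfieldSubgroup_eq_map] at h
  exact h

end Cfsg.Agent.Lib.Helper4.SubfL
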