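import Mathlib
import Cfsg.Agent.Lib.Helper4.SubfL11

set_option autoImplicit false

/-! A corollary of the overgroup dichotomy: a subgroup of `GL_n(F)` containing `GL_n(F₀)` and one
element of `SL_n(F)` outside the subfield group contains `SL_n(F)`. -/

namespace Cfsg.Agent.Lib.Helper4.SubfL

open Matrix Cfsg.Agent.S5631 Cfsg.Agent.Lib.Helper4.Subf

variable {n : ℕ} {F : Type*} [Field F]

lemma scalars_comm {z : GL (Fin n) F} (hz : z ∈ Cfsg.Geo.scalars (Fin n) F) (g : GL (Fin n) F) :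
    z * g = g * z := by
  obtain ⟨c, hc⟩ := (Cfsg.Geo.mem_scalars_iff z).1 hz
  apply Units.ext
  rw [Units.val_mul, Units.val_mul, hc, Matrix.smul_mul, Matrix.mul_smul, Matrix.one_mul,
    Matrix.mul_one]

lemma subfieldSubgroup_one (F₀ : Subfield F) :
    Cfsg.Geo.subfieldSubgroup F₀ (1 : GL (Fin n) F) =
      ((Matrix.GeneralLinearGroup.map (F₀.subtype : F₀ →+* F)).range ⊔
        Cfsg.Geo.scalars (Fin n) F) := by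
  rw [Cfsg.Geo.subfieldSubgroup]
  ext x
  simp [Subgroup.mem_map]

variable [Fintype F] {F₀ : Subfield F}

/-- **irrational element criterion** -/
theorem specialLinear_le_of_not_mem (Y : Subgroup (GL (Fin n) F))
    (hY : (Matrix.GeneralLinearGroup.map (F₀.subtype : F₀ →+* F)).range ≤ Y)
    (hn : 7 ≤ n) (r : ℕ) (hr : r.Prime) (hcard : Fintype.card F = Nat.card F₀ ^ r)
    (D : GL (Fin n) F) (hDY : D ∈ Y) (hDS : D ∈ Cfsg.Geo.specialLinear (Fin n) F)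
    (hD : D ∉ Cfsg.Geo.subfieldSubgroup F₀ (1 : GL (Fin n) F)) :
    Cfsg.Geo.specialLinear (Fin n) F ≤ Y := by
  set Z := Cfsg.Geo.scalars (Fin n) F with hZ
  set X' : Subgroup (GL (Fin n) F) := (Y ⊔ Z) ⊓ Cfsg.Geo.specialLinear (Fin n) F with hX'
  have hHX : Cfsg.Geo.subfieldSubgroup F₀ (1 : GL (Fin n) F) ⊓
      Cfsg.Geo.specialLinear (Fin n) F ≤ X' := by
    rw [subfieldSubgroup_one]
    exact inf_le_inf_right _ (sup_le_sup_right hY _)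
  have hXS : X' ≤ Cfsg.Geo.specialLinear (Fin n) F := inf_le_right
  have hSL : Cfsg.Geo.specialLinear (Fin n) F ≤ Y ⊔ Z := by
    rcases overgroup_dichotomy X' hHX hXS hn r hr hcard with h | h
    · exact absurd (h ⟨Subgroup.mem_sup_left hDY, hDS⟩) hD
    · rw [← h]; exact inf_le_left
  haveI : Nontrivial (Fin n) := ⟨⟨⟨0, by omega⟩, ⟨1, by omega⟩, by simp⟩⟩
  apply specialLinear_le_of_elem
  intro i j c hij
  obtain ⟨k, hki, hkj⟩ := exists_ne_ne (n := n) (by omega) i j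
  have h1 : (e k : Fin n → F) ⬝ᵥ (c • (e i : Fin n → F)) = 0 := e_dot_smul_e hki c
  have h2 : (e j : Fin n → F) ⬝ᵥ (e k : Fin n → F) = 0 := e_dot_e hkj.symm
  have h3 : (e j : Fin n → F) ⬝ᵥ (c • (e i : Fin n → F)) = 0 := e_dot_smul_e hij.symm c
  have hcomm := comm_T h1 h2 h3
  rw [e_dot_e_self, one_smul] at hcomm
  rw [← hcomm]
  have hm1 : T (c • (e i : Fin n → F)) (e k) ∈ Y ⊔ Z := hSL (T_mem_SL _ _)
  have hm2 : T (e k : Fin n → F) (e j) ∈ Y ⊔ Z := hSL (T_mem_SL _ _)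
  rw [hZ, Subgroup.mem_sup_of_normal_right] at hm1 hm2
  obtain ⟨y₁, hy₁, z₁, hz₁, e₁⟩ := hm1
  obtain ⟨y₂, hy₂, z₂, hz₂, e₂⟩ := hm2
  have hc1 := scalars_comm hz₁
  have hc2 := scalars_comm hz₂
  have : T (c • (e i : Fin n → F)) (e k) * T (e k : Fin n → F) (e j) *
      (T (c • (e i : Fin n → F)) (e k))⁻¹ * (T (e k : Fin n → F) (e j))⁻¹ =
      y₁ * y₂ * y₁⁻¹ * y₂⁻¹ := by
    rw [← e₁, ← e₂]
    have a1 : (y₁ * z₁)⁻¹ = z₁⁻¹ * y₁⁻¹ := mul_inv_rev _ _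
    have a2 : (y₂ * z₂)⁻¹ = z₂⁻¹ * y₂⁻¹ := mul_inv_rev _ _
    have c1' : ∀ g, z₁⁻¹ * g = g * z₁⁻¹ := fun g => by
      have := hc1 (z₁⁻¹ * g * z₁⁻¹)
      calc z₁⁻¹ * g = z₁⁻¹ * (g * z₁) * z₁⁻¹ := by group
        _ = z₁⁻¹ * (z₁ * g) * z₁⁻¹ := by rw [hc1 g]
        _ = g * z₁⁻¹ := by group
    have c2' : ∀ g, z₂⁻¹ * g = g * z₂⁻¹ := fun g => by
      calc z₂⁻¹ * g = z₂⁻¹ * (g * z₂) * z₂⁻¹ := by group
        _ = z₂⁻¹ * (z₂ * g) * z₂⁻¹ := by rw [hc2 g]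
        _ = g * z₂⁻¹ := by group
    rw [a1, a2]
    calc y₁ * z₁ * (y₂ * z₂) * (z₁⁻¹ * y₁⁻¹) * (z₂⁻¹ * y₂⁻¹)
        = y₁ * (z₁ * (y₂ * z₂ * z₁⁻¹)) * y₁⁻¹ * (z₂⁻¹ * y₂⁻¹) := by group
      _ = y₁ * ((y₂ * z₂ * z₁⁻¹) * z₁) * y₁⁻¹ * (z₂⁻¹ * y₂⁻¹) := by rw [hc1]
      _ = y₁ * y₂ * (z₂ * (y₁⁻¹ * z₂⁻¹ * y₂⁻¹)) := by group
      _ = y₁ * y₂ * ((y₁⁻¹ * z₂⁻¹ * y₂⁻¹) * z₂) := by rw [hc2]
      _ = y₁ * y₂ * y₁⁻¹ * (z₂⁻¹ * (y₂⁻¹ * z₂)) := by group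
      _ = y₁ * y₂ * y₁⁻¹ * ((y₂⁻¹ * z₂) * z₂⁻¹) := by rw [c2']
      _ = y₁ * y₂ * y₁⁻¹ * y₂⁻¹ := by group
  rw [this]
  exact Y.mul_mem (Y.mul_mem (Y.mul_mem hy₁ hy₂) (Y.inv_mem hy₁)) (Y.inv_mem hy₂)

end Cfsg.Agent.Lib.Helper4.SubfL
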