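import Mathlib
import Cfsg.Prelude.Def_GeometricClasses
import Cfsg.Agent.Lib.Helper4.SubfB
import Cfsg.Agent.Lib.Helper4.OrthB
import Cfsg.Agent.Lib.Helper8.SUMaxA

set_option autoImplicit false
open Cfsg

/-!
The orthogonal subfield subgroup of the unitary group: the rational structure as a genuine
vector space over the subfield, with its quadratic form.
-/

namespace Cfsg.Agent.Lib.Helper4.SubfO

open Matrix Cfsg.Agent.Lib.Helper4.Orth Cfsg.Agent.Lib.Helper4.Subf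
  Cfsg.Agent.Lib.Helper8.Unitary Cfsg.Agent.Lib.Helper8.SUGen Cfsg.Agent.Lib.Helper8.SUMax

section Iota

variable {n : ℕ} {F : Type*} [Field F] (F₀ : Subfield F)

/-- the inclusion of the rational vectors -/
def iota (a : Fin n → F₀) : Fin n → F := fun i => (a i : F)

lemma iota_apply (a : Fin n → F₀) (i : Fin n) : iota F₀ a i = (a i : F) := rfl

lemma iota_add (a b : Fin n → F₀) : iota F₀ (a + b) = iota F₀ a + iota F₀ b := by
  funext i; simp [iota]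

lemma iota_sub (a b : Fin n → F₀) : iota F₀ (a - b) = iota F₀ a - iota F₀ b := by
  funext i; simp [iota]

lemma iota_neg (a : Fin n → F₀) : iota F₀ (-a) = -iota F₀ a := by
  funext i; simp [iota]

lemma iota_zero : iota F₀ (0 : Fin n → F₀) = 0 := by
  funext i; simp [iota]

lemma iota_smul (c : F₀) (a : Fin n → F₀) : iota F₀ (c • a) = (c : F) • iota F₀ a := by
  funext i; simp [iota]

lemma iota_injective : Function.Injective (iota F₀ : (Fin n → F₀) → (Fin n → F)) := by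
  intro a b h
  funext i
  exact Subtype.ext (congrFun h i)

lemma iota_eq_zero {a : Fin n → F₀} : iota F₀ a = 0 ↔ a = 0 := by
  rw [← iota_zero F₀]; exact (iota_injective F₀).eq_iff

lemma isRat_iota (a : Fin n → F₀) : IsRat F₀ (iota F₀ a) := fun i => (a i).2

lemma exists_iota {x : Fin n → F} (hx : IsRat F₀ x) : ∃ a : Fin n → F₀, iota F₀ a = x :=
  ⟨fun i => ⟨x i, hx i⟩, rfl⟩

end Iota

section Form

variable {n : ℕ} {F : Type*} [Field F] (F₀ : Subfield F) {σ : F ≃+* F}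
  {f : (Fin n → F) → (Fin n → F) → F}
variable (hrat : ∀ a b : Fin n → F₀, f (iota F₀ a) (iota F₀ b) ∈ F₀)

/-- the symmetric bilinear form on the rational vectors -/
def h₀ (a b : Fin n → F₀) : F₀ := ⟨f (iota F₀ a) (iota F₀ b), hrat a b⟩

/-- the quadratic form on the rational vectors -/
def Q₀ (a : Fin n → F₀) : F₀ := 2⁻¹ * h₀ F₀ hrat a a

lemma coe_h₀ (a b : Fin n → F₀) : ((h₀ F₀ hrat a b : F₀) : F) = f (iota F₀ a) (iota F₀ b) := rfl

variable (hf : Cfsg.Geo.IsUnitaryForm σ f) (hσ : ∀ x, x ∈ F₀ ↔ σ x = x)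
include hf hσ

lemma h₀_symm (a b : Fin n → F₀) : h₀ F₀ hrat a b = h₀ F₀ hrat b a := by
  apply Subtype.ext
  rw [coe_h₀, coe_h₀, hf.herm, (hσ _).1 (hrat b a)]

omit hσ in
lemma h₀_add_left (a a' b : Fin n → F₀) :
    h₀ F₀ hrat (a + a') b = h₀ F₀ hrat a b + h₀ F₀ hrat a' b := by
  apply Subtype.ext
  rw [Subfield.coe_add, coe_h₀, coe_h₀, coe_h₀, iota_add, hf.add_left]

omit hσ in
lemma h₀_smul_left (c : F₀) (a b : Fin n → F₀) :
    h₀ F₀ hrat (c • a) b = c * h₀ F₀ hrat a b := by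
  apply Subtype.ext
  rw [Subfield.coe_mul, coe_h₀, coe_h₀, iota_smul, hf.smul_left]

lemma h₀_add_right (a b b' : Fin n → F₀) :
    h₀ F₀ hrat a (b + b') = h₀ F₀ hrat a b + h₀ F₀ hrat a b' := by
  rw [h₀_symm F₀ hrat hf hσ, h₀_add_left F₀ hrat hf, h₀_symm F₀ hrat hf hσ b,
    h₀_symm F₀ hrat hf hσ b']

lemma h₀_smul_right (c : F₀) (a b : Fin n → F₀) :
    h₀ F₀ hrat a (c • b) = c * h₀ F₀ hrat a b := by
  rw [h₀_symm F₀ hrat hf hσ, h₀_smul_left F₀ hrat hf, h₀_symm F₀ hrat hf hσ b]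

variable (h2 : (2 : F) ≠ 0)
include h2

lemma two_ne_zero₀ : (2 : F₀) ≠ 0 := by
  intro h
  apply h2
  have h' : ((2 : F₀) : F) = ((0 : F₀) : F) := by rw [h]
  push_cast at h'
  exact h'

lemma polar_Q₀ (a b : Fin n → F₀) :
    QuadraticMap.polar (Q₀ F₀ hrat) a b = h₀ F₀ hrat a b := by
  have h2' := two_ne_zero₀ F₀ hf hσ h2
  rw [QuadraticMap.polar, Q₀, Q₀, Q₀, h₀_add_left F₀ hrat hf, h₀_add_right F₀ hrat hf hσ,
    h₀_add_right F₀ hrat hf hσ, h₀_symm F₀ hrat hf hσ b a]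
  field_simp
  ring

omit h2 in
lemma Q₀_smul (c : F₀) (a : Fin n → F₀) : Q₀ F₀ hrat (c • a) = c ^ 2 * Q₀ F₀ hrat a := by
  rw [Q₀, Q₀, h₀_smul_left F₀ hrat hf, h₀_smul_right F₀ hrat hf hσ]
  ring

end Form

section Nondeg

variable {n : ℕ} {F : Type*} [Field F] [Fintype F] (F₀ : Subfield F) {σ : F ≃+* F}
  {f : (Fin n → F) → (Fin n → F) → F}
variable (hrat : ∀ a b : Fin n → F₀, f (iota F₀ a) (iota F₀ b) ∈ F₀)
variable (hf : Cfsg.Geo.IsUnitaryForm σ f) (hσ : ∀ x, x ∈ F₀ ↔ σ x = x)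
variable (h2 : (2 : F) ≠ 0)
variable (hcard : Fintype.card F = Nat.card F₀ ^ 2) (θ : F) (hθ : θ ∉ F₀)

include hcard hθ in
/-- every vector is `ι a + θ ι b` -/
lemma exists_decomp_iota (x : Fin n → F) :
    ∃ a b : Fin n → F₀, x = iota F₀ a + θ • iota F₀ b := by
  obtain ⟨a, b, ha, hb, hab⟩ := exists_rat_decomp hcard θ hθ x
  obtain ⟨a', rfl⟩ := exists_iota F₀ ha
  obtain ⟨b', rfl⟩ := exists_iota F₀ hb
  exact ⟨a', b', hab⟩

include hf hσ h2 hcard hθ in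
theorem Q₀_nondeg : Cfsg.Geo.IsNondegenerateQuadraticForm (Q₀ F₀ hrat) := by
  have hpol : QuadraticMap.polar (Q₀ F₀ hrat) = h₀ F₀ hrat := by
    funext a b
    exact polar_Q₀ F₀ hrat hf hσ h2 a b
  have hnd : ∀ v : Fin n → F₀, v ≠ 0 → ∃ x, h₀ F₀ hrat x v ≠ 0 := by
    intro v hv
    have hιv : iota F₀ v ≠ 0 := fun h => hv ((iota_eq_zero F₀).1 h)
    obtain ⟨⟨y, hy⟩, -⟩ := hf.nondegenerate _ hιv
    obtain ⟨r, s, hrs⟩ := exists_decomp_iota F₀ hcard θ hθ y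
    by_contra hcon
    push Not at hcon
    apply hy
    have h1 := congrArg (fun t : F₀ => (t : F)) (hcon r)
    have h2' := congrArg (fun t : F₀ => (t : F)) (hcon s)
    simp only [coe_h₀, Subfield.coe_zero] at h1 h2'
    rw [hrs, hf.add_left, hf.smul_left, h1, h2']
    ring
  refine ⟨Q₀_smul F₀ hrat hf hσ, ?_, ?_⟩
  · rw [hpol]
    exact ⟨h₀_add_left F₀ hrat hf, h₀_smul_left F₀ hrat hf, h₀_add_right F₀ hrat hf hσ,
      h₀_smul_right F₀ hrat hf hσ⟩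
  · rw [hpol]
    intro v hv
    obtain ⟨x, hx⟩ := hnd v hv
    exact ⟨⟨x, hx⟩, ⟨x, by rw [h₀_symm F₀ hrat hf hσ]; exact hx⟩⟩

include hf hσ h2 in
omit [Fintype F] in
lemma f_iota (a b : Fin n → F₀) :
    f (iota F₀ a) (iota F₀ b) = ((pol (Q₀ F₀ hrat) a b : F₀) : F) := by
  rw [pol, polar_Q₀ F₀ hrat hf hσ h2, coe_h₀]

include hf hσ h2 in
omit [Fintype F] in
lemma Q₀_eq_zero_iff (a : Fin n → F₀) :
    Q₀ F₀ hrat a = 0 ↔ f (iota F₀ a) (iota F₀ a) = 0 := by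
  have h2' := two_ne_zero₀ F₀ hf hσ h2
  rw [Q₀, ← coe_h₀ F₀ hrat]
  constructor
  · intro h
    have := (mul_eq_zero.1 h).resolve_left (inv_ne_zero h2')
    rw [this]; rfl
  · intro h
    have : h₀ F₀ hrat a a = 0 := Subtype.ext h
    rw [this, mul_zero]

end Nondeg

end Cfsg.Agent.Lib.Helper4.SubfO
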