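import Mathlib
import Cfsg.Prelude.Def_GeometricClasses
import Cfsg.Agent.Lib.Helper8.SUMaxA

set_option autoImplicit false
open Cfsg

/-!
Algebra of the unitary Siegel transformations `sieg hf u y β` with a fixed centre `u`.
-/

namespace Cfsg.Agent.Lib.Helper4.SubfO

open Matrix Cfsg.Agent.S5631 Cfsg.Agent.S5643
  Cfsg.Agent.Lib.Helper8.Unitary Cfsg.Agent.Lib.Helper8.SUGen Cfsg.Agent.Lib.Helper8.SUMax

section SiegAlg

variable {n : ℕ} {F : Type*} [Field F] {σ : F ≃+* F} {f : (Fin n → F) → (Fin n → F) → F}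
variable (hf : Cfsg.Geo.IsUnitaryForm σ f)

lemma sieg_congr {u u' y y' : Fin n → F} {β β' : F} (hu : f u u = 0) (hyu : f y u = 0)
    (hu' : f u' u' = 0) (hyu' : f y' u' = 0) (h1 : u = u') (h2 : y = y') (h3 : β = β') :
    sieg hf u y hu hyu β = sieg hf u' y' hu' hyu' β' := by
  subst h1 h2 h3; rfl

lemma sieg_conj (g : GL (Fin n) F) (hg : g ∈ SUf f) (u y : Fin n → F) (hu : f u u = 0)
    (hyu : f y u = 0) (β : F)
    (hu' : f ((g : Matrix (Fin n) (Fin n) F) *ᵥ u) ((g : Matrix (Fin n) (Fin n) F) *ᵥ u) = 0)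
    (hyu' : f ((g : Matrix (Fin n) (Fin n) F) *ᵥ y) ((g : Matrix (Fin n) (Fin n) F) *ᵥ u) = 0) :
    g * sieg hf u y hu hyu β * g⁻¹ = sieg hf _ _ hu' hyu' β := by
  have hiso := SUf_iso g hg
  have hinv : ∀ x v, f (((g⁻¹ : GL (Fin n) F) : Matrix (Fin n) (Fin n) F) *ᵥ x) v =
      f x ((g : Matrix (Fin n) (Fin n) F) *ᵥ v) := by
    intro x v
    have := hiso (((g⁻¹ : GL (Fin n) F) : Matrix (Fin n) (Fin n) F) *ᵥ x) v
    rw [mulVec_inv_mulVec] at this
    exact this.symm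
  apply GL_ext
  intro x
  rw [mul_mulVec, mul_mulVec, sieg_mulVec, sieg_mulVec, Matrix.mulVec_add, Matrix.mulVec_add,
    Matrix.mulVec_smul, Matrix.mulVec_smul, mulVec_inv_mulVec, hinv, hinv, hiso]

lemma sieg_mul (u y y' : Fin n → F) (hu : f u u = 0) (hyu : f y u = 0) (hy'u : f y' u = 0)
    (β β' : F) (h : f (y + y') u = 0) :
    sieg hf u y hu hyu β * sieg hf u y' hu hy'u β' = sieg hf u (y + y') hu h (β + β' + f y y') := by
  have huy : f u y = 0 := f_swap_eq_zero hf _ _ hyu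
  apply GL_ext
  intro x
  rw [mul_mulVec, sieg_mulVec, sieg_mulVec, sieg_mulVec]
  simp only [hf.add_left, f_add_right hf, hf.smul_left, hu, hyu, hy'u, huy]
  match_scalars <;> ring

lemma sieg_one (u : Fin n → F) (hu : f u u = 0) (h0 : f 0 u = 0) :
    sieg hf u 0 hu h0 0 = 1 := by
  apply GL_ext
  intro x
  rw [sieg_mulVec, one_mulVec', f_zero_right hf, f_zero_right hf]
  simp

lemma sieg_inv (u y : Fin n → F) (hu : f u u = 0) (hyu : f y u = 0) (β : F)
    (h : f (-y) u = 0) :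
    (sieg hf u y hu hyu β)⁻¹ = sieg hf u (-y) hu h (f y y - β) := by
  symm
  apply eq_inv_of_mul_eq_one_right
  have h0 : f (y + -y) u = 0 := by rw [add_neg_cancel, f_zero_left hf]
  rw [sieg_mul hf u y (-y) hu hyu h β (f y y - β) h0]
  rw [sieg_congr hf hu h0 hu (f_zero_left hf u) rfl (add_neg_cancel y)
    (show β + (f y y - β) + f y (-y) = 0 by rw [f_neg_right hf]; ring)]
  exact sieg_one hf u hu _

/-- the commutator of two Siegel transformations with the same centre is a unitary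
transvection -/
lemma sieg_comm (u y y' : Fin n → F) (hu : f u u = 0) (hyu : f y u = 0) (hy'u : f y' u = 0)
    (β β' : F) (h0 : f 0 u = 0) :
    sieg hf u y hu hyu β * sieg hf u y' hu hy'u β' * (sieg hf u y hu hyu β)⁻¹ *
      (sieg hf u y' hu hy'u β')⁻¹ = sieg hf u 0 hu h0 (f y y' - f y' y) := by
  have h1 : f (y + y') u = 0 := by rw [hf.add_left, hyu, hy'u, add_zero]
  have h2 : f (y' + y) u = 0 := by rw [hf.add_left, hyu, hy'u, add_zero]
  have h3 : f (-(y' + y)) u = 0 := by rw [f_neg_left hf, h2, neg_zero]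
  have e : sieg hf u y hu hyu β * sieg hf u y' hu hy'u β' * (sieg hf u y hu hyu β)⁻¹ *
      (sieg hf u y' hu hy'u β')⁻¹ = (sieg hf u y hu hyu β * sieg hf u y' hu hy'u β') *
      (sieg hf u y' hu hy'u β' * sieg hf u y hu hyu β)⁻¹ := by
    rw [_root_.mul_inv_rev, mul_assoc, mul_assoc]
  rw [e, sieg_mul hf u y y' hu hyu hy'u β β' h1, sieg_mul hf u y' y hu hy'u hyu β' β h2,
    sieg_inv hf u (y' + y) hu h2 _ h3]
  have h4 : f (y + y' + -(y' + y)) u = 0 := by
    rw [hf.add_left, h1, h3, add_zero]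
  rw [sieg_mul hf u _ _ hu h1 h3 _ _ h4]
  apply sieg_congr hf hu h4 hu h0 rfl
  · abel
  · simp only [hf.add_left, f_add_right hf, f_neg_right hf]
    ring

lemma sieg_zero_eq_ut (u : Fin n → F) (hu : f u u = 0) (h0 : f 0 u = 0) (γ : F) :
    sieg hf u 0 hu h0 γ = ut hf u hu (σ γ) := by
  apply GL_ext
  intro x
  rw [sieg_mulVec, ut_mulVec, hf.involutive, f_zero_right hf, f_zero_right hf]
  simp

end SiegAlg

end Cfsg.Agent.Lib.Helper4.SubfO
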