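import Mathlib
import Cfsg.Prelude.Def_GeometricClasses
import Cfsg.Agent.Lib.Helper4.SubfO1
import Cfsg.Agent.Lib.Helper4.SubfO2

set_option autoImplicit false
open Cfsg

/-!
The orthogonal subfield subgroup of the unitary group: the context, existence lemmas over the
subfield, and the rational Siegel transformations.
-/

namespace Cfsg.Agent.Lib.Helper4.SubfO

open Matrix Cfsg.Agent.S5631 Cfsg.Agent.S5643 Cfsg.Agent.Lib.Helper4.Orth
  Cfsg.Agent.Lib.Helper4.Subf
  Cfsg.Agent.Lib.Helper8.Unitary Cfsg.Agent.Lib.Helper8.SUGen Cfsg.Agent.Lib.Helper8.SUMax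

/-- the standing hypotheses: a unitary form `f` on `F^n`, `F₀` the fixed field of `σ`, of index
two and odd order, such that `f` is `F₀`-valued on the rational vectors -/
structure Ctx {n : ℕ} {F : Type*} [Field F] [Fintype F] (F₀ : Subfield F) (σ : F ≃+* F)
    (f : (Fin n → F) → (Fin n → F) → F) : Prop where
  hf : Cfsg.Geo.IsUnitaryForm σ f
  hσ : ∀ x, x ∈ F₀ ↔ σ x = x
  hrat : ∀ a b : Fin n → F₀, f (iota F₀ a) (iota F₀ b) ∈ F₀
  hodd : Odd (Fintype.card F)
  hcard : Fintype.card F = Nat.card F₀ ^ 2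

namespace Ctx

variable {n : ℕ} {F : Type*} [Field F] [Fintype F] {F₀ : Subfield F} {σ : F ≃+* F}
  {f : (Fin n → F) → (Fin n → F) → F} (C : Ctx F₀ σ f)

include C

lemma h2 : (2 : F) ≠ 0 := by
  apply Ring.two_ne_zero
  intro h
  have := FiniteField.even_card_of_char_two h
  have := C.hodd
  rw [Nat.odd_iff] at this
  omega

/-- the quadratic form on the rational vectors -/
abbrev Q : (Fin n → F₀) → F₀ := Q₀ F₀ C.hrat

lemma exists_theta : ∃ θ : F, θ ≠ 0 ∧ σ θ = -θ ∧ θ ∉ F₀ := by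
  obtain ⟨z, hz0, hz⟩ := exists_Z C.hf.ne_refl C.hf.involutive
  have h1 : σ z = -z := by linear_combination hz
  refine ⟨z, hz0, h1, fun hmem => ?_⟩
  have h3 := (C.hσ z).1 hmem
  rw [h1] at h3
  have : (2 : F) * z = 0 := by linear_combination -h3
  rcases mul_eq_zero.1 this with h | h
  · exact C.h2 h
  · exact hz0 h

lemma nd : Cfsg.Geo.IsNondegenerateQuadraticForm C.Q := by
  obtain ⟨θ, -, -, hθ⟩ := C.exists_theta
  exact Q₀_nondeg F₀ C.hrat C.hf C.hσ C.h2 C.hcard θ hθ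

lemma f_iota (a b : Fin n → F₀) : f (iota F₀ a) (iota F₀ b) = ((pol C.Q a b : F₀) : F) :=
  SubfO.f_iota F₀ C.hrat C.hf C.hσ C.h2 a b

lemma Q_eq_zero_iff (a : Fin n → F₀) : C.Q a = 0 ↔ f (iota F₀ a) (iota F₀ a) = 0 :=
  Q₀_eq_zero_iff F₀ C.hrat C.hf C.hσ C.h2 a

lemma two_ne : (2 : F₀) ≠ 0 := two_ne_zero₀ F₀ C.hf C.hσ C.h2

/-- a hyperbolic pair perpendicular to `k` given rational vectors -/
lemma exists_hyp {k : ℕ} (d : Fin k → (Fin n → F₀)) (hk : 2 * k + 3 ≤ n) :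
    ∃ e e' : Fin n → F₀, (∀ i, pol C.Q e (d i) = 0) ∧ (∀ i, pol C.Q e' (d i) = 0) ∧
      C.Q e = 0 ∧ C.Q e' = 0 ∧ pol C.Q e e' = 1 := by
  classical
  haveI : Fintype F₀ := Fintype.ofFinite _
  have hoddK : Odd (Fintype.card F₀) := by
    have h1 := C.hodd
    rw [C.hcard, Nat.card_eq_fintype_card] at h1
    exact Nat.Odd.of_mul_right (by rwa [sq] at h1)
  exact exists_hyperbolic_pair C.nd hoddK C.two_ne d hk

/-- a singular vector with the same products as `y` against `k` given vectors -/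
lemma exists_sing {k : ℕ} (y : Fin n → F₀) (d : Fin k → (Fin n → F₀)) (hk : 2 * k + 5 ≤ n) :
    ∃ u : Fin n → F₀, C.Q u = 0 ∧ ∀ i, pol C.Q u (d i) = pol C.Q y (d i) := by
  obtain ⟨e, e', he, he', hqe, hqe', hee'⟩ := C.exists_hyp (Fin.cons y d : Fin (k + 1) → _)
    (by omega)
  have hey : pol C.Q e y = 0 := by simpa using he 0
  have he'y : pol C.Q e' y = 0 := by simpa using he' 0
  have hed : ∀ i, pol C.Q e (d i) = 0 := fun i => by simpa using he i.succ
  have he'd : ∀ i, pol C.Q e' (d i) = 0 := fun i => by simpa using he' i.succ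
  refine ⟨y + (e + (-C.Q y) • e'), ?_, fun i => ?_⟩
  · rw [Q_add C.Q, Q_add_smul C.nd, pol_add_right C.nd, pol_smul_right C.nd, pol_comm y e,
      pol_comm y e', hey, he'y, hqe, hqe', hee']
    ring
  · rw [pol_add_left C.nd, pol_add_left C.nd, pol_smul_left C.nd, hed, he'd]
    ring

end Ctx

end Cfsg.Agent.Lib.Helper4.SubfO
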