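import Mathlib
import Cfsg.Prelude.Def_GeometricClasses
import Cfsg.Agent.Lib.Helper4.SubfO3

set_option autoImplicit false
open Cfsg

/-!
The orthogonal subfield subgroup of the unitary group: the rational Siegel transformations lie
in the subfield group.
-/

namespace Cfsg.Agent.Lib.Helper4.SubfO

open Matrix Cfsg.Agent.S5631 Cfsg.Agent.S5643 Cfsg.Agent.Lib.Helper4.Orth
  Cfsg.Agent.Lib.Helper4.Subf
  Cfsg.Agent.Lib.Helper8.Unitary Cfsg.Agent.Lib.Helper8.SUGen Cfsg.Agent.Lib.Helper8.SUMax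

namespace Ctx

variable {n : ℕ} {F : Type*} [Field F] [Fintype F] {F₀ : Subfield F} {σ : F ≃+* F}
  {f : (Fin n → F) → (Fin n → F) → F} (C : Ctx F₀ σ f)

include C

lemma sigma_f_iota (a b : Fin n → F₀) : σ (f (iota F₀ a) (iota F₀ b)) = f (iota F₀ a) (iota F₀ b) :=
  (C.hσ _).1 (C.hrat a b)

lemma f_iota_symm (a b : Fin n → F₀) : f (iota F₀ a) (iota F₀ b) = f (iota F₀ b) (iota F₀ a) := by
  rw [C.hf.herm, C.sigma_f_iota]

lemma f_iota_eq_zero {a b : Fin n → F₀} (h : pol C.Q a b = 0) : f (iota F₀ a) (iota F₀ b) = 0 := by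
  rw [C.f_iota, h]; rfl

lemma pol_eq_zero_of_f {a b : Fin n → F₀} (h : f (iota F₀ a) (iota F₀ b) = 0) :
    pol C.Q a b = 0 := by
  rw [C.f_iota] at h
  exact Subtype.ext h

lemma sigma_mem {c : F} (hc : c ∈ F₀) : σ c = c := (C.hσ c).1 hc

lemma half_mem : (2 : F)⁻¹ ∈ F₀ := by
  apply F₀.inv_mem
  have : (2 : F) = 1 + 1 := by norm_num
  rw [this]
  exact F₀.add_mem F₀.one_mem F₀.one_mem

/-- the rational Siegel transformation -/
noncomputable def rsieg (u w : Fin n → F₀) (hu : C.Q u = 0) (hwu : pol C.Q w u = 0) :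
    GL (Fin n) F :=
  Helper8.SUMax.sieg C.hf (iota F₀ u) (iota F₀ w) ((C.Q_eq_zero_iff u).1 hu) (C.f_iota_eq_zero hwu)
    ((2 : F)⁻¹ * f (iota F₀ w) (iota F₀ w))

lemma rsieg_mulVec (u w : Fin n → F₀) (hu : C.Q u = 0) (hwu : pol C.Q w u = 0) (x : Fin n → F) :
    ((C.rsieg u w hu hwu : GL (Fin n) F) : Matrix (Fin n) (Fin n) F) *ᵥ x =
      x + f x (iota F₀ u) • iota F₀ w +
        (-((2 : F)⁻¹ * f (iota F₀ w) (iota F₀ w)) * f x (iota F₀ u) - f x (iota F₀ w)) •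
          iota F₀ u := by
  rw [rsieg, Helper8.SUMax.sieg_mulVec]
  have h2 := C.h2
  congr 2
  field_simp
  ring

lemma rsieg_perp (u w : Fin n → F₀) (hu : C.Q u = 0) (hwu : pol C.Q w u = 0) (x : Fin n → F)
    (hx : f x (iota F₀ u) = 0) :
    ((C.rsieg u w hu hwu : GL (Fin n) F) : Matrix (Fin n) (Fin n) F) *ᵥ x =
      x - f x (iota F₀ w) • iota F₀ u := by
  rw [C.rsieg_mulVec, hx]
  module

lemma rsieg_mem (u w : Fin n → F₀) (hu : C.Q u = 0) (hwu : pol C.Q w u = 0) :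
    C.rsieg u w hu hwu ∈ Cfsg.Geo.subfieldSubgroup F₀ (1 : GL (Fin n) F) ⊓ SUf f := by
  have hβ : (2 : F)⁻¹ * f (iota F₀ w) (iota F₀ w) ∈ F₀ := F₀.mul_mem C.half_mem (C.hrat w w)
  refine ⟨?_, ?_⟩
  · apply mem_subfield_of_smul F₀ 1 _ 1 one_ne_zero
    intro a ha
    obtain ⟨a', rfl⟩ := exists_iota F₀ ha
    refine ⟨((C.rsieg u w hu hwu : GL (Fin n) F) : Matrix (Fin n) (Fin n) F) *ᵥ (iota F₀ a'), ?_, ?_⟩
    · rw [C.rsieg_mulVec]
      refine ((isRat_iota F₀ a').add ((isRat_iota F₀ w).smul (C.hrat a' u))).add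
        ((isRat_iota F₀ u).smul (F₀.sub_mem (F₀.mul_mem (F₀.neg_mem hβ) (C.hrat a' u))
          (C.hrat a' w)))
    · rw [Units.val_one, Matrix.one_mulVec, Matrix.one_mulVec, one_smul]
  · rw [rsieg]
    apply Helper8.SUMax.sieg_mem
    rw [C.sigma_mem hβ]
    have h2 := C.h2
    field_simp
    ring

end Ctx

end Cfsg.Agent.Lib.Helper4.SubfO
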