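import Mathlib
import Cfsg.Prelude.Def_GeometricClasses
import Cfsg.Agent.Lib.Helper4.SubfO4

set_option autoImplicit false
open Cfsg

/-!
The orthogonal subfield subgroup of the unitary group: closure of the set of centres under
hyperbolic lines; all rational singular vectors are centres once one is.
-/

namespace Cfsg.Agent.Lib.Helper4.SubfO

open Matrix Cfsg.Agent.S5631 Cfsg.Agent.S5643 Cfsg.Agent.Lib.Helper4.Orth
  Cfsg.Agent.Lib.Helper4.Subf
  Cfsg.Agent.Lib.Helper8.Unitary Cfsg.Agent.Lib.Helper8.SUGen Cfsg.Agent.Lib.Helper8.SUMax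

section Closure

variable {n : ℕ} {F : Type*} [Field F] {σ : F ≃+* F} {f : (Fin n → F) → (Fin n → F) → F}
variable (hf : Cfsg.Geo.IsUnitaryForm σ f) (M : Subgroup (GL (Fin n) F)) (hMS : M ≤ SUf f)

include hMS in
/-- the isotropic points of a hyperbolic line through two centres are centres -/
lemma SSu_line (u y : Fin n → F) (hu : u ∈ SSu hf M) (hy : y ∈ SSu hf M) (hyu : f y u ≠ 0)
    (l : F) (hx : f (y + l • u) (y + l • u) = 0) : y + l • u ∈ SSu hf M := by
  obtain ⟨hu0, huM⟩ := hu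
  have hy0 := SSu_iso hf M y hy
  have huy : f u y = σ (f y u) := hf.herm u y
  have hσφ : σ (f y u) ≠ 0 := by rw [Ne, map_eq_zero]; exact hyu
  have hx' : l * σ (f y u) + σ l * f y u = 0 := by
    rw [hf.add_left, f_add_right hf, f_add_right hf, hf.smul_left, hf.smul_left,
      f_smul_right hf, f_smul_right hf, hy0, hu0, huy] at hx
    linear_combination hx
  have hz : σ (l / f y u) + σ (σ (l / f y u)) = 0 := by
    rw [hf.involutive, map_div₀]
    field_simp
    linear_combination hx'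
  have := SSu_mulVec hf M hMS _ (huM _ hz) y hy
  rw [ut_mulVec, hf.involutive, div_mul_cancel₀ _ hyu] at this
  exact this

end Closure

namespace Ctx

variable {n : ℕ} {F : Type*} [Field F] [Fintype F] {F₀ : Subfield F} {σ : F ≃+* F}
  {f : (Fin n → F) → (Fin n → F) → F} (C : Ctx F₀ σ f)
variable (M : Subgroup (GL (Fin n) F))
variable (hHM : Cfsg.Geo.subfieldSubgroup F₀ (1 : GL (Fin n) F) ⊓ SUf f ≤ M) (hMS : M ≤ SUf f)

include C hHM hMS

/-- moving a centre along a totally singular rational line -/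
lemma sing_step (v v' : Fin n → F₀) (hv : C.Q v = 0) (hv' : C.Q v' = 0)
    (hvv' : pol C.Q v v' = 0) (h1 : v ∉ Submodule.span F₀ {v'})
    (h2 : v' ∉ Submodule.span F₀ {v}) (hS : iota F₀ v ∈ SSu C.hf M) :
    iota F₀ v' ∈ SSu C.hf M := by
  obtain ⟨y, hy1, hy2⟩ := exists_pol_eq_one C.nd _ v h1
  have hyv' : pol C.Q (-y) v' = 0 := by
    rw [pol_neg_left C.nd, hy2 v' (Submodule.mem_span_singleton_self v'), neg_zero]
  have hS1 := SSu_mulVec C.hf M hMS _ (hHM (C.rsieg_mem v' (-y) hv' hyv')) _ hS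
  rw [C.rsieg_perp _ _ _ _ _ (C.f_iota_eq_zero hvv'), C.f_iota, pol_neg_right C.nd,
    pol_comm v y, hy1] at hS1
  have e1 : iota F₀ v - ((-1 : F₀) : F) • iota F₀ v' = iota F₀ (v + v') := by
    rw [iota_add]
    simp
  rw [e1] at hS1
  obtain ⟨y₂, hy₂1, hy₂2⟩ := exists_pol_eq_one C.nd _ v' h2
  have hy₂v : pol C.Q y₂ v = 0 := hy₂2 v (Submodule.mem_span_singleton_self v)
  have hS2 := SSu_mulVec C.hf M hMS _ (hHM (C.rsieg_mem v y₂ hv hy₂v)) _ hS1
  have hperp : f (iota F₀ (v + v')) (iota F₀ v) = 0 := by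
    apply C.f_iota_eq_zero
    rw [pol_add_left C.nd, pol_self C.nd, hv, pol_comm v' v, hvv']
    ring
  rw [C.rsieg_perp _ _ _ _ _ hperp, C.f_iota, pol_add_left C.nd, pol_comm v y₂, hy₂v,
    pol_comm v' y₂, hy₂1] at hS2
  have e2 : iota F₀ (v + v') - ((0 + 1 : F₀) : F) • iota F₀ v = iota F₀ v' := by
    rw [iota_add]
    simp
  rw [e2] at hS2
  exact hS2

/-- all rational singular vectors are centres once one is -/
lemma all_singular (hn : 7 ≤ n) (u' : Fin n → F₀) (hu'0 : u' ≠ 0) (hu' : C.Q u' = 0)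
    (hS : iota F₀ u' ∈ SSu C.hf M) (v : Fin n → F₀) (hv : C.Q v = 0) :
    iota F₀ v ∈ SSu C.hf M := by
  by_cases hv0 : v = 0
  · have := SSu_smul C.hf M 0 _ hS
    rw [zero_smul] at this
    rw [hv0, iota_zero]
    exact this
  obtain ⟨e, e', he, he', hqe, -, hee'⟩ := C.exists_hyp ![u', v] (by omega)
  have heu' : pol C.Q e u' = 0 := by simpa using he 0
  have hev : pol C.Q e v = 0 := by simpa using he 1
  have he'u' : pol C.Q e' u' = 0 := by simpa using he' 0
  have he'v : pol C.Q e' v = 0 := by simpa using he' 1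
  -- `e` is independent of any nonzero vector perpendicular to `e'`
  have key : ∀ t : Fin n → F₀, t ≠ 0 → pol C.Q e' t = 0 →
      t ∉ Submodule.span F₀ {e} ∧ e ∉ Submodule.span F₀ {t} := by
    intro t ht0 ht
    constructor
    · intro hmem
      obtain ⟨c, rfl⟩ := Submodule.mem_span_singleton.1 hmem
      rw [pol_smul_right C.nd, pol_comm e' e, hee', mul_one] at ht
      apply ht0
      rw [ht, zero_smul]
    · intro hmem
      obtain ⟨c, hc⟩ := Submodule.mem_span_singleton.1 hmem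
      have : pol C.Q e e' = 0 := by
        rw [← hc, pol_smul_left C.nd, pol_comm t e', ht, mul_zero]
      rw [hee'] at this
      exact one_ne_zero this
  obtain ⟨k1, k2⟩ := key u' hu'0 he'u'
  obtain ⟨k3, k4⟩ := key v hv0 he'v
  have hSe := C.sing_step M hHM hMS u' e hu' hqe (by rw [pol_comm]; exact heu') k1 k2 hS
  exact C.sing_step M hHM hMS e v hqe hv hev k4 k3 hSe

end Ctx

end Cfsg.Agent.Lib.Helper4.SubfO
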