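import Mathlib
import Cfsg.Prelude.Def_GeometricClasses
import Cfsg.Agent.Lib.Helper4.SubfO5

set_option autoImplicit false
open Cfsg

/-!
The orthogonal subfield subgroup of the unitary group: every isotropic vector is a centre once
all rational singular vectors are.
-/

namespace Cfsg.Agent.Lib.Helper4.SubfO

open Matrix Cfsg.Agent.S5631 Cfsg.Agent.S5643 Cfsg.Agent.Lib.Helper4.Orth
  Cfsg.Agent.Lib.Helper4.Subf
  Cfsg.Agent.Lib.Helper8.Unitary Cfsg.Agent.Lib.Helper8.SUGen Cfsg.Agent.Lib.Helper8.SUMax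

namespace Ctx

variable {n : ℕ} {F : Type*} [Field F] [Fintype F] {F₀ : Subfield F} {σ : F ≃+* F}
  {f : (Fin n → F) → (Fin n → F) → F} (C : Ctx F₀ σ f)
variable (θ : F) (hθ0 : θ ≠ 0) (hθ : σ θ = -θ) (hθm : θ ∉ F₀)

include C

lemma f_pair_left (a b c : Fin n → F₀) :
    f (iota F₀ a + θ • iota F₀ b) (iota F₀ c) =
      ((pol C.Q a c : F₀) : F) + θ * ((pol C.Q b c : F₀) : F) := by
  rw [C.hf.add_left, C.hf.smul_left, C.f_iota, C.f_iota]

include hθ in
lemma f_pair_self (a b : Fin n → F₀) :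
    f (iota F₀ a + θ • iota F₀ b) (iota F₀ a + θ • iota F₀ b) =
      ((pol C.Q a a : F₀) : F) - θ ^ 2 * ((pol C.Q b b : F₀) : F) := by
  rw [f_add_right C.hf, f_smul_right C.hf, C.f_pair_left, C.f_pair_left, hθ, pol_comm b a]
  ring

include hθm in
/-- `1, θ` are independent over the subfield -/
lemma pair_ne_zero {p r : F₀} (h : p ≠ 0 ∨ r ≠ 0) : (p : F) + θ * (r : F) ≠ 0 := by
  intro h0
  by_cases hr : r = 0
  · rw [hr, Subfield.coe_zero, mul_zero, add_zero] at h0
    rcases h with h | h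
    · exact h (Subtype.ext h0)
    · exact h hr
  · apply hθm
    have hr' : (r : F) ≠ 0 := fun h' => hr (Subtype.ext h')
    have : θ = (-p / r : F₀) := by
      rw [Subfield.coe_div, Subfield.coe_neg]
      field_simp
      linear_combination h0
    rw [this]
    exact (-p / r : F₀).2

variable (M : Subgroup (GL (Fin n) F))
variable (hHM : Cfsg.Geo.subfieldSubgroup F₀ (1 : GL (Fin n) F) ⊓ SUf f ≤ M) (hMS : M ≤ SUf f)
variable (hsing : ∀ v : Fin n → F₀, C.Q v = 0 → iota F₀ v ∈ SSu C.hf M)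

include hθ hθm hMS hsing in
/-- points `ι a + θ ι b` with `a`, `b` singular -/
lemma sing_pair_mem (hn : 9 ≤ n) (a b : Fin n → F₀) (ha : C.Q a = 0) (hb : C.Q b = 0) :
    iota F₀ a + θ • iota F₀ b ∈ SSu C.hf M := by
  have hpaa : pol C.Q a a = 0 := by rw [pol_self C.nd, ha, mul_zero]
  have hpbb : pol C.Q b b = 0 := by rw [pol_self C.nd, hb, mul_zero]
  have hiso : ∀ a b : Fin n → F₀, C.Q a = 0 → C.Q b = 0 →
      f (iota F₀ a + θ • iota F₀ b) (iota F₀ a + θ • iota F₀ b) = 0 := by
    intro a b ha hb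
    rw [C.f_pair_self θ hθ, pol_self C.nd, pol_self C.nd, ha, hb]
    simp
  -- the non-perpendicular case
  have case1 : ∀ a b : Fin n → F₀, C.Q a = 0 → C.Q b = 0 → pol C.Q a b ≠ 0 →
      iota F₀ a + θ • iota F₀ b ∈ SSu C.hf M := by
    intro a b ha hb hab
    apply SSu_line C.hf M hMS _ _ (hsing b hb) (hsing a ha) _ θ (hiso a b ha hb)
    rw [C.f_iota]
    intro h
    exact hab (Subtype.ext h)
  by_cases hab : pol C.Q a b = 0
  · by_cases hmem : a ∈ Submodule.span F₀ {b}
    · obtain ⟨c, rfl⟩ := Submodule.mem_span_singleton.1 hmem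
      have e : iota F₀ (c • b) + θ • iota F₀ b = ((c : F) + θ) • iota F₀ b := by
        rw [iota_smul]; module
      rw [e]
      exact SSu_smul C.hf M _ _ (hsing b hb)
    · obtain ⟨y₀, hy1, hy2⟩ := exists_pol_eq_one C.nd _ a hmem
      have hy₀b : pol C.Q y₀ b = 0 := hy2 b (Submodule.mem_span_singleton_self b)
      obtain ⟨u, hqu, hu⟩ := C.exists_sing y₀ ![a, b] (by omega)
      have hua : pol C.Q u a = 1 := by
        have := hu 0
        simpa [hy1] using this
      have hub : pol C.Q u b = 0 := by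
        have := hu 1
        simpa [hy₀b] using this
      have hqbu : C.Q (b + u) = 0 := by
        rw [Q_add C.Q, hb, hqu, pol_comm b u, hub]; ring
      have habu : pol C.Q a (b + u) ≠ 0 := by
        rw [pol_add_right C.nd, hab, pol_comm a u, hua, zero_add]; exact one_ne_zero
      have h1 := case1 a (b + u) ha hqbu habu
      have h2 : f (iota F₀ a + θ • iota F₀ (b + u)) (iota F₀ u) ≠ 0 := by
        rw [C.f_pair_left]
        apply C.pair_ne_zero θ hθm
        left
        rw [pol_comm a u, hua]; exact one_ne_zero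
      have e : iota F₀ a + θ • iota F₀ (b + u) + (-θ) • iota F₀ u =
          iota F₀ a + θ • iota F₀ b := by
        rw [iota_add]; module
      have := SSu_line C.hf M hMS _ _ (hsing u hqu) h1 h2 (-θ) (by rw [e]; exact hiso a b ha hb)
      rw [e] at this
      exact this
  · exact case1 a b ha hb hab

end Ctx

end Cfsg.Agent.Lib.Helper4.SubfO
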