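import Mathlib
import Cfsg.Prelude.Def_GeometricClasses
import Cfsg.Agent.Lib.Helper4.SubfO6

set_option autoImplicit false
open Cfsg

/-!
The orthogonal subfield subgroup of the unitary group: every isotropic vector is a centre once
all rational singular vectors are (general pairs).
-/

namespace Cfsg.Agent.Lib.Helper4.SubfO

open Matrix Cfsg.Agent.S5631 Cfsg.Agent.S5643 Cfsg.Agent.Lib.Helper4.Orth
  Cfsg.Agent.Lib.Helper4.Subf
  Cfsg.Agent.Lib.Helper8.Unitary Cfsg.Agent.Lib.Helper8.SUGen Cfsg.Agent.Lib.Helper8.SUMax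

namespace Ctx

variable {n : ℕ} {F : Type*} [Field F] [Fintype F] {F₀ : Subfield F} {σ : F ≃+* F}
  {f : (Fin n → F) → (Fin n → F) → F} (C : Ctx F₀ σ f)
variable (θ : F) (hθ0 : θ ≠ 0) (hθ : σ θ = -θ) (hθm : θ ∉ F₀)
variable (M : Subgroup (GL (Fin n) F))
variable (hHM : Cfsg.Geo.subfieldSubgroup F₀ (1 : GL (Fin n) F) ⊓ SUf f ≤ M) (hMS : M ≤ SUf f)
variable (hsing : ∀ v : Fin n → F₀, C.Q v = 0 → iota F₀ v ∈ SSu C.hf M)

include C hθ0 hθ hθm hMS hsing in
/-- isotropic points `ι a + θ ι b` -/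
lemma pair_mem (hn : 9 ≤ n) (a b : Fin n → F₀)
    (hiso : f (iota F₀ a + θ • iota F₀ b) (iota F₀ a + θ • iota F₀ b) = 0) :
    iota F₀ a + θ • iota F₀ b ∈ SSu C.hf M := by
  have hδm : θ ^ 2 ∈ F₀ := (C.hσ _).2 (by rw [map_pow, hθ]; ring)
  set δ₀ : F₀ := ⟨θ ^ 2, hδm⟩ with hδ₀
  have h2K := C.two_ne
  have hK : pol C.Q a a = δ₀ * pol C.Q b b := by
    apply Subtype.ext
    rw [Subfield.coe_mul]
    have := hiso
    rw [C.f_pair_self θ hθ] at this
    show ((pol C.Q a a : F₀) : F) = θ ^ 2 * _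
    linear_combination this
  have hqa : C.Q a = δ₀ * C.Q b := by
    rw [pol_self C.nd, pol_self C.nd] at hK
    apply mul_left_cancel₀ h2K
    linear_combination hK
  by_cases hb : C.Q b = 0
  · have ha : C.Q a = 0 := by rw [hqa, hb, mul_zero]
    exact C.sing_pair_mem θ hθ hθm M hMS hsing hn a b ha hb
  · have hb0 : b ≠ 0 := fun h => hb (by rw [h]; exact Q_zero C.nd)
    have hδ0 : δ₀ ≠ 0 := by
      intro h
      have h' : ((δ₀ : F₀) : F) = 0 := by rw [h]; rfl
      exact hθ0 ((pow_eq_zero_iff (two_ne_zero)).1 h')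
    have ha0 : a ≠ 0 := by
      intro h
      rw [h, Q_zero C.nd] at hqa
      exact hb ((mul_eq_zero.1 hqa.symm).resolve_left hδ0)
    obtain ⟨y₁, hy₁, -⟩ := exists_pol_eq_one C.nd ⊥ a (by rwa [Submodule.mem_bot])
    obtain ⟨y₂, hy₂, -⟩ := exists_pol_eq_one C.nd ⊥ b (by rwa [Submodule.mem_bot])
    obtain ⟨y, hya, hyb⟩ : ∃ y, pol C.Q y a ≠ 0 ∧ pol C.Q y b ≠ 0 := by
      by_cases h1 : pol C.Q y₁ b = 0
      · by_cases h2 : pol C.Q y₂ a = 0
        · refine ⟨y₁ + y₂, ?_, ?_⟩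
          · rw [pol_add_left C.nd, hy₁, h2, add_zero]; exact one_ne_zero
          · rw [pol_add_left C.nd, h1, hy₂, zero_add]; exact one_ne_zero
        · exact ⟨y₂, h2, by rw [hy₂]; exact one_ne_zero⟩
      · exact ⟨y₁, by rw [hy₁]; exact one_ne_zero, h1⟩
    obtain ⟨u, hqu, hu⟩ := C.exists_sing y ![a, b] (by omega)
    have hua : pol C.Q u a ≠ 0 := by
      have := hu 0
      simp only [Matrix.cons_val_zero] at this
      rw [this]; exact hya
    have hub : pol C.Q u b ≠ 0 := by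
      have := hu 1
      simp only [Matrix.cons_val_one, Matrix.cons_val_zero] at this
      rw [this]; exact hyb
    have hqb' : C.Q (b + (-(C.Q b) / pol C.Q u b) • u) = 0 := by
      rw [Q_add_smul C.nd, hqu, pol_comm b u]
      field_simp
      ring
    have hqa' : C.Q (a + (δ₀ * (-(C.Q b) / pol C.Q u b) * pol C.Q u b / pol C.Q u a) • u) = 0 := by
      rw [Q_add_smul C.nd, hqu, pol_comm a u, hqa]
      field_simp
      ring
    set l₂ : F₀ := -(C.Q b) / pol C.Q u b with hl₂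
    set l₁ : F₀ := δ₀ * l₂ * pol C.Q u b / pol C.Q u a with hl₁
    have h1 := C.sing_pair_mem θ hθ hθm M hMS hsing hn _ _ hqa' hqb'
    have h2 : f (iota F₀ (a + l₁ • u) + θ • iota F₀ (b + l₂ • u)) (iota F₀ u) ≠ 0 := by
      rw [C.f_pair_left]
      apply C.pair_ne_zero θ hθm
      left
      rw [pol_add_left C.nd, pol_smul_left C.nd, pol_self C.nd, hqu, pol_comm a u]
      simpa using hua
    have e : iota F₀ (a + l₁ • u) + θ • iota F₀ (b + l₂ • u) +
        (-((l₁ : F) + θ * (l₂ : F))) • iota F₀ u = iota F₀ a + θ • iota F₀ b := by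
      rw [iota_add, iota_add, iota_smul, iota_smul]; module
    have := SSu_line C.hf M hMS _ _ (hsing u hqu) h1 h2 _ (by rw [e]; exact hiso)
    rw [e] at this
    exact this

include C hθ0 hθ hθm hMS hsing in
/-- every isotropic vector is a centre -/
theorem SSu_all (hn : 9 ≤ n) (x : Fin n → F) (hx : f x x = 0) : x ∈ SSu C.hf M := by
  obtain ⟨a, b, rfl⟩ := exists_decomp_iota F₀ C.hcard θ hθm x
  exact C.pair_mem θ hθ0 hθ hθm M hMS hsing hn a b hx

end Ctx

end Cfsg.Agent.Lib.Helper4.SubfO
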