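import Mathlib
import Cfsg.Prelude.Def_GeometricClasses
import Cfsg.Agent.Lib.Helper4.SubfO5
import Cfsg.Agent.Lib.Helper4.SubfF

set_option autoImplicit false
open Cfsg

/-!
The orthogonal subfield subgroup of the unitary group: an element outside the subfield group
maps some rational singular vector to a non-rational point.
-/

namespace Cfsg.Agent.Lib.Helper4.SubfO

open Matrix Cfsg.Agent.S5631 Cfsg.Agent.S5643 Cfsg.Agent.Lib.Helper4.Orth
  Cfsg.Agent.Lib.Helper4.Subf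
  Cfsg.Agent.Lib.Helper8.Unitary Cfsg.Agent.Lib.Helper8.SUGen Cfsg.Agent.Lib.Helper8.SUMax

section Phase

variable {n : ℕ} {F : Type*} [Field F] (F₀ : Subfield F)

/-- two independent vectors which, together with their sum, are multiples of rational vectors
have the same phase -/
lemma same_phase (σ : F →+* F) (hσ : ∀ x, x ∈ F₀ ↔ σ x = x)
    {y₁ y₂ r₁ r₂ r₃ : Fin n → F} {c₁ c₂ d : F}
    (hr₁ : IsRat F₀ r₁) (hr₂ : IsRat F₀ r₂) (hr₃ : IsRat F₀ r₃) (h1 : y₁ = c₁ • r₁)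
    (h2 : y₂ = c₂ • r₂) (h3 : y₁ + y₂ = d • r₃)
    (hind : ∀ α β : F, α • y₁ + β • y₂ = 0 → α = 0 ∧ β = 0) :
    ∃ r₂', IsRat F₀ r₂' ∧ y₂ = c₁ • r₂' := by
  have hσv : ∀ r : Fin n → F, IsRat F₀ r → (fun i => σ (r i)) = r := fun r hr =>
    funext fun i => (hσ _).1 (hr i)
  have hc₁ : c₁ ≠ 0 := by
    intro h0
    have := hind 1 0 (by rw [h1, h0]; simp)
    exact one_ne_zero this.1
  have hc₂ : c₂ ≠ 0 := by
    intro h0
    have := hind 0 1 (by rw [h2, h0]; simp)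
    exact one_ne_zero this.2
  have hd0 : d ≠ 0 := by
    intro h0
    have := hind 1 1 (by rw [one_smul, one_smul, h3, h0, zero_smul])
    exact one_ne_zero this.1
  have hind' : ∀ α β : F, α • r₁ + β • r₂ = 0 → α = 0 ∧ β = 0 := by
    intro α β h
    have := hind (α / c₁) (β / c₂) (by
      rw [h1, h2, smul_smul, smul_smul, div_mul_cancel₀ _ hc₁, div_mul_cancel₀ _ hc₂, h])
    constructor
    · rcases div_eq_zero_iff.1 this.1 with h' | h'
      · exact h'
      · exact absurd h' hc₁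
    · rcases div_eq_zero_iff.1 this.2 with h' | h'
      · exact h'
      · exact absurd h' hc₂
  have hd : c₁ • r₁ + c₂ • r₂ = d • r₃ := by rw [← h1, ← h2, h3]
  have hd' : σ c₁ • r₁ + σ c₂ • r₂ = σ d • r₃ := by
    have := congrArg (fun v : Fin n → F => fun i => σ (v i)) hd
    simp only [Pi.add_apply, Pi.smul_apply, smul_eq_mul, map_add, map_mul] at this
    funext i
    have := congrFun this i
    rw [congrFun (hσv _ hr₁) i, congrFun (hσv _ hr₂) i, congrFun (hσv _ hr₃) i] at this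
    simpa using this
  have hcomb : (σ d * c₁ - d * σ c₁) • r₁ + (σ d * c₂ - d * σ c₂) • r₂ = 0 := by
    have : σ d • (c₁ • r₁ + c₂ • r₂) - d • (σ c₁ • r₁ + σ c₂ • r₂) = 0 := by
      rw [hd, hd', smul_smul, smul_smul, mul_comm, sub_self]
    rw [← this]
    module
  obtain ⟨e1, e2⟩ := hind' _ _ hcomb
  have hσc₁ : σ c₁ ≠ 0 := by rw [Ne, map_eq_zero]; exact hc₁
  have hσd : σ d ≠ 0 := by rw [Ne, map_eq_zero]; exact hd0
  have hfix : σ (c₂ / c₁) = c₂ / c₁ := by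
    rw [map_div₀, div_eq_div_iff hσc₁ hc₁]
    apply mul_left_cancel₀ hσd
    apply mul_left_cancel₀ hd0
    linear_combination (σ d * c₂) * e1 - (σ d * c₁) * e2
  refine ⟨(c₂ / c₁) • r₂, hr₂.smul ((hσ _).2 hfix), ?_⟩
  rw [h2, smul_smul, mul_div_cancel₀ _ hc₁]

end Phase

namespace Ctx

variable {n : ℕ} {F : Type*} [Field F] [Fintype F] {F₀ : Subfield F} {σ : F ≃+* F}
  {f : (Fin n → F) → (Fin n → F) → F} (C : Ctx F₀ σ f)

include C

/-- rational vectors independent over the subfield are independent over the field -/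
lemma ind_of_rat (t s : Fin n → F₀) (ht : t ∉ Submodule.span F₀ {s}) (hs : s ≠ 0) (α β : F)
    (h : α • iota F₀ t + β • iota F₀ s = 0) : α = 0 ∧ β = 0 := by
  obtain ⟨θ, -, -, hθ⟩ := C.exists_theta
  obtain ⟨α₁, hα₁, α₂, hα₂, rfl⟩ := exists_decomp F₀ C.hcard θ hθ α
  obtain ⟨β₁, hβ₁, β₂, hβ₂, rfl⟩ := exists_decomp F₀ C.hcard θ hθ β
  have hK : ∀ p r : F₀, p • t + r • s = 0 → p = 0 ∧ r = 0 := by
    intro p r hpr
    by_cases hp : p = 0
    · refine ⟨hp, ?_⟩
      rw [hp, zero_smul, zero_add] at hpr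
      rcases smul_eq_zero.1 hpr with h' | h'
      · exact h'
      · exact absurd h' hs
    · exfalso
      apply ht
      rw [Submodule.mem_span_singleton]
      refine ⟨-(r / p), ?_⟩
      have h1 : p • t = -(r • s) := eq_neg_of_add_eq_zero_left hpr
      have h2 := congrArg (fun v => p⁻¹ • v) h1
      simp only [smul_smul, inv_mul_cancel₀ hp, one_smul] at h2
      rw [h2]
      module
  have e : (α₁ + θ * α₂) • iota F₀ t + (β₁ + θ * β₂) • iota F₀ s =
      iota F₀ ((⟨α₁, hα₁⟩ : F₀) • t + (⟨β₁, hβ₁⟩ : F₀) • s) +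
        θ • iota F₀ ((⟨α₂, hα₂⟩ : F₀) • t + (⟨β₂, hβ₂⟩ : F₀) • s) := by
    rw [iota_add, iota_add, iota_smul, iota_smul, iota_smul, iota_smul]
    module
  rw [e] at h
  have h0 : iota F₀ ((⟨α₁, hα₁⟩ : F₀) • t + (⟨β₁, hβ₁⟩ : F₀) • s) +
        θ • iota F₀ ((⟨α₂, hα₂⟩ : F₀) • t + (⟨β₂, hβ₂⟩ : F₀) • s) =
      iota F₀ (0 : Fin n → F₀) + θ • iota F₀ (0 : Fin n → F₀) := by
    rw [h, iota_zero]; simp
  obtain ⟨e1, e2⟩ := decomp_unique F₀ θ hθ (isRat_iota F₀ _) (isRat_iota F₀ _) (isRat_iota F₀ _)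
    (isRat_iota F₀ _) h0
  obtain ⟨k1, k2⟩ := hK _ _ (iota_injective F₀ e1)
  obtain ⟨k3, k4⟩ := hK _ _ (iota_injective F₀ e2)
  have a1 : α₁ = 0 := congrArg Subtype.val k1
  have b1 : β₁ = 0 := congrArg Subtype.val k2
  have a2 : α₂ = 0 := congrArg Subtype.val k3
  have b2 : β₂ = 0 := congrArg Subtype.val k4
  rw [a1, a2, b1, b2]
  simp

/-- an element outside the subfield group maps a rational singular vector to a non-rational
point -/
lemma exists_sing_nonrat (hn : 7 ≤ n) (g : GL (Fin n) F)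
    (hg : g ∉ Cfsg.Geo.subfieldSubgroup F₀ (1 : GL (Fin n) F)) :
    ∃ u : Fin n → F₀, C.Q u = 0 ∧ ∀ (c : F) (r : Fin n → F), IsRat F₀ r →
      (g : Matrix (Fin n) (Fin n) F) *ᵥ iota F₀ u ≠ c • r := by
  by_contra hcon
  push Not at hcon
  apply hg
  have hginj : ∀ x, (g : Matrix (Fin n) (Fin n) F) *ᵥ x = 0 → x = 0 := by
    intro x hx
    have := Orth.inv_mulVec_mulVec g x
    rw [hx, Matrix.mulVec_zero] at this
    exact this.symm
  -- a nonzero singular vector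
  obtain ⟨s₀, e₀', -, -, hqs₀, -, hs₀e⟩ := C.exists_hyp (k := 0) (fun i => i.elim0) (by omega)
  have hs₀0 : s₀ ≠ 0 := by
    rintro rfl
    rw [pol_zero_left C.nd] at hs₀e
    exact zero_ne_one hs₀e
  obtain ⟨c₀, r₀, hr₀, hc₀⟩ := hcon s₀ hqs₀
  have hc₀0 : c₀ ≠ 0 := by
    intro h0
    rw [h0, zero_smul] at hc₀
    exact hs₀0 ((iota_eq_zero F₀).1 (hginj _ hc₀))
  -- the orthogonal step
  have step : ∀ t s : Fin n → F₀, C.Q t = 0 → C.Q s = 0 → pol C.Q t s = 0 →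
      t ∉ Submodule.span F₀ {s} → s ≠ 0 →
      (∃ r, IsRat F₀ r ∧ (g : Matrix (Fin n) (Fin n) F) *ᵥ iota F₀ t = c₀ • r) →
      ∃ r, IsRat F₀ r ∧ (g : Matrix (Fin n) (Fin n) F) *ᵥ iota F₀ s = c₀ • r := by
    intro t s hqt hqs hts htn hs0 ⟨r₁, hr₁, h1⟩
    obtain ⟨c₂, r₂, hr₂, h2⟩ := hcon s hqs
    have hqts : C.Q (t + s) = 0 := by rw [Q_add C.Q, hqt, hqs, hts]; ring
    obtain ⟨d, r₃, hr₃, h3⟩ := hcon (t + s) hqts
    rw [iota_add, Matrix.mulVec_add] at h3
    apply same_phase F₀ (σ : F →+* F) (fun x => C.hσ x) hr₁ hr₂ hr₃ h1 h2 h3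
    intro α β hαβ
    rw [← Matrix.mulVec_smul, ← Matrix.mulVec_smul, ← Matrix.mulVec_add] at hαβ
    exact C.ind_of_rat t s htn hs0 α β (hginj _ hαβ)
  -- all singular vectors have the phase `c₀`
  have claim : ∀ s : Fin n → F₀, C.Q s = 0 →
      ∃ r, IsRat F₀ r ∧ (g : Matrix (Fin n) (Fin n) F) *ᵥ iota F₀ s = c₀ • r := by
    intro s hqs
    by_cases hs0 : s = 0
    · refine ⟨0, IsRat.zero, ?_⟩
      rw [hs0, iota_zero, Matrix.mulVec_zero, smul_zero]
    obtain ⟨e, e', he, he', hqe, -, hee'⟩ := C.exists_hyp ![s₀, s] (by omega)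
    have hes₀ : pol C.Q e s₀ = 0 := by simpa using he 0
    have hes : pol C.Q e s = 0 := by simpa using he 1
    have he's₀ : pol C.Q e' s₀ = 0 := by simpa using he' 0
    have he's : pol C.Q e' s = 0 := by simpa using he' 1
    have he0 : e ≠ 0 := by
      rintro rfl
      rw [pol_zero_left C.nd] at hee'
      exact zero_ne_one hee'
    have key : ∀ t : Fin n → F₀, t ≠ 0 → pol C.Q e' t = 0 →
        t ∉ Submodule.span F₀ {e} ∧ e ∉ Submodule.span F₀ {t} := by
      intro t ht0 ht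
      constructor
      · intro hmem
        obtain ⟨c, rfl⟩ := Submodule.mem_span_singleton.1 hmem
        rw [pol_smul_right C.nd, pol_comm e' e, hee', mul_one] at ht
        apply ht0
        rw [ht, zero_smul]
      · intro hmem
        obtain ⟨c, hc⟩ := Submodule.mem_span_singleton.1 hmem
        have : pol C.Q e e' = 0 := by
          rw [← hc, pol_smul_left C.nd, pol_comm t e', ht, mul_zero]
        rw [hee'] at this
        exact one_ne_zero this
    obtain ⟨k1, -⟩ := key s₀ hs₀0 he's₀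
    obtain ⟨-, k4⟩ := key s hs0 he's
    have h1 := step s₀ e hqs₀ hqe (by rw [pol_comm]; exact hes₀) k1 he0 ⟨r₀, hr₀, hc₀⟩
    exact step e s hqe hqs hes k4 hs0 h1
  -- every rational vector is a sum of two singular vectors
  apply mem_subfield_of_smul F₀ 1 g c₀ hc₀0
  intro a ha
  obtain ⟨a', rfl⟩ := exists_iota F₀ ha
  rw [Units.val_one, Matrix.one_mulVec]
  by_cases ha0 : a' = 0
  · refine ⟨0, IsRat.zero, ?_⟩
    rw [ha0, iota_zero, Matrix.mulVec_zero, Matrix.mulVec_zero, smul_zero]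
  obtain ⟨y₁, hy₁, -⟩ := exists_pol_eq_one C.nd ⊥ a' (by rwa [Submodule.mem_bot])
  obtain ⟨u, hqu, hu⟩ := C.exists_sing (C.Q a' • y₁) ![a'] (by omega)
  have hua : pol C.Q u a' = C.Q a' := by
    have := hu 0
    simp only [Matrix.cons_val_zero] at this
    rw [this, pol_smul_left C.nd, hy₁, mul_one]
  have hqau : C.Q (a' - u) = 0 := by
    have e : a' - u = a' + (-1 : F₀) • u := by rw [neg_one_smul, sub_eq_add_neg]
    rw [e, Q_add_smul C.nd, hqu, pol_comm a' u, hua]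
    ring
  obtain ⟨r₁, hr₁, h1⟩ := claim u hqu
  obtain ⟨r₂, hr₂, h2⟩ := claim (a' - u) hqau
  refine ⟨r₁ + r₂, hr₁.add hr₂, ?_⟩
  have e : iota F₀ a' = iota F₀ u + iota F₀ (a' - u) := by
    rw [iota_sub]; abel
  rw [e, Matrix.mulVec_add, h1, h2, Matrix.one_mulVec, smul_add]

end Ctx

end Cfsg.Agent.Lib.Helper4.SubfO
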