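import Mathlib
import Cfsg.Prelude.Def_GeometricClasses
import Cfsg.Agent.Lib.Helper4.SubfO8
import Cfsg.Agent.Lib.Helper4.SubfO7

set_option autoImplicit false
open Cfsg

/-!
The orthogonal subfield subgroup of the unitary group: producing a unitary transvection with
rational singular centre in a proper overgroup.
-/

namespace Cfsg.Agent.Lib.Helper4.SubfO

open Matrix Cfsg.Agent.S5631 Cfsg.Agent.S5643 Cfsg.Agent.Lib.Helper4.Orth
  Cfsg.Agent.Lib.Helper4.Subf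
  Cfsg.Agent.Lib.Helper8.Unitary Cfsg.Agent.Lib.Helper8.SUGen Cfsg.Agent.Lib.Helper8.SUMax

section Alg

variable {n : ℕ} {F : Type*} [Field F] {σ : F ≃+* F} {f : (Fin n → F) → (Fin n → F) → F}
variable (hf : Cfsg.Geo.IsUnitaryForm σ f) (M : Subgroup (GL (Fin n) F))

/-- the commutator of an isometry `X` fixing `u'` and moving `w'` to `w' + Y` with the Siegel
transformation of `(u', w')` is the Siegel transformation of `(u', Y)` -/
lemma comm_sieg_mem (X : GL (Fin n) F) (hX : X ∈ M) (hXS : X ∈ SUf f) (u' w' : Fin n → F)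
    (hu' : f u' u' = 0) (hw'u' : f w' u' = 0) (β₂ : F)
    (hS₂ : Helper8.SUMax.sieg hf u' w' hu' hw'u' β₂ ∈ M) (Y : Fin n → F)
    (hXu : (X : Matrix (Fin n) (Fin n) F) *ᵥ u' = u')
    (hXw : (X : Matrix (Fin n) (Fin n) F) *ᵥ w' = w' + Y) (hYw' : f Y w' = 0)
    (hYu' : f Y u' = 0) : Helper8.SUMax.sieg hf u' Y hu' hYu' 0 ∈ M := by
  have hmem : X * Helper8.SUMax.sieg hf u' w' hu' hw'u' β₂ * X⁻¹ *
      (Helper8.SUMax.sieg hf u' w' hu' hw'u' β₂)⁻¹ ∈ M :=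
    M.mul_mem (M.mul_mem (M.mul_mem hX hS₂) (M.inv_mem hX)) (M.inv_mem hS₂)
  have hiso := SUf_iso X hXS
  have hu'' : f ((X : Matrix (Fin n) (Fin n) F) *ᵥ u') ((X : Matrix (Fin n) (Fin n) F) *ᵥ u') = 0 := by
    rw [hiso, hu']
  have hw'' : f ((X : Matrix (Fin n) (Fin n) F) *ᵥ w') ((X : Matrix (Fin n) (Fin n) F) *ᵥ u') = 0 := by
    rw [hiso, hw'u']
  have h1 : f (w' + Y) u' = 0 := by rw [hf.add_left, hw'u', hYu', add_zero]
  have h2 : f (-w') u' = 0 := by rw [f_neg_left hf, hw'u', neg_zero]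
  have h3 : f (w' + Y + -w') u' = 0 := by rw [hf.add_left, h1, h2, add_zero]
  rw [sieg_conj hf X hXS u' w' hu' hw'u' β₂ hu'' hw'',
    sieg_congr hf hu'' hw'' hu' h1 hXu hXw rfl, sieg_inv hf u' w' hu' hw'u' β₂ h2,
    sieg_mul hf u' _ _ hu' h1 h2 _ _ h3] at hmem
  rw [sieg_congr hf hu' hYu' hu' h3 rfl (show Y = w' + Y + -w' by abel)
    (show (0 : F) = β₂ + (f w' w' - β₂) + f (w' + Y) (-w') by
      rw [f_neg_right hf, hf.add_left, hYw']; ring)]
  exact hmem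

/-- two Siegel transformations with the same centre give a unitary transvection -/
lemma ut_of_sieg (u' Y w'' : Fin n → F) (hu' : f u' u' = 0) (hYu' : f Y u' = 0)
    (hw''u' : f w'' u' = 0) (β β₃ : F)
    (h1 : Helper8.SUMax.sieg hf u' Y hu' hYu' β ∈ M)
    (h3 : Helper8.SUMax.sieg hf u' w'' hu' hw''u' β₃ ∈ M) :
    ut hf u' hu' (σ (f Y w'' - f w'' Y)) ∈ M := by
  have hmem : Helper8.SUMax.sieg hf u' Y hu' hYu' β * Helper8.SUMax.sieg hf u' w'' hu' hw''u' β₃ *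
      (Helper8.SUMax.sieg hf u' Y hu' hYu' β)⁻¹ *
      (Helper8.SUMax.sieg hf u' w'' hu' hw''u' β₃)⁻¹ ∈ M :=
    M.mul_mem (M.mul_mem (M.mul_mem h1 h3) (M.inv_mem h1)) (M.inv_mem h3)
  rw [sieg_comm hf u' Y w'' hu' hYu' hw''u' β β₃ (f_zero_left hf u'), sieg_zero_eq_ut] at hmem
  exact hmem

end Alg

namespace Ctx

variable {n : ℕ} {F : Type*} [Field F] [Fintype F] {F₀ : Subfield F} {σ : F ≃+* F}
  {f : (Fin n → F) → (Fin n → F) → F} (C : Ctx F₀ σ f)
variable (θ : F) (hθ0 : θ ≠ 0) (hθ : σ θ = -θ) (hθm : θ ∉ F₀)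
variable (M : Subgroup (GL (Fin n) F))
variable (hHM : Cfsg.Geo.subfieldSubgroup F₀ (1 : GL (Fin n) F) ⊓ SUf f ≤ M) (hMS : M ≤ SUf f)

include C hθ hθm hHM hMS in
/-- an element of `M` moving a rational singular vector to a non-rational point produces a
rational singular centre -/
lemma exists_centre (hn : 13 ≤ n) (g : GL (Fin n) F) (hgM : g ∈ M) (u : Fin n → F₀)
    (hqu : C.Q u = 0)
    (hnr : ∀ (c : F) (r : Fin n → F), IsRat F₀ r →
      (g : Matrix (Fin n) (Fin n) F) *ᵥ iota F₀ u ≠ c • r) :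
    ∃ u' : Fin n → F₀, u' ≠ 0 ∧ C.Q u' = 0 ∧ iota F₀ u' ∈ SSu C.hf M := by
  have hf := C.hf
  have hgS := hMS hgM
  have hiso := SUf_iso g hgS
  have hinv : ∀ v z, f (((g⁻¹ : GL (Fin n) F) : Matrix (Fin n) (Fin n) F) *ᵥ v) z =
      f v ((g : Matrix (Fin n) (Fin n) F) *ᵥ z) := by
    intro v z
    have := hiso (((g⁻¹ : GL (Fin n) F) : Matrix (Fin n) (Fin n) F) *ᵥ v) z
    rw [Orth.mulVec_inv_mulVec] at this
    exact this.symm
  -- the image `x` of `u`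
  obtain ⟨a, b, hab⟩ := exists_decomp_iota F₀ C.hcard θ hθm
    ((g : Matrix (Fin n) (Fin n) F) *ᵥ iota F₀ u)
  have hb0 : b ≠ 0 := by
    rintro rfl
    apply hnr 1 (iota F₀ a) (isRat_iota F₀ a)
    rw [hab, iota_zero, smul_zero, add_zero, one_smul]
  have hab_ind : a ∉ Submodule.span F₀ {b} := by
    intro hmem
    obtain ⟨κ, rfl⟩ := Submodule.mem_span_singleton.1 hmem
    apply hnr ((κ : F) + θ) (iota F₀ b) (isRat_iota F₀ b)
    rw [hab, iota_smul]; module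
  have hba_ind : b ∉ Submodule.span F₀ {a} := by
    intro hmem
    obtain ⟨κ, hκ⟩ := Submodule.mem_span_singleton.1 hmem
    have hκ0 : κ ≠ 0 := by
      rintro rfl
      rw [zero_smul] at hκ
      exact hb0 hκ.symm
    apply hab_ind
    rw [Submodule.mem_span_singleton]
    refine ⟨κ⁻¹, ?_⟩
    rw [← hκ, smul_smul, inv_mul_cancel₀ hκ0, one_smul]
  -- `w'`
  obtain ⟨w', e₁', hw', -, hqw', -, hw'e⟩ := C.exists_hyp ![a, b] (by omega)
  have hw'a : pol C.Q w' a = 0 := by simpa using hw' 0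
  have hw'b : pol C.Q w' b = 0 := by simpa using hw' 1
  have hw'0 : w' ≠ 0 := by
    rintro rfl
    rw [pol_zero_left C.nd] at hw'e
    exact zero_ne_one hw'e
  have hxw' : f ((g : Matrix (Fin n) (Fin n) F) *ᵥ iota F₀ u) (iota F₀ w') = 0 := by
    rw [hab, C.f_pair_left, pol_comm a w', pol_comm b w', hw'a, hw'b]
    simp
  -- `p = g⁻¹ w'`
  obtain ⟨p₁, p₂, hp⟩ := exists_decomp_iota F₀ C.hcard θ hθm
    (((g⁻¹ : GL (Fin n) F) : Matrix (Fin n) (Fin n) F) *ᵥ iota F₀ w')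
  have hp' : ¬ (p₁ ∈ Submodule.span F₀ {u} ∧ p₂ ∈ Submodule.span F₀ {u}) := by
    rintro ⟨h1, h2⟩
    obtain ⟨κ₁, rfl⟩ := Submodule.mem_span_singleton.1 h1
    obtain ⟨κ₂, rfl⟩ := Submodule.mem_span_singleton.1 h2
    have e : iota F₀ w' = ((κ₁ : F) + θ * (κ₂ : F)) •
        ((g : Matrix (Fin n) (Fin n) F) *ᵥ iota F₀ u) := by
      have := congrArg (fun v => (g : Matrix (Fin n) (Fin n) F) *ᵥ v) hp
      simp only [Orth.mulVec_inv_mulVec] at this
      rw [this, iota_smul, iota_smul, ← Matrix.mulVec_smul]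
      congr 1
      module
    by_cases hk : (κ₁ : F) + θ * (κ₂ : F) = 0
    · rw [hk, zero_smul] at e
      exact hw'0 ((iota_eq_zero F₀).1 e)
    · apply hnr ((κ₁ : F) + θ * (κ₂ : F))⁻¹ (iota F₀ w') (isRat_iota F₀ w')
      rw [e, smul_smul, inv_mul_cancel₀ hk, one_smul]
  obtain ⟨w, hwu, hc⟩ : ∃ w, pol C.Q w u = 0 ∧ (pol C.Q p₁ w ≠ 0 ∨ pol C.Q p₂ w ≠ 0) := by
    by_cases h1 : p₁ ∈ Submodule.span F₀ {u}
    · have h2 : p₂ ∉ Submodule.span F₀ {u} := fun h => hp' ⟨h1, h⟩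
      obtain ⟨w, hw1, hw2⟩ := exists_pol_eq_one C.nd _ p₂ h2
      exact ⟨w, hw2 u (Submodule.mem_span_singleton_self u),
        Or.inr (by rw [pol_comm, hw1]; exact one_ne_zero)⟩
    · obtain ⟨w, hw1, hw2⟩ := exists_pol_eq_one C.nd _ p₁ h1
      exact ⟨w, hw2 u (Submodule.mem_span_singleton_self u),
        Or.inl (by rw [pol_comm, hw1]; exact one_ne_zero)⟩
  -- the scalar `c`
  have hcval : f (iota F₀ w') ((g : Matrix (Fin n) (Fin n) F) *ᵥ iota F₀ w) =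
      ((pol C.Q p₁ w : F₀) : F) + θ * ((pol C.Q p₂ w : F₀) : F) := by
    rw [← hinv, hp, C.f_pair_left]
  have hc0 : f (iota F₀ w') ((g : Matrix (Fin n) (Fin n) F) *ᵥ iota F₀ w) ≠ 0 := by
    rw [hcval]
    exact C.pair_ne_zero θ hθm hc
  -- the image `y` of `w`
  obtain ⟨c₁, d₁, hy⟩ := exists_decomp_iota F₀ C.hcard θ hθm
    ((g : Matrix (Fin n) (Fin n) F) *ᵥ iota F₀ w)
  -- `u'`
  obtain ⟨u', e', hu', he', hqu', -, hu'e'⟩ := C.exists_hyp ![a, b, c₁, d₁, w'] (by omega)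
  have hu'a : pol C.Q u' a = 0 := by simpa using hu' 0
  have hu'b : pol C.Q u' b = 0 := by simpa using hu' 1
  have hu'c : pol C.Q u' c₁ = 0 := by simpa using hu' 2
  have hu'd : pol C.Q u' d₁ = 0 := by simpa using hu' 3
  have hu'w' : pol C.Q u' w' = 0 := by simpa using hu' 4
  have he'a : pol C.Q e' a = 0 := by simpa using he' 0
  have he'b : pol C.Q e' b = 0 := by simpa using he' 1
  have hu'0 : u' ≠ 0 := by
    rintro rfl
    rw [pol_zero_left C.nd] at hu'e'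
    exact zero_ne_one hu'e'
  have hu'iso : f (iota F₀ u') (iota F₀ u') = 0 := (C.Q_eq_zero_iff u').1 hqu'
  have hxu' : f ((g : Matrix (Fin n) (Fin n) F) *ᵥ iota F₀ u) (iota F₀ u') = 0 := by
    rw [hab, C.f_pair_left, pol_comm a u', pol_comm b u', hu'a, hu'b]
    simp
  have hyu' : f ((g : Matrix (Fin n) (Fin n) F) *ᵥ iota F₀ w) (iota F₀ u') = 0 := by
    rw [hy, C.f_pair_left, pol_comm c₁ u', pol_comm d₁ u', hu'c, hu'd]
    simp
  have hw'u' : pol C.Q w' u' = 0 := by rw [pol_comm]; exact hu'w'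
  -- the element `X`
  have hS₁ := hHM (C.rsieg_mem u w hqu hwu)
  set X : GL (Fin n) F := g * C.rsieg u w hqu hwu * g⁻¹ with hX
  have hXM : X ∈ M := M.mul_mem (M.mul_mem hgM hS₁) (M.inv_mem hgM)
  have hXv : ∀ v, (X : Matrix (Fin n) (Fin n) F) *ᵥ v = v +
      f v ((g : Matrix (Fin n) (Fin n) F) *ᵥ iota F₀ u) • ((g : Matrix (Fin n) (Fin n) F) *ᵥ iota F₀ w) +
      (-((2 : F)⁻¹ * f (iota F₀ w) (iota F₀ w)) * f v ((g : Matrix (Fin n) (Fin n) F) *ᵥ iota F₀ u) -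
        f v ((g : Matrix (Fin n) (Fin n) F) *ᵥ iota F₀ w)) •
        ((g : Matrix (Fin n) (Fin n) F) *ᵥ iota F₀ u) := by
    intro v
    rw [hX, Orth.mul_mulVec, Orth.mul_mulVec, C.rsieg_mulVec, Matrix.mulVec_add, Matrix.mulVec_add,
      Matrix.mulVec_smul, Matrix.mulVec_smul, Orth.mulVec_inv_mulVec, hinv, hinv]
  have hXu' : (X : Matrix (Fin n) (Fin n) F) *ᵥ iota F₀ u' = iota F₀ u' := by
    rw [hXv, f_swap_eq_zero hf _ _ hxu', f_swap_eq_zero hf _ _ hyu']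
    simp
  have hXw' : (X : Matrix (Fin n) (Fin n) F) *ᵥ iota F₀ w' = iota F₀ w' +
      (-(f (iota F₀ w') ((g : Matrix (Fin n) (Fin n) F) *ᵥ iota F₀ w))) •
        ((g : Matrix (Fin n) (Fin n) F) *ᵥ iota F₀ u) := by
    rw [hXv, f_swap_eq_zero hf _ _ hxw']
    module
  set c := f (iota F₀ w') ((g : Matrix (Fin n) (Fin n) F) *ᵥ iota F₀ w) with hcdef
  have hYw' : f ((-c) • ((g : Matrix (Fin n) (Fin n) F) *ᵥ iota F₀ u)) (iota F₀ w') = 0 := by
    rw [hf.smul_left, hxw', mul_zero]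
  have hYu' : f ((-c) • ((g : Matrix (Fin n) (Fin n) F) *ᵥ iota F₀ u)) (iota F₀ u') = 0 := by
    rw [hf.smul_left, hxu', mul_zero]
  have hS₂ := hHM (C.rsieg_mem u' w' hqu' hw'u')
  rw [rsieg] at hS₂
  have hC₁ := comm_sieg_mem hf M X hXM (hMS hXM) (iota F₀ u') (iota F₀ w') hu'iso
    (C.f_iota_eq_zero hw'u') _ hS₂ _ hXu' hXw' hYw' hYu'
  -- `a`, `b`, `u'` are independent
  have hu'ab : ∀ κ μ : F₀, κ • a + μ • b ≠ u' := by
    intro κ μ h
    have : pol C.Q u' e' = 0 := by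
      rw [← h, pol_add_left C.nd, pol_smul_left C.nd, pol_smul_left C.nd, pol_comm a e',
        pol_comm b e', he'a, he'b]
      ring
    rw [hu'e'] at this
    exact one_ne_zero this
  have ha_ind : a ∉ Submodule.span F₀ {b, u'} := by
    intro hmem
    obtain ⟨κ, μ, h⟩ := Submodule.mem_span_pair.1 hmem
    by_cases hμ : μ = 0
    · rw [hμ, zero_smul, add_zero] at h
      exact hab_ind (Submodule.mem_span_singleton.2 ⟨κ, h⟩)
    · apply hu'ab μ⁻¹ (-(μ⁻¹ * κ))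
      have : μ • u' = a - κ • b := by rw [← h]; abel
      have := congrArg (fun v => μ⁻¹ • v) this
      simp only [smul_smul, inv_mul_cancel₀ hμ, one_smul] at this
      rw [this]
      module
  have hb_ind : b ∉ Submodule.span F₀ {a, u'} := by
    intro hmem
    obtain ⟨κ, μ, h⟩ := Submodule.mem_span_pair.1 hmem
    by_cases hμ : μ = 0
    · rw [hμ, zero_smul, add_zero] at h
      exact hba_ind (Submodule.mem_span_singleton.2 ⟨κ, h⟩)
    · apply hu'ab (-(μ⁻¹ * κ)) μ⁻¹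
      have : μ • u' = b - κ • a := by rw [← h]; abel
      have := congrArg (fun v => μ⁻¹ • v) this
      simp only [smul_smul, inv_mul_cancel₀ hμ, one_smul] at this
      rw [this]
      module
  obtain ⟨wa, hwa1, hwa2⟩ := exists_pol_eq_one C.nd _ a ha_ind
  obtain ⟨wb, hwb1, hwb2⟩ := exists_pol_eq_one C.nd _ b hb_ind
  have hwab : pol C.Q wa b = 0 := hwa2 b (Submodule.subset_span (by simp))
  have hwau' : pol C.Q wa u' = 0 := hwa2 u' (Submodule.subset_span (by simp))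
  have hwba : pol C.Q wb a = 0 := hwb2 a (Submodule.subset_span (by simp))
  have hwbu' : pol C.Q wb u' = 0 := hwb2 u' (Submodule.subset_span (by simp))
  refine ⟨u', hu'0, hqu', ⟨hu'iso, fun z₀ hz₀ => ?_⟩⟩
  have hσz₀ : σ z₀ = -z₀ := by linear_combination hz₀
  obtain ⟨p, hp, r, hr, hpr⟩ := exists_decomp F₀ C.hcard θ hθm (z₀ / (2 * c))
  set w'' : Fin n → F₀ := (⟨p, hp⟩ : F₀) • wa + (⟨r, hr⟩ : F₀) • wb with hw''
  have hw''u' : pol C.Q w'' u' = 0 := by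
    rw [hw'', pol_add_left C.nd, pol_smul_left C.nd, pol_smul_left C.nd, hwau', hwbu']
    ring
  have hw''a : pol C.Q a w'' = ⟨p, hp⟩ := by
    rw [hw'', pol_add_right C.nd, pol_smul_right C.nd, pol_smul_right C.nd, pol_comm a wa,
      pol_comm a wb, hwa1, hwba]
    ring
  have hw''b : pol C.Q b w'' = ⟨r, hr⟩ := by
    rw [hw'', pol_add_right C.nd, pol_smul_right C.nd, pol_smul_right C.nd, pol_comm b wa,
      pol_comm b wb, hwab, hwb1]
    ring
  have hS₃ := hHM (C.rsieg_mem u' w'' hqu' hw''u')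
  rw [rsieg] at hS₃
  have hfin := ut_of_sieg hf M (iota F₀ u') _ (iota F₀ w'') hu'iso hYu'
    (C.f_iota_eq_zero hw''u') 0 _ hC₁ hS₃
  have h2 := C.h2
  have hκ : f ((-c) • ((g : Matrix (Fin n) (Fin n) F) *ᵥ iota F₀ u)) (iota F₀ w'') = -z₀ / 2 := by
    rw [hf.smul_left, hab, C.f_pair_left, hw''a, hw''b]
    show -c * (p + θ * r) = -z₀ / 2
    rw [← hpr]
    field_simp
  have hz : σ (f ((-c) • ((g : Matrix (Fin n) (Fin n) F) *ᵥ iota F₀ u)) (iota F₀ w'') -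
      f (iota F₀ w'') ((-c) • ((g : Matrix (Fin n) (Fin n) F) *ᵥ iota F₀ u))) = z₀ := by
    rw [hf.herm (iota F₀ w''), hκ, map_sub, hf.involutive, map_div₀, map_neg, hσz₀,
      C.sigma_mem (show (2 : F) ∈ F₀ by
        have : (2 : F) = 1 + 1 := by norm_num
        rw [this]; exact F₀.add_mem F₀.one_mem F₀.one_mem)]
    field_simp
    ring
  rw [hz] at hfin
  exact hfin

end Ctx

end Cfsg.Agent.Lib.Helper4.SubfO
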