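import Mathlib
import Cfsg.Prelude.Def_GeometricClasses
import Cfsg.Agent.Lib.Helper4.SubfO9

set_option autoImplicit false
open Cfsg

/-!
The orthogonal subfield subgroup of the unitary group (standard rational structure): proper
overgroups contain all unitary transvections; the subfield group is proper.
-/

namespace Cfsg.Agent.Lib.Helper4.SubfO

open Matrix Cfsg.Agent.S5631 Cfsg.Agent.S5643 Cfsg.Agent.Lib.Helper4.Orth
  Cfsg.Agent.Lib.Helper4.Subf
  Cfsg.Agent.Lib.Helper8.Unitary Cfsg.Agent.Lib.Helper8.SUGen Cfsg.Agent.Lib.Helper8.SUMax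

namespace Ctx

variable {n : ℕ} {F : Type*} [Field F] [Fintype F] {F₀ : Subfield F} {σ : F ≃+* F}
  {f : (Fin n → F) → (Fin n → F) → F} (C : Ctx F₀ σ f)

include C

/-- a proper overgroup of the subfield group in `SU` contains all unitary transvections -/
theorem main (hn : 13 ≤ n) (M : Subgroup (GL (Fin n) F))
    (hHM : Cfsg.Geo.subfieldSubgroup F₀ (1 : GL (Fin n) F) ⊓ SUf f ≤ M) (hMS : M ≤ SUf f)
    (hne : ¬ M ≤ Cfsg.Geo.subfieldSubgroup F₀ (1 : GL (Fin n) F)) (x : Fin n → F)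
    (hx : f x x = 0) : x ∈ SSu C.hf M := by
  obtain ⟨θ, hθ0, hθ, hθm⟩ := C.exists_theta
  rw [SetLike.not_le_iff_exists] at hne
  obtain ⟨g, hgM, hg⟩ := hne
  obtain ⟨u, hqu, hnr⟩ := C.exists_sing_nonrat (by omega) g hg
  obtain ⟨u', hu'0, hqu', hS⟩ := C.exists_centre θ hθ hθm M hHM hMS hn g hgM u hqu hnr
  have hsing := C.all_singular M hHM hMS (by omega) u' hu'0 hqu' hS
  exact C.SSu_all θ hθ0 hθ hθm M hMS hsing (by omega) x hx

/-- the subfield group does not contain `SU` -/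
theorem proper (hn : 3 ≤ n) :
    ∃ t ∈ SUf f, t ∉ Cfsg.Geo.subfieldSubgroup F₀ (1 : GL (Fin n) F) := by
  obtain ⟨u, e', -, -, hqu, -, hue'⟩ := C.exists_hyp (k := 0) (fun i => i.elim0) (by omega)
  have hu0 : u ≠ 0 := by
    rintro rfl
    rw [pol_zero_left C.nd] at hue'
    exact zero_ne_one hue'
  obtain ⟨i, hi⟩ : ∃ i, u i ≠ 0 := by
    by_contra hcon
    push Not at hcon
    exact hu0 (funext hcon)
  have hi' : (iota F₀ u) i ≠ 0 := fun h => hi (Subtype.ext h)
  have huiso : f (iota F₀ u) (iota F₀ u) = 0 := (C.Q_eq_zero_iff u).1 hqu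
  obtain ⟨z, hz0, hz⟩ := exists_Z C.hf.ne_refl C.hf.involutive
  refine ⟨ut C.hf (iota F₀ u) huiso z, ut_mem_SUf C.hf _ _ z hz, fun hmem => ?_⟩
  obtain ⟨c, hc0, hc⟩ := mem_subfield_elim F₀ 1 _ hmem
  -- `c` is rational
  obtain ⟨b, hb, h1⟩ := hc (iota F₀ u) (isRat_iota F₀ u)
  rw [Units.val_one, Matrix.one_mulVec, Matrix.one_mulVec, ut_mulVec, huiso, mul_zero, zero_smul,
    add_zero] at h1
  have hbi : b i ≠ 0 := by
    intro h0
    have := congrFun h1 i
    rw [Pi.smul_apply, h0, smul_zero] at this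
    exact hi' this
  have hcm : c ∈ F₀ := by
    have := congrFun h1 i
    rw [Pi.smul_apply, smul_eq_mul] at this
    have e : c = (iota F₀ u) i / b i := by
      rw [this]; field_simp
    rw [e]
    exact F₀.div_mem (isRat_iota F₀ u i) (hb i)
  -- a rational vector not perpendicular to `u`
  have hv : pol C.Q e' u = 1 := by rw [pol_comm]; exact hue'
  obtain ⟨b', hb', h2⟩ := hc (iota F₀ e') (isRat_iota F₀ e')
  rw [Units.val_one, Matrix.one_mulVec, Matrix.one_mulVec, ut_mulVec, C.f_iota, hv] at h2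
  have h3 : σ z * (iota F₀ u) i ∈ F₀ := by
    have := congrFun h2 i
    simp only [Pi.add_apply, Pi.smul_apply, smul_eq_mul, Subfield.coe_one, mul_one] at this
    have e : σ z * (iota F₀ u) i = c * b' i - (iota F₀ e') i := by
      rw [← this]; ring
    rw [e]
    exact F₀.sub_mem (F₀.mul_mem hcm (hb' i)) (isRat_iota F₀ e' i)
  have h4 : σ z ∈ F₀ := by
    have e : σ z = (σ z * (iota F₀ u) i) / (iota F₀ u) i := by field_simp
    rw [e]
    exact F₀.div_mem h3 (isRat_iota F₀ u i)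
  have h5 := C.sigma_mem h4
  rw [C.hf.involutive] at h5
  have h6 : (2 : F) * z = 0 := by
    rw [← h5] at hz
    linear_combination hz
  rcases mul_eq_zero.1 h6 with h | h
  · exact C.h2 h
  · exact hz0 h

end Ctx

end Cfsg.Agent.Lib.Helper4.SubfO
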