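import Mathlib
import Cfsg.Prelude.Def_GeometricClasses
import Cfsg.Agent.Lib.Helper4.SubfO10

set_option autoImplicit false
open Cfsg

/-!
Transfer along a change of basis `P`: the pulled back form `pull f P`, the subfield subgroup
and the unitary transvections.
-/

namespace Cfsg.Agent.Lib.Helper4.SubfO

open Matrix Cfsg.Agent.S5631 Cfsg.Agent.S5643 Cfsg.Agent.Lib.Helper4.Orth
  Cfsg.Agent.Lib.Helper4.Subf
  Cfsg.Agent.Lib.Helper8.Unitary Cfsg.Agent.Lib.Helper8.SUGen Cfsg.Agent.Lib.Helper8.SUMax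

section Pull

variable {n : ℕ} {F : Type*} [Field F] {σ : F ≃+* F} (f : (Fin n → F) → (Fin n → F) → F)
variable (P : GL (Fin n) F)

/-- the form in the coordinates given by `P` -/
def pull (x y : Fin n → F) : F :=
  f ((P : Matrix (Fin n) (Fin n) F) *ᵥ x) ((P : Matrix (Fin n) (Fin n) F) *ᵥ y)

variable {f}

lemma pull_unitary (hf : Cfsg.Geo.IsUnitaryForm σ f) : Cfsg.Geo.IsUnitaryForm σ (pull f P) where
  ne_refl := hf.ne_refl
  involutive := hf.involutive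
  add_left x y v := by rw [pull, pull, pull, Matrix.mulVec_add, hf.add_left]
  smul_left c x v := by rw [pull, pull, Matrix.mulVec_smul, hf.smul_left]
  herm v w := by rw [pull, pull, ← hf.herm]
  nondegenerate := by
    intro v hv
    have hPv : (P : Matrix (Fin n) (Fin n) F) *ᵥ v ≠ 0 := by
      intro h0
      apply hv
      have := Orth.inv_mulVec_mulVec P v
      rw [h0, Matrix.mulVec_zero] at this
      exact this.symm
    obtain ⟨⟨x, hx⟩, ⟨y, hy⟩⟩ := hf.nondegenerate _ hPv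
    refine ⟨⟨((P⁻¹ : GL (Fin n) F) : Matrix (Fin n) (Fin n) F) *ᵥ x, ?_⟩,
      ⟨((P⁻¹ : GL (Fin n) F) : Matrix (Fin n) (Fin n) F) *ᵥ y, ?_⟩⟩
    · rw [pull, Orth.mulVec_inv_mulVec]; exact hx
    · rw [pull, Orth.mulVec_inv_mulVec]; exact hy

lemma mem_SUf_pull (k : GL (Fin n) F) : k ∈ SUf (pull f P) ↔ P * k * P⁻¹ ∈ SUf f := by
  have hdet : k ∈ Cfsg.Geo.specialLinear (Fin n) F ↔
      P * k * P⁻¹ ∈ Cfsg.Geo.specialLinear (Fin n) F := by
    rw [Cfsg.Geo.specialLinear, MonoidHom.mem_ker, MonoidHom.mem_ker, map_mul, map_mul, map_inv,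
      mul_comm (Matrix.GeneralLinearGroup.det P), mul_assoc, mul_inv_cancel, mul_one]
  constructor
  · rintro ⟨h1, h2⟩
    refine ⟨fun x y => ?_, hdet.1 h2⟩
    show f (((P * k * P⁻¹ : GL (Fin n) F) : Matrix (Fin n) (Fin n) F) *ᵥ x)
      (((P * k * P⁻¹ : GL (Fin n) F) : Matrix (Fin n) (Fin n) F) *ᵥ y) = f x y
    have := h1 (((P⁻¹ : GL (Fin n) F) : Matrix (Fin n) (Fin n) F) *ᵥ x)
      (((P⁻¹ : GL (Fin n) F) : Matrix (Fin n) (Fin n) F) *ᵥ y)
    simp only [pull, Orth.mulVec_inv_mulVec] at this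
    rw [Orth.mul_mulVec, Orth.mul_mulVec, Orth.mul_mulVec, Orth.mul_mulVec]
    exact this
  · rintro ⟨h1, h2⟩
    refine ⟨fun x y => ?_, hdet.2 h2⟩
    show pull f P ((k : Matrix (Fin n) (Fin n) F) *ᵥ x) ((k : Matrix (Fin n) (Fin n) F) *ᵥ y) =
      pull f P x y
    have := h1 ((P : Matrix (Fin n) (Fin n) F) *ᵥ x) ((P : Matrix (Fin n) (Fin n) F) *ᵥ y)
    change f (((P * k * P⁻¹ : GL (Fin n) F) : Matrix (Fin n) (Fin n) F) *ᵥ _)
      (((P * k * P⁻¹ : GL (Fin n) F) : Matrix (Fin n) (Fin n) F) *ᵥ _) = _ at this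
    rw [Orth.mul_mulVec, Orth.mul_mulVec, Orth.mul_mulVec, Orth.mul_mulVec,
      Orth.inv_mulVec_mulVec, Orth.inv_mulVec_mulVec] at this
    exact this

lemma mem_subfield_one (F₀ : Subfield F) (k : GL (Fin n) F) :
    k ∈ Cfsg.Geo.subfieldSubgroup F₀ (1 : GL (Fin n) F) ↔
      P * k * P⁻¹ ∈ Cfsg.Geo.subfieldSubgroup F₀ P := by
  rw [Cfsg.Geo.subfieldSubgroup, Cfsg.Geo.subfieldSubgroup, Subgroup.mem_map, Subgroup.mem_map]
  constructor
  · rintro ⟨r, hr, rfl⟩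
    refine ⟨r, hr, ?_⟩
    show P * r * P⁻¹ = P * (1 * r * 1⁻¹) * P⁻¹
    group
  · rintro ⟨r, hr, h⟩
    refine ⟨r, hr, ?_⟩
    have h' : P * r * P⁻¹ = P * k * P⁻¹ := h
    show 1 * r * 1⁻¹ = k
    have : r = k := by
      have := congrArg (fun t => P⁻¹ * t * P) h'
      simpa [mul_assoc] using this
    rw [this]; group

lemma ut_pull (hf : Cfsg.Geo.IsUnitaryForm σ f) (x : Fin n → F) (hx : pull f P x x = 0)
    (hx' : f ((P : Matrix (Fin n) (Fin n) F) *ᵥ x) ((P : Matrix (Fin n) (Fin n) F) *ᵥ x) = 0)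
    (z : F) :
    P * ut (pull_unitary P hf) x hx z * P⁻¹ =
      ut hf ((P : Matrix (Fin n) (Fin n) F) *ᵥ x) hx' z := by
  apply GL_ext
  intro v
  rw [Orth.mul_mulVec, Orth.mul_mulVec, ut_mulVec, ut_mulVec, Matrix.mulVec_add, Matrix.mulVec_smul,
    Orth.mulVec_inv_mulVec, pull, Orth.mulVec_inv_mulVec]

end Pull

end Cfsg.Agent.Lib.Helper4.SubfO
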