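import Mathlib
import Cfsg.Agent.S5645
import Cfsg.Agent.Lib.Helper4.SubfA
import Cfsg.Agent.Lib.Helper4.SubfI

set_option autoImplicit false

/-! Symplectic subfield subgroups (S5650): basics for the standard rational structure. -/

namespace Cfsg.Agent.Lib.Helper4.SubfSp

open Cfsg Matrix Cfsg.Agent.Lib.Helper5.Symp Cfsg.Agent.S5645 Cfsg.Agent.Lib.Helper4.SubfI

variable {F : Type*} [Field F] (m : ℕ)

/-- standard basis vector -/
def ε (s : Fin m ⊕ Fin m) : Fin m ⊕ Fin m → F := Pi.single s 1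

lemma ε_apply (s t : Fin m ⊕ Fin m) : (ε m s : Fin m ⊕ Fin m → F) t = if t = s then 1 else 0 := by
  rw [ε, Pi.single_apply]

lemma sympForm_ε_inl_right (x : Fin m ⊕ Fin m → F) (i : Fin m) :
    sympForm m F x (ε m (Sum.inl i)) = x (Sum.inr i) := by
  rw [sympForm_eq_sum]
  simp [ε, Pi.single_apply]

lemma sympForm_ε_inr_right (x : Fin m ⊕ Fin m → F) (i : Fin m) :
    sympForm m F x (ε m (Sum.inr i)) = - x (Sum.inl i) := by
  rw [sympForm_eq_sum]
  simp [ε, Pi.single_apply]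

lemma sympForm_ε_inl_left (x : Fin m ⊕ Fin m → F) (i : Fin m) :
    sympForm m F (ε m (Sum.inl i)) x = - x (Sum.inr i) := by
  rw [sympForm_swap, sympForm_ε_inl_right]

lemma sympForm_ε_inr_left (x : Fin m ⊕ Fin m → F) (i : Fin m) :
    sympForm m F (ε m (Sum.inr i)) x = x (Sum.inl i) := by
  rw [sympForm_swap, sympForm_ε_inr_right, neg_neg]

variable {m} (F₀ : Subfield F)

lemma isRat_ε (s : Fin m ⊕ Fin m) : IsRat F₀ (ε m s : Fin m ⊕ Fin m → F) :=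
  IsRat.single s F₀.one_mem

variable {F₀}

lemma sympForm_rat {a b : Fin m ⊕ Fin m → F} (ha : IsRat F₀ a) (hb : IsRat F₀ b) :
    sympForm m F a b ∈ F₀ := by
  rw [sympForm_eq_sum]
  exact F₀.sum_mem fun i _ => F₀.sub_mem (F₀.mul_mem (ha _) (hb _)) (F₀.mul_mem (ha _) (hb _))

/-- rational transvections lie in the subfield group -/
lemma rat_T_mem_subfield {v : Fin m ⊕ Fin m → F} (hv : IsRat F₀ v) {c : F} (hc : c ∈ F₀) :
    T m v c ∈ Cfsg.Geo.subfieldSubgroup F₀ (1 : GL (Fin m ⊕ Fin m) F) := by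
  apply mem_subfield_of_smul F₀ 1 _ 1 one_ne_zero
  intro a ha
  refine ⟨a + (c * sympForm m F a v) • v,
    ha.add (hv.smul (F₀.mul_mem hc (sympForm_rat ha hv))), ?_⟩
  rw [Units.val_one, Matrix.one_mulVec, T_mulVec, one_smul, Matrix.one_mulVec]

/-- a `GL` element with rational entries lies in the subfield group -/
lemma rat_mem_subfield (g : GL (Fin m ⊕ Fin m) F)
    (hg : ∀ i j, (g : Matrix (Fin m ⊕ Fin m) (Fin m ⊕ Fin m) F) i j ∈ F₀) :
    g ∈ Cfsg.Geo.subfieldSubgroup F₀ (1 : GL (Fin m ⊕ Fin m) F) := by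
  apply mem_subfield_of_smul F₀ 1 _ 1 one_ne_zero
  intro a ha
  refine ⟨(g : Matrix (Fin m ⊕ Fin m) (Fin m ⊕ Fin m) F) *ᵥ a, isRat_mulVec F₀ hg ha, ?_⟩
  rw [Units.val_one, Matrix.one_mulVec, one_smul, Matrix.one_mulVec]

variable (X : Subgroup (GL (Fin m ⊕ Fin m) F))
variable (hHX : Cfsg.Geo.subfieldSubgroup F₀ (1 : GL (Fin m ⊕ Fin m) F) ⊓ Cfsg.spGL m F ≤ X)
variable (hXS : X ≤ Cfsg.spGL m F)

include hHX in
lemma rat_T_mem {v : Fin m ⊕ Fin m → F} (hv : IsRat F₀ v) {c : F} (hc : c ∈ F₀) : T m v c ∈ X :=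
  hHX ⟨rat_T_mem_subfield hv hc, T_mem_spGL m v c⟩

include hHX in
lemma rat_mem (g : GL (Fin m ⊕ Fin m) F) (hgS : g ∈ Cfsg.spGL m F)
    (hg : ∀ i j, (g : Matrix (Fin m ⊕ Fin m) (Fin m ⊕ Fin m) F) i j ∈ F₀) : g ∈ X :=
  hHX ⟨rat_mem_subfield g hg, hgS⟩

include hHX in
lemma rat_tau_mem {w z : Fin m ⊕ Fin m → F} (hw : IsRat F₀ w) (hz : IsRat F₀ z) :
    tau m w z ∈ X := by
  unfold tau
  exact X.mul_mem (X.mul_mem (rat_T_mem X hHX (hw.add hz) F₀.one_mem)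
    (rat_T_mem X hHX hw (F₀.neg_mem F₀.one_mem))) (rat_T_mem X hHX hz (F₀.neg_mem F₀.one_mem))

/-- irrational vectors: not a scalar multiple of a rational vector -/
def Irr (F₀ : Subfield F) (w : Fin m ⊕ Fin m → F) : Prop :=
  ¬ ∃ (c : F) (b : Fin m ⊕ Fin m → F), IsRat F₀ b ∧ w = c • b

lemma Irr.ne_zero {w : Fin m ⊕ Fin m → F} (hw : Irr F₀ w) : w ≠ 0 := by
  rintro rfl
  exact hw ⟨0, 0, IsRat.zero, by rw [smul_zero]⟩

lemma Irr.exists_ne {w : Fin m ⊕ Fin m → F} (hw : Irr F₀ w) : ∃ s, w s ≠ 0 := by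
  by_contra hcon
  push Not at hcon
  exact hw.ne_zero (funext hcon)

lemma Irr.exists_ratio {w : Fin m ⊕ Fin m → F} (hw : Irr F₀ w) {s : Fin m ⊕ Fin m}
    (hs : w s ≠ 0) : ∃ t, w t * (w s)⁻¹ ∉ F₀ := by
  by_contra hcon
  push Not at hcon
  apply hw
  refine ⟨w s, fun t => w t * (w s)⁻¹, hcon, ?_⟩
  funext t
  rw [Pi.smul_apply, smul_eq_mul]
  field_simp

/-- an irrational vector has two coordinates with irrational product -/
lemma Irr.exists_mul {w : Fin m ⊕ Fin m → F} (hw : Irr F₀ w) : ∃ s t, w s * w t ∉ F₀ := by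
  obtain ⟨s, hs⟩ := hw.exists_ne
  by_cases h : w s * w s ∈ F₀
  · obtain ⟨t, ht⟩ := hw.exists_ratio hs
    refine ⟨s, t, fun h' => ht ?_⟩
    have : w t * (w s)⁻¹ = (w s * w t) * (w s * w s)⁻¹ := by field_simp
    rw [this]
    exact F₀.mul_mem h' (F₀.inv_mem h)
  · exact ⟨s, s, h⟩

/-- criterion: a vector with a coordinate `1` and an irrational coordinate is irrational -/
lemma irr_of_coords {w : Fin m ⊕ Fin m → F} {s t : Fin m ⊕ Fin m} (hs : w s = 1)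
    (ht : w t ∉ F₀) : Irr F₀ w := by
  rintro ⟨c, b, hb, rfl⟩
  rw [Pi.smul_apply, smul_eq_mul] at hs ht
  have hbs : b s ≠ 0 := by
    intro h0
    rw [h0, mul_zero] at hs
    exact zero_ne_one hs
  have hc : c = (b s)⁻¹ := by
    field_simp
    exact hs
  apply ht
  rw [hc]
  exact F₀.mul_mem (F₀.inv_mem (hb s)) (hb t)

end Cfsg.Agent.Lib.Helper4.SubfSp
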