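import Mathlib
import Cfsg.Agent.Lib.Helper4.SubfSp1

set_option autoImplicit false

/-! Symplectic subfield subgroups (S5650): irrational transvections and the basic move. -/

namespace Cfsg.Agent.Lib.Helper4.SubfSp

open Cfsg Matrix Cfsg.Agent.Lib.Helper5.Symp Cfsg.Agent.S5645 Cfsg.Agent.Lib.Helper4.SubfI

variable {F : Type*} [Field F] {m : ℕ} {F₀ : Subfield F}

/-- a ring endomorphism of a finite field with fixed field `F₀` -/
lemma exists_frob [Fintype F] (F₀ : Subfield F) :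
    ∃ σ : F →+* F, ∀ x, x ∈ F₀ ↔ σ x = x := by
  classical
  set p := ringChar F with hp
  haveI : CharP F p := ringChar.charP F
  haveI : Fact p.Prime := ⟨CharP.char_is_prime F p⟩
  haveI : CharP F₀ p := RingHom.charP F₀.subtype Subtype.val_injective p
  let _ : Fintype F₀ := Fintype.ofFinite F₀
  obtain ⟨k, -, hk⟩ := FiniteField.card F₀ p
  refine ⟨iterateFrobenius F p k, fun x => ?_⟩
  rw [iterateFrobenius_def]
  exact Cfsg.Agent.Lib.Helper4.Subf.mem_subfield_iff_pow F₀ (p ^ (k : ℕ))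
    (by rw [Nat.card_eq_fintype_card, hk]) x

variable (X : Subgroup (GL (Fin m ⊕ Fin m) F))
variable (hHX : Cfsg.Geo.subfieldSubgroup F₀ (1 : GL (Fin m ⊕ Fin m) F) ⊓ Cfsg.spGL m F ≤ X)
variable (hXS : X ≤ Cfsg.spGL m F)

/-- centres whose rational-parameter transvections lie in `X` -/
def RC (F₀ : Subfield F) (X : Subgroup (GL (Fin m ⊕ Fin m) F)) : Set (Fin m ⊕ Fin m → F) :=
  {w | ∀ c ∈ F₀, T m w c ∈ X}

include hHX in
lemma rat_mem_RC {v : Fin m ⊕ Fin m → F} (hv : IsRat F₀ v) : v ∈ RC F₀ X :=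
  fun _ hc => rat_T_mem X hHX hv hc

include hXS in
lemma mulVec_mem_RC {g : GL (Fin m ⊕ Fin m) F} (hg : g ∈ X) {w : Fin m ⊕ Fin m → F}
    (hw : w ∈ RC F₀ X) :
    (g : Matrix (Fin m ⊕ Fin m) (Fin m ⊕ Fin m) F) *ᵥ w ∈ RC F₀ X := by
  intro c hc
  rw [← conj_T m g (hXS hg)]
  exact X.mul_mem (X.mul_mem hg (hw c hc)) (X.inv_mem hg)

include hHX hXS in
/-- an overgroup not inside the subfield group contains an irrational transvection -/
lemma exists_irr [Fintype F] (hm : 0 < m) (hX : ¬ X ≤ Cfsg.Geo.subfieldSubgroup F₀ 1) :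
    ∃ w, Irr F₀ w ∧ w ∈ RC F₀ X := by
  obtain ⟨g, hgX, hg⟩ := SetLike.not_le_iff_exists.1 hX
  obtain ⟨σ, hσ⟩ := exists_frob F₀
  have h1 : ∃ a, IsRat F₀ a ∧ ∀ (c : F) (b : Fin m ⊕ Fin m → F), IsRat F₀ b →
      (g : Matrix (Fin m ⊕ Fin m) (Fin m ⊕ Fin m) F) *ᵥ a ≠ c • b := by
    by_contra hcon
    push Not at hcon
    apply hg
    apply mem_subfield_of_rat F₀ 1 (Sum.inl ⟨0, hm⟩) σ hσ g
    intro a ha
    obtain ⟨c, b, hb, h⟩ := hcon a ha
    refine ⟨c, b, hb, ?_⟩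
    rw [Units.val_one, Matrix.one_mulVec, Matrix.one_mulVec, h]
  obtain ⟨a, ha, hne⟩ := h1
  refine ⟨(g : Matrix (Fin m ⊕ Fin m) (Fin m ⊕ Fin m) F) *ᵥ a, ?_,
    mulVec_mem_RC X hXS hgX (rat_mem_RC X hHX ha)⟩
  rintro ⟨c, b, hb, h⟩
  exact hne c b hb h

include hXS in
/-- **the basic move** -/
lemma move {w : Fin m ⊕ Fin m → F} (hw : w ∈ RC F₀ X) {h : GL (Fin m ⊕ Fin m) F} (hh : h ∈ X)
    (hperp : sympForm m F w ((h : Matrix (Fin m ⊕ Fin m) (Fin m ⊕ Fin m) F) *ᵥ w) = 0)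
    {u : Fin m ⊕ Fin m → F} (hu : u ∈ RC F₀ X)
    (hud : sympForm m F u ((h : Matrix (Fin m ⊕ Fin m) (Fin m ⊕ Fin m) F) *ᵥ w - w) = 0)
    {c : F} (hc : c ∈ F₀) :
    u + (c * sympForm m F u w) •
      ((h : Matrix (Fin m ⊕ Fin m) (Fin m ⊕ Fin m) F) *ᵥ w - w) ∈ RC F₀ X := by
  set hw' := (h : Matrix (Fin m ⊕ Fin m) (Fin m ⊕ Fin m) F) *ᵥ w with hhw
  have h1 : T m hw' c ∈ X := mulVec_mem_RC X hXS hh hw c hc
  have h2 : T m w (-c) ∈ X := hw _ (F₀.neg_mem hc)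
  set z := T m w (-c) * T m hw' c with hz
  have hzX : z ∈ X := X.mul_mem h2 h1
  have hperp' : sympForm m F hw' w = 0 := by rw [sympForm_swap, hperp, neg_zero]
  have hzu : (z : Matrix (Fin m ⊕ Fin m) (Fin m ⊕ Fin m) F) *ᵥ u =
      u + (c * sympForm m F u w) • (hw' - w) := by
    have e1 : sympForm m F u hw' = sympForm m F u w := by
      have : hw' = w + (hw' - w) := by abel
      rw [this, sympForm_add_right, hud, add_zero]
    rw [hz, Units.val_mul, ← Matrix.mulVec_mulVec, T_mulVec, T_mulVec, e1]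
    simp only [sympForm_add_left, sympForm_smul_left, hperp']
    module
  rw [← hzu]
  exact mulVec_mem_RC X hXS hzX hu

end Cfsg.Agent.Lib.Helper4.SubfSp
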