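import Mathlib
import Cfsg.Agent.Lib.Helper4.SubfSp2

set_option autoImplicit false

/-! Symplectic subfield subgroups (S5650): coordinates, signs, zero-pair move. -/

namespace Cfsg.Agent.Lib.Helper4.SubfSp

open Cfsg Matrix Cfsg.Agent.Lib.Helper5.Symp Cfsg.Agent.S5645 Cfsg.Agent.Lib.Helper4.SubfI

variable {F : Type*} [Field F] {m : ℕ} {F₀ : Subfield F}

/-- pair index -/
def pr : Fin m ⊕ Fin m → Fin m := Sum.elim id id

/-- sign of a coordinate -/
def sg : Fin m ⊕ Fin m → F := Sum.elim (fun _ => 1) (fun _ => -1)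

lemma sg_mul_self (s : Fin m ⊕ Fin m) : (sg s : F) * sg s = 1 := by
  rcases s with s | s <;> simp [sg]

lemma sg_mem (F₀ : Subfield F) (s : Fin m ⊕ Fin m) : (sg s : F) ∈ F₀ := by
  rcases s with s | s
  · exact F₀.one_mem
  · exact F₀.neg_mem F₀.one_mem

lemma sg_ne_zero (s : Fin m ⊕ Fin m) : (sg s : F) ≠ 0 := by
  intro h
  have := sg_mul_self (F := F) s
  rw [h, mul_zero] at this
  exact zero_ne_one this

lemma pr_swap (s : Fin m ⊕ Fin m) : pr s.swap = pr s := by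
  rcases s with s | s <;> rfl

lemma sympForm_ε_right (x : Fin m ⊕ Fin m → F) (s : Fin m ⊕ Fin m) :
    sympForm m F x (ε m s) = sg s * x s.swap := by
  rcases s with s | s
  · rw [sympForm_ε_inl_right]; simp [sg]
  · rw [sympForm_ε_inr_right]; simp [sg]

lemma sympForm_ε_left (x : Fin m ⊕ Fin m → F) (s : Fin m ⊕ Fin m) :
    sympForm m F (ε m s) x = - (sg s * x s.swap) := by
  rw [sympForm_swap, sympForm_ε_right]

lemma sympForm_ε_ε {s t : Fin m ⊕ Fin m} (h : pr s ≠ pr t) :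
    sympForm m F (ε m s : Fin m ⊕ Fin m → F) (ε m t) = 0 := by
  rw [sympForm_ε_right, ε_apply, if_neg, mul_zero]
  intro h'
  apply h
  rw [← h', pr_swap]

lemma swap_ne_of_pr_ne {s t : Fin m ⊕ Fin m} (h : pr s ≠ pr t) : s ≠ t := by
  rintro rfl; exact h rfl

lemma ne_swap_of_pr_ne {s t : Fin m ⊕ Fin m} (h : pr s ≠ pr t) : s ≠ t.swap := by
  rintro rfl; exact h (pr_swap t)

variable (X : Subgroup (GL (Fin m ⊕ Fin m) F))
variable (hHX : Cfsg.Geo.subfieldSubgroup F₀ (1 : GL (Fin m ⊕ Fin m) F) ⊓ Cfsg.spGL m F ≤ X)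
variable (hXS : X ≤ Cfsg.spGL m F)

lemma smul_mem_RC {w : Fin m ⊕ Fin m → F} (hw : w ∈ RC F₀ X) {a : F} (ha : a ∈ F₀) :
    a • w ∈ RC F₀ X := by
  intro c hc
  have : T m (a • w) c = T m w (a ^ 2 * c) := Units.ext (by
    rw [T_coe, T_coe, sympTransvection_smul])
  rw [this]
  exact hw _ (F₀.mul_mem (F₀.pow_mem ha 2) hc)

include hHX hXS in
/-- **zero-pair move**: an irrational centre with a zero pair gives a centre `ε a + μ ε z`. -/
lemma zero_pair_move {w : Fin m ⊕ Fin m → F} (hw : w ∈ RC F₀ X) (hirr : Irr F₀ w) (z₀ : Fin m)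
    (hz1 : w (Sum.inl z₀) = 0) (hz2 : w (Sum.inr z₀) = 0) :
    ∃ (a : Fin m ⊕ Fin m) (μ : F), pr a ≠ z₀ ∧ μ ∉ F₀ ∧
      ∀ zs : Fin m ⊕ Fin m, pr zs = z₀ → ε m a + μ • ε m zs ∈ RC F₀ X := by
  obtain ⟨a', b', hab⟩ := hirr.exists_mul
  have ha'0 : w a' ≠ 0 := fun h => hab (by rw [h, zero_mul]; exact F₀.zero_mem)
  have hb'0 : w b' ≠ 0 := fun h => hab (by rw [h, mul_zero]; exact F₀.zero_mem)
  have hwz : ∀ s : Fin m ⊕ Fin m, pr s = z₀ → w s = 0 := by
    intro s hs
    rcases s with s | s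
    · have : s = z₀ := hs
      rw [this]; exact hz1
    · have : s = z₀ := hs
      rw [this]; exact hz2
  have hpa' : pr a' ≠ z₀ := fun h => ha'0 (hwz a' h)
  have hpb' : pr b' ≠ z₀ := fun h => hb'0 (hwz b' h)
  refine ⟨a'.swap, w a' * w b', by rw [pr_swap]; exact hpa', hab, fun zs hzs => ?_⟩
  set a := a'.swap with ha
  set b := b'.swap with hb
  have hpa : pr a ≠ pr zs := by rw [ha, pr_swap, hzs]; exact hpa'
  have hpb : pr b ≠ pr zs := by rw [hb, pr_swap, hzs]; exact hpb'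
  have haa : a.swap = a' := by rw [ha, Sum.swap_swap]
  have hbb : b.swap = b' := by rw [hb, Sum.swap_swap]
  set q : Fin m ⊕ Fin m → F := ε m zs with hq
  set p : Fin m ⊕ Fin m → F := ε m b with hp
  set u : Fin m ⊕ Fin m → F := ε m a with hu
  have hpq : sympForm m F p q = 0 := sympForm_ε_ε hpb
  have huq : sympForm m F u q = 0 := sympForm_ε_ε hpa
  have hwq : sympForm m F w q = 0 := by
    rw [hq, sympForm_ε_right, hwz _ (by rw [pr_swap, hzs]), mul_zero]
  have hh : tau m q p ∈ X := rat_tau_mem X hHX (isRat_ε F₀ zs) (isRat_ε F₀ b)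
  have hhw : ((tau m q p : GL (Fin m ⊕ Fin m) F) : Matrix (Fin m ⊕ Fin m) (Fin m ⊕ Fin m) F) *ᵥ w
      - w = sympForm m F w p • q := by
    rw [tau_mulVec m q p hpq, hwq, zero_smul, add_zero, add_sub_cancel_left]
  set c : F := -(sg a * sg b) with hc
  have hcF : c ∈ F₀ := F₀.neg_mem (F₀.mul_mem (sg_mem F₀ a) (sg_mem F₀ b))
  have hmv := move X hXS hw hh ?_ (rat_mem_RC X hHX (isRat_ε F₀ a)) ?_ hcF
  · rw [hhw] at hmv
    have e : (c * sympForm m F (ε m a) w) • sympForm m F w p • q = (w a' * w b') • q := by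
      rw [smul_smul, hp, sympForm_ε_left, sympForm_ε_right, haa, hbb, hc]
      congr 1
      have h1 := sg_mul_self (F := F) a
      have h2 := sg_mul_self (F := F) b
      linear_combination (w a' * w b' * sg b * sg b) * h1 + (w a' * w b') * h2
    rw [e] at hmv
    exact hmv
  · have : (tau m q p : GL (Fin m ⊕ Fin m) F).1 *ᵥ w = w + sympForm m F w p • q := by
      rw [← hhw]; abel
    rw [this, sympForm_add_right, sympForm_self, sympForm_smul_right, hwq, mul_zero, add_zero]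
  · rw [hhw, sympForm_smul_right, huq, mul_zero]

end Cfsg.Agent.Lib.Helper4.SubfSp
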