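import Mathlib
import Cfsg.Agent.Lib.Helper4.SubfSp3

set_option autoImplicit false

/-! Symplectic subfield subgroups (S5650): the elements `J` and `negpair`, coordinate products. -/

namespace Cfsg.Agent.Lib.Helper4.SubfSp

open Cfsg Matrix Cfsg.Agent.Lib.Helper5.Symp Cfsg.Agent.S5645 Cfsg.Agent.Lib.Helper4.SubfI

variable {F : Type*} [Field F] {m : ℕ} {F₀ : Subfield F}

/-- `J` as an element of `GL` -/
noncomputable def JG (m : ℕ) (F : Type*) [Field F] : GL (Fin m ⊕ Fin m) F :=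
  ⟨J (Fin m) F, -J (Fin m) F, by rw [Matrix.mul_neg, J_squared, neg_neg],
    by rw [Matrix.neg_mul, J_squared, neg_neg]⟩

lemma JG_coe : ((JG m F : GL (Fin m ⊕ Fin m) F) : Matrix (Fin m ⊕ Fin m) (Fin m ⊕ Fin m) F) =
    J (Fin m) F := rfl

lemma JG_mem_spGL : JG m F ∈ spGL m F := by
  rw [mem_spGL_iff]
  intro u v
  rw [JG_coe]
  exact sympForm_of_mem m (SymplecticGroup.J_mem (Fin m) F) u v

lemma J_mulVec_inl (x : Fin m ⊕ Fin m → F) (i : Fin m) :
    (J (Fin m) F *ᵥ x) (Sum.inl i) = - x (Sum.inr i) := by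
  rw [J, Matrix.fromBlocks_mulVec]
  simp [Matrix.neg_mulVec]

lemma J_mulVec_inr (x : Fin m ⊕ Fin m → F) (i : Fin m) :
    (J (Fin m) F *ᵥ x) (Sum.inr i) = x (Sum.inl i) := by
  rw [J, Matrix.fromBlocks_mulVec]
  simp

lemma J_entry_mem (F₀ : Subfield F) (s t : Fin m ⊕ Fin m) : J (Fin m) F s t ∈ F₀ := by
  rcases s with s | s <;> rcases t with t | t
  · simp [J]
  · simp only [J, Matrix.fromBlocks_apply₁₂, Matrix.neg_apply, Matrix.one_apply]
    split_ifs
    · exact F₀.neg_mem F₀.one_mem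
    · rw [neg_zero]; exact F₀.zero_mem
  · simp only [J, Matrix.fromBlocks_apply₂₁, Matrix.one_apply]
    split_ifs
    · exact F₀.one_mem
    · exact F₀.zero_mem
  · simp [J]

/-- the diagonal of the element negating the pair `i` -/
def npd (F : Type*) [Field F] (i : Fin m) : Fin m ⊕ Fin m → F := fun s => if pr s = i then -1 else 1

lemma npd_mul_self (i : Fin m) (s : Fin m ⊕ Fin m) : (npd F i s) * npd F i s = 1 := by
  unfold npd
  split_ifs <;> simp

/-- the element negating the pair `i` -/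
noncomputable def NP (F : Type*) [Field F] (i : Fin m) : GL (Fin m ⊕ Fin m) F :=
  ⟨Matrix.diagonal (npd F i), Matrix.diagonal (npd F i),
    by rw [Matrix.diagonal_mul_diagonal]
       simp_rw [npd_mul_self]
       exact Matrix.diagonal_one,
    by rw [Matrix.diagonal_mul_diagonal]
       simp_rw [npd_mul_self]
       exact Matrix.diagonal_one⟩

lemma NP_mulVec (i : Fin m) (x : Fin m ⊕ Fin m → F) (s : Fin m ⊕ Fin m) :
    (((NP F i : GL (Fin m ⊕ Fin m) F) : Matrix (Fin m ⊕ Fin m) (Fin m ⊕ Fin m) F) *ᵥ x) s =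
      npd F i s * x s := by
  show (Matrix.diagonal (npd F i) *ᵥ x) s = _
  rw [Matrix.mulVec_diagonal]

lemma NP_mem_spGL (i : Fin m) : NP F i ∈ spGL m F := by
  rw [mem_spGL_iff]
  intro u v
  rw [sympForm_eq_sum, sympForm_eq_sum]
  apply Finset.sum_congr rfl
  intro j _
  rw [NP_mulVec, NP_mulVec, NP_mulVec, NP_mulVec]
  have h1 : npd F i (Sum.inr j) = npd F i (Sum.inl j) := rfl
  have h2 := npd_mul_self (F := F) i (Sum.inl j)
  rw [h1]
  linear_combination (u (Sum.inr j) * v (Sum.inl j) - u (Sum.inl j) * v (Sum.inr j)) * h2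

lemma NP_entry_mem (F₀ : Subfield F) (i : Fin m) (s t : Fin m ⊕ Fin m) :
    ((NP F i : GL (Fin m ⊕ Fin m) F) : Matrix (Fin m ⊕ Fin m) (Fin m ⊕ Fin m) F) s t ∈ F₀ := by
  show Matrix.diagonal (npd F i) s t ∈ F₀
  rw [Matrix.diagonal_apply]
  split_ifs
  · unfold npd
    split_ifs
    · exact F₀.neg_mem F₀.one_mem
    · exact F₀.one_mem
  · exact F₀.zero_mem

/-- an irrational vector with three non-zero pairs has an irrational product of coordinates from
different pairs -/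
lemma Irr.exists_mul_ne {w : Fin m ⊕ Fin m → F} (hw : Irr F₀ w) (s₁ s₂ s₃ : Fin m ⊕ Fin m)
    (h12 : pr s₁ ≠ pr s₂) (h13 : pr s₁ ≠ pr s₃) (h23 : pr s₂ ≠ pr s₃)
    (h1 : w s₁ ≠ 0) (h2 : w s₂ ≠ 0) (h3 : w s₃ ≠ 0) :
    ∃ s t, pr s ≠ pr t ∧ w s * w t ∉ F₀ := by
  by_contra hcon
  push Not at hcon
  have hab := hcon s₁ s₂ h12
  have hac := hcon s₁ s₃ h13
  have hbc := hcon s₂ s₃ h23
  have haa : w s₁ * w s₁ ∈ F₀ := by
    have : w s₁ * w s₁ = (w s₁ * w s₂) * (w s₁ * w s₃) * (w s₂ * w s₃)⁻¹ := by field_simp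
    rw [this]
    exact F₀.mul_mem (F₀.mul_mem hab hac) (F₀.inv_mem hbc)
  apply hw
  refine ⟨w s₁, fun t => w t * (w s₁)⁻¹, ?_, ?_⟩
  · intro t
    show w t * (w s₁)⁻¹ ∈ F₀
    by_cases ht : pr t = pr s₁
    · have ht2 : pr t ≠ pr s₂ := by rw [ht]; exact h12
      have h4 := hcon t s₂ ht2
      have : w t * (w s₁)⁻¹ = (w t * w s₂) * (w s₁ * w s₂)⁻¹ := by field_simp
      rw [this]
      exact F₀.mul_mem h4 (F₀.inv_mem hab)
    · have h4 := hcon t s₁ ht
      have : w t * (w s₁)⁻¹ = (w t * w s₁) * (w s₁ * w s₁)⁻¹ := by field_simp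
      rw [this]
      exact F₀.mul_mem h4 (F₀.inv_mem haa)
  · funext t
    rw [Pi.smul_apply, smul_eq_mul]
    field_simp

lemma exists_notMem_fin (S : Finset (Fin m)) (h : S.card < m) : ∃ l, l ∉ S := by
  by_contra hcon
  push Not at hcon
  have : S = Finset.univ := Finset.eq_univ_iff_forall.2 hcon
  rw [this, Finset.card_univ, Fintype.card_fin] at h
  exact lt_irrefl _ h

lemma exists_ne3 (hm : 4 ≤ m) (a b c : Fin m) : ∃ l, l ≠ a ∧ l ≠ b ∧ l ≠ c := by
  obtain ⟨l, hl⟩ := exists_notMem_fin ({a, b, c} : Finset (Fin m))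
    (lt_of_le_of_lt Finset.card_le_three (by omega))
  simp only [Finset.mem_insert, Finset.mem_singleton, not_or] at hl
  exact ⟨l, hl.1, hl.2.1, hl.2.2⟩

lemma exists_ne2 (hm : 3 ≤ m) (a b : Fin m) : ∃ l, l ≠ a ∧ l ≠ b := by
  obtain ⟨l, hl⟩ := exists_notMem_fin ({a, b} : Finset (Fin m))
    (lt_of_le_of_lt Finset.card_le_two (by omega))
  simp only [Finset.mem_insert, Finset.mem_singleton, not_or] at hl
  exact ⟨l, hl.1, hl.2⟩

end Cfsg.Agent.Lib.Helper4.SubfSp
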