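import Mathlib
import Cfsg.Agent.Lib.Helper4.SubfSp4

set_option autoImplicit false

/-! Symplectic subfield subgroups (S5650): support reduction of an irrational centre. -/

namespace Cfsg.Agent.Lib.Helper4.SubfSp

open Cfsg Matrix Cfsg.Agent.Lib.Helper5.Symp Cfsg.Agent.S5645 Cfsg.Agent.Lib.Helper4.SubfI

variable {F : Type*} [Field F] {m : ℕ} {F₀ : Subfield F}

variable (X : Subgroup (GL (Fin m ⊕ Fin m) F))
variable (hHX : Cfsg.Geo.subfieldSubgroup F₀ (1 : GL (Fin m ⊕ Fin m) F) ⊓ Cfsg.spGL m F ≤ X)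
variable (hXS : X ≤ Cfsg.spGL m F)

/-- values of a three-term combination of basis vectors -/
lemma three_apply (a b c : Fin m ⊕ Fin m) (k₁ k₂ : F) (x : Fin m ⊕ Fin m) :
    (ε m a + k₁ • ε m b + k₂ • ε m c : Fin m ⊕ Fin m → F) x =
      (if x = a then 1 else 0) + k₁ * (if x = b then 1 else 0) + k₂ * (if x = c then 1 else 0) := by
  simp only [Pi.add_apply, Pi.smul_apply, smul_eq_mul, ε_apply]

include hHX hXS in
/-- reduction by a Siegel element (characteristic two) -/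
lemma reduce_tau (h2 : (2 : F) = 0) {w : Fin m ⊕ Fin m → F} (hw : w ∈ RC F₀ X)
    (s t : Fin m ⊕ Fin m) (l : Fin m) (hst : pr s ≠ pr t) (hls : l ≠ pr s) (hlt : l ≠ pr t) :
    ∃ k : F, ε m t.swap + (w s * w t) • ε m (Sum.inl l) + k • ε m s.swap ∈ RC F₀ X := by
  set q : Fin m ⊕ Fin m → F := ε m (Sum.inl l) with hq
  set p : Fin m ⊕ Fin m → F := ε m s.swap with hp
  set u : Fin m ⊕ Fin m → F := ε m t.swap with hu
  have hpq : sympForm m F p q = 0 := sympForm_ε_ε (by rw [pr_swap]; exact fun h => hls h.symm)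
  have huq : sympForm m F u q = 0 := sympForm_ε_ε (by rw [pr_swap]; exact fun h => hlt h.symm)
  have hup : sympForm m F u p = 0 := sympForm_ε_ε (by rw [pr_swap, pr_swap]; exact fun h => hst h.symm)
  have hh : tau m q p ∈ X := rat_tau_mem X hHX (isRat_ε F₀ _) (isRat_ε F₀ _)
  have hhw : ((tau m q p : GL (Fin m ⊕ Fin m) F) : Matrix (Fin m ⊕ Fin m) (Fin m ⊕ Fin m) F) *ᵥ w
      - w = sympForm m F w p • q + sympForm m F w q • p := by
    rw [tau_mulVec m q p hpq]; abel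
  have hhw' : ((tau m q p : GL (Fin m ⊕ Fin m) F) : Matrix (Fin m ⊕ Fin m) (Fin m ⊕ Fin m) F) *ᵥ w
      = w + (sympForm m F w p • q + sympForm m F w q • p) := by
    rw [← hhw]; abel
  set c : F := -(sg t.swap * sg s.swap) with hc
  have hcF : c ∈ F₀ := F₀.neg_mem (F₀.mul_mem (sg_mem F₀ _) (sg_mem F₀ _))
  have hmv := move X hXS hw hh ?_ (rat_mem_RC X hHX (isRat_ε F₀ t.swap)) ?_ hcF
  · rw [hhw] at hmv
    refine ⟨(c * sympForm m F (ε m t.swap) w) * sympForm m F w q, ?_⟩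
    have e : (c * sympForm m F (ε m t.swap) w) • (sympForm m F w p • q + sympForm m F w q • p) =
        (w s * w t) • q + ((c * sympForm m F (ε m t.swap) w) * sympForm m F w q) • p := by
      rw [smul_add, smul_smul, smul_smul]
      congr 2
      rw [hp, sympForm_ε_left, sympForm_ε_right, Sum.swap_swap, Sum.swap_swap, hc]
      have h1 := sg_mul_self (F := F) t.swap
      have h2' := sg_mul_self (F := F) s.swap
      linear_combination (w s * w t * sg s.swap * sg s.swap) * h1 + (w s * w t) * h2'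
    rw [e, ← add_assoc] at hmv
    exact hmv
  · rw [hhw', sympForm_add_right, sympForm_self, sympForm_add_right, sympForm_smul_right,
      sympForm_smul_right]
    linear_combination (sympForm m F w p * sympForm m F w q) * h2
  · rw [hhw, sympForm_add_right, sympForm_smul_right, sympForm_smul_right, huq, hup]
    ring

include hHX hXS in
/-- reduction by negating a pair (odd characteristic) -/
lemma reduce_neg (h2 : (2 : F) ≠ 0) {w : Fin m ⊕ Fin m → F} (hw : w ∈ RC F₀ X)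
    (i : Fin m) (t : Fin m ⊕ Fin m) (hit : i ≠ pr t) :
    ε m t.swap + (w (Sum.inl i) * w t) • ε m (Sum.inl i) + (w (Sum.inr i) * w t) • ε m (Sum.inr i)
      ∈ RC F₀ X := by
  set u : Fin m ⊕ Fin m → F := ε m t.swap with hu
  have hh : NP F i ∈ X := rat_mem X hHX (NP F i) (NP_mem_spGL i) (NP_entry_mem F₀ i)
  have hhw' : ((NP F i : GL (Fin m ⊕ Fin m) F) : Matrix (Fin m ⊕ Fin m) (Fin m ⊕ Fin m) F) *ᵥ w
      = w + ((-2 * w (Sum.inl i)) • ε m (Sum.inl i) + (-2 * w (Sum.inr i)) • ε m (Sum.inr i)) := by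
    funext x
    rw [NP_mulVec]
    simp only [Pi.add_apply, Pi.smul_apply, smul_eq_mul, ε_apply]
    rcases x with j | j <;> by_cases hj : j = i
    · subst hj; simp [npd, pr]; ring
    · simp [npd, pr, hj]
    · subst hj; simp [npd, pr]; ring
    · simp [npd, pr, hj]
  have hhw : ((NP F i : GL (Fin m ⊕ Fin m) F) : Matrix (Fin m ⊕ Fin m) (Fin m ⊕ Fin m) F) *ᵥ w
      - w = (-2 * w (Sum.inl i)) • ε m (Sum.inl i) + (-2 * w (Sum.inr i)) • ε m (Sum.inr i) := by
    rw [hhw']; abel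
  have hu1 : sympForm m F u (ε m (Sum.inl i) : Fin m ⊕ Fin m → F) = 0 :=
    sympForm_ε_ε (by rw [pr_swap]; exact fun h => hit h.symm)
  have hu2 : sympForm m F u (ε m (Sum.inr i) : Fin m ⊕ Fin m → F) = 0 :=
    sympForm_ε_ε (by rw [pr_swap]; exact fun h => hit h.symm)
  have h2F : (2 : F) ∈ F₀ := by
    rw [← one_add_one_eq_two]; exact F₀.add_mem F₀.one_mem F₀.one_mem
  set c : F := sg t.swap * 2⁻¹ with hc
  have hcF : c ∈ F₀ := F₀.mul_mem (sg_mem F₀ _) (F₀.inv_mem h2F)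
  have hmv := move X hXS hw hh ?_ (rat_mem_RC X hHX (isRat_ε F₀ t.swap)) ?_ hcF
  · rw [hhw] at hmv
    have e : (c * sympForm m F (ε m t.swap) w) •
        (((-2 * w (Sum.inl i)) • ε m (Sum.inl i) + (-2 * w (Sum.inr i)) • ε m (Sum.inr i) :
          Fin m ⊕ Fin m → F)) =
        ((w (Sum.inl i) * w t) • ε m (Sum.inl i) + (w (Sum.inr i) * w t) • ε m (Sum.inr i) :
          Fin m ⊕ Fin m → F) := by
      rw [smul_add, smul_smul, smul_smul, sympForm_ε_left, Sum.swap_swap, hc]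
      have h1 := sg_mul_self (F := F) t.swap
      congr 2
      · field_simp
        linear_combination (w (Sum.inl i) * w t) * h1
      · field_simp
        linear_combination (w (Sum.inr i) * w t) * h1
    rw [e, ← add_assoc] at hmv
    exact hmv
  · rw [hhw', sympForm_add_right, sympForm_self, sympForm_add_right, sympForm_smul_right,
      sympForm_smul_right, sympForm_ε_inl_right, sympForm_ε_inr_right]
    ring
  · rw [hhw, sympForm_add_right, sympForm_smul_right, sympForm_smul_right, hu1, hu2]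
    ring

include hHX hXS in
/-- an irrational centre may be assumed to have a zero pair -/
lemma exists_zero_pair (hm : 4 ≤ m) {w : Fin m ⊕ Fin m → F} (hw : w ∈ RC F₀ X)
    (hirr : Irr F₀ w) :
    ∃ (w' : Fin m ⊕ Fin m → F) (z₀ : Fin m), w' ∈ RC F₀ X ∧ Irr F₀ w' ∧
      w' (Sum.inl z₀) = 0 ∧ w' (Sum.inr z₀) = 0 := by
  by_cases h : ∃ z₀, w (Sum.inl z₀) = 0 ∧ w (Sum.inr z₀) = 0
  · obtain ⟨z₀, h1, h2⟩ := h
    exact ⟨w, z₀, hw, hirr, h1, h2⟩
  push Not at h
  have hnz : ∀ z : Fin m, ∃ s, pr s = z ∧ w s ≠ 0 := by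
    intro z
    by_cases hz : w (Sum.inl z) = 0
    · exact ⟨Sum.inr z, rfl, h z hz⟩
    · exact ⟨Sum.inl z, rfl, hz⟩
  obtain ⟨s₁, hp1, h1⟩ := hnz ⟨0, by omega⟩
  obtain ⟨s₂, hp2, h2⟩ := hnz ⟨1, by omega⟩
  obtain ⟨s₃, hp3, h3⟩ := hnz ⟨2, by omega⟩
  obtain ⟨s, t, hst, hprod⟩ := hirr.exists_mul_ne s₁ s₂ s₃
    (by rw [hp1, hp2]; simp [Fin.ext_iff]) (by rw [hp1, hp3]; simp [Fin.ext_iff])
    (by rw [hp2, hp3]; simp [Fin.ext_iff]) h1 h2 h3
  obtain ⟨l, hls, hlt⟩ := exists_ne2 (by omega) (pr s) (pr t)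
  obtain ⟨l', hl's, hl't, hl'l⟩ := exists_ne3 hm (pr s) (pr t) l
  have e1 : t.swap ≠ Sum.inl l := swap_ne_of_pr_ne (by rw [pr_swap]; exact fun h => hlt h.symm)
  have e2 : t.swap ≠ s.swap := swap_ne_of_pr_ne (by rw [pr_swap, pr_swap]; exact fun h => hst h.symm)
  have e3 : Sum.inl l ≠ s.swap := swap_ne_of_pr_ne (by rw [pr_swap]; exact hls)
  by_cases h2F : (2 : F) = 0
  · obtain ⟨k, hk⟩ := reduce_tau X hHX hXS h2F hw s t l hst hls hlt
    have f1 : (Sum.inl l' : Fin m ⊕ Fin m) ≠ t.swap :=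
      swap_ne_of_pr_ne (by rw [pr_swap]; exact hl't)
    have f2 : (Sum.inl l' : Fin m ⊕ Fin m) ≠ Sum.inl l := swap_ne_of_pr_ne hl'l
    have f3 : (Sum.inl l' : Fin m ⊕ Fin m) ≠ s.swap :=
      swap_ne_of_pr_ne (by rw [pr_swap]; exact hl's)
    have g1 : (Sum.inr l' : Fin m ⊕ Fin m) ≠ t.swap :=
      swap_ne_of_pr_ne (by rw [pr_swap]; exact hl't)
    have g2 : (Sum.inr l' : Fin m ⊕ Fin m) ≠ Sum.inl l := swap_ne_of_pr_ne hl'l
    have g3 : (Sum.inr l' : Fin m ⊕ Fin m) ≠ s.swap :=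
      swap_ne_of_pr_ne (by rw [pr_swap]; exact hl's)
    refine ⟨_, l', hk, ?_, ?_, ?_⟩
    · apply irr_of_coords (s := t.swap) (t := Sum.inl l)
      · rw [three_apply, if_pos rfl, if_neg e1, if_neg e2]; ring
      · rw [three_apply, if_neg e1.symm, if_pos rfl, if_neg e3]
        have : (0 : F) + w s * w t * 1 + k * 0 = w s * w t := by ring
        rw [this]; exact hprod
    · rw [three_apply, if_neg f1, if_neg f2, if_neg f3]; ring
    · rw [three_apply, if_neg g1, if_neg g2, if_neg g3]; ring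
  · have hk := reduce_neg X hHX hXS h2F hw (pr s) t hst
    have a1 : t.swap ≠ Sum.inl (pr s) :=
      swap_ne_of_pr_ne (by rw [pr_swap]; exact fun h => hst h.symm)
    have a2 : t.swap ≠ Sum.inr (pr s) :=
      swap_ne_of_pr_ne (by rw [pr_swap]; exact fun h => hst h.symm)
    have f1 : (Sum.inl l : Fin m ⊕ Fin m) ≠ t.swap :=
      swap_ne_of_pr_ne (by rw [pr_swap]; exact hlt)
    have f2 : (Sum.inl l : Fin m ⊕ Fin m) ≠ Sum.inl (pr s) := swap_ne_of_pr_ne hls
    have f3 : (Sum.inl l : Fin m ⊕ Fin m) ≠ Sum.inr (pr s) := swap_ne_of_pr_ne hls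
    have g1 : (Sum.inr l : Fin m ⊕ Fin m) ≠ t.swap :=
      swap_ne_of_pr_ne (by rw [pr_swap]; exact hlt)
    have g2 : (Sum.inr l : Fin m ⊕ Fin m) ≠ Sum.inl (pr s) := swap_ne_of_pr_ne hls
    have g3 : (Sum.inr l : Fin m ⊕ Fin m) ≠ Sum.inr (pr s) := swap_ne_of_pr_ne hls
    refine ⟨_, l, hk, ?_, ?_, ?_⟩
    · apply irr_of_coords (s := t.swap) (t := s)
      · rw [three_apply, if_pos rfl, if_neg a1, if_neg a2]; ring
      · rw [three_apply]
        rcases s with s | s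
        · have b1 : (Sum.inl s : Fin m ⊕ Fin m) ≠ t.swap := fun h => a1 h.symm
          have b2 : (Sum.inl s : Fin m ⊕ Fin m) ≠ Sum.inr (pr (Sum.inl s : Fin m ⊕ Fin m)) :=
            Sum.inl_ne_inr
          have b3 : (Sum.inl s : Fin m ⊕ Fin m) = Sum.inl (pr (Sum.inl s : Fin m ⊕ Fin m)) := rfl
          rw [if_neg b1, if_neg b2, if_pos b3]
          have : (0 : F) + w (Sum.inl (pr (Sum.inl s : Fin m ⊕ Fin m))) * w t * 1 +
              w (Sum.inr (pr (Sum.inl s : Fin m ⊕ Fin m))) * w t * 0 = w (Sum.inl s) * w t := by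
            show (0 : F) + w (Sum.inl s) * w t * 1 + w (Sum.inr s) * w t * 0 = _
            ring
          rw [this]; exact hprod
        · have b1 : (Sum.inr s : Fin m ⊕ Fin m) ≠ t.swap := fun h => a2 h.symm
          have b2 : (Sum.inr s : Fin m ⊕ Fin m) ≠ Sum.inl (pr (Sum.inr s : Fin m ⊕ Fin m)) :=
            Sum.inr_ne_inl
          have b3 : (Sum.inr s : Fin m ⊕ Fin m) = Sum.inr (pr (Sum.inr s : Fin m ⊕ Fin m)) := rfl
          rw [if_neg b1, if_neg b2, if_pos b3]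
          have : (0 : F) + w (Sum.inl (pr (Sum.inr s : Fin m ⊕ Fin m))) * w t * 0 +
              w (Sum.inr (pr (Sum.inr s : Fin m ⊕ Fin m))) * w t * 1 = w (Sum.inr s) * w t := by
            show (0 : F) + w (Sum.inl s) * w t * 0 + w (Sum.inr s) * w t * 1 = _
            ring
          rw [this]; exact hprod
    · rw [three_apply, if_neg f1, if_neg f2, if_neg f3]; ring
    · rw [three_apply, if_neg g1, if_neg g2, if_neg g3]; ring

include hHX hXS in
/-- an overgroup not inside the subfield group has a centre `ε(inl i) + μ ε(inl j)`, `μ ∉ F₀` -/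
lemma exists_normal_centre [Fintype F] (hm : 4 ≤ m)
    (hX : ¬ X ≤ Cfsg.Geo.subfieldSubgroup F₀ 1) :
    ∃ (i j : Fin m) (μ : F), i ≠ j ∧ μ ∉ F₀ ∧
      (ε m (Sum.inl i) + μ • ε m (Sum.inl j) : Fin m ⊕ Fin m → F) ∈ RC F₀ X := by
  obtain ⟨w, hirr, hw⟩ := exists_irr X hHX hXS (by omega) hX
  obtain ⟨w', z₀, hw', hirr', hz1, hz2⟩ := exists_zero_pair X hHX hXS hm hw hirr
  obtain ⟨a, μ, hpa, hμ, hall⟩ := zero_pair_move X hHX hXS hw' hirr' z₀ hz1 hz2
  rcases a with i | i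
  · exact ⟨i, z₀, μ, hpa, hμ, hall (Sum.inl z₀) rfl⟩
  · have h1 := hall (Sum.inr z₀) rfl
    have hJ : JG m F ∈ X := rat_mem X hHX (JG m F) JG_mem_spGL (J_entry_mem F₀)
    have h2 := mulVec_mem_RC X hXS hJ h1
    have h3 := smul_mem_RC X h2 (F₀.neg_mem F₀.one_mem)
    have e : (-1 : F) • (((JG m F : GL (Fin m ⊕ Fin m) F) :
        Matrix (Fin m ⊕ Fin m) (Fin m ⊕ Fin m) F) *ᵥ
          (ε m (Sum.inr i) + μ • ε m (Sum.inr z₀) : Fin m ⊕ Fin m → F)) =
        (ε m (Sum.inl i) + μ • ε m (Sum.inl z₀) : Fin m ⊕ Fin m → F) := by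
      funext x
      rw [JG_coe]
      rcases x with x | x
      · rw [Pi.smul_apply, J_mulVec_inl]
        simp [ε_apply]
      · rw [Pi.smul_apply, J_mulVec_inr]
        simp [ε_apply]
    rw [e] at h3
    exact ⟨i, z₀, μ, hpa, hμ, h3⟩

end Cfsg.Agent.Lib.Helper4.SubfSp
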