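import Mathlib
import Cfsg.Agent.Lib.Helper4.SubfSp5
import Cfsg.Agent.Lib.Helper4.SubfL12

set_option autoImplicit false

/-! Symplectic subfield subgroups (S5650): the Levi embedding of `GL_m`. -/

namespace Cfsg.Agent.Lib.Helper4.SubfSp

open Cfsg Matrix Cfsg.Agent.Lib.Helper5.Symp Cfsg.Agent.S5645 Cfsg.Agent.Lib.Helper4.SubfI

variable {F : Type*} [Field F] {m : ℕ} {F₀ : Subfield F}

/-- embed a vector into the first half -/
def inlV (a : Fin m → F) : Fin m ⊕ Fin m → F := Sum.elim a 0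

/-- embed a vector into the second half -/
def inrV (b : Fin m → F) : Fin m ⊕ Fin m → F := Sum.elim 0 b

lemma inlV_single (i : Fin m) (c : F) : inlV (Pi.single i c : Fin m → F) = Pi.single (Sum.inl i) c :=
  Sum.elim_single_zero i c

lemma inrV_single (i : Fin m) (c : F) : inrV (Pi.single i c : Fin m → F) = Pi.single (Sum.inr i) c :=
  Sum.elim_zero_single i c

lemma sympForm_halves (x y : Fin m ⊕ Fin m → F) :
    sympForm m F x y = (x ∘ Sum.inr) ⬝ᵥ (y ∘ Sum.inl) - (x ∘ Sum.inl) ⬝ᵥ (y ∘ Sum.inr) := by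
  rw [sympForm_eq_sum, dotProduct, dotProduct, ← Finset.sum_sub_distrib]
  rfl

/-- the matrix of the Levi embedding -/
noncomputable def leviM (A : GL (Fin m) F) : Matrix (Fin m ⊕ Fin m) (Fin m ⊕ Fin m) F :=
  Matrix.fromBlocks (A : Matrix (Fin m) (Fin m) F) 0 0
    ((A⁻¹ : GL (Fin m) F) : Matrix (Fin m) (Fin m) F)ᵀ

lemma leviM_one : leviM (1 : GL (Fin m) F) = 1 := by
  rw [leviM, inv_one, Units.val_one, Matrix.transpose_one, Matrix.fromBlocks_one]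

lemma leviM_mul (A B : GL (Fin m) F) : leviM (A * B) = leviM A * leviM B := by
  rw [leviM, leviM, leviM, Matrix.fromBlocks_multiply, _root_.mul_inv_rev, Units.val_mul,
    Units.val_mul, Matrix.transpose_mul]
  simp

/-- the Levi embedding `A ↦ diag(A, A⁻ᵀ)` -/
noncomputable def levi : GL (Fin m) F →* GL (Fin m ⊕ Fin m) F :=
  MonoidHom.toHomUnits
    { toFun := leviM
      map_one' := leviM_one
      map_mul' := leviM_mul }

lemma levi_coe (A : GL (Fin m) F) :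
    ((levi A : GL (Fin m ⊕ Fin m) F) : Matrix (Fin m ⊕ Fin m) (Fin m ⊕ Fin m) F) = leviM A := rfl

lemma levi_mulVec (A : GL (Fin m) F) (x : Fin m ⊕ Fin m → F) :
    ((levi A : GL (Fin m ⊕ Fin m) F) : Matrix (Fin m ⊕ Fin m) (Fin m ⊕ Fin m) F) *ᵥ x =
      Sum.elim ((A : Matrix (Fin m) (Fin m) F) *ᵥ (x ∘ Sum.inl))
        ((x ∘ Sum.inr) ᵥ* ((A⁻¹ : GL (Fin m) F) : Matrix (Fin m) (Fin m) F)) := by
  rw [levi_coe, leviM, Matrix.fromBlocks_mulVec, Matrix.zero_mulVec, Matrix.zero_mulVec, add_zero,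
    zero_add, Matrix.mulVec_transpose]

lemma levi_mem_spGL (A : GL (Fin m) F) : levi A ∈ spGL m F := by
  rw [mem_spGL_iff]
  intro u v
  rw [levi_mulVec, levi_mulVec, sympForm_halves, sympForm_halves]
  have e1 : (Sum.elim ((A : Matrix (Fin m) (Fin m) F) *ᵥ (u ∘ Sum.inl))
      ((u ∘ Sum.inr) ᵥ* ((A⁻¹ : GL (Fin m) F) : Matrix (Fin m) (Fin m) F))) ∘ Sum.inr =
      (u ∘ Sum.inr) ᵥ* ((A⁻¹ : GL (Fin m) F) : Matrix (Fin m) (Fin m) F) := rfl
  have e2 : (Sum.elim ((A : Matrix (Fin m) (Fin m) F) *ᵥ (u ∘ Sum.inl))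
      ((u ∘ Sum.inr) ᵥ* ((A⁻¹ : GL (Fin m) F) : Matrix (Fin m) (Fin m) F))) ∘ Sum.inl =
      (A : Matrix (Fin m) (Fin m) F) *ᵥ (u ∘ Sum.inl) := rfl
  have e3 : (Sum.elim ((A : Matrix (Fin m) (Fin m) F) *ᵥ (v ∘ Sum.inl))
      ((v ∘ Sum.inr) ᵥ* ((A⁻¹ : GL (Fin m) F) : Matrix (Fin m) (Fin m) F))) ∘ Sum.inr =
      (v ∘ Sum.inr) ᵥ* ((A⁻¹ : GL (Fin m) F) : Matrix (Fin m) (Fin m) F) := rfl
  have e4 : (Sum.elim ((A : Matrix (Fin m) (Fin m) F) *ᵥ (v ∘ Sum.inl))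
      ((v ∘ Sum.inr) ᵥ* ((A⁻¹ : GL (Fin m) F) : Matrix (Fin m) (Fin m) F))) ∘ Sum.inl =
      (A : Matrix (Fin m) (Fin m) F) *ᵥ (v ∘ Sum.inl) := rfl
  rw [e1, e2, e3, e4]
  have k : ((A⁻¹ : GL (Fin m) F) : Matrix (Fin m) (Fin m) F) * (A : Matrix (Fin m) (Fin m) F) = 1 := by
    rw [← Units.val_mul, inv_mul_cancel, Units.val_one]
  rw [Matrix.dotProduct_mulVec, Matrix.vecMul_vecMul, k, Matrix.vecMul_one,
    dotProduct_comm ((A : Matrix (Fin m) (Fin m) F) *ᵥ (u ∘ Sum.inl)),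
    Matrix.dotProduct_mulVec, Matrix.vecMul_vecMul, k, Matrix.vecMul_one,
    dotProduct_comm (v ∘ Sum.inr)]

lemma levi_entry_mem (F₀ : Subfield F) (A₀ : GL (Fin m) F₀) (s t : Fin m ⊕ Fin m) :
    ((levi (Matrix.GeneralLinearGroup.map (F₀.subtype : F₀ →+* F) A₀) : GL (Fin m ⊕ Fin m) F) :
      Matrix (Fin m ⊕ Fin m) (Fin m ⊕ Fin m) F) s t ∈ F₀ := by
  rw [levi_coe, leviM, ← map_inv]
  rcases s with s | s <;> rcases t with t | t
  · exact ((A₀ : Matrix (Fin m) (Fin m) F₀) s t).2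
  · exact F₀.zero_mem
  · exact F₀.zero_mem
  · exact (((A₀⁻¹ : GL (Fin m) F₀) : Matrix (Fin m) (Fin m) F₀) t s).2

/-- Siegel elements between the two halves are Levi images of linear transvections -/
lemma tau_eq_levi (a b : Fin m → F) (h : b ⬝ᵥ a = 0) :
    tau m (inlV a) (inrV b) = levi (Cfsg.Agent.Lib.Helper4.SubfL.T (-a) b) := by
  have h' : b ⬝ᵥ (-a) = 0 := by rw [dotProduct_neg, h, neg_zero]
  have hz : sympForm m F (inrV b) (inlV a) = 0 := by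
    rw [sympForm_halves]
    show b ⬝ᵥ a - (0 : Fin m → F) ⬝ᵥ (0 : Fin m → F) = 0
    rw [h, zero_dotProduct, sub_zero]
  apply gl_ext
  intro x
  rw [tau_mulVec m _ _ hz, levi_mulVec, Cfsg.Agent.Lib.Helper4.SubfL.T_inv h', neg_neg,
    Cfsg.Agent.Lib.Helper4.SubfL.T_mulVec h', Cfsg.Agent.Lib.Helper4.SubfL.T_vecMul h,
    sympForm_halves, sympForm_halves]
  have e1 : (inrV b : Fin m ⊕ Fin m → F) ∘ Sum.inl = 0 := rfl
  have e2 : (inrV b : Fin m ⊕ Fin m → F) ∘ Sum.inr = b := rfl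
  have e3 : (inlV a : Fin m ⊕ Fin m → F) ∘ Sum.inl = a := rfl
  have e4 : (inlV a : Fin m ⊕ Fin m → F) ∘ Sum.inr = 0 := rfl
  rw [e1, e2, e3, e4, dotProduct_zero, dotProduct_zero, zero_sub, sub_zero]
  funext s
  rcases s with s | s
  · simp only [Pi.add_apply, Pi.smul_apply, inlV, inrV, Sum.elim_inl, Sum.elim_inr, smul_eq_mul,
      Pi.zero_apply, Function.comp_apply, Pi.neg_apply]
    rw [dotProduct_comm b]
    ring
  · simp only [Pi.add_apply, Pi.smul_apply, inlV, inrV, Sum.elim_inl, Sum.elim_inr, smul_eq_mul,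
      Pi.zero_apply, Function.comp_apply, Pi.neg_apply]
    ring

end Cfsg.Agent.Lib.Helper4.SubfSp
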