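import Mathlib
import Cfsg.Agent.Lib.Helper4.SubfSp6
import Cfsg.Agent.Lib.Helper5.SLVec
import Cfsg.Agent.H9.SpLagB

set_option autoImplicit false

/-! Symplectic subfield subgroups (S5650): from an irrational centre to the whole group. -/

namespace Cfsg.Agent.Lib.Helper4.SubfSp

open Cfsg Matrix Cfsg.Agent.Lib.Helper5.Symp Cfsg.Agent.S5645 Cfsg.Agent.Lib.Helper4.SubfI

variable {F : Type*} [Field F] {m : ℕ} {F₀ : Subfield F}

section TCalc

lemma T_add' (v : Fin m ⊕ Fin m → F) (c d : F) : T m v (c + d) = T m v c * T m v d := by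
  apply gl_ext
  intro x
  rw [mul_mulVec, T_mulVec, T_mulVec, T_mulVec]
  simp only [sympForm_add_left, sympForm_smul_left, sympForm_self]
  module

lemma T_zero' (v : Fin m ⊕ Fin m → F) : T m v 0 = 1 := by
  apply gl_ext
  intro x
  rw [T_mulVec, zero_mul, zero_smul, add_zero, Units.val_one, Matrix.one_mulVec]

lemma T_centre_zero (c : F) : T m (0 : Fin m ⊕ Fin m → F) c = 1 := by
  apply gl_ext
  intro x
  rw [T_mulVec, smul_zero, add_zero, Units.val_one, Matrix.one_mulVec]

lemma T_neg' (v : Fin m ⊕ Fin m → F) (c : F) : T m v (-c) = (T m v c)⁻¹ := by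
  rw [eq_inv_iff_mul_eq_one, ← T_add', neg_add_cancel, T_zero']

lemma T_smul' (a : F) (v : Fin m ⊕ Fin m → F) (c : F) : T m (a • v) c = T m v (a ^ 2 * c) :=
  Units.ext (by rw [T_coe, T_coe, sympTransvection_smul])

end TCalc

/-- in a finite field every element is a difference of two squares, or a square -/
lemma mem_of_sq_mem [Fintype F] (S : AddSubgroup F) (h : ∀ a : F, a ^ 2 ∈ S) (c : F) : c ∈ S := by
  by_cases h2 : (2 : F) = 0
  · haveI : CharP F 2 := CharTwo.of_one_ne_zero_of_two_eq_zero one_ne_zero h2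
    obtain ⟨b, rfl⟩ := FiniteField.isSquare_of_char_two (ringChar.eq F 2) c
    rw [← sq]; exact h b
  · have : c = ((c + 1) / 2) ^ 2 - ((c - 1) / 2) ^ 2 := by
      field_simp
      ring
    rw [this]
    exact S.sub_mem (h _) (h _)

variable (X : Subgroup (GL (Fin m ⊕ Fin m) F))
variable (hHX : Cfsg.Geo.subfieldSubgroup F₀ (1 : GL (Fin m ⊕ Fin m) F) ⊓ Cfsg.spGL m F ≤ X)
variable (hXS : X ≤ Cfsg.spGL m F)

/-- parameters of transvections with a given centre lying in `X` -/
def parSub (v : Fin m ⊕ Fin m → F) : AddSubgroup F where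
  carrier := {c | T m v c ∈ X}
  zero_mem' := by
    show T m v 0 ∈ X
    rw [T_zero']; exact X.one_mem
  add_mem' := by
    intro a b ha hb
    show T m v (a + b) ∈ X
    rw [T_add']; exact X.mul_mem ha hb
  neg_mem' := by
    intro a ha
    show T m v (-a) ∈ X
    rw [T_neg']; exact X.inv_mem ha

lemma mem_parSub (v : Fin m ⊕ Fin m → F) (c : F) : c ∈ parSub X v ↔ T m v c ∈ X := Iff.rfl

include hHX hXS in
/-- if the Levi image of `SL_m` lies in `X`, every vector of the first half is a full centre -/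
lemma inlV_mem_SS [Fintype F] (hm : 3 ≤ m)
    (hL : ∀ A ∈ Cfsg.Geo.specialLinear (Fin m) F, levi A ∈ X) (x : Fin m → F) :
    inlV x ∈ SS m X := by
  have h1 : ∀ y : Fin m → F, y ≠ 0 → inlV y ∈ RC F₀ X := by
    intro y hy
    set i₀ : Fin m := ⟨0, by omega⟩ with hi₀
    have hne : (Pi.single i₀ 1 : Fin m → F) ≠ 0 := by
      intro h
      have := congrFun h i₀
      rw [Pi.single_eq_same, Pi.zero_apply] at this
      exact one_ne_zero this
    obtain ⟨g, hg⟩ := Cfsg.Agent.Lib.Helper5.SLTrans.exists_sl_vec m hm (Pi.single i₀ 1) y hne hy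
    have hgS : Matrix.SpecialLinearGroup.toGL g ∈ Cfsg.Geo.specialLinear (Fin m) F := by
      rw [Cfsg.Geo.specialLinear, MonoidHom.mem_ker]
      apply Units.ext
      rw [Matrix.GeneralLinearGroup.val_det_apply]
      exact g.2
    have hgX := hL _ hgS
    have h2 := mulVec_mem_RC X hXS hgX (rat_mem_RC X hHX (isRat_ε F₀ (Sum.inl i₀)))
    rw [levi_mulVec] at h2
    have e1 : (ε m (Sum.inl i₀) : Fin m ⊕ Fin m → F) ∘ Sum.inl = Pi.single i₀ 1 := by
      funext j
      simp [ε, Pi.single_apply]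
    have e2 : (ε m (Sum.inl i₀) : Fin m ⊕ Fin m → F) ∘ Sum.inr = 0 := by
      funext j
      simp [ε, Pi.single_apply]
    rw [e1, e2, Matrix.zero_vecMul] at h2
    have e3 : ((Matrix.SpecialLinearGroup.toGL g : GL (Fin m) F) : Matrix (Fin m) (Fin m) F) = g.1 :=
      rfl
    rw [e3, hg] at h2
    exact h2
  intro c
  by_cases hx : x = 0
  · have : inlV x = (0 : Fin m ⊕ Fin m → F) := by
      rw [hx]; funext s; rcases s with s | s <;> rfl
    rw [this, T_centre_zero]; exact X.one_mem
  rw [← mem_parSub]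
  apply mem_of_sq_mem
  intro a
  rw [mem_parSub]
  by_cases ha : a = 0
  · rw [ha, zero_pow two_ne_zero, T_zero']; exact X.one_mem
  · have h3 := h1 (a • x) (smul_ne_zero ha hx) 1 F₀.one_mem
    have e : inlV (a • x) = a • (inlV x : Fin m ⊕ Fin m → F) := by
      funext s; rcases s with s | s
      · rfl
      · simp [inlV]
    rw [e, T_smul', mul_one] at h3
    exact h3

end Cfsg.Agent.Lib.Helper4.SubfSp
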