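import Mathlib
import Cfsg.Agent.Lib.Helper4.SubfSp7

set_option autoImplicit false

/-! Symplectic subfield subgroups (S5650): the overgroup dichotomy for the standard structure. -/

namespace Cfsg.Agent.Lib.Helper4.SubfSp

open Cfsg Matrix Cfsg.Agent.Lib.Helper5.Symp Cfsg.Agent.S5645 Cfsg.Agent.Lib.Helper4.SubfI

variable {F : Type*} [Field F] {m : ℕ} {F₀ : Subfield F}

/-- the first half as a subspace -/
def EL (m : ℕ) (F : Type*) [Field F] : Submodule F (Fin m ⊕ Fin m → F) where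
  carrier := {x | ∀ i, x (Sum.inr i) = 0}
  add_mem' := by
    intro a b ha hb i
    rw [Pi.add_apply, ha i, hb i, add_zero]
  zero_mem' := fun _ => rfl
  smul_mem' := by
    intro c a ha i
    rw [Pi.smul_apply, ha i, smul_zero]

/-- the second half as a subspace -/
def ER (m : ℕ) (F : Type*) [Field F] : Submodule F (Fin m ⊕ Fin m → F) where
  carrier := {x | ∀ i, x (Sum.inl i) = 0}
  add_mem' := by
    intro a b ha hb i
    rw [Pi.add_apply, ha i, hb i, add_zero]
  zero_mem' := fun _ => rfl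
  smul_mem' := by
    intro c a ha i
    rw [Pi.smul_apply, ha i, smul_zero]

lemma eq_inlV_of_mem {x : Fin m ⊕ Fin m → F} (hx : x ∈ EL m F) : x = inlV (x ∘ Sum.inl) := by
  funext s
  rcases s with s | s
  · rfl
  · exact hx s

lemma eq_inrV_of_mem {x : Fin m ⊕ Fin m → F} (hx : x ∈ ER m F) : x = inrV (x ∘ Sum.inr) := by
  funext s
  rcases s with s | s
  · exact hx s
  · rfl

lemma EL_singular : Cfsg.Geo.IsTotallySingularFor (Cfsg.sympForm m F) (EL m F) := by
  intro u hu v hv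
  rw [sympForm_halves]
  have e1 : u ∘ Sum.inr = 0 := funext hu
  have e2 : v ∘ Sum.inr = 0 := funext hv
  rw [e1, e2, zero_dotProduct, dotProduct_zero, sub_zero]

lemma ER_singular : Cfsg.Geo.IsTotallySingularFor (Cfsg.sympForm m F) (ER m F) := by
  intro u hu v hv
  rw [sympForm_halves]
  have e1 : u ∘ Sum.inl = 0 := funext hu
  have e2 : v ∘ Sum.inl = 0 := funext hv
  rw [e1, e2, zero_dotProduct, dotProduct_zero, sub_zero]

lemma EL_ER_sum (v : Fin m ⊕ Fin m → F) : ∃ u ∈ EL m F, ∃ w ∈ ER m F, v = u + w := by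
  refine ⟨inlV (v ∘ Sum.inl), fun _ => rfl, inrV (v ∘ Sum.inr), fun _ => rfl, ?_⟩
  funext s
  rcases s with s | s
  · simp [inlV, inrV]
  · simp [inlV, inrV]

lemma J_mulVec_inlV (x : Fin m → F) : J (Fin m) F *ᵥ (inlV x) = inrV x := by
  funext s
  rcases s with s | s
  · rw [J_mulVec_inl]; simp [inlV, inrV]
  · rw [J_mulVec_inr]; simp [inlV, inrV]

variable (X : Subgroup (GL (Fin m ⊕ Fin m) F))
variable (hHX : Cfsg.Geo.subfieldSubgroup F₀ (1 : GL (Fin m ⊕ Fin m) F) ⊓ Cfsg.spGL m F ≤ X)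
variable (hXS : X ≤ Cfsg.spGL m F)

include hHX hXS in
/-- if the Levi image of `SL_m` lies in `X`, then `X` is the whole symplectic group -/
lemma spGL_le_of_levi [Fintype F] (hm : 3 ≤ m)
    (hL : ∀ A ∈ Cfsg.Geo.specialLinear (Fin m) F, levi A ∈ X) : spGL m F ≤ X := by
  have hJ : JG m F ∈ X := rat_mem X hHX (JG m F) JG_mem_spGL (J_entry_mem F₀)
  have hUS : ∀ u ∈ EL m F, u ∈ SS m X := by
    intro u hu
    rw [eq_inlV_of_mem hu]
    exact inlV_mem_SS X hHX hXS hm hL _
  have hWS : ∀ w ∈ ER m F, w ∈ SS m X := by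
    intro w hw
    rw [eq_inrV_of_mem hw, ← J_mulVec_inlV, ← JG_coe]
    exact mulVec_mem_SS m X hXS (JG m F) hJ _ (inlV_mem_SS X hHX hXS hm hL _)
  apply spGL_le
  intro v c
  exact Cfsg.Agent.H9.SpLag.SS_eq_univ_of m (EL m F) (ER m F) EL_singular ER_singular EL_ER_sum X hXS
    hUS hWS v c

include hHX hXS in
/-- an overgroup not inside the subfield group contains the Levi image of `SL_m` -/
lemma levi_SL_le [Fintype F] (hm : 7 ≤ m) (r : ℕ) (hr : r.Prime)
    (hcard : Fintype.card F = Nat.card F₀ ^ r)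
    (hX : ¬ X ≤ Cfsg.Geo.subfieldSubgroup F₀ 1) :
    ∀ A ∈ Cfsg.Geo.specialLinear (Fin m) F, levi A ∈ X := by
  obtain ⟨i, j, μ, hij, hμ, hc⟩ := exists_normal_centre X hHX hXS (by omega) hX
  obtain ⟨k, hki, hkj⟩ := exists_ne2 (by omega) i j
  set a' : Fin m → F := Pi.single i 1 + μ • Pi.single j 1 with ha'
  set b' : Fin m → F := -(Pi.single k 1) with hb'
  have ha : inlV a' = (ε m (Sum.inl i) + μ • ε m (Sum.inl j) : Fin m ⊕ Fin m → F) := by
    funext s
    rcases s with s | s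
    · simp [inlV, ha', ε, Pi.single_apply]
    · simp [inlV, ε, Pi.single_apply]
  have hb : inrV b' = (-(ε m (Sum.inr k)) : Fin m ⊕ Fin m → F) := by
    funext s
    rcases s with s | s
    · simp [inrV, ε, Pi.single_apply]
    · simp [inrV, hb', ε, Pi.single_apply]
  rw [← ha] at hc
  have hbr : IsRat F₀ (inrV b' : Fin m ⊕ Fin m → F) := by
    rw [hb]; exact (isRat_ε F₀ _).neg
  -- the rational Siegel element moving `a` to `a + b`
  have h1 : (inlV a' + inrV b' : Fin m ⊕ Fin m → F) ∈ RC F₀ X := by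
    have hh : tau m (ε m (Sum.inr k) : Fin m ⊕ Fin m → F) (ε m (Sum.inr i)) ∈ X :=
      rat_tau_mem X hHX (isRat_ε F₀ _) (isRat_ε F₀ _)
    have hperp : sympForm m F (ε m (Sum.inr i) : Fin m ⊕ Fin m → F) (ε m (Sum.inr k)) = 0 :=
      sympForm_ε_ε (fun h => hki h.symm)
    have h2 := mulVec_mem_RC X hXS hh hc
    rw [tau_mulVec m _ _ hperp, sympForm_ε_inr_right, sympForm_ε_inr_right] at h2
    have e : (inlV a' : Fin m ⊕ Fin m → F) + -(inlV a' : Fin m ⊕ Fin m → F) (Sum.inl i) •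
        (ε m (Sum.inr k) : Fin m ⊕ Fin m → F) + -(inlV a' : Fin m ⊕ Fin m → F) (Sum.inl k) •
        (ε m (Sum.inr i) : Fin m ⊕ Fin m → F) = inlV a' + inrV b' := by
      have v1 : (inlV a' : Fin m ⊕ Fin m → F) (Sum.inl i) = 1 := by
        simp [inlV, ha', Pi.single_apply, hij]
      have v2 : (inlV a' : Fin m ⊕ Fin m → F) (Sum.inl k) = 0 := by
        simp [inlV, ha', Pi.single_apply, hki, hkj]
      rw [v1, v2, hb]
      module
    rw [e] at h2
    exact h2
  have hdot : b' ⬝ᵥ a' = 0 := by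
    rw [hb', ha', neg_dotProduct, dotProduct_add, dotProduct_smul, single_dotProduct,
      single_dotProduct]
    simp [Pi.single_apply, hki, hkj]
  have h2 : tau m (inlV a') (inrV b') ∈ X := by
    unfold tau
    exact X.mul_mem (X.mul_mem (h1 1 F₀.one_mem) (hc _ (F₀.neg_mem F₀.one_mem)))
      (rat_T_mem X hHX hbr (F₀.neg_mem F₀.one_mem))
  rw [tau_eq_levi a' b' hdot] at h2
  have hdot' : b' ⬝ᵥ (-a') = 0 := by rw [dotProduct_neg, hdot, neg_zero]
  set D := Cfsg.Agent.Lib.Helper4.SubfL.T (-a') b' with hD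
  set Y : Subgroup (GL (Fin m) F) := X.comap levi with hYdef
  have hY : (Matrix.GeneralLinearGroup.map (F₀.subtype : F₀ →+* F)).range ≤ Y := by
    rintro _ ⟨A₀, rfl⟩
    exact rat_mem X hHX _ (levi_mem_spGL _) (levi_entry_mem F₀ A₀)
  have hDn : D ∉ Cfsg.Geo.subfieldSubgroup F₀ (1 : GL (Fin m) F) := by
    intro hmem
    obtain ⟨d, hd, hdr⟩ := mem_subfield_elim F₀ 1 D hmem
    simp only [Units.val_one, Matrix.one_mulVec] at hdr
    obtain ⟨b₁, hb₁, hg₁⟩ := hdr (Pi.single i 1) (IsRat.single i F₀.one_mem)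
    rw [hD, Cfsg.Agent.Lib.Helper4.SubfL.T_mulVec hdot'] at hg₁
    have hdF : d ∈ F₀ := by
      have h3 := congrFun hg₁ i
      have h4 : b' ⬝ᵥ (Pi.single i 1 : Fin m → F) = 0 := by
        rw [hb', neg_dotProduct, single_dotProduct]
        simp [Pi.single_apply, hki.symm]
      rw [h4, zero_smul, add_zero, Pi.single_eq_same, Pi.smul_apply, smul_eq_mul] at h3
      have hbi : b₁ i ≠ 0 := by
        intro h0
        rw [h0, mul_zero] at h3
        exact one_ne_zero h3
      have : d = (b₁ i)⁻¹ := by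
        field_simp
        exact h3.symm
      rw [this]
      exact F₀.inv_mem (hb₁ i)
    obtain ⟨b₂, hb₂, hg₂⟩ := hdr (Pi.single k 1) (IsRat.single k F₀.one_mem)
    rw [hD, Cfsg.Agent.Lib.Helper4.SubfL.T_mulVec hdot'] at hg₂
    have h3 := congrFun hg₂ j
    have h4 : b' ⬝ᵥ (Pi.single k 1 : Fin m → F) = -1 := by
      rw [hb', neg_dotProduct, single_dotProduct]
      simp
    rw [h4] at h3
    have h5 : ((Pi.single k 1 : Fin m → F) + (-1 : F) • -a') j = μ := by
      simp [ha', Pi.single_apply, hkj.symm, hij.symm]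
    rw [h5, Pi.smul_apply, smul_eq_mul] at h3
    apply hμ
    rw [h3]
    exact F₀.mul_mem hdF (hb₂ j)
  intro A hA
  exact Cfsg.Agent.Lib.Helper4.SubfL.specialLinear_le_of_not_mem Y hY hm r hr hcard D h2
    (Cfsg.Agent.Lib.Helper4.SubfL.T_mem_SL _ _) hDn hA

end Cfsg.Agent.Lib.Helper4.SubfSp
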