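import Mathlib
import Cfsg.Agent.Lib.Helper4.SubfSp8

set_option autoImplicit false

/-! Symplectic subfield subgroups (S5650): maximality for the standard structure. -/

namespace Cfsg.Agent.Lib.Helper4.SubfSp

open Cfsg Matrix Cfsg.Agent.Lib.Helper5.Symp Cfsg.Agent.S5645 Cfsg.Agent.Lib.Helper4.SubfI

variable {F : Type*} [Field F] [Fintype F] {m : ℕ} {F₀ : Subfield F}

/-- **overgroup dichotomy** for the symplectic subfield group -/
theorem overgroup_dichotomy (X : Subgroup (GL (Fin m ⊕ Fin m) F))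
    (hHX : Cfsg.Geo.subfieldSubgroup F₀ (1 : GL (Fin m ⊕ Fin m) F) ⊓ Cfsg.spGL m F ≤ X)
    (hXS : X ≤ Cfsg.spGL m F) (hm : 7 ≤ m) (r : ℕ) (hr : r.Prime)
    (hcard : Fintype.card F = Nat.card F₀ ^ r) :
    X ≤ Cfsg.Geo.subfieldSubgroup F₀ 1 ∨ X = Cfsg.spGL m F := by
  by_cases hX : X ≤ Cfsg.Geo.subfieldSubgroup F₀ 1
  · left; exact hX
  · right
    exact le_antisymm hXS (spGL_le_of_levi X hHX hXS (by omega)
      (levi_SL_le X hHX hXS hm r hr hcard hX))

/-- the subfield group is proper in the symplectic group -/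
lemma subfield_inf_lt (hm : 1 ≤ m) (r : ℕ) (hr : r.Prime)
    (hcard : Fintype.card F = Nat.card F₀ ^ r) :
    Cfsg.Geo.subfieldSubgroup F₀ (1 : GL (Fin m ⊕ Fin m) F) ⊓ Cfsg.spGL m F < Cfsg.spGL m F := by
  refine lt_of_le_of_ne inf_le_right ?_
  intro heq
  obtain ⟨c, hc⟩ := Cfsg.Agent.Lib.Helper4.SubfL.exists_not_mem_subfield r hr hcard
  set i₀ : Fin m := ⟨0, by omega⟩ with hi₀
  set v : Fin m ⊕ Fin m → F := ε m (Sum.inl i₀) with hv
  have hmem : T m v c ∈ Cfsg.Geo.subfieldSubgroup F₀ (1 : GL (Fin m ⊕ Fin m) F) := by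
    have : T m v c ∈
        Cfsg.Geo.subfieldSubgroup F₀ (1 : GL (Fin m ⊕ Fin m) F) ⊓ Cfsg.spGL m F := by
      rw [heq]; exact T_mem_spGL m v c
    exact this.1
  obtain ⟨d, hd, hdr⟩ := mem_subfield_elim F₀ 1 _ hmem
  simp only [Units.val_one, Matrix.one_mulVec] at hdr
  obtain ⟨b, hb, hgb⟩ := hdr v (isRat_ε F₀ _)
  rw [T_mulVec, sympForm_self, mul_zero, zero_smul, add_zero] at hgb
  have hdF : d ∈ F₀ := by
    have h1 := congrFun hgb (Sum.inl i₀)
    rw [hv, ε_apply, if_pos rfl, Pi.smul_apply, smul_eq_mul] at h1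
    have hbi : b (Sum.inl i₀) ≠ 0 := by
      intro h0
      rw [h0, mul_zero] at h1
      exact one_ne_zero h1
    have : d = (b (Sum.inl i₀))⁻¹ := by
      field_simp
      exact h1.symm
    rw [this]
    exact F₀.inv_mem (hb _)
  obtain ⟨b', hb', hgb'⟩ := hdr (ε m (Sum.inr i₀)) (isRat_ε F₀ _)
  rw [T_mulVec, hv, sympForm_ε_inl_right] at hgb'
  have h1 := congrFun hgb' (Sum.inl i₀)
  simp only [Pi.add_apply, Pi.smul_apply, smul_eq_mul, ε_apply, if_true, reduceCtorEq, if_false,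
    zero_add, mul_one] at h1
  apply hc
  rw [h1]
  exact F₀.mul_mem hdF (hb' _)

/-- **maximality of the subfield group in `Sp_2m(F)`** for the standard structure -/
theorem subfield_isMaximalIn_one (hm : 7 ≤ m) (r : ℕ) (hr : r.Prime)
    (hcard : Fintype.card F = Nat.card F₀ ^ r) :
    Cfsg.Geo.IsMaximalIn (Cfsg.spGL m F)
      (Cfsg.Geo.subfieldSubgroup F₀ (1 : GL (Fin m ⊕ Fin m) F) ⊓ Cfsg.spGL m F) := by
  refine ⟨subfield_inf_lt (by omega) r hr hcard, ?_⟩
  intro M hHM hMS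
  rcases overgroup_dichotomy M hHM hMS hm r hr hcard with h | h
  · left
    exact le_antisymm (le_inf h hMS) hHM
  · right; exact h

end Cfsg.Agent.Lib.Helper4.SubfSp
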