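import Mathlib
import Cfsg.Agent.Lib.Helper4.SubfSp9
import Cfsg.Agent.H9.SympEmbed

set_option autoImplicit false

/-! Symplectic subfield subgroups (S5650): reduction to the standard rational structure. -/

namespace Cfsg.Agent.Lib.Helper4.SubfSp

open Cfsg Matrix Cfsg.Agent.Lib.Helper5.Symp Cfsg.Agent.S5645 Cfsg.Agent.Lib.Helper4.SubfI

section Gen

variable {ι : Type} [Fintype ι] [DecidableEq ι] {F : Type*} [Field F] {F₀ : Subfield F}

/-- changing the structure matrix by a rational matrix does not change the subfield group -/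
lemma subfield_mul_rat (P A : GL ι F) (hA : ∀ i j, (A : Matrix ι ι F) i j ∈ F₀)
    (hA' : ∀ i j, ((A⁻¹ : GL ι F) : Matrix ι ι F) i j ∈ F₀) :
    Cfsg.Geo.subfieldSubgroup F₀ (P * A) = Cfsg.Geo.subfieldSubgroup F₀ P := by
  ext g
  constructor
  · intro hg
    obtain ⟨c, hc, h⟩ := mem_subfield_elim F₀ (P * A) g hg
    apply mem_subfield_of_smul F₀ P g c hc
    intro a ha
    obtain ⟨b, hb, hgb⟩ := h (((A⁻¹ : GL ι F) : Matrix ι ι F) *ᵥ a) (isRat_mulVec F₀ hA' ha)
    refine ⟨(A : Matrix ι ι F) *ᵥ b, isRat_mulVec F₀ hA hb, ?_⟩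
    rw [mul_mulVec, SubfI.mulVec_inv_mulVec, mul_mulVec] at hgb
    exact hgb
  · intro hg
    obtain ⟨c, hc, h⟩ := mem_subfield_elim F₀ P g hg
    apply mem_subfield_of_smul F₀ (P * A) g c hc
    intro a ha
    obtain ⟨b, hb, hgb⟩ := h ((A : Matrix ι ι F) *ᵥ a) (isRat_mulVec F₀ hA ha)
    refine ⟨((A⁻¹ : GL ι F) : Matrix ι ι F) *ᵥ b, isRat_mulVec F₀ hA' hb, ?_⟩
    rw [mul_mulVec, mul_mulVec, SubfI.mulVec_inv_mulVec]
    exact hgb

/-- the subfield group for `P` is the conjugate of the one for `1` -/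
lemma subfieldSubgroup_eq_map' (F₀ : Subfield F) (P : GL ι F) :
    Cfsg.Geo.subfieldSubgroup F₀ P =
      (Cfsg.Geo.subfieldSubgroup F₀ (1 : GL ι F)).map (MulAut.conj P).toMonoidHom := by
  have h1 : Cfsg.Geo.subfieldSubgroup F₀ (1 : GL ι F) =
      ((Matrix.GeneralLinearGroup.map (F₀.subtype : F₀ →+* F)).range ⊔
        Cfsg.Geo.scalars ι F) := by
    rw [Cfsg.Geo.subfieldSubgroup]
    ext x
    simp [Subgroup.mem_map]
  rw [h1]
  rfl

end Gen

variable {F : Type*} [Field F] {m : ℕ} {F₀ : Subfield F}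

/-- coercion of a rational vector -/
def up (u : Fin m ⊕ Fin m → F₀) : Fin m ⊕ Fin m → F := fun i => (u i : F)

lemma isRat_up (u : Fin m ⊕ Fin m → F₀) : IsRat F₀ (up u) := fun i => (u i).2

lemma up_add (u v : Fin m ⊕ Fin m → F₀) : up (u + v) = up u + up v := rfl

lemma up_smul (c : F₀) (u : Fin m ⊕ Fin m → F₀) : up (c • u) = (c : F) • up u := rfl

lemma up_single (j : Fin m ⊕ Fin m) : up (Pi.single j (1 : F₀)) = (Pi.single j (1 : F) : _ → F) := by
  funext i
  simp only [up, Pi.single_apply]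
  split_ifs <;> rfl

lemma up_eq_zero {u : Fin m ⊕ Fin m → F₀} (h : up u = 0) : u = 0 := by
  funext i
  have := congrFun h i
  exact Subtype.ext this

variable (P : GL (Fin m ⊕ Fin m) F) (ζ : F)

/-- the rational form attached to a form-rational structure -/
noncomputable def ratForm
    (hP : Cfsg.Geo.IsFormRationalStructure (Cfsg.sympForm m F) F₀ ζ P) :
    LinearMap.BilinForm F₀ (Fin m ⊕ Fin m → F₀) :=
  LinearMap.mk₂ F₀
    (fun u v => ⟨ζ * sympForm m F ((P : Matrix (Fin m ⊕ Fin m) (Fin m ⊕ Fin m) F) *ᵥ up u)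
      ((P : Matrix (Fin m ⊕ Fin m) (Fin m ⊕ Fin m) F) *ᵥ up v), hP _ _ (isRat_up u) (isRat_up v)⟩)
    (by
      intro u u' v
      apply Subtype.ext
      show ζ * sympForm m F (_ *ᵥ up (u + u')) _ = ζ * sympForm m F _ _ + ζ * sympForm m F _ _
      rw [up_add, Matrix.mulVec_add, sympForm_add_left, mul_add])
    (by
      intro c u v
      apply Subtype.ext
      show ζ * sympForm m F (_ *ᵥ up (c • u)) _ = (c : F) * (ζ * sympForm m F _ _)
      rw [up_smul, Matrix.mulVec_smul, sympForm_smul_left]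
      ring)
    (by
      intro u v v'
      apply Subtype.ext
      show ζ * sympForm m F _ (_ *ᵥ up (v + v')) = ζ * sympForm m F _ _ + ζ * sympForm m F _ _
      rw [up_add, Matrix.mulVec_add, sympForm_add_right, mul_add])
    (by
      intro c u v
      apply Subtype.ext
      show ζ * sympForm m F _ (_ *ᵥ up (c • v)) = (c : F) * (ζ * sympForm m F _ _)
      rw [up_smul, Matrix.mulVec_smul, sympForm_smul_right]
      ring)

variable {P ζ}

lemma ratForm_apply (hP : Cfsg.Geo.IsFormRationalStructure (Cfsg.sympForm m F) F₀ ζ P)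
    (u v : Fin m ⊕ Fin m → F₀) :
    ((ratForm P ζ hP u v : F₀) : F) =
      ζ * sympForm m F ((P : Matrix (Fin m ⊕ Fin m) (Fin m ⊕ Fin m) F) *ᵥ up u)
        ((P : Matrix (Fin m ⊕ Fin m) (Fin m ⊕ Fin m) F) *ᵥ up v) := rfl

lemma ratForm_isAlt (hP : Cfsg.Geo.IsFormRationalStructure (Cfsg.sympForm m F) F₀ ζ P) :
    (ratForm P ζ hP).IsAlt := by
  intro u
  apply Subtype.ext
  rw [ratForm_apply, sympForm_self, mul_zero]
  rfl

/-- a vector orthogonal to all `P e_j` vanishes -/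
lemma eq_zero_of_perp_cols (x : Fin m ⊕ Fin m → F)
    (h : ∀ j, sympForm m F x ((P : Matrix (Fin m ⊕ Fin m) (Fin m ⊕ Fin m) F) *ᵥ Pi.single j 1) = 0) :
    x = 0 := by
  by_contra hx
  obtain ⟨z, hz⟩ := exists_sympForm_ne_zero m hx
  apply hz
  have key : ∀ y, sympForm m F x ((P : Matrix (Fin m ⊕ Fin m) (Fin m ⊕ Fin m) F) *ᵥ y) =
      (x ᵥ* (J (Fin m) F * (P : Matrix (Fin m ⊕ Fin m) (Fin m ⊕ Fin m) F))) ⬝ᵥ y := by
    intro y
    unfold sympForm
    rw [Matrix.mulVec_mulVec, Matrix.dotProduct_mulVec]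
  have h0 : x ᵥ* (J (Fin m) F * (P : Matrix (Fin m ⊕ Fin m) (Fin m ⊕ Fin m) F)) = 0 := by
    funext j
    have := h j
    rw [key, dotProduct_single, mul_one] at this
    exact this
  have : z = (P : Matrix (Fin m ⊕ Fin m) (Fin m ⊕ Fin m) F) *ᵥ
      (((P⁻¹ : GL (Fin m ⊕ Fin m) F) : Matrix (Fin m ⊕ Fin m) (Fin m ⊕ Fin m) F) *ᵥ z) := by
    rw [SubfI.mulVec_inv_mulVec]
  rw [this, key, h0, zero_dotProduct]

lemma ratForm_nondegenerate (hζ : ζ ≠ 0)
    (hP : Cfsg.Geo.IsFormRationalStructure (Cfsg.sympForm m F) F₀ ζ P) :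
    (ratForm P ζ hP).Nondegenerate := by
  have hleft : ∀ u : Fin m ⊕ Fin m → F₀, (∀ v, ratForm P ζ hP u v = 0) → u = 0 := by
    intro u hu
    apply up_eq_zero
    have h1 : (P : Matrix (Fin m ⊕ Fin m) (Fin m ⊕ Fin m) F) *ᵥ up u = 0 := by
      apply eq_zero_of_perp_cols (P := P)
      intro j
      have h2 := congrArg Subtype.val (hu (Pi.single j 1))
      rw [ratForm_apply, up_single] at h2
      rcases mul_eq_zero.1 h2 with h3 | h3
      · exact absurd h3 hζ
      · exact h3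
    have := congrArg (fun y => ((P⁻¹ : GL (Fin m ⊕ Fin m) F) :
      Matrix (Fin m ⊕ Fin m) (Fin m ⊕ Fin m) F) *ᵥ y) h1
    simp only [SubfI.inv_mulVec_mulVec, Matrix.mulVec_zero] at this
    exact this
  refine ⟨hleft, ?_⟩
  intro v hv
  apply hleft
  intro u
  rw [← (ratForm_isAlt hP).neg_eq, hv u, neg_zero]

end Cfsg.Agent.Lib.Helper4.SubfSp
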