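import Mathlib
import Cfsg.Agent.Lib.Helper4.SubfSp10

set_option autoImplicit false

/-! Symplectic subfield subgroups (S5650): normalising the structure, the final theorem. -/

namespace Cfsg.Agent.Lib.Helper4.SubfSp

open Cfsg Matrix Cfsg.Agent.Lib.Helper5.Symp Cfsg.Agent.S5645 Cfsg.Agent.Lib.Helper4.SubfI

variable {F : Type*} [Field F] {m : ℕ} {F₀ : Subfield F}

lemma J_coe (F₀ : Subfield F) (i j : Fin m ⊕ Fin m) :
    ((J (Fin m) F₀ i j : F₀) : F) = J (Fin m) F i j := by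
  rcases i with i | i <;> rcases j with j | j
  · simp [J]
  · by_cases h : i = j <;> simp [J, Matrix.one_apply, h]
  · by_cases h : i = j <;> simp [J, Matrix.one_apply, h]
  · simp [J]

lemma entry_eq_form (M : Matrix (Fin m ⊕ Fin m) (Fin m ⊕ Fin m) F) (i j : Fin m ⊕ Fin m) :
    M i j = (Pi.single i 1 : Fin m ⊕ Fin m → F) ⬝ᵥ (M *ᵥ Pi.single j 1) := by
  rw [single_dotProduct, one_mul, Matrix.mulVec_single_one]
  rfl

variable {P : GL (Fin m ⊕ Fin m) F} {ζ : F}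

/-- a form-rational structure can be normalised to a similitude -/
lemma exists_normal_structure [Fintype F] (hζ : ζ ≠ 0)
    (hP : Cfsg.Geo.IsFormRationalStructure (Cfsg.sympForm m F) F₀ ζ P) :
    ∃ P' : GL (Fin m ⊕ Fin m) F,
      Cfsg.Geo.subfieldSubgroup F₀ P' = Cfsg.Geo.subfieldSubgroup F₀ P ∧
      ∀ x y, ζ * sympForm m F ((P' : Matrix (Fin m ⊕ Fin m) (Fin m ⊕ Fin m) F) *ᵥ x)
        ((P' : Matrix (Fin m ⊕ Fin m) (Fin m ⊕ Fin m) F) *ᵥ y) = sympForm m F x y := by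
  classical
  have hdim : Module.finrank F₀ (Fin m ⊕ Fin m → F₀) = 2 * m := by
    rw [Module.finrank_fintype_fun_eq_card, Fintype.card_sum, Fintype.card_fin]; ring
  obtain ⟨b, hb⟩ := Cfsg.Agent.H9.SympEmbed.exists_symplectic_basis (ratForm P ζ hP)
    (ratForm_nondegenerate hζ hP) (ratForm_isAlt hP) m hdim
  set e₀ := Pi.basisFun F₀ (Fin m ⊕ Fin m) with he₀
  let A₀ : GL (Fin m ⊕ Fin m) F₀ := ⟨e₀.toMatrix b, b.toMatrix e₀,
    Module.Basis.toMatrix_mul_toMatrix_flip _ _, Module.Basis.toMatrix_mul_toMatrix_flip _ _⟩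
  set A := Matrix.GeneralLinearGroup.map (F₀.subtype : F₀ →+* F) A₀ with hA
  have hAent : ∀ i j, (A : Matrix (Fin m ⊕ Fin m) (Fin m ⊕ Fin m) F) i j = ((b j i : F₀) : F) := by
    intro i j
    rfl
  refine ⟨P * A, subfield_mul_rat P A ?_ ?_, ?_⟩
  · intro i j
    rw [hAent]
    exact (b j i).2
  · intro i j
    rw [hA, ← map_inv]
    exact (((A₀⁻¹ : GL (Fin m ⊕ Fin m) F₀) : Matrix (Fin m ⊕ Fin m) (Fin m ⊕ Fin m) F₀) i j).2
  · have hcol : ∀ j, (A : Matrix (Fin m ⊕ Fin m) (Fin m ⊕ Fin m) F) *ᵥ Pi.single j 1 = up (b j) := by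
      intro j
      funext i
      rw [Matrix.mulVec_single_one]
      exact hAent i j
    have hPA : ∀ j, ((P * A : GL (Fin m ⊕ Fin m) F) : Matrix (Fin m ⊕ Fin m) (Fin m ⊕ Fin m) F) *ᵥ
        Pi.single j 1 = (P : Matrix (Fin m ⊕ Fin m) (Fin m ⊕ Fin m) F) *ᵥ up (b j) := by
      intro j
      rw [mul_mulVec, hcol]
    set Q := ((P * A : GL (Fin m ⊕ Fin m) F) : Matrix (Fin m ⊕ Fin m) (Fin m ⊕ Fin m) F) with hQ
    have hG : ζ • (Qᵀ * J (Fin m) F * Q) = J (Fin m) F := by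
      ext i j
      rw [Matrix.smul_apply, smul_eq_mul, entry_eq_form (Qᵀ * J (Fin m) F * Q),
        ← sympForm_mulVec_mulVec, hPA, hPA, ← ratForm_apply hP, hb, J_coe]
    intro x y
    rw [sympForm_mulVec_mulVec, ← smul_eq_mul, ← dotProduct_smul, ← Matrix.smul_mulVec, hG]
    rfl

/-- conjugation by a similitude preserves the symplectic group -/
lemma spGL_map_conj (hζ : ζ ≠ 0) (P' : GL (Fin m ⊕ Fin m) F)
    (hsim : ∀ x y, ζ * sympForm m F ((P' : Matrix (Fin m ⊕ Fin m) (Fin m ⊕ Fin m) F) *ᵥ x)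
        ((P' : Matrix (Fin m ⊕ Fin m) (Fin m ⊕ Fin m) F) *ᵥ y) = sympForm m F x y) :
    (spGL m F).map (MulAut.conj P').toMonoidHom = spGL m F := by
  have h1 : ∀ a b, sympForm m F ((P' : Matrix (Fin m ⊕ Fin m) (Fin m ⊕ Fin m) F) *ᵥ a)
      ((P' : Matrix (Fin m ⊕ Fin m) (Fin m ⊕ Fin m) F) *ᵥ b) = ζ⁻¹ * sympForm m F a b := by
    intro a b
    rw [← hsim a b]
    field_simp
  have h2 : ∀ a b, sympForm m F
      (((P'⁻¹ : GL (Fin m ⊕ Fin m) F) : Matrix (Fin m ⊕ Fin m) (Fin m ⊕ Fin m) F) *ᵥ a)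
      (((P'⁻¹ : GL (Fin m ⊕ Fin m) F) : Matrix (Fin m ⊕ Fin m) (Fin m ⊕ Fin m) F) *ᵥ b) =
      ζ * sympForm m F a b := by
    intro a b
    have := hsim (((P'⁻¹ : GL (Fin m ⊕ Fin m) F) : Matrix (Fin m ⊕ Fin m) (Fin m ⊕ Fin m) F) *ᵥ a)
      (((P'⁻¹ : GL (Fin m ⊕ Fin m) F) : Matrix (Fin m ⊕ Fin m) (Fin m ⊕ Fin m) F) *ᵥ b)
    rw [SubfI.mulVec_inv_mulVec, SubfI.mulVec_inv_mulVec] at this
    exact this.symm
  ext g
  constructor
  · rintro ⟨y, hy, rfl⟩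
    show P' * y * P'⁻¹ ∈ spGL m F
    have hy : y ∈ spGL m F := hy
    rw [mem_spGL_iff] at hy ⊢
    intro u v
    rw [mul_mulVec, mul_mulVec, mul_mulVec, mul_mulVec, h1, hy, h2, ← mul_assoc,
      inv_mul_cancel₀ hζ, one_mul]
  · intro hg
    refine ⟨P'⁻¹ * g * P', ?_, ?_⟩
    · show P'⁻¹ * g * P' ∈ spGL m F
      rw [mem_spGL_iff] at hg ⊢
      intro u v
      rw [mul_mulVec, mul_mulVec, mul_mulVec, mul_mulVec, h2, hg, hsim]
    · show P' * (P'⁻¹ * g * P') * P'⁻¹ = g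
      group

/-- **maximality of the subfield group in `Sp_2m(F)`** -/
theorem subfield_isMaximalIn [Fintype F] (hm : 7 ≤ m) (r : ℕ) (hr : r.Prime)
    (hcard : Fintype.card F = Nat.card F₀ ^ r) (hζ : ζ ≠ 0)
    (hP : Cfsg.Geo.IsFormRationalStructure (Cfsg.sympForm m F) F₀ ζ P) :
    Cfsg.Geo.IsMaximalIn (Cfsg.spGL m F) (Cfsg.Geo.subfieldSubgroup F₀ P ⊓ Cfsg.spGL m F) := by
  obtain ⟨P', hP'eq, hsim⟩ := exists_normal_structure hζ hP
  rw [← hP'eq]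
  have h := Cfsg.Agent.Lib.Helper4.SubfL.isMaximalIn_map (MulAut.conj P')
    (subfield_isMaximalIn_one (F₀ := F₀) hm r hr hcard)
  have hmap := spGL_map_conj hζ P' hsim
  rw [hmap] at h
  have hinj : Function.Injective (MulAut.conj P').toMonoidHom := (MulAut.conj P').injective
  rw [Subgroup.map_inf _ _ _ hinj, hmap, ← subfieldSubgroup_eq_map'] at h
  exact h

end Cfsg.Agent.Lib.Helper4.SubfSp
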