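import Mathlib
import Cfsg.Prelude.Def_PLocal
import Cfsg.Agent.S0597

set_option autoImplicit false

namespace Cfsg.Agent.Lib.Helper4.SubnPair

open scoped commutatorElement

variable {G : Type*} [Group G]

/-- the conjugate subgroup `g W g⁻¹` -/
def cj (g : G) (W : Subgroup G) : Subgroup G := W.map (MulAut.conj g).toMonoidHom

theorem mem_cj {g y : G} {W : Subgroup G} : y ∈ cj g W ↔ g⁻¹ * y * g ∈ W := by
  unfold cj
  constructor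
  · rintro ⟨w, hw, rfl⟩
    have : g⁻¹ * ((MulAut.conj g).toMonoidHom w) * g = w := by
      show g⁻¹ * (g * w * g⁻¹) * g = w
      group
    rw [this]; exact hw
  · intro h
    refine ⟨g⁻¹ * y * g, h, ?_⟩
    show g * (g⁻¹ * y * g) * g⁻¹ = y
    group

theorem conj_mem_cj {g v : G} {W : Subgroup G} (hv : v ∈ W) : g * v * g⁻¹ ∈ cj g W := by
  rw [mem_cj]
  have : g⁻¹ * (g * v * g⁻¹) * g = v := by group
  rw [this]; exact hv

theorem cj_eq_iff {g : G} {W : Subgroup G} :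
    cj g W = W ↔ g ∈ Subgroup.normalizer (W : Set G) :=
  Subgroup.mem_normalizer_iff_map_conj_eq.symm

theorem card_cj (g : G) (W : Subgroup G) : Nat.card (cj g W) = Nat.card W :=
  Subgroup.card_map_of_injective (MulAut.conj g).injective

theorem cj_comm (g : G) (V E : Subgroup G) : cj g ⁅V, E⁆ = ⁅cj g V, cj g E⁆ :=
  Subgroup.map_commutator _ _ _

theorem cj_mono (g : G) {A B : Subgroup G} (h : A ≤ B) : cj g A ≤ cj g B :=
  Subgroup.map_mono h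

theorem cj_inv_cj (g : G) (W : Subgroup G) : cj g⁻¹ (cj g W) = W := by
  ext y
  rw [mem_cj, mem_cj]
  have : g⁻¹ * (g⁻¹⁻¹ * y * g⁻¹) * g = y := by group
  rw [this]

theorem cj_cj_inv (g : G) (W : Subgroup G) : cj g (cj g⁻¹ W) = W := by
  have := cj_inv_cj g⁻¹ W
  rwa [inv_inv] at this

theorem cj_bot (g : G) : cj g (⊥ : Subgroup G) = ⊥ := Subgroup.map_bot _

theorem cj_le_normalizer {g : G} {A B : Subgroup G}
    (h : A ≤ Subgroup.normalizer (B : Set G)) :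
    cj g A ≤ Subgroup.normalizer ((cj g B : Subgroup G) : Set G) := by
  intro y hy
  rw [mem_cj] at hy
  have h1 := h hy
  rw [Subgroup.mem_normalizer_iff]
  intro z
  rw [mem_cj, mem_cj]
  have h2 := Subgroup.mem_normalizer_iff.1 h1 (g⁻¹ * z * g)
  have e : g⁻¹ * y * g * (g⁻¹ * z * g) * (g⁻¹ * y * g)⁻¹ = g⁻¹ * (y * z * y⁻¹) * g := by group
  rw [e] at h2
  exact h2

/-- the key computation: two elements of `E₂` moving `W₁` agree on `W₁` -/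
theorem swap_aux {V E₁ E₂ : Subgroup G} (hVc : ∀ s ∈ V, ∀ t ∈ V, s * t = t * s)
    (hE₁V : E₁ ≤ Subgroup.normalizer (V : Set G))
    {x : G} (hx : x ∈ E₁) (hfix : ⁅V, E₂⁆ ⊓ cj x ⁅V, E₂⁆ = ⊥)
    {g g' : G} (hg : g ∈ E₂) (hg' : g' ∈ E₂)
    (hcg : E₁ ≤ Subgroup.centralizer ((cj g ⁅V, E₁⁆ : Subgroup G) : Set G))
    (hcg' : E₁ ≤ Subgroup.centralizer ((cj g' ⁅V, E₁⁆ : Subgroup G) : Set G)) :
    g⁻¹ * g' ∈ Subgroup.centralizer ((⁅V, E₁⁆ : Subgroup G) : Set G) := by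
  have hW₁V : ⁅V, E₁⁆ ≤ V := Subgroup.le_normalizer_iff_commutator_le_left.1 hE₁V
  rw [Subgroup.mem_centralizer_iff]
  intro v hv
  have hvV : v ∈ V := hW₁V hv
  set u := (g * v * g⁻¹) * (g' * v * g'⁻¹)⁻¹ with hu
  have h1 : g * v * g⁻¹ * v⁻¹ ∈ ⁅V, E₂⁆ := by
    rw [Subgroup.commutator_comm]
    exact Subgroup.commutator_mem_commutator hg hvV
  have h2 : g' * v * g'⁻¹ * v⁻¹ ∈ ⁅V, E₂⁆ := by
    rw [Subgroup.commutator_comm]
    exact Subgroup.commutator_mem_commutator hg' hvV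
  have hu2 : u ∈ ⁅V, E₂⁆ := by
    have : u = (g * v * g⁻¹ * v⁻¹) * (g' * v * g'⁻¹ * v⁻¹)⁻¹ := by rw [hu]; group
    rw [this]
    exact Subgroup.mul_mem _ h1 (Subgroup.inv_mem _ h2)
  have c1 : (g * v * g⁻¹) * x = x * (g * v * g⁻¹) :=
    Subgroup.mem_centralizer_iff.1 (hcg hx) _ (conj_mem_cj hv)
  have c2 : (g' * v * g'⁻¹) * x = x * (g' * v * g'⁻¹) :=
    Subgroup.mem_centralizer_iff.1 (hcg' hx) _ (conj_mem_cj hv)
  have hxu : x * u * x⁻¹ = u := by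
    rw [hu]
    have c2' : (g' * v * g'⁻¹)⁻¹ * x⁻¹ = x⁻¹ * (g' * v * g'⁻¹)⁻¹ := by
      rw [← mul_inv_rev, ← mul_inv_rev, c2]
    calc x * (g * v * g⁻¹ * (g' * v * g'⁻¹)⁻¹) * x⁻¹
        = (x * (g * v * g⁻¹)) * ((g' * v * g'⁻¹)⁻¹ * x⁻¹) := by group
      _ = ((g * v * g⁻¹) * x) * (x⁻¹ * (g' * v * g'⁻¹)⁻¹) := by rw [c1, c2']
      _ = _ := by group
  have hu3 : u ∈ cj x ⁅V, E₂⁆ := by
    rw [← hxu]; exact conj_mem_cj hu2
  have hu1 : u = 1 := by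
    have : u ∈ ⁅V, E₂⁆ ⊓ cj x ⁅V, E₂⁆ := Subgroup.mem_inf.2 ⟨hu2, hu3⟩
    rwa [hfix, Subgroup.mem_bot] at this
  have heq : g * v * g⁻¹ = g' * v * g'⁻¹ := by
    rw [hu, mul_inv_eq_one] at hu1
    exact hu1
  calc v * (g⁻¹ * g') = g⁻¹ * (g * v * g⁻¹) * g' := by group
    _ = g⁻¹ * (g' * v * g'⁻¹) * g' := by rw [heq]
    _ = g⁻¹ * g' * v := by group


theorem comm_of_elem' {p : ℕ} {V : Subgroup G} (hV : Cfsg.IsElementaryAbelian p V) :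
    ∀ s ∈ V, ∀ t ∈ V, s * t = t * s := fun s hs t ht =>
  congrArg Subtype.val (hV.1.is_comm.comm ⟨s, hs⟩ ⟨t, ht⟩)

theorem norm_comm' {V A B : Subgroup G} (hV : B ≤ Subgroup.normalizer (V : Set G))
    (hA : B ≤ Subgroup.normalizer (A : Set G)) :
    B ≤ Subgroup.normalizer ((⁅V, A⁆ : Subgroup G) : Set G) := by
  intro g hg
  have h1 := Subgroup.mem_normalizer_iff_map_conj_eq.1 (hV hg)
  have h2 := Subgroup.mem_normalizer_iff_map_conj_eq.1 (hA hg)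
  rw [Subgroup.mem_normalizer_iff_map_conj_eq, Subgroup.map_commutator, h1, h2]

theorem normalizer_inf_le (A B : Subgroup G) :
    Subgroup.normalizer (A : Set G) ⊓ Subgroup.normalizer (B : Set G) ≤
      Subgroup.normalizer ((A ⊓ B : Subgroup G) : Set G) := by
  intro g hg
  obtain ⟨h1, h2⟩ := Subgroup.mem_inf.1 hg
  rw [Subgroup.mem_normalizer_iff] at h1 h2 ⊢
  intro x
  rw [Subgroup.mem_inf, Subgroup.mem_inf, ← h1 x, ← h2 x]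

/-- `a ↦ [t, a]` is injective on a subgroup `A` of the abelian `V` meeting its conjugate trivially -/
theorem comm_injOn {V A : Subgroup G} (hVc : ∀ s ∈ V, ∀ t ∈ V, s * t = t * s) {t : G}
    (ht : t ∈ Subgroup.normalizer (V : Set G)) (hAV : A ≤ V) (hA : A ⊓ cj t A = ⊥)
    {a a' : G} (ha : a ∈ A) (ha' : a' ∈ A) (heq : t * a * t⁻¹ * a⁻¹ = t * a' * t⁻¹ * a'⁻¹) :
    a = a' := by
  have hta : t * a * t⁻¹ ∈ V := (Subgroup.mem_normalizer_iff.1 ht a).1 (hAV ha)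
  have hta' : t * a' * t⁻¹ ∈ V := (Subgroup.mem_normalizer_iff.1 ht a').1 (hAV ha')
  set u := a'⁻¹ * a with hu
  have huA : u ∈ A := A.mul_mem (A.inv_mem ha') ha
  have h1 : t * u * t⁻¹ = u := by
    have e1 : t * u * t⁻¹ = (t * a' * t⁻¹)⁻¹ * (t * a * t⁻¹) := by rw [hu]; group
    have e2 : t * a * t⁻¹ = t * a' * t⁻¹ * a'⁻¹ * a := by
      rw [← heq]; group
    rw [e1, e2]
    have c1 := hVc _ hta' _ (V.inv_mem (hAV ha'))
    calc (t * a' * t⁻¹)⁻¹ * (t * a' * t⁻¹ * a'⁻¹ * a)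
        = ((t * a' * t⁻¹)⁻¹ * (t * a' * t⁻¹)) * a'⁻¹ * a := by group
      _ = u := by rw [inv_mul_cancel, one_mul]
  have h2 : u ∈ cj t A := by rw [← h1]; exact conj_mem_cj huA
  have h3 : u ∈ A ⊓ cj t A := Subgroup.mem_inf.2 ⟨huA, h2⟩
  rw [hA, Subgroup.mem_bot, hu, inv_mul_eq_one] at h3
  exact h3.symm

/-- the contradiction step: if elements of both groups move the other module, `E₂` has order `≤ 2` -/
theorem swap [Finite G] {V E₁ E₂ : Subgroup G} (hVc : ∀ s ∈ V, ∀ t ∈ V, s * t = t * s)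
    (hE₁V : E₁ ≤ Subgroup.normalizer (V : Set G)) (hE₂V : E₂ ≤ Subgroup.normalizer (V : Set G))
    (hfaith : E₂ ⊓ Subgroup.centralizer ((⁅V, E₂⁆ : Subgroup G) : Set G) = ⊥)
    {x : G} (hx : x ∈ E₁) (hfix : ⁅V, E₂⁆ ⊓ cj x ⁅V, E₂⁆ = ⊥)
    (hBP : ∀ g ∈ E₂, g ∉ Subgroup.normalizer ((⁅V, E₁⁆ : Subgroup G) : Set G) →
      ⁅V, E₁⁆ ⊓ cj g ⁅V, E₁⁆ = ⊥ ∧
      E₁ ≤ Subgroup.centralizer ((cj g ⁅V, E₁⁆ : Subgroup G) : Set G))
    {g₀ : G} (hg₀ : g₀ ∈ E₂)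
    (hg₀N : g₀ ∉ Subgroup.normalizer ((⁅V, E₁⁆ : Subgroup G) : Set G)) :
    Nat.card E₂ ≤ 2 := by
  have hW₁V : ⁅V, E₁⁆ ≤ V := Subgroup.le_normalizer_iff_commutator_le_left.1 hE₁V
  have hW₂V : ⁅V, E₂⁆ ≤ V := Subgroup.le_normalizer_iff_commutator_le_left.1 hE₂V
  -- (a)
  have ha : ∀ g ∈ E₂, g ∉ Subgroup.normalizer ((⁅V, E₁⁆ : Subgroup G) : Set G) →
      g₀⁻¹ * g ∈ Subgroup.centralizer ((⁅V, E₁⁆ : Subgroup G) : Set G) := fun g hg hgN =>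
    swap_aux hVc hE₁V hx hfix hg₀ hg (hBP g₀ hg₀ hg₀N).2 (hBP g hg hgN).2
  -- (b)
  have hb : ∀ n ∈ E₂, n ∈ Subgroup.normalizer ((⁅V, E₁⁆ : Subgroup G) : Set G) →
      n ∈ Subgroup.centralizer ((⁅V, E₁⁆ : Subgroup G) : Set G) := by
    intro n hn hnN
    have h1 : g₀ * n ∉ Subgroup.normalizer ((⁅V, E₁⁆ : Subgroup G) : Set G) := by
      intro hc
      apply hg₀N
      have : g₀ = (g₀ * n) * n⁻¹ := by group
      rw [this]
      exact Subgroup.mul_mem _ hc (Subgroup.inv_mem _ hnN)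
    have := ha (g₀ * n) (E₂.mul_mem hg₀ hn) h1
    rwa [inv_mul_cancel_left] at this
  -- cardinalities
  have hinj1 : Nat.card ↥(⁅V, E₁⁆) ≤ Nat.card ↥(⁅V, E₂⁆) := by
    have hmem : ∀ v : ↥(⁅V, E₁⁆), g₀ * (v : G) * g₀⁻¹ * (v : G)⁻¹ ∈ ⁅V, E₂⁆ := by
      intro v
      rw [Subgroup.commutator_comm]
      exact Subgroup.commutator_mem_commutator hg₀ (hW₁V v.2)
    apply Nat.card_le_card_of_injective (fun v : ↥(⁅V, E₁⁆) =>
      (⟨g₀ * (v : G) * g₀⁻¹ * (v : G)⁻¹, hmem v⟩ : ↥(⁅V, E₂⁆)))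
    intro v v' hvv
    have := congrArg Subtype.val hvv
    exact Subtype.ext (comm_injOn hVc (hE₂V hg₀) hW₁V (hBP g₀ hg₀ hg₀N).1 v.2 v'.2 this)
  have hinj2 : Nat.card ↥(⁅V, E₂⁆) ≤ Nat.card ↥(⁅V, E₁⁆) := by
    have hmem : ∀ w : ↥(⁅V, E₂⁆), x * (w : G) * x⁻¹ * (w : G)⁻¹ ∈ ⁅V, E₁⁆ := by
      intro w
      rw [Subgroup.commutator_comm]
      exact Subgroup.commutator_mem_commutator hx (hW₂V w.2)
    apply Nat.card_le_card_of_injective (fun w : ↥(⁅V, E₂⁆) =>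
      (⟨x * (w : G) * x⁻¹ * (w : G)⁻¹, hmem w⟩ : ↥(⁅V, E₁⁆)))
    intro w w' hww
    have := congrArg Subtype.val hww
    exact Subtype.ext (comm_injOn hVc (hE₁V hx) hW₂V hfix w.2 w'.2 this)
  -- `φ` is surjective
  have hsurj : ∀ w ∈ ⁅V, E₂⁆, ∃ v ∈ ⁅V, E₁⁆, w = g₀ * v * g₀⁻¹ * v⁻¹ := by
    have hmem : ∀ v : ↥(⁅V, E₁⁆), g₀ * (v : G) * g₀⁻¹ * (v : G)⁻¹ ∈ ⁅V, E₂⁆ := by
      intro v
      rw [Subgroup.commutator_comm]
      exact Subgroup.commutator_mem_commutator hg₀ (hW₁V v.2)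
    have hbij : Function.Bijective (fun v : ↥(⁅V, E₁⁆) =>
        (⟨g₀ * (v : G) * g₀⁻¹ * (v : G)⁻¹, hmem v⟩ : ↥(⁅V, E₂⁆))) := by
      apply Function.Injective.bijective_of_nat_card_le _ hinj2
      intro v v' hvv
      have := congrArg Subtype.val hvv
      exact Subtype.ext (comm_injOn hVc (hE₂V hg₀) hW₁V (hBP g₀ hg₀ hg₀N).1 v.2 v'.2 this)
    intro w hw
    obtain ⟨v, hv⟩ := hbij.2 ⟨w, hw⟩
    exact ⟨v, v.2, (congrArg Subtype.val hv).symm⟩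
  -- (d)
  have hd : ∀ n ∈ E₂, n ∈ Subgroup.normalizer ((⁅V, E₁⁆ : Subgroup G) : Set G) → n = 1 := by
    intro n hn hnN
    have h1 : n ∈ E₂ ⊓ Subgroup.centralizer ((⁅V, E₂⁆ : Subgroup G) : Set G) := by
      refine Subgroup.mem_inf.2 ⟨hn, ?_⟩
      rw [Subgroup.mem_centralizer_iff]
      intro w hw
      obtain ⟨v, hv, rfl⟩ := hsurj w hw
      have c1 : v * n = n * v := Subgroup.mem_centralizer_iff.1 (hb n hn hnN) v hv
      have h2 : n * g₀ ∉ Subgroup.normalizer ((⁅V, E₁⁆ : Subgroup G) : Set G) := by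
        intro hc
        apply hg₀N
        have : g₀ = n⁻¹ * (n * g₀) := by group
        rw [this]
        exact Subgroup.mul_mem _ (Subgroup.inv_mem _ hnN) hc
      have c2 : v * (g₀⁻¹ * (n * g₀)) = (g₀⁻¹ * (n * g₀)) * v :=
        Subgroup.mem_centralizer_iff.1 (ha (n * g₀) (E₂.mul_mem hn hg₀) h2) v hv
      have c3 : (g₀ * v * g₀⁻¹) * n = n * (g₀ * v * g₀⁻¹) := by
        calc (g₀ * v * g₀⁻¹) * n = g₀ * (v * (g₀⁻¹ * (n * g₀))) * g₀⁻¹ := by group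
          _ = g₀ * ((g₀⁻¹ * (n * g₀)) * v) * g₀⁻¹ := by rw [c2]
          _ = n * (g₀ * v * g₀⁻¹) := by group
      have c1' : v⁻¹ * n = n * v⁻¹ := by
        have : n * v⁻¹ = v⁻¹ * (v * n) * v⁻¹ := by group
        rw [this, c1]; group
      calc g₀ * v * g₀⁻¹ * v⁻¹ * n = (g₀ * v * g₀⁻¹) * (v⁻¹ * n) := by group
        _ = (g₀ * v * g₀⁻¹) * (n * v⁻¹) := by rw [c1']
        _ = ((g₀ * v * g₀⁻¹) * n) * v⁻¹ := by group
        _ = (n * (g₀ * v * g₀⁻¹)) * v⁻¹ := by rw [c3]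
        _ = n * (g₀ * v * g₀⁻¹ * v⁻¹) := by group
    rwa [hfaith, Subgroup.mem_bot] at h1
  -- (f)
  have hsub : (E₂ : Set G) ⊆ {1, g₀} := by
    intro g hg
    by_cases hgN : g ∈ Subgroup.normalizer ((⁅V, E₁⁆ : Subgroup G) : Set G)
    · left; exact hd g hg hgN
    · right
      have h1 := ha g hg hgN
      have h2 : g₀⁻¹ * g = 1 := hd _ (E₂.mul_mem (E₂.inv_mem hg₀) hg)
        (Subgroup.centralizer_le_normalizer _ h1)
      rw [Set.mem_singleton_iff]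
      rw [inv_mul_eq_one] at h2
      exact h2.symm
  calc Nat.card E₂ = (E₂ : Set G).ncard := Nat.card_coe_set_eq _
    _ ≤ ({1, g₀} : Set G).ncard := Set.ncard_le_ncard hsub (Set.toFinite _)
    _ ≤ 2 := Set.ncard_insert_le _ _ |>.trans (by rw [Set.ncard_singleton])


/-! ### relative subnormality -/

theorem sn_of_le {A E E' : Subgroup G} (h : (A.subgroupOf E).IsSubnormal) (hE : E' ≤ E) :
    (A.subgroupOf E').IsSubnormal := by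
  have := Subgroup.IsSubnormal.comap (Subgroup.inclusion hE) h
  have e : (A.subgroupOf E).comap (Subgroup.inclusion hE) = A.subgroupOf E' := by
    ext y
    simp [Subgroup.mem_subgroupOf]
  rwa [e] at this

theorem sn_trans {P E' E : Subgroup G} (hP : P ≤ E') (hE : E' ≤ E)
    (h1 : (P.subgroupOf E').IsSubnormal) (h2 : (E'.subgroupOf E).IsSubnormal) :
    (P.subgroupOf E).IsSubnormal := by
  have hle : P.subgroupOf E ≤ E'.subgroupOf E := by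
    intro y hy
    rw [Subgroup.mem_subgroupOf] at hy ⊢
    exact hP hy
  apply Subgroup.IsSubnormal.trans hle ?_ h2
  have := Subgroup.IsSubnormal.comap (Subgroup.subgroupOfEquivOfLe hE).toMonoidHom h1
  have e : (P.subgroupOf E').comap (Subgroup.subgroupOfEquivOfLe hE).toMonoidHom =
      (P.subgroupOf E).subgroupOf (E'.subgroupOf E) := by
    ext y
    simp [Subgroup.mem_subgroupOf]
  rwa [e] at this

theorem sn_cj {A E : Subgroup G} (h : (A.subgroupOf E).IsSubnormal) {g : G} (hg : g ∈ E) :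
    ((cj g A).subgroupOf E).IsSubnormal := by
  have := Subgroup.IsSubnormal.map (f := (MulAut.conj (⟨g, hg⟩ : ↥E)).toMonoidHom)
    (MulAut.conj (⟨g, hg⟩ : ↥E)).surjective h
  have e : (A.subgroupOf E).map (MulAut.conj (⟨g, hg⟩ : ↥E)).toMonoidHom =
      (cj g A).subgroupOf E := by
    ext y
    rw [Subgroup.mem_subgroupOf, mem_cj]
    constructor
    · rintro ⟨z, hz, rfl⟩
      have hz : (z : G) ∈ A := hz
      have : g⁻¹ * (((MulAut.conj (⟨g, hg⟩ : ↥E)).toMonoidHom z : ↥E) : G) * g = (z : G) := by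
        show g⁻¹ * (g * (z : G) * g⁻¹) * g = (z : G)
        group
      rw [this]; exact hz
    · intro hy
      refine ⟨(⟨g, hg⟩ : ↥E)⁻¹ * y * ⟨g, hg⟩, ?_, ?_⟩
      · show ((⟨g, hg⟩⁻¹ * y * ⟨g, hg⟩ : ↥E) : G) ∈ A
        exact hy
      · show (⟨g, hg⟩ : ↥E) * ((⟨g, hg⟩ : ↥E)⁻¹ * y * ⟨g, hg⟩) * (⟨g, hg⟩ : ↥E)⁻¹ = y
        group
  rwa [e] at this

theorem sn_sup [Finite G] {A B E : Subgroup G} (hA : A ≤ E) (hB : B ≤ E)
    (h1 : (A.subgroupOf E).IsSubnormal) (h2 : (B.subgroupOf E).IsSubnormal) :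
    ((A ⊔ B).subgroupOf E).IsSubnormal := by
  rw [Subgroup.subgroupOf_sup hA hB]
  exact Cfsg.Agent.Lib.Lead.Subnormal.sup_isSubnormal h1 h2

theorem sn_of_normal {P E : Subgroup G} (hn : E ≤ Subgroup.normalizer (P : Set G)) :
    (P.subgroupOf E).IsSubnormal :=
  (Subgroup.normal_subgroupOf_of_le_normalizer hn).isSubnormal

/-- conjugation by a normalizing element preserves the centralizer -/
theorem normalizer_le_normalizer_centralizer' (W : Subgroup G) :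
    Subgroup.normalizer (W : Set G) ≤
      Subgroup.normalizer ((Subgroup.centralizer (W : Set G) : Subgroup G) : Set G) := by
  intro n hn
  have key : ∀ m ∈ Subgroup.normalizer (W : Set G), ∀ g ∈ Subgroup.centralizer (W : Set G),
      m * g * m⁻¹ ∈ Subgroup.centralizer (W : Set G) := by
    intro m hm g hg
    rw [Subgroup.mem_centralizer_iff]
    intro w hw
    have h1 : m⁻¹ * w * m ∈ W := by
      have := (Subgroup.mem_normalizer_iff.1 (Subgroup.inv_mem _ hm) w).1 hw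
      simpa using this
    have h2 := Subgroup.mem_centralizer_iff.1 hg _ h1
    calc w * (m * g * m⁻¹) = m * ((m⁻¹ * w * m) * g) * m⁻¹ := by group
      _ = m * (g * (m⁻¹ * w * m)) * m⁻¹ := by rw [h2]
      _ = m * g * m⁻¹ * w := by group
  rw [Subgroup.mem_normalizer_iff]
  intro g
  constructor
  · exact key n hn g
  · intro hg
    have := key n⁻¹ (Subgroup.inv_mem _ hn) _ hg
    have e : n⁻¹ * (n * g * n⁻¹) * n⁻¹⁻¹ = g := by group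
    rwa [e] at this

/-! ### the hypotheses -/

structure Hyp (p : ℕ) (V E₁ E₂ : Subgroup G) : Prop where
  hEV : E₁ ⊔ E₂ ≤ Subgroup.normalizer (V : Set G)
  hf : (E₁ ⊔ E₂) ⊓ Subgroup.centralizer (V : Set G) = ⊥
  hs₁ : (E₁.subgroupOf (E₁ ⊔ E₂)).IsSubnormal
  hs₂ : (E₂.subgroupOf (E₁ ⊔ E₂)).IsSubnormal
  hOp : ∀ P : Subgroup G, P ≤ E₁ ⊔ E₂ → IsPGroup p P →
    (P.subgroupOf (E₁ ⊔ E₂)).IsSubnormal → P = ⊥
  hirr₁ : ∀ U : Subgroup G, U ≤ ⁅V, E₁⁆ → E₁ ≤ Subgroup.normalizer (U : Set G) →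
    U = ⊥ ∨ U = ⁅V, E₁⁆
  hirr₂ : ∀ U : Subgroup G, U ≤ ⁅V, E₂⁆ → E₂ ≤ Subgroup.normalizer (U : Set G) →
    U = ⊥ ∨ U = ⁅V, E₂⁆
  h12 : ¬ ⁅V, E₁⁆ ≤ ⁅V, E₂⁆
  h21 : ¬ ⁅V, E₂⁆ ≤ ⁅V, E₁⁆
  hc₁ : 2 < Nat.card E₁
  hc₂ : 2 < Nat.card E₂

namespace Hyp

variable {p : ℕ} {V E₁ E₂ : Subgroup G}

theorem symm (h : Hyp p V E₁ E₂) : Hyp p V E₂ E₁ := by
  have e : E₂ ⊔ E₁ = E₁ ⊔ E₂ := sup_comm _ _
  refine ⟨by rw [e]; exact h.hEV, by rw [e]; exact h.hf, by rw [e]; exact h.hs₂,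
    by rw [e]; exact h.hs₁, by rw [e]; exact h.hOp, h.hirr₂, h.hirr₁, h.h21, h.h12, h.hc₂, h.hc₁⟩

theorem hE₁V (h : Hyp p V E₁ E₂) : E₁ ≤ Subgroup.normalizer (V : Set G) :=
  le_sup_left.trans h.hEV

theorem hE₂V (h : Hyp p V E₁ E₂) : E₂ ≤ Subgroup.normalizer (V : Set G) :=
  le_sup_right.trans h.hEV

theorem hW₁V (h : Hyp p V E₁ E₂) : ⁅V, E₁⁆ ≤ V :=
  Subgroup.le_normalizer_iff_commutator_le_left.1 h.hE₁V

theorem hW₂V (h : Hyp p V E₁ E₂) : ⁅V, E₂⁆ ≤ V :=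
  Subgroup.le_normalizer_iff_commutator_le_left.1 h.hE₂V

theorem pCore_eq_bot [Finite G] [Fact p.Prime] (h : Hyp p V E₁ E₂) :
    Cfsg.pCore p ↥(E₁ ⊔ E₂) = ⊥ := by
  have hp : IsPGroup p (Cfsg.pCore p ↥(E₁ ⊔ E₂)) := Cfsg.Agent.H1.pCore_isPGroup p
  have := h.hOp ((Cfsg.pCore p ↥(E₁ ⊔ E₂)).map (E₁ ⊔ E₂).subtype) (Subgroup.map_subtype_le _)
    (hp.map _) ?_
  · exact (Subgroup.map_eq_bot_iff_of_injective _ (E₁ ⊔ E₂).subtype_injective).1 this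
  · have e : ((Cfsg.pCore p ↥(E₁ ⊔ E₂)).map (E₁ ⊔ E₂).subtype).subgroupOf (E₁ ⊔ E₂) =
        Cfsg.pCore p ↥(E₁ ⊔ E₂) :=
      Subgroup.comap_map_eq_self_of_injective (E₁ ⊔ E₂).subtype_injective _
    rw [e]
    exact (Cfsg.Agent.H1.pCore_normal p).isSubnormal

theorem faith₂ [Finite G] [Fact p.Prime] (hV : Cfsg.IsElementaryAbelian p V)
    (h : Hyp p V E₁ E₂) :
    E₂ ⊓ Subgroup.centralizer ((⁅V, E₂⁆ : Subgroup G) : Set G) = ⊥ := by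
  set P := E₂ ⊓ Subgroup.centralizer ((⁅V, E₂⁆ : Subgroup G) : Set G) with hP
  have hPE₂ : P ≤ E₂ := inf_le_left
  have hE₂W : E₂ ≤ Subgroup.normalizer ((⁅V, E₂⁆ : Subgroup G) : Set G) :=
    norm_comm' h.hE₂V Subgroup.le_normalizer
  apply h.hOp P (hPE₂.trans le_sup_right)
  · intro g
    refine ⟨1, ?_⟩
    apply Subtype.ext
    rw [pow_one, Subgroup.coe_pow, Subgroup.coe_one]
    have hg : (g : G) ∈ E₂ ⊓ Subgroup.centralizer ((⁅V, E₂⁆ : Subgroup G) : Set G) := g.2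
    rw [Subgroup.mem_inf] at hg
    refine Cfsg.Agent.H1.stab_pow_eq_one V ⁅V, E₂⁆ (E₁ ⊔ E₂) h.hW₂V hV.2 h.hf
      (le_sup_right (a := E₁) hg.1) hg.2 (fun v hv => ?_)
    rw [Subgroup.commutator_comm]
    exact Subgroup.commutator_mem_commutator hg.1 hv
  · refine sn_trans hPE₂ le_sup_right (sn_of_normal ?_) h.hs₂
    refine le_trans ?_ (normalizer_inf_le _ _)
    exact le_inf Subgroup.le_normalizer (hE₂W.trans (normalizer_le_normalizer_centralizer' _))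

theorem of_invariant [Finite G] [Fact p.Prime] (hV : Cfsg.IsElementaryAbelian p V)
    (h : Hyp p V E₁ E₂)
    (hinv : E₂ ≤ Subgroup.normalizer ((⁅V, E₁⁆ : Subgroup G) : Set G)) :
    ⁅⁅V, E₁⁆, E₂⁆ = ⊥ ∧ ⁅⁅V, E₂⁆, E₁⁆ = ⊥ := by
  have hE₂W : E₂ ≤ Subgroup.normalizer ((⁅V, E₂⁆ : Subgroup G) : Set G) :=
    norm_comm' h.hE₂V Subgroup.le_normalizer
  have hU : ⁅V, E₁⁆ ⊓ ⁅V, E₂⁆ = ⊥ := by
    rcases h.hirr₂ (⁅V, E₁⁆ ⊓ ⁅V, E₂⁆) inf_le_right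
      ((le_inf hinv hE₂W).trans (normalizer_inf_le _ _)) with h1 | h1
    · exact h1
    · exfalso
      apply h.h21
      calc ⁅V, E₂⁆ = ⁅V, E₁⁆ ⊓ ⁅V, E₂⁆ := h1.symm
        _ ≤ ⁅V, E₁⁆ := inf_le_left
  have h1 : ⁅⁅V, E₁⁆, E₂⁆ = ⊥ := by
    rw [eq_bot_iff, ← hU]
    exact le_inf (Subgroup.le_normalizer_iff_commutator_le_left.1 hinv)
      (Subgroup.commutator_mono h.hW₁V le_rfl)
  have h597 := Cfsg.Agent.S0597.result V (E₁ ⊔ E₂) hV h.hEV h.hf E₁ E₂ le_sup_left le_sup_right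
    h.hs₁ h.hs₂ h1
  rw [h.pCore_eq_bot, Subgroup.map_bot, le_bot_iff] at h597
  have hE₁E₂ : E₁ ≤ Subgroup.normalizer (E₂ : Set G) :=
    (Subgroup.commutator_eq_bot_iff_le_centralizer.1 h597).trans
      (Subgroup.centralizer_le_normalizer _)
  have hE₁W₂ : E₁ ≤ Subgroup.normalizer ((⁅V, E₂⁆ : Subgroup G) : Set G) :=
    norm_comm' h.hE₁V hE₁E₂
  refine ⟨h1, ?_⟩
  rw [eq_bot_iff, ← hU]
  exact le_inf (Subgroup.commutator_mono h.hW₂V le_rfl)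
    (Subgroup.le_normalizer_iff_commutator_le_left.1 hE₁W₂)


theorem conj_hyp [Finite G] [Fact p.Prime] (h : Hyp p V E₁ E₂) {g : G} (hg : g ∈ E₁ ⊔ E₂)
    (hgN : g ∉ Subgroup.normalizer ((⁅V, E₁⁆ : Subgroup G) : Set G)) :
    Hyp p V E₁ (cj g E₁) ∧ Nat.card ↥(E₁ ⊔ cj g E₁) < Nat.card ↥(E₁ ⊔ E₂) := by
  have hcjE : cj g E₁ ≤ E₁ ⊔ E₂ := by
    intro y hy
    rw [mem_cj] at hy
    have : y = g * (g⁻¹ * y * g) * g⁻¹ := by group
    rw [this]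
    exact Subgroup.mul_mem _ (Subgroup.mul_mem _ hg (le_sup_left (b := E₂) hy))
      (Subgroup.inv_mem _ hg)
  have hE'E : E₁ ⊔ cj g E₁ ≤ E₁ ⊔ E₂ := sup_le le_sup_left hcjE
  have hcjV : cj g V = V := cj_eq_iff.2 (h.hEV hg)
  have hW' : ⁅V, cj g E₁⁆ = cj g ⁅V, E₁⁆ := by rw [cj_comm, hcjV]
  have hs₂E : ((cj g E₁).subgroupOf (E₁ ⊔ E₂)).IsSubnormal := sn_cj h.hs₁ hg
  have hsE' : ((E₁ ⊔ cj g E₁).subgroupOf (E₁ ⊔ E₂)).IsSubnormal :=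
    sn_sup le_sup_left hcjE h.hs₁ hs₂E
  have hne : ¬ cj g ⁅V, E₁⁆ = ⁅V, E₁⁆ := fun hc => hgN (cj_eq_iff.1 hc)
  refine ⟨⟨hE'E.trans h.hEV, ?_, sn_of_le h.hs₁ hE'E, sn_of_le hs₂E hE'E, ?_, h.hirr₁, ?_, ?_, ?_,
    h.hc₁, ?_⟩, ?_⟩
  · rw [eq_bot_iff, ← h.hf]; exact inf_le_inf_right _ hE'E
  · intro P hP hPp hPsn
    exact h.hOp P (hP.trans hE'E) hPp (sn_trans hP hE'E hPsn hsE')
  · intro U hU hUN
    rw [hW'] at hU ⊢
    have h1 : cj g⁻¹ U ≤ ⁅V, E₁⁆ := by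
      have := cj_mono g⁻¹ hU
      rwa [cj_inv_cj] at this
    have h2 : E₁ ≤ Subgroup.normalizer ((cj g⁻¹ U : Subgroup G) : Set G) := by
      have := cj_le_normalizer (g := g⁻¹) hUN
      rwa [cj_inv_cj] at this
    rcases h.hirr₁ _ h1 h2 with h3 | h3
    · left
      have := congrArg (cj g) h3
      rwa [cj_cj_inv, cj_bot] at this
    · right
      have := congrArg (cj g) h3
      rwa [cj_cj_inv] at this
  · rw [hW']
    intro hc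
    exact hne (Subgroup.eq_of_le_of_card_ge hc (card_cj g _).le).symm
  · rw [hW']
    intro hc
    exact hne (Subgroup.eq_of_le_of_card_ge hc (card_cj g _).ge)
  · rw [card_cj]; exact h.hc₁
  · have hne_top : E₁.subgroupOf (E₁ ⊔ E₂) ≠ ⊤ := by
      intro hc
      rw [Subgroup.subgroupOf_eq_top] at hc
      exact h.h21 (Subgroup.commutator_mono le_rfl (le_sup_right.trans hc))
    obtain ⟨K, hKn, hEK, hKlt⟩ := h.hs₁.exists_normal_and_le_and_lt_top_of_ne hne_top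
    have hE'K : (E₁ ⊔ cj g E₁).subgroupOf (E₁ ⊔ E₂) ≤ K := by
      rw [Subgroup.subgroupOf_sup le_sup_left hcjE]
      apply sup_le hEK
      intro y hy
      rw [Subgroup.mem_subgroupOf, mem_cj] at hy
      have hz : ((⟨g, hg⟩ : ↥(E₁ ⊔ E₂))⁻¹ * y * ⟨g, hg⟩) ∈ K :=
        hEK (show (((⟨g, hg⟩ : ↥(E₁ ⊔ E₂))⁻¹ * y * ⟨g, hg⟩ : ↥(E₁ ⊔ E₂)) : G) ∈ E₁ from hy)
      have := hKn.conj_mem _ hz ⟨g, hg⟩
      have e : (⟨g, hg⟩ : ↥(E₁ ⊔ E₂)) * ((⟨g, hg⟩ : ↥(E₁ ⊔ E₂))⁻¹ * y * ⟨g, hg⟩) *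
          (⟨g, hg⟩ : ↥(E₁ ⊔ E₂))⁻¹ = y := by group
      rwa [e] at this
    have hlt : E₁ ⊔ cj g E₁ < E₁ ⊔ E₂ := by
      refine lt_of_le_of_ne hE'E ?_
      intro hc
      have : (E₁ ⊔ cj g E₁).subgroupOf (E₁ ⊔ E₂) = ⊤ := by
        rw [hc]; exact Subgroup.subgroupOf_self _
      rw [this] at hE'K
      exact hKlt.ne (top_le_iff.1 hE'K)
    by_contra hcon
    push_neg at hcon
    exact absurd (Subgroup.eq_of_le_of_card_ge hlt.le hcon) hlt.ne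

end Hyp

variable {p : ℕ} {V : Subgroup G}

theorem block [Finite G] [Fact p.Prime] (n : ℕ)
    (ih : ∀ m < n, ∀ E₁ E₂ : Subgroup G, Nat.card ↥(E₁ ⊔ E₂) = m → Hyp p V E₁ E₂ →
      ⁅⁅V, E₁⁆, E₂⁆ = ⊥ ∧ ⁅⁅V, E₂⁆, E₁⁆ = ⊥)
    {E₁ E₂ : Subgroup G} (hn : Nat.card ↥(E₁ ⊔ E₂) = n) (h : Hyp p V E₁ E₂) :
    ∀ g ∈ E₂, g ∉ Subgroup.normalizer ((⁅V, E₁⁆ : Subgroup G) : Set G) →
      ⁅V, E₁⁆ ⊓ cj g ⁅V, E₁⁆ = ⊥ ∧
      E₁ ≤ Subgroup.centralizer ((cj g ⁅V, E₁⁆ : Subgroup G) : Set G) := by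
  intro g hg hgN
  obtain ⟨h', hlt⟩ := h.conj_hyp (le_sup_right (a := E₁) hg) hgN
  obtain ⟨_, h2⟩ := ih _ (hn ▸ hlt) E₁ (cj g E₁) rfl h'
  have hcjV : cj g V = V := cj_eq_iff.2 (h.hEV (le_sup_right (a := E₁) hg))
  have hW' : ⁅V, cj g E₁⁆ = cj g ⁅V, E₁⁆ := by rw [cj_comm, hcjV]
  rw [hW'] at h2
  have hcent : E₁ ≤ Subgroup.centralizer ((cj g ⁅V, E₁⁆ : Subgroup G) : Set G) :=
    Subgroup.le_centralizer_iff.1 (Subgroup.commutator_eq_bot_iff_le_centralizer.1 h2)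
  refine ⟨?_, hcent⟩
  have hE₁W : E₁ ≤ Subgroup.normalizer ((⁅V, E₁⁆ : Subgroup G) : Set G) :=
    norm_comm' h.hE₁V Subgroup.le_normalizer
  rcases h.hirr₁ (⁅V, E₁⁆ ⊓ cj g ⁅V, E₁⁆) inf_le_left
    ((le_inf hE₁W (hcent.trans (Subgroup.centralizer_le_normalizer _))).trans
      (normalizer_inf_le _ _)) with h3 | h3
  · exact h3
  · exfalso
    have hle : ⁅V, E₁⁆ ≤ cj g ⁅V, E₁⁆ :=
      calc ⁅V, E₁⁆ = ⁅V, E₁⁆ ⊓ cj g ⁅V, E₁⁆ := h3.symm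
        _ ≤ cj g ⁅V, E₁⁆ := inf_le_right
    exact hgN (cj_eq_iff.1 (Subgroup.eq_of_le_of_card_ge hle (card_cj g _).le).symm)

theorem core [Finite G] [Fact p.Prime] (hV : Cfsg.IsElementaryAbelian p V) :
    ∀ (n : ℕ) (E₁ E₂ : Subgroup G), Nat.card ↥(E₁ ⊔ E₂) = n → Hyp p V E₁ E₂ →
      ⁅⁅V, E₁⁆, E₂⁆ = ⊥ ∧ ⁅⁅V, E₂⁆, E₁⁆ = ⊥ := by
  intro n
  induction n using Nat.strong_induction_on with
  | _ n ih =>
  intro E₁ E₂ hn h
  by_cases hinv₁ : E₂ ≤ Subgroup.normalizer ((⁅V, E₁⁆ : Subgroup G) : Set G)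
  · exact h.of_invariant hV hinv₁
  by_cases hinv₂ : E₁ ≤ Subgroup.normalizer ((⁅V, E₂⁆ : Subgroup G) : Set G)
  · exact (h.symm.of_invariant hV hinv₂).symm
  exfalso
  obtain ⟨g₀, hg₀, hg₀N⟩ := SetLike.not_le_iff_exists.1 hinv₁
  obtain ⟨x₀, hx₀, hx₀N⟩ := SetLike.not_le_iff_exists.1 hinv₂
  have hn' : Nat.card ↥(E₂ ⊔ E₁) = n := by rw [sup_comm]; exact hn
  have BP₁ := block n ih hn h
  have BP₂ := block n ih hn' h.symm
  have h1 := swap (comm_of_elem' hV) h.hE₁V h.hE₂V (h.faith₂ hV) hx₀ (BP₂ x₀ hx₀ hx₀N).1 BP₁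
    hg₀ hg₀N
  have h2 := h.hc₂
  omega

/-- commutators with a generated subgroup -/
theorem comm_le_of_closure' {V W : Subgroup G} (hVc : ∀ s ∈ V, ∀ t ∈ V, s * t = t * s)
    (hWV : W ≤ V) (S : Set G)
    (hS : ∀ s ∈ S, s ∈ Subgroup.normalizer (V : Set G) ∧ ∀ v ∈ V, ⁅v, s⁆ ∈ W) :
    ⁅V, Subgroup.closure S⁆ ≤ W := by
  rw [Subgroup.commutator_le]
  intro v hv g hg
  have key : g ∈ Subgroup.normalizer (V : Set G) ∧ ∀ v ∈ V, ⁅v, g⁆ ∈ W := by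
    induction hg using Subgroup.closure_induction with
    | mem x hx => exact hS x hx
    | one =>
      refine ⟨Subgroup.one_mem _, fun v _ => ?_⟩
      simp [commutatorElement_def]
    | mul x y _ _ hx hy =>
      refine ⟨Subgroup.mul_mem _ hx.1 hy.1, fun v hv => ?_⟩
      have h1 : ⁅v, x * y⁆ = ⁅v, x⁆ * (x * ⁅v, y⁆ * x⁻¹) := by
        simp only [commutatorElement_def]; group
      rw [h1]
      have hw : ⁅v, y⁆ ∈ W := hy.2 v hv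
      have h2 : x * ⁅v, y⁆ * x⁻¹ = ⁅⁅v, y⁆, x⁆⁻¹ * ⁅v, y⁆ := by
        simp only [commutatorElement_def]; group
      rw [h2]
      exact W.mul_mem (hx.2 v hv) (W.mul_mem (W.inv_mem (hx.2 _ (hWV hw))) hw)
    | inv x _ hx =>
      refine ⟨Subgroup.inv_mem _ hx.1, fun v hv => ?_⟩
      have h1 : ⁅v, x⁻¹⁆ = ⁅x⁻¹ * v * x, x⁆⁻¹ := by
        simp only [commutatorElement_def]; group
      rw [h1]
      have h2 : x⁻¹ * v * x ∈ V := by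
        have := (Subgroup.mem_normalizer_iff.1 (Subgroup.inv_mem _ hx.1) v).1 hv
        simpa using this
      exact W.inv_mem (hx.2 _ h2)
  exact key.2 v hv

theorem final [Finite G] [Fact p.Prime] (hV : Cfsg.IsElementaryAbelian p V)
    {E₁ E₂ : Subgroup G} (h : Hyp p V E₁ E₂) :
    ⁅E₁, E₂⁆ = ⊥ ∧ E₁ ⊓ E₂ = ⊥ ∧ ⁅V, E₁⁆ ⊓ ⁅V, E₂⁆ = ⊥ ∧
      ⁅V, E₁ ⊔ E₂⁆ = ⁅V, E₁⁆ ⊔ ⁅V, E₂⁆ := by
  obtain ⟨h1, h2⟩ := core hV _ E₁ E₂ rfl h
  have h597 := Cfsg.Agent.S0597.result V (E₁ ⊔ E₂) hV h.hEV h.hf E₁ E₂ le_sup_left le_sup_right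
    h.hs₁ h.hs₂ h1
  rw [h.pCore_eq_bot, Subgroup.map_bot, le_bot_iff] at h597
  have hE₂W₁ : E₂ ≤ Subgroup.centralizer ((⁅V, E₁⁆ : Subgroup G) : Set G) :=
    Subgroup.le_centralizer_iff.1 (Subgroup.commutator_eq_bot_iff_le_centralizer.1 h1)
  have hE₁cE₂ : E₁ ≤ Subgroup.centralizer (E₂ : Set G) :=
    Subgroup.commutator_eq_bot_iff_le_centralizer.1 h597
  have hE₂cE₁ : E₂ ≤ Subgroup.centralizer (E₁ : Set G) := Subgroup.le_centralizer_iff.1 hE₁cE₂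
  have hE₂W : E₂ ≤ Subgroup.normalizer ((⁅V, E₂⁆ : Subgroup G) : Set G) :=
    norm_comm' h.hE₂V Subgroup.le_normalizer
  refine ⟨h597, ?_, ?_, ?_⟩
  · apply h.hOp (E₁ ⊓ E₂) (inf_le_left.trans le_sup_left)
    · intro g
      refine ⟨1, ?_⟩
      apply Subtype.ext
      rw [pow_one, Subgroup.coe_pow, Subgroup.coe_one]
      have hg : (g : G) ∈ E₁ ⊓ E₂ := g.2
      rw [Subgroup.mem_inf] at hg
      refine Cfsg.Agent.H1.stab_pow_eq_one V ⁅V, E₁⁆ (E₁ ⊔ E₂) h.hW₁V hV.2 h.hf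
        (le_sup_left (b := E₂) hg.1) (hE₂W₁ hg.2) (fun v hv => ?_)
      rw [Subgroup.commutator_comm]
      exact Subgroup.commutator_mem_commutator hg.1 hv
    · apply sn_of_normal
      refine le_trans ?_ (Subgroup.centralizer_le_normalizer _)
      apply sup_le
      · exact hE₁cE₂.trans (Subgroup.centralizer_le (SetLike.coe_subset_coe.mpr inf_le_right))
      · exact hE₂cE₁.trans (Subgroup.centralizer_le (SetLike.coe_subset_coe.mpr inf_le_left))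
  · rcases h.hirr₂ (⁅V, E₁⁆ ⊓ ⁅V, E₂⁆) inf_le_right
      ((le_inf (hE₂W₁.trans (Subgroup.centralizer_le_normalizer _)) hE₂W).trans
        (normalizer_inf_le _ _)) with h3 | h3
    · exact h3
    · exfalso
      apply h.h21
      calc ⁅V, E₂⁆ = ⁅V, E₁⁆ ⊓ ⁅V, E₂⁆ := h3.symm
        _ ≤ ⁅V, E₁⁆ := inf_le_left
  · apply le_antisymm
    · have hc : E₁ ⊔ E₂ = Subgroup.closure ((E₁ : Set G) ∪ (E₂ : Set G)) := by
        rw [Subgroup.closure_union, Subgroup.closure_eq, Subgroup.closure_eq]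
      rw [hc]
      apply comm_le_of_closure' (comm_of_elem' hV) (sup_le h.hW₁V h.hW₂V)
      rintro s (hs | hs)
      · exact ⟨h.hE₁V hs, fun v hv => le_sup_left (a := ⁅V, E₁⁆)
          (Subgroup.commutator_mem_commutator hv hs)⟩
      · exact ⟨h.hE₂V hs, fun v hv => le_sup_right (b := ⁅V, E₂⁆)
          (Subgroup.commutator_mem_commutator hv hs)⟩
    · exact sup_le (Subgroup.commutator_mono le_rfl le_sup_left)
        (Subgroup.commutator_mono le_rfl le_sup_right)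

end Cfsg.Agent.Lib.Helper4.SubnPair
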