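import Mathlib

set_option autoImplicit false

/-! General counting lemmas for a subgroup acting on an invariant subset of a finite set. -/

namespace Cfsg.Agent.Lib.Helper4.Syl22A

open MulAction

variable {G X : Type*} [Group G] [MulAction G X]

/-- the sub-action of a subgroup `K` on a `K`-invariant subset `Y` -/
def subAct (K : Subgroup G) (Y : Set X) (hY : ∀ k ∈ K, ∀ y ∈ Y, k • y ∈ Y) : SubMulAction K X where
  carrier := Y
  smul_mem' := fun k _ hy => hY k.1 k.2 _ hy

theorem card_subAct [Finite X] (K : Subgroup G) (Y : Set X) (hY : ∀ k ∈ K, ∀ y ∈ Y, k • y ∈ Y) :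
    Nat.card (subAct K Y hY) = Y.ncard :=
  Nat.card_coe_set_eq Y

/-- **fixed point congruence** on an invariant subset -/
theorem ncard_modEq_fixed [Finite X] {p : ℕ} [Fact p.Prime] (K : Subgroup G) (hK : IsPGroup p K)
    (Y : Set X) (hY : ∀ k ∈ K, ∀ y ∈ Y, k • y ∈ Y) :
    Y.ncard ≡ {y | y ∈ Y ∧ ∀ k ∈ K, k • y = y}.ncard [MOD p] := by
  have h1 := hK.card_modEq_card_fixedPoints (subAct K Y hY)
  rw [card_subAct] at h1
  have h2 : Nat.card (fixedPoints K (subAct K Y hY)) =
      {y | y ∈ Y ∧ ∀ k ∈ K, k • y = y}.ncard := by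
    rw [← Nat.card_coe_set_eq]
    have hf : ∀ z : fixedPoints K (subAct K Y hY),
        (z.1.1 : X) ∈ {y | y ∈ Y ∧ ∀ k ∈ K, k • y = y} := by
      intro z
      refine ⟨z.1.2, fun k hk => ?_⟩
      have := z.2 ⟨k, hk⟩
      exact congrArg Subtype.val this
    have hg : ∀ z : {y | y ∈ Y ∧ ∀ k ∈ K, k • y = y},
        (⟨z.1, z.2.1⟩ : subAct K Y hY) ∈ fixedPoints K (subAct K Y hY) := by
      intro z k
      apply Subtype.ext
      exact z.2.2 k.1 k.2
    exact Nat.card_congr ⟨fun z => ⟨z.1.1, hf z⟩, fun z => ⟨⟨z.1, z.2.1⟩, hg z⟩,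
      fun z => rfl, fun z => rfl⟩
  rw [h2] at h1
  exact h1

/-- if all orbits of `K` on the invariant set `Y` have `m` elements then `m` divides `|Y|` -/
theorem dvd_ncard_of_orbit [Finite X] (K : Subgroup G) (Y : Set X)
    (hY : ∀ k ∈ K, ∀ y ∈ Y, k • y ∈ Y) (m : ℕ)
    (hm : ∀ y ∈ Y, (orbit K y).ncard = m) : m ∣ Y.ncard := by
  classical
  rw [← card_subAct K Y hY]
  set S := subAct K Y hY with hS
  haveI : Finite S := Subtype.finite
  haveI : Fintype (orbitRel.Quotient K S) := Fintype.ofFinite _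
  rw [Nat.card_congr (selfEquivSigmaOrbits' K S), Nat.card_sigma]
  apply Finset.dvd_sum
  intro ω _
  induction ω using Quotient.inductionOn' with
  | h y =>
    have h1 : (orbitRel.Quotient.orbit (Quotient.mk'' y : orbitRel.Quotient K S)) = orbit K y :=
      orbitRel.Quotient.orbit_mk y
    rw [h1, Nat.card_coe_set_eq]
    have h2 : (orbit K y).ncard = (orbit K (y : X)).ncard := by
      rw [← SubMulAction.val_image_orbit, Set.ncard_image_of_injective _ Subtype.val_injective]
    rw [h2, hm _ y.2]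

/-- the number of orbits when all orbits have the same size -/
theorem card_eq_mul_card_orbits [Finite X] (K : Subgroup G) (m : ℕ)
    (hm : ∀ y : X, (orbit K y).ncard = m) : Nat.card X = m * Nat.card (orbitRel.Quotient K X) := by
  classical
  haveI : Fintype (orbitRel.Quotient K X) := Fintype.ofFinite _
  rw [Nat.card_congr (selfEquivSigmaOrbits' K X), Nat.card_sigma]
  have : ∀ ω : orbitRel.Quotient K X, Nat.card ω.orbit = m := by
    intro ω
    induction ω using Quotient.inductionOn' with
    | h y =>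
      have h1 : (orbitRel.Quotient.orbit (Quotient.mk'' y : orbitRel.Quotient K X)) = orbit K y :=
        orbitRel.Quotient.orbit_mk y
      rw [h1, Nat.card_coe_set_eq, hm]
  simp only [this, Finset.sum_const, Finset.card_univ, smul_eq_mul, Nat.card_eq_fintype_card]
  exact mul_comm _ _

/-- orbit size of a subgroup as a relative index -/
theorem ncard_orbit_subgroup (K : Subgroup G) (x : X) :
    (orbit K x).ncard = (stabilizer G x).relIndex K := by
  rw [← index_stabilizer, Subgroup.relIndex]
  congr 1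

/-- a semiregular action on an invariant subset: the group order divides the size of the subset -/
theorem card_dvd_ncard_of_free [Finite X] (K : Subgroup G) (Y : Set X)
    (hY : ∀ k ∈ K, ∀ y ∈ Y, k • y ∈ Y) (hfree : ∀ y ∈ Y, ∀ k ∈ K, k • y = y → k = 1) :
    Nat.card K ∣ Y.ncard := by
  apply dvd_ncard_of_orbit K Y hY
  intro y hy
  rw [ncard_orbit_subgroup, Subgroup.relIndex]
  have : (stabilizer G y).subgroupOf K = ⊥ := by
    rw [Subgroup.eq_bot_iff_forall]
    intro k hk
    rw [Subgroup.mem_subgroupOf, mem_stabilizer_iff] at hk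
    exact Subtype.ext (hfree y hy k.1 k.2 hk)
  rw [this, Subgroup.index_bot]

/-- an element of prime order `q` preserving a set with fewer than `q` elements fixes it pointwise -/
theorem fix_of_small [Finite X] {q : ℕ} [Fact q.Prime] (s : G) (hs : s ^ q = 1) (Y : Set X)
    (hY : ∀ y ∈ Y, s • y ∈ Y) (hlt : Y.ncard < q) : ∀ y ∈ Y, s • y = y := by
  have hK : IsPGroup q (Subgroup.zpowers s) := by
    intro k
    obtain ⟨k, hk⟩ := k
    obtain ⟨n, rfl⟩ := Subgroup.mem_zpowers_iff.mp hk
    refine ⟨1, Subtype.ext ?_⟩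
    simp only [pow_one, Subgroup.coe_pow, Subgroup.coe_one]
    rw [← zpow_natCast, ← zpow_mul, mul_comm, zpow_mul, zpow_natCast, hs, one_zpow]
  have hYK : ∀ k ∈ Subgroup.zpowers s, ∀ y ∈ Y, k • y ∈ Y := by
    intro k hk
    obtain ⟨n, rfl⟩ := Subgroup.mem_zpowers_iff.mp hk
    clear hk
    have hinv : ∀ y ∈ Y, s⁻¹ • y ∈ Y := by
      intro y hy
      have : s⁻¹ = s ^ (q - 1) := by
        have hq : 1 ≤ q := (Fact.out : q.Prime).one_lt.le
        rw [inv_eq_iff_mul_eq_one, ← pow_succ', Nat.sub_add_cancel hq, hs]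
      rw [this]
      clear this
      induction (q - 1) with
      | zero => simpa using hy
      | succ n ih => rw [pow_succ', mul_smul]; exact hY _ ih
    induction n using Int.induction_on with
    | zero => intro y hy; simpa using hy
    | succ n ih =>
      intro y hy
      rw [zpow_add_one, mul_smul]
      exact ih (s • y) (hY y hy)
    | pred n ih =>
      intro y hy
      rw [zpow_sub_one, mul_smul]
      exact ih (s⁻¹ • y) (hinv y hy)
  have h1 := ncard_modEq_fixed (Subgroup.zpowers s) hK Y hYK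
  have hfin : Y.Finite := Set.toFinite Y
  have hsub : {y | y ∈ Y ∧ ∀ k ∈ Subgroup.zpowers s, k • y = y} ⊆ Y := fun y hy => hy.1
  have hle := Set.ncard_le_ncard hsub hfin
  have heq : {y | y ∈ Y ∧ ∀ k ∈ Subgroup.zpowers s, k • y = y}.ncard = Y.ncard := by
    have := Nat.ModEq.eq_of_lt_of_lt h1 hlt (lt_of_le_of_lt hle hlt)
    exact this.symm
  have hset := Set.eq_of_subset_of_ncard_le hsub heq.ge hfin
  intro y hy
  have : y ∈ {y | y ∈ Y ∧ ∀ k ∈ Subgroup.zpowers s, k • y = y} := by rw [hset]; exact hy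
  exact this.2 s (Subgroup.mem_zpowers s)

end Cfsg.Agent.Lib.Helper4.Syl22A
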