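import Mathlib
import Cfsg.Agent.Lib.Helper4.Syl22A
import Cfsg.Agent.H1.SylNumD
import Cfsg.Agent.H1.Card

set_option autoImplicit false

/-! Basic facts on the conjugation action on Sylow subgroups: indices of intersections. -/

namespace Cfsg.Agent.Lib.Helper4.Syl22B

open MulAction Cfsg.Agent.H1 Cfsg.Agent.H1.SylNumA Syl22A
open scoped Pointwise

variable {G : Type*} [Group G] [Finite G] {p : ℕ} [Fact p.Prime]

/-- index of the intersection `P ∩ Q` in `P` -/
noncomputable def idx (P Q : Sylow p G) : ℕ := ((P : Subgroup G) ⊓ Q).relIndex P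

omit [Finite G] [Fact p.Prime] in
theorem inf_stabilizer (P Q : Sylow p G) :
    (P : Subgroup G) ⊓ stabilizer G Q = (P : Subgroup G) ⊓ Q := by
  rw [Sylow.stabilizer_eq_normalizer]
  exact P.isPGroup'.inf_normalizer_sylow Q

omit [Finite G] [Fact p.Prime] in
theorem idx_eq_ncard_orbit (P Q : Sylow p G) :
    idx P Q = (orbit (P : Subgroup G) Q).ncard := by
  rw [ncard_orbit_subgroup, idx, ← Subgroup.inf_relIndex_right (stabilizer G Q),
    inf_comm (stabilizer G Q), inf_stabilizer]

theorem card_eq (P Q : Sylow p G) : Nat.card (P : Subgroup G) = Nat.card (Q : Subgroup G) := by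
  rw [Sylow.card_eq_multiplicity, Sylow.card_eq_multiplicity]

omit [Finite G] [Fact p.Prime] in
theorem idx_mul_card (P Q : Sylow p G) :
    idx P Q * Nat.card ((P : Subgroup G) ⊓ Q : Subgroup G) = Nat.card (P : Subgroup G) :=
  (card_eq_relIndex_mul_card inf_le_left).symm

theorem idx_symm (P Q : Sylow p G) : idx P Q = idx Q P := by
  have h1 := idx_mul_card P Q
  have h2 := idx_mul_card Q P
  rw [inf_comm, ← card_eq P Q, ← h1] at h2
  have hpos : 0 < Nat.card ((P : Subgroup G) ⊓ Q : Subgroup G) := Nat.card_pos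
  exact (Nat.eq_of_mul_eq_mul_right hpos h2).symm

omit [Finite G] [Fact p.Prime] in
theorem idx_smul (g : G) (P Q : Sylow p G) : idx (g • P) (g • Q) = idx P Q := by
  unfold idx
  rw [Sylow.coe_subgroup_smul, Sylow.coe_subgroup_smul, ← Subgroup.smul_inf,
    Subgroup.relIndex_pointwise_smul]

omit [Finite G] [Fact p.Prime] in
theorem idx_eq_one {P Q : Sylow p G} : idx P Q = 1 ↔ P = Q := by
  unfold idx
  rw [Subgroup.relIndex_eq_one]
  constructor
  · intro h
    exact sylow_eq_of_le (h.trans inf_le_right)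
  · rintro rfl
    exact le_inf le_rfl le_rfl

theorem idx_pow (P Q : Sylow p G) : ∃ k, idx P Q = p ^ k := by
  obtain ⟨n, hn⟩ := IsPGroup.iff_card.mp P.isPGroup'
  have h1 : idx P Q ∣ Nat.card (P : Subgroup G) := Subgroup.relIndex_dvd_card _ _
  rw [hn] at h1
  obtain ⟨k, _, hk⟩ := (Nat.dvd_prime_pow Fact.out).mp h1
  exact ⟨k, hk⟩

omit [Finite G] [Fact p.Prime] in
/-- elements of `P` outside `P ∩ Q` move `Q` -/
theorem mem_inf_of_smul_eq {P Q : Sylow p G} {y : G} (hy : y ∈ (P : Subgroup G)) (h : y • Q = Q) :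
    y ∈ (P : Subgroup G) ⊓ Q := by
  rw [← inf_stabilizer]
  exact ⟨hy, h⟩

omit [Finite G] [Fact p.Prime] in
theorem smul_eq_of_mem {Q : Sylow p G} {y : G} (hy : y ∈ (Q : Subgroup G)) : y • Q = Q :=
  Sylow.smul_eq_iff_mem_normalizer.mpr (Subgroup.le_normalizer hy)

/-- a normal `p`-subgroup lies in every Sylow `p`-subgroup -/
theorem normal_le_sylow (D : Subgroup G) [D.Normal] (hD : IsPGroup p D) (Q : Sylow p G) :
    D ≤ Q := by
  obtain ⟨Q₀, hQ₀⟩ := hD.exists_le_sylow
  obtain ⟨g, rfl⟩ := exists_smul_eq G Q₀ Q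
  intro d hd
  rw [Sylow.coe_subgroup_smul, Subgroup.mem_pointwise_smul_iff_inv_smul_mem]
  apply hQ₀
  simp only [MulAut.smul_def, MulAut.conj_inv_apply]
  exact (inferInstance : D.Normal).conj_mem d hd g⁻¹ |> fun h => by simpa using h

omit [Finite G] [Fact p.Prime] in
/-- a subgroup contained in all Sylow subgroups acts trivially, so is trivial when the action is faithful -/
theorem eq_bot_of_le_all (hfaith : ∀ g : G, (∀ Q : Sylow p G, g • Q = Q) → g = 1)
    (D : Subgroup G) (h : ∀ Q : Sylow p G, D ≤ Q) : D = ⊥ := by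
  rw [Subgroup.eq_bot_iff_forall]
  intro d hd
  exact hfaith d (fun Q => smul_eq_of_mem (h Q hd))

end Cfsg.Agent.Lib.Helper4.Syl22B
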