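import Mathlib
import Cfsg.Agent.Lib.Helper4.Syl22B

set_option autoImplicit false

/-! Twenty-two Sylow 3-subgroups: orbit types, maximality of the normalizer, parity. -/

namespace Cfsg.Agent.Lib.Helper4.Syl22C

open MulAction Cfsg.Agent.H1 Cfsg.Agent.H1.SylNumA Syl22A Syl22B
open scoped Pointwise

variable {G : Type*} [Group G] [Finite G]

/-- Sylow subgroups meeting `P` in index 3 -/
def N3 (P : Sylow 3 G) : Set (Sylow 3 G) := {Q | idx P Q = 3}

/-- Sylow subgroups meeting `P` in index 9 -/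
def N9 (P : Sylow 3 G) : Set (Sylow 3 G) := {Q | idx P Q = 9}

omit [Finite G] in
theorem mem_N3 {P Q : Sylow 3 G} : Q ∈ N3 P ↔ idx P Q = 3 := Iff.rfl

omit [Finite G] in
theorem mem_N9 {P Q : Sylow 3 G} : Q ∈ N9 P ↔ idx P Q = 9 := Iff.rfl

theorem mem_N3_symm {P Q : Sylow 3 G} : Q ∈ N3 P ↔ P ∈ N3 Q := by
  rw [mem_N3, mem_N3, idx_symm]

theorem mem_N9_symm {P Q : Sylow 3 G} : Q ∈ N9 P ↔ P ∈ N9 Q := by
  rw [mem_N9, mem_N9, idx_symm]

omit [Finite G] in
theorem smul_mem_N3 (g : G) {P Q : Sylow 3 G} : g • Q ∈ N3 (g • P) ↔ Q ∈ N3 P := by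
  rw [mem_N3, mem_N3, idx_smul]

omit [Finite G] in
theorem smul_mem_N9 (g : G) {P Q : Sylow 3 G} : g • Q ∈ N9 (g • P) ↔ Q ∈ N9 P := by
  rw [mem_N9, mem_N9, idx_smul]

omit [Finite G] in
/-- the normalizer of `P` preserves `N3 P` -/
theorem smul_mem_N3_of_mem_normalizer {P Q : Sylow 3 G} {g : G}
    (hg : g ∈ Subgroup.normalizer ((P : Subgroup G) : Set G)) (hQ : Q ∈ N3 P) : g • Q ∈ N3 P := by
  have h := (smul_mem_N3 g).mpr hQ
  rwa [Sylow.smul_eq_iff_mem_normalizer.mpr hg] at h

omit [Finite G] in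
theorem smul_mem_N9_of_mem_normalizer {P Q : Sylow 3 G} {g : G}
    (hg : g ∈ Subgroup.normalizer ((P : Subgroup G) : Set G)) (hQ : Q ∈ N9 P) : g • Q ∈ N9 P := by
  have h := (smul_mem_N9 g).mpr hQ
  rwa [Sylow.smul_eq_iff_mem_normalizer.mpr hg] at h

theorem idx_cases (hn : Nat.card (Sylow 3 G) = 22) (P Q : Sylow 3 G) :
    idx P Q = 1 ∨ idx P Q = 3 ∨ idx P Q = 9 := by
  obtain ⟨k, hk⟩ := idx_pow P Q
  have hle : idx P Q ≤ 22 := by
    rw [idx_eq_ncard_orbit, ← hn, ← Set.ncard_univ]
    exact Set.ncard_le_ncard (Set.subset_univ _) (Set.toFinite _)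
  rw [hk] at hle ⊢
  rcases k with _ | _ | _ | k
  · left; rfl
  · right; left; rfl
  · right; right; rfl
  · exfalso
    have : 3 ^ 3 ≤ 3 ^ (k + 1 + 1 + 1) := Nat.pow_le_pow_right (by norm_num) (by omega)
    omega

theorem trichotomy (hn : Nat.card (Sylow 3 G) = 22) (P Q : Sylow 3 G) :
    Q = P ∨ Q ∈ N3 P ∨ Q ∈ N9 P := by
  rcases idx_cases hn P Q with h | h | h
  · left; exact (idx_eq_one.mp h).symm
  · right; left; exact h
  · right; right; exact h

theorem three_dvd_N3 (P : Sylow 3 G) : 3 ∣ (N3 P).ncard := by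
  apply dvd_ncard_of_orbit (P : Subgroup G) (N3 P)
  · intro y hy Q hQ
    exact smul_mem_N3_of_mem_normalizer (Subgroup.le_normalizer hy) hQ
  · intro Q hQ
    rw [← idx_eq_ncard_orbit]
    exact hQ

theorem nine_dvd_N9 (P : Sylow 3 G) : 9 ∣ (N9 P).ncard := by
  apply dvd_ncard_of_orbit (P : Subgroup G) (N9 P)
  · intro y hy Q hQ
    exact smul_mem_N9_of_mem_normalizer (Subgroup.le_normalizer hy) hQ
  · intro Q hQ
    rw [← idx_eq_ncard_orbit]
    exact hQ

theorem ncard_add (hn : Nat.card (Sylow 3 G) = 22) (P : Sylow 3 G) :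
    (N3 P).ncard + (N9 P).ncard = 21 := by
  have h1 : (Set.univ : Set (Sylow 3 G)) = {P} ∪ (N3 P ∪ N9 P) := by
    ext Q
    simp only [Set.mem_univ, Set.mem_union, Set.mem_singleton_iff, true_iff]
    exact trichotomy hn P Q
  have h2 : Disjoint (N3 P) (N9 P) := by
    rw [Set.disjoint_left]
    intro Q h3 h9
    rw [mem_N3] at h3
    rw [mem_N9, h3] at h9
    omega
  have h3 : Disjoint ({P} : Set (Sylow 3 G)) (N3 P ∪ N9 P) := by
    rw [Set.disjoint_left]
    intro Q hQ h
    rw [Set.mem_singleton_iff] at hQ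
    subst hQ
    have : idx Q Q = 1 := idx_eq_one.mpr rfl
    rcases h with h | h
    · rw [mem_N3, this] at h; omega
    · rw [mem_N9, this] at h; omega
  have h4 := Set.ncard_univ (Sylow 3 G)
  rw [h1, Set.ncard_union_eq h3 (Set.toFinite _) (Set.toFinite _),
    Set.ncard_union_eq h2 (Set.toFinite _) (Set.toFinite _), Set.ncard_singleton, hn] at h4
  omega

omit [Finite G] in
theorem N3_smul (g : G) (P : Sylow 3 G) : N3 (g • P) = (fun Q => g • Q) '' N3 P := by
  ext Q
  constructor
  · intro h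
    refine ⟨g⁻¹ • Q, ?_, by simp⟩
    rw [← smul_mem_N3 g]
    simpa using h
  · rintro ⟨Q', hQ', rfl⟩
    exact (smul_mem_N3 g).mpr hQ'

omit [Finite G] in
theorem ncard_N3_smul (g : G) (P : Sylow 3 G) : (N3 (g • P)).ncard = (N3 P).ncard := by
  rw [N3_smul, Set.ncard_image_of_injective _ (MulAction.injective g)]

/-- the three possible orbit types -/
theorem types (hn : Nat.card (Sylow 3 G) = 22) :
    (∀ P : Sylow 3 G, (N3 P).ncard = 21 ∧ (N9 P).ncard = 0) ∨
    (∀ P : Sylow 3 G, (N3 P).ncard = 12 ∧ (N9 P).ncard = 9) ∨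
    (∀ P : Sylow 3 G, (N3 P).ncard = 3 ∧ (N9 P).ncard = 18) := by
  obtain ⟨P₀⟩ := (Sylow.nonempty : Nonempty (Sylow 3 G))
  have key : ∀ P : Sylow 3 G, (N3 P).ncard = (N3 P₀).ncard := by
    intro P
    obtain ⟨g, rfl⟩ := exists_smul_eq G P₀ P
    exact ncard_N3_smul g P₀
  have h1 := three_dvd_N3 P₀
  have h2 := nine_dvd_N9 P₀
  have h3 := ncard_add hn P₀
  obtain ⟨a, ha⟩ := h1
  obtain ⟨b, hb⟩ := h2
  have hb' : b = 0 ∨ b = 1 ∨ b = 2 := by omega
  rcases hb' with rfl | rfl | rfl
  · left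
    intro P
    have := ncard_add hn P
    rw [key P] at this ⊢
    omega
  · right; left
    intro P
    have := ncard_add hn P
    rw [key P] at this ⊢
    omega
  · right; right
    intro P
    have := ncard_add hn P
    rw [key P] at this ⊢
    omega

/-- the index of the normalizer of a Sylow subgroup in an overgroup is `1` or `22` -/
theorem relIndex_normalizer (hn : Nat.card (Sylow 3 G) = 22) (P : Sylow 3 G) (H : Subgroup G)
    (h : Subgroup.normalizer ((P : Subgroup G) : Set G) ≤ H) :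
    (Subgroup.normalizer ((P : Subgroup G) : Set G)).relIndex H = 1 ∨
      (Subgroup.normalizer ((P : Subgroup G) : Set G)).relIndex H = 22 := by
  set N := Subgroup.normalizer ((P : Subgroup G) : Set G) with hN
  have hPH : (P : Subgroup G) ≤ H := Subgroup.le_normalizer.trans h
  have h1 : Nat.card (Sylow 3 H) = N.relIndex H := by
    have e : Subgroup.normalizer ((P.subtype hPH : Sylow 3 H) : Set H) = N.subgroupOf H := by
      rw [hN, Subgroup.subgroupOf_normalizer_eq hPH]
      rfl
    rw [Sylow.card_eq_index_normalizer (P.subtype hPH), Subgroup.relIndex, e]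
  have h2 : Nat.card (Sylow 3 H) ≡ 1 [MOD 3] := card_sylow_modEq_one 3 H
  have h3 : N.relIndex H * H.index = 22 := by
    rw [Subgroup.relIndex_mul_index h, ← hn, Sylow.card_eq_index_normalizer P]
    rfl
  rw [h1] at h2
  have h4 : N.relIndex H ∣ 22 := Dvd.intro _ h3
  have h5 : N.relIndex H ∈ Nat.divisors 22 := Nat.mem_divisors.mpr ⟨h4, by norm_num⟩
  have h6 : Nat.divisors 22 = {1, 2, 11, 22} := by decide
  rw [h6] at h5
  simp only [Finset.mem_insert, Finset.mem_singleton] at h5
  rcases h5 with h | h | h | h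
  · left; exact h
  · rw [h] at h2; exact absurd h2 (by decide)
  · rw [h] at h2; exact absurd h2 (by decide)
  · right; exact h

/-- the normalizer of a Sylow subgroup is a maximal subgroup -/
theorem normalizer_max (hn : Nat.card (Sylow 3 G) = 22) (P : Sylow 3 G) (H : Subgroup G)
    (h : Subgroup.normalizer ((P : Subgroup G) : Set G) ≤ H) :
    H = Subgroup.normalizer ((P : Subgroup G) : Set G) ∨ H = ⊤ := by
  rcases relIndex_normalizer hn P H h with h1 | h1
  · left
    exact le_antisymm (Subgroup.relIndex_eq_one.mp h1) h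
  · right
    have h3 : (Subgroup.normalizer ((P : Subgroup G) : Set G)).relIndex H * H.index = 22 := by
      rw [Subgroup.relIndex_mul_index h, ← hn, Sylow.card_eq_index_normalizer P]
      rfl
    rw [h1] at h3
    have : H.index = 1 := by omega
    exact Subgroup.index_eq_one.mp this

/-- an involutory permutation: parity of the number of 2-cycles -/
theorem sign_of_sq {X : Type*} [Fintype X] [DecidableEq X] (σ : Equiv.Perm X) (h : σ ^ 2 = 1) :
    ∃ k, σ.support.card = 2 * k ∧ Equiv.Perm.sign σ = (-1) ^ k := by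
  by_cases h1 : σ = 1
  · exact ⟨0, by simp [h1], by simp [h1]⟩
  · have hord : orderOf σ = 2 := orderOf_eq_prime h h1
    obtain ⟨n, hn⟩ := Equiv.Perm.cycleType_prime_order (σ := σ) (by rw [hord]; exact Nat.prime_two)
    rw [hord] at hn
    refine ⟨n + 1, ?_, ?_⟩
    · rw [← Equiv.Perm.sum_cycleType, hn, Multiset.sum_replicate, smul_eq_mul, mul_comm]
    · rw [Equiv.Perm.sign_of_cycleType, hn, Multiset.sum_replicate, Multiset.card_replicate,
        smul_eq_mul]
      have : (n + 1) * 2 + (n + 1) = 2 * (n + 1) + (n + 1) := by ring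
      rw [this, pow_add, pow_mul]
      simp

/-- **parity**: in a group without normal subgroups of index 2, an involution moves a multiple of 4 points -/
theorem fixed_modEq_four (hA2 : ∀ M : Subgroup G, M.Normal → M.index ≠ 2) {X : Type*}
    [MulAction G X] [Finite X] (g : G) (hg : g ^ 2 = 1) :
    Nat.card X ≡ {x : X | g • x = x}.ncard [MOD 4] := by
  classical
  haveI : Fintype X := Fintype.ofFinite X
  set σ : Equiv.Perm X := MulAction.toPermHom G X g with hσ
  have hσ2 : σ ^ 2 = 1 := by rw [hσ, ← map_pow, hg, map_one]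
  obtain ⟨k, hk, hsign⟩ := sign_of_sq σ hσ2
  have hfix : {x : X | g • x = x}.ncard = Fintype.card X - σ.support.card := by
    rw [← Finset.card_compl, Set.ncard_eq_toFinset_card']
    congr 1
    ext x
    simp [hσ, Equiv.Perm.mem_support]
  have hle : σ.support.card ≤ Fintype.card X := Finset.card_le_univ _
  have hkeven : Even k := by
    by_contra hodd
    rw [Nat.not_even_iff_odd] at hodd
    rw [hodd.neg_one_pow] at hsign
    let f : G →* ℤˣ := (Equiv.Perm.sign).comp (MulAction.toPermHom G X)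
    have hfg : f g = -1 := hsign
    apply hA2 f.ker inferInstance
    rw [Subgroup.index_ker]
    have hsurj : Function.Surjective f := by
      intro u
      rcases Int.units_eq_one_or u with rfl | rfl
      · exact ⟨1, map_one f⟩
      · exact ⟨g, hfg⟩
    rw [Nat.card_congr (MonoidHom.range_eq_top.mpr hsurj ▸ Subgroup.topEquiv.toEquiv : f.range ≃ ℤˣ)]
    simp
  obtain ⟨j, hj⟩ := hkeven
  rw [hfix, Nat.card_eq_fintype_card]
  have : σ.support.card = 4 * j := by omega
  rw [this] at hle ⊢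
  have h4 : Fintype.card X = (Fintype.card X - 4 * j) + 4 * j := by omega
  conv_lhs => rw [h4]
  exact Nat.ModEq.symm (by simp [Nat.ModEq])

end Cfsg.Agent.Lib.Helper4.Syl22C
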