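import Mathlib
import Cfsg.Agent.Lib.Helper4.Syl22C

set_option autoImplicit false

/-! Twenty-two Sylow 3-subgroups: the orbit type `(1,2)` is impossible; lines. -/

namespace Cfsg.Agent.Lib.Helper4.Syl22D

open MulAction Cfsg.Agent.H1 Cfsg.Agent.H1.SylNumA Syl22A Syl22B Syl22C
open scoped Pointwise

variable {G : Type*} [Group G] [Finite G]

/-- an intersection of index 3 is normal in `P` -/
theorem conj_mem_inf {P Q : Sylow 3 G} (hQ : Q ∈ N3 P) {y d : G} (hy : y ∈ (P : Subgroup G))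
    (hd : d ∈ (P : Subgroup G) ⊓ Q) : y * d * y⁻¹ ∈ (P : Subgroup G) ⊓ Q := by
  set D : Subgroup G := (P : Subgroup G) ⊓ Q with hD
  have hidx : (D.subgroupOf P).index = 3 := hQ
  obtain ⟨n, hn⟩ := IsPGroup.iff_card.mp P.isPGroup'
  have hn0 : n ≠ 0 := by
    rintro rfl
    have h1 : (D.subgroupOf P).index ∣ Nat.card (P : Subgroup G) := Subgroup.index_dvd_card _
    rw [hidx, hn] at h1
    norm_num at h1
  have hmf : (Nat.card (P : Subgroup G)).minFac = 3 := by
    rw [hn]
    exact Nat.Prime.pow_minFac Nat.prime_three hn0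
  have hnorm : (D.subgroupOf P).Normal :=
    Subgroup.normal_of_index_eq_minFac_card (by rw [hidx, hmf])
  have := hnorm.conj_mem ⟨d, hd.1⟩ (by rw [Subgroup.mem_subgroupOf]; exact hd) ⟨y, hy⟩
  rw [Subgroup.mem_subgroupOf] at this
  simpa using this

/-- the `P`-orbit of a member of `N3 P` is all of `N3 P` when the latter has three elements -/
theorem exists_smul_eq_of_three {P Q Q' : Sylow 3 G} (h3 : (N3 P).ncard = 3) (hQ : Q ∈ N3 P)
    (hQ' : Q' ∈ N3 P) : ∃ y ∈ (P : Subgroup G), y • Q = Q' := by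
  have hsub : orbit (P : Subgroup G) Q ⊆ N3 P := by
    rintro _ ⟨y, rfl⟩
    exact smul_mem_N3_of_mem_normalizer (Subgroup.le_normalizer y.2) hQ
  have hcard : (N3 P).ncard ≤ (orbit (P : Subgroup G) Q).ncard := by
    rw [← idx_eq_ncard_orbit, h3]
    exact hQ.ge
  have heq := Set.eq_of_subset_of_ncard_le hsub hcard (Set.toFinite _)
  rw [← heq] at hQ'
  obtain ⟨y, hy⟩ := hQ'
  exact ⟨y.1, y.2, hy⟩

/-- in type `(1,2)` the normalizer of `P` normalizes `P ∩ Q` -/
theorem normalizer_le_of_three {P Q : Sylow 3 G} (h3 : (N3 P).ncard = 3) (hQ : Q ∈ N3 P) :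
    Subgroup.normalizer ((P : Subgroup G) : Set G) ≤
      Subgroup.normalizer ((((P : Subgroup G) ⊓ Q : Subgroup G)) : Set G) := by
  have key : ∀ g ∈ Subgroup.normalizer ((P : Subgroup G) : Set G),
      ∀ d ∈ (P : Subgroup G) ⊓ Q, g * d * g⁻¹ ∈ (P : Subgroup G) ⊓ Q := by
    intro g hg d hd
    obtain ⟨y, hy, hyQ⟩ := exists_smul_eq_of_three h3 hQ (smul_mem_N3_of_mem_normalizer hg hQ)
    set z := y⁻¹ * g with hz
    have hzQ : z ∈ Subgroup.normalizer ((Q : Subgroup G) : Set G) := by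
      apply Sylow.smul_eq_iff_mem_normalizer.mp
      rw [hz, mul_smul, ← hyQ, inv_smul_smul]
    have hzP : z ∈ Subgroup.normalizer ((P : Subgroup G) : Set G) :=
      Subgroup.mul_mem _ (Subgroup.inv_mem _ (Subgroup.le_normalizer hy)) hg
    have h1 : z * d * z⁻¹ ∈ (P : Subgroup G) ⊓ Q :=
      ⟨(Subgroup.mem_normalizer_iff.mp hzP d).mp hd.1, (Subgroup.mem_normalizer_iff.mp hzQ d).mp hd.2⟩
    have h2 := conj_mem_inf hQ hy h1
    have e : y * (z * d * z⁻¹) * y⁻¹ = g * d * g⁻¹ := by rw [hz]; group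
    rwa [e] at h2
  intro g hg
  rw [Subgroup.mem_normalizer_iff]
  intro d
  constructor
  · exact key g hg d
  · intro h
    have := key g⁻¹ (Subgroup.inv_mem _ hg) _ h
    have e : g⁻¹ * (g * d * g⁻¹) * g⁻¹⁻¹ = d := by group
    rwa [e] at this

/-- **type (1,2) is impossible** -/
theorem case12 (hn : Nat.card (Sylow 3 G) = 22)
    (hfaith : ∀ g : G, (∀ Q : Sylow 3 G, g • Q = Q) → g = 1)
    (h12 : ∀ P : Sylow 3 G, (N3 P).ncard = 3 ∧ (N9 P).ncard = 18) : False := by
  obtain ⟨P⟩ := (Sylow.nonempty : Nonempty (Sylow 3 G))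
  have hne : (N3 P).Nonempty := by
    rw [← Set.ncard_pos (Set.toFinite _), (h12 P).1]; norm_num
  obtain ⟨Q, hQ⟩ := hne
  have hQ' : P ∈ N3 Q := mem_N3_symm.mp hQ
  set D : Subgroup G := (P : Subgroup G) ⊓ Q with hD
  have h1 := normalizer_le_of_three (h12 P).1 hQ
  have h2 := normalizer_le_of_three (h12 Q).1 hQ'
  rw [inf_comm, ← hD] at h2
  rw [← hD] at h1
  have htop : Subgroup.normalizer (D : Set G) = ⊤ := by
    rcases normalizer_max hn P _ h1 with h | h
    · exfalso
      have h3 : (Q : Subgroup G) ≤ Subgroup.normalizer ((P : Subgroup G) : Set G) :=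
        h ▸ (Subgroup.le_normalizer.trans h2)
      have h4 := le_sylow_of_le_normalizer Q.isPGroup' P h3
      have h5 : Q = P := sylow_eq_of_le h4
      rw [h5, mem_N3, idx_eq_one.mpr rfl] at hQ
      omega
    · exact h
  haveI : D.Normal := Subgroup.normalizer_eq_top_iff.mp htop
  have hDp : IsPGroup 3 D := P.isPGroup'.to_le inf_le_left
  have hbot : D = ⊥ := eq_bot_of_le_all hfaith D (fun R => normal_le_sylow D hDp R)
  have hcard : Nat.card (P : Subgroup G) = 3 := by
    have := idx_mul_card P Q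
    rw [← hD, hbot, Subgroup.card_bot, mul_one] at this
    rw [← this]
    exact hQ
  have hne9 : (N9 P).Nonempty := by
    rw [← Set.ncard_pos (Set.toFinite _), (h12 P).2]; norm_num
  obtain ⟨T, hT⟩ := hne9
  have h9 : idx P T ∣ Nat.card (P : Subgroup G) := Subgroup.relIndex_dvd_card _ _
  rw [mem_N9.mp hT, hcard] at h9
  norm_num at h9

end Cfsg.Agent.Lib.Helper4.Syl22D
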