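import Mathlib
import Cfsg.Agent.Lib.Helper4.Syl22D

set_option autoImplicit false

/-! Twenty-two Sylow 3-subgroups: lines (Sylow subgroups through an intersection of index 3). -/

namespace Cfsg.Agent.Lib.Helper4.Syl22E

open MulAction Cfsg.Agent.H1 Cfsg.Agent.H1.SylNumA Syl22A Syl22B Syl22C Syl22D
open scoped Pointwise

variable {G : Type*} [Group G] [Finite G]

omit [Finite G] in
theorem mem_smul_sylow {p : ℕ} {g x : G} {R : Sylow p G} :
    x ∈ ((g • R : Sylow p G) : Subgroup G) ↔ g⁻¹ * x * g ∈ (R : Subgroup G) := by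
  rw [Sylow.coe_subgroup_smul, Subgroup.mem_pointwise_smul_iff_inv_smul_mem]
  simp [MulAut.smul_def]

/-- the Sylow subgroups containing `D` -/
def line (D : Subgroup G) : Set (Sylow 3 G) := {R | D ≤ R}

omit [Finite G] in
theorem mem_line {D : Subgroup G} {R : Sylow 3 G} : R ∈ line D ↔ D ≤ R := Iff.rfl

theorem relIndex_of_mem_line {P Q R : Sylow 3 G} (hQ : Q ∈ N3 P)
    (hR : R ∈ line ((P : Subgroup G) ⊓ Q)) : ((P : Subgroup G) ⊓ Q).relIndex R = 3 := by
  have h1 : Nat.card (R : Subgroup G) = _ := card_eq_relIndex_mul_card (mem_line.mp hR)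
  have h2 := idx_mul_card P Q
  rw [mem_N3.mp hQ, card_eq P R, h1] at h2
  have hpos : 0 < Nat.card ((P : Subgroup G) ⊓ Q : Subgroup G) := Nat.card_pos
  exact (Nat.eq_of_mul_eq_mul_right hpos h2).symm

/-- two distinct points of a line meet exactly in the line's subgroup -/
theorem inf_eq_of_mem_line {P Q R R' : Sylow 3 G} (hQ : Q ∈ N3 P)
    (hR : R ∈ line ((P : Subgroup G) ⊓ Q)) (hR' : R' ∈ line ((P : Subgroup G) ⊓ Q)) (hne : R ≠ R') :
    (R : Subgroup G) ⊓ R' = (P : Subgroup G) ⊓ Q ∧ R' ∈ N3 R := by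
  set D : Subgroup G := (P : Subgroup G) ⊓ Q with hD
  have hle : D ≤ (R : Subgroup G) ⊓ R' := le_inf hR hR'
  have h1 := Subgroup.relIndex_mul_relIndex D ((R : Subgroup G) ⊓ R') R hle inf_le_left
  rw [relIndex_of_mem_line hQ hR] at h1
  have h2 : idx R R' ≠ 1 := fun h => hne (idx_eq_one.mp h)
  have h3 : idx R R' ∣ 3 := Dvd.intro_left _ h1
  have h4 : idx R R' = 3 := by
    rcases (Nat.dvd_prime Nat.prime_three).mp h3 with h | h
    · exact absurd h h2
    · exact h
  have h5 : D.relIndex ((R : Subgroup G) ⊓ R') = 1 := by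
    change D.relIndex ((R : Subgroup G) ⊓ R') * idx R R' = 3 at h1
    rw [h4] at h1
    omega
  exact ⟨le_antisymm (Subgroup.relIndex_eq_one.mp h5) hle, h4⟩

/-- a line through `P` lies in `{P} ∪ N3 P` -/
theorem mem_N3_of_mem_line {P Q R : Sylow 3 G} (hQ : Q ∈ N3 P)
    (hR : R ∈ line ((P : Subgroup G) ⊓ Q)) (hne : R ≠ P) : R ∈ N3 P :=
  (inf_eq_of_mem_line hQ (mem_line.mpr inf_le_left) hR hne.symm).2

/-- every point of a line normalizes the line's subgroup -/
theorem conj_mem_of_mem_line {P Q R : Sylow 3 G} (hQ : Q ∈ N3 P)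
    (hR : R ∈ line ((P : Subgroup G) ⊓ Q)) {y d : G} (hy : y ∈ (R : Subgroup G))
    (hd : d ∈ (P : Subgroup G) ⊓ Q) : y * d * y⁻¹ ∈ (P : Subgroup G) ⊓ Q := by
  by_cases hne : R = P
  · subst hne
    exact conj_mem_inf hQ hy hd
  · obtain ⟨h1, h2⟩ := inf_eq_of_mem_line hQ hR (mem_line.mpr inf_le_left) hne
    rw [← h1] at hd ⊢
    exact conj_mem_inf h2 hy hd

theorem le_normalizer_of_mem_line {P Q R : Sylow 3 G} (hQ : Q ∈ N3 P)
    (hR : R ∈ line ((P : Subgroup G) ⊓ Q)) :
    (R : Subgroup G) ≤ Subgroup.normalizer ((((P : Subgroup G) ⊓ Q : Subgroup G)) : Set G) := by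
  intro y hy
  rw [Subgroup.mem_normalizer_iff]
  intro d
  constructor
  · exact conj_mem_of_mem_line hQ hR hy
  · intro h
    have := conj_mem_of_mem_line hQ hR (Subgroup.inv_mem _ hy) h
    have e : y⁻¹ * (y * d * y⁻¹) * y⁻¹⁻¹ = d := by group
    rwa [e] at this

omit [Finite G] in
/-- the normalizer of `D` preserves the line of `D` -/
theorem smul_mem_line {D : Subgroup G} {R : Sylow 3 G} {g : G}
    (hg : g ∈ Subgroup.normalizer (D : Set G)) (hR : R ∈ line D) : g • R ∈ line D := by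
  intro d hd
  rw [mem_smul_sylow]
  apply hR
  have := (Subgroup.mem_normalizer_iff.mp (Subgroup.inv_mem _ hg) d).mp hd
  simpa using this

/-- the line is an orbit of the normalizer of its subgroup -/
theorem line_eq_orbit {P Q : Sylow 3 G} (hQ : Q ∈ N3 P) :
    line ((P : Subgroup G) ⊓ Q) =
      orbit (Subgroup.normalizer ((((P : Subgroup G) ⊓ Q : Subgroup G)) : Set G)) P := by
  set D : Subgroup G := (P : Subgroup G) ⊓ Q with hD
  set M := Subgroup.normalizer (D : Set G) with hM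
  have hP : P ∈ line D := mem_line.mpr inf_le_left
  ext R
  constructor
  · intro hR
    have hPM : (P : Subgroup G) ≤ M := le_normalizer_of_mem_line hQ hP
    have hRM : (R : Subgroup G) ≤ M := le_normalizer_of_mem_line hQ hR
    obtain ⟨m, hm⟩ := exists_smul_eq M (P.subtype hPM) (R.subtype hRM)
    rw [Sylow.smul_subtype hPM m] at hm
    exact ⟨m, Sylow.subtype_injective hm⟩
  · rintro ⟨m, rfl⟩
    exact smul_mem_line m.2 hP

theorem ncard_line_dvd {P Q : Sylow 3 G} (hQ : Q ∈ N3 P) :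
    (line ((P : Subgroup G) ⊓ Q)).ncard ∣ Nat.card G := by
  rw [line_eq_orbit hQ, ncard_orbit_subgroup]
  exact (Subgroup.relIndex_dvd_card _ _).trans (Subgroup.card_subgroup_dvd_card _)

theorem ncard_line_modEq {P Q : Sylow 3 G} (hQ : Q ∈ N3 P) :
    (line ((P : Subgroup G) ⊓ Q)).ncard ≡ 1 [MOD 3] := by
  set D : Subgroup G := (P : Subgroup G) ⊓ Q with hD
  have hP : P ∈ line D := mem_line.mpr inf_le_left
  have h1 := ncard_modEq_fixed (p := 3) (P : Subgroup G) P.isPGroup' (line D)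
    (fun y hy R hR => smul_mem_line (le_normalizer_of_mem_line hQ hP hy) hR)
  have h2 : {R | R ∈ line D ∧ ∀ y ∈ (P : Subgroup G), y • R = R} = {P} := by
    ext R
    simp only [Set.mem_setOf_eq, Set.mem_singleton_iff]
    constructor
    · rintro ⟨_, h⟩
      have h3 : (P : Subgroup G) ≤ Subgroup.normalizer ((R : Subgroup G) : Set G) :=
        fun y hy => Sylow.smul_eq_iff_mem_normalizer.mp (h y hy)
      exact (sylow_eq_of_le (le_sylow_of_le_normalizer P.isPGroup' R h3)).symm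
    · rintro rfl
      exact ⟨hP, fun y hy => smul_eq_of_mem hy⟩
  rw [h2, Set.ncard_singleton] at h1
  exact h1

theorem line_subset {P Q : Sylow 3 G} (hQ : Q ∈ N3 P) :
    line ((P : Subgroup G) ⊓ Q) ⊆ insert P (N3 P) := by
  intro R hR
  by_cases hne : R = P
  · exact Or.inl hne
  · exact Or.inr (mem_N3_of_mem_line hQ hR hne)

end Cfsg.Agent.Lib.Helper4.Syl22E
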