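import Mathlib
import Cfsg.Agent.Lib.Helper4.Syl22E

set_option autoImplicit false

/-! Twenty-two Sylow 3-subgroups: the orbit type `(4,1)` is impossible. -/

namespace Cfsg.Agent.Lib.Helper4.Syl22F

open MulAction Cfsg.Agent.H1 Cfsg.Agent.H1.SylNumA Syl22A Syl22B Syl22C Syl22D Syl22E
open scoped Pointwise

variable {G : Type*} [Group G] [Finite G]

omit [Finite G] in
theorem pow_mem_normalizer_zpowers {P : Sylow 3 G} {s : G}
    (hs : s ∈ Subgroup.normalizer ((P : Subgroup G) : Set G)) :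
    ∀ k ∈ Subgroup.zpowers s, k ∈ Subgroup.normalizer ((P : Subgroup G) : Set G) := by
  intro k hk
  exact (Subgroup.zpowers_le.mpr hs) hk

omit [Finite G] in
theorem isPGroup_zpowers {q : ℕ} {s : G} (hsq : s ^ q = 1) : IsPGroup q (Subgroup.zpowers s) := by
  intro k
  obtain ⟨k, hk⟩ := k
  obtain ⟨n, rfl⟩ := Subgroup.mem_zpowers_iff.mp hk
  refine ⟨1, Subtype.ext ?_⟩
  simp only [pow_one, Subgroup.coe_pow, Subgroup.coe_one]
  rw [← zpow_natCast, ← zpow_mul, mul_comm, zpow_mul, zpow_natCast, hsq, one_zpow]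

omit [Finite G] in
theorem fixed_zpowers_iff {X : Type*} [MulAction G X] {s : G} {x : X} :
    (∀ k ∈ Subgroup.zpowers s, k • x = x) ↔ s • x = x := by
  constructor
  · intro h
    exact h s (Subgroup.mem_zpowers s)
  · intro h k hk
    have : Subgroup.zpowers s ≤ stabilizer G x := Subgroup.zpowers_le.mpr h
    exact this hk

/-- step A0: an element of prime order at least 5 normalizing `P` and fixing a member of `N3 P`
fixes its whole `P`-orbit -/
theorem fix_orbit {P Q : Sylow 3 G} {q : ℕ} [Fact q.Prime] (hq : 5 ≤ q) {s : G}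
    (hs : s ∈ Subgroup.normalizer ((P : Subgroup G) : Set G)) (hsq : s ^ q = 1)
    (hQ : Q ∈ N3 P) (hfix : s • Q = Q) {y : G} (hy : y ∈ (P : Subgroup G)) :
    s • (y • Q) = y • Q := by
  have hcard : (orbit (P : Subgroup G) Q).ncard < q := by
    rw [← idx_eq_ncard_orbit, mem_N3.mp hQ]; omega
  have hinv : ∀ R ∈ orbit (P : Subgroup G) Q, s • R ∈ orbit (P : Subgroup G) Q := by
    rintro _ ⟨z, rfl⟩
    have hz : s * z.1 * s⁻¹ ∈ (P : Subgroup G) := (Subgroup.mem_normalizer_iff.mp hs z.1).mp z.2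
    refine ⟨⟨s * z.1 * s⁻¹, hz⟩, ?_⟩
    change (s * z.1 * s⁻¹) • Q = s • (z.1 • Q)
    rw [mul_smul, mul_smul]
    congr 2
    rw [inv_smul_eq_iff, hfix]
  exact fix_of_small s hsq _ hinv hcard _ ⟨⟨y, hy⟩, rfl⟩

/-- step A1: such an element fixes all of `N3 P` when `|N3 P| = 12` -/
theorem fix_N3 (h12 : ∀ P : Sylow 3 G, (N3 P).ncard = 12) {P : Sylow 3 G} {q : ℕ} [Fact q.Prime]
    (hq : 5 ≤ q) {s : G} (hs : s ∈ Subgroup.normalizer ((P : Subgroup G) : Set G))
    (hsq : s ^ q = 1) : ∀ Q ∈ N3 P, s • Q = Q := by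
  set Z : Set (Sylow 3 G) := {Q | Q ∈ N3 P ∧ s • Q = Q} with hZ
  have h1 := ncard_modEq_fixed (p := q) (Subgroup.zpowers s) (isPGroup_zpowers hsq) (N3 P)
    (fun k hk Q hQ => smul_mem_N3_of_mem_normalizer (pow_mem_normalizer_zpowers hs k hk) hQ)
  have h2 : {Q | Q ∈ N3 P ∧ ∀ k ∈ Subgroup.zpowers s, k • Q = Q} = Z := by
    ext Q
    simp only [hZ, Set.mem_setOf_eq, fixed_zpowers_iff]
  rw [h2, h12 P] at h1
  have h3 : 3 ∣ Z.ncard := by
    apply dvd_ncard_of_orbit (P : Subgroup G) Z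
    · intro y hy Q hQ
      exact ⟨smul_mem_N3_of_mem_normalizer (Subgroup.le_normalizer hy) hQ.1,
        fix_orbit hq hs hsq hQ.1 hQ.2 hy⟩
    · intro Q hQ
      rw [← idx_eq_ncard_orbit]
      exact hQ.1
  have hsub : Z ⊆ N3 P := fun Q hQ => hQ.1
  have hle : Z.ncard ≤ 12 := (h12 P) ▸ Set.ncard_le_ncard hsub (Set.toFinite _)
  have h4 : Z.ncard = 12 := by
    obtain ⟨c, hc⟩ := h3
    by_cases hq13 : 13 ≤ q
    · exact (Nat.ModEq.eq_of_lt_of_lt h1 (by omega) (by omega)).symm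
    · have hq' : q.Prime := Fact.out
      have hlt : q < 13 := by omega
      interval_cases q
      · unfold Nat.ModEq at h1; omega
      · exact absurd hq' (by norm_num)
      · unfold Nat.ModEq at h1; omega
      · exact absurd hq' (by norm_num)
      · exact absurd hq' (by norm_num)
      · exact absurd hq' (by norm_num)
      · unfold Nat.ModEq at h1; omega
      · exact absurd hq' (by norm_num)
  have heq : Z = N3 P :=
    Set.eq_of_subset_of_ncard_le hsub (by rw [h4, h12 P]) (Set.toFinite _)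
  intro Q hQ
  rw [← heq] at hQ
  exact hQ.2

/-- step A: in type `(4,1)` no element of prime order at least 5 normalizes a Sylow 3-subgroup -/
theorem no_prime_ge_five (hn : Nat.card (Sylow 3 G) = 22)
    (hfaith : ∀ g : G, (∀ Q : Sylow 3 G, g • Q = Q) → g = 1)
    (h41 : ∀ P : Sylow 3 G, (N3 P).ncard = 12 ∧ (N9 P).ncard = 9) {P : Sylow 3 G} {q : ℕ}
    [Fact q.Prime] (hq : 5 ≤ q) {s : G} (hs : s ∈ Subgroup.normalizer ((P : Subgroup G) : Set G))
    (hsq : s ^ q = 1) (hs1 : s ≠ 1) : False := by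
  have h12 : ∀ P : Sylow 3 G, (N3 P).ncard = 12 := fun P => (h41 P).1
  -- a moved point
  obtain ⟨σ, hσ⟩ : ∃ σ : Sylow 3 G, s • σ ≠ σ := by
    by_contra hcon
    push Not at hcon
    exact hs1 (hfaith s hcon)
  -- every fixed point is joined to `σ` in index 9
  have key : ∀ R : Sylow 3 G, s • R = R → R ∈ N9 σ := by
    intro R hR
    have hsR : s ∈ Subgroup.normalizer ((R : Subgroup G) : Set G) :=
      Sylow.smul_eq_iff_mem_normalizer.mp hR
    rw [← mem_N9_symm]
    rcases trichotomy hn R σ with h | h | h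
    · exfalso; rw [h] at hσ; exact hσ hR
    · exfalso; exact hσ (fix_N3 h12 hq hsR hsq σ h)
    · exact h
  have hsub : insert P (N3 P) ⊆ N9 σ := by
    intro R hR
    rcases hR with rfl | hR
    · exact key _ (Sylow.smul_eq_iff_mem_normalizer.mpr hs)
    · exact key R (fix_N3 h12 hq hs hsq R hR)
  have hPn : P ∉ N3 P := by
    intro h
    rw [mem_N3, idx_eq_one.mpr rfl] at h
    omega
  have h1 := Set.ncard_le_ncard hsub (Set.toFinite _)
  rw [Set.ncard_insert_of_notMem hPn (Set.toFinite _), h12 P, (h41 σ).2] at h1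
  omega

/-- in type `(4,1)` the primes 5, 7, 13 do not divide the group order -/
theorem not_dvd_card (hn : Nat.card (Sylow 3 G) = 22)
    (hfaith : ∀ g : G, (∀ Q : Sylow 3 G, g • Q = Q) → g = 1)
    (h41 : ∀ P : Sylow 3 G, (N3 P).ncard = 12 ∧ (N9 P).ncard = 9) {q : ℕ}
    [Fact q.Prime] (hq : 5 ≤ q) (hq11 : q ≠ 11) : ¬ q ∣ Nat.card G := by
  intro hdvd
  obtain ⟨P⟩ := (Sylow.nonempty : Nonempty (Sylow 3 G))
  set N := Subgroup.normalizer ((P : Subgroup G) : Set G) with hN
  have hG : Nat.card G = Nat.card N * 22 := by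
    rw [← Subgroup.card_mul_index N, ← hn, Sylow.card_eq_index_normalizer P]
    rfl
  rw [hG] at hdvd
  have hqp : q.Prime := Fact.out
  rcases (Nat.Prime.dvd_mul hqp).mp hdvd with h | h
  · obtain ⟨s, hs⟩ := exists_prime_orderOf_dvd_card' (G := N) q h
    have hsq : (s : G) ^ q = 1 := by
      have : s ^ q = 1 := by rw [← hs]; exact pow_orderOf_eq_one s
      exact congrArg Subtype.val this
    have hs1 : (s : G) ≠ 1 := by
      intro h1
      have : s = 1 := Subtype.ext h1
      rw [this, orderOf_one] at hs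
      exact hqp.one_lt.ne hs
    exact no_prime_ge_five hn hfaith h41 hq s.2 hsq hs1
  · have h22 : q ∣ 2 * 11 := h
    rcases (Nat.Prime.dvd_mul hqp).mp h22 with h2 | h11
    · have := Nat.le_of_dvd (by norm_num) h2
      omega
    · have := (Nat.prime_dvd_prime_iff_eq hqp (by norm_num)).mp h11
      omega

end Cfsg.Agent.Lib.Helper4.Syl22F
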