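import Mathlib
import Cfsg.Agent.Lib.Helper4.Syl22F

set_option autoImplicit false

/-! Twenty-two Sylow 3-subgroups: the orbit type `(4,1)` is impossible (conclusion). -/

namespace Cfsg.Agent.Lib.Helper4.Syl22G

open MulAction Cfsg.Agent.H1 Cfsg.Agent.H1.SylNumA Syl22A Syl22B Syl22C Syl22D Syl22E Syl22F
open scoped Pointwise

variable {G : Type*} [Group G] [Finite G]

/-- in type `(4,1)` every line has exactly four points -/
theorem ncard_line_eq_four (hn : Nat.card (Sylow 3 G) = 22)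
    (hfaith : ∀ g : G, (∀ Q : Sylow 3 G, g • Q = Q) → g = 1)
    (h41 : ∀ P : Sylow 3 G, (N3 P).ncard = 12 ∧ (N9 P).ncard = 9) {P Q : Sylow 3 G}
    (hQ : Q ∈ N3 P) : (line ((P : Subgroup G) ⊓ Q)).ncard = 4 := by
  set L := line ((P : Subgroup G) ⊓ Q) with hL
  have h1 := ncard_line_modEq hQ
  have h2 := ncard_line_dvd hQ
  have hPn : P ∉ N3 P := by
    intro h
    rw [mem_N3, idx_eq_one.mpr rfl] at h
    omega
  have h3 : L.ncard ≤ 13 := by
    have := Set.ncard_le_ncard (line_subset hQ) (Set.toFinite _)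
    rwa [Set.ncard_insert_of_notMem hPn (Set.toFinite _), (h41 P).1] at this
  have h4 : 2 ≤ L.ncard := by
    have hPQ : P ≠ Q := by
      rintro rfl
      exact hPn hQ
    have hsub : ({P, Q} : Set (Sylow 3 G)) ⊆ L := by
      intro R hR
      rcases hR with rfl | rfl
      · exact mem_line.mpr inf_le_left
      · exact mem_line.mpr inf_le_right
    have := Set.ncard_le_ncard hsub (Set.toFinite _)
    rwa [Set.ncard_pair hPQ] at this
  rw [← hL] at h1 h2
  have h5 : ¬ (5 : ℕ) ∣ Nat.card G := by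
    haveI : Fact (Nat.Prime 5) := ⟨by norm_num⟩
    exact not_dvd_card hn hfaith h41 (by norm_num) (by norm_num)
  have h7 : ¬ (7 : ℕ) ∣ Nat.card G := by
    haveI : Fact (Nat.Prime 7) := ⟨by norm_num⟩
    exact not_dvd_card hn hfaith h41 (by norm_num) (by norm_num)
  have h13 : ¬ (13 : ℕ) ∣ Nat.card G := by
    haveI : Fact (Nat.Prime 13) := ⟨by norm_num⟩
    exact not_dvd_card hn hfaith h41 (by norm_num) (by norm_num)
  unfold Nat.ModEq at h1
  have h6 : L.ncard = 4 ∨ L.ncard = 7 ∨ L.ncard = 10 ∨ L.ncard = 13 := by omega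
  rcases h6 with h | h | h | h
  · exact h
  · rw [h] at h2; exact absurd h2 h7
  · rw [h] at h2; exact absurd ((by norm_num : (5 : ℕ) ∣ 10).trans h2) h5
  · rw [h] at h2; exact absurd h2 h13

/-- step C: the neighbours of `Q` off the line through `P` and `Q` are at index 9 from `P` -/
theorem mem_N9_of_notMem_line (hn : Nat.card (Sylow 3 G) = 22) {P Q T : Sylow 3 G}
    (hQ : Q ∈ N3 P) (hT : T ∈ N3 Q) (hTl : T ∉ line ((P : Subgroup G) ⊓ Q)) : T ∈ N9 P := by
  rcases trichotomy hn P T with h | h | h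
  · exfalso
    apply hTl
    rw [h]
    exact mem_line.mpr inf_le_left
  · exfalso
    -- an element of `P ∩ Q` outside `T`
    obtain ⟨d, hd, hdT⟩ : ∃ d ∈ (P : Subgroup G) ⊓ Q, d ∉ (T : Subgroup G) := by
      by_contra hcon
      push Not at hcon
      exact hTl hcon
    have hdT' : d • T ≠ T := by
      intro h1
      exact hdT (mem_inf_of_smul_eq hd.2 h1).2
    have hT1 : T ∈ line ((Q : Subgroup G) ⊓ T) := mem_line.mpr inf_le_right
    have hT2 : T ∈ line ((P : Subgroup G) ⊓ T) := mem_line.mpr inf_le_right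
    have hQ1 : Q ∈ line ((Q : Subgroup G) ⊓ T) := mem_line.mpr inf_le_left
    have hP2 : P ∈ line ((P : Subgroup G) ⊓ T) := mem_line.mpr inf_le_left
    have hd1 : d • T ∈ line ((Q : Subgroup G) ⊓ T) :=
      smul_mem_line (le_normalizer_of_mem_line hT hQ1 hd.2) hT1
    have hd2 : d • T ∈ line ((P : Subgroup G) ⊓ T) :=
      smul_mem_line (le_normalizer_of_mem_line h hP2 hd.1) hT2
    have e1 := (inf_eq_of_mem_line hT hT1 hd1 hdT'.symm).1
    have e2 := (inf_eq_of_mem_line h hT2 hd2 hdT'.symm).1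
    have e : (Q : Subgroup G) ⊓ T = (P : Subgroup G) ⊓ T := e1.symm.trans e2
    -- `Q ∩ T ≤ P ∩ Q`, both of index 3 in `Q`
    have hle : (Q : Subgroup G) ⊓ T ≤ (P : Subgroup G) ⊓ Q :=
      le_inf (e ▸ inf_le_left) inf_le_left
    have hQl : Q ∈ line ((P : Subgroup G) ⊓ Q) := mem_line.mpr inf_le_right
    have r1 := relIndex_of_mem_line hQ hQl
    have r2 : ((Q : Subgroup G) ⊓ T).relIndex Q = 3 := hT
    have r3 := Subgroup.relIndex_mul_relIndex _ _ (Q : Subgroup G) hle inf_le_right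
    rw [r1, r2] at r3
    have r4 : ((Q : Subgroup G) ⊓ T).relIndex ((P : Subgroup G) ⊓ Q) = 1 := by omega
    exact hTl ((Subgroup.relIndex_eq_one.mp r4).trans inf_le_right)
  · exact h

/-- step C': the points at index 9 from `P` are neighbours of every neighbour of `P` -/
theorem N9_subset_N3 (hn : Nat.card (Sylow 3 G) = 22)
    (hfaith : ∀ g : G, (∀ Q : Sylow 3 G, g • Q = Q) → g = 1)
    (h41 : ∀ P : Sylow 3 G, (N3 P).ncard = 12 ∧ (N9 P).ncard = 9) {P Q : Sylow 3 G}
    (hQ : Q ∈ N3 P) : N9 P ⊆ N3 Q := by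
  set L := line ((P : Subgroup G) ⊓ Q) with hL
  have hL4 : L.ncard = 4 := ncard_line_eq_four hn hfaith h41 hQ
  have hQL : Q ∈ L := mem_line.mpr inf_le_right
  have hQn : Q ∉ N3 Q := by
    intro h
    rw [mem_N3, idx_eq_one.mpr rfl] at h
    omega
  have h1 : N3 Q \ L ⊆ N9 P := fun T hT => mem_N9_of_notMem_line hn hQ hT.1 hT.2
  have h2 : (N3 Q ∩ L).ncard ≤ 3 := by
    have hsub : N3 Q ∩ L ⊆ L \ {Q} := by
      intro T hT
      refine ⟨hT.2, ?_⟩
      rintro rfl
      exact hQn hT.1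
    have := Set.ncard_le_ncard hsub (Set.toFinite _)
    rwa [Set.ncard_sdiff_singleton_of_mem hQL, hL4] at this
  have h3 := Set.ncard_inter_add_ncard_sdiff_eq_ncard (N3 Q) L (Set.toFinite _)
  rw [(h41 Q).1] at h3
  have h4 : (N9 P).ncard ≤ (N3 Q \ L).ncard := by rw [(h41 P).2]; omega
  have h5 := Set.eq_of_subset_of_ncard_le h1 h4 (Set.toFinite _)
  rw [← h5]
  exact Set.diff_subset

/-- **type (4,1) is impossible** -/
theorem case41 (hn : Nat.card (Sylow 3 G) = 22)
    (hfaith : ∀ g : G, (∀ Q : Sylow 3 G, g • Q = Q) → g = 1)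
    (h41 : ∀ P : Sylow 3 G, (N3 P).ncard = 12 ∧ (N9 P).ncard = 9) : False := by
  obtain ⟨P⟩ := (Sylow.nonempty : Nonempty (Sylow 3 G))
  -- step D: points at index 9 have the same neighbours
  have hD : ∀ T ∈ N9 P, N3 T = N3 P := by
    intro T hT
    have hsub : N3 P ⊆ N3 T := by
      intro Q hQ
      exact mem_N3_symm.mp (N9_subset_N3 hn hfaith h41 hQ hT)
    exact (Set.eq_of_subset_of_ncard_le hsub (by rw [(h41 T).1, (h41 P).1]) (Set.toFinite _)).symm
  set H : Subgroup G := stabilizer G (N3 P) with hH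
  have hmemH : ∀ g : G, g ∈ H ↔ N3 (g • P) = N3 P := by
    intro g
    rw [hH, mem_stabilizer_iff, N3_smul]
    rfl
  have hNH : Subgroup.normalizer ((P : Subgroup G) : Set G) ≤ H := by
    intro g hg
    rw [hmemH, Sylow.smul_eq_iff_mem_normalizer.mpr hg]
  have hPn : P ∉ N3 P := by
    intro h
    rw [mem_N3, idx_eq_one.mpr rfl] at h
    omega
  have horb : orbit H P = insert P (N9 P) := by
    ext T
    constructor
    · rintro ⟨g, rfl⟩
      have hg : N3 (g.1 • P) = N3 P := (hmemH g.1).mp g.2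
      change g.1 • P ∈ insert P (N9 P)
      rcases trichotomy hn P (g.1 • P) with h | h | h
      · exact Or.inl h
      · exfalso
        have : P ∈ N3 (g.1 • P) := mem_N3_symm.mp h
        rw [hg] at this
        exact hPn this
      · exact Or.inr h
    · intro hT
      obtain ⟨g, rfl⟩ := exists_smul_eq G P T
      have hg : g ∈ H := by
        rw [hmemH]
        rcases hT with h | h
        · rw [h]
        · exact hD _ h
      exact ⟨⟨g, hg⟩, rfl⟩
  have hPn9 : P ∉ N9 P := by
    intro h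
    rw [mem_N9, idx_eq_one.mpr rfl] at h
    omega
  have hcard : (orbit H P).ncard = 10 := by
    rw [horb, Set.ncard_insert_of_notMem hPn9 (Set.toFinite _), (h41 P).2]
  rw [ncard_orbit_subgroup, Sylow.stabilizer_eq_normalizer] at hcard
  rcases relIndex_normalizer hn P H hNH with h | h
  · change (Subgroup.normalizer ((P : Subgroup G) : Set G)).relIndex H = 10 at hcard
    omega
  · change (Subgroup.normalizer ((P : Subgroup G) : Set G)).relIndex H = 10 at hcard
    omega

end Cfsg.Agent.Lib.Helper4.Syl22G
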