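import Mathlib
import Cfsg.Agent.Lib.Helper4.Syl22G

set_option autoImplicit false

/-! Twenty-two Sylow 3-subgroups: type `(7,0)` forces Sylow subgroups of order 3;
fixed point counts for elements of the normalizer of a Sylow subgroup. -/

namespace Cfsg.Agent.Lib.Helper4.Syl22H

open MulAction Cfsg.Agent.H1 Cfsg.Agent.H1.SylNumA Syl22A Syl22B Syl22C Syl22D Syl22E Syl22F
open scoped Pointwise

variable {G : Type*} [Group G] [Finite G]

/-- commutators of `P` lie in every intersection of index 3 -/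
theorem commutator_mem_inf {P Q : Sylow 3 G} (hQ : Q ∈ N3 P) {a b : G} (ha : a ∈ (P : Subgroup G))
    (hb : b ∈ (P : Subgroup G)) : (b * a)⁻¹ * (a * b) ∈ (P : Subgroup G) ⊓ Q := by
  set D : Subgroup G := (P : Subgroup G) ⊓ Q with hD
  have hidx : (D.subgroupOf P).index = 3 := hQ
  obtain ⟨n, hn⟩ := IsPGroup.iff_card.mp P.isPGroup'
  have hn0 : n ≠ 0 := by
    rintro rfl
    have h1 : (D.subgroupOf P).index ∣ Nat.card (P : Subgroup G) := Subgroup.index_dvd_card _
    rw [hidx, hn] at h1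
    norm_num at h1
  have hmf : (Nat.card (P : Subgroup G)).minFac = 3 := by
    rw [hn]
    exact Nat.Prime.pow_minFac Nat.prime_three hn0
  haveI hnorm : (D.subgroupOf P).Normal :=
    Subgroup.normal_of_index_eq_minFac_card (by rw [hidx, hmf])
  have hc : Nat.card ((P : Subgroup G) ⧸ D.subgroupOf P) = 3 := hidx
  haveI : Fact (Nat.Prime 3) := ⟨Nat.prime_three⟩
  haveI hcyc : IsCyclic ((P : Subgroup G) ⧸ D.subgroupOf P) := isCyclic_of_prime_card hc
  have hcomm : ∀ u v : (P : Subgroup G) ⧸ D.subgroupOf P, u * v = v * u := by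
    letI := IsCyclic.commGroup (α := (P : Subgroup G) ⧸ D.subgroupOf P)
    exact fun u v => mul_comm u v
  have h1 := hcomm (QuotientGroup.mk ⟨a, ha⟩) (QuotientGroup.mk ⟨b, hb⟩)
  rw [← QuotientGroup.mk_mul, ← QuotientGroup.mk_mul, eq_comm, QuotientGroup.eq,
    Subgroup.mem_subgroupOf] at h1
  simpa using h1

/-- context for the order 3 case -/
structure Ctx (G : Type*) [Group G] [Finite G] : Prop where
  hn : Nat.card (Sylow 3 G) = 22
  hfaith : ∀ g : G, (∀ Q : Sylow 3 G, g • Q = Q) → g = 1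
  hA : ∀ M : Subgroup G, M.Normal → ¬ 3 ∣ M.index → M = ⊤
  hcard : ∀ P : Sylow 3 G, Nat.card (P : Subgroup G) = 3

/-- **type (7,0)**: the Sylow 3-subgroups have order 3 -/
theorem card_eq_three_of_type70 (hn : Nat.card (Sylow 3 G) = 22)
    (hfaith : ∀ g : G, (∀ Q : Sylow 3 G, g • Q = Q) → g = 1)
    (h70 : ∀ P : Sylow 3 G, (N3 P).ncard = 21 ∧ (N9 P).ncard = 0) :
    ∀ P : Sylow 3 G, Nat.card (P : Subgroup G) = 3 := by
  have hN9 : ∀ P : Sylow 3 G, N9 P = ∅ := fun P =>
    (Set.ncard_eq_zero (Set.toFinite _)).mp (h70 P).2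
  have hN3 : ∀ P Q : Sylow 3 G, Q ≠ P → Q ∈ N3 P := by
    intro P Q hne
    rcases trichotomy hn P Q with h | h | h
    · exact absurd h hne
    · exact h
    · rw [hN9] at h; exact absurd h (Set.notMem_empty _)
  -- the Sylow subgroups are abelian
  have hab : ∀ P : Sylow 3 G, ∀ a ∈ (P : Subgroup G), ∀ b ∈ (P : Subgroup G), a * b = b * a := by
    intro P a ha b hb
    set c := (b * a)⁻¹ * (a * b) with hc
    have hcP : c ∈ (P : Subgroup G) :=
      Subgroup.mul_mem _ (Subgroup.inv_mem _ (Subgroup.mul_mem _ hb ha)) (Subgroup.mul_mem _ ha hb)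
    have hall : ∀ Q : Sylow 3 G, c ∈ (Q : Subgroup G) := by
      intro Q
      by_cases hne : Q = P
      · rw [hne]; exact hcP
      · exact (commutator_mem_inf (hN3 P Q hne) ha hb).2
    have hc1 : c = 1 := hfaith c (fun Q => smul_eq_of_mem (hall Q))
    rw [hc, inv_mul_eq_one] at hc1
    exact hc1.symm
  obtain ⟨S, T, hST⟩ := brodkey hab
  have hbot : (S : Subgroup G) ⊓ T = ⊥ := eq_bot_of_le_all hfaith _ hST
  have hS : Nat.card (S : Subgroup G) = idx S T := by
    have := idx_mul_card S T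
    rw [hbot, Subgroup.card_bot, mul_one] at this
    exact this.symm
  have hne : T ≠ S := by
    intro h
    rw [h, idx_eq_one.mpr rfl] at hS
    -- but `S` has a neighbour
    have hne3 : (N3 S).Nonempty := by
      rw [← Set.ncard_pos (Set.toFinite _), (h70 S).1]; norm_num
    obtain ⟨Q, hQ⟩ := hne3
    have h9 : idx S Q ∣ Nat.card (S : Subgroup G) := Subgroup.relIndex_dvd_card _ _
    rw [mem_N3.mp hQ, hS] at h9
    norm_num at h9
  have hS3 : Nat.card (S : Subgroup G) = 3 := hS.trans (hN3 S T hne)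
  intro P
  rw [card_eq P S, hS3]

namespace Ctx

variable (c : Ctx G)
include c

theorem hA2 : ∀ M : Subgroup G, M.Normal → M.index ≠ 2 := by
  intro M hM h2
  have := c.hA M hM (by rw [h2]; norm_num)
  rw [this, Subgroup.index_top] at h2
  omega

/-- distinct Sylow subgroups meet trivially -/
theorem inf_eq_bot {P Q : Sylow 3 G} (hne : P ≠ Q) : (P : Subgroup G) ⊓ Q = ⊥ := by
  have h1 := idx_mul_card P Q
  rw [c.hcard P] at h1
  have h2 : idx P Q ≠ 1 := fun h => hne (idx_eq_one.mp h)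
  have h3 : idx P Q ∣ 3 := Dvd.intro _ h1
  rcases (Nat.dvd_prime Nat.prime_three).mp h3 with h | h
  · exact absurd h h2
  · rw [h] at h1
    have : Nat.card ((P : Subgroup G) ⊓ Q : Subgroup G) = 1 := by omega
    exact Subgroup.card_eq_one.mp this

/-- a nontrivial element of `P` fixes only `P` -/
theorem eq_of_fix {P Q : Sylow 3 G} {y : G} (hy : y ∈ (P : Subgroup G)) (hy1 : y ≠ 1)
    (h : y • Q = Q) : Q = P := by
  by_contra hne
  have := mem_inf_of_smul_eq hy h
  rw [c.inf_eq_bot (Ne.symm hne)] at this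
  exact hy1 (Subgroup.mem_bot.mp this)

/-- a 3-element normalizing `P` lies in `P` -/
theorem mem_of_pow_three {P : Sylow 3 G} {g : G}
    (hg : g ∈ Subgroup.normalizer ((P : Subgroup G) : Set G)) (h3 : g ^ 3 = 1) :
    g ∈ (P : Subgroup G) := by
  have hK : IsPGroup 3 (Subgroup.zpowers g) := isPGroup_zpowers h3
  exact le_sylow_of_le_normalizer hK P (Subgroup.zpowers_le.mpr hg) (Subgroup.mem_zpowers g)

/-- the elements of `P` -/
theorem exists_gen (P : Sylow 3 G) : ∃ x ∈ (P : Subgroup G), x ≠ 1 ∧ x ^ 3 = 1 ∧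
    ∀ z ∈ (P : Subgroup G), z = 1 ∨ z = x ∨ z = x⁻¹ := by
  have hc := c.hcard P
  have hnt : (P : Subgroup G) ≠ ⊥ := by
    intro h
    rw [h, Subgroup.card_bot] at hc
    omega
  obtain ⟨⟨x, hx⟩, hx1'⟩ := (Subgroup.ne_bot_iff_exists_ne_one).mp hnt
  have hx1 : x ≠ 1 := fun h => hx1' (Subtype.ext h)
  have hx3 : x ^ 3 = 1 := by
    have := Subgroup.orderOf_dvd_natCard (P : Subgroup G) hx
    rw [hc] at this
    exact orderOf_dvd_iff_pow_eq_one.mp this
  refine ⟨x, hx, hx1, hx3, ?_⟩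
  have hxi1 : x⁻¹ ≠ 1 := fun h => hx1 (inv_eq_one.mp h)
  have hxxi : x ≠ x⁻¹ := by
    intro h
    have h2 : x ^ 2 = 1 := by
      rw [pow_two]
      nth_rewrite 2 [h]
      exact mul_inv_cancel x
    have : x = 1 := by
      have h3 : x ^ 3 = x ^ 2 * x := pow_succ x 2
      rw [hx3, h2, one_mul] at h3
      exact h3.symm
    exact hx1 this
  have hsub : ({1, x, x⁻¹} : Set G) ⊆ ((P : Subgroup G) : Set G) := by
    intro z hz
    rcases hz with rfl | rfl | rfl
    · exact Subgroup.one_mem _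
    · exact hx
    · exact Subgroup.inv_mem _ hx
  have hcard : ({1, x, x⁻¹} : Set G).ncard = 3 := by
    rw [Set.ncard_insert_of_notMem, Set.ncard_pair hxxi]
    intro h
    rcases h with h | h
    · exact hx1 h.symm
    · exact hxi1 h.symm
  have hP : ((P : Subgroup G) : Set G).ncard = 3 := by
    rw [← Nat.card_coe_set_eq]; exact hc
  have heq := Set.eq_of_subset_of_ncard_le hsub (by rw [hcard, hP]) (Set.toFinite _)
  intro z hz
  have : z ∈ ({1, x, x⁻¹} : Set G) := by rw [heq]; exact hz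
  simpa using this

end Ctx

end Cfsg.Agent.Lib.Helper4.Syl22H
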