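import Mathlib
import Cfsg.Agent.Lib.Helper4.Syl22H
import Cfsg.Agent.H1.SylNumB

set_option autoImplicit false

/-! Twenty-two Sylow 3-subgroups of order 3: fixed point counts. -/

namespace Cfsg.Agent.Lib.Helper4.Syl22I

open MulAction Cfsg.Agent.H1 Cfsg.Agent.H1.SylNumA Syl22A Syl22B Syl22C Syl22D Syl22E Syl22F Syl22H
open scoped Pointwise

variable {G : Type*} [Group G] [Finite G]

/-- the Sylow subgroups normalized by `g` -/
def fixSet (g : G) : Set (Sylow 3 G) := {Q | g • Q = Q}

omit [Finite G] in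
theorem mem_fixSet {g : G} {Q : Sylow 3 G} : Q ∈ fixSet g ↔ g • Q = Q := Iff.rfl

omit [Finite G] in
theorem mem_fixSet_iff {g : G} {Q : Sylow 3 G} :
    Q ∈ fixSet g ↔ g ∈ Subgroup.normalizer ((Q : Subgroup G) : Set G) :=
  Sylow.smul_eq_iff_mem_normalizer

omit [Finite G] in
theorem fixSet_subset_pow (g : G) (n : ℕ) : fixSet g ⊆ fixSet (g ^ n) := by
  intro Q hQ
  rw [mem_fixSet_iff] at hQ ⊢
  exact Subgroup.pow_mem _ hQ n

/-- an element commuting with `P` has `1 mod 3` fixed points -/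
theorem fix_modEq_three {P : Sylow 3 G} {s : G}
    (hs : s ∈ Subgroup.centralizer ((P : Subgroup G) : Set G)) :
    (fixSet s).ncard ≡ 1 [MOD 3] := by
  have hinv : ∀ y ∈ (P : Subgroup G), ∀ Q ∈ fixSet s, y • Q ∈ fixSet s := by
    intro y hy Q hQ
    rw [mem_fixSet] at hQ ⊢
    have hcomm : y * s = s * y := Subgroup.mem_centralizer_iff.mp hs y hy
    rw [← mul_smul, ← hcomm, mul_smul, hQ]
  have h1 := ncard_modEq_fixed (p := 3) (P : Subgroup G) P.isPGroup' (fixSet s) hinv
  have h2 : {R | R ∈ fixSet s ∧ ∀ y ∈ (P : Subgroup G), y • R = R} = {P} := by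
    ext R
    simp only [Set.mem_setOf_eq, Set.mem_singleton_iff]
    constructor
    · rintro ⟨_, h⟩
      have h3 : (P : Subgroup G) ≤ Subgroup.normalizer ((R : Subgroup G) : Set G) :=
        fun y hy => Sylow.smul_eq_iff_mem_normalizer.mp (h y hy)
      exact (sylow_eq_of_le (le_sylow_of_le_normalizer P.isPGroup' R h3)).symm
    · rintro rfl
      exact ⟨mem_fixSet_iff.mpr (Subgroup.centralizer_le_normalizer _ hs),
        fun y hy => smul_eq_of_mem hy⟩
  rw [h2, Set.ncard_singleton] at h1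
  exact h1

/-- an element of prime order `q`: fixed points modulo `q` -/
theorem fix_modEq_prime {q : ℕ} [Fact q.Prime] {s : G} (hsq : s ^ q = 1) :
    Nat.card (Sylow 3 G) ≡ (fixSet s).ncard [MOD q] := by
  have h1 := ncard_modEq_fixed (p := q) (X := Sylow 3 G) (Subgroup.zpowers s)
    (isPGroup_zpowers hsq) Set.univ (fun _ _ _ _ => Set.mem_univ _)
  have h2 : {Q : Sylow 3 G | Q ∈ Set.univ ∧ ∀ k ∈ Subgroup.zpowers s, k • Q = Q} = fixSet s := by
    ext Q
    simp only [Set.mem_univ, true_and, Set.mem_setOf_eq, fixed_zpowers_iff, mem_fixSet]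
  rw [h2, Set.ncard_univ] at h1
  exact h1

namespace Ctx

variable (c : Syl22H.Ctx G)
include c

theorem fix_lt {s : G} (hs1 : s ≠ 1) : (fixSet s).ncard < 22 := by
  have hle : (fixSet s).ncard ≤ 22 := by
    rw [← c.hn, ← Set.ncard_univ]
    exact Set.ncard_le_ncard (Set.subset_univ _) (Set.toFinite _)
  rcases hle.lt_or_eq with h | h
  · exact h
  · exfalso
    have huniv : fixSet s = Set.univ := by
      apply Set.eq_of_subset_of_ncard_le (Set.subset_univ _) _ (Set.toFinite _)
      rw [Set.ncard_univ, c.hn, h]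
    apply hs1
    apply c.hfaith
    intro Q
    have : Q ∈ fixSet s := huniv ▸ Set.mem_univ Q
    exact this

/-- elements of odd order in the normalizer of `P` centralize `P` -/
theorem central_of_odd {P : Sylow 3 G} {s : G}
    (hs : s ∈ Subgroup.normalizer ((P : Subgroup G) : Set G)) {q : ℕ} (hq : Odd q)
    (hsq : s ^ q = 1) : s ∈ Subgroup.centralizer ((P : Subgroup G) : Set G) := by
  haveI : Fact (Nat.Prime 3) := ⟨Nat.prime_three⟩
  haveI : Finite (P : Subgroup G) := inferInstance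
  have hcyc : IsCyclic (P : Subgroup G) := isCyclic_of_prime_card (c.hcard P)
  set φ := (P : Subgroup G).normalizerMonoidHom with hφ
  set s' : Subgroup.normalizer ((P : Subgroup G) : Set G) := ⟨s, hs⟩ with hs'
  have h1 : (φ s') ^ q = 1 := by
    rw [← map_pow]
    have : s' ^ q = 1 := Subtype.ext (by simpa using hsq)
    rw [this, map_one]
  have h2 : (φ s') ^ 2 = 1 := by
    have hc : Nat.card (MulAut (P : Subgroup G)) = 2 := by
      rw [hcyc.card_mulAut, c.hcard P, Nat.totient_prime Nat.prime_three]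
    rw [← hc]
    exact pow_card_eq_one'
  have h3 : φ s' = 1 := by
    have ho1 : orderOf (φ s') ∣ q := orderOf_dvd_of_pow_eq_one h1
    have ho2 : orderOf (φ s') ∣ 2 := orderOf_dvd_of_pow_eq_one h2
    have : orderOf (φ s') ∣ Nat.gcd q 2 := Nat.dvd_gcd ho1 ho2
    have hg : Nat.gcd q 2 = 1 := Odd.coprime_two_right hq
    rw [hg, Nat.dvd_one] at this
    exact orderOf_eq_one_iff.mp this
  have h4 : s' ∈ φ.ker := h3
  rw [hφ, Subgroup.normalizerMonoidHom_ker, Subgroup.mem_subgroupOf] at h4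
  exact h4

end Ctx

end Cfsg.Agent.Lib.Helper4.Syl22I
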