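import Mathlib
import Cfsg.Agent.Lib.Helper4.Syl22I

set_option autoImplicit false

/-! Twenty-two Sylow 3-subgroups of order 3: fixed point counts by element order. -/

namespace Cfsg.Agent.Lib.Helper4.Syl22J

open MulAction Cfsg.Agent.H1 Cfsg.Agent.H1.SylNumA Syl22A Syl22B Syl22C Syl22D Syl22E Syl22F Syl22H
  Syl22I
open scoped Pointwise

variable {G : Type*} [Group G] [Finite G]

namespace Ctx

variable (c : Syl22H.Ctx G)
include c

/-- a 3-element fixes exactly one point -/
theorem ncard_fix_three {P : Sylow 3 G} {s : G}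
    (hs : s ∈ Subgroup.normalizer ((P : Subgroup G) : Set G)) (h3 : s ^ 3 = 1) (hs1 : s ≠ 1) :
    (fixSet s).ncard = 1 := by
  have hsP := Syl22H.Ctx.mem_of_pow_three c hs h3
  have : fixSet s = {P} := by
    ext Q
    simp only [Set.mem_singleton_iff, mem_fixSet]
    constructor
    · intro h
      exact Syl22H.Ctx.eq_of_fix c hsP hs1 h
    · rintro rfl
      exact smul_eq_of_mem hsP
  rw [this, Set.ncard_singleton]

/-- an element of order 5 fixing a point fixes exactly seven -/
theorem ncard_fix_five {P : Sylow 3 G} {s : G}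
    (hs : s ∈ Subgroup.normalizer ((P : Subgroup G) : Set G)) (h5 : s ^ 5 = 1) (hs1 : s ≠ 1) :
    (fixSet s).ncard = 7 := by
  haveI : Fact (Nat.Prime 5) := ⟨by norm_num⟩
  have h1 := fix_modEq_three (Syl22I.Ctx.central_of_odd c hs (by decide) h5)
  have h2 := fix_modEq_prime (q := 5) h5
  have h3 := Syl22I.Ctx.fix_lt c hs1
  rw [c.hn] at h2
  unfold Nat.ModEq at h1 h2
  omega

/-- an element of order 7 fixing a point fixes exactly one -/
theorem ncard_fix_seven {P : Sylow 3 G} {s : G}
    (hs : s ∈ Subgroup.normalizer ((P : Subgroup G) : Set G)) (h7 : s ^ 7 = 1) (hs1 : s ≠ 1) :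
    (fixSet s).ncard = 1 := by
  haveI : Fact (Nat.Prime 7) := ⟨by norm_num⟩
  have h1 := fix_modEq_three (Syl22I.Ctx.central_of_odd c hs (by decide) h7)
  have h2 := fix_modEq_prime (q := 7) h7
  have h3 := Syl22I.Ctx.fix_lt c hs1
  rw [c.hn] at h2
  unfold Nat.ModEq at h1 h2
  omega

/-- no element of prime order at least 11 fixes a point -/
theorem no_large_prime {P : Sylow 3 G} {s : G} {q : ℕ} [Fact q.Prime] (hq : 11 ≤ q)
    (hs : s ∈ Subgroup.normalizer ((P : Subgroup G) : Set G)) (hsq : s ^ q = 1) (hs1 : s ≠ 1) :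
    False := by
  have hqp : q.Prime := Fact.out
  have hodd : Odd q := hqp.odd_of_ne_two (by omega)
  have h1 := fix_modEq_three (Syl22I.Ctx.central_of_odd c hs hodd hsq)
  have h2 := fix_modEq_prime (q := q) hsq
  have h3 := Syl22I.Ctx.fix_lt c hs1
  rw [c.hn] at h2
  by_cases hq23 : 23 ≤ q
  · have := Nat.ModEq.eq_of_lt_of_lt h2 (by omega) (by omega)
    omega
  · unfold Nat.ModEq at h1 h2
    have hlt : q < 23 := by omega
    interval_cases q
    · omega
    · exact absurd hqp (by norm_num)
    · omega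
    · exact absurd hqp (by norm_num)
    · exact absurd hqp (by norm_num)
    · exact absurd hqp (by norm_num)
    · omega
    · exact absurd hqp (by norm_num)
    · omega
    · exact absurd hqp (by norm_num)
    · exact absurd hqp (by norm_num)
    · exact absurd hqp (by norm_num)

/-- parity of the fixed points of an involution -/
theorem fix_invol_mod_four {t : G} (h2 : t ^ 2 = 1) : (fixSet t).ncard % 4 = 2 := by
  have := fixed_modEq_four (Syl22H.Ctx.hA2 c) (X := Sylow 3 G) t h2
  rw [c.hn] at this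
  unfold Nat.ModEq at this
  have e : {x : Sylow 3 G | t • x = x} = fixSet t := rfl
  rw [e] at this
  omega

/-- an involution centralizing `P` fixes exactly ten points -/
theorem ncard_fix_invol_central {P : Sylow 3 G} {t : G}
    (ht : t ∈ Subgroup.centralizer ((P : Subgroup G) : Set G)) (h2 : t ^ 2 = 1) (ht1 : t ≠ 1) :
    (fixSet t).ncard = 10 := by
  have h1 := fix_modEq_three ht
  have h3 := fix_invol_mod_four c h2
  have h4 := Syl22I.Ctx.fix_lt c ht1
  unfold Nat.ModEq at h1
  omega

/-- an element normalizing but not centralizing `P` inverts it -/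
theorem invert_of_not_central {P : Sylow 3 G} {t : G}
    (ht : t ∈ Subgroup.normalizer ((P : Subgroup G) : Set G))
    (hnc : t ∉ Subgroup.centralizer ((P : Subgroup G) : Set G)) :
    ∀ z ∈ (P : Subgroup G), t * z * t⁻¹ = z⁻¹ := by
  obtain ⟨x, hx, hx1, hx3, hall⟩ := Syl22H.Ctx.exists_gen c P
  have htx : t * x * t⁻¹ ∈ (P : Subgroup G) := (Subgroup.mem_normalizer_iff.mp ht x).mp hx
  have key : t * x * t⁻¹ = x⁻¹ := by
    rcases hall _ htx with h | h | h
    · exfalso
      apply hx1
      have : x = t⁻¹ * (t * x * t⁻¹) * t := by group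
      rw [this, h]; group
    · exfalso
      apply hnc
      rw [Subgroup.mem_centralizer_iff]
      have hcomm : x * t = t * x := by
        have : t * x = (t * x * t⁻¹) * t := by group
        rw [this, h]
      intro z hz
      rcases hall z hz with rfl | rfl | rfl
      · simp
      · exact hcomm
      · have : x⁻¹ * t = x⁻¹ * (t * x) * x⁻¹ := by group
        rw [this, ← hcomm]; group
    · exact h
  intro z hz
  rcases hall z hz with rfl | rfl | rfl
  · simp
  · exact key
  · have : t * x⁻¹ * t⁻¹ = (t * x * t⁻¹)⁻¹ := by group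
    rw [this, key]

/-- an involution inverting `P` fixes at most eight points -/
theorem ncard_fix_invert_le {P : Sylow 3 G} {t : G}
    (ht : t ∈ Subgroup.normalizer ((P : Subgroup G) : Set G))
    (hnc : t ∉ Subgroup.centralizer ((P : Subgroup G) : Set G)) : (fixSet t).ncard ≤ 8 := by
  obtain ⟨x, hx, hx1, hx3, hall⟩ := Syl22H.Ctx.exists_gen c P
  have hinv := invert_of_not_central c ht hnc
  set F : Set (Sylow 3 G) := fixSet t \ {P} with hF
  -- a nontrivial element of `P` moves `F` off itself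
  have key : ∀ z ∈ (P : Subgroup G), z ≠ 1 → ∀ Q ∈ F, z • Q ∉ F := by
    intro z hz hz1 Q hQ hzQ
    have h1 : t • Q = Q := hQ.1
    have h2 : t • (z • Q) = z • Q := hzQ.1
    have h3 : t • (z • Q) = z⁻¹ • Q := by
      rw [← mul_smul]
      have : t * z = (t * z * t⁻¹) * t := by group
      rw [this, hinv z hz, mul_smul, h1]
    rw [h3] at h2
    have h4 : (z * z) • Q = Q := by
      rw [mul_smul, ← h2, smul_inv_smul]
    have hzz : z * z ≠ 1 := by
      intro h
      apply hz1
      rcases hall z hz with rfl | rfl | rfl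
      · rfl
      · have : z ^ 3 = z * z * z := by rw [pow_succ, pow_two]
        rw [hx3, h, one_mul] at this
        exact this.symm
      · have h5 : x * x = 1 := by
          have : x * x = (x⁻¹ * x⁻¹)⁻¹ := by rw [mul_inv_rev, inv_inv]
          rw [this, h, inv_one]
        have : x ^ 3 = x * x * x := by rw [pow_succ, pow_two]
        rw [hx3, h5, one_mul] at this
        rw [← this, inv_one]
    have := Syl22H.Ctx.eq_of_fix c (Subgroup.mul_mem _ hz hz) hzz h4
    exact hQ.2 this
  have hxi : x⁻¹ ∈ (P : Subgroup G) := Subgroup.inv_mem _ hx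
  have hxi1 : x⁻¹ ≠ 1 := fun h => hx1 (inv_eq_one.mp h)
  set B : Set (Sylow 3 G) := (fun Q => x • Q) '' F with hB
  set C : Set (Sylow 3 G) := (fun Q => x⁻¹ • Q) '' F with hC
  have hAB : Disjoint F B := by
    rw [Set.disjoint_left]
    rintro Q hQ ⟨Q', hQ', rfl⟩
    exact key x hx hx1 Q' hQ' hQ
  have hAC : Disjoint F C := by
    rw [Set.disjoint_left]
    rintro Q hQ ⟨Q', hQ', rfl⟩
    exact key x⁻¹ hxi hxi1 Q' hQ' hQ
  have hBC : Disjoint B C := by
    rw [Set.disjoint_left]
    rintro Q ⟨Q₁, hQ₁, rfl⟩ ⟨Q₂, hQ₂, h⟩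
    have h1 : Q₂ = x⁻¹ • Q₁ := by
      have h2 : Q₂ = x • (x • Q₁) := by
        have : x • (x⁻¹ • Q₂) = x • (x • Q₁) := by
          change x⁻¹ • Q₂ = x • Q₁ at h
          rw [h]
        rwa [smul_inv_smul] at this
      rw [h2, ← mul_smul]
      have : x * x = x⁻¹ := by
        have h3 : x ^ 3 = x * x * x := by rw [pow_succ, pow_two]
        rw [hx3] at h3
        exact eq_inv_of_mul_eq_one_left h3.symm
      rw [this]
    exact key x⁻¹ hxi hxi1 Q₁ hQ₁ (h1 ▸ hQ₂)
  have hsub : F ∪ B ∪ C ⊆ {Q | Q ≠ P} := by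
    have hP : ∀ z ∈ (P : Subgroup G), ∀ Q ∈ F, z • Q ≠ P := by
      intro z hz Q hQ h
      apply hQ.2
      have : Q = z⁻¹ • P := by rw [← h, inv_smul_smul]
      rw [this]
      exact smul_eq_of_mem (Subgroup.inv_mem _ hz)
    rintro Q ((hQ | ⟨Q', hQ', rfl⟩) | ⟨Q', hQ', rfl⟩)
    · exact hQ.2
    · exact hP x hx Q' hQ'
    · exact hP x⁻¹ hxi Q' hQ'
  have hcard : (F ∪ B ∪ C).ncard = 3 * F.ncard := by
    have hdisj : Disjoint (F ∪ B) C := Set.disjoint_union_left.mpr ⟨hAC, hBC⟩
    rw [Set.ncard_union_eq hdisj (Set.toFinite _) (Set.toFinite _),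
      Set.ncard_union_eq hAB (Set.toFinite _) (Set.toFinite _), hB, hC,
      Set.ncard_image_of_injective _ (MulAction.injective x),
      Set.ncard_image_of_injective _ (MulAction.injective x⁻¹)]
    ring
  have h21 : ({Q | Q ≠ P} : Set (Sylow 3 G)).ncard = 21 := by
    have : ({Q | Q ≠ P} : Set (Sylow 3 G)) = Set.univ \ {P} := by
      ext Q; simp
    rw [this, Set.ncard_sdiff_singleton_of_mem (Set.mem_univ P), Set.ncard_univ, c.hn]
  have h1 := Set.ncard_le_ncard hsub (Set.toFinite _)
  rw [hcard, h21] at h1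
  have hPmem : P ∈ fixSet t := mem_fixSet_iff.mpr ht
  have h2 : F.ncard = (fixSet t).ncard - 1 := Set.ncard_sdiff_singleton_of_mem hPmem
  have h3 : 0 < (fixSet t).ncard := (Set.ncard_pos (Set.toFinite _)).mpr ⟨P, hPmem⟩
  omega

/-- an involution inverting `P` fixes two or six points -/
theorem ncard_fix_invol_invert {P : Sylow 3 G} {t : G}
    (ht : t ∈ Subgroup.normalizer ((P : Subgroup G) : Set G))
    (hnc : t ∉ Subgroup.centralizer ((P : Subgroup G) : Set G)) (h2 : t ^ 2 = 1) :
    (fixSet t).ncard = 2 ∨ (fixSet t).ncard = 6 := by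
  have h1 := ncard_fix_invert_le c ht hnc
  have h3 := fix_invol_mod_four c h2
  omega

end Ctx

end Cfsg.Agent.Lib.Helper4.Syl22J
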