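import Mathlib
import Cfsg.Agent.Lib.Helper4.Syl22J

set_option autoImplicit false

/-! Twenty-two Sylow 3-subgroups of order 3: at most ten fixed points; the action of a group
on the orbits of a normal subgroup. -/

namespace Cfsg.Agent.Lib.Helper4.Syl22K

open MulAction Cfsg.Agent.H1 Cfsg.Agent.H1.SylNumA Syl22A Syl22B Syl22C Syl22D Syl22E Syl22F Syl22H
  Syl22I Syl22J
open scoped Pointwise

section Fix

variable {G : Type*} [Group G] [Finite G]

/-- a nonidentity element normalizes at most ten Sylow 3-subgroups -/
theorem ncard_fix_le_ten (c : Syl22H.Ctx G) {g : G} (hg1 : g ≠ 1) : (fixSet g).ncard ≤ 10 := by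
  by_cases hemp : (fixSet g) = ∅
  · rw [hemp, Set.ncard_empty]; omega
  obtain ⟨P, hP⟩ := Set.nonempty_iff_ne_empty.mpr hemp
  set n := orderOf g with hn
  have hn0 : n ≠ 0 := (orderOf_pos g).ne'
  have hn1 : n ≠ 1 := fun h => hg1 (orderOf_eq_one_iff.mp h)
  set q := n.minFac with hq
  have hqp : q.Prime := Nat.minFac_prime hn1
  have hqn : q ∣ n := Nat.minFac_dvd n
  set g' := g ^ (n / q) with hg'
  have hord : orderOf g' = q := orderOf_pow_orderOf_div hn0 hqn
  have hg'q : g' ^ q = 1 := by rw [← hord]; exact pow_orderOf_eq_one g'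
  have hg'1 : g' ≠ 1 := by
    intro h
    rw [h, orderOf_one] at hord
    exact hqp.one_lt.ne hord
  have hsub : fixSet g ⊆ fixSet g' := fixSet_subset_pow g _
  have hP' : g' ∈ Subgroup.normalizer ((P : Subgroup G) : Set G) := mem_fixSet_iff.mp (hsub hP)
  have hle := Set.ncard_le_ncard hsub (Set.toFinite _)
  haveI : Fact q.Prime := ⟨hqp⟩
  by_cases hq11 : 11 ≤ q
  · exact (Syl22J.Ctx.no_large_prime c hq11 hP' hg'q hg'1).elim
  · have hlt : q < 11 := by omega
    have h2 : 2 ≤ q := hqp.two_le
    interval_cases q
    · by_cases hc : g' ∈ Subgroup.centralizer ((P : Subgroup G) : Set G)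
      · have := Syl22J.Ctx.ncard_fix_invol_central c hc hg'q hg'1
        omega
      · have := Syl22J.Ctx.ncard_fix_invert_le c hP' hc
        omega
    · have := Syl22J.Ctx.ncard_fix_three c hP' hg'q hg'1
      omega
    · exact absurd hqp (by norm_num)
    · have := Syl22J.Ctx.ncard_fix_five c hP' hg'q hg'1
      omega
    · exact absurd hqp (by norm_num)
    · have := Syl22J.Ctx.ncard_fix_seven c hP' hg'q hg'1
      omega
    · exact absurd hqp (by norm_num)
    · exact absurd hqp (by norm_num)
    · exact absurd hqp (by norm_num)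

end Fix

section QuotAction

variable {N Y : Type*} [Group N] [MulAction N Y] (K : Subgroup N) [hK : K.Normal]

/-- the action of `N` on the orbits of a normal subgroup `K` -/
def quotAct : MulAction N (orbitRel.Quotient K Y) where
  smul n := Quotient.map' (fun y => n • y) (by
    intro a b hab
    change a ∈ orbit K b at hab
    obtain ⟨k, rfl⟩ := hab
    change n • (k • b) ∈ orbit K (n • b)
    refine ⟨⟨n * k.1 * n⁻¹, hK.conj_mem k.1 k.2 n⟩, ?_⟩
    change (n * k.1 * n⁻¹) • (n • b) = n • (k.1 • b)
    rw [← mul_smul, ← mul_smul]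
    congr 1
    group)
  one_smul := by
    intro ω
    induction ω using Quotient.inductionOn' with
    | h y =>
      change Quotient.map' _ _ (Quotient.mk'' y) = _
      rw [Quotient.map'_mk'', one_smul]
  mul_smul := by
    intro n m ω
    induction ω using Quotient.inductionOn' with
    | h y =>
      change Quotient.map' _ _ (Quotient.mk'' y) =
        Quotient.map' _ _ (Quotient.map' _ _ (Quotient.mk'' y))
      rw [Quotient.map'_mk'', Quotient.map'_mk'', Quotient.map'_mk'', mul_smul]

theorem quotAct_smul_mk (n : N) (y : Y) :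
    (quotAct K).smul n (Quotient.mk'' y : orbitRel.Quotient K Y) = Quotient.mk'' (n • y) :=
  rfl

/-- the kernel of the action on the orbits -/
theorem mem_ker_quotAct (n : N) :
    n ∈ (@MulAction.toPermHom N (orbitRel.Quotient K Y) _ (quotAct K)).ker ↔
      ∀ y : Y, ∃ k ∈ K, n • y = k • y := by
  letI := quotAct K (Y := Y)
  rw [MonoidHom.mem_ker]
  constructor
  · intro h y
    have h1 := congrArg (fun σ : Equiv.Perm (orbitRel.Quotient K Y) => σ (Quotient.mk'' y)) h
    simp only [MulAction.toPermHom_apply, MulAction.toPerm_apply, Equiv.Perm.coe_one, id_eq] at h1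
    change (Quotient.mk'' (n • y) : orbitRel.Quotient K Y) = Quotient.mk'' y at h1
    rw [Quotient.eq''] at h1
    change n • y ∈ orbit K y at h1
    obtain ⟨k, hk⟩ := h1
    exact ⟨k.1, k.2, hk.symm⟩
  · intro h
    apply Equiv.ext
    intro ω
    induction ω using Quotient.inductionOn' with
    | h y =>
      obtain ⟨k, hk, hky⟩ := h y
      simp only [MulAction.toPermHom_apply, MulAction.toPerm_apply, Equiv.Perm.coe_one, id_eq]
      change (Quotient.mk'' (n • y) : orbitRel.Quotient K Y) = Quotient.mk'' y
      rw [Quotient.eq'']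
      change n • y ∈ orbit K y
      exact ⟨⟨k, hk⟩, hky.symm⟩

/-- the order of the acting group: kernel times a divisor of the factorial -/
theorem card_eq_ker_mul [Finite N] [Finite Y] :
    ∃ d, d ∣ (Nat.card (orbitRel.Quotient K Y)).factorial ∧
      Nat.card N = Nat.card (@MulAction.toPermHom N (orbitRel.Quotient K Y) _ (quotAct K)).ker * d := by
  letI := quotAct K (Y := Y)
  set φ := MulAction.toPermHom N (orbitRel.Quotient K Y) with hφ
  refine ⟨Nat.card φ.range, ?_, ?_⟩
  · rw [← Nat.card_perm]
    exact Subgroup.card_subgroup_dvd_card _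
  · rw [← Subgroup.index_ker, Subgroup.card_mul_index]

end QuotAction

end Cfsg.Agent.Lib.Helper4.Syl22K
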