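import Mathlib
import Cfsg.Agent.Lib.Helper4.Syl22K

set_option autoImplicit false

/-! Twenty-two Sylow 3-subgroups of order 3: `N(P)/P` embeds in the symmetric group of degree 7. -/

namespace Cfsg.Agent.Lib.Helper4.Syl22L

open MulAction Cfsg.Agent.H1 Cfsg.Agent.H1.SylNumA Syl22A Syl22B Syl22C Syl22D Syl22E Syl22F Syl22H
  Syl22I Syl22J Syl22K
open scoped Pointwise

theorem ncard_orbit_of_free {G X : Type*} [Group G] [MulAction G X] (K : Subgroup G) (x : X)
    (hfree : ∀ k ∈ K, k • x = x → k = 1) : (orbit K x).ncard = Nat.card K := by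
  rw [ncard_orbit_subgroup, Subgroup.relIndex]
  have : (stabilizer G x).subgroupOf K = ⊥ := by
    rw [Subgroup.eq_bot_iff_forall]
    intro k hk
    rw [Subgroup.mem_subgroupOf, mem_stabilizer_iff] at hk
    exact Subtype.ext (hfree k.1 k.2 hk)
  rw [this, Subgroup.index_bot]

variable {G : Type*} [Group G] [Finite G]

/-- the Sylow subgroups other than `P`, with the action of the normalizer of `P` -/
def others (P : Sylow 3 G) :
    SubMulAction (Subgroup.normalizer ((P : Subgroup G) : Set G)) (Sylow 3 G) where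
  carrier := {Q | Q ≠ P}
  smul_mem' := by
    intro n Q hQ h
    apply hQ
    have h1 : Q = n⁻¹ • (n • Q) := (inv_smul_smul n Q).symm
    rw [h1, h]
    exact Sylow.smul_eq_iff_mem_normalizer.mpr (n⁻¹).2

theorem ncard_ne (hn : Nat.card (Sylow 3 G) = 22) (P : Sylow 3 G) :
    ({Q | Q ≠ P} : Set (Sylow 3 G)).ncard = 21 := by
  have : ({Q | Q ≠ P} : Set (Sylow 3 G)) = Set.univ \ {P} := by
    ext Q; simp
  rw [this, Set.ncard_sdiff_singleton_of_mem (Set.mem_univ P), Set.ncard_univ, hn]

theorem card_others (hn : Nat.card (Sylow 3 G) = 22) (P : Sylow 3 G) :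
    Nat.card (others P) = 21 := by
  rw [← ncard_ne hn P]
  exact Nat.card_coe_set_eq _

namespace Ctx

variable (c : Syl22H.Ctx G)
include c

theorem pow_three_of_mem {P : Sylow 3 G} {k : G} (hk : k ∈ (P : Subgroup G)) : k ^ 3 = 1 := by
  have := Subgroup.orderOf_dvd_natCard (P : Subgroup G) hk
  rw [c.hcard P] at this
  exact orderOf_dvd_iff_pow_eq_one.mp this

/-- the number of orbits of `P` on the other Sylow subgroups -/
theorem card_orbits (P : Sylow 3 G) :
    Nat.card (orbitRel.Quotient
      ((P : Subgroup G).subgroupOf (Subgroup.normalizer ((P : Subgroup G) : Set G))) (others P)) = 7 := by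
  set K := (P : Subgroup G).subgroupOf (Subgroup.normalizer ((P : Subgroup G) : Set G)) with hK
  have hKc : Nat.card K = 3 := by
    rw [hK, Nat.card_congr (Subgroup.subgroupOfEquivOfLe Subgroup.le_normalizer).toEquiv, c.hcard P]
  haveI : Finite (others P) := Subtype.finite
  have h1 := card_eq_mul_card_orbits (X := others P) K 3 (by
    intro y
    rw [ncard_orbit_of_free K y, hKc]
    intro k hk hky
    have h2 : (k : G) • (y : Sylow 3 G) = y := congrArg Subtype.val hky
    have hk' : (k : G) ∈ (P : Subgroup G) := hk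
    by_contra hne
    have hne' : (k : G) ≠ 1 := fun h => hne (Subtype.ext h)
    exact y.2 (Syl22H.Ctx.eq_of_fix c hk' hne' h2))
  rw [card_others c.hn P] at h1
  omega

/-- an element centralizing `P` and preserving every `P`-orbit lies in `P` -/
theorem mem_of_fix_orbits {P : Sylow 3 G} {g : G}
    (hg : g ∈ Subgroup.normalizer ((P : Subgroup G) : Set G))
    (hc : g ∈ Subgroup.centralizer ((P : Subgroup G) : Set G))
    (horb : ∀ Q : Sylow 3 G, Q ≠ P → ∃ k ∈ (P : Subgroup G), g • Q = k • Q) :
    g ∈ (P : Subgroup G) := by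
  apply Syl22H.Ctx.mem_of_pow_three c hg
  apply c.hfaith
  intro Q
  by_cases hQ : Q = P
  · rw [hQ]
    exact Sylow.smul_eq_iff_mem_normalizer.mpr (Subgroup.pow_mem _ hg 3)
  · obtain ⟨k, hk, hgk⟩ := horb Q hQ
    have hcomm : k * g = g * k := Subgroup.mem_centralizer_iff.mp hc k hk
    have h1 : ∀ R : Sylow 3 G, g • (k • R) = k • (g • R) := by
      intro R
      rw [← mul_smul, ← hcomm, mul_smul]
    have h3 : k ^ 3 = 1 := pow_three_of_mem c hk
    calc g ^ 3 • Q = g • (g • (g • Q)) := by
          rw [pow_succ, pow_two, mul_smul, mul_smul]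
      _ = g • (g • (k • Q)) := by rw [hgk]
      _ = g • (k • (g • Q)) := by rw [h1]
      _ = g • (k • (k • Q)) := by rw [hgk]
      _ = k • (g • (k • Q)) := by rw [h1]
      _ = k • (k • (g • Q)) := by rw [h1]
      _ = k • (k • (k • Q)) := by rw [hgk]
      _ = k ^ 3 • Q := by rw [pow_succ, pow_two, mul_smul, mul_smul]
      _ = Q := by rw [h3, one_smul]

/-- no element inverting `P` preserves every `P`-orbit -/
theorem not_fix_orbits_of_invert {P : Sylow 3 G} {g : G}
    (hg : g ∈ Subgroup.normalizer ((P : Subgroup G) : Set G))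
    (hnc : g ∉ Subgroup.centralizer ((P : Subgroup G) : Set G))
    (horb : ∀ Q : Sylow 3 G, Q ≠ P → ∃ k ∈ (P : Subgroup G), g • Q = k • Q) : False := by
  have hinv := Syl22J.Ctx.invert_of_not_central c hg hnc
  have hconj : ∀ k ∈ (P : Subgroup G), ∀ R : Sylow 3 G, g • (k • R) = k⁻¹ • (g • R) := by
    intro k hk R
    rw [← mul_smul, ← mul_smul]
    congr 1
    rw [← hinv k hk]; group
  -- `g` is an involution
  have hg2 : g ^ 2 = 1 := by
    apply c.hfaith
    intro Q
    by_cases hQ : Q = P
    · rw [hQ]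
      exact Sylow.smul_eq_iff_mem_normalizer.mpr (Subgroup.pow_mem _ hg 2)
    · obtain ⟨k, hk, hgk⟩ := horb Q hQ
      rw [pow_two, mul_smul, hgk, hconj k hk, hgk, inv_smul_smul]
  have hfix := Syl22J.Ctx.ncard_fix_invol_invert c hg hnc hg2
  obtain ⟨x, hx, hx1, hx3, hall⟩ := Syl22H.Ctx.exists_gen c P
  set F : Set (Sylow 3 G) := fixSet g \ {P} with hF
  have hcover : ({Q | Q ≠ P} : Set (Sylow 3 G)) ⊆
      F ∪ (fun Q => x • Q) '' F ∪ (fun Q => x⁻¹ • Q) '' F := by
    intro Q hQ
    obtain ⟨k, hk, hgk⟩ := horb Q hQ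
    have h3 : k ^ 3 = 1 := pow_three_of_mem c hk
    have hkk : k * k = k⁻¹ := by
      have : k ^ 3 = k * k * k := by rw [pow_succ, pow_two]
      rw [h3] at this
      exact eq_inv_of_mul_eq_one_left this.symm
    -- the fixed point in the orbit of `Q`
    have hQ' : k⁻¹ • Q ∈ F := by
      refine ⟨?_, ?_⟩
      · change g • (k⁻¹ • Q) = k⁻¹ • Q
        rw [hconj k⁻¹ (Subgroup.inv_mem _ hk), inv_inv, hgk, ← mul_smul, hkk]
      · intro h
        apply hQ
        have h1 : Q = k • (k⁻¹ • Q) := (smul_inv_smul k Q).symm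
        rw [h1, h]
        exact smul_eq_of_mem hk
    rcases hall k hk with rfl | rfl | rfl
    · left; left
      simpa using hQ'
    · left; right
      exact ⟨_, hQ', smul_inv_smul _ Q⟩
    · right
      refine ⟨_, hQ', ?_⟩
      change x⁻¹ • (x⁻¹⁻¹ • Q) = Q
      rw [inv_inv, inv_smul_smul]
  have h1 := Set.ncard_le_ncard hcover (Set.toFinite _)
  rw [ncard_ne c.hn P] at h1
  have h2 := Set.ncard_union_le (F ∪ (fun Q => x • Q) '' F) ((fun Q => x⁻¹ • Q) '' F)
  have h3 := Set.ncard_union_le F ((fun Q => x • Q) '' F)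
  rw [Set.ncard_image_of_injective _ (MulAction.injective x)] at h3
  rw [Set.ncard_image_of_injective _ (MulAction.injective x⁻¹)] at h2
  have hPmem : P ∈ fixSet g := mem_fixSet_iff.mpr hg
  have h4 : F.ncard = (fixSet g).ncard - 1 := Set.ncard_sdiff_singleton_of_mem hPmem
  omega

/-- the kernel of the action of `N(P)` on the seven orbits of `P` is `P` -/
theorem ker_eq (P : Sylow 3 G) :
    (@MulAction.toPermHom (Subgroup.normalizer ((P : Subgroup G) : Set G))
      (orbitRel.Quotient ((P : Subgroup G).subgroupOf (Subgroup.normalizer ((P : Subgroup G) : Set G)))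
        (others P)) _
      (quotAct ((P : Subgroup G).subgroupOf (Subgroup.normalizer ((P : Subgroup G) : Set G))))).ker =
      (P : Subgroup G).subgroupOf (Subgroup.normalizer ((P : Subgroup G) : Set G)) := by
  set K := (P : Subgroup G).subgroupOf (Subgroup.normalizer ((P : Subgroup G) : Set G)) with hK
  ext n
  rw [mem_ker_quotAct]
  constructor
  · intro h
    have horb : ∀ Q : Sylow 3 G, Q ≠ P → ∃ k ∈ (P : Subgroup G), (n : G) • Q = k • Q := by
      intro Q hQ
      obtain ⟨k, hk, hky⟩ := h ⟨Q, hQ⟩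
      exact ⟨k.1, hk, congrArg Subtype.val hky⟩
    by_cases hc : (n : G) ∈ Subgroup.centralizer ((P : Subgroup G) : Set G)
    · exact mem_of_fix_orbits c n.2 hc horb
    · exact (not_fix_orbits_of_invert c n.2 hc horb).elim
  · intro hn y
    exact ⟨n, hn, rfl⟩

/-- the order of the normalizer of a Sylow 3-subgroup -/
theorem card_normalizer (P : Sylow 3 G) :
    ∃ h, h ∣ 560 ∧ Nat.card (Subgroup.normalizer ((P : Subgroup G) : Set G)) = 3 * h := by
  set N := Subgroup.normalizer ((P : Subgroup G) : Set G) with hN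
  set K := (P : Subgroup G).subgroupOf N with hK
  haveI : Finite (others P) := Subtype.finite
  obtain ⟨d, hd, hcard⟩ := card_eq_ker_mul (N := N) (Y := others P) K
  rw [ker_eq c P, card_orbits c P] at *
  have hKc : Nat.card K = 3 := by
    rw [hK, Nat.card_congr (Subgroup.subgroupOfEquivOfLe Subgroup.le_normalizer).toEquiv, c.hcard P]
  rw [hKc] at hcard
  refine ⟨d, ?_, hcard⟩
  -- `9` does not divide the group order
  have h9 : ¬ 9 ∣ Nat.card G := by
    intro h
    have h1 := Sylow.card_eq_multiplicity P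
    rw [c.hcard P] at h1
    have h2 : 3 ^ 2 ∣ Nat.card G := h
    have h3 := (Nat.Prime.pow_dvd_iff_le_factorization Nat.prime_three Nat.card_pos.ne').mp h2
    have h4 : (Nat.card G).factorization 3 = 1 := by
      have : (3 : ℕ) ^ 1 = 3 ^ (Nat.card G).factorization 3 := by simpa using h1
      exact (Nat.pow_right_injective (by norm_num : 2 ≤ 3) this).symm
    omega
  have h3d : ¬ 3 ∣ d := by
    intro h
    apply h9
    have : 9 ∣ Nat.card N := by
      rw [hcard]
      obtain ⟨e, rfl⟩ := h
      exact ⟨e, by ring⟩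
    exact this.trans (Subgroup.card_subgroup_dvd_card N)
  have hfac : (7 : ℕ).factorial = 9 * 560 := by decide
  rw [hfac] at hd
  have hcop : Nat.Coprime d 9 := by
    have : Nat.Coprime d 3 := (Nat.Prime.coprime_iff_not_dvd Nat.prime_three).mpr h3d |>.symm
    exact Nat.Coprime.pow_right 2 this
  exact hcop.dvd_of_dvd_mul_left hd

end Ctx

end Cfsg.Agent.Lib.Helper4.Syl22L
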