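import Mathlib
import Cfsg.Agent.Lib.Helper4.Syl22L
import Cfsg.Agent.H1.SylNumE

set_option autoImplicit false

/-! Twenty-two Sylow 3-subgroups of order 3: the Sylow 11-subgroups. -/

namespace Cfsg.Agent.Lib.Helper4.Syl22M

open MulAction Cfsg.Agent.H1 Cfsg.Agent.H1.SylNumA Syl22A Syl22B Syl22C Syl22D Syl22E Syl22F Syl22H
  Syl22I Syl22J Syl22K Syl22L
open scoped Pointwise

instance fact11 : Fact (Nat.Prime 11) := ⟨by norm_num⟩

section General

variable {G : Type*} [Group G]

/-- Cauchy's theorem in a subgroup -/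
theorem cauchy_sub [Finite G] (H : Subgroup G) (q : ℕ) [Fact q.Prime] (h : q ∣ Nat.card H) :
    ∃ s ∈ H, s ^ q = 1 ∧ s ≠ 1 := by
  obtain ⟨s, hs⟩ := exists_prime_orderOf_dvd_card' (G := H) q h
  refine ⟨s.1, s.2, ?_, ?_⟩
  · have : s ^ q = 1 := by rw [← hs]; exact pow_orderOf_eq_one s
    exact congrArg Subtype.val this
  · intro h1
    have : s = 1 := Subtype.ext h1
    rw [this, orderOf_one] at hs
    exact (Fact.out : q.Prime).one_lt.ne hs

/-- if `v` fixes two points of a free orbit of `R`, it commutes with the translating element -/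
theorem commute_of_fix_two {X : Type*} [MulAction G X] (R : Subgroup G) {v r : G} (x : X)
    (hr : r ∈ R) (hvr : v * r * v⁻¹ ∈ R) (hfree : ∀ k ∈ R, k • x = x → k = 1) (h1 : v • x = x)
    (h2 : v • (r • x) = r • x) : v * r = r * v := by
  have h3 : (r⁻¹ * (v * r * v⁻¹)) • x = x := by
    rw [mul_smul, inv_smul_eq_iff, ← h2]
    nth_rewrite 1 [← h1]
    rw [← mul_smul, ← mul_smul]
    congr 1
    group
  have h4 := hfree _ (Subgroup.mul_mem _ (Subgroup.inv_mem _ hr) hvr) h3
  have h5 : v * r * v⁻¹ = r := by
    have := congrArg (fun z => r * z) h4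
    simpa using this
  calc v * r = (v * r * v⁻¹) * v := by group
    _ = r * v := by rw [h5]

/-- an element commuting with a nontrivial element of a subgroup of prime order centralizes it -/
theorem mem_centralizer_of_commute [Finite G] (R : Subgroup G) (hR : (Nat.card R).Prime) {r v : G}
    (hr : r ∈ R) (hr1 : r ≠ 1) (h : v * r = r * v) :
    v ∈ Subgroup.centralizer (R : Set G) := by
  set S : Subgroup G := R ⊓ Subgroup.centralizer ({v} : Set G) with hS
  have hrS : r ∈ S := by
    have hrc : r ∈ Subgroup.centralizer ({v} : Set G) := by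
      rw [Subgroup.mem_centralizer_iff]
      intro z hz
      rw [Set.mem_singleton_iff] at hz
      rw [hz]; exact h
    exact ⟨hr, hrc⟩
  have hle : S ≤ R := inf_le_left
  have hdvd : Nat.card S ∣ Nat.card R := Subgroup.card_dvd_of_le hle
  have hS1 : Nat.card S ≠ 1 := by
    intro h1
    rw [Subgroup.card_eq_one] at h1
    rw [h1, Subgroup.mem_bot] at hrS
    exact hr1 hrS
  have hSR : Nat.card S = Nat.card R := by
    rcases (Nat.dvd_prime hR).mp hdvd with h1 | h1
    · exact absurd h1 hS1
    · exact h1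
  have heq : S = R := Subgroup.eq_of_le_of_card_ge hle hSR.ge
  rw [Subgroup.mem_centralizer_iff]
  intro z hz
  have hz' : z ∈ S := heq ▸ hz
  have := Subgroup.mem_centralizer_iff.mp hz'.2 v (Set.mem_singleton v)
  exact this.symm

end General

variable {G : Type*} [Group G] [Finite G]

namespace Ctx

variable (c : Syl22H.Ctx G)
include c

/-- the order of the group -/
theorem card_G (P : Sylow 3 G) :
    Nat.card G = 22 * Nat.card (Subgroup.normalizer ((P : Subgroup G) : Set G)) := by
  rw [← Subgroup.card_mul_index (Subgroup.normalizer ((P : Subgroup G) : Set G)), ← c.hn,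
    Sylow.card_eq_index_normalizer P, mul_comm]
  rfl

/-- elements of order 11 have no fixed points -/
theorem free_eleven {r : G} (hr : r ^ 11 = 1) {Q : Sylow 3 G} (h : r • Q = Q) : r = 1 := by
  by_contra hr1
  exact Syl22J.Ctx.no_large_prime c (q := 11) (le_refl 11) (mem_fixSet_iff.mp h) hr hr1

end Ctx

end Cfsg.Agent.Lib.Helper4.Syl22M
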