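import Mathlib
import Cfsg.Agent.Lib.Helper4.Syl22M

set_option autoImplicit false

/-! Twenty-two Sylow 3-subgroups of order 3: the normalizer of a Sylow 11-subgroup has order 22. -/

namespace Cfsg.Agent.Lib.Helper4.Syl22N

open MulAction Cfsg.Agent.H1 Cfsg.Agent.H1.SylNumA Syl22A Syl22B Syl22C Syl22D Syl22E Syl22F Syl22H
  Syl22I Syl22J Syl22K Syl22L Syl22M
open scoped Pointwise

variable {G : Type*} [Group G] [Finite G]

/-- the order of a subgroup in terms of a smaller one -/
theorem card_eq_relIndex_mul {H K : Subgroup G} (h : H ≤ K) :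
    Nat.card K = H.relIndex K * Nat.card H := by
  rw [Subgroup.relIndex, ← Subgroup.card_mul_index (H.subgroupOf K),
    Nat.card_congr (Subgroup.subgroupOfEquivOfLe h).toEquiv, mul_comm]

/-- two commuting powers: an element killed by coprime exponents is trivial -/
theorem eq_one_of_pow_coprime {g : G} {a b : ℕ} (ha : g ^ a = 1) (hb : g ^ b = 1)
    (hab : Nat.Coprime a b) : g = 1 := by
  have h1 : orderOf g ∣ a := orderOf_dvd_of_pow_eq_one ha
  have h2 : orderOf g ∣ b := orderOf_dvd_of_pow_eq_one hb
  have h3 : orderOf g ∣ Nat.gcd a b := Nat.dvd_gcd h1 h2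
  rw [hab, Nat.dvd_one] at h3
  exact orderOf_eq_one_iff.mp h3

/-- elements of a subgroup are killed by its order -/
theorem pow_card_of_mem {H : Subgroup G} {g : G} (hg : g ∈ H) : g ^ Nat.card H = 1 := by
  have := Subgroup.orderOf_dvd_natCard H hg
  exact orderOf_dvd_iff_pow_eq_one.mp this

namespace Ctx

variable (c : Syl22H.Ctx G)
include c

/-- the order of the group and of the normalizers of the Sylow 3-subgroups -/
theorem exists_h : ∃ h, h ∣ 560 ∧ Nat.card G = 66 * h ∧
    ∀ P : Sylow 3 G, Nat.card (Subgroup.normalizer ((P : Subgroup G) : Set G)) = 3 * h := by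
  obtain ⟨P₀⟩ : Nonempty (Sylow 3 G) := inferInstance
  obtain ⟨h, hd, hc⟩ := Syl22L.Ctx.card_normalizer c P₀
  have hG := Syl22M.Ctx.card_G c P₀
  refine ⟨h, hd, by rw [hG, hc]; ring, fun P => ?_⟩
  have := Syl22M.Ctx.card_G c P
  omega

/-- Sylow 11-subgroups have order 11 -/
theorem card_sylow11 (R : Sylow 11 G) : Nat.card (R : Subgroup G) = 11 := by
  obtain ⟨h, hd, hG, -⟩ := exists_h c
  apply SylNumE.card_sylow_of_card_eq R (m := 6 * h) (by rw [hG]; ring)
  intro h11
  have h1 : 6 * h ∣ 6 * 560 := Nat.mul_dvd_mul_left 6 hd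
  have h2 : 11 ∣ 6 * 560 := h11.trans h1
  norm_num at h2

theorem free_R (R : Sylow 11 G) {r : G} (hr : r ∈ (R : Subgroup G)) {Q : Sylow 3 G}
    (h : r • Q = Q) : r = 1 := by
  have h11 : r ^ 11 = 1 := by
    have := pow_card_of_mem hr
    rwa [card_sylow11 c R] at this
  exact Syl22M.Ctx.free_eleven c h11 h

/-- the centralizer of a Sylow 11-subgroup acts semiregularly -/
theorem free_centralizer (R : Sylow 11 G) {g : G}
    (hg : g ∈ Subgroup.centralizer ((R : Subgroup G) : Set G)) {Q : Sylow 3 G} (h : g • Q = Q) :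
    g = 1 := by
  by_contra hg1
  have h10 := ncard_fix_le_ten c hg1
  have hsub : orbit (R : Subgroup G) Q ⊆ fixSet g := by
    rintro _ ⟨r, rfl⟩
    rw [mem_fixSet]
    change g • ((r : G) • Q) = (r : G) • Q
    have hcomm : (r : G) * g = g * r := Subgroup.mem_centralizer_iff.mp hg r r.2
    rw [← mul_smul, ← hcomm, mul_smul, h]
  have h11 : (orbit (R : Subgroup G) Q).ncard = 11 := by
    rw [ncard_orbit_of_free (R : Subgroup G) Q (fun k hk hkQ => free_R c R hk hkQ), card_sylow11 c R]
  have := Set.ncard_le_ncard hsub (Set.toFinite _)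
  omega

theorem le_centralizer11 (R : Sylow 11 G) :
    (R : Subgroup G) ≤ Subgroup.centralizer ((R : Subgroup G) : Set G) := by
  haveI : IsCyclic (R : Subgroup G) := isCyclic_of_prime_card (card_sylow11 c R)
  intro x hx
  rw [Subgroup.mem_centralizer_iff]
  intro y hy
  have := (IsCyclic.isMulCommutative (α := (R : Subgroup G))).is_comm.comm ⟨y, hy⟩ ⟨x, hx⟩
  exact congrArg Subtype.val this

/-- a Sylow 11-subgroup is self-centralizing -/
theorem card_centralizer11 (R : Sylow 11 G) :
    Nat.card (Subgroup.centralizer ((R : Subgroup G) : Set G)) = 11 := by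
  set C := Subgroup.centralizer ((R : Subgroup G) : Set G) with hC
  have hdvd : Nat.card C ∣ 22 := by
    have := card_dvd_ncard_of_free (X := Sylow 3 G) C Set.univ (fun _ _ _ _ => Set.mem_univ _)
      (fun y _ k hk h => free_centralizer c R hk h)
    rwa [Set.ncard_univ, c.hn] at this
  have h11 : 11 ∣ Nat.card C := by
    have := Subgroup.card_dvd_of_le (le_centralizer11 c R)
    rwa [card_sylow11 c R] at this
  obtain ⟨k, hk⟩ := h11
  rw [hk] at hdvd ⊢
  have hk2 : k ∣ 2 := by
    have : 11 * k ∣ 11 * 2 := hdvd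
    exact (Nat.mul_dvd_mul_iff_left (by norm_num)).mp this
  have hk' : k = 1 ∨ k = 2 := (Nat.dvd_prime Nat.prime_two).mp hk2
  rcases hk' with rfl | rfl
  · rfl
  · exfalso
    haveI : Fact (Nat.Prime 2) := ⟨Nat.prime_two⟩
    obtain ⟨t, htC, ht2, ht1⟩ := cauchy_sub C 2 (by rw [hk]; norm_num)
    have hmod := Syl22J.Ctx.fix_invol_mod_four c ht2
    have hne : (fixSet t).Nonempty := by
      rw [← Set.ncard_pos (Set.toFinite _)]
      omega
    obtain ⟨Q, hQ⟩ := hne
    exact ht1 (free_centralizer c R htC hQ)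

/-- the normalizer of a Sylow 11-subgroup has order 22 -/
theorem card_normalizer11 (R : Sylow 11 G) :
    Nat.card (Subgroup.normalizer ((R : Subgroup G) : Set G)) = 22 := by
  set C := Subgroup.centralizer ((R : Subgroup G) : Set G) with hC
  set N := Subgroup.normalizer ((R : Subgroup G) : Set G) with hN
  have hCN : C ≤ N := Subgroup.centralizer_le_normalizer _
  have hR11 := card_sylow11 c R
  have hcard := card_eq_relIndex_mul hCN
  rw [card_centralizer11 c R] at hcard
  have he : C.relIndex N ∣ 10 := SylNumB.relIndex_centralizer_normalizer_dvd R hR11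
  set e := C.relIndex N with hedef
  -- `5` does not divide `e`
  have h5 : ¬ 5 ∣ e := by
    intro h5e
    haveI : Fact (Nat.Prime 5) := ⟨by norm_num⟩
    obtain ⟨v, hvN, hv5, hv1⟩ := cauchy_sub N 5 (by rw [hcard]; exact h5e.mul_right 11)
    have hvC : v ∉ C := by
      intro hvC
      have h11 : v ^ 11 = 1 := by
        have := pow_card_of_mem hvC
        rwa [card_centralizer11 c R] at this
      exact hv1 (eq_one_of_pow_coprime hv5 h11 (by norm_num))
    -- `v` has a fixed point, hence seven
    have hmod := fix_modEq_prime (q := 5) hv5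
    rw [c.hn] at hmod
    have hne : (fixSet v).Nonempty := by
      rw [← Set.ncard_pos (Set.toFinite _)]
      unfold Nat.ModEq at hmod
      omega
    obtain ⟨P, hP⟩ := hne
    have h7 := Syl22J.Ctx.ncard_fix_five c (mem_fixSet_iff.mp hP) hv5 hv1
    -- the fixed points lie in different orbits of `R`
    have horb : Nat.card (orbitRel.Quotient (R : Subgroup G) (Sylow 3 G)) = 2 := by
      have := card_eq_mul_card_orbits (X := Sylow 3 G) (R : Subgroup G) 11 (by
        intro y
        rw [ncard_orbit_of_free (R : Subgroup G) y (fun k hk hky => free_R c R hk hky), hR11])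
      rw [c.hn] at this
      omega
    haveI : Finite (orbitRel.Quotient (R : Subgroup G) (Sylow 3 G)) := Quotient.finite _
    have hle := Set.ncard_le_ncard_of_injOn (s := fixSet v)
      (t := (Set.univ : Set (orbitRel.Quotient (R : Subgroup G) (Sylow 3 G))))
      (fun Q => (Quotient.mk'' Q : orbitRel.Quotient (R : Subgroup G) (Sylow 3 G)))
      (fun _ _ => Set.mem_univ _)
      (by
        intro Q1 hQ1 Q2 hQ2 heq
        have h1 : Q1 ∈ orbit (R : Subgroup G) Q2 := Quotient.exact' heq
        obtain ⟨r, hr⟩ := h1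
        by_cases hr1 : (r : G) = 1
        · rw [← hr]
          change (r : G) • Q2 = Q2
          rw [hr1, one_smul]
        · exfalso
          apply hvC
          have hr' : (r : G) • Q2 = Q1 := hr
          have hvr : v * (r : G) * v⁻¹ ∈ (R : Subgroup G) :=
            (Subgroup.mem_normalizer_iff.mp hvN (r : G)).mp r.2
          have hcomm := commute_of_fix_two (R : Subgroup G) Q2 r.2 hvr
            (fun k hk hkQ => free_R c R hk hkQ) hQ2 (by rw [hr']; exact hQ1)
          exact mem_centralizer_of_commute (R : Subgroup G) (by rw [hR11]; norm_num) r.2 hr1 hcomm)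
      (Set.toFinite _)
    rw [Set.ncard_univ, horb, h7] at hle
    omega
  -- `e` is not `1`
  have h1 : e ≠ 1 := by
    intro he1
    have hNC : N ≤ C := by
      apply Subgroup.relIndex_eq_one.mp
      exact he1
    obtain ⟨K, hKn, hKi⟩ := SylNumD.exists_normal_of_transfer R hNC
    rw [hR11] at hKi
    have := c.hA K hKn (by rw [hKi]; norm_num)
    rw [this, Subgroup.index_top] at hKi
    omega
  have hle : e ≤ 10 := Nat.le_of_dvd (by norm_num) he
  have hpos : 0 < e := Nat.pos_of_dvd_of_pos he (by norm_num)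
  interval_cases e <;> omega

end Ctx

end Cfsg.Agent.Lib.Helper4.Syl22N
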