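import Mathlib
import Cfsg.Agent.Lib.Helper4.Syl22N

set_option autoImplicit false

/-! Twenty-two Sylow 3-subgroups of order 3: the normalizer has order 12 or 210, and 210 is
impossible. -/

namespace Cfsg.Agent.Lib.Helper4.Syl22O

open MulAction Cfsg.Agent.H1 Cfsg.Agent.H1.SylNumA Syl22A Syl22B Syl22C Syl22D Syl22E Syl22F Syl22H
  Syl22I Syl22J Syl22K Syl22L Syl22M Syl22N
open scoped Pointwise

instance fact7' : Fact (Nat.Prime 7) := ⟨by norm_num⟩
instance fact5' : Fact (Nat.Prime 5) := ⟨by norm_num⟩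

set_option maxRecDepth 100000 in
theorem arith_h {h : ℕ} (hd : h ∣ 560) (hm : (3 * h) % 11 = 1) : h = 4 ∨ h = 70 := by
  have hdiv : Nat.divisors 560 =
      {1, 2, 4, 5, 7, 8, 10, 14, 16, 20, 28, 35, 40, 56, 70, 80, 112, 140, 280, 560} := by decide
  have hmem : h ∈ Nat.divisors 560 := Nat.mem_divisors.mpr ⟨hd, by norm_num⟩
  rw [hdiv] at hmem
  simp only [Finset.mem_insert, Finset.mem_singleton] at hmem
  rcases hmem with rfl | rfl | rfl | rfl | rfl | rfl | rfl | rfl | rfl | rfl | rfl | rfl | rfl |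
    rfl | rfl | rfl | rfl | rfl | rfl | rfl <;> omega

variable {G : Type*} [Group G] [Finite G]

namespace Ctx

variable (c : Syl22H.Ctx G)
include c

/-- the number of Sylow 11-subgroups is the order of the normalizer of a Sylow 3-subgroup -/
theorem card_sylow11_eq (P : Sylow 3 G) :
    Nat.card (Sylow 11 G) = Nat.card (Subgroup.normalizer ((P : Subgroup G) : Set G)) := by
  obtain ⟨R⟩ : Nonempty (Sylow 11 G) := inferInstance
  have h1 : Nat.card (Sylow 11 G) = (Subgroup.normalizer ((R : Subgroup G) : Set G)).index :=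
    Sylow.card_eq_index_normalizer R
  have h2 := Subgroup.card_mul_index (Subgroup.normalizer ((R : Subgroup G) : Set G))
  rw [Syl22N.Ctx.card_normalizer11 c R, ← h1, Syl22M.Ctx.card_G c P] at h2
  omega

theorem card_normalizer_mod (P : Sylow 3 G) :
    Nat.card (Subgroup.normalizer ((P : Subgroup G) : Set G)) % 11 = 1 := by
  rw [← card_sylow11_eq c P]
  have h3 := card_sylow_modEq_one 11 G
  unfold Nat.ModEq at h3
  omega

/-- the order of the group is 264 or 4620 -/
theorem h_cases : ∃ h, (h = 4 ∨ h = 70) ∧ Nat.card G = 66 * h ∧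
    ∀ P : Sylow 3 G, Nat.card (Subgroup.normalizer ((P : Subgroup G) : Set G)) = 3 * h := by
  obtain ⟨h, hd, hG, hN⟩ := Syl22N.Ctx.exists_h c
  obtain ⟨P₀⟩ : Nonempty (Sylow 3 G) := inferInstance
  have := card_normalizer_mod c P₀
  rw [hN P₀] at this
  exact ⟨h, arith_h hd this, hG, hN⟩

/-- the order 4620 is impossible -/
theorem not_seventy (hG : Nat.card G = 4620)
    (hN : ∀ P : Sylow 3 G, Nat.card (Subgroup.normalizer ((P : Subgroup G) : Set G)) = 210) :
    False := by
  obtain ⟨W⟩ : Nonempty (Sylow 7 G) := inferInstance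
  have hW7 : Nat.card (W : Subgroup G) = 7 :=
    SylNumE.card_sylow_of_card_eq W (m := 660) (by rw [hG]) (by norm_num)
  obtain ⟨w, hwW, hw7, hw1⟩ := cauchy_sub (W : Subgroup G) 7 (by rw [hW7])
  -- `w` has exactly one fixed point
  have hmod := fix_modEq_prime (q := 7) hw7
  rw [c.hn] at hmod
  have hne : (fixSet w).Nonempty := by
    rw [← Set.ncard_pos (Set.toFinite _)]
    unfold Nat.ModEq at hmod
    omega
  obtain ⟨P, hP⟩ := hne
  have h1 := Syl22J.Ctx.ncard_fix_seven c (mem_fixSet_iff.mp hP) hw7 hw1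
  have hfixw : fixSet w = {P} := by
    obtain ⟨a, ha⟩ := Set.ncard_eq_one.mp h1
    have : P ∈ ({a} : Set (Sylow 3 G)) := ha ▸ hP
    rw [Set.mem_singleton_iff] at this
    rw [ha, this]
  -- `W` is commutative
  haveI : IsCyclic (W : Subgroup G) := isCyclic_of_prime_card hW7
  have hWcomm : ∀ a ∈ (W : Subgroup G), ∀ b ∈ (W : Subgroup G), a * b = b * a := by
    intro a ha b hb
    have := (IsCyclic.isMulCommutative (α := (W : Subgroup G))).is_comm.comm ⟨a, ha⟩ ⟨b, hb⟩
    exact congrArg Subtype.val this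
  -- `W` fixes `P`
  have hWfix : ∀ a ∈ (W : Subgroup G), a • P = P := by
    intro a ha
    have : a • P ∈ fixSet w := by
      rw [mem_fixSet, ← mul_smul, hWcomm w hwW a ha, mul_smul]
      congr 1
    rw [hfixw] at this
    exact this
  -- the normalizer of `W` fixes `P`
  have hNW : Subgroup.normalizer ((W : Subgroup G) : Set G) ≤
      Subgroup.normalizer ((P : Subgroup G) : Set G) := by
    intro g hg
    rw [← mem_fixSet_iff, mem_fixSet]
    have hg' : g⁻¹ ∈ Subgroup.normalizer ((W : Subgroup G) : Set G) := Subgroup.inv_mem _ hg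
    have hconj : g⁻¹ * w * g ∈ (W : Subgroup G) := by
      have := (Subgroup.mem_normalizer_iff.mp hg' w).mp hwW
      simpa using this
    have : g • P ∈ fixSet w := by
      rw [mem_fixSet]
      have e : w • g • P = g • ((g⁻¹ * w * g) • P) := by
        rw [← mul_smul, ← mul_smul]
        congr 1
        group
      rw [e, hWfix _ hconj]
    rw [hfixw] at this
    exact this
  -- `P` centralizes `W`
  have hPC : (P : Subgroup G) ≤ Subgroup.centralizer ((W : Subgroup G) : Set G) := by
    intro x hx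
    rw [Subgroup.mem_centralizer_iff]
    intro a ha
    have haN : a ∈ Subgroup.normalizer ((P : Subgroup G) : Set G) :=
      mem_fixSet_iff.mp (hWfix a ha)
    have ha7 : a ^ 7 = 1 := by
      have := pow_card_of_mem ha
      rwa [hW7] at this
    have haC := Syl22I.Ctx.central_of_odd c haN (by decide : Odd 7) ha7
    exact (Subgroup.mem_centralizer_iff.mp haC x hx).symm
  -- the order of the normalizer of `W`
  set NW := Subgroup.normalizer ((W : Subgroup G) : Set G) with hNWdef
  set CW := Subgroup.centralizer ((W : Subgroup G) : Set G) with hCWdef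
  have hCN : CW ≤ NW := Subgroup.centralizer_le_normalizer _
  have hm210 : Nat.card NW ∣ 210 := by
    have := Subgroup.card_dvd_of_le hNW
    rwa [hN P] at this
  have hm3 : 3 ∣ Nat.card NW := by
    have := Subgroup.card_dvd_of_le (hPC.trans hCN)
    rwa [c.hcard P] at this
  have hm7 : 7 ∣ Nat.card NW := by
    have := Subgroup.card_dvd_of_le (Subgroup.le_normalizer (H := (W : Subgroup G)))
    rwa [hW7] at this
  have hidx : Nat.card (Sylow 7 G) = NW.index := Sylow.card_eq_index_normalizer W
  have hn7 := card_sylow_modEq_one 7 G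
  have hmul := Subgroup.card_mul_index NW
  rw [← hidx, hG] at hmul
  have hNWcard : Nat.card NW = 210 := by
    have h21 : 21 ∣ Nat.card NW :=
      Nat.Coprime.mul_dvd_of_dvd_of_dvd (by norm_num : Nat.Coprime 3 7) hm3 hm7
    obtain ⟨k, hk⟩ := h21
    rw [hk] at hm210 hmul ⊢
    have hk10 : k ∣ 10 := by
      have : 21 * k ∣ 21 * 10 := hm210
      exact (Nat.mul_dvd_mul_iff_left (by norm_num)).mp this
    have hkle : k ≤ 10 := Nat.le_of_dvd (by norm_num) hk10
    have hkpos : 0 < k := Nat.pos_of_dvd_of_pos hk10 (by norm_num)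
    unfold Nat.ModEq at hn7
    interval_cases k <;> omega
  -- an element of order 5 centralizing `W`
  have he : CW.relIndex NW ∣ 6 := SylNumB.relIndex_centralizer_normalizer_dvd W hW7
  have hcard := card_eq_relIndex_mul hCN
  rw [hNWcard] at hcard
  have h5 : 5 ∣ Nat.card CW := by
    have h5' : 5 ∣ CW.relIndex NW * Nat.card CW := by rw [← hcard]; norm_num
    rcases (Nat.Prime.dvd_mul (by norm_num : Nat.Prime 5)).mp h5' with h | h
    · exfalso
      have := h.trans he
      norm_num at this
    · exact h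
  obtain ⟨s, hsC, hs5, hs1⟩ := cauchy_sub CW 5 h5
  have hsN : s ∈ Subgroup.normalizer ((P : Subgroup G) : Set G) := hNW (hCN hsC)
  have h7 := Syl22J.Ctx.ncard_fix_five c hsN hs5 hs1
  have hcomm : Commute s w := (Subgroup.mem_centralizer_iff.mp hsC w hwW).symm
  have hinv : ∀ k ∈ Subgroup.zpowers w, ∀ Q ∈ fixSet s, k • Q ∈ fixSet s := by
    intro k hk Q hQ
    obtain ⟨n, rfl⟩ := Subgroup.mem_zpowers_iff.mp hk
    rw [mem_fixSet] at hQ ⊢
    have h2 : s * w ^ n = w ^ n * s := (hcomm.zpow_right n).eq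
    rw [← mul_smul, h2, mul_smul, hQ]
  have hcount := ncard_modEq_fixed (p := 7) (Subgroup.zpowers w) (isPGroup_zpowers hw7) (fixSet s) hinv
  have hset : {Q | Q ∈ fixSet s ∧ ∀ k ∈ Subgroup.zpowers w, k • Q = Q} = {P} := by
    ext Q
    simp only [Set.mem_setOf_eq, fixed_zpowers_iff, Set.mem_singleton_iff]
    constructor
    · rintro ⟨-, hQ⟩
      have : Q ∈ fixSet w := hQ
      rw [hfixw] at this
      exact this
    · rintro rfl
      exact ⟨mem_fixSet_iff.mpr hsN, hP⟩
  rw [hset, Set.ncard_singleton, h7] at hcount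
  unfold Nat.ModEq at hcount
  omega

end Ctx

end Cfsg.Agent.Lib.Helper4.Syl22O
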