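import Mathlib
import Cfsg.Agent.Lib.Helper4.Syl22O

set_option autoImplicit false

/-! No finite group has exactly twenty-two Sylow 3-subgroups: the order 264 and the conclusion. -/

namespace Cfsg.Agent.Lib.Helper4.Syl22P

open MulAction Cfsg.Agent.H1 Cfsg.Agent.H1.SylNumA Syl22A Syl22B Syl22C Syl22D Syl22E Syl22F Syl22H
  Syl22I Syl22J Syl22K Syl22L Syl22M Syl22N Syl22O
open scoped Pointwise

universe u

section General

variable {G : Type*} [Group G] [Finite G]

/-- a subgroup of prime order lies in any subgroup containing one of its nonidentity elements -/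
theorem le_of_prime_card_of_mem {H K : Subgroup G} (hH : (Nat.card H).Prime) {r : G} (hr : r ∈ H)
    (hrK : r ∈ K) (hr1 : r ≠ 1) : H ≤ K := by
  set S : Subgroup G := H ⊓ K with hS
  have hrS : r ∈ S := ⟨hr, hrK⟩
  have hle : S ≤ H := inf_le_left
  have hdvd : Nat.card S ∣ Nat.card H := Subgroup.card_dvd_of_le hle
  have hS1 : Nat.card S ≠ 1 := by
    intro h1
    rw [Subgroup.card_eq_one] at h1
    rw [h1, Subgroup.mem_bot] at hrS
    exact hr1 hrS
  have hSH : Nat.card S = Nat.card H := by
    rcases (Nat.dvd_prime hH).mp hdvd with h1 | h1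
    · exact absurd h1 hS1
    · exact h1
  have heq : S = H := Subgroup.eq_of_le_of_card_ge hle hSH.ge
  rw [← heq]
  exact inf_le_right

end General

variable {G : Type*} [Group G] [Finite G]

namespace Ctx

variable (c : Syl22H.Ctx G)
include c

/-- the order 264 is impossible -/
theorem not_four
    (hN : ∀ P : Sylow 3 G, Nat.card (Subgroup.normalizer ((P : Subgroup G) : Set G)) = 12) :
    False := by
  obtain ⟨P⟩ : Nonempty (Sylow 3 G) := inferInstance
  obtain ⟨R⟩ : Nonempty (Sylow 11 G) := inferInstance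
  have hR11 := Syl22N.Ctx.card_sylow11 c R
  have hN22 := Syl22N.Ctx.card_normalizer11 c R
  have hC11 := Syl22N.Ctx.card_centralizer11 c R
  have hX : Nat.card (Sylow 11 G) = 12 := by rw [Syl22O.Ctx.card_sylow11_eq c P, hN P]
  set NR := Subgroup.normalizer ((R : Subgroup G) : Set G) with hNR
  set CR := Subgroup.centralizer ((R : Subgroup G) : Set G) with hCR
  haveI : Fact (Nat.Prime 2) := ⟨Nat.prime_two⟩
  obtain ⟨u, huN, hu2, hu1⟩ := cauchy_sub NR 2 (by rw [hN22]; norm_num)
  have huC : u ∉ CR := by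
    intro huC
    have h11 : u ^ 11 = 1 := by
      have := pow_card_of_mem huC
      rwa [hC11] at this
    exact hu1 (eq_one_of_pow_coprime hu2 h11 (by norm_num))
  -- the fixed points of `u` on the twelve Sylow 11-subgroups
  set F : Set (Sylow 11 G) := {x | u • x = x} with hF
  have hmod : 12 ≡ F.ncard [MOD 4] := by
    have := fixed_modEq_four (Syl22H.Ctx.hA2 c) (X := Sylow 11 G) u hu2
    rwa [hX] at this
  have hRF : R ∈ F := Sylow.smul_eq_iff_mem_normalizer.mpr huN
  have hFpos : 0 < F.ncard := (Set.ncard_pos (Set.toFinite _)).mpr ⟨R, hRF⟩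
  have hF4 : 4 ≤ F.ncard := by
    unfold Nat.ModEq at hmod
    omega
  have hF' : 1 < (F \ {R}).ncard := by
    rw [Set.ncard_sdiff_singleton_of_mem hRF]
    omega
  obtain ⟨R1, hR1, R2, hR2, hne⟩ := (Set.one_lt_ncard (Set.toFinite _)).mp hF'
  have hR1F : u • R1 = R1 := hR1.1
  have hR2F : u • R2 = R2 := hR2.1
  have hR1ne : R1 ≠ R := fun h => hR1.2 (by rw [h]; rfl)
  have hR2ne : R2 ≠ R := fun h => hR2.2 (by rw [h]; rfl)
  -- `R` acts freely away from itself
  have hfree : ∀ R' : Sylow 11 G, R' ≠ R → ∀ k ∈ (R : Subgroup G), k • R' = R' → k = 1 := by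
    intro R' hR' k hk hkR'
    by_contra hk1
    apply hR'
    have hkN : k ∈ Subgroup.normalizer ((R' : Subgroup G) : Set G) :=
      Sylow.smul_eq_iff_mem_normalizer.mp hkR'
    have hle : (R : Subgroup G) ≤ Subgroup.normalizer ((R' : Subgroup G) : Set G) :=
      le_of_prime_card_of_mem (by rw [hR11]; norm_num) hk hkN hk1
    exact (sylow_eq_of_le (le_sylow_of_le_normalizer R.isPGroup' R' hle)).symm
  -- the orbit of `R1` under `R` consists of all the others
  have horb : orbit (R : Subgroup G) R1 = Set.univ \ {R} := by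
    apply Set.eq_of_subset_of_ncard_le _ _ (Set.toFinite _)
    · rintro _ ⟨r, rfl⟩
      refine ⟨Set.mem_univ _, ?_⟩
      rw [Set.mem_singleton_iff]
      intro h
      apply hR1ne
      have h1 : R1 = (r : G)⁻¹ • ((r : G) • R1) := (inv_smul_smul (r : G) R1).symm
      have h2 : (r : G) • R1 = R := h
      rw [h1, h2]
      exact Sylow.smul_eq_iff_mem_normalizer.mpr
        (Subgroup.le_normalizer (Subgroup.inv_mem _ r.2))
    · rw [ncard_orbit_of_free (R : Subgroup G) R1 (hfree R1 hR1ne), hR11,
        Set.ncard_sdiff_singleton_of_mem (Set.mem_univ R), Set.ncard_univ, hX]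
  have hmem : R2 ∈ orbit (R : Subgroup G) R1 := by
    rw [horb]
    exact ⟨Set.mem_univ _, hR2ne⟩
  obtain ⟨r, hr⟩ := hmem
  have hr' : (r : G) • R1 = R2 := hr
  have hr1 : (r : G) ≠ 1 := by
    intro h
    rw [h, one_smul] at hr'
    exact hne hr'
  have hvr : u * (r : G) * u⁻¹ ∈ (R : Subgroup G) :=
    (Subgroup.mem_normalizer_iff.mp huN (r : G)).mp r.2
  have hcomm := commute_of_fix_two (R : Subgroup G) R1 r.2 hvr (hfree R1 hR1ne) hR1F
    (by rw [hr']; exact hR2F)
  exact huC (mem_centralizer_of_commute (R : Subgroup G) (by rw [hR11]; norm_num) r.2 hr1 hcomm)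

/-- the final contradiction when the Sylow 3-subgroups have order 3 -/
theorem false : False := by
  obtain ⟨h, hh, hG, hN⟩ := Syl22O.Ctx.h_cases c
  rcases hh with rfl | rfl
  · exact not_four c (fun P => by rw [hN P])
  · exact Syl22O.Ctx.not_seventy c (by rw [hG]) (fun P => by rw [hN P])

end Ctx

/-- a minimal counterexample does not exist -/
theorem no_min (G : Type u) [Group G] [Finite G] (hn : Nat.card (Sylow 3 G) = 22)
    (hmin : SylNumD.MinCE 3 22 G) : False := by
  haveI : Fact (Nat.Prime 3) := ⟨Nat.prime_three⟩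
  have hfaith := SylNumD.faithful_of_min hn hmin
  have hA : ∀ M : Subgroup G, M.Normal → ¬ 3 ∣ M.index → M = ⊤ := by
    intro M hM h3
    haveI := hM
    exact SylNumD.eq_top_of_min hn hmin M h3
  rcases types hn with h | h | h
  · have hcard := card_eq_three_of_type70 hn hfaith h
    exact Ctx.false ⟨hn, hfaith, hA, hcard⟩
  · exact Syl22G.case41 hn hfaith h
  · exact case12 hn hfaith h

/-- **no finite group has exactly 22 Sylow 3-subgroups** -/
theorem main : ∀ (n : ℕ) (G : Type u) [Group G] [Finite G], Nat.card G = n →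
    Nat.card (Sylow 3 G) ≠ 22 := by
  intro n
  induction n using Nat.strong_induction_on with
  | _ n ih =>
    intro G _ _ hG hn
    apply no_min G hn
    intro H _ _ hlt
    exact ih (Nat.card H) (hG ▸ hlt) H rfl

end Cfsg.Agent.Lib.Helper4.Syl22P
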