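import Mathlib
import Cfsg.Agent.Lib.Helper4.BGTransD

/-!
# Thompson's transitivity theorem, abstract form

`transitivity_abstract`: let `E` be an abelian `p`-subgroup containing an elementary abelian subgroup `E₀` of
order at least `p ^ 3`.  Suppose that for every `b ∈ E₀ \ 1` the `E`-invariant `q`-subgroups of `C_G(b)` all lie
in one `E`-invariant `p'`-subgroup, and that `K ≤ C_G(E)` contains every `p'`-subgroup of `C_G(E)`.  Then `K` is
transitive on the maximal `E`-invariant `q`-subgroups of `G`.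
-/

set_option autoImplicit false
set_option linter.style.haveILetI false
set_option linter.unusedVariables false
set_option linter.unusedSectionVars false

open scoped commutatorElement Pointwise

namespace Cfsg.Agent.Lib.Helper4.TTrans

open Cfsg Cfsg.Agent.Lib.Lead.Conj Cfsg.Agent.Lib.Lead.PiCore Cfsg.Agent.Lib.Helper4.CNMax
  Cfsg.Agent.Lib.Helper4.BGTrans

universe u

variable {G : Type u} [Group G] [Finite G]

/-- rank three, relative version: a common nonidentity element whose fixed points on `R₁` and on `R₂` are not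
inside `D` -/
theorem exists_fixed_of_rank_three_rel {p : ℕ} [hp : Fact p.Prime] {E R₁ R₂ D : Subgroup G}
    (hE : Cfsg.IsElementaryAbelian p E) (hcard : p ^ 3 ≤ Nat.card ↥E)
    (hER₁ : E ≤ Subgroup.normalizer (R₁ : Set G)) (hER₂ : E ≤ Subgroup.normalizer (R₂ : Set G))
    (hpR₁ : ¬ p ∣ Nat.card ↥R₁) (hpR₂ : ¬ p ∣ Nat.card ↥R₂) (hR₁ : ¬ R₁ ≤ D) (hR₂ : ¬ R₂ ≤ D) :
    ∃ b ∈ E, b ≠ 1 ∧ ¬ R₁ ⊓ Subgroup.centralizer ({b} : Set G) ≤ D ∧
      ¬ R₂ ⊓ Subgroup.centralizer ({b} : Set G) ≤ D := by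
  have hp1 := hp.out.one_lt
  have hcard2 : p ^ 2 ≤ Nat.card ↥E := by
    refine le_trans ?_ hcard
    exact Nat.pow_le_pow_right hp.out.pos (by norm_num)
  have h := Cfsg.Agent.S1324.result p E R₁ hE hcard2 hpR₁ hER₁
  obtain ⟨⟨B, hBE, hBidx⟩, hB⟩ : ∃ B : {B : Subgroup G // B ≤ E ∧ B.relIndex E ≤ p},
      ¬ R₁ ⊓ Subgroup.centralizer ((B : Subgroup G) : Set G) ≤ D := by
    by_contra hcon
    push Not at hcon
    apply hR₁
    rw [h]
    apply iSup_le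
    intro B
    exact hcon B
  have hBel : Cfsg.IsElementaryAbelian p B := by
    haveI := hE.1
    refine ⟨⟨⟨fun x y => ?_⟩⟩, fun b hb => hE.2 b (hBE hb)⟩
    have := hE.1.is_comm.comm ⟨x, hBE x.2⟩ ⟨y, hBE y.2⟩
    apply Subtype.ext
    have h2 := congrArg Subtype.val this
    simpa using h2
  have hBcard : p ^ 2 ≤ Nat.card ↥B := by
    have h1 := Cfsg.Agent.Lib.Helper4.TypeP.card_mul_relIndex_of_le hBE
    have h2 : p ^ 3 ≤ Nat.card ↥B * p := by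
      rw [← h1] at hcard
      exact hcard.trans (Nat.mul_le_mul_left _ hBidx)
    have h3 : p ^ 3 = p ^ 2 * p := by ring
    rw [h3] at h2
    exact Nat.le_of_mul_le_mul_right h2 hp.out.pos
  -- `B` is noncyclic, so `R₂` is generated by the fixed points of its nonidentity elements
  haveI := hBel.1
  have hcop : (Nat.card ↥B).Coprime (Nat.card ↥R₂) := by
    obtain ⟨m, hm⟩ := (isPGroup_of_elementary hBel).exists_card_eq
    rw [hm]
    exact Nat.Coprime.pow_left m ((Nat.Prime.coprime_iff_not_dvd hp.out).mpr hpR₂)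
  have h' := Cfsg.Agent.S0058.result B R₂ (not_isCyclic_of_elementary hBel hBcard)
    (hBE.trans hER₂) hcop
  obtain ⟨b, hbB, hb1, hb⟩ : ∃ b ∈ B, b ≠ 1 ∧ ¬ R₂ ⊓ Subgroup.centralizer ({b} : Set G) ≤ D := by
    by_contra hcon
    push Not at hcon
    apply hR₂
    rw [← h']
    apply iSup₂_le
    intro a ha
    exact hcon a ha.1 ha.2
  refine ⟨b, hBE hbB, hb1, ?_, hb⟩
  intro h0
  apply hB
  refine le_trans (inf_le_inf_left _ ?_) h0
  apply Subgroup.centralizer_le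
  intro x hx
  rw [Set.mem_singleton_iff] at hx
  subst hx
  exact hbB

theorem le_normalizer_sup {A H K : Subgroup G} (hH : A ≤ Subgroup.normalizer (H : Set G))
    (hK : A ≤ Subgroup.normalizer (K : Set G)) :
    A ≤ Subgroup.normalizer ((H ⊔ K : Subgroup G) : Set G) := by
  intro a ha
  rw [Subgroup.mem_normalizer_iff_map_conj_eq, Subgroup.map_sup,
    Subgroup.mem_normalizer_iff_map_conj_eq.1 (hH ha),
    Subgroup.mem_normalizer_iff_map_conj_eq.1 (hK ha)]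

theorem le_normalizer_normalizer {A D : Subgroup G} (h : A ≤ Subgroup.normalizer (D : Set G)) :
    A ≤ Subgroup.normalizer ((Subgroup.normalizer (D : Set G) : Subgroup G) : Set G) :=
  h.trans Subgroup.le_normalizer

theorem not_dvd_card_of_isPGroup {p q : ℕ} (hp : p.Prime) (hq : q.Prime) (hqp : q ≠ p)
    {R : Subgroup G} (hR : IsPGroup q ↥R) : ¬ p ∣ Nat.card ↥R := by
  haveI : Fact q.Prime := ⟨hq⟩
  obtain ⟨n, hn⟩ := IsPGroup.iff_card.mp hR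
  rw [hn]
  intro h
  exact hqp ((Nat.prime_dvd_prime_iff_eq hp hq).mp (hp.dvd_of_dvd_pow h)).symm

/-- **Thompson's transitivity theorem**, abstract form -/
theorem transitivity_abstract {p q : ℕ} [hp : Fact p.Prime] [hq : Fact q.Prime] (hqp : q ≠ p)
    {E K E₀ : Subgroup G} (hEp : IsPGroup p ↥E) (hEc : IsMulCommutative ↥E)
    (hE₀E : E₀ ≤ E) (hE₀ : Cfsg.IsElementaryAbelian p E₀) (hE₀card : p ^ 3 ≤ Nat.card ↥E₀)
    (hLP : ∀ b ∈ E₀, b ≠ 1 → ∃ O : Subgroup G, E ≤ Subgroup.normalizer (O : Set G) ∧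
      ¬ p ∣ Nat.card ↥O ∧
      ∀ Y : Subgroup G, Y ≤ Subgroup.centralizer ({b} : Set G) → IsPGroup q ↥Y →
        E ≤ Subgroup.normalizer (Y : Set G) → Y ≤ O)
    (hK : ∀ Y : Subgroup G, Y ≤ Subgroup.centralizer (E : Set G) → ¬ p ∣ Nat.card ↥Y → Y ≤ K)
    {Q₁ Q₂ : Subgroup G} (h₁ : Q₁ ∈ Cfsg.maxInvSubgroups ⊤ E {q})
    (h₂ : Q₂ ∈ Cfsg.maxInvSubgroups ⊤ E {q}) : KConj K Q₁ Q₂ := by
  have hpp : p.Prime := hp.out
  have hqq : q.Prime := hq.out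
  by_contra hcon
  let ι := {pr : Subgroup G × Subgroup G // pr.1 ∈ Cfsg.maxInvSubgroups ⊤ E {q} ∧
    pr.2 ∈ Cfsg.maxInvSubgroups ⊤ E {q} ∧ ¬ KConj K pr.1 pr.2}
  haveI : Nonempty ι := ⟨⟨(Q₁, Q₂), h₁, h₂, hcon⟩⟩
  obtain ⟨⟨⟨P₁, P₂⟩, hP₁, hP₂, hPcon⟩, hmax⟩ :=
    Finite.exists_max (fun pr : ι => Nat.card ↥((pr.1.1 : Subgroup G) ⊓ (pr.1.2 : Subgroup G)))
  have hP₁' : P₁ ∈ Cfsg.maxInvSubgroups ⊤ E {q} := hP₁
  have hP₂' : P₂ ∈ Cfsg.maxInvSubgroups ⊤ E {q} := hP₂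
  have hPcon' : ¬ KConj K P₁ P₂ := hPcon
  set D : Subgroup G := P₁ ⊓ P₂ with hD
  have hbig : ∀ Q Q' : Subgroup G, Q ∈ Cfsg.maxInvSubgroups ⊤ E {q} →
      Q' ∈ Cfsg.maxInvSubgroups ⊤ E {q} → Nat.card ↥D < Nat.card ↥(Q ⊓ Q') → KConj K Q Q' := by
    intro Q Q' hQ hQ' hlt
    by_contra hc
    have := hmax ⟨(Q, Q'), hQ, hQ', hc⟩
    exact absurd this (not_le.mpr hlt)
  have hA₁ := (mem_invSubgroups_top.mp hP₁'.1)
  have hA₂ := (mem_invSubgroups_top.mp hP₂'.1)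
  have hP₁q : IsPGroup q ↥P₁ := isPGroup_of_isPiNat hqq hA₁.1
  have hP₂q : IsPGroup q ↥P₂ := isPGroup_of_isPiNat hqq hA₂.1
  have hDq : IsPGroup q ↥D := hP₁q.to_le inf_le_left
  set N : Subgroup G := Subgroup.normalizer (D : Set G) with hN
  have hEN : E ≤ N := le_normalizer_inf hA₁.2 hA₂.2
  have hne1 : D ≠ P₁ := by
    intro h
    apply hPcon'
    have h1 : P₁ ≤ P₂ := h ▸ (inf_le_right : D ≤ P₂)
    have h2 := hP₁'.2 P₂ hP₂'.1 h1
    rw [h2]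
    exact KConj.refl _ _
  have hne2 : D ≠ P₂ := by
    intro h
    apply hPcon'
    have h1 : P₂ ≤ P₁ := h ▸ (inf_le_left : D ≤ P₁)
    have h2 := hP₂'.2 P₁ hP₁'.1 h1
    rw [h2]
    exact KConj.refl _ _
  obtain ⟨t₁, ht₁P, ht₁N, ht₁D⟩ :=
    exists_mem_normalizer_not_mem D P₁ hP₁q.isNilpotent inf_le_left hne1
  obtain ⟨t₂, ht₂P, ht₂N, ht₂D⟩ :=
    exists_mem_normalizer_not_mem D P₂ hP₂q.isNilpotent inf_le_right hne2
  have hER₁ : E ≤ Subgroup.normalizer ((P₁ ⊓ N : Subgroup G) : Set G) :=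
    le_normalizer_inf hA₁.2 (le_normalizer_normalizer hEN)
  have hER₂ : E ≤ Subgroup.normalizer ((P₂ ⊓ N : Subgroup G) : Set G) :=
    le_normalizer_inf hA₂.2 (le_normalizer_normalizer hEN)
  have hR₁q : IsPGroup q ↥(P₁ ⊓ N : Subgroup G) := hP₁q.to_le inf_le_left
  have hR₂q : IsPGroup q ↥(P₂ ⊓ N : Subgroup G) := hP₂q.to_le inf_le_left
  obtain ⟨b, hbE₀, hb1, hb₁, hb₂⟩ := exists_fixed_of_rank_three_rel (D := D) hE₀ hE₀card
    (hE₀E.trans hER₁) (hE₀E.trans hER₂) (not_dvd_card_of_isPGroup hpp hqq hqp hR₁q)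
    (not_dvd_card_of_isPGroup hpp hqq hqp hR₂q) (fun h => ht₁D (h ⟨ht₁P, ht₁N⟩))
    (fun h => ht₂D (h ⟨ht₂P, ht₂N⟩))
  obtain ⟨s₁, hs₁, hs₁D⟩ := SetLike.not_le_iff_exists.mp hb₁
  obtain ⟨s₂, hs₂, hs₂D⟩ := SetLike.not_le_iff_exists.mp hb₂
  have hbE : b ∈ E := hE₀E hbE₀
  have hEC : E ≤ Subgroup.centralizer ({b} : Set G) := by
    intro e he
    rw [Subgroup.mem_centralizer_singleton_iff]
    have := hEc.is_comm.comm (⟨e, he⟩ : ↥E) ⟨b, hbE⟩
    exact congrArg Subtype.val this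
  have hES₁ : E ≤ Subgroup.normalizer
      ((P₁ ⊓ N ⊓ Subgroup.centralizer ({b} : Set G) : Subgroup G) : Set G) :=
    le_normalizer_inf hER₁ (hEC.trans Subgroup.le_normalizer)
  have hES₂ : E ≤ Subgroup.normalizer
      ((P₂ ⊓ N ⊓ Subgroup.centralizer ({b} : Set G) : Subgroup G) : Set G) :=
    le_normalizer_inf hER₂ (hEC.trans Subgroup.le_normalizer)
  obtain ⟨O, hEO, hpO, hO⟩ := hLP b hbE₀ hb1
  have hS₁q : IsPGroup q ↥(P₁ ⊓ N ⊓ Subgroup.centralizer ({b} : Set G) : Subgroup G) :=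
    hR₁q.to_le inf_le_left
  have hS₂q : IsPGroup q ↥(P₂ ⊓ N ⊓ Subgroup.centralizer ({b} : Set G) : Subgroup G) :=
    hR₂q.to_le inf_le_left
  have hS₁O := hO _ inf_le_right hS₁q hES₁
  have hS₂O := hO _ inf_le_right hS₂q hES₂
  set M : Subgroup G := O ⊓ N with hM
  have hEM : E ≤ Subgroup.normalizer (M : Set G) :=
    le_normalizer_inf hEO (le_normalizer_normalizer hEN)
  have hpM : ¬ p ∣ Nat.card ↥M := fun h => hpO (h.trans (Subgroup.card_dvd_of_le inf_le_left))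
  have hcop : (Nat.card ↥E).Coprime (Nat.card ↥M) := by
    obtain ⟨k, hk⟩ := IsPGroup.iff_card.mp hEp
    rw [hk]
    exact Nat.Coprime.pow_left k ((Nat.Prime.coprime_iff_not_dvd hpp).mpr hpM)
  have hEs : Group.IsSolvable ↥E := by
    haveI := hEp.isNilpotent
    infer_instance
  have hS₁M : P₁ ⊓ N ⊓ Subgroup.centralizer ({b} : Set G) ≤ M :=
    le_inf hS₁O (inf_le_left.trans inf_le_right)
  have hS₂M : P₂ ⊓ N ⊓ Subgroup.centralizer ({b} : Set G) ≤ M :=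
    le_inf hS₂O (inf_le_left.trans inf_le_right)
  obtain ⟨T₁, hST₁, hET₁⟩ :=
    Cfsg.Agent.S0025.result E M hEM hcop (Or.inl hEs) q _ hS₁M hS₁q hES₁
  obtain ⟨T₂, hST₂, hET₂⟩ :=
    Cfsg.Agent.S0025.result E M hEM hcop (Or.inl hEs) q _ hS₂M hS₂q hES₂
  obtain ⟨c, hcE, hc⟩ := Cfsg.Agent.S0024.result E M hEM hcop (Or.inl hEs) q T₁ T₂ hET₁ hET₂
  have hcK : (c : G) ∈ K := by
    apply hK (M ⊓ Subgroup.centralizer (E : Set G)) inf_le_right
    · exact fun h => hpM (h.trans (Subgroup.card_dvd_of_le inf_le_left))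
    · exact ⟨c.2, hcE⟩
  have hcN : (c : G) ∈ N := c.2.2
  have hT₁N : (T₁ : Subgroup ↥M).map M.subtype ≤ Subgroup.normalizer (D : Set G) :=
    (Subgroup.map_subtype_le _).trans inf_le_right
  have hT₂N : (T₂ : Subgroup ↥M).map M.subtype ≤ Subgroup.normalizer (D : Set G) :=
    (Subgroup.map_subtype_le _).trans inf_le_right
  have hW₁q : IsPGroup q ↥((T₁ : Subgroup ↥M).map M.subtype ⊔ D : Subgroup G) :=
    IsPGroup.to_sup_of_normal_right' (T₁.isPGroup'.map _) hDq hT₁N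
  have hEW₁ : E ≤ Subgroup.normalizer
      (((T₁ : Subgroup ↥M).map M.subtype ⊔ D : Subgroup G) : Set G) :=
    le_normalizer_sup hET₁ hEN
  have hW₁inv : (T₁ : Subgroup ↥M).map M.subtype ⊔ D ∈ Cfsg.invSubgroups ⊤ E {q} := by
    rw [mem_invSubgroups_top]
    exact ⟨isPiNat_of_isPGroup hW₁q, hEW₁⟩
  obtain ⟨Q₃, hQ₃, hWQ₃⟩ := exists_maxInv_ge hW₁inv
  have hDQ₃ : D ≤ Q₃ := le_sup_right.trans hWQ₃
  have hTQ₃ : (T₁ : Subgroup ↥M).map M.subtype ≤ Q₃ := le_sup_left.trans hWQ₃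
  have e1 : KConj K P₁ Q₃ := by
    apply hbig P₁ Q₃ hP₁' hQ₃
    exact card_lt_of_le_of_mem (t := s₁) (le_inf inf_le_left hDQ₃)
      ⟨hs₁.1.1, hTQ₃ (hST₁ hs₁)⟩ hs₁D
  have hQ₃c : Q₃.map (MulAut.conj (c : G)).toMonoidHom ∈ Cfsg.maxInvSubgroups ⊤ E {q} :=
    conj_mem_maxInvSubgroups hQ₃ hcE
  have hT₂eq : (T₂ : Subgroup ↥M).map M.subtype =
      ((T₁ : Subgroup ↥M).map M.subtype).map (MulAut.conj (c : G)).toMonoidHom := by
    rw [← hc, ← Sylow.smul_def, Cfsg.Agent.H1.sylow_smul_map_subtype]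
  have hDc : D ≤ Q₃.map (MulAut.conj (c : G)).toMonoidHom := by
    intro d hd
    rw [mem_map_conj]
    exact hDQ₃ (conj_inv_mem_of_mem_normalizer hcN hd)
  have hT₂c : (T₂ : Subgroup ↥M).map M.subtype ≤ Q₃.map (MulAut.conj (c : G)).toMonoidHom := by
    rw [hT₂eq]
    exact Subgroup.map_mono hTQ₃
  have e3 : KConj K (Q₃.map (MulAut.conj (c : G)).toMonoidHom) P₂ := by
    apply hbig _ P₂ hQ₃c hP₂'
    exact card_lt_of_le_of_mem (t := s₂) (le_inf hDc inf_le_right)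
      ⟨hT₂c (hST₂ hs₂), hs₂.1.1⟩ hs₂D
  have e2 : KConj K Q₃ (Q₃.map (MulAut.conj (c : G)).toMonoidHom) := ⟨c, hcK, rfl⟩
  exact hPcon' ((e1.trans e2).trans e3)

end Cfsg.Agent.Lib.Helper4.TTrans
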