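import Mathlib
import Cfsg.Agent.Lib.Helper4.TTransA
import Cfsg.Agent.Lib.Helper4.PQOmega

/-!
# Thompson's transitivity theorem: the hypotheses of the abstract form
-/

set_option autoImplicit false
set_option linter.style.haveILetI false
set_option linter.unusedVariables false
set_option linter.unusedSectionVars false

open scoped commutatorElement Pointwise

namespace Cfsg.Agent.Lib.Helper4.TTrans

open Cfsg Cfsg.Agent.Lib.Lead.Conj Cfsg.Agent.Lib.Lead.PiCore Cfsg.Agent.Lib.Helper4.CNMax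
  Cfsg.Agent.Lib.Helper4.BGTrans

universe u

variable {G : Type u} [Group G] [Finite G]

/-- if the abelian `p`-subgroup `E` contains every `p`-element of `C_G(E)`, then every `p'`-subgroup of `C_G(E)`
lies in `O_{p'}(C_G(E))` -/
theorem le_piCoreOf_centralizer {p : ℕ} [hp : Fact p.Prime] {E : Subgroup G} (hEp : IsPGroup p ↥E)
    (hEc : IsMulCommutative ↥E)
    (hEfull : ∀ x ∈ Subgroup.centralizer (E : Set G), IsPGroup p ↥(Subgroup.zpowers x) → x ∈ E)
    {Y : Subgroup G} (hYC : Y ≤ Subgroup.centralizer (E : Set G)) (hpY : ¬ p ∣ Nat.card ↥Y) :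
    Y ≤ Cfsg.piCoreOf (Cfsg.primesNotDvd p) (Subgroup.centralizer (E : Set G)) := by
  have hpp : p.Prime := hp.out
  set C : Subgroup G := Subgroup.centralizer (E : Set G) with hC
  have hE'p : IsPGroup p ↥(E.subgroupOf C) := hEp.comap_subtype
  obtain ⟨P, hP⟩ := hE'p.exists_le_sylow
  have hPE : ∀ x : ↥C, x ∈ P → (x : G) ∈ E := by
    intro x hx
    apply hEfull _ x.2
    obtain ⟨n, hn⟩ := (P.isPGroup').exists_card_eq
    apply IsPGroup.of_card (n := Nat.log p (orderOf (x : G)))
    rw [Nat.card_zpowers]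
    obtain ⟨k, hk⟩ := (IsPGroup.iff_orderOf.mp P.isPGroup') ⟨x, hx⟩
    rw [Subgroup.orderOf_mk] at hk
    rw [Subgroup.orderOf_coe, hk, Nat.log_pow hpp.one_lt]
  have hPn : Subgroup.normalizer ((P : Subgroup ↥C) : Set ↥C) ≤
      Subgroup.centralizer ((P : Subgroup ↥C) : Set ↥C) := by
    intro g _
    rw [Subgroup.mem_centralizer_iff]
    intro x hx
    apply Subtype.ext
    have h1 := Subgroup.mem_centralizer_iff.mp g.2 (x : G) (hPE x hx)
    simpa using h1
  have hKp : ¬ p ∣ Nat.card ↥(MonoidHom.transferSylow P hPn).ker :=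
    MonoidHom.not_dvd_card_ker_transferSylow P hPn
  have hYK : Y.subgroupOf C ≤ (MonoidHom.transferSylow P hPn).ker := by
    intro y hy
    rw [MonoidHom.mem_ker]
    have h1 : orderOf (MonoidHom.transferSylow P hPn y) ∣ orderOf y := orderOf_map_dvd _ y
    have h2 : orderOf y ∣ Nat.card ↥Y := by
      have := orderOf_dvd_natCard (⟨(y : G), Subgroup.mem_subgroupOf.mp hy⟩ : ↥Y)
      rwa [Subgroup.orderOf_mk, Subgroup.orderOf_coe] at this
    obtain ⟨k, hk⟩ := (IsPGroup.iff_orderOf.mp P.isPGroup') (MonoidHom.transferSylow P hPn y)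
    rw [hk] at h1
    have h3 : k = 0 := by
      by_contra hk0
      exact hpY (((dvd_pow_self p hk0).trans h1).trans h2)
    rw [h3, pow_zero, orderOf_eq_one_iff] at hk
    exact hk
  have hπ : IsPiNat (Cfsg.primesNotDvd p) (Nat.card ↥(MonoidHom.transferSylow P hPn).ker) := by
    intro r hr hrd
    refine ⟨hr, fun h => hKp ?_⟩
    have hrp : r = p := (Nat.prime_dvd_prime_iff_eq hr hpp).mp h
    exact hrp ▸ hrd
  have hle := le_piCore (MonoidHom.normal_ker (MonoidHom.transferSylow P hPn)) hπ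
  intro y hy
  exact ⟨⟨y, hYC hy⟩, hle (hYK (Subgroup.mem_subgroupOf.mpr hy)), rfl⟩

end Cfsg.Agent.Lib.Helper4.TTrans
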