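import Mathlib
import Cfsg.Agent.Lib.Helper4.TTransB
import Cfsg.Agent.Lib.Helper4.PQQuad

/-!
# Thompson's transitivity theorem for groups with `p`-constrained `p`-locals
-/

set_option autoImplicit false
set_option linter.style.haveILetI false
set_option linter.unusedVariables false
set_option linter.unusedSectionVars false

open scoped commutatorElement Pointwise

namespace Cfsg.Agent.Lib.Helper4.TTrans

open Cfsg Cfsg.Agent.Lib.Lead.Conj Cfsg.Agent.Lib.Lead.PiCore Cfsg.Agent.Lib.Helper4.CNMax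
  Cfsg.Agent.Lib.Helper4.BGTrans

universe u

variable {G : Type u} [Group G] [Finite G]

/-- class at most two: triple commutators vanish -/
theorem triple_commutator_eq_one {S : Type*} [Group S] [Group.IsNilpotent S]
    (h : Group.nilpotencyClass S ≤ 2) (x y z : S) : ⁅⁅x, y⁆, z⁆ = 1 := by
  have h1 := Subgroup.lowerCentralSeries_eq_bot_iff_nilpotencyClass_le.mpr h
  have h2 : ⁅⁅x, y⁆, z⁆ ∈ Subgroup.lowerCentralSeries (⊤ : Subgroup S) 2 := by
    rw [Subgroup.lowerCentralSeries_succ, Subgroup.lowerCentralSeries_succ,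
      Subgroup.lowerCentralSeries_zero]
    exact Subgroup.commutator_mem_commutator
      (Subgroup.commutator_mem_commutator (Subgroup.mem_top x) (Subgroup.mem_top y))
      (Subgroup.mem_top z)
  rw [h1, Subgroup.mem_bot] at h2
  exact h2

theorem centralizer_singleton_le_normalizer_zpowers (b : G) :
    Subgroup.centralizer ({b} : Set G) ≤
      Subgroup.normalizer ((Subgroup.zpowers b : Subgroup G) : Set G) := by
  intro g hg
  rw [Subgroup.mem_centralizer_singleton_iff] at hg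
  apply mem_normalizer_of_conj_mem
  intro r hr
  obtain ⟨n, rfl⟩ := Subgroup.mem_zpowers_iff.mp hr
  have hc : Commute g (b ^ n) := (Commute.zpow_right (show Commute g b from hg) n)
  have : g * b ^ n * g⁻¹ = b ^ n := by rw [hc.eq]; group
  rw [this]
  exact hr

/-- the local hypothesis of the abstract transitivity theorem -/
theorem exists_local_core {p q : ℕ} [hp : Fact p.Prime] [hq : Fact q.Prime] (hqp : q ≠ p)
    (hloc : ∀ T : Subgroup G, IsPGroup p T → T ≠ ⊥ →
      Cfsg.IsPConstrained p ↥(Subgroup.normalizer (T : Set G)))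
    (h2 : p = 2 → ∀ S : Sylow p G, Group.IsNilpotent (S : Subgroup G) ∧
      Group.nilpotencyClass (S : Subgroup G) ≤ 2)
    {E : Subgroup G} (hEp : IsPGroup p ↥E) (hEc : IsMulCommutative ↥E)
    (hEfull : ∀ x ∈ Subgroup.centralizer (E : Set G), IsPGroup p ↥(Subgroup.zpowers x) → x ∈ E)
    {b : G} (hbE : b ∈ E) (hb1 : b ≠ 1) :
    ∃ O : Subgroup G, E ≤ Subgroup.normalizer (O : Set G) ∧ ¬ p ∣ Nat.card ↥O ∧
      ∀ Y : Subgroup G, Y ≤ Subgroup.centralizer ({b} : Set G) → IsPGroup q ↥Y →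
        E ≤ Subgroup.normalizer (Y : Set G) → Y ≤ O := by
  have hpp : p.Prime := hp.out
  have hqq : q.Prime := hq.out
  have hTp : IsPGroup p ↥(Subgroup.zpowers b) := hEp.to_le (Subgroup.zpowers_le.mpr hbE)
  have hTne : Subgroup.zpowers b ≠ ⊥ := by
    intro h
    exact hb1 (Subgroup.zpowers_eq_bot.mp h)
  have hNc := hloc _ hTp hTne
  set Nb : Subgroup G := Subgroup.normalizer ((Subgroup.zpowers b : Subgroup G) : Set G) with hNb
  have hCN : Subgroup.centralizer ({b} : Set G) ≤ Nb := centralizer_singleton_le_normalizer_zpowers b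
  have hEC : E ≤ Subgroup.centralizer ({b} : Set G) := by
    intro e he
    rw [Subgroup.mem_centralizer_singleton_iff]
    have := hEc.is_comm.comm (⟨e, he⟩ : ↥E) ⟨b, hbE⟩
    exact congrArg Subtype.val this
  have hEN : E ≤ Nb := hEC.trans hCN
  haveI hOn : (Cfsg.pPrimeCore p ↥Nb).Normal := Cfsg.Agent.H1.pPrimeCore_normal p
  have hOc : (Nat.card ↥(Cfsg.pPrimeCore p ↥Nb)).Coprime p := Cfsg.Agent.H1.pPrimeCore_coprime p
  refine ⟨(Cfsg.pPrimeCore p ↥Nb).map Nb.subtype,
    hEN.trans (Cfsg.Agent.Lib.Helper4.TypeP.le_normalizer_map_subtype Nb _), ?_, ?_⟩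
  · rw [Nat.card_congr ((Cfsg.pPrimeCore p ↥Nb).equivMapOfInjective _
      Nb.subtype_injective).symm.toEquiv]
    exact (Nat.Prime.coprime_iff_not_dvd hpp).mp hOc.symm
  intro Y hYC hYq hEY
  have hYN : Y ≤ Nb := hYC.trans hCN
  have hA'p : IsPGroup p ↥(E.subgroupOf Nb) := hEp.comap_subtype
  have hfull' : ∀ x ∈ Subgroup.centralizer ((E.subgroupOf Nb : Subgroup ↥Nb) : Set ↥Nb),
      IsPGroup p ↥(Subgroup.zpowers x) → x ∈ E.subgroupOf Nb := by
    intro x hx hxp
    rw [Subgroup.mem_subgroupOf]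
    apply hEfull
    · rw [Subgroup.mem_centralizer_iff]
      intro a ha
      have := Subgroup.mem_centralizer_iff.mp hx ⟨a, hEN ha⟩ (Subgroup.mem_subgroupOf.mpr ha)
      exact congrArg Subtype.val this
    · obtain ⟨n, hn⟩ := IsPGroup.iff_card.mp hxp
      apply IsPGroup.of_card (n := n)
      rw [Nat.card_zpowers] at hn ⊢
      rw [Subgroup.orderOf_coe, hn]
  have hY' : ¬ p ∣ Nat.card ↥(Y.subgroupOf Nb) := by
    rw [Nat.card_congr (Subgroup.subgroupOfEquivOfLe hYN).toEquiv]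
    exact not_dvd_card_of_isPGroup hpp hqq hqp hYq
  have hA'Y' : E.subgroupOf Nb ≤
      Subgroup.normalizer ((Y.subgroupOf Nb : Subgroup ↥Nb) : Set ↥Nb) := by
    intro a ha
    rw [Subgroup.mem_normalizer_iff]
    intro h
    rw [Subgroup.mem_subgroupOf, Subgroup.mem_subgroupOf]
    exact Subgroup.mem_normalizer_iff.mp (hEY (Subgroup.mem_subgroupOf.mp ha)) (h : G)
  have hle : Y.subgroupOf Nb ≤ Cfsg.pPrimeCore p ↥Nb := by
    by_cases hp2 : p = 2
    · -- the quadratic case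
      obtain ⟨S, hS⟩ := hA'p.exists_le_sylow
      have hA'c : IsMulCommutative ↥(E.subgroupOf Nb) := by
        refine ⟨⟨fun x y => ?_⟩⟩
        have := hEc.is_comm.comm (⟨(x : G), Subgroup.mem_subgroupOf.mp x.2⟩ : ↥E)
          ⟨(y : G), Subgroup.mem_subgroupOf.mp y.2⟩
        apply Subtype.ext
        apply Subtype.ext
        have h5 := congrArg Subtype.val this
        simpa using h5
      have hSp : IsPGroup p ↥((S : Subgroup ↥Nb).map Nb.subtype) := S.isPGroup'.map _
      obtain ⟨SG, hSG⟩ := hSp.exists_le_sylow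
      obtain ⟨hnil, hcl⟩ := h2 hp2 SG
      haveI := hnil
      have hS3 : ∀ x ∈ S, ∀ y ∈ S, ∀ z ∈ S, ⁅⁅x, y⁆, z⁆ = 1 := by
        intro x hx y hy z hz
        have hx' : (x : G) ∈ (SG : Subgroup G) := hSG ⟨x, hx, rfl⟩
        have hy' : (y : G) ∈ (SG : Subgroup G) := hSG ⟨y, hy, rfl⟩
        have hz' : (z : G) ∈ (SG : Subgroup G) := hSG ⟨z, hz, rfl⟩
        have h3 := triple_commutator_eq_one hcl (⟨(x : G), hx'⟩ : ↥(SG : Subgroup G))
          ⟨(y : G), hy'⟩ ⟨(z : G), hz'⟩
        have h4 := congrArg (fun t : ↥(SG : Subgroup G) => (t : G)) h3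
        apply Subtype.ext
        simpa [commutatorElement_def] using h4
      exact Cfsg.Agent.Lib.Helper4.PQOmega.le_pPrimeCore_of_invariant_quad hNc _ hA'p hA'c hfull'
        S hS hS3 _ hY' hA'Y'
    · apply Cfsg.Agent.Lib.Helper4.PQOmega.le_pPrimeCore_of_invariant hp2 hNc _ hA'p _ _ hY' hA'Y'
      intro x hx hxo
      apply hfull' x hx
      apply IsPGroup.of_card (n := 1)
      rw [Nat.card_zpowers, hxo, pow_one]
  intro y hy
  exact ⟨⟨y, hYN hy⟩, hle (Subgroup.mem_subgroupOf.mpr hy), rfl⟩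

/-- **Thompson's transitivity theorem** -/
theorem thompson_transitivity {p q : ℕ} [hp : Fact p.Prime] [hq : Fact q.Prime] (hqp : q ≠ p)
    (hloc : ∀ T : Subgroup G, IsPGroup p T → T ≠ ⊥ →
      Cfsg.IsPConstrained p ↥(Subgroup.normalizer (T : Set G)))
    (h2 : p = 2 → ∀ S : Sylow p G, Group.IsNilpotent (S : Subgroup G) ∧
      Group.nilpotencyClass (S : Subgroup G) ≤ 2)
    {E : Subgroup G} (hEp : IsPGroup p ↥E) (hEc : IsMulCommutative ↥E)
    (hE3 : ¬ Cfsg.PRankLE p 2 ↥E)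
    (hEfull : ∀ x ∈ Subgroup.centralizer (E : Set G), IsPGroup p ↥(Subgroup.zpowers x) → x ∈ E)
    {Q₁ Q₂ : Subgroup G} (h₁ : Q₁ ∈ Cfsg.maxInvSubgroups ⊤ E {q})
    (h₂ : Q₂ ∈ Cfsg.maxInvSubgroups ⊤ E {q}) :
    KConj (Cfsg.piCoreOf (Cfsg.primesNotDvd p) (Subgroup.centralizer (E : Set G))) Q₁ Q₂ := by
  have hpp : p.Prime := hp.out
  unfold Cfsg.PRankLE at hE3
  push Not at hE3
  obtain ⟨E₀, hE₀c, hE₀e, hE₀card⟩ := hE3
  have hel : Cfsg.IsElementaryAbelian p (E₀.map E.subtype) := by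
    refine ⟨?_, ?_⟩
    · haveI := hE₀c
      exact Subgroup.map_isMulCommutative E₀ E.subtype
    · rintro _ ⟨x, hx, rfl⟩
      have := hE₀e x hx
      have h2 := congrArg Subtype.val this
      simpa using h2
  have hcard : p ^ 3 ≤ Nat.card ↥(E₀.map E.subtype) := by
    rw [Nat.card_congr (E₀.equivMapOfInjective _ E.subtype_injective).symm.toEquiv]
    have hE₀p : IsPGroup p ↥E₀ := hEp.to_subgroup E₀
    obtain ⟨m, hm⟩ := IsPGroup.iff_card.mp hE₀p
    rw [hm] at hE₀card ⊢
    have : 2 < m := by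
      by_contra hle
      push Not at hle
      exact absurd (Nat.pow_le_pow_right hpp.pos hle) (not_le.mpr hE₀card)
    exact Nat.pow_le_pow_right hpp.pos this
  have hE₀E : E₀.map E.subtype ≤ E := Subgroup.map_subtype_le E₀
  apply transitivity_abstract hqp hEp hEc hE₀E hel hcard _ _ h₁ h₂
  · intro b hb hb1
    exact exists_local_core hqp hloc h2 hEp hEc hEfull (hE₀E hb) hb1
  · intro Y hYC hpY
    exact le_piCoreOf_centralizer hEp hEc hEfull hYC hpY

end Cfsg.Agent.Lib.Helper4.TTrans
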