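import Mathlib
import Cfsg.Prelude.Def_Characters
import Cfsg.Prelude.Def_Transfer
import Cfsg.Agent.Lib.helper3.ClassMul
import Cfsg.Agent.Lib.helper3.Clifford
import Cfsg.Agent.Lib.helper3.Irr13

/-!
# Irreducible characters nonzero on exactly two classes (Gagola characters) (helper4)
-/

set_option autoImplicit false
set_option linter.style.haveILetI false
set_option linter.unusedSectionVars false

namespace Cfsg.Agent.Lib.Helper4.TwoClass

open Cfsg Cfsg.Agent.Lib.helper3.IndFun Cfsg.Agent.Lib.helper3.CharBasic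
open Cfsg.Agent.Lib.helper3.Irr Cfsg.Agent.Lib.helper3.Central
open scoped ComplexConjugate

variable {G : Type*} [Group G]

/-- the two-class hypothesis in a usable form -/
def TwoClass (χ : G → ℂ) (x : G) : Prop := x ≠ 1 ∧ ∀ g : G, χ g ≠ 0 ↔ (g = 1 ∨ IsConj x g)

theorem apply_eq_of_isConj {θ : G → ℂ} (hcf : IsClassFunction G θ) {a b : G} (h : IsConj a b) :
    θ a = θ b := by
  obtain ⟨c, hc⟩ := isConj_iff.1 h
  rw [← hc, hcf]

theorem exists_rep [Finite G] (χ : IrrCharacter G)
    (hχ : Nat.card {C : ConjClasses G // ∃ g ∈ C.carrier, (χ : G → ℂ) g ≠ 0} = 2) :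
    ∃ x : G, TwoClass (χ : G → ℂ) x := by
  classical
  haveI := Fintype.ofFinite G
  have hcf := isClassFunction_of_isCharacter (isCharacter_of_isIrrCharacter χ.2)
  have h1 : (χ : G → ℂ) 1 ≠ 0 := apply_one_ne_zero χ.2
  obtain ⟨d, hd, hduniq⟩ := (Nat.card_eq_two_iff'
    (⟨ConjClasses.mk 1, 1, ConjClasses.mem_carrier_mk, h1⟩ :
      {C : ConjClasses G // ∃ g ∈ C.carrier, (χ : G → ℂ) g ≠ 0})).1 hχ
  obtain ⟨x, hxC, hx⟩ := d.2
  rw [ConjClasses.mem_carrier_iff_mk_eq] at hxC
  refine ⟨x, ?_, ?_⟩
  · intro hx1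
    apply hd
    apply Subtype.ext
    show d.1 = ConjClasses.mk 1
    rw [← hxC, hx1]
  · intro g
    constructor
    · intro hg
      by_cases he : (⟨ConjClasses.mk g, g, ConjClasses.mem_carrier_mk, hg⟩ :
          {C : ConjClasses G // ∃ g ∈ C.carrier, (χ : G → ℂ) g ≠ 0})
          = ⟨ConjClasses.mk 1, 1, ConjClasses.mem_carrier_mk, h1⟩
      · left
        have := congrArg Subtype.val he
        simp only [ConjClasses.mk_eq_mk_iff_isConj] at this
        exact isConj_one_left.1 this
      · right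
        have h2 := hduniq _ he
        have := congrArg Subtype.val h2
        simp only at this
        rw [← hxC, ConjClasses.mk_eq_mk_iff_isConj] at this
        exact this.symm
    · rintro (rfl | hc)
      · exact h1
      · rw [← apply_eq_of_isConj hcf hc]
        exact hx

section main

variable [Fintype G] {χ : G → ℂ} (hχ : IsIrrCharacter G χ) {x : G} (h : TwoClass χ x)

include hχ h

theorem apply_x_ne_zero : χ x ≠ 0 := (h.2 x).2 (Or.inr (IsConj.refl x))

theorem inv_apply_ne_zero {g : G} (hg : χ g ≠ 0) : χ g⁻¹ ≠ 0 := by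
  rw [isCharacter_apply_inv (isCharacter_of_isIrrCharacter hχ)]
  intro h0
  apply hg
  have := congrArg conj h0
  simpa using this

theorem apply_eq_x {g : G} (hg : χ g ≠ 0) (hg1 : g ≠ 1) : χ g = χ x := by
  have hcf := isClassFunction_of_isCharacter (isCharacter_of_isIrrCharacter hχ)
  rcases (h.2 g).1 hg with h1 | h1
  · exact absurd h1 hg1
  · exact (apply_eq_of_isConj hcf h1).symm

/-- the support is closed under multiplication -/
theorem mul_apply_ne_zero {u w : G} (hu : χ u ≠ 0) (hw : χ w ≠ 0) : χ (u * w) ≠ 0 := by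
  classical
  have hcf := isClassFunction_of_isCharacter (isCharacter_of_isIrrCharacter hχ)
  intro hb
  have hu1 : u ≠ 1 := by
    intro h1
    rw [h1, one_mul] at hb
    exact hw hb
  have hw1 : w ≠ 1 := by
    intro h1
    rw [h1, mul_one] at hb
    exact hu hb
  have hui : IsConj x u⁻¹ := by
    rcases (h.2 u⁻¹).1 (inv_apply_ne_zero hχ h hu) with h1 | h1
    · exact absurd (inv_eq_one.1 h1) hu1
    · exact h1
  have hwc : IsConj x w := by
    rcases (h.2 w).1 hw with h1 | h1
    · exact absurd h1 hw1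
    · exact h1
  have hsum := sum_irr_mul hχ x (u * w)
  rw [hb, mul_zero, zero_div] at hsum
  have hterm : ∀ s ∈ cls x, ∀ y ∈ cls (u * w),
      χ (s * y) = (if IsConj x (s * y) then (1 : ℂ) else 0) * χ x := by
    intro s hs y hy
    rw [mem_cls] at hs hy
    by_cases hc : IsConj x (s * y)
    · rw [if_pos hc, one_mul]
      exact (apply_eq_of_isConj hcf hc).symm
    · rw [if_neg hc, zero_mul]
      by_contra hne
      rcases (h.2 (s * y)).1 hne with h1 | h1
      · have hy' : y = s⁻¹ := eq_inv_of_mul_eq_one_right h1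
        have hs0 : χ s ≠ 0 := (h.2 s).2 (Or.inr hs)
        have := inv_apply_ne_zero hχ h hs0
        rw [← hy', ← apply_eq_of_isConj hcf hy] at this
        exact this hb
      · exact hc h1
  rw [Finset.sum_congr rfl (fun s hs => Finset.sum_congr rfl (fun y hy => hterm s hs y hy))] at hsum
  simp_rw [← Finset.sum_mul] at hsum
  rcases mul_eq_zero.1 hsum with h0 | h0
  · have hcast : (∑ s ∈ cls x, ∑ y ∈ cls (u * w), if IsConj x (s * y) then (1 : ℂ) else 0)
        = ((∑ s ∈ cls x, ∑ y ∈ cls (u * w), if IsConj x (s * y) then 1 else 0 : ℕ) : ℂ) := by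
      push_cast
      rfl
    rw [hcast] at h0
    have h0' : (∑ s ∈ cls x, ∑ y ∈ cls (u * w), if IsConj x (s * y) then 1 else 0 : ℕ) = 0 := by
      exact_mod_cast h0
    rw [Finset.sum_eq_zero_iff] at h0'
    have h1 := h0' u⁻¹ (mem_cls.2 hui)
    rw [Finset.sum_eq_zero_iff] at h1
    have h2 := h1 (u * w) (mem_cls.2 (IsConj.refl _))
    rw [inv_mul_cancel_left, if_pos hwc] at h2
    exact one_ne_zero h2
  · exact apply_x_ne_zero hχ h h0

/-- the support of a two-class character, as a subgroup -/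
def supp : Subgroup G where
  carrier := {g | χ g ≠ 0}
  one_mem' := apply_one_ne_zero hχ
  mul_mem' := fun hu hw => mul_apply_ne_zero hχ h hu hw
  inv_mem' := fun hg => inv_apply_ne_zero hχ h hg

theorem mem_supp {g : G} : g ∈ supp hχ h ↔ χ g ≠ 0 := Iff.rfl

theorem supp_normal : (supp hχ h).Normal := by
  have hcf := isClassFunction_of_isCharacter (isCharacter_of_isIrrCharacter hχ)
  constructor
  intro n hn g
  rw [mem_supp] at hn ⊢
  rw [hcf]
  exact hn

theorem x_mem_supp : x ∈ supp hχ h := apply_x_ne_zero hχ h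

theorem supp_ne_bot : supp hχ h ≠ ⊥ := by
  intro hb
  have := x_mem_supp hχ h
  rw [hb, Subgroup.mem_bot] at this
  exact h.1 this

theorem isConj_of_mem_supp {g : G} (hg : g ∈ supp hχ h) (hg1 : g ≠ 1) : IsConj x g := by
  rcases (h.2 g).1 hg with h1 | h1
  · exact absurd h1 hg1
  · exact h1

/-- the support lies in every nontrivial normal subgroup -/
theorem supp_le (K : Subgroup G) [hK : K.Normal] (hK1 : K ≠ ⊥) : supp hχ h ≤ K := by
  classical
  haveI : Fintype K := Fintype.ofFinite K
  have hcf := isClassFunction_of_isCharacter (isCharacter_of_isIrrCharacter hχ)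
  by_contra hle
  obtain ⟨n, hn, hnK⟩ := SetLike.not_le_iff_exists.1 hle
  have hn1 : n ≠ 1 := fun h1 => hnK (h1 ▸ K.one_mem)
  have hxn := isConj_of_mem_supp hχ h hn hn1
  -- χ vanishes on K off 1
  have hvan : ∀ k : K, k ≠ 1 → χ k = 0 := by
    intro k hk1
    by_contra hne
    have hk1' : (k : G) ≠ 1 := fun h1 => hk1 (Subtype.ext h1)
    have hxk := isConj_of_mem_supp hχ h hne hk1'
    obtain ⟨c, hc⟩ := isConj_iff.1 (hxk.symm.trans hxn)
    apply hnK
    rw [← hc]
    exact hK.conj_mem _ k.2 c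
  have hinner : classInner (fun k : K => χ k) (fun _ => (1 : ℂ)) ≠ 0 := by
    rw [classInner_apply]
    have : ∑ k : K, χ k * conj (1 : ℂ) = χ 1 := by
      rw [Finset.sum_eq_single (1 : K)]
      · simp
      · intro k _ hk
        rw [hvan k hk, zero_mul]
      · intro h1
        exact absurd (Finset.mem_univ _) h1
    rw [this]
    exact _root_.mul_ne_zero (_root_.inv_ne_zero (card_ne_zero_complex K)) (apply_one_ne_zero hχ)
  have hcl := clifford K χ hχ (fun _ => (1 : ℂ)) isIrrCharacter_one hinner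
  have hset : {ψ : K → ℂ | ∃ g : G, ψ = fun n : K => (fun _ : K => (1 : ℂ))
      ⟨g * n * g⁻¹, hK.conj_mem n n.2 g⟩} = {fun _ => (1 : ℂ)} := by
    ext ψ
    simp only [Set.mem_ofPred_eq, Set.mem_singleton_iff]
    constructor
    · rintro ⟨g, rfl⟩
      rfl
    · intro hψ
      exact ⟨1, hψ⟩
  rw [hset, finsum_mem_singleton] at hcl
  obtain ⟨k, hk⟩ := (Subgroup.ne_bot_iff_exists_ne_one).1 hK1
  have h1 := congrFun hcl k
  have h2 := congrFun hcl 1
  simp only [Pi.smul_apply, smul_eq_mul, mul_one] at h1 h2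
  rw [hvan k hk] at h1
  rw [← h1] at h2
  exact apply_one_ne_zero hχ h2

/-- all nonidentity elements of the support have the same prime order -/
theorem exists_prime_order : ∃ p : ℕ, p.Prime ∧ ∀ g ∈ supp hχ h, g ^ p = 1 := by
  have hx1 := h.1
  have hord : orderOf x ≠ 1 := fun h1 => hx1 (orderOf_eq_one_iff.1 h1)
  obtain ⟨p, hp, hpd⟩ := Nat.exists_prime_and_dvd hord
  refine ⟨p, hp, ?_⟩
  have hxp : orderOf x = p := by
    obtain ⟨m, hm⟩ := hpd
    have hpos : 0 < orderOf x := orderOf_pos x
    have hm0 : 0 < m := by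
      rcases Nat.eq_zero_or_pos m with h0 | h0
      · rw [h0, mul_zero] at hm; omega
      · exact h0
    have hy : orderOf (x ^ m) = p := by
      rw [orderOf_pow' x hm0.ne', hm, Nat.gcd_eq_right (Dvd.intro_left p rfl),
        Nat.mul_div_cancel _ hm0]
    have hym : x ^ m ∈ supp hχ h := (supp hχ h).pow_mem (x_mem_supp hχ h) m
    have hy1 : x ^ m ≠ 1 := by
      intro h1
      rw [h1, orderOf_one] at hy
      exact hp.one_lt.ne hy
    have hc := isConj_of_mem_supp hχ h hym hy1
    obtain ⟨c, hc⟩ := isConj_iff.1 hc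
    rw [← hy, ← hc]
    exact SemiconjBy.orderOf_eq c (show SemiconjBy c x (c * x * c⁻¹) by simp [SemiconjBy])
  intro g hg
  by_cases hg1 : g = 1
  · rw [hg1, one_pow]
  · obtain ⟨c, hc⟩ := isConj_iff.1 (isConj_of_mem_supp hχ h hg hg1)
    rw [← hc, conj_pow, ← hxp, pow_orderOf_eq_one]
    group


/-- inner product of a two-class character with a class function -/
theorem classInner_eq (ψ : G → ℂ) (hψ : IsClassFunction G ψ) :
    classInner χ ψ = (Nat.card G : ℂ)⁻¹ *
      (χ 1 * conj (ψ 1) + ((cls x).card : ℂ) * (χ x * conj (ψ x))) := by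
  classical
  have hcf := isClassFunction_of_isCharacter (isCharacter_of_isIrrCharacter hχ)
  rw [classInner_apply]
  congr 1
  have h1 : (1 : G) ∉ cls x := by
    rw [mem_cls]
    intro hc
    exact h.1 (isConj_one_left.1 hc)
  have hsub : ∑ g : G, χ g * conj (ψ g) = ∑ g ∈ insert (1 : G) (cls x), χ g * conj (ψ g) := by
    symm
    apply Finset.sum_subset (Finset.subset_univ _)
    intro g _ hg
    rw [Finset.mem_insert, mem_cls, not_or] at hg
    have : χ g = 0 := by
      by_contra hne
      rcases (h.2 g).1 hne with h2 | h2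
      · exact hg.1 h2
      · exact hg.2 h2
    rw [this, zero_mul]
  rw [hsub, Finset.sum_insert h1]
  congr 1
  have hconst : ∀ g ∈ cls x, χ g * conj (ψ g) = χ x * conj (ψ x) := by
    intro g hg
    rw [mem_cls] at hg
    rw [← apply_eq_of_isConj hcf hg, ← apply_eq_of_isConj hψ hg]
  rw [Finset.sum_congr rfl hconst, Finset.sum_const, nsmul_eq_mul]

end main

end Cfsg.Agent.Lib.Helper4.TwoClass
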