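import Mathlib
import Cfsg.Prelude.Def_Characters
import Cfsg.Agent.Lib.helper3.CommCount

set_option autoImplicit false
set_option linter.style.haveILetI false
set_option linter.unusedSectionVars false

/-! Counting products of two commutators with characters (helper4). -/

namespace Cfsg.Agent.Lib.Helper4.TwoComm

open Cfsg Module Cfsg.Agent.Lib.helper3.IndFun Cfsg.Agent.Lib.helper3.CharBasic
open Cfsg.Agent.Lib.helper3.Irr Cfsg.Agent.Lib.helper3.Central
open scoped ComplexConjugate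
open Classical

variable {G : Type*} [Group G] [Fintype G]

/-- the sum of `ρ` over all commutators is a scalar -/
theorem commSum_eq_smul {V : Type*} [AddCommGroup V] [Module ℂ V] [FiniteDimensional ℂ V]
    (ρ : Representation ℂ G V) [ρ.IsIrreducible] :
    ∑ x : G, ∑ y : G, ρ (x * y * x⁻¹ * y⁻¹)
      = ((Nat.card G : ℂ) ^ 2 / (finrank ℂ V : ℂ) ^ 2) • LinearMap.id := by
  have hV := finrank_ne_zero_of_irreducible ρ
  set T : V →ₗ[ℂ] V := ∑ x : G, ∑ y : G, ρ (x * y * x⁻¹ * y⁻¹) with hT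
  have hcomm : ∀ h : G, ρ h * T = T * ρ h := by
    intro h
    rw [hT, Finset.mul_sum, Finset.sum_mul]
    apply Fintype.sum_equiv (MulAut.conj h).toEquiv
    intro x
    rw [Finset.mul_sum, Finset.sum_mul]
    apply Fintype.sum_equiv (MulAut.conj h).toEquiv
    intro y
    rw [← map_mul, ← map_mul]
    congr 1
    simp only [MulEquiv.toEquiv_eq_coe, EquivLike.coe_coe, MulAut.conj_apply]
    group
  obtain ⟨c, hc⟩ := exists_eq_smul_id ρ T (by
    intro h v
    have := congrArg (fun f : V →ₗ[ℂ] V => f v) (hcomm h)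
    simp only [Module.End.mul_apply] at this
    exact this.symm)
  have htr : LinearMap.trace ℂ V T = (Nat.card G : ℂ) ^ 2 / (finrank ℂ V : ℂ) := by
    rw [hT, map_sum, ← sum_character_commutator ρ]
    apply Finset.sum_congr rfl
    intro x _
    rw [map_sum]
    rfl
  rw [hc, map_smul, LinearMap.trace_id, smul_eq_mul] at htr
  rw [hc]
  congr 1
  field_simp
  field_simp at htr
  exact htr

theorem sum_character_two_commutators {V : Type*} [AddCommGroup V] [Module ℂ V]
    [FiniteDimensional ℂ V] (ρ : Representation ℂ G V) [ρ.IsIrreducible] :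
    ∑ a : G, ∑ b : G, ∑ c : G, ∑ d : G,
        ρ.character ((a * b * a⁻¹ * b⁻¹) * (c * d * c⁻¹ * d⁻¹))
      = (Nat.card G : ℂ) ^ 4 / (finrank ℂ V : ℂ) ^ 3 := by
  have hV := finrank_ne_zero_of_irreducible ρ
  have h1 : ∑ a : G, ∑ b : G, ∑ c : G, ∑ d : G,
        ρ.character ((a * b * a⁻¹ * b⁻¹) * (c * d * c⁻¹ * d⁻¹))
      = LinearMap.trace ℂ V ((∑ x : G, ∑ y : G, ρ (x * y * x⁻¹ * y⁻¹)) *
          (∑ x : G, ∑ y : G, ρ (x * y * x⁻¹ * y⁻¹))) := by
    rw [Finset.sum_mul, map_sum]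
    apply Finset.sum_congr rfl
    intro a _
    rw [Finset.sum_mul, map_sum]
    apply Finset.sum_congr rfl
    intro b _
    rw [Finset.mul_sum, map_sum]
    apply Finset.sum_congr rfl
    intro c _
    rw [Finset.mul_sum, map_sum]
    apply Finset.sum_congr rfl
    intro d _
    rw [← map_mul]
    rfl
  rw [h1, commSum_eq_smul ρ, smul_mul_smul_comm, map_smul]
  have : (LinearMap.id : V →ₗ[ℂ] V) * LinearMap.id = LinearMap.id := rfl
  rw [this, LinearMap.trace_id, smul_eq_mul]
  field_simp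

theorem sum_irr_two_commutators {χ : G → ℂ} (hχ : IsIrrCharacter G χ) :
    ∑ a : G, ∑ b : G, ∑ c : G, ∑ d : G, χ ((a * b * a⁻¹ * b⁻¹) * (c * d * c⁻¹ * d⁻¹))
      = (Nat.card G : ℂ) ^ 4 / χ 1 ^ 3 := by
  obtain ⟨n, ρ, hirr, rfl⟩ := hχ
  haveI := hirr
  rw [sum_character_two_commutators ρ, Representation.char_one]

/-- the number of ways of writing `g` as a product of two commutators -/
noncomputable def twoCommCount (g : G) : ℂ :=
  ∑ a : G, ∑ b : G, ∑ c : G, ∑ d : G,
    if (a * b * a⁻¹ * b⁻¹) * (c * d * c⁻¹ * d⁻¹) = g then (1 : ℂ) else 0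

theorem twoCommCount_isClassFunction : IsClassFunction G (fun g => twoCommCount g) := by
  intro g h
  simp only [twoCommCount]
  apply Fintype.sum_equiv (MulAut.conj h⁻¹).toEquiv
  intro a
  apply Fintype.sum_equiv (MulAut.conj h⁻¹).toEquiv
  intro b
  apply Fintype.sum_equiv (MulAut.conj h⁻¹).toEquiv
  intro c
  apply Fintype.sum_equiv (MulAut.conj h⁻¹).toEquiv
  intro d
  have e : (MulAut.conj h⁻¹).toEquiv a * (MulAut.conj h⁻¹).toEquiv b *
      ((MulAut.conj h⁻¹).toEquiv a)⁻¹ * ((MulAut.conj h⁻¹).toEquiv b)⁻¹ *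
      ((MulAut.conj h⁻¹).toEquiv c * (MulAut.conj h⁻¹).toEquiv d *
      ((MulAut.conj h⁻¹).toEquiv c)⁻¹ * ((MulAut.conj h⁻¹).toEquiv d)⁻¹)
      = h⁻¹ * ((a * b * a⁻¹ * b⁻¹) * (c * d * c⁻¹ * d⁻¹)) * h := by
    simp only [MulEquiv.toEquiv_eq_coe, EquivLike.coe_coe, MulAut.conj_apply]
    group
  split_ifs with h1 h2 h2
  · rfl
  · exfalso
    apply h2
    rw [e, h1]
    group
  · exfalso
    apply h1
    rw [e] at h2
    rw [← h2]
    group
  · rfl

theorem classInner_twoCommCount {χ : G → ℂ} (hχ : IsIrrCharacter G χ) :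
    classInner (fun g => twoCommCount g) χ = (Nat.card G : ℂ) ^ 3 / χ 1 ^ 3 := by
  have hG : (Nat.card G : ℂ) ≠ 0 := card_ne_zero_complex G
  have h1 : ∑ g : G, twoCommCount g * conj (χ g) =
      conj (∑ a : G, ∑ b : G, ∑ c : G, ∑ d : G,
        χ ((a * b * a⁻¹ * b⁻¹) * (c * d * c⁻¹ * d⁻¹))) := by
    simp_rw [twoCommCount, Finset.sum_mul]
    rw [Finset.sum_comm, map_sum]
    apply Finset.sum_congr rfl
    intro a _
    rw [Finset.sum_comm, map_sum]
    apply Finset.sum_congr rfl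
    intro b _
    rw [Finset.sum_comm, map_sum]
    apply Finset.sum_congr rfl
    intro c _
    rw [Finset.sum_comm, map_sum]
    apply Finset.sum_congr rfl
    intro d _
    simp_rw [ite_mul, one_mul, zero_mul]
    rw [Finset.sum_ite_eq Finset.univ, if_pos (Finset.mem_univ _)]
  rw [classInner_apply, h1, sum_irr_two_commutators hχ, map_div₀, map_pow, map_pow,
    Complex.conj_natCast, conj_apply_one (isCharacter_of_isIrrCharacter hχ)]
  field_simp

theorem twoCommCount_eq (g : G) :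
    twoCommCount g =
      (Nat.card G : ℂ) ^ 3 * ∑ χ : IrrCharacter G, (χ : G → ℂ) g / (χ : G → ℂ) 1 ^ 3 := by
  have h := congrFun (classFunction_eq_sum _ twoCommCount_isClassFunction) g
  simp only [Finset.sum_apply, Pi.smul_apply, smul_eq_mul] at h
  rw [h, Finset.mul_sum]
  apply Finset.sum_congr rfl
  intro χ _
  rw [classInner_twoCommCount χ.2]
  ring

theorem exists_two_commutators_of_ne_zero (g : G)
    (h : ∑ χ : IrrCharacter G, (χ : G → ℂ) g / (χ : G → ℂ) 1 ^ 3 ≠ 0) :
    ∃ a b c d : G, (a * b * a⁻¹ * b⁻¹) * (c * d * c⁻¹ * d⁻¹) = g := by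
  have hG : (Nat.card G : ℂ) ≠ 0 := card_ne_zero_complex G
  have h2 : twoCommCount g ≠ 0 := by
    rw [twoCommCount_eq]
    exact mul_ne_zero (pow_ne_zero _ hG) h
  by_contra hcon
  push Not at hcon
  apply h2
  unfold twoCommCount
  apply Finset.sum_eq_zero
  intro a _
  apply Finset.sum_eq_zero
  intro b _
  apply Finset.sum_eq_zero
  intro c _
  apply Finset.sum_eq_zero
  intro d _
  rw [if_neg (hcon a b c d)]

end Cfsg.Agent.Lib.Helper4.TwoComm
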