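import Mathlib
import Cfsg.Prelude.Def_Local
import Cfsg.Prelude.Def_Solvable
import Cfsg.Agent.Lib.Helper7.Tate
import Cfsg.Agent.Lib.Helper4.PNil
import Cfsg.Agent.H1.Cores
import Cfsg.Agent.H1.Frattini
import Cfsg.Agent.H1.PGroup

/-!
Groups with a non-abelian two-generated Sylow `p`-subgroup, `O_{p'}(G) = 1` and no normal subgroup
inside `Φ(P)` (helper4).  Part A: consequences of Tate's theorem.
-/

set_option autoImplicit false
open scoped commutatorElement

namespace Cfsg.Agent.Lib.Helper4.TwoGen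

variable {G : Type*} [Group G] [Finite G] {p : ℕ} [Fact p.Prime] (P : Sylow p G)

/-- `Φ(P)` as a subgroup of `G`. -/
abbrev Phi : Subgroup G := (frattini ↥(P : Subgroup G)).map (P : Subgroup G).subtype

/-- The hypotheses on `G` and `P`. -/
structure Hyp : Prop where
  hna : ¬ IsMulCommutative (P : Subgroup G)
  hgen : (frattini ↥(P : Subgroup G)).index = p ^ 2
  hcore : Cfsg.pPrimeCore p G = ⊥
  hfrat : (Phi P).normalCore = ⊥

variable {P}

/-- Tate: no nontrivial normal subgroup meets `P` inside `Φ(P)`. -/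
theorem not_inf_le (h : Hyp P) (N : Subgroup G) [hN : N.Normal] (hN1 : N ≠ ⊥) :
    ¬ N ⊓ (P : Subgroup G) ≤ Phi P := by
  intro hle
  have hp : p.Prime := Fact.out
  obtain ⟨M, hML, hn, hc, k, hk⟩ := Cfsg.Agent.Lib.Helper7.Tate.tate_pnil P _ N hN rfl hle
  have hMn : M.Normal := by
    constructor
    intro m hm g
    refine Cfsg.Agent.Lib.Helper4.PNil.mem_of_coprime hML hn hk (hN.conj_mem m (hML hm) g) ?_
    have h1 : orderOf (g * m * g⁻¹) = orderOf m := by
      have := (MulAut.conj g).orderOf_eq m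
      simpa [MulAut.conj_apply] using this
    rw [h1]
    have h2 : orderOf m ∣ Nat.card M := by
      have := orderOf_dvd_natCard (⟨m, hm⟩ : ↥M)
      rwa [Subgroup.orderOf_mk] at this
    exact Nat.Coprime.coprime_dvd_left h2 hc
  have hM : M = ⊥ := by
    have := Cfsg.Agent.H1.le_pPrimeCore hMn hc
    rw [h.hcore] at this
    exact le_bot_iff.mp this
  have hcard : Nat.card N = p ^ k := by
    rw [hM, Subgroup.relIndex_bot_left] at hk
    exact hk
  have hNp : IsPGroup p N := IsPGroup.of_card hcard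
  have hNP : N ≤ (P : Subgroup G) := hNp.le_sylow_of_normal P
  have h1 : N ≤ Phi P := by
    have : N ⊓ (P : Subgroup G) = N := inf_eq_left.mpr hNP
    rwa [this] at hle
  have h2 : N ≤ (Phi P).normalCore := Subgroup.normal_le_normalCore.mpr h1
  rw [h.hfrat] at h2
  exact hN1 (le_bot_iff.mp h2)

/-- A normal subgroup of `P` not inside `Φ(P)` has cyclic quotient. -/
theorem exists_gen (h : Hyp P) (R : Subgroup ↥(P : Subgroup G)) [hR : R.Normal]
    (hRF : ¬ R ≤ frattini ↥(P : Subgroup G)) :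
    ∃ x : ↥(P : Subgroup G), Subgroup.zpowers x ⊔ R = ⊤ := by
  have hp : p.Prime := Fact.out
  set Φ := frattini ↥(P : Subgroup G) with hΦ
  set T := Φ ⊔ R with hT
  have hΦT : Φ ≤ T := le_sup_left
  have hTn : T.Normal := by
    have : Φ.Normal := inferInstance
    exact Subgroup.sup_normal Φ R
  have hdvd : T.index ∣ p ^ 2 := by
    rw [← h.hgen]
    exact Subgroup.index_dvd_of_le hΦT
  have hne : T.index ≠ p ^ 2 := by
    intro he
    have h1 := Subgroup.relIndex_mul_index hΦT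
    rw [he, h.hgen] at h1
    have h2 : Φ.relIndex T = 1 := by
      have hpos : 0 < p ^ 2 := pow_pos hp.pos 2
      exact Nat.eq_of_mul_eq_mul_right hpos (by rw [h1, one_mul])
    have h3 : T ≤ Φ := Subgroup.relIndex_eq_one.mp h2
    exact hRF (le_sup_right.trans h3)
  obtain ⟨j, hj, hTj⟩ := (Nat.dvd_prime_pow hp).mp hdvd
  have hcyc : IsCyclic (↥(P : Subgroup G) ⧸ T) := by
    have hcard : Nat.card (↥(P : Subgroup G) ⧸ T) = T.index := (Subgroup.index_eq_card T).symm
    interval_cases j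
    · have h1 : Nat.card (↥(P : Subgroup G) ⧸ T) = 1 := by rw [hcard, hTj, pow_zero]
      have : Subsingleton (↥(P : Subgroup G) ⧸ T) := (Nat.card_eq_one_iff_unique.mp h1).1
      infer_instance
    · have h1 : Nat.card (↥(P : Subgroup G) ⧸ T) = p := by rw [hcard, hTj, pow_one]
      exact isCyclic_of_prime_card h1
    · exact absurd hTj hne
  obtain ⟨g, hg⟩ := hcyc.exists_zpow_surjective
  obtain ⟨x, rfl⟩ := QuotientGroup.mk_surjective g
  refine ⟨x, ?_⟩
  have h1 : Subgroup.zpowers x ⊔ T = ⊤ := by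
    rw [eq_top_iff]
    intro y _
    obtain ⟨i, hi⟩ := hg (y : ↥(P : Subgroup G) ⧸ T)
    have hi' : ((x ^ i : ↥(P : Subgroup G)) : ↥(P : Subgroup G) ⧸ T) = (y : ↥(P : Subgroup G) ⧸ T) := by
      simpa using hi
    rw [QuotientGroup.eq] at hi'
    have : y = x ^ i * ((x ^ i)⁻¹ * y) := by group
    rw [this]
    exact Subgroup.mul_mem _ ((le_sup_left : Subgroup.zpowers x ≤ _) (Subgroup.zpow_mem_zpowers x i))
      ((le_sup_right : T ≤ _) hi')
  have h2 : (Subgroup.zpowers x ⊔ R) ⊔ frattini ↥(P : Subgroup G) = ⊤ := by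
    rw [← h1, hT, sup_assoc, sup_comm R Φ]
  exact frattini_nongenerating h2

/-- Consequently all commutators of `P` lie in such a subgroup. -/
theorem comm_mem (h : Hyp P) (R : Subgroup ↥(P : Subgroup G)) [hR : R.Normal]
    (hRF : ¬ R ≤ frattini ↥(P : Subgroup G)) (a b : ↥(P : Subgroup G)) : ⁅a, b⁆ ∈ R := by
  obtain ⟨x, hx⟩ := exists_gen h R hRF
  have ha : a ∈ Subgroup.zpowers x ⊔ R := by rw [hx]; trivial
  have hb : b ∈ Subgroup.zpowers x ⊔ R := by rw [hx]; trivial
  obtain ⟨a₁, ha₁, r, hr, rfl⟩ := Subgroup.mem_sup_of_normal_right.mp ha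
  obtain ⟨b₁, hb₁, s, hs, rfl⟩ := Subgroup.mem_sup_of_normal_right.mp hb
  obtain ⟨i, rfl⟩ := Subgroup.mem_zpowers_iff.mp ha₁
  obtain ⟨j, rfl⟩ := Subgroup.mem_zpowers_iff.mp hb₁
  rw [← QuotientGroup.eq_one_iff]
  have hr' : (r : ↥(P : Subgroup G) ⧸ R) = 1 := (QuotientGroup.eq_one_iff r).mpr hr
  have hs' : (s : ↥(P : Subgroup G) ⧸ R) = 1 := (QuotientGroup.eq_one_iff s).mpr hs
  rw [commutatorElement_def]
  simp only [QuotientGroup.mk_mul, QuotientGroup.mk_inv, QuotientGroup.mk_zpow, hr', hs', mul_one]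
  have hc : Commute ((x : ↥(P : Subgroup G) ⧸ R) ^ i) ((x : ↥(P : Subgroup G) ⧸ R) ^ j) :=
    (Commute.refl _).zpow_zpow i j
  rw [hc.eq]
  group

/-- transport: `R.subgroupOf P ≤ Φ(P)` iff `R ⊓ P ≤ Phi P`. -/
theorem subgroupOf_le_frattini_iff (R : Subgroup G) :
    R.subgroupOf (P : Subgroup G) ≤ frattini ↥(P : Subgroup G) ↔ R ⊓ (P : Subgroup G) ≤ Phi P := by
  constructor
  · intro hle x hx
    have : (⟨x, hx.2⟩ : ↥(P : Subgroup G)) ∈ R.subgroupOf (P : Subgroup G) :=
      Subgroup.mem_subgroupOf.mpr hx.1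
    exact ⟨⟨x, hx.2⟩, hle this, rfl⟩
  · intro hle y hy
    have hy' : (y : G) ∈ R ⊓ (P : Subgroup G) := ⟨Subgroup.mem_subgroupOf.mp hy, y.2⟩
    obtain ⟨u, hu, huy⟩ := hle hy'
    have : u = y := Subtype.ext huy
    rwa [← this]

/-- Commutators of `P` lie in every subgroup normalized by `P` that does not meet `P` inside `Φ(P)`. -/
theorem comm_mem_of_normalized (h : Hyp P) (R : Subgroup G)
    (hRn : (P : Subgroup G) ≤ Subgroup.normalizer (R : Set G))
    (hR : ¬ R ⊓ (P : Subgroup G) ≤ Phi P) {a b : G} (ha : a ∈ (P : Subgroup G))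
    (hb : b ∈ (P : Subgroup G)) : ⁅a, b⁆ ∈ R := by
  have hn : (R.subgroupOf (P : Subgroup G)).Normal := Subgroup.normal_subgroupOf_of_le_normalizer hRn
  have hRF : ¬ R.subgroupOf (P : Subgroup G) ≤ frattini ↥(P : Subgroup G) := by
    rw [subgroupOf_le_frattini_iff]; exact hR
  have := comm_mem h (R.subgroupOf (P : Subgroup G)) hRF ⟨a, ha⟩ ⟨b, hb⟩
  exact Subgroup.mem_subgroupOf.mp this

/-- Commutators of `P` lie in every nontrivial normal subgroup. -/
theorem comm_mem_normal (h : Hyp P) (N : Subgroup G) [hN : N.Normal] (hN1 : N ≠ ⊥) {a b : G}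
    (ha : a ∈ (P : Subgroup G)) (hb : b ∈ (P : Subgroup G)) : ⁅a, b⁆ ∈ N := by
  apply comm_mem_of_normalized h N _ (not_inf_le h N hN1) ha hb
  rw [Subgroup.normalizer_eq_top_iff.mpr hN]
  exact le_top

/-- The key element: a nontrivial element of `Φ(P)` lying in every nontrivial normal subgroup. -/
theorem exists_key (h : Hyp P) :
    ∃ c : G, c ≠ 1 ∧ c ∈ Phi P ∧ ∀ N : Subgroup G, N.Normal → N ≠ ⊥ → c ∈ N := by
  have hex : ∃ a b : ↥(P : Subgroup G), a * b ≠ b * a := by
    by_contra hcon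
    push Not at hcon
    exact h.hna ⟨⟨hcon⟩⟩
  obtain ⟨a, b, hab⟩ := hex
  refine ⟨⁅(a : G), (b : G)⁆, ?_, ?_, ?_⟩
  · intro hc
    rw [commutatorElement_eq_one_iff_commute] at hc
    apply hab
    apply Subtype.ext
    simpa using hc.eq
  · have h1 : ⁅a, b⁆ ∈ commutator ↥(P : Subgroup G) :=
      Subgroup.commutator_mem_commutator (Subgroup.mem_top a) (Subgroup.mem_top b)
    have h2 := Cfsg.Agent.H1.commutator_le_frattini P.isPGroup' h1
    exact ⟨⁅a, b⁆, h2, by simp [commutatorElement_def]⟩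
  · intro N hN hN1
    exact comm_mem_normal h N hN1 a.2 b.2

end Cfsg.Agent.Lib.Helper4.TwoGen
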