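import Mathlib
import Cfsg.Agent.Lib.Helper4.TwoGenA
import Cfsg.Agent.H2.Gaschutz
import Cfsg.Agent.H2.FrattiniPRes

/-!
Part B: the Fitting subgroup lies in every nontrivial normal subgroup (Gaschütz argument).
-/

set_option autoImplicit false
open scoped commutatorElement

namespace Cfsg.Agent.Lib.Helper4.TwoGen

/-- In a finite cyclic group the elements of order dividing a prime `p` are the powers of any
nontrivial one of them. -/
theorem mem_zpowers_of_pow_eq_one {C : Type*} [Group C] [Finite C] [IsCyclic C] {p : ℕ}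
    (hp : p.Prime) {y z : C} (hy : y ≠ 1) (hyp : y ^ p = 1) (hz : z ^ p = 1) :
    z ∈ Subgroup.zpowers y := by
  classical
  have := Fintype.ofFinite C
  have h1 : (Finset.univ.filter (fun a : C => a ^ p = 1)).card ≤ p :=
    IsCyclic.card_pow_eq_one_le hp.pos
  have hord : orderOf y = p := by
    have := Fact.mk hp
    exact orderOf_eq_prime hyp hy
  have h2 : ((Subgroup.zpowers y : Set C).toFinset).card = p := by
    rw [Set.toFinset_card, ← hord, ← Nat.card_eq_fintype_card]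
    exact Nat.card_zpowers y
  have hsub : (Subgroup.zpowers y : Set C).toFinset ⊆ Finset.univ.filter (fun a : C => a ^ p = 1) := by
    intro a ha
    rw [Set.mem_toFinset] at ha
    obtain ⟨i, rfl⟩ := Subgroup.mem_zpowers_iff.mp ha
    simp only [Finset.mem_filter, Finset.mem_univ, true_and]
    rw [← zpow_natCast, ← zpow_mul, mul_comm, zpow_mul, zpow_natCast, hyp, one_zpow]
  have heq := Finset.eq_of_subset_of_card_le hsub (by rw [h2]; exact h1)
  have hzmem : z ∈ Finset.univ.filter (fun a : C => a ^ p = 1) := by simp [hz]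
  rw [← heq, Set.mem_toFinset] at hzmem
  exact hzmem

variable {G : Type*} [Group G] [Finite G] {p : ℕ} [Fact p.Prime] {P : Sylow p G}

/-- ambient version inside `zpowers x` -/
theorem mem_zpowers_of_pow_eq_one' (x : G) {y z : G} (hyx : y ∈ Subgroup.zpowers x)
    (hzx : z ∈ Subgroup.zpowers x) (hy : y ≠ 1) (hyp : y ^ p = 1) (hz : z ^ p = 1) :
    z ∈ Subgroup.zpowers y := by
  have hp : p.Prime := Fact.out
  have := mem_zpowers_of_pow_eq_one (C := ↥(Subgroup.zpowers x)) hp (y := ⟨y, hyx⟩) (z := ⟨z, hzx⟩)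
    (by intro h; exact hy (congrArg Subtype.val h)) (Subtype.ext (by simpa using hyp))
    (Subtype.ext (by simpa using hz))
  obtain ⟨i, hi⟩ := Subgroup.mem_zpowers_iff.mp this
  have := congrArg Subtype.val hi
  exact Subgroup.mem_zpowers_iff.mpr ⟨i, by simpa using this⟩

/-- Under the hypotheses `F(G) = O_p(G)`. -/
theorem fitting_eq_pCore (h : Hyp P) : Cfsg.fittingSubgroup G = Cfsg.pCore p G := by
  have hp : p.Prime := Fact.out
  rw [Cfsg.Agent.H1.fittingSubgroup_eq_iSup_pCore]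
  apply le_antisymm
  · apply iSup_le
    intro q
    by_cases hq : (q : ℕ) = p
    · rw [hq]
    · have := Cfsg.Agent.H1.le_pPrimeCore (inferInstance : (Cfsg.pCore (q : ℕ) G).Normal)
        (Cfsg.Agent.H1.pCore_coprime_of_ne hp q.2 hq)
      rw [h.hcore] at this
      exact this.trans bot_le
  · exact le_iSup (fun q : Nat.Primes => Cfsg.pCore (q : ℕ) G) ⟨p, hp⟩

/-- `Φ(O_p(G)) = 1`. -/
theorem frattini_pCore (h : Hyp P) : frattini ↥(Cfsg.pCore p G) = ⊥ := by
  have h1 := Cfsg.Agent.H2.FratPRes.map_frattini_le_map_frattini (Cfsg.pCore p G) (P : Subgroup G)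
    (Cfsg.Agent.H1.pCore_le_sylow P)
  have hn : ((frattini ↥(Cfsg.pCore p G)).map (Cfsg.pCore p G).subtype).Normal := inferInstance
  have h2 : (frattini ↥(Cfsg.pCore p G)).map (Cfsg.pCore p G).subtype ≤ (Phi P).normalCore :=
    Subgroup.normal_le_normalCore.mpr h1
  rw [h.hfrat, le_bot_iff] at h2
  exact (Subgroup.map_eq_bot_iff_of_injective _ (Cfsg.pCore p G).subtype_injective).mp h2

theorem pCore_comm (h : Hyp P) {a b : G} (ha : a ∈ Cfsg.pCore p G) (hb : b ∈ Cfsg.pCore p G) :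
    a * b = b * a := by
  have h1 : ⁅(⟨a, ha⟩ : ↥(Cfsg.pCore p G)), ⟨b, hb⟩⁆ ∈ commutator ↥(Cfsg.pCore p G) :=
    Subgroup.commutator_mem_commutator (Subgroup.mem_top _) (Subgroup.mem_top _)
  have h2 := Cfsg.Agent.H1.commutator_le_frattini (Cfsg.Agent.H1.pCore_isPGroup (G := G) p) h1
  rw [frattini_pCore h, Subgroup.mem_bot, commutatorElement_eq_one_iff_commute] at h2
  have := congrArg Subtype.val h2.eq
  simpa using this

theorem pCore_pow (h : Hyp P) {a : G} (ha : a ∈ Cfsg.pCore p G) : a ^ p = 1 := by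
  have h2 := Cfsg.Agent.H1.pow_p_mem_frattini (Cfsg.Agent.H1.pCore_isPGroup (G := G) p)
    (⟨a, ha⟩ : ↥(Cfsg.pCore p G))
  rw [frattini_pCore h, Subgroup.mem_bot] at h2
  have := congrArg Subtype.val h2
  simpa using this

/-- The image of `P` modulo a nontrivial normal subgroup is cyclic. -/
theorem isCyclic_map (h : Hyp P) (N : Subgroup G) [hN : N.Normal] (hN1 : N ≠ ⊥) :
    IsCyclic ↥((P : Subgroup G).map (QuotientGroup.mk' N)) := by
  have hn : (N.subgroupOf (P : Subgroup G)).Normal := inferInstance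
  have hRF : ¬ N.subgroupOf (P : Subgroup G) ≤ frattini ↥(P : Subgroup G) := by
    rw [subgroupOf_le_frattini_iff]; exact not_inf_le h N hN1
  obtain ⟨x, hx⟩ := exists_gen h (N.subgroupOf (P : Subgroup G)) hRF
  refine ⟨⟨⟨QuotientGroup.mk' N (x : G), Subgroup.mem_map_of_mem _ x.2⟩, ?_⟩⟩
  rintro ⟨q, y, hy, rfl⟩
  have hy' : (⟨y, hy⟩ : ↥(P : Subgroup G)) ∈ Subgroup.zpowers x ⊔ N.subgroupOf (P : Subgroup G) := by
    rw [hx]; trivial
  obtain ⟨a, ha, r, hr, har⟩ := Subgroup.mem_sup_of_normal_right.mp hy'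
  obtain ⟨i, rfl⟩ := Subgroup.mem_zpowers_iff.mp ha
  refine ⟨i, ?_⟩
  apply Subtype.ext
  have hyG : y = (x : G) ^ i * (r : G) := by
    have := congrArg Subtype.val har
    simpa using this.symm
  have hr' : QuotientGroup.mk' N (r : G) = 1 := by
    rw [QuotientGroup.mk'_apply, QuotientGroup.eq_one_iff]
    exact Subgroup.mem_subgroupOf.mp hr
  simp only [Subgroup.coe_zpow]
  rw [hyG, map_mul, hr', mul_one, map_zpow]

/-- `O_p(G)` lies in every nontrivial normal subgroup (Gaschütz). -/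
theorem pCore_le (h : Hyp P) (K : Subgroup G) [hK : K.Normal] (hK1 : K ≠ ⊥) :
    Cfsg.pCore p G ≤ K := by
  have hp : p.Prime := Fact.out
  obtain ⟨c, hc1, hcΦ, hcN⟩ := exists_key h
  set Q := Cfsg.pCore p G with hQ
  by_contra hQK
  have hQ1 : Q ≠ ⊥ := by intro h0; apply hQK; rw [h0]; exact bot_le
  have hQn : Q.Normal := inferInstance
  set N₀ := K ⊓ Q with hN₀
  have hN₀n : N₀.Normal := inferInstance
  have hcN₀ : c ∈ N₀ := ⟨hcN K hK hK1, hcN Q hQn hQ1⟩
  have hN₀1 : N₀ ≠ ⊥ := by intro h0; rw [h0, Subgroup.mem_bot] at hcN₀; exact hc1 hcN₀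
  have hQP : Q ≤ (P : Subgroup G) := Cfsg.Agent.H1.pCore_le_sylow P
  have hN₀Q : N₀ ≤ Q := inf_le_right
  have hN₀P : N₀ ≤ (P : Subgroup G) := hN₀Q.trans hQP
  have hRF : ¬ N₀.subgroupOf (P : Subgroup G) ≤ frattini ↥(P : Subgroup G) := by
    rw [subgroupOf_le_frattini_iff]; exact not_inf_le h N₀ hN₀1
  obtain ⟨x, hx⟩ := exists_gen h (N₀.subgroupOf (P : Subgroup G)) hRF
  set X := Subgroup.zpowers (x : G) with hX
  have hXP : X ≤ (P : Subgroup G) := by rw [hX, Subgroup.zpowers_le]; exact x.2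
  have hdec : ∀ y ∈ (P : Subgroup G), ∃ a ∈ X, ∃ n ∈ N₀, a * n = y := by
    intro y hy
    have hy' : (⟨y, hy⟩ : ↥(P : Subgroup G)) ∈
        Subgroup.zpowers x ⊔ N₀.subgroupOf (P : Subgroup G) := by
      rw [hx]; trivial
    obtain ⟨a, ha, r, hr, har⟩ := Subgroup.mem_sup_of_normal_right.mp hy'
    obtain ⟨i, rfl⟩ := Subgroup.mem_zpowers_iff.mp ha
    refine ⟨(x : G) ^ i, Subgroup.zpow_mem_zpowers _ i, (r : G), Subgroup.mem_subgroupOf.mp hr, ?_⟩
    have := congrArg Subtype.val har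
    simpa using this
  have hsup : N₀ ⊔ X = (P : Subgroup G) := by
    apply le_antisymm (sup_le hN₀P hXP)
    intro y hy
    obtain ⟨a, ha, n, hn, rfl⟩ := hdec y hy
    exact Subgroup.mul_mem _ ((le_sup_right : X ≤ _) ha) ((le_sup_left : N₀ ≤ _) hn)
  have hinf : N₀ ⊓ X = ⊥ := by
    rw [eq_bot_iff]
    intro y hy
    rw [Subgroup.mem_bot]
    by_contra hy1
    apply hQK
    intro q hq
    obtain ⟨a, ha, n, hn, rfl⟩ := hdec q (hQP hq)
    have haQ : a ∈ Q := by
      have : a = a * n * n⁻¹ := by group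
      rw [this]; exact Q.mul_mem hq (Q.inv_mem (hN₀Q hn))
    have haz : a ∈ Subgroup.zpowers y :=
      mem_zpowers_of_pow_eq_one' (x : G) hy.2 ha hy1 (pCore_pow h (hN₀Q hy.1)) (pCore_pow h haQ)
    have haN : a ∈ N₀ := (Subgroup.zpowers_le.mpr hy.1) haz
    exact (N₀.mul_mem haN hn).1
  have hcomm : IsMulCommutative N₀ :=
    ⟨⟨fun a b => Subtype.ext (pCore_comm h (hN₀Q a.2) (hN₀Q b.2))⟩⟩
  have hcop : (Nat.card N₀).Coprime (P : Subgroup G).index := by
    have hNp : IsPGroup p N₀ := (Cfsg.Agent.H1.pCore_isPGroup (G := G) p).to_le hN₀Q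
    obtain ⟨j, hj⟩ := hNp.exists_card_eq
    rw [hj]
    exact Nat.Coprime.pow_left j ((Nat.Prime.coprime_iff_not_dvd hp).mpr P.not_dvd_index)
  obtain ⟨H, hH⟩ := Cfsg.Agent.H2.Gasch.exists_complement N₀ (P : Subgroup G) hcop X hinf hsup
  have hdecG : ∀ g : G, ∃ n ∈ N₀, ∃ k ∈ H, n * k = g := by
    intro g
    have : g ∈ N₀ ⊔ H := by rw [hH.sup_eq_top]; trivial
    exact Subgroup.mem_sup_of_normal_left.mp this
  set M := Q ⊓ H with hM
  have hMn : M.Normal := by
    constructor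
    intro m hm g
    obtain ⟨n, hn, k, hk, rfl⟩ := hdecG g
    have h1 : k * m * k⁻¹ ∈ M :=
      ⟨hQn.conj_mem m hm.1 k, H.mul_mem (H.mul_mem hk hm.2) (H.inv_mem hk)⟩
    have h2 : n * (k * m * k⁻¹) = (k * m * k⁻¹) * n := pCore_comm h (hN₀Q hn) h1.1
    have : n * k * m * (n * k)⁻¹ = k * m * k⁻¹ := by
      calc n * k * m * (n * k)⁻¹ = n * (k * m * k⁻¹) * n⁻¹ := by group
        _ = (k * m * k⁻¹) * n * n⁻¹ := by rw [h2]
        _ = k * m * k⁻¹ := by group
    rw [this]; exact h1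
  have hM1 : M ≠ ⊥ := by
    intro h0
    apply hQK
    intro q hq
    obtain ⟨n, hn, k, hk, rfl⟩ := hdecG q
    have hkQ : k ∈ Q := by
      have : k = n⁻¹ * (n * k) := by group
      rw [this]; exact Q.mul_mem (Q.inv_mem (hN₀Q hn)) hq
    have hkM : k ∈ M := ⟨hkQ, hk⟩
    rw [h0, Subgroup.mem_bot] at hkM
    rw [hkM, mul_one]; exact hn.1
  have hcM : c ∈ M := hcN M hMn hM1
  have hcb : c ∈ N₀ ⊓ H := ⟨hcN₀, hcM.2⟩
  rw [hH.disjoint.eq_bot, Subgroup.mem_bot] at hcb
  exact hc1 hcb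

end Cfsg.Agent.Lib.Helper4.TwoGen
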