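import Mathlib
import Cfsg.Agent.Lib.Helper4.TwoGenB
import Cfsg.Agent.H2.Layer
import Cfsg.Agent.H2.LocalLayer
import Cfsg.Agent.Lib.Helper7.SylowLib
import Cfsg.Agent.Lib.Helper7.SylowJoin

/-!
Part C: the layer.  A nontrivial abelian normal subgroup kills the layer; `F*(G)` lies in every
nontrivial normal subgroup.
-/

set_option autoImplicit false
open scoped commutatorElement

namespace Cfsg.Agent.Lib.Helper4.TwoGen

variable {G : Type*} [Group G] [Finite G] {p : ℕ} [Fact p.Prime] {P : Sylow p G}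

theorem layer_perfect : ⁅Cfsg.layer G, Cfsg.layer G⁆ = Cfsg.layer G := by
  have hn : (Cfsg.layer G).Normal := Cfsg.Agent.H2.layer_normal
  apply le_antisymm (Subgroup.commutator_le_left _ _)
  rw [Cfsg.Agent.H2.layer_le_iff]
  intro K hK
  rw [← Cfsg.Agent.H2.quasisimple_commutator_eq hK.2]
  exact Subgroup.commutator_mono (Cfsg.Agent.H2.component_le_layer hK)
    (Cfsg.Agent.H2.component_le_layer hK)

/-- A commutative subgroup is nilpotent. -/
theorem isNilpotent_of_comm (A : Subgroup G) (hAc : ∀ a ∈ A, ∀ b ∈ A, a * b = b * a) :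
    Group.IsNilpotent A := by
  apply Cfsg.Agent.H2.isNilpotent_of_commutator_eq_bot
  rw [Cfsg.Agent.H2.commutator_eq_bot_iff_forall_commute]
  exact hAc

theorem isSolvable_of_comm' (A : Subgroup G) (hAc : ∀ a ∈ A, ∀ b ∈ A, a * b = b * a) :
    Group.IsSolvable A :=
  isSolvable_of_comm (fun a b => Subtype.ext (hAc a a.2 b b.2))

/-- A commutative normal subgroup lies in `O_p(G) ≤ P`. -/
theorem comm_normal_le_pCore (h : Hyp P) (A : Subgroup G) [hA : A.Normal]
    (hAc : ∀ a ∈ A, ∀ b ∈ A, a * b = b * a) : A ≤ Cfsg.pCore p G := by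
  rw [← fitting_eq_pCore h]
  exact Cfsg.Agent.H1.le_fittingSubgroup hA (isNilpotent_of_comm A hAc)

/-- A nontrivial commutative normal subgroup forces `E(G) = 1`. -/
theorem layer_eq_bot_of_abelian (h : Hyp P) (A : Subgroup G) [hA : A.Normal] (hA1 : A ≠ ⊥)
    (hAc : ∀ a ∈ A, ∀ b ∈ A, a * b = b * a) : Cfsg.layer G = ⊥ := by
  by_contra hE
  have hp : p.Prime := Fact.out
  obtain ⟨c, hc1, hcΦ, hcN⟩ := exists_key h
  set E := Cfsg.layer G with hEdef
  have hEn : E.Normal := Cfsg.Agent.H2.layer_normal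
  have hAP : A ≤ (P : Subgroup G) :=
    (comm_normal_le_pCore h A hAc).trans (Cfsg.Agent.H1.pCore_le_sylow P)
  have hEA : ⁅E, A⁆ = ⊥ :=
    Cfsg.Agent.H2.layer_commutator_normal_solvable A (isSolvable_of_comm' A hAc)
  rw [Cfsg.Agent.H2.commutator_eq_bot_iff_forall_commute] at hEA
  have key : A ⊓ E ≤ Phi P := by
    intro z hz
    have hS : Cfsg.Agent.Lib.Helper7.IsSylowIn p ((P : Subgroup G) ⊓ E) E :=
      (Cfsg.Agent.Lib.Helper7.IsSylowIn.of_sylow_top P).inf_normal E le_top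
        (by rw [Subgroup.normalizer_eq_top_iff.mpr hEn])
    obtain ⟨R, hR⟩ := hS.exists_sylow
    have hzZ : (⟨z, hz.2⟩ : ↥E) ∈ Subgroup.center ↥E := by
      rw [Subgroup.mem_center_iff]
      intro g
      apply Subtype.ext
      exact hEA g g.2 z hz.1
    have hzR : (⟨z, hz.2⟩ : ↥E) ∈ (R : Subgroup ↥E) := by
      rw [hR]
      exact Subgroup.mem_subgroupOf.mpr ⟨hAP hz.1, hz.2⟩
    have hperf : Group.IsPerfect ↥E := (Subgroup.isPerfect_iff (H := E)).mpr layer_perfect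
    have hzRes : (⟨z, hz.2⟩ : ↥E) ∈ Cfsg.pResidual p ↥E := by
      rw [Cfsg.Agent.H2.pResidual_eq_top_of_isPerfect]; trivial
    have h0 := Cfsg.Agent.Lib.Helper7.center_inf_pResidual_le_commutator R hzZ hzR hzRes
    have h1 : z ∈ (⁅(R : Subgroup ↥E), (R : Subgroup ↥E)⁆).map E.subtype := ⟨⟨z, hz.2⟩, h0, rfl⟩
    rw [Subgroup.map_commutator, hR, Subgroup.subgroupOf_map_subtype] at h1
    have h2 : ⁅(P : Subgroup G) ⊓ E ⊓ E, (P : Subgroup G) ⊓ E ⊓ E⁆ ≤
        ⁅(P : Subgroup G), (P : Subgroup G)⁆ :=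
      Subgroup.commutator_mono (inf_le_left.trans inf_le_left) (inf_le_left.trans inf_le_left)
    have h3 := h2 h1
    rw [← Subgroup.map_subtype_commutator] at h3
    exact Subgroup.map_mono (Cfsg.Agent.H1.commutator_le_frattini P.isPGroup') h3
  have hn : (A ⊓ E).Normal := inferInstance
  have h4 : A ⊓ E ≤ (Phi P).normalCore := Subgroup.normal_le_normalCore.mpr key
  rw [h.hfrat] at h4
  have hcZ : c ∈ A ⊓ E := ⟨hcN A hA hA1, hcN E hEn hE⟩
  exact hc1 (Subgroup.mem_bot.mp (h4 hcZ))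

end Cfsg.Agent.Lib.Helper4.TwoGen
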