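import Mathlib
import Cfsg.Agent.Lib.Helper4.TwoGenC
import Cfsg.Agent.Lib.Lead.PiCore

/-!
Part D: `F*(G)` is the unique minimal normal subgroup; ambient Tate.
-/

set_option autoImplicit false
open scoped commutatorElement

namespace Cfsg.Agent.Lib.Helper4.TwoGen

variable {G : Type*} [Group G] [Finite G] {p : ℕ} [Fact p.Prime] {P : Sylow p G}

/-- Every component lies in every nontrivial normal subgroup. -/
theorem component_le (h : Hyp P) (K : Subgroup G) [hK : K.Normal] (hK1 : K ≠ ⊥) (L : Subgroup G)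
    (hL : Cfsg.IsComponent L) : L ≤ K := by
  rcases Cfsg.Agent.H2.component_le_or_commutator_eq_bot L K hL hK.isSubnormal with h1 | h1
  · exact h1
  · exfalso
    obtain ⟨c, hc1, hcΦ, hcN⟩ := exists_key h
    set C := Subgroup.centralizer (K : Set G) with hC
    have hCn : C.Normal := inferInstance
    have hLC : L ≤ C := Subgroup.commutator_eq_bot_iff_le_centralizer.mp h1
    have hL1 : L ≠ ⊥ := Cfsg.Agent.H2.quasisimple_ne_bot hL.2
    have hC1 : C ≠ ⊥ := by
      intro h0; rw [h0, le_bot_iff] at hLC; exact hL1 hLC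
    have hAn : (K ⊓ C).Normal := inferInstance
    have hcA : c ∈ K ⊓ C := ⟨hcN K hK hK1, hcN C hCn hC1⟩
    have hA1 : K ⊓ C ≠ ⊥ := by
      intro h0; rw [h0, Subgroup.mem_bot] at hcA; exact hc1 hcA
    have hAc : ∀ a ∈ K ⊓ C, ∀ b ∈ K ⊓ C, a * b = b * a := by
      intro a ha b hb
      exact (Subgroup.mem_centralizer_iff.mp hb.2 a ha.1)
    have hE := layer_eq_bot_of_abelian h (K ⊓ C) hA1 hAc
    have := Cfsg.Agent.H2.component_le_layer hL
    rw [hE, le_bot_iff] at this
    exact hL1 this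

/-- `F*(G)` lies in every nontrivial normal subgroup. -/
theorem fstar_le (h : Hyp P) (K : Subgroup G) [hK : K.Normal] (hK1 : K ≠ ⊥) :
    Cfsg.generalizedFittingSubgroup G ≤ K := by
  unfold Cfsg.generalizedFittingSubgroup
  apply sup_le
  · exact Cfsg.Agent.H2.layer_le_iff.2 (fun L hL => component_le h K hK1 L hL)
  · rw [fitting_eq_pCore h]
    exact pCore_le h K hK1

theorem fstar_ne_bot (h : Hyp P) : Cfsg.generalizedFittingSubgroup G ≠ ⊥ := by
  intro h0
  obtain ⟨c, hc1, -, -⟩ := exists_key h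
  have h1 := Cfsg.Agent.H2.centralizer_generalizedFittingSubgroup_le (G := G)
  rw [h0] at h1
  have hc : c ∈ Subgroup.centralizer ((⊥ : Subgroup G) : Set G) := by
    rw [Subgroup.mem_centralizer_iff]
    intro x hx
    have hx1 : x = 1 := Subgroup.mem_bot.mp hx
    rw [hx1, one_mul, mul_one]
  exact hc1 (Subgroup.mem_bot.mp (h1 hc))

/-- If `F*(G)` is not commutative there is no nontrivial commutative normal subgroup. -/
theorem no_abelian_normal (h : Hyp P)
    (hF : ¬ IsMulCommutative (Cfsg.generalizedFittingSubgroup G)) (A : Subgroup G) [hA : A.Normal]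
    (hAc : ∀ a ∈ A, ∀ b ∈ A, a * b = b * a) : A = ⊥ := by
  by_contra hA1
  apply hF
  have hE := layer_eq_bot_of_abelian h A hA1 hAc
  have hFs : Cfsg.generalizedFittingSubgroup G = Cfsg.pCore p G := by
    unfold Cfsg.generalizedFittingSubgroup
    rw [hE, bot_sup_eq, fitting_eq_pCore h]
  rw [hFs]
  exact ⟨⟨fun a b => Subtype.ext (pCore_comm h a.2 b.2)⟩⟩

/-- Tate's theorem for a subgroup `A` normalized by a subgroup `H₀` containing `P`. -/
theorem tate_amb (P : Sylow p G) (H₀ A : Subgroup G) (hPH : (P : Subgroup G) ≤ H₀) (hAH : A ≤ H₀)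
    (hn : H₀ ≤ Subgroup.normalizer (A : Set G)) (hle : A ⊓ (P : Subgroup G) ≤ Phi P) :
    Cfsg.Agent.Lib.Helper4.PNil.PNil p A := by
  have hAn : (A.subgroupOf H₀).Normal := (Subgroup.normal_subgroupOf_iff_le_normalizer hAH).mpr hn
  have key : A.subgroupOf H₀ ⊓ ((P.subtype hPH : Sylow p ↥H₀) : Subgroup ↥H₀) ≤
      (frattini ↥((P.subtype hPH : Sylow p ↥H₀) : Subgroup ↥H₀)).map
        ((P.subtype hPH : Sylow p ↥H₀) : Subgroup ↥H₀).subtype := by
    intro y hy
    have hyA : (y : G) ∈ A := Subgroup.mem_subgroupOf.mp hy.1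
    have hyP : (y : G) ∈ (P : Subgroup G) := Subgroup.mem_subgroupOf.mp hy.2
    obtain ⟨u, hu, huy⟩ := hle ⟨hyA, hyP⟩
    let e : ↥((P : Subgroup G).subgroupOf H₀) ≃* ↥(P : Subgroup G) :=
      Subgroup.subgroupOfEquivOfLe hPH
    have h1 := frattini_le_comap_frattini_of_surjective (φ := e.symm.toMonoidHom) e.symm.surjective hu
    refine ⟨e.symm u, h1, ?_⟩
    apply Subtype.ext
    have : ((e.symm u : ↥((P : Subgroup G).subgroupOf H₀)) : ↥H₀) = ⟨(u : G), hPH u.2⟩ := by
      apply Subtype.ext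
      exact Subgroup.subgroupOfEquivOfLe_symm_apply_coe_coe hPH u
    show (((e.symm u : ↥((P : Subgroup G).subgroupOf H₀)) : ↥H₀) : G) = (y : G)
    rw [this]
    exact huy
  have := Cfsg.Agent.Lib.Helper7.Tate.tate_pnil (P.subtype hPH) _ (A.subgroupOf H₀) hAn rfl key
  exact (Cfsg.Agent.Lib.Helper4.PNil.pnil_subgroupOf_iff hAH).mp this

end Cfsg.Agent.Lib.Helper4.TwoGen
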