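import Mathlib
import Cfsg.Agent.Lib.Helper4.TwoGenD
import Cfsg.Agent.H2.ConjMap

/-!
Part E: `P` permutes the components transitively when `F*(G)` is not commutative.
-/

set_option autoImplicit false
open scoped commutatorElement

namespace Cfsg.Agent.Lib.Helper4.TwoGen

variable {G : Type*} [Group G] [Finite G] {p : ℕ} [Fact p.Prime] {P : Sylow p G}

/-- A subgroup containing a component is not `p`-nilpotent. -/
theorem not_pnil_of_component (h : Hyp P) (A K : Subgroup G) (hK : Cfsg.IsComponent K)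
    (hKA : K ≤ A) : ¬ Cfsg.Agent.Lib.Helper4.PNil.PNil p A := by
  have hp : p.Prime := Fact.out
  rintro ⟨M, hMA, hn, hc, k, hk⟩
  have hKM : K ≤ M := by
    intro g hg
    have hperf : Group.IsPerfect ↥K := hK.2.1
    have hres : (⟨g, hg⟩ : ↥K) ∈ Cfsg.pResidual p ↥K := by
      rw [Cfsg.Agent.H2.pResidual_eq_top_of_isPerfect]; trivial
    unfold Cfsg.pResidual at hres
    have key : ∀ y : ↥K, y ∈ Subgroup.closure {g : ↥K | Nat.Coprime (orderOf g) p} →
        (y : G) ∈ M := by
      intro y hy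
      induction hy using Subgroup.closure_induction with
      | mem x hx =>
        refine Cfsg.Agent.Lib.Helper4.PNil.mem_of_coprime hMA hn hk (hKA x.2) ?_
        rw [Subgroup.orderOf_coe]; exact hx
      | one => exact M.one_mem
      | mul x y _ _ hx hy => exact M.mul_mem hx hy
      | inv x _ hx => exact M.inv_mem hx
    exact key _ hres
  have hcK : (Nat.card K).Coprime p :=
    Nat.Coprime.coprime_dvd_left (Subgroup.card_dvd_of_le hKM) hc
  have := Cfsg.Agent.Lib.Lead.PiCore.subnormal_le_pPrimeCore hp hK.1 hcK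
  rw [h.hcore, le_bot_iff] at this
  exact Cfsg.Agent.H2.quasisimple_ne_bot hK.2 this

/-- A subgroup normalizes a supremum whose members it permutes. -/
theorem le_normalizer_iSup {ι : Sort*} (T : Subgroup G) (H : ι → Subgroup G)
    (hperm : ∀ g ∈ T, ∀ i, ∃ j, (H i).map (MulAut.conj g).toMonoidHom = H j) :
    T ≤ Subgroup.normalizer ((⨆ i, H i : Subgroup G) : Set G) := by
  have hle : ∀ g ∈ T, (⨆ i, H i : Subgroup G).map (MulAut.conj g).toMonoidHom ≤ ⨆ i, H i := by
    intro g hg
    rw [Subgroup.map_iSup]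
    apply iSup_le
    intro i
    obtain ⟨j, hj⟩ := hperm g hg i
    rw [hj]
    exact le_iSup H j
  intro g hg
  rw [← Cfsg.Agent.H2.map_conj_eq_self_iff_mem_normalizer]
  exact Cfsg.Agent.H2.map_conj_eq_of_le _ g (hle g hg)

variable (P) in
/-- The subgroup generated by the `P`-conjugates of `K`. -/
def orb (K : Subgroup G) : Subgroup G :=
  ⨆ x : ↥(P : Subgroup G), K.map (MulAut.conj (x : G)).toMonoidHom

theorem le_orb (K : Subgroup G) : K ≤ orb P K := by
  have h1 := le_iSup (fun x : ↥(P : Subgroup G) => K.map (MulAut.conj (x : G)).toMonoidHom) 1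
  have h2 : K.map (MulAut.conj ((1 : ↥(P : Subgroup G)) : G)).toMonoidHom = K := by
    rw [Subgroup.coe_one]; exact Cfsg.Agent.H2.map_conj_one K
  rw [h2] at h1
  exact h1

theorem orb_le_layer (K : Subgroup G) (hK : Cfsg.IsComponent K) : orb P K ≤ Cfsg.layer G := by
  apply iSup_le
  intro x
  exact Cfsg.Agent.H2.component_le_layer (Cfsg.Agent.H2.component_conj hK x)

theorem sylow_le_normalizer_orb (K : Subgroup G) :
    (P : Subgroup G) ≤ Subgroup.normalizer ((orb P K : Subgroup G) : Set G) := by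
  apply le_normalizer_iSup
  intro g hg x
  refine ⟨⟨g * x, (P : Subgroup G).mul_mem hg x.2⟩, ?_⟩
  exact (Cfsg.Agent.H2.map_conj_mul K g x).symm

theorem layer_le_normalizer_orb (K : Subgroup G) (hK : Cfsg.IsComponent K) :
    Cfsg.layer G ≤ Subgroup.normalizer ((orb P K : Subgroup G) : Set G) := by
  apply le_normalizer_iSup
  intro g hg x
  refine ⟨x, ?_⟩
  rw [Cfsg.Agent.H2.map_conj_eq_self_iff_mem_normalizer]
  exact Cfsg.Agent.H2.layer_le_normalizer_of_isSubnormal
    (Cfsg.Agent.H2.component_conj hK x).1 hg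

theorem orb_comm (K L : Subgroup G) (hK : Cfsg.IsComponent K) (hL : Cfsg.IsComponent L)
    (hne : ∀ x ∈ (P : Subgroup G), L ≠ K.map (MulAut.conj x).toMonoidHom) :
    orb P L ≤ Subgroup.centralizer ((orb P K : Subgroup G) : Set G) := by
  apply iSup_le
  intro y
  rw [Subgroup.le_centralizer_iff]
  apply iSup_le
  intro x
  rw [← Subgroup.commutator_eq_bot_iff_le_centralizer]
  apply Cfsg.Agent.H2.components_commute (Cfsg.Agent.H2.component_conj hK x)
    (Cfsg.Agent.H2.component_conj hL y)
  intro heq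
  -- K^x = L^y, so L = K^(y⁻¹ x)
  apply hne ((y : G)⁻¹ * x) ((P : Subgroup G).mul_mem ((P : Subgroup G).inv_mem y.2) x.2)
  rw [Cfsg.Agent.H2.map_conj_mul, heq, ← Cfsg.Agent.H2.map_conj_mul, inv_mul_cancel,
    Cfsg.Agent.H2.map_conj_one]

theorem exists_noncomm (h : Hyp P) :
    ∃ a ∈ (P : Subgroup G), ∃ b ∈ (P : Subgroup G), ⁅a, b⁆ ≠ 1 := by
  have hex : ∃ a b : ↥(P : Subgroup G), a * b ≠ b * a := by
    by_contra hcon
    push Not at hcon
    exact h.hna ⟨⟨hcon⟩⟩
  obtain ⟨a, b, hab⟩ := hex
  refine ⟨(a : G), a.2, (b : G), b.2, ?_⟩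
  intro hc
  rw [commutatorElement_eq_one_iff_commute] at hc
  apply hab
  apply Subtype.ext
  simpa using hc.eq

/-- `P` is transitive on the components when `F*(G)` is not commutative. -/
theorem exists_conj (h : Hyp P)
    (hF : ¬ IsMulCommutative (Cfsg.generalizedFittingSubgroup G)) (K L : Subgroup G)
    (hK : Cfsg.IsComponent K) (hL : Cfsg.IsComponent L) :
    ∃ x ∈ (P : Subgroup G), L = K.map (MulAut.conj x).toMonoidHom := by
  by_contra hcon
  push Not at hcon
  obtain ⟨a, ha, b, hb, hab⟩ := exists_noncomm h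
  set c := ⁅a, b⁆ with hc
  set E := Cfsg.layer G with hE
  have hEn : E.Normal := Cfsg.Agent.H2.layer_normal
  have hPH : (P : Subgroup G) ≤ E ⊔ (P : Subgroup G) := le_sup_right
  have hnot : ∀ K' : Subgroup G, Cfsg.IsComponent K' →
      ¬ orb P K' ⊓ (P : Subgroup G) ≤ Phi P := by
    intro K' hK' hle
    exact not_pnil_of_component h (orb P K') K' hK' (le_orb K')
      (tate_amb P (E ⊔ (P : Subgroup G)) (orb P K') hPH
        ((orb_le_layer K' hK').trans le_sup_left)
        (sup_le (layer_le_normalizer_orb K' hK') (sylow_le_normalizer_orb K')) hle)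
  have hcA : c ∈ orb P K :=
    comm_mem_of_normalized h _ (sylow_le_normalizer_orb K) (hnot K hK) ha hb
  have hcB : c ∈ orb P L :=
    comm_mem_of_normalized h _ (sylow_le_normalizer_orb L) (hnot L hL) ha hb
  have hcent := orb_comm K L hK hL hcon
  have hcomp : ∀ K' : Subgroup G, Cfsg.IsComponent K' → ∀ k ∈ K', k * c = c * k := by
    intro K' hK' k hk
    by_cases hx : ∃ x ∈ (P : Subgroup G), K' = K.map (MulAut.conj x).toMonoidHom
    · obtain ⟨x, hx, rfl⟩ := hx
      have hkA : k ∈ orb P K :=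
        le_iSup (fun y : ↥(P : Subgroup G) => K.map (MulAut.conj (y : G)).toMonoidHom) ⟨x, hx⟩ hk
      exact Subgroup.mem_centralizer_iff.mp (hcent hcB) k hkA
    · push Not at hx
      have h1 := orb_comm K K' hK hK' hx
      have hk' := h1 (le_orb K' hk)
      exact (Subgroup.mem_centralizer_iff.mp hk' c hcA).symm
  have hEc : ∀ e ∈ E, e * c = c * e := by
    have : E ≤ Subgroup.centralizer ({c} : Set G) := by
      apply Cfsg.Agent.H2.layer_le_iff.2
      intro K' hK' k hk
      rw [Subgroup.mem_centralizer_iff]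
      intro x hx
      rw [Set.mem_singleton_iff] at hx
      rw [hx]
      exact (hcomp K' hK' k hk).symm
    intro e he
    have := Subgroup.mem_centralizer_iff.mp (this he) c (Set.mem_singleton c)
    exact this.symm
  have hZn : (E ⊓ Subgroup.centralizer (E : Set G)).Normal := inferInstance
  have hZc : ∀ u ∈ E ⊓ Subgroup.centralizer (E : Set G),
      ∀ v ∈ E ⊓ Subgroup.centralizer (E : Set G), u * v = v * u := by
    intro u hu v hv
    exact Subgroup.mem_centralizer_iff.mp hv.2 u hu.1
  have hZ := no_abelian_normal h hF (E ⊓ Subgroup.centralizer (E : Set G)) hZc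
  have hcZ : c ∈ E ⊓ Subgroup.centralizer (E : Set G) := by
    have h2 : c ∈ Subgroup.centralizer (E : Set G) := by
      rw [Subgroup.mem_centralizer_iff]
      exact hEc
    exact ⟨orb_le_layer K hK hcA, h2⟩
  rw [hZ, Subgroup.mem_bot] at hcZ
  exact hab hcZ

end Cfsg.Agent.Lib.Helper4.TwoGen
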