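import Mathlib

set_option autoImplicit false
set_option linter.unusedSectionVars false
set_option linter.style.haveILetI false

/-!
# Normal subgroups of doubly transitive groups: the line geometry of a minimal block
-/

namespace Cfsg.Agent.Lib.Helper4.TwoTransMin

open MulAction
open scoped Pointwise

variable {G : Type*} [Group G] {α : Type*} [MulAction G α]

/-- a translate of a block of a normal subgroup is a block -/
theorem isBlock_smul_of_normal (N : Subgroup G) [hN : N.Normal] {B : Set α}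
    (hB : IsBlock N B) (g : G) : IsBlock N (g • B) := by
  rw [isBlock_iff_smul_eq_or_disjoint] at hB ⊢
  intro n
  have hn : g⁻¹ * (n : G) * g ∈ N := by
    have := hN.conj_mem n n.2 g⁻¹
    simpa using this
  have key : n • (g • B) = g • ((⟨g⁻¹ * n * g, hn⟩ : N) • B) := by
    show (n : G) • (g • B) = g • ((g⁻¹ * (n : G) * g) • B)
    rw [smul_smul, smul_smul]
    congr 1
    group
  rw [key]
  rcases hB ⟨g⁻¹ * n * g, hn⟩ with h | h
  · left; rw [h]
  · right
    exact Set.disjoint_image_of_injective (MulAction.injective g) h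

/-- In a doubly transitive group, an element of a normal subgroup `N` which fixes two points is
trivial, as soon as `N` has a non-trivial block. -/
theorem eq_one_of_fixes_two [Finite α] [FaithfulSMul G α] (N : Subgroup G) [N.Normal]
    (h2 : IsMultiplyPretransitive G α 2)
    (B : Set α) (hB : IsBlock N B) (hBns : ¬ B.Subsingleton) (hBu : B ≠ Set.univ)
    (hmin : ∀ B' : Set α, IsBlock N B' → ¬ B'.Subsingleton → B.ncard ≤ B'.ncard)
    (n : G) (hn : n ∈ N) (x y : α) (hxy : x ≠ y) (hx : n • x = x) (hy : n • y = y) : n = 1 := by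
  have hcard : ∀ g : G, (g • B).ncard = B.ncard := fun g => Set.ncard_smul_set g B
  have line_eq : ∀ g₁ g₂ : G, ∀ u v : α, u ≠ v → u ∈ g₁ • B → v ∈ g₁ • B → u ∈ g₂ • B →
      v ∈ g₂ • B → g₁ • B = g₂ • B := by
    intro g₁ g₂ u v huv hu1 hv1 hu2 hv2
    have hI : IsBlock N (g₁ • B ∩ g₂ • B) :=
      (isBlock_smul_of_normal N hB g₁).inter (isBlock_smul_of_normal N hB g₂)
    have hIns : ¬ (g₁ • B ∩ g₂ • B).Subsingleton := by
      intro h
      exact huv (h ⟨hu1, hu2⟩ ⟨hv1, hv2⟩)
    have hle := hmin _ hI hIns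
    have e1 : g₁ • B ∩ g₂ • B = g₁ • B :=
      Set.eq_of_subset_of_ncard_le Set.inter_subset_left (by rw [hcard]; exact hle)
        (Set.toFinite _)
    have e2 : g₁ • B ∩ g₂ • B = g₂ • B :=
      Set.eq_of_subset_of_ncard_le Set.inter_subset_right (by rw [hcard]; exact hle)
        (Set.toFinite _)
    rw [← e1, e2]
  have line_ex : ∀ u v : α, u ≠ v → ∃ g : G, u ∈ g • B ∧ v ∈ g • B := by
    intro u v huv
    rw [Set.not_subsingleton_iff] at hBns
    obtain ⟨b₁, hb₁, b₂, hb₂, hb⟩ := hBns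
    obtain ⟨g, hg1, hg2⟩ := (is_two_pretransitive_iff.mp h2) hb huv
    exact ⟨g, hg1 ▸ Set.smul_mem_smul_set hb₁, hg2 ▸ Set.smul_mem_smul_set hb₂⟩
  have line_fix : ∀ m ∈ N, ∀ u : α, m • u = u → ∀ g : G, u ∈ g • B → ∀ v ∈ g • B,
      m • v ∈ g • B := by
    intro m hm u hmu g hu v hv
    have hblk := isBlock_smul_of_normal N hB g
    have h1 : (⟨m, hm⟩ : N) • (g • B) = g • B :=
      hblk.smul_eq_of_mem (g := ⟨m, hm⟩) (a := u) hu (by
        show m • u ∈ g • B
        rw [hmu]; exact hu)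
    rw [← h1]
    exact Set.smul_mem_smul_set (a := (⟨m, hm⟩ : N)) hv
  have key : ∀ m ∈ N, ∀ u v : α, u ≠ v → m • u = u → m • v = v → ∀ g : G, u ∈ g • B →
      v ∈ g • B → ∀ c : α, c ∉ g • B → m • c = c := by
    intro m hm u v huv hmu hmv g hu hv c hc
    by_contra hmc
    have huc : u ≠ c := fun h => hc (h ▸ hu)
    have hvc : v ≠ c := fun h => hc (h ▸ hv)
    obtain ⟨g₁, hu1, hc1⟩ := line_ex u c huc
    obtain ⟨g₂, hv2, hc2⟩ := line_ex v c hvc
    have hmc1 := line_fix m hm u hmu g₁ hu1 c hc1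
    have hmc2 := line_fix m hm v hmv g₂ hv2 c hc2
    have e12 := line_eq g₁ g₂ (m • c) c hmc hmc1 hc1 hmc2 hc2
    have hv1 : v ∈ g₁ • B := by rw [e12]; exact hv2
    have e1 := line_eq g₁ g u v huv hu1 hv1 hu hv
    exact hc (e1 ▸ hc1)
  obtain ⟨g, hxg, hyg⟩ := line_ex x y hxy
  have hgu : g • B ≠ Set.univ := by
    intro h
    apply hBu
    have := congrArg (fun S => g⁻¹ • S) h
    simpa using this
  obtain ⟨c₀, hc₀⟩ := (Set.ne_univ_iff_exists_notMem _).mp hgu
  have hnc₀ := key n hn x y hxy hx hy g hxg hyg c₀ hc₀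
  have hxc : x ≠ c₀ := fun h => hc₀ (h ▸ hxg)
  obtain ⟨g', hxg', hcg'⟩ := line_ex x c₀ hxc
  have hall : ∀ z : α, n • z = z := by
    intro z
    by_cases hz : z ∈ g • B
    · by_cases hzx : z = x
      · rw [hzx]; exact hx
      · apply key n hn x c₀ hxc hx hnc₀ g' hxg' hcg' z
        intro hz'
        have e := line_eq g' g x z (Ne.symm hzx) hxg' hz' hxg hz
        exact hc₀ (e ▸ hcg')
    · exact key n hn x y hxy hx hy g hxg hyg z hz
  apply FaithfulSMul.eq_of_smul_eq_smul (α := α)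
  intro z
  rw [hall z, one_smul]

end Cfsg.Agent.Lib.Helper4.TwoTransMin
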