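import Cfsg.Agent.Lib.Helper4.TwoTransA
import Cfsg.Agent.Lib.Helper4.FrobThm

set_option autoImplicit false
set_option linter.unusedSectionVars false
set_option linter.style.haveILetI false

/-!
# A non-regular minimal normal subgroup of a doubly transitive group is primitive
-/

namespace Cfsg.Agent.Lib.Helper4.TwoTransMin

open MulAction Cfsg
open scoped Pointwise

/-- the Frobenius kernel of a transitive action in which only the identity fixes two points -/
theorem frobenius_kernel {N : Type*} [Group N] [Finite N] {α : Type*} [MulAction N α]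
    [IsPretransitive N α] (a : α) (hne : stabilizer N a ≠ ⊥) (htop : stabilizer N a ≠ ⊤)
    (hfrob : ∀ x y : α, x ≠ y → ∀ n : N, n • x = x → n • y = y → n = 1) :
    ∃ K : Subgroup N, K.Normal ∧ K ≠ ⊥ ∧ K ≠ ⊤ ∧
      ∀ n : N, n ∈ K ↔ (n = 1 ∨ ∀ x : α, n • x ≠ x) := by
  have hH : IsFrobeniusComplement (stabilizer N a) := by
    refine ⟨hne, htop, ?_⟩
    intro g hg
    rw [eq_bot_iff]
    intro n hn
    rw [Subgroup.mem_inf] at hn
    obtain ⟨hn1, hn2⟩ := hn
    rw [Subgroup.mem_bot]
    rw [Cfsg.Agent.H1.mem_conj_smul_iff', mem_stabilizer_iff] at hn2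
    rw [mem_stabilizer_iff] at hn1
    have hga : g • a ≠ a := fun h => hg (mem_stabilizer_iff.mpr h)
    apply hfrob (g • a) a hga n _ hn1
    have e : n • g • a = g • ((g⁻¹ * n * g) • a) := by
      rw [smul_smul, smul_smul]
      congr 1
      group
    rw [e, hn2]
  obtain ⟨K, hKset, hKn, hKc⟩ :=
    Cfsg.Agent.Lib.Helper4.FrobThm.frobenius_theorem (stabilizer N a) hH
  refine ⟨K, hKn, ?_, ?_, ?_⟩
  · intro h
    rw [h, Subgroup.isComplement'_bot_left] at hKc
    exact htop hKc
  · intro h
    rw [h, Subgroup.isComplement'_top_left] at hKc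
    exact hne hKc
  · intro n
    have h1 : n ∈ K ↔ n ∈ frobeniusKernel (stabilizer N a) := by
      rw [← hKset]; rfl
    rw [h1]
    unfold frobeniusKernel
    rw [Set.mem_ofPred_eq]
    apply or_congr Iff.rfl
    constructor
    · intro h x hx
      obtain ⟨g, rfl⟩ := exists_smul_eq N a x
      apply h g
      rw [Cfsg.Agent.H1.mem_conj_smul_iff', mem_stabilizer_iff]
      have e : (g⁻¹ * n * g) • a = g⁻¹ • (n • g • a) := by
        rw [smul_smul, smul_smul, mul_assoc]
      rw [e, hx, inv_smul_smul]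
    · intro h g hg
      rw [Cfsg.Agent.H1.mem_conj_smul_iff', mem_stabilizer_iff] at hg
      apply h (g • a)
      have e : n • g • a = g • ((g⁻¹ * n * g) • a) := by
        rw [smul_smul, smul_smul]
        congr 1
        group
      rw [e, hg]

variable {G : Type*} [Group G] {α : Type*} [MulAction G α]

/-- a non-trivial normal subgroup of a doubly transitive faithful group is transitive -/
theorem isPretransitive_of_normal [FaithfulSMul G α] (N : Subgroup G) [N.Normal]
    (h2 : IsMultiplyPretransitive G α 2) (hN : N ≠ ⊥) : IsPretransitive N α := by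
  haveI : IsPreprimitive G α := isPreprimitive_of_is_two_pretransitive h2
  apply IsQuasiPreprimitive.isPretransitive_of_normal (G := G) (X := α) (N := N)
  intro h
  apply hN
  rw [eq_bot_iff]
  intro n hn
  rw [Subgroup.mem_bot]
  apply FaithfulSMul.eq_of_smul_eq_smul (α := α)
  intro x
  have hx : x ∈ fixedPoints N α := by rw [h]; exact Set.mem_univ x
  rw [one_smul]
  exact hx ⟨n, hn⟩

theorem isPreprimitive_of_minimal [Finite G] [Finite α] [FaithfulSMul G α] (N : Subgroup G)
    [hNn : N.Normal] (h2 : IsMultiplyPretransitive G α 2) (hN : N ≠ ⊥)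
    (hmin : ∀ M : Subgroup G, M.Normal → M ≤ N → M = ⊥ ∨ M = N) (a : α)
    (ha : stabilizer N a ≠ ⊥) : IsPreprimitive N α := by
  haveI := isPretransitive_of_normal N h2 hN
  by_contra hnp
  have hex : ∃ B : Set α, IsBlock N B ∧ ¬ IsTrivialBlock B := by
    by_contra h
    push Not at h
    exact hnp { isTrivialBlock_of_isBlock := fun {B} hB => h B hB }
  obtain ⟨B₁, hB₁, hB₁t⟩ := hex
  unfold IsTrivialBlock at hB₁t
  rw [not_or] at hB₁t
  -- a minimal non-trivial block
  obtain ⟨B, hBS, hBmin⟩ := Set.exists_min_image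
    {B : Set α | IsBlock N B ∧ ¬ B.Subsingleton} Set.ncard (Set.toFinite _) ⟨B₁, hB₁, hB₁t.1⟩
  obtain ⟨hB, hBns⟩ := hBS
  have hBu : B ≠ Set.univ := by
    intro h
    apply hB₁t.2
    have h1 := hBmin B₁ ⟨hB₁, hB₁t.1⟩
    rw [h] at h1
    exact Set.eq_of_subset_of_ncard_le (Set.subset_univ _) h1 (Set.toFinite _)
  have hfrob : ∀ x y : α, x ≠ y → ∀ n : N, n • x = x → n • y = y → n = 1 := by
    intro x y hxy n hx hy
    have := eq_one_of_fixes_two N h2 B hB hBns hBu (fun B' hB' hB'ns => hBmin B' ⟨hB', hB'ns⟩)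
      (n : G) n.2 x y hxy hx hy
    exact Subtype.ext this
  have htop : stabilizer N a ≠ ⊤ := by
    intro h
    apply hBns
    intro x _ y _
    have hxa : ∀ z : α, z = a := by
      intro z
      obtain ⟨n, rfl⟩ := exists_smul_eq N a z
      have : n ∈ stabilizer N a := by rw [h]; exact Subgroup.mem_top n
      exact mem_stabilizer_iff.mp this
    rw [hxa x, hxa y]
  obtain ⟨K, hKn, hKb, hKt, hK⟩ := frobenius_kernel (N := N) a ha htop hfrob
  have hMn : (K.map N.subtype).Normal := by
    constructor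
    rintro _ ⟨k, hk, rfl⟩ g
    have hk' : g * (k : G) * g⁻¹ ∈ N := hNn.conj_mem k k.2 g
    refine ⟨⟨g * (k : G) * g⁻¹, hk'⟩, ?_, rfl⟩
    rw [SetLike.mem_coe, hK] at hk ⊢
    rcases hk with hk | hk
    · left
      apply Subtype.ext
      show g * (k : G) * g⁻¹ = 1
      rw [hk]
      simp
    · right
      intro x hx
      apply hk (g⁻¹ • x)
      have hx' : (g * (k : G) * g⁻¹) • x = x := hx
      show (k : G) • g⁻¹ • x = g⁻¹ • x
      have e : (k : G) • g⁻¹ • x = g⁻¹ • ((g * (k : G) * g⁻¹) • x) := by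
        rw [smul_smul, smul_smul]
        congr 1
        group
      rw [e, hx']
  have hMle : K.map N.subtype ≤ N := by
    rintro _ ⟨k, _, rfl⟩
    exact k.2
  rcases hmin _ hMn hMle with h | h
  · apply hKb
    rw [eq_bot_iff]
    intro k hk
    have : (k : G) ∈ K.map N.subtype := ⟨k, hk, rfl⟩
    rw [h, Subgroup.mem_bot] at this
    rw [Subgroup.mem_bot]
    exact Subtype.ext this
  · apply hKt
    rw [eq_top_iff]
    intro n _
    have : (n : G) ∈ K.map N.subtype := by rw [h]; exact n.2
    obtain ⟨k, hk, hkn⟩ := this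
    have : k = n := Subtype.ext hkn
    rw [← this]
    exact hk

end Cfsg.Agent.Lib.Helper4.TwoTransMin
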