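import Mathlib

/-!
# S4349, direction (⇒): a 2-element of `Perm α` lying in a unique Sylow 2-subgroup has at most two
fixed points and pairwise different cycle lengths.
-/

set_option autoImplicit false

namespace Cfsg.Agent.Lib.Helper4.UniqSyl

open Equiv Equiv.Perm

variable {α : Type*} [Fintype α] [DecidableEq α]

theorem apply_inv_aux (π : Perm α) (z : α) : π (π⁻¹ z) = z := Equiv.apply_symm_apply π z

/-- If `x` lies in the unique Sylow 2-subgroup `P`, every 2-subgroup normalized by `x` is in `P`. -/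
theorem le_of_normalized (x : Perm α) (P : Sylow 2 (Perm α)) (hxP : x ∈ P)
    (huniq : ∀ P' : Sylow 2 (Perm α), x ∈ P' → P' = P)
    (Q : Subgroup (Perm α)) (hQ : IsPGroup 2 Q) (hn : x ∈ Subgroup.normalizer (Q : Set (Perm α))) : Q ≤ P := by
  have hz : IsPGroup 2 (Subgroup.zpowers x) :=
    P.isPGroup'.to_le (by rw [Subgroup.zpowers_le]; exact hxP)
  have h2 : IsPGroup 2 (Subgroup.zpowers x ⊔ Q : Subgroup (Perm α)) :=
    hz.to_sup_of_normal_right' hQ (by rw [Subgroup.zpowers_le]; exact hn)
  obtain ⟨P', hP'⟩ := h2.exists_le_sylow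
  have hP'P : P' = P := huniq P' (hP' (le_sup_left (a := Subgroup.zpowers x) (b := Q)
    (Subgroup.mem_zpowers x)))
  rw [← hP'P]
  exact le_sup_right.trans hP'

/-- A 2-element commuting with `x` lies in `P`. -/
theorem mem_of_commute (x : Perm α) (P : Sylow 2 (Perm α)) (hxP : x ∈ P)
    (huniq : ∀ P' : Sylow 2 (Perm α), x ∈ P' → P' = P)
    (y : Perm α) (hc : Commute x y) (j : ℕ) (hy : y ^ (2 ^ j) = 1) : y ∈ P := by
  have hQ : IsPGroup 2 (Subgroup.zpowers y) := by
    rintro ⟨g, hg⟩
    obtain ⟨m, rfl⟩ := Subgroup.mem_zpowers_iff.1 hg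
    refine ⟨j, ?_⟩
    apply Subtype.ext
    simp only [Subgroup.coe_pow, Subgroup.coe_one]
    rw [← zpow_natCast, ← zpow_mul, mul_comm, zpow_mul, zpow_natCast, hy, one_zpow]
  have hn : x ∈ Subgroup.normalizer ((Subgroup.zpowers y : Subgroup (Perm α)) : Set (Perm α)) := by
    rw [Subgroup.mem_normalizer_iff]
    intro h
    have hcomm : ∀ h ∈ Subgroup.zpowers y, x * h * x⁻¹ = h := by
      intro h hh
      obtain ⟨m, rfl⟩ := Subgroup.mem_zpowers_iff.1 hh
      have := (hc.zpow_right m).eq
      rw [this, mul_inv_cancel_right]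
    constructor
    · intro hh
      rw [hcomm h hh]; exact hh
    · intro hh
      have h1 : x⁻¹ * (x * h * x⁻¹) * x = h := by group
      have hc' : Commute x⁻¹ (x * h * x⁻¹) := by
        have := hcomm _ hh
        -- x * (x h x⁻¹) * x⁻¹ = x h x⁻¹ so they commute
        have h3 : Commute x (x * h * x⁻¹) := by
          unfold Commute SemiconjBy
          calc x * (x * h * x⁻¹) = (x * (x * h * x⁻¹) * x⁻¹) * x := by group
            _ = (x * h * x⁻¹) * x := by rw [this]
        exact h3.inv_left
      have h4 : x * h * x⁻¹ = h := by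
        have := hc'.eq
        calc x * h * x⁻¹ = (x * h * x⁻¹) * x⁻¹ * x := by group
          _ = x⁻¹ * (x * h * x⁻¹) * x := by rw [← this]
          _ = h := h1
      rw [← h4]; exact hh
  exact le_of_normalized x P hxP huniq _ hQ hn (Subgroup.mem_zpowers y)

/-- The group of permutations moving every point `z` to `z` or `k z`, for an involution `k`. -/
def flipSub (k : Perm α) (hk : k * k = 1) : Subgroup (Perm α) where
  carrier := {π | ∀ z, π z = z ∨ π z = k z}
  one_mem' := fun z => Or.inl rfl
  mul_mem' := by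
    intro π π' h h' z
    have hkk : ∀ y, k (k y) = y := fun y => by rw [← Perm.mul_apply, hk]; rfl
    rw [Perm.mul_apply]
    rcases h' z with e | e
    · rw [e]; exact h z
    · rw [e]
      rcases h (k z) with e2 | e2
      · exact Or.inr e2
      · left; rw [e2, hkk]
  inv_mem' := by
    intro π h z
    have hkk : ∀ y, k (k y) = y := fun y => by rw [← Perm.mul_apply, hk]; rfl
    rcases h (π⁻¹ z) with e | e
    · left
      rw [apply_inv_aux] at e
      exact e.symm
    · right
      rw [apply_inv_aux] at e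
      have h3 := congrArg k e
      rw [hkk] at h3
      exact h3.symm

theorem mem_flipSub (k : Perm α) (hk : k * k = 1) (π : Perm α) :
    π ∈ flipSub k hk ↔ ∀ z, π z = z ∨ π z = k z := Iff.rfl

theorem flipSub_sq (k : Perm α) (hk : k * k = 1) (π : Perm α) (h : π ∈ flipSub k hk) :
    π * π = 1 := by
  have hkk : ∀ y, k (k y) = y := fun y => by rw [← Perm.mul_apply, hk]; rfl
  ext z
  rw [Perm.mul_apply, Perm.one_apply]
  rcases h z with e | e
  · rw [e, e]
  · rcases h (k z) with e2 | e2
    · have : k z = z := π.injective (e2.trans e.symm)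
      rw [e, this, e, this]
    · rw [e, e2, hkk]

theorem flipSub_isPGroup (k : Perm α) (hk : k * k = 1) : IsPGroup 2 (flipSub k hk) := by
  rintro ⟨π, h⟩
  refine ⟨1, ?_⟩
  apply Subtype.ext
  simp only [Subgroup.coe_pow, Subgroup.coe_one, pow_one]
  rw [pow_two]
  exact flipSub_sq k hk π h

theorem flipSub_conj (k : Perm α) (hk : k * k = 1) (y : Perm α) (hc : Commute y k)
    (π : Perm α) (h : π ∈ flipSub k hk) : y * π * y⁻¹ ∈ flipSub k hk := by
  intro z
  simp only [Perm.mul_apply]
  rcases h (y⁻¹ z) with e | e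
  · left; rw [e, apply_inv_aux]
  · right
    rw [e]
    have : y (k (y⁻¹ z)) = k (y (y⁻¹ z)) := by
      have := congrArg (fun f : Perm α => f (y⁻¹ z)) hc.eq
      simpa only [Perm.mul_apply] using this
    rw [this, apply_inv_aux]

theorem swap_mem_flipSub (k : Perm α) (hk : k * k = 1) (u : α) :
    swap u (k u) ∈ flipSub k hk := by
  have hkk : ∀ y, k (k y) = y := fun y => by rw [← Perm.mul_apply, hk]; rfl
  intro z
  by_cases h1 : z = u
  · right; rw [h1, swap_apply_left]
  · by_cases h2 : z = k u
    · right; rw [h2, swap_apply_right, hkk]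
    · left; exact swap_apply_of_ne_of_ne h1 h2

/-- For an involution `k` commuting with `x`, all `swap u (k u)` lie in `P`. -/
theorem swap_mem_of_involution (x : Perm α) (P : Sylow 2 (Perm α)) (hxP : x ∈ P)
    (huniq : ∀ P' : Sylow 2 (Perm α), x ∈ P' → P' = P)
    (k : Perm α) (hk : k * k = 1) (hc : Commute x k) (u : α) : swap u (k u) ∈ P := by
  have hn : x ∈ Subgroup.normalizer ((flipSub k hk : Subgroup (Perm α)) : Set (Perm α)) := by
    rw [Subgroup.mem_normalizer_iff]
    intro π
    constructor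
    · exact flipSub_conj k hk x hc π
    · intro h
      have := flipSub_conj k hk x⁻¹ hc.inv_left _ h
      have h1 : x⁻¹ * (x * π * x⁻¹) * x⁻¹⁻¹ = π := by group
      rwa [h1] at this
  exact le_of_normalized x P hxP huniq _ (flipSub_isPGroup k hk) hn (swap_mem_flipSub k hk u)

theorem not_isThreeCycle_mem (P : Sylow 2 (Perm α)) (g : Perm α) (hg : g ∈ P)
    (h3 : g.IsThreeCycle) : False := by
  obtain ⟨j, hj⟩ := P.isPGroup' ⟨g, hg⟩
  have hj' : g ^ (2 ^ j) = 1 := by
    have := congrArg Subtype.val hj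
    simpa using this
  have hd : orderOf g ∣ 2 ^ j := orderOf_dvd_of_pow_eq_one hj'
  rw [h3.orderOf] at hd
  have := (Nat.Prime.dvd_of_dvd_pow Nat.prime_three hd)
  omega


theorem card_le_of_unique (x : Perm α) (P : Sylow 2 (Perm α)) (hxP : x ∈ P)
    (huniq : ∀ P' : Sylow 2 (Perm α), x ∈ P' → P' = P) :
    Fintype.card α ≤ x.support.card + 2 := by
  by_contra hlt
  push_neg at hlt
  have h3 : 2 < (x.supportᶜ).card := by rw [Finset.card_compl]; omega
  obtain ⟨a, ha, b, hb, c, hc, hab, hac, hbc⟩ := Finset.two_lt_card.1 h3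
  rw [Finset.mem_compl, Perm.notMem_support] at ha hb hc
  have hsw : ∀ u v, x u = u → x v = v → swap u v ∈ P := by
    intro u v hu hv
    apply mem_of_commute x P hxP huniq (swap u v) _ 1
    · rw [pow_one, pow_two, swap_mul_self]
    · have := swap_apply_apply x u v
      rw [hu, hv] at this
      unfold Commute SemiconjBy
      calc x * swap u v = (x * swap u v * x⁻¹) * x := by group
        _ = swap u v * x := by rw [← this]
  exact not_isThreeCycle_mem P _ (P.mul_mem (hsw a b ha hb) (hsw a c ha hc))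
    (isThreeCycle_swap_mul_swap_same hab hac hbc)

theorem nodup_of_unique (x : Perm α) (P : Sylow 2 (Perm α)) (hxP : x ∈ P)
    (huniq : ∀ P' : Sylow 2 (Perm α), x ∈ P' → P' = P) : x.cycleType.Nodup := by
  by_contra hnd
  rw [cycleType_def, Multiset.nodup_map_iff_inj_on x.cycleFactorsFinset.nodup] at hnd
  push_neg at hnd
  obtain ⟨c1, hc1, c2, hc2, hcard, hne⟩ := hnd
  have hc1' : c1 ∈ x.cycleFactorsFinset := hc1
  have hc2' : c2 ∈ x.cycleFactorsFinset := hc2
  have hcard' : c1.support.card = c2.support.card := hcard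
  obtain ⟨a⟩ := Basis.nonempty x
  set C1 : x.cycleFactorsFinset := ⟨c1, hc1'⟩ with hC1
  set C2 : x.cycleFactorsFinset := ⟨c2, hc2'⟩ with hC2
  have hτ0 : swap C1 C2 ∈ OnCycleFactors.range_toPermHom' x := by
    intro c
    by_cases h1 : c = C1
    · rw [h1, swap_apply_left]; exact hcard'.symm
    · by_cases h2 : c = C2
      · rw [h2, swap_apply_right]; exact hcard'
      · rw [swap_apply_of_ne_of_ne h1 h2]
  set τ : OnCycleFactors.range_toPermHom' x := ⟨swap C1 C2, hτ0⟩ with hτ
  set k : Perm α := a.ofPermHom τ with hkdef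
  have hk : k * k = 1 := by
    rw [hkdef, ← map_mul]
    have : τ * τ = 1 := Subtype.ext (swap_mul_self _ _)
    rw [this, map_one]
  have hc : Commute x k := by
    have := a.ofPermHom_mem_centralizer τ
    rw [Subgroup.mem_centralizer_singleton_iff] at this
    exact this.symm
  have hku : k (a C1) = a C2 := by
    have := Basis.ofPermHomFun_apply_of_cycleOf_mem a τ (a.mem_support_self C1)
      (m := 0) (by simp)
    rw [hkdef, Basis.ofPermHom_apply, this]
    simp [hτ]
  -- the three relevant points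
  have hu : a C1 ∈ c1.support := a.mem_support_self C1
  have hv : a C2 ∈ c2.support := a.mem_support_self C2
  have hdisj : Perm.Disjoint c1 c2 := x.cycleFactorsFinset_pairwise_disjoint hc1' hc2' hne
  have hfix : c2 (a C1) = a C1 := by
    rcases hdisj (a C1) with e | e
    · exact absurd e (Perm.mem_support.1 hu)
    · exact e
  have hvne : c2 (a C2) ≠ a C2 := Perm.mem_support.1 hv
  have hv2 : c2 (c2 (a C2)) ≠ c2 (a C2) :=
    Perm.mem_support.1 (Perm.apply_mem_support.2 hv)
  have huv : a C1 ≠ a C2 := by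
    intro e; rw [e] at hfix; exact hvne hfix
  have huv' : a C1 ≠ c2 (a C2) := by
    intro e; rw [e] at hfix; exact hv2 hfix
  -- memberships
  have ht : swap (a C1) (a C2) ∈ P := by
    have := swap_mem_of_involution x P hxP huniq k hk hc (a C1)
    rwa [hku] at this
  have hc2P : c2 ∈ P := by
    obtain ⟨j, hj⟩ := P.isPGroup' ⟨x, hxP⟩
    have hj' : x ^ (2 ^ j) = 1 := by
      have := congrArg Subtype.val hj
      simpa using this
    apply mem_of_commute x P hxP huniq c2 (self_mem_cycle_factors_commute hc2').symm j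
    rw [← orderOf_dvd_iff_pow_eq_one]
    have h1 : orderOf c2 = c2.support.card := (mem_cycleFactorsFinset_iff.1 hc2').1.orderOf
    have h2 : c2.support.card ∈ x.cycleType := by
      rw [cycleType_def]
      exact Multiset.mem_map_of_mem _ hc2
    rw [h1]
    exact (dvd_of_mem_cycleType h2).trans (orderOf_dvd_of_pow_eq_one hj')
  have ht' : swap (a C1) (c2 (a C2)) ∈ P := by
    have h1 : c2 * swap (a C1) (a C2) * c2⁻¹ ∈ P :=
      P.mul_mem (P.mul_mem hc2P ht) (P.inv_mem hc2P)
    rw [← swap_apply_apply, hfix] at h1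
    exact h1
  exact not_isThreeCycle_mem P _ (P.mul_mem ht ht')
    (isThreeCycle_swap_mul_swap_same huv huv' hvne.symm)

/-- **S4349, direction (⇒)**, for an arbitrary finite type. -/
theorem forward (x : Perm α) (_hx : ∃ k : ℕ, orderOf x = 2 ^ k)
    (h : ∃! P : Sylow 2 (Perm α), x ∈ P) :
    Fintype.card α ≤ x.support.card + 2 ∧ x.cycleType.Nodup := by
  obtain ⟨P, hxP, huniq⟩ := h
  exact ⟨card_le_of_unique x P hxP huniq, nodup_of_unique x P hxP huniq⟩

end Cfsg.Agent.Lib.Helper4.UniqSyl
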