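import Mathlib

/-!
# S4349, combinatorial lemmas (C0)–(C5) on 2-elements `x` of `Perm α` with
`(*) : Fintype.card α ≤ x.support.card + 2 ∧ x.cycleType.Nodup`.
-/

set_option autoImplicit false

namespace Cfsg.Agent.Lib.Helper4.UniqSyl

open Equiv Equiv.Perm

variable {α : Type*} [Fintype α] [DecidableEq α]

/-! ### (R) restriction to invariant subsets -/

theorem mul_ofSubtype_subtypePerm (x : Perm α) (p : α → Prop) [DecidablePred p]
    (hp : ∀ a, p (x a) ↔ p a) :
    x = ofSubtype (x.subtypePerm hp) *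
      ofSubtype (x.subtypePerm (p := fun a => ¬ p a) (fun a => not_congr (hp a))) := by
  ext a
  rw [Perm.mul_apply]
  by_cases ha : p a
  · rw [ofSubtype_apply_of_not_mem (p := fun a => ¬ p a) _ (not_not.2 ha),
      ofSubtype_apply_of_mem _ ha, subtypePerm_apply]
  · rw [ofSubtype_apply_of_mem (p := fun a => ¬ p a) _ ha, subtypePerm_apply]
    have : ¬ p (x a) := fun h => ha ((hp a).1 h)
    rw [ofSubtype_apply_of_not_mem _ this]

theorem disjoint_ofSubtype_subtypePerm (x : Perm α) (p : α → Prop) [DecidablePred p]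
    (hp : ∀ a, p (x a) ↔ p a) :
    Perm.Disjoint (ofSubtype (x.subtypePerm hp))
      (ofSubtype (x.subtypePerm (p := fun a => ¬ p a) (fun a => not_congr (hp a)))) := by
  intro a
  by_cases ha : p a
  · right
    exact ofSubtype_apply_of_not_mem (p := fun a => ¬ p a) _ (not_not.2 ha)
  · left
    exact ofSubtype_apply_of_not_mem _ ha

/-- `(*)` passes to every `x`-invariant subset. -/
theorem star_subtypePerm (x : Perm α) (p : α → Prop) [DecidablePred p] [Fintype {a // p a}]
    (hp : ∀ a, p (x a) ↔ p a)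
    (h : Fintype.card α ≤ x.support.card + 2 ∧ x.cycleType.Nodup) :
    Fintype.card {a // p a} ≤ (x.subtypePerm hp).support.card + 2 ∧
      (x.subtypePerm hp).cycleType.Nodup := by
  have hmul := mul_ofSubtype_subtypePerm x p hp
  have hdis := disjoint_ofSubtype_subtypePerm x p hp
  set x1 := x.subtypePerm hp with hx1
  set x2 := x.subtypePerm (p := fun a => ¬ p a) (fun a => not_congr (hp a)) with hx2
  constructor
  · have hs : x.support.card = x1.support.card + x2.support.card := by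
      conv_lhs => rw [hmul]
      rw [hdis.card_support_mul, support_ofSubtype, support_ofSubtype, Finset.card_map,
        Finset.card_map]
      congr!
    have h2 : x2.support.card ≤ Fintype.card {a // ¬ p a} := Finset.card_le_univ _
    have hc : Fintype.card {a // ¬ p a} = Fintype.card α - Fintype.card {a // p a} :=
      Fintype.card_subtype_compl p
    have hle : Fintype.card {a // p a} ≤ Fintype.card α := Fintype.card_subtype_le p
    have := h.1
    omega
  · have hct : x.cycleType = x1.cycleType + x2.cycleType := by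
      conv_lhs => rw [hmul]
      rw [hdis.cycleType_mul, cycleType_ofSubtype, cycleType_ofSubtype]
    have := h.2
    rw [hct, Multiset.nodup_add] at this
    exact this.1

theorem orderOf_subtypePerm_pow2 (x : Perm α) (p : α → Prop) [DecidablePred p]
    [Fintype {a // p a}] (hp : ∀ a, p (x a) ↔ p a) (hx : ∃ k : ℕ, orderOf x = 2 ^ k) :
    ∃ k : ℕ, orderOf (x.subtypePerm hp) = 2 ^ k := by
  obtain ⟨k, hk⟩ := hx
  have h1 : (x.subtypePerm hp) ^ (2 ^ k) = 1 := by
    rw [subtypePerm_pow]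
    ext a
    have : x ^ (2 ^ k) = 1 := by rw [← hk]; exact pow_orderOf_eq_one x
    simp [this]
  have := orderOf_dvd_of_pow_eq_one h1
  obtain ⟨j, -, hj⟩ := (Nat.dvd_prime_pow Nat.prime_two).1 this
  exact ⟨j, hj⟩

/-! ### (C0) a transitive cyclic group -/

theorem star_of_transitive {β : Type*} [Fintype β] [DecidableEq β] (g : Perm β)
    (h : ∀ a b : β, ∃ i : ℕ, (g ^ i) a = b) :
    Fintype.card β ≤ g.support.card + 2 ∧ g.cycleType.Nodup := by
  by_cases hg : g = 1
  · subst hg
    have : Fintype.card β ≤ 1 := by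
      rw [Fintype.card_le_one_iff]
      intro a b
      obtain ⟨i, hi⟩ := h a b
      simpa using hi
    refine ⟨by omega, ?_⟩
    rw [cycleType_one]
    exact Multiset.nodup_zero
  · have hmoved : ∀ b, g b ≠ b := by
      intro b hb
      apply hg
      have hsub : ∀ c, c = b := by
        intro c
        obtain ⟨i, hi⟩ := h b c
        have : (g ^ i) b = b := by
          clear hi
          induction i with
          | zero => simp
          | succ n ih => rw [pow_succ', Perm.mul_apply, ih, hb]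
        rw [← hi, this]
      ext c
      rw [hsub c, hb]; rfl
    have hsupp : g.support = Finset.univ := by
      ext b; simp [hmoved b]
    have hcyc : g.IsCycle := by
      obtain ⟨b, hb⟩ : ∃ b, g b ≠ b := by
        by_contra hcon
        push_neg at hcon
        exact hg (Perm.ext hcon)
      refine ⟨b, hb, fun c _ => ?_⟩
      obtain ⟨i, hi⟩ := h b c
      exact ⟨(i : ℤ), by rw [zpow_natCast]; exact hi⟩
    constructor
    · rw [hsupp, Finset.card_univ]; omega
    · rw [hcyc.cycleType]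
      exact Multiset.nodup_singleton _

/-! ### (C1) the longest cycle covers at least half -/

theorem exists_max_cycle (x : Perm α) (hx1 : x ≠ 1) :
    ∃ σ ∈ x.cycleFactorsFinset, ∀ τ ∈ x.cycleFactorsFinset,
      τ.support.card ≤ σ.support.card := by
  have hne : x.cycleFactorsFinset.Nonempty := by
    rw [Finset.nonempty_iff_ne_empty, Ne, cycleFactorsFinset_eq_empty_iff]
    exact hx1
  obtain ⟨σ, hσ, hmax⟩ := Finset.exists_max_image x.cycleFactorsFinset
    (fun τ => τ.support.card) hne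
  exact ⟨σ, hσ, hmax⟩

theorem sum_Icc_two_pow (a : ℕ) : (∑ j ∈ Finset.Icc 1 a, 2 ^ j) + 2 = 2 ^ (a + 1) := by
  induction a with
  | zero => simp
  | succ n ih =>
    rw [Finset.sum_Icc_succ_top (by omega), add_right_comm, ih]
    ring

theorem support_card_add_two_le (x : Perm α) (hx : ∃ k : ℕ, orderOf x = 2 ^ k)
    (h : Fintype.card α ≤ x.support.card + 2 ∧ x.cycleType.Nodup)
    (σ : Perm α) (hσ : σ ∈ x.cycleFactorsFinset)
    (hmax : ∀ τ ∈ x.cycleFactorsFinset, τ.support.card ≤ σ.support.card) :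
    x.support.card + 2 ≤ 2 * σ.support.card := by
  obtain ⟨k, hk⟩ := hx
  have hpow : ∀ m ∈ x.cycleType, ∃ j, 1 ≤ j ∧ m = 2 ^ j := by
    intro m hm
    have hd := dvd_of_mem_cycleType hm
    rw [hk] at hd
    obtain ⟨j, -, hj⟩ := (Nat.dvd_prime_pow Nat.prime_two).1 hd
    refine ⟨j, ?_, hj⟩
    have h2 := two_le_of_mem_cycleType hm
    rcases Nat.eq_zero_or_pos j with h0 | h0
    · rw [hj, h0] at h2; norm_num at h2
    · exact h0
  have hcmem : σ.support.card ∈ x.cycleType := by
    rw [cycleType_def]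
    exact Multiset.mem_map_of_mem _ hσ
  obtain ⟨a, ha1, hca⟩ := hpow _ hcmem
  have hle : ∀ m ∈ x.cycleType, m ≤ σ.support.card := by
    intro m hm
    rw [cycleType_def, Multiset.mem_map] at hm
    obtain ⟨τ, hτ, rfl⟩ := hm
    exact hmax τ hτ
  have hsub : x.cycleType.toFinset ⊆ (Finset.Icc 1 a).image (fun j => 2 ^ j) := by
    intro m hm
    rw [Multiset.mem_toFinset] at hm
    obtain ⟨j, hj1, hj⟩ := hpow m hm
    rw [Finset.mem_image]
    refine ⟨j, ?_, hj.symm⟩
    rw [Finset.mem_Icc]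
    refine ⟨hj1, ?_⟩
    have := hle m hm
    rw [hj, hca] at this
    exact (Nat.pow_le_pow_iff_right (by norm_num)).1 this
  have hsum : x.cycleType.sum = ∑ m ∈ x.cycleType.toFinset, m := by
    rw [Finset.sum, Multiset.toFinset_val, h.2.dedup, Multiset.map_id']
  have h1 : ∑ m ∈ x.cycleType.toFinset, m ≤ ∑ m ∈ (Finset.Icc 1 a).image (fun j => 2 ^ j), m :=
    Finset.sum_le_sum_of_subset hsub
  have h2 : ∑ m ∈ (Finset.Icc 1 a).image (fun j => 2 ^ j), m = ∑ j ∈ Finset.Icc 1 a, 2 ^ j := by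
    rw [Finset.sum_image]
    intro i _ j _ hij
    exact Nat.pow_right_injective (le_refl 2) hij
  have h3 := sum_Icc_two_pow a
  have h4 : x.cycleType.sum = x.support.card := sum_cycleType x
  rw [hca, ← h4, hsum]
  have : 2 * 2 ^ a = 2 ^ (a + 1) := by ring
  omega

theorem card_le_two_mul (x : Perm α) (hx : ∃ k : ℕ, orderOf x = 2 ^ k)
    (h : Fintype.card α ≤ x.support.card + 2 ∧ x.cycleType.Nodup)
    (σ : Perm α) (hσ : σ ∈ x.cycleFactorsFinset)
    (hmax : ∀ τ ∈ x.cycleFactorsFinset, τ.support.card ≤ σ.support.card) :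
    Fintype.card α ≤ 2 * σ.support.card :=
  h.1.trans (support_card_add_two_le x hx h σ hσ hmax)

theorem exists_fixed_of_card_eq (x : Perm α) (hx : ∃ k : ℕ, orderOf x = 2 ^ k)
    (h : Fintype.card α ≤ x.support.card + 2 ∧ x.cycleType.Nodup)
    (σ : Perm α) (hσ : σ ∈ x.cycleFactorsFinset)
    (hmax : ∀ τ ∈ x.cycleFactorsFinset, τ.support.card ≤ σ.support.card)
    (hα : Fintype.card α = 2 * σ.support.card) : ∃ z, x z = z := by
  by_contra hcon
  push_neg at hcon
  have hsupp : x.support = Finset.univ := by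
    ext b; simp [hcon b]
  have := support_card_add_two_le x hx h σ hσ hmax
  rw [hsupp, Finset.card_univ] at this
  omega

/-! ### (C3) invariant halves -/

theorem pow_mem_iff (x : Perm α) (H : Finset α) (hH : ∀ a, x a ∈ H ↔ a ∈ H) (i : ℕ) (a : α) :
    (x ^ i) a ∈ H ↔ a ∈ H := by
  induction i with
  | zero => simp
  | succ n ih => rw [pow_succ', Perm.mul_apply, hH, ih]

theorem support_subset_of_mem (x : Perm α) (σ : Perm α) (hσ : σ ∈ x.cycleFactorsFinset)
    (H : Finset α) (hH : ∀ a, x a ∈ H ↔ a ∈ H) (a : α) (haH : a ∈ H) (haσ : a ∈ σ.support) :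
    σ.support ⊆ H := by
  intro b hb
  have hσa : σ = x.cycleOf a := cycle_is_cycleOf haσ hσ
  rw [hσa, mem_support_cycleOf_iff] at hb
  obtain ⟨i, hi⟩ := hb.1.exists_nat_pow_eq
  rw [← hi, pow_mem_iff x H hH]
  exact haH

theorem eq_support_or_compl (x : Perm α) (σ : Perm α) (hσ : σ ∈ x.cycleFactorsFinset)
    (H : Finset α) (hH : ∀ a, x a ∈ H ↔ a ∈ H) (hc : H.card = σ.support.card)
    (hα : Fintype.card α = 2 * σ.support.card) : H = σ.support ∨ H = σ.supportᶜ := by
  by_cases hex : ∃ a, a ∈ H ∧ a ∈ σ.support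
  · obtain ⟨a, haH, haσ⟩ := hex
    left
    exact (Finset.eq_of_subset_of_card_le (support_subset_of_mem x σ hσ H hH a haH haσ)
      (le_of_eq hc)).symm
  · right
    push_neg at hex
    apply Finset.eq_of_subset_of_card_le
    · intro a ha
      rw [Finset.mem_compl]
      exact hex a ha
    · rw [Finset.card_compl]; omega

/-! ### (C5) a full cycle and the two halves it swaps -/

theorem pow_mem_iff_swap (x : Perm α) (H : Finset α) (hH : ∀ a, x a ∈ H ↔ a ∉ H) (i : ℕ)
    (a : α) : (x ^ i) a ∈ H ↔ (a ∈ H ↔ Even i) := by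
  induction i with
  | zero => simp
  | succ n ih =>
    rw [pow_succ', Perm.mul_apply, hH, ih, Nat.even_add_one]
    by_cases h1 : a ∈ H <;> by_cases h2 : Even n <;> simp [h1, h2]

theorem halves_unique (x : Perm α) (htr : ∀ a b : α, ∃ i : ℕ, (x ^ i) a = b)
    (H H' : Finset α) (hH : ∀ a, x a ∈ H ↔ a ∉ H) (hH' : ∀ a, x a ∈ H' ↔ a ∉ H') :
    H' = H ∨ H' = Hᶜ := by
  by_cases hne : Nonempty α
  · obtain ⟨ω⟩ := hne
    by_cases hω : (ω ∈ H ↔ ω ∈ H')
    · left
      ext b
      obtain ⟨i, hi⟩ := htr ω b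
      rw [← hi, pow_mem_iff_swap x H hH, pow_mem_iff_swap x H' hH', hω]
    · right
      ext b
      obtain ⟨i, hi⟩ := htr ω b
      rw [Finset.mem_compl, ← hi, pow_mem_iff_swap x H hH, pow_mem_iff_swap x H' hH']
      by_cases h1 : ω ∈ H <;> by_cases h2 : ω ∈ H' <;> by_cases h3 : Even i <;>
        simp [h1, h2, h3] at hω ⊢
  · left
    ext b
    exact absurd ⟨b⟩ hne

theorem sq_transitive_on (x : Perm α) (htr : ∀ a b : α, ∃ i : ℕ, (x ^ i) a = b)
    (H : Finset α) (hH : ∀ a, x a ∈ H ↔ a ∉ H) :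
    ∀ a ∈ H, ∀ b ∈ H, ∃ i : ℕ, ((x * x) ^ i) a = b := by
  intro a ha b hb
  obtain ⟨i, hi⟩ := htr a b
  have hev : Even i := by
    have := (pow_mem_iff_swap x H hH i a)
    rw [hi] at this
    exact (this.1 hb).1 ha
  obtain ⟨j, hj⟩ := hev
  refine ⟨j, ?_⟩
  rw [← pow_two, ← pow_mul, two_mul, ← hj]
  exact hi

theorem compl_swap (x : Perm α) (H : Finset α) (hH : ∀ a, x a ∈ H ↔ a ∉ H) :
    ∀ a, x a ∈ Hᶜ ↔ a ∉ Hᶜ := by
  intro a
  rw [Finset.mem_compl, Finset.mem_compl, hH]

theorem sq_mem_iff (x : Perm α) (H : Finset α) (hH : ∀ a, x a ∈ H ↔ a ∉ H) :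
    ∀ a, (x * x) a ∈ H ↔ a ∈ H := by
  intro a
  rw [Perm.mul_apply, hH, hH, not_not]

theorem star_sq_half (x : Perm α) (htr : ∀ a b : α, ∃ i : ℕ, (x ^ i) a = b)
    (H : Finset α) (hH : ∀ a, x a ∈ H ↔ a ∉ H) (hinv : ∀ a, (x * x) a ∈ H ↔ a ∈ H) :
    Fintype.card {a // a ∈ H} ≤ ((x * x).subtypePerm hinv).support.card + 2 ∧
      ((x * x).subtypePerm hinv).cycleType.Nodup := by
  apply star_of_transitive
  rintro ⟨a, ha⟩ ⟨b, hb⟩
  obtain ⟨i, hi⟩ := sq_transitive_on x htr H hH a ha b hb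
  refine ⟨i, ?_⟩
  rw [subtypePerm_pow]
  apply Subtype.ext
  rw [subtypePerm_apply]
  exact hi

/-- A nonempty subset invariant under a full cycle is everything. -/
theorem eq_univ_of_invariant (x : Perm α) (htr : ∀ a b : α, ∃ i : ℕ, (x ^ i) a = b)
    (H : Finset α) (hH : ∀ a, x a ∈ H ↔ a ∈ H) (hne : H.Nonempty) : H = Finset.univ := by
  obtain ⟨a, ha⟩ := hne
  ext b
  obtain ⟨i, hi⟩ := htr a b
  simp only [Finset.mem_univ, iff_true]
  rw [← hi, pow_mem_iff x H hH]
  exact ha

theorem two_pow_between (a b : ℕ) (h1 : 2 ^ a ≤ 2 ^ b) (h2 : 2 ^ b ≤ 2 * 2 ^ a) :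
    b = a ∨ b = a + 1 := by
  have h1' := (Nat.pow_le_pow_iff_right (by norm_num : 1 < 2)).1 h1
  have h2' : 2 ^ b ≤ 2 ^ (a + 1) := by rw [pow_succ]; omega
  have h2'' := (Nat.pow_le_pow_iff_right (by norm_num : 1 < 2)).1 h2'
  omega

end Cfsg.Agent.Lib.Helper4.UniqSyl
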