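import Cfsg.Agent.Lib.Helper4.WagnerBase

set_option autoImplicit false

namespace Cfsg.Agent.Lib.Helper4.Wagner

open MulAction
open scoped Pointwise

universe u v

variable {G : Type u} {X : Type v} [Group G] [MulAction G X]

/-- a subgroup of prescribed prime power order inside a subgroup -/
theorem exists_subgroup_le_card [Finite G] (L : Subgroup G) {p k : ℕ} [Fact p.Prime]
    (h : p ^ k ∣ Nat.card L) : ∃ Q : Subgroup G, Q ≤ L ∧ Nat.card Q = p ^ k := by
  obtain ⟨Q₀, hQ₀⟩ := Sylow.exists_subgroup_card_pow_prime p h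
  refine ⟨Q₀.map L.subtype, Subgroup.map_subtype_le Q₀, ?_⟩
  rw [Subgroup.card_map_of_injective L.subtype_injective, hQ₀]

/-- the orbit of a point outside `{a,b}` under the two point stabiliser avoids `a` and `b` -/
theorem orbit_avoid {N : Subgroup G} {a b z x : X} (hza : z ≠ a) (hzb : z ≠ b)
    (hx : x ∈ orbit (twoStab N a b) z) : x ≠ a ∧ x ≠ b := by
  obtain ⟨m, rfl⟩ := hx
  have hm := mem_twoStab.mp m.2
  constructor
  · intro e
    apply hza
    have : (m : G) • z = (m : G) • a := by rw [hm.2.1]; exact e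
    exact MulAction.injective _ this
  · intro e
    apply hzb
    have : (m : G) • z = (m : G) • b := by rw [hm.2.2]; exact e
    exact MulAction.injective _ this

/-- all orbits of the two point stabiliser of `N` outside `{a,b}` have the same size -/
theorem orbit_ncard_eq (h3 : IsMultiplyPretransitive G X 3) (N : Subgroup G) [hN : N.Normal]
    {a b z z' : X} (hab : a ≠ b) (hza : z ≠ a) (hzb : z ≠ b) (hza' : z' ≠ a) (hzb' : z' ≠ b) :
    (orbit (twoStab N a b) z').ncard = (orbit (twoStab N a b) z).ncard := by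
  obtain ⟨g, hga, hgb, hgz⟩ := three_elementwise h3 hab (Ne.symm hza) (Ne.symm hzb) hab
    (Ne.symm hza') (Ne.symm hzb')
  have hgia : g⁻¹ • a = a := by rw [inv_smul_eq_iff, hga]
  have hgib : g⁻¹ • b = b := by rw [inv_smul_eq_iff, hgb]
  have : orbit (twoStab N a b) z' = (fun x => g • x) '' orbit (twoStab N a b) z := by
    ext x
    constructor
    · rintro ⟨m, rfl⟩
      have hm := mem_twoStab.mp m.2
      refine ⟨g⁻¹ • ((m : G) • z'), ⟨⟨g⁻¹ * (m : G) * g, mem_twoStab.mpr ⟨?_, ?_, ?_⟩⟩, ?_⟩, ?_⟩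
      · have := hN.conj_mem _ hm.1 g⁻¹
        simpa using this
      · rw [mul_smul, mul_smul, hga, hm.2.1, hgia]
      · rw [mul_smul, mul_smul, hgb, hm.2.2, hgib]
      · show (g⁻¹ * (m : G) * g) • z = _
        rw [mul_smul, mul_smul, hgz]
      · simp only [smul_inv_smul]; rfl
    · rintro ⟨y, ⟨m, rfl⟩, rfl⟩
      have hm := mem_twoStab.mp m.2
      refine ⟨⟨g * (m : G) * g⁻¹, mem_twoStab.mpr ⟨hN.conj_mem _ hm.1 g, ?_, ?_⟩⟩, ?_⟩
      · rw [mul_smul, mul_smul, hgia, hm.2.1, hga]
      · rw [mul_smul, mul_smul, hgib, hm.2.2, hgb]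
      · show (g * (m : G) * g⁻¹) • z' = g • ((m : G) • z)
        rw [mul_smul, mul_smul, ← hgz, inv_smul_smul]
  rw [this]
  exact Set.ncard_image_of_injective _ (MulAction.injective g)

/-- some orbit of the two point stabiliser outside `{a,b}` has odd size -/
theorem exists_odd_orbit [Finite G] [Fintype X] (hodd : Odd (Fintype.card X)) (N : Subgroup G)
    {a b : X} (hab : a ≠ b) :
    ∃ z : X, z ≠ a ∧ z ≠ b ∧ ¬ 2 ∣ (orbit (twoStab N a b) z).ncard := by
  classical
  have : Fact (Nat.Prime 2) := ⟨Nat.prime_two⟩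
  set T := twoStab N a b with hT
  set v := (Nat.card T).factorization 2 with hv
  obtain ⟨K, hK⟩ := Sylow.exists_subgroup_card_pow_prime (G := T) 2
    (Nat.ordProj_dvd (Nat.card T) 2)
  have hKp : IsPGroup 2 K := IsPGroup.of_card hK
  -- a fixed point of `K` outside `{a,b}`
  have hS : (({a, b} : Set X)ᶜ).ncard = Fintype.card X - 2 := by
    rw [Set.ncard_compl, Set.ncard_pair hab, Nat.card_eq_fintype_card]
  obtain ⟨z, hz, hfix⟩ := exists_fixed_mem (G := T) K hKp ({a, b} : Set X)ᶜ (Set.toFinite _)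
    (by
      intro q _ x hx
      have hq := mem_twoStab.mp q.2
      simp only [Set.mem_compl_iff, Set.mem_insert_iff, Set.mem_singleton_iff, not_or] at hx ⊢
      constructor
      · intro e
        apply hx.1
        have : (q : G) • x = (q : G) • a := by rw [hq.2.1]; exact e
        exact MulAction.injective _ this
      · intro e
        apply hx.2
        have : (q : G) • x = (q : G) • b := by rw [hq.2.2]; exact e
        exact MulAction.injective _ this)
    (by
      rw [hS]
      obtain ⟨k, hk⟩ := hodd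
      have h2 : 1 < Fintype.card X := Fintype.one_lt_card_iff.mpr ⟨a, b, hab⟩
      omega)
  simp only [Set.mem_compl_iff, Set.mem_insert_iff, Set.mem_singleton_iff, not_or] at hz
  refine ⟨z, hz.1, hz.2, ?_⟩
  rw [← MulAction.index_stabilizer]
  intro h2
  have hKle : K ≤ stabilizer T z := fun q hq => hfix q hq
  have h1 : 2 ^ v ∣ Nat.card (stabilizer T z) := by
    rw [← hK]; exact Subgroup.card_dvd_of_le hKle
  have h3 : 2 ^ (v + 1) ∣ Nat.card T := by
    rw [← Subgroup.index_mul_card (stabilizer T z), pow_succ, mul_comm]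
    exact Nat.mul_dvd_mul h2 h1
  exact Nat.pow_succ_factorization_not_dvd Nat.card_pos.ne' Nat.prime_two h3



/-- Wagner's argument: the two point stabiliser of `N` is transitive on the remaining points -/
theorem core [Finite G] [Fintype X] (hodd : Odd (Fintype.card X))
    (h3 : IsMultiplyPretransitive G X 3) (N : Subgroup G) [hN : N.Normal]
    (h2 : IsMultiplyPretransitive N X 2) {a b : X} (hab : a ≠ b) {z z' : X}
    (hza : z ≠ a) (hzb : z ≠ b) (hza' : z' ≠ a) (hzb' : z' ≠ b) :
    z' ∈ orbit (twoStab N a b) z := by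
  classical
  have : Fact (Nat.Prime 2) := ⟨Nat.prime_two⟩
  obtain ⟨u, huN, hua, hub⟩ := two_elementwise N h2 hab (Ne.symm hab)
  have hcard := card_pairStab hab huN hua hub
  set T := twoStab N a b with hT
  set v := (Nat.card T).factorization 2 with hv
  have hdvd : 2 ^ (v + 1) ∣ Nat.card (pairStab N a b) := by
    rw [hcard, pow_succ]; exact Nat.mul_dvd_mul (Nat.ordProj_dvd _ 2) dvd_rfl
  obtain ⟨Q, hQle, hQcard⟩ := exists_subgroup_le_card (pairStab N a b) hdvd
  have hQp : IsPGroup 2 Q := IsPGroup.of_card hQcard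
  have hQN : ∀ q ∈ Q, q ∈ N := fun q hq => (mem_pairStab.mp (hQle hq)).1
  have hnot : ∀ x x' : X, x ≠ x' → ¬ Q ≤ twoStab N x x' := by
    intro x x' hxx' hle
    obtain ⟨g, -, hgx, hgx'⟩ := two_elementwise N h2 hab hxx'
    have h1 : Nat.card Q ∣ Nat.card (twoStab N x x') := Subgroup.card_dvd_of_le hle
    rw [← hgx, ← hgx', card_twoStab_conj g, hQcard] at h1
    exact Nat.pow_succ_factorization_not_dvd Nat.card_pos.ne' Nat.prime_two h1
  -- an element of `Q` swapping `a` and `b`
  obtain ⟨s, hsQ, hsT⟩ : ∃ s ∈ Q, s ∉ T := by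
    by_contra hcon
    push Not at hcon
    exact hnot a b hab hcon
  have hsN : s ∈ N := hQN s hsQ
  have hswap : s • a = b ∧ s • b = a := by
    rcases (mem_pairStab.mp (hQle hsQ)).2 with h | h
    · exact absurd (mem_twoStab.mpr ⟨hsN, h.1, h.2⟩) hsT
    · exact h
  -- a fixed point of `Q`
  obtain ⟨c, -, hc⟩ := exists_fixed_mem Q hQp (Set.univ : Set X) Set.finite_univ
    (fun _ _ _ _ => Set.mem_univ _)
    (by
      rw [Set.ncard_univ, Nat.card_eq_fintype_card]
      obtain ⟨k, hk⟩ := hodd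
      omega)
  have hca : c ≠ a := by
    rintro rfl
    exact hab ((hc s hsQ).symm.trans hswap.1)
  have hcb : c ≠ b := by
    rintro rfl
    exact hab ((hswap.2).symm.trans (hc s hsQ))
  -- swapping two points while fixing a third
  have swap_fix : ∀ x y w : X, x ≠ y → x ≠ w → y ≠ w →
      ∃ t ∈ N, t • x = y ∧ t • y = x ∧ t • w = w := by
    intro x y w hxy hxw hyw
    obtain ⟨g, hgx, hgy, hgw⟩ := three_elementwise h3 hab (Ne.symm hca) (Ne.symm hcb) hxy hxw hyw
    refine ⟨g * s * g⁻¹, hN.conj_mem s hsN g, ?_, ?_, ?_⟩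
    · rw [mul_smul, mul_smul, ← hgx, inv_smul_smul, hswap.1, hgy]
    · rw [mul_smul, mul_smul, ← hgy, inv_smul_smul, hswap.2, hgx]
    · rw [mul_smul, mul_smul, ← hgw, inv_smul_smul, hc s hsQ]
  -- the pair stabiliser preserves the orbits of the two point stabiliser
  have pres : ∀ l ∈ pairStab N a b, ∀ w : X, w ≠ a → w ≠ b → l • w ∈ orbit T w := by
    intro l hl w hwa hwb
    obtain ⟨hlN, h | h⟩ := mem_pairStab.mp hl
    · exact ⟨⟨l, mem_twoStab.mpr ⟨hlN, h.1, h.2⟩⟩, rfl⟩
    · obtain ⟨t, htN, hta, htb, htw⟩ := swap_fix a b w hab (Ne.symm hwa) (Ne.symm hwb)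
      have htia : t⁻¹ • a = b := by rw [inv_smul_eq_iff, htb]
      have htib : t⁻¹ • b = a := by rw [inv_smul_eq_iff, hta]
      have htiw : t⁻¹ • w = w := by rw [inv_smul_eq_iff, htw]
      refine ⟨⟨l * t⁻¹, mem_twoStab.mpr ⟨N.mul_mem hlN (N.inv_mem htN), ?_, ?_⟩⟩, ?_⟩
      · rw [mul_smul, htia, h.2]
      · rw [mul_smul, htib, h.1]
      · show (l * t⁻¹) • w = l • w
        rw [mul_smul, htiw]
  -- all orbits have odd size
  have hoddall : ∀ w : X, w ≠ a → w ≠ b → ¬ 2 ∣ (orbit T w).ncard := by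
    intro w hwa hwb
    obtain ⟨z0, hz0a, hz0b, hz0⟩ := exists_odd_orbit hodd N hab
    rw [orbit_ncard_eq h3 N hab hz0a hz0b hwa hwb]
    exact hz0
  -- fixed points of `Q` in each orbit
  have hfixed : ∀ w : X, w ≠ a → w ≠ b → ∃ x ∈ orbit T w, ∀ q ∈ Q, q • x = x := by
    intro w hwa hwb
    apply exists_fixed_mem Q hQp (orbit T w) (Set.toFinite _) _ (hoddall w hwa hwb)
    intro q hq x hx
    obtain ⟨hxa, hxb⟩ := orbit_avoid hwa hwb hx
    have := pres q (hQle hq) x hxa hxb
    rw [MulAction.orbit_eq_iff.mpr hx] at this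
    exact this
  obtain ⟨x, hx, hxfix⟩ := hfixed z hza hzb
  obtain ⟨x', hx', hxfix'⟩ := hfixed z' hza' hzb'
  by_cases hxx' : x = x'
  · subst hxx'
    rw [← MulAction.orbit_eq_iff.mpr hx, MulAction.orbit_eq_iff.mpr hx']
    exact MulAction.mem_orbit_self z'
  · exfalso
    apply hnot x x' hxx'
    intro q hq
    exact mem_twoStab.mpr ⟨hQN q hq, hxfix q hq, hxfix' q hq⟩

/-- Wagner's theorem, given double transitivity of the normal subgroup -/
theorem three_of_two [Finite G] [Fintype X] (hodd : Odd (Fintype.card X))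
    (h3 : IsMultiplyPretransitive G X 3) (N : Subgroup G) [hN : N.Normal]
    (h2 : IsMultiplyPretransitive N X 2) : IsMultiplyPretransitive N X 3 := by
  apply three_of_elementwise
  intro a b c a' b' c' hab hac hbc hab' hac' hbc'
  obtain ⟨g, hgN, hga, hgb⟩ := two_elementwise N h2 hab hab'
  have h1 : g • c ≠ a' := by
    rw [← hga]; exact fun e => hac (MulAction.injective g e).symm
  have h2' : g • c ≠ b' := by
    rw [← hgb]; exact fun e => hbc (MulAction.injective g e).symm
  obtain ⟨m, hm⟩ := core hodd h3 N h2 hab' h1 h2' (Ne.symm hac') (Ne.symm hbc')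
  have hmm := mem_twoStab.mp m.2
  refine ⟨(m : G) * g, N.mul_mem hmm.1 hgN, ?_, ?_, ?_⟩
  · rw [mul_smul, hga, hmm.2.1]
  · rw [mul_smul, hgb, hmm.2.2]
  · rw [mul_smul]; exact hm

end Cfsg.Agent.Lib.Helper4.Wagner
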