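import Mathlib

set_option autoImplicit false

/-!
Index computations for Wielandt's bound `d! ((d-1)!)^d` (S3682): relative cores, divisibility of
relative indices of intersections of normalised subgroups.
-/

namespace Cfsg.Agent.Lib.Helper4.WielBound

variable {G : Type*} [Group G]

/-- membership in the core of `S` relative to `M` -/
lemma mem_core_map (M S : Subgroup G) (a : G) :
    a ∈ ((S.subgroupOf M).normalCore.map M.subtype) ↔ a ∈ M ∧ ∀ x ∈ M, x * a * x⁻¹ ∈ S := by
  constructor
  · rintro ⟨⟨a, ha⟩, hcore, rfl⟩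
    refine ⟨ha, fun x hx => ?_⟩
    have := hcore ⟨x, hx⟩
    rwa [Subgroup.mem_subgroupOf] at this
  · rintro ⟨ha, h⟩
    refine ⟨⟨a, ha⟩, fun x => ?_, rfl⟩
    rw [Subgroup.mem_subgroupOf]
    exact h x.1 x.2

/-- the relative core is contained in `M` -/
lemma core_map_le (M S : Subgroup G) : ((S.subgroupOf M).normalCore.map M.subtype) ≤ M :=
  fun a ha => ((mem_core_map M S a).1 ha).1

/-- the relative core is contained in `S` -/
lemma core_map_le' (M S : Subgroup G) : ((S.subgroupOf M).normalCore.map M.subtype) ≤ S := by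
  intro a ha
  obtain ⟨h1, h2⟩ := (mem_core_map M S a).1 ha
  have := h2 1 M.one_mem
  simpa using this

/-- the relative core is normalised by `M` -/
lemma core_map_conj (M S : Subgroup G) {a x : G} (ha : a ∈ ((S.subgroupOf M).normalCore.map M.subtype))
    (hx : x ∈ M) : x * a * x⁻¹ ∈ ((S.subgroupOf M).normalCore.map M.subtype) := by
  obtain ⟨h1, h2⟩ := (mem_core_map M S a).1 ha
  refine (mem_core_map M S _).2 ⟨M.mul_mem (M.mul_mem hx h1) (M.inv_mem hx), fun y hy => ?_⟩
  have := h2 (y * x) (M.mul_mem hy hx)
  have e : y * (x * a * x⁻¹) * y⁻¹ = y * x * a * (y * x)⁻¹ := by group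
  rwa [e]

/-- `subgroupOf` of the relative core is the core -/
lemma core_map_subgroupOf (M S : Subgroup G) :
    ((S.subgroupOf M).normalCore.map M.subtype).subgroupOf M = (S.subgroupOf M).normalCore := by
  ext ⟨a, ha⟩
  rw [Subgroup.mem_subgroupOf]
  constructor
  · rintro ⟨⟨b, hb⟩, hcore, hab⟩
    have : (⟨b, hb⟩ : M) = ⟨a, ha⟩ := Subtype.ext hab
    rwa [this] at hcore
  · intro h
    exact ⟨⟨a, ha⟩, h, rfl⟩

/-- index of the relative core: divides the factorial of the relative index -/
lemma relIndex_core_dvd [Finite G] (M S : Subgroup G) :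
    ((S.subgroupOf M).normalCore.map M.subtype).relIndex M ∣ Nat.factorial (S.relIndex M) := by
  rw [Subgroup.relIndex, core_map_subgroupOf, Subgroup.normalCore_eq_ker, Subgroup.index_ker]
  have h1 : Nat.card (MulAction.toPermHom M (M ⧸ S.subgroupOf M)).range ∣
      Nat.card (Equiv.Perm (M ⧸ S.subgroupOf M)) := Subgroup.card_subgroup_dvd_card _
  rw [Nat.card_perm] at h1
  exact h1

/-- the relative index in a smaller subgroup divides, for a normalised subgroup -/
lemma relIndex_dvd_of_le_normalizer {N H L : Subgroup G} (hHL : H ≤ L) (hL : L ≤ Subgroup.normalizer (N : Set G)) :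
    N.relIndex H ∣ N.relIndex L := by
  haveI : (N.subgroupOf L).Normal := Subgroup.normal_subgroupOf_of_le_normalizer hL
  have := Subgroup.relIndex_dvd_index_of_normal (N.subgroupOf L) (H.subgroupOf L)
  rwa [Subgroup.relIndex_subgroupOf hHL] at this

/-- relative index of an intersection with a normalised subgroup -/
lemma relIndex_inf_dvd {N H L : Subgroup G} (hL : L ≤ Subgroup.normalizer (N : Set G)) :
    (N ⊓ H).relIndex L ∣ N.relIndex L * H.relIndex L := by
  rw [← Subgroup.relIndex_inf_mul_relIndex]
  exact Nat.mul_dvd_mul_right (relIndex_dvd_of_le_normalizer inf_le_right hL) _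

/-- relative index of a finite intersection of normalised subgroups -/
lemma relIndex_iInf_dvd {ι : Type*} [Fintype ι] (N : ι → Subgroup G) (L : Subgroup G)
    (hN : ∀ i, L ≤ Subgroup.normalizer ((N i : Subgroup G) : Set G)) (m : ℕ) (h : ∀ i, (N i).relIndex L ∣ m) :
    (⨅ i, N i).relIndex L ∣ m ^ Fintype.card ι := by
  classical
  have key : ∀ s : Finset ι, (⨅ i ∈ s, N i).relIndex L ∣ m ^ s.card := by
    intro s
    induction s using Finset.induction_on with
    | empty => simp
    | insert j s hj ih =>
      rw [Finset.iInf_insert, Finset.card_insert_of_notMem hj, pow_succ, mul_comm]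
      exact (relIndex_inf_dvd (hN j)).trans (Nat.mul_dvd_mul (h j) ih)
  have := key Finset.univ
  simpa using this

end Cfsg.Agent.Lib.Helper4.WielBound
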