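import Mathlib
import Cfsg.Agent.Lib.Helper4.WielBoundA

set_option autoImplicit false

/-!
The key index computation for Wielandt's bound (S3682): `|X : A₂|` divides `d! ((d-1)!)^d`.
-/

namespace Cfsg.Agent.Lib.Helper4.WielBound

variable {G : Type*} [Group G]

/-- the core of `S` relative to `M`, as a subgroup of `G` -/
def cor (M S : Subgroup G) : Subgroup G := (S.subgroupOf M).normalCore.map M.subtype

lemma mem_cor (M S : Subgroup G) (a : G) :
    a ∈ cor M S ↔ a ∈ M ∧ ∀ x ∈ M, x * a * x⁻¹ ∈ S := mem_core_map M S a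

lemma cor_le (M S : Subgroup G) : cor M S ≤ M := core_map_le M S

lemma cor_le' (M S : Subgroup G) : cor M S ≤ S := core_map_le' M S

lemma cor_conj (M S : Subgroup G) {a x : G} (ha : a ∈ cor M S) (hx : x ∈ M) :
    x * a * x⁻¹ ∈ cor M S := core_map_conj M S ha hx

/-- `M` normalises the relative core -/
lemma le_normalizer_cor (M S : Subgroup G) : M ≤ Subgroup.normalizer (cor M S : Set G) := by
  intro x hx
  rw [Subgroup.mem_normalizer_iff]
  intro h
  constructor
  · intro hh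
    exact cor_conj M S hh hx
  · intro hh
    have := cor_conj M S hh (M.inv_mem hx)
    have e : x⁻¹ * (x * h * x⁻¹) * x⁻¹⁻¹ = h := by group
    rwa [e] at this

/-- conjugation by an element of `M` fixes the relative core -/
lemma map_conj_cor (M S : Subgroup G) {x : G} (hx : x ∈ M) :
    (cor M S).map (MulAut.conj x).toMonoidHom = cor M S :=
  Subgroup.mem_normalizer_iff_map_conj_eq.1 (le_normalizer_cor M S hx)

lemma relIndex_cor_dvd [Finite G] (M S : Subgroup G) :
    (cor M S).relIndex M ∣ Nat.factorial (S.relIndex M) := relIndex_core_dvd M S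

/-- the second core in terms of conjugates of `B₁` -/
lemma cor_cor_eq (X Y : Subgroup G) :
    cor X (cor X (X ⊓ Y) ⊓ cor Y (X ⊓ Y)) =
      cor X (X ⊓ Y) ⊓ ⨅ x : X, (cor Y (X ⊓ Y)).map (MulAut.conj ((x : G))).toMonoidHom := by
  ext a
  rw [mem_cor, Subgroup.mem_inf, Subgroup.mem_iInf]
  constructor
  · rintro ⟨haX, h⟩
    have ha1 : a ∈ cor X (X ⊓ Y) := by
      have := (h 1 X.one_mem).1
      simpa using this
    refine ⟨ha1, fun x => ?_⟩
    have := (h (x⁻¹ : X) (X.inv_mem x.2)).2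
    refine ⟨_, this, ?_⟩
    show (x : G) * (((x⁻¹ : X) : G) * a * ((x⁻¹ : X) : G)⁻¹) * (x : G)⁻¹ = a
    rw [Subgroup.coe_inv]
    group
  · rintro ⟨ha1, h⟩
    refine ⟨cor_le _ _ ha1, fun x hx => ⟨cor_conj _ _ ha1 hx, ?_⟩⟩
    obtain ⟨b, hb, hba⟩ := h ⟨x⁻¹, X.inv_mem hx⟩
    have hba' : x⁻¹ * b * x⁻¹⁻¹ = a := hba
    rw [← hba']
    have e : x * (x⁻¹ * b * x⁻¹⁻¹) * x⁻¹ = b := by group
    rw [e]
    exact hb

variable [Finite G]

/-- **the key index computation** -/
theorem key (X Y : Subgroup G) (d : ℕ) (h1 : (X ⊓ Y).relIndex X = d)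
    (h2 : (X ⊓ Y).relIndex Y = d) (hd : 0 < d) :
    (cor X (cor X (X ⊓ Y) ⊓ cor Y (X ⊓ Y))).relIndex X ∣
      Nat.factorial d * (Nat.factorial (d - 1)) ^ d := by
  classical
  set K := X ⊓ Y with hK
  set A1 := cor X K with hA1
  set B1 := cor Y K with hB1
  have hA1K : A1 ≤ K := cor_le' X K
  have hB1K : B1 ≤ K := cor_le' Y K
  have hKX : K ≤ X := inf_le_left
  have hKY : K ≤ Y := inf_le_right
  -- (1)
  have i1 : A1.relIndex X ∣ Nat.factorial d := by
    have := relIndex_cor_dvd X K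
    rwa [h1] at this
  -- (2)
  have i2 : B1.relIndex K ∣ Nat.factorial (d - 1) := by
    have h := relIndex_cor_dvd Y K
    rw [h2] at h
    have hmul := Subgroup.relIndex_mul_relIndex B1 K Y hB1K hKY
    rw [h2] at hmul
    rw [← hmul] at h
    have hfac : Nat.factorial d = d * Nat.factorial (d - 1) := by
      obtain ⟨e, rfl⟩ : ∃ e, d = e + 1 := ⟨d - 1, by omega⟩
      rw [Nat.factorial_succ, Nat.add_sub_cancel]
    rw [hfac, mul_comm] at h
    exact Nat.dvd_of_mul_dvd_mul_left hd h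
  -- (3)
  have hKB1 : K ≤ Subgroup.normalizer (B1 : Set G) := hKY.trans (le_normalizer_cor Y K)
  have i3 : B1.relIndex A1 ∣ Nat.factorial (d - 1) :=
    (relIndex_dvd_of_le_normalizer hA1K hKB1).trans i2
  have i4 : ∀ x : X, (B1.map (MulAut.conj (x : G)).toMonoidHom).relIndex A1 ∣
      Nat.factorial (d - 1) := by
    intro x
    have := Subgroup.relIndex_map_map_of_injective B1 A1
      (f := (MulAut.conj (x : G)).toMonoidHom) (MulAut.conj (x : G)).injective
    rw [map_conj_cor X K x.2] at this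
    rw [this]
    exact i3
  have hnorm : ∀ x : X, A1 ≤ Subgroup.normalizer
      ((B1.map (MulAut.conj (x : G)).toMonoidHom : Subgroup G) : Set G) := by
    intro x a ha
    rw [Subgroup.mem_normalizer_iff]
    -- `x⁻¹ a x` normalises `B1`
    have ha' : (x : G)⁻¹ * a * (x : G)⁻¹⁻¹ ∈ A1 := cor_conj X K ha (X.inv_mem x.2)
    have hn := hKB1 (hA1K ha')
    rw [Subgroup.mem_normalizer_iff] at hn
    intro h
    constructor
    · rintro ⟨b, hb, rfl⟩
      refine ⟨_, (hn b).1 hb, ?_⟩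
      show (x : G) * ((x : G)⁻¹ * a * (x : G)⁻¹⁻¹ * b * ((x : G)⁻¹ * a * (x : G)⁻¹⁻¹)⁻¹) * (x : G)⁻¹ =
        a * ((x : G) * b * (x : G)⁻¹) * a⁻¹
      group
    · rintro ⟨b, hb, hba⟩
      have hba' : (x : G) * b * (x : G)⁻¹ = a * h * a⁻¹ := hba
      have hb' := (hn (((x : G)⁻¹ * a * (x : G)⁻¹⁻¹)⁻¹ * b * ((x : G)⁻¹ * a * (x : G)⁻¹⁻¹))).2 (by
        have e : (x : G)⁻¹ * a * (x : G)⁻¹⁻¹ *
            (((x : G)⁻¹ * a * (x : G)⁻¹⁻¹)⁻¹ * b * ((x : G)⁻¹ * a * (x : G)⁻¹⁻¹)) *
            ((x : G)⁻¹ * a * (x : G)⁻¹⁻¹)⁻¹ = b := by group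
        rw [e]; exact hb)
      refine ⟨_, hb', ?_⟩
      show (x : G) * (((x : G)⁻¹ * a * (x : G)⁻¹⁻¹)⁻¹ * b * ((x : G)⁻¹ * a * (x : G)⁻¹⁻¹)) *
        (x : G)⁻¹ = h
      have : h = a⁻¹ * ((x : G) * b * (x : G)⁻¹) * a := by rw [hba']; group
      rw [this]
      group
  -- the quotient family
  let Q := X ⧸ K.subgroupOf X
  let C : X → Subgroup G := fun x => B1.map (MulAut.conj (x : G)).toMonoidHom
  have hwd : ∀ x y : X, QuotientGroup.leftRel (K.subgroupOf X) x y → C x = C y := by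
    intro x y hxy
    rw [QuotientGroup.leftRel_apply, Subgroup.mem_subgroupOf] at hxy
    have hk : ((x : G)⁻¹ * (y : G)) ∈ Y := hKY (by simpa using hxy)
    have e : (MulAut.conj (y : G)).toMonoidHom =
        (MulAut.conj (x : G)).toMonoidHom.comp (MulAut.conj ((x : G)⁻¹ * (y : G))).toMonoidHom := by
      ext g
      simp only [MulEquiv.coe_toMonoidHom, MonoidHom.coe_comp, Function.comp_apply,
        MulAut.conj_apply]
      group
    show B1.map _ = B1.map _
    rw [e, ← Subgroup.map_map, map_conj_cor Y K hk]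
  let Cbar : Q → Subgroup G := fun q => Quotient.liftOn' q C hwd
  have hiInf : (⨅ x : X, C x) = ⨅ q : Q, Cbar q := by
    have := (QuotientGroup.mk_surjective (s := K.subgroupOf X)).iInf_comp Cbar
    rw [← this]
    rfl
  haveI : Fintype Q := Fintype.ofFinite Q
  have hcardQ : Fintype.card Q = d := by
    rw [← Nat.card_eq_fintype_card, ← h1]
    rfl
  have i5 : (⨅ q : Q, Cbar q).relIndex A1 ∣ (Nat.factorial (d - 1)) ^ Fintype.card Q := by
    apply relIndex_iInf_dvd
    · intro q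
      induction q using Quotient.inductionOn' with
      | h x => exact hnorm x
    · intro q
      induction q using Quotient.inductionOn' with
      | h x => exact i4 x
  rw [hcardQ] at i5
  -- assemble
  have hA2 : cor X (A1 ⊓ B1) = A1 ⊓ ⨅ x : X, C x := cor_cor_eq X Y
  rw [hA2, ← Subgroup.relIndex_mul_relIndex _ A1 X inf_le_left (cor_le X K),
    Subgroup.inf_relIndex_left, hiInf, mul_comm]
  exact Nat.mul_dvd_mul i1 i5

end Cfsg.Agent.Lib.Helper4.WielBound
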