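import Mathlib
import Cfsg.Agent.Lib.Helper4.WielBoundB

set_option autoImplicit false

/-!
Wielandt's bound (S3682) modulo the Thompson–Wielandt theorem (S5752), taken as a hypothesis.
-/

namespace Cfsg.Agent.Lib.Helper4.WielBound

variable {G : Type*} [Group G]

/-- the pair of sequences `(A i, B i)` -/
def seqAB (X Y : Subgroup G) : ℕ → Subgroup G × Subgroup G
  | 0 => (X, Y)
  | i + 1 => (cor X ((seqAB X Y i).1 ⊓ (seqAB X Y i).2), cor Y ((seqAB X Y i).1 ⊓ (seqAB X Y i).2))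

/-- the form of the Thompson–Wielandt theorem that is used -/
def TWHyp (G : Type*) [Group G] : Prop :=
  ∀ (M₁ M₂ : Subgroup G), IsCoatom M₁ → ∀ g : G,
    M₂ = M₁.map (MulAut.conj g).toMonoidHom → M₁ ≠ M₂ → M₁.normalCore = ⊥ →
    ∀ A B : ℕ → Subgroup G, A 0 = M₁ → B 0 = M₂ →
    (∀ i, A (i + 1) = ((A i ⊓ B i).subgroupOf M₁).normalCore.map M₁.subtype) →
    (∀ i, B (i + 1) = ((A i ⊓ B i).subgroupOf M₂).normalCore.map M₂.subtype) →
    A 2 ≠ ⊥ → B 2 ≠ ⊥ → ∃ p : ℕ, p.Prime ∧ IsPGroup p ↥(A 2 ⊔ B 2)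

theorem wielandt_of_TW {Ω : Type*} [Finite G] [MulAction G Ω] [FaithfulSMul G Ω] [Finite Ω]
    (hTW : TWHyp G)
    (hprim : MulAction.IsPreprimitive G Ω) (a b : Ω) (d : ℕ)
    (hd : Nat.card (MulAction.orbit (MulAction.stabilizer G a) b) = d) (h2 : 2 ≤ d) :
    ∃ p : ℕ, p.Prime ∧ ∃ P : Subgroup (MulAction.stabilizer G a), P.Normal ∧ IsPGroup p P ∧
      (∀ g : P, ((g : MulAction.stabilizer G a) : G) • b = b) ∧
      P.index ∣ Nat.factorial d * (Nat.factorial (d - 1)) ^ d := by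
  classical
  haveI := hprim
  set X := MulAction.stabilizer G a with hX
  set Y := MulAction.stabilizer G b with hY
  -- the index of `X ⊓ Y` in `X`
  have hstab : MulAction.stabilizer X b = Y.subgroupOf X := by
    ext x
    rw [MulAction.mem_stabilizer_iff, Subgroup.mem_subgroupOf, MulAction.mem_stabilizer_iff]
    rfl
  have h1 : (X ⊓ Y).relIndex X = d := by
    rw [Subgroup.inf_relIndex_left, Subgroup.relIndex, ← hstab, MulAction.index_stabilizer,
      ← Nat.card_coe_set_eq, hd]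
  -- `X ≠ Y`
  have hne : X ≠ Y := by
    intro h
    rw [← h, inf_idem, Subgroup.relIndex_self] at h1
    omega
  have hab : a ≠ b := by
    rintro rfl
    exact hne rfl
  haveI : Nontrivial Ω := ⟨⟨a, b, hab⟩⟩
  have hmax : IsCoatom X := MulAction.IsPreprimitive.isCoatom_stabilizer_of_isPreprimitive (G := G) (X := Ω) a
  obtain ⟨g, hg⟩ := MulAction.exists_smul_eq G a b
  have hconj : Y = X.map (MulAut.conj g).toMonoidHom := by
    rw [hY, ← hg, MulAction.stabilizer_smul_eq_stabilizer_map_conj]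
  have hcore : X.normalCore = ⊥ := by
    rw [eq_bot_iff]
    intro x hx
    rw [Subgroup.mem_bot]
    apply FaithfulSMul.eq_of_smul_eq_smul (α := Ω)
    intro c
    obtain ⟨k, rfl⟩ := MulAction.exists_smul_eq G a c
    have := hx k⁻¹
    rw [hX, MulAction.mem_stabilizer_iff] at this
    rw [one_smul]
    have e : x • k • a = k • ((k⁻¹ * x * k⁻¹⁻¹) • a) := by
      rw [inv_inv, ← mul_smul, ← mul_smul]
      congr 1
      group
    rw [e, this]
  -- cardinalities
  have hcardXY : Nat.card X = Nat.card Y := by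
    rw [hconj]
    exact Nat.card_congr (Subgroup.equivMapOfInjective X _ (MulAut.conj g).injective).toEquiv
  have h2' : (X ⊓ Y).relIndex Y = d := by
    have e1 := Subgroup.relIndex_mul_relIndex (⊥ : Subgroup G) (X ⊓ Y) X bot_le inf_le_left
    have e2 := Subgroup.relIndex_mul_relIndex (⊥ : Subgroup G) (X ⊓ Y) Y bot_le inf_le_right
    rw [Subgroup.relIndex_bot_left, Subgroup.relIndex_bot_left] at e1 e2
    rw [h1, hcardXY, ← e2] at e1
    have hpos : 0 < Nat.card ↥(X ⊓ Y) := Nat.card_pos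
    exact (Nat.eq_of_mul_eq_mul_left hpos e1).symm
  have hdpos : 0 < d := by omega
  -- the sequences
  set A : ℕ → Subgroup G := fun i => (seqAB X Y i).1 with hAdef
  set B : ℕ → Subgroup G := fun i => (seqAB X Y i).2 with hBdef
  have hA0 : A 0 = X := rfl
  have hB0 : B 0 = Y := rfl
  have hA : ∀ i, A (i + 1) = ((A i ⊓ B i).subgroupOf X).normalCore.map X.subtype := fun i => rfl
  have hB : ∀ i, B (i + 1) = ((A i ⊓ B i).subgroupOf Y).normalCore.map Y.subtype := fun i => rfl
  have hA2 : A 2 = cor X (cor X (X ⊓ Y) ⊓ cor Y (X ⊓ Y)) := rfl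
  have hB2 : B 2 = cor Y (cor X (X ⊓ Y) ⊓ cor Y (X ⊓ Y)) := rfl
  have keyA : (A 2).relIndex X ∣ Nat.factorial d * (Nat.factorial (d - 1)) ^ d := by
    rw [hA2]; exact key X Y d h1 h2' hdpos
  have keyB : (B 2).relIndex Y ∣ Nat.factorial d * (Nat.factorial (d - 1)) ^ d := by
    rw [hB2]
    have := key Y X d (by rw [inf_comm]; exact h2') (by rw [inf_comm]; exact h1) hdpos
    rw [inf_comm Y X, inf_comm (cor Y (X ⊓ Y))] at this
    exact this
  have hA2Y : A 2 ≤ Y := by
    rw [hA2]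
    exact (cor_le' _ _).trans (inf_le_left.trans ((cor_le' _ _).trans inf_le_right))
  by_cases hA2b : A 2 = ⊥
  · refine ⟨2, Nat.prime_two, ⊥, inferInstance, IsPGroup.of_bot, ?_, ?_⟩
    · rintro ⟨x, hx⟩
      rw [Subgroup.mem_bot] at hx
      subst hx
      exact one_smul _ _
    · rw [Subgroup.index_bot]
      rw [hA2b, Subgroup.relIndex_bot_left] at keyA
      exact keyA
  by_cases hB2b : B 2 = ⊥
  · refine ⟨2, Nat.prime_two, ⊥, inferInstance, IsPGroup.of_bot, ?_, ?_⟩
    · rintro ⟨x, hx⟩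
      rw [Subgroup.mem_bot] at hx
      subst hx
      exact one_smul _ _
    · rw [Subgroup.index_bot]
      rw [hB2b, Subgroup.relIndex_bot_left] at keyB
      have : Nat.card X = Nat.card Y := hcardXY
      rw [this]
      exact keyB
  obtain ⟨p, hp, hpg⟩ := hTW X Y hmax g hconj hne hcore A B hA0 hB0 hA hB hA2b hB2b
  refine ⟨p, hp, (A 2).subgroupOf X, ?_, ?_, ?_, keyA⟩
  · have : (A 2).subgroupOf X = (((A 1 ⊓ B 1)).subgroupOf X).normalCore :=
      core_map_subgroupOf X (A 1 ⊓ B 1)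
    rw [this]
    infer_instance
  · have hpA : IsPGroup p (A 2) := by
      have : IsPGroup p ↥((A 2 ⊔ B 2 : Subgroup G)) := hpg
      exact this.to_le le_sup_left
    rw [← Subgroup.comap_subtype]
    exact hpA.comap_subtype
  · rintro ⟨x, hx⟩
    rw [Subgroup.mem_subgroupOf] at hx
    exact hA2Y hx

end Cfsg.Agent.Lib.Helper4.WielBound
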