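import Mathlib
import Cfsg.Agent.Lib.Helper4.WielBoundC

set_option autoImplicit false

/-!
The common setup for corollaries of the Thompson–Wielandt theorem for a primitive group with a
suborbit of length `d ≥ 2`.
-/

namespace Cfsg.Agent.Lib.Helper4.WielBound

variable {G : Type*} [Group G]

/-- the data produced from a primitive action with a suborbit of length `d ≥ 2` -/
theorem wielandt_setup {Ω : Type*} [Finite G] [MulAction G Ω] [FaithfulSMul G Ω] [Finite Ω]
    (hprim : MulAction.IsPreprimitive G Ω) (a b : Ω) (d : ℕ)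
    (hd : Nat.card (MulAction.orbit (MulAction.stabilizer G a) b) = d) (h2 : 2 ≤ d) :
    ∃ (g : G) (A B : ℕ → Subgroup G),
      IsCoatom (MulAction.stabilizer G a) ∧
      MulAction.stabilizer G b = (MulAction.stabilizer G a).map (MulAut.conj g).toMonoidHom ∧
      MulAction.stabilizer G a ≠ MulAction.stabilizer G b ∧
      (MulAction.stabilizer G a).normalCore = ⊥ ∧
      A 0 = MulAction.stabilizer G a ∧ B 0 = MulAction.stabilizer G b ∧
      (∀ i, A (i + 1) = ((A i ⊓ B i).subgroupOf (MulAction.stabilizer G a)).normalCore.map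
        (MulAction.stabilizer G a).subtype) ∧
      (∀ i, B (i + 1) = ((A i ⊓ B i).subgroupOf (MulAction.stabilizer G b)).normalCore.map
        (MulAction.stabilizer G b).subtype) ∧
      (A 2).relIndex (MulAction.stabilizer G a) ∣ Nat.factorial d * (Nat.factorial (d - 1)) ^ d ∧
      (B 2).relIndex (MulAction.stabilizer G b) ∣ Nat.factorial d * (Nat.factorial (d - 1)) ^ d ∧
      Nat.card (MulAction.stabilizer G a) = Nat.card (MulAction.stabilizer G b) ∧
      (MulAction.stabilizer G a ⊓ MulAction.stabilizer G b).relIndex (MulAction.stabilizer G a) = d ∧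
      (MulAction.stabilizer G a ⊓ MulAction.stabilizer G b).relIndex (MulAction.stabilizer G b) = d := by
  classical
  haveI := hprim
  set X := MulAction.stabilizer G a with hX
  set Y := MulAction.stabilizer G b with hY
  have hstab : MulAction.stabilizer X b = Y.subgroupOf X := by
    ext x
    rw [MulAction.mem_stabilizer_iff, Subgroup.mem_subgroupOf, MulAction.mem_stabilizer_iff]
    rfl
  have h1 : (X ⊓ Y).relIndex X = d := by
    rw [Subgroup.inf_relIndex_left, Subgroup.relIndex, ← hstab, MulAction.index_stabilizer,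
      ← Nat.card_coe_set_eq, hd]
  have hne : X ≠ Y := by
    intro h
    rw [← h, inf_idem, Subgroup.relIndex_self] at h1
    omega
  have hab : a ≠ b := by
    rintro rfl
    exact hne rfl
  haveI : Nontrivial Ω := ⟨⟨a, b, hab⟩⟩
  have hmax : IsCoatom X :=
    MulAction.IsPreprimitive.isCoatom_stabilizer_of_isPreprimitive (G := G) (X := Ω) a
  obtain ⟨g, hg⟩ := MulAction.exists_smul_eq G a b
  have hconj : Y = X.map (MulAut.conj g).toMonoidHom := by
    rw [hY, ← hg, MulAction.stabilizer_smul_eq_stabilizer_map_conj]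
  have hcore : X.normalCore = ⊥ := by
    rw [eq_bot_iff]
    intro x hx
    rw [Subgroup.mem_bot]
    apply FaithfulSMul.eq_of_smul_eq_smul (α := Ω)
    intro c
    obtain ⟨k, rfl⟩ := MulAction.exists_smul_eq G a c
    have := hx k⁻¹
    rw [hX, MulAction.mem_stabilizer_iff] at this
    rw [one_smul]
    have e : x • k • a = k • ((k⁻¹ * x * k⁻¹⁻¹) • a) := by
      rw [inv_inv, ← mul_smul, ← mul_smul]
      congr 1
      group
    rw [e, this]
  have hcardXY : Nat.card X = Nat.card Y := by
    rw [hconj]
    exact Nat.card_congr (Subgroup.equivMapOfInjective X _ (MulAut.conj g).injective).toEquiv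
  have h2' : (X ⊓ Y).relIndex Y = d := by
    have e1 := Subgroup.relIndex_mul_relIndex (⊥ : Subgroup G) (X ⊓ Y) X bot_le inf_le_left
    have e2 := Subgroup.relIndex_mul_relIndex (⊥ : Subgroup G) (X ⊓ Y) Y bot_le inf_le_right
    rw [Subgroup.relIndex_bot_left, Subgroup.relIndex_bot_left] at e1 e2
    rw [h1, hcardXY, ← e2] at e1
    have hpos : 0 < Nat.card ↥(X ⊓ Y) := Nat.card_pos
    exact (Nat.eq_of_mul_eq_mul_left hpos e1).symm
  have hdpos : 0 < d := by omega
  refine ⟨g, fun i => (seqAB X Y i).1, fun i => (seqAB X Y i).2, hmax, hconj, hne, hcore, rfl, rfl,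
    fun i => rfl, fun i => rfl, ?_, ?_, hcardXY, h1, h2'⟩
  · exact key X Y d h1 h2' hdpos
  · have := key Y X d (by rw [inf_comm]; exact h2') (by rw [inf_comm]; exact h1) hdpos
    rw [inf_comm Y X, inf_comm (cor Y (X ⊓ Y))] at this
    exact this

end Cfsg.Agent.Lib.Helper4.WielBound
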