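import Mathlib
import Cfsg.Prelude.Def_Local
import Cfsg.Agent.Lib.Lead.TWMain
import Cfsg.Agent.Lib.Helper4.WielBoundD

set_option autoImplicit false

/-!
`O_p` of a two-point stabilizer is trivial when it acts trivially on the suborbit (S3693): the
normalizer condition in the `p`-group `O_p(X ∩ Y) O_p(Y)`.
-/

namespace Cfsg.Agent.Lib.Helper4.WielBound

open Cfsg.Agent.H1.PrimPair Cfsg.Agent.Lib.Lead.Conj Cfsg.Agent.Lib.Lead.TW
open scoped Pointwise

variable {G : Type*} [Group G]

/-- in a finite `p`-group a proper subgroup is proper in its normalizer -/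
lemma exists_mem_normalizer_not_mem [Finite G] {p : ℕ} [Fact p.Prime] {R P : Subgroup G}
    (hR : IsPGroup p R) (hPR : P ≤ R) (hne : P ≠ R) :
    ∃ r ∈ R, r ∈ Subgroup.normalizer (P : Set G) ∧ r ∉ P := by
  haveI : Group.IsNilpotent R := hR.isNilpotent
  have hnc : NormalizerCondition R := normalizerCondition_of_isNilpotent
  have hlt : P.subgroupOf R < ⊤ := by
    rw [lt_top_iff_ne_top, Ne, Subgroup.subgroupOf_eq_top]
    intro h
    exact hne (le_antisymm hPR h)
  have h1 := hnc _ hlt
  obtain ⟨r, hrN, hrP⟩ := SetLike.exists_of_lt h1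
  refine ⟨r.1, r.2, ?_, fun h => hrP (Subgroup.mem_subgroupOf.2 h)⟩
  rw [Subgroup.mem_normalizer_iff] at hrN ⊢
  intro g
  constructor
  · intro hg
    have := (hrN ⟨g, hPR hg⟩).1 (Subgroup.mem_subgroupOf.2 hg)
    exact Subgroup.mem_subgroupOf.1 this
  · intro hg
    have hgR : g ∈ R := by
      have h2 : r.1 * g * r.1⁻¹ ∈ R := hPR hg
      have e : g = r.1⁻¹ * (r.1 * g * r.1⁻¹) * r.1 := by group
      rw [e]
      exact R.mul_mem (R.mul_mem (R.inv_mem r.2) h2) r.2
    have := (hrN ⟨g, hgR⟩).2 (Subgroup.mem_subgroupOf.2 hg)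
    exact Subgroup.mem_subgroupOf.1 this

/-- **`O_p` of the two-point stabilizer is trivial** once it is contained in the kernel `A₁` -/
theorem PG_inf_eq_bot [Finite G] (p : ℕ) [hp : Fact p.Prime] (X Y : Subgroup G)
    (hmax : IsCoatom X) (g : G) (hconj : Y = X.map (MulAut.conj g).toMonoidHom) (hne : X ≠ Y)
    (hcore : X.normalCore = ⊥) (hPA : PG p (X ⊓ Y) ≤ cor X (X ⊓ Y)) :
    PG p (X ⊓ Y) = ⊥ := by
  by_contra hPne
  set K := X ⊓ Y with hK
  set P := PG p K with hP
  set A1 := cor X K with hA1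
  have hKX : K ≤ X := inf_le_left
  have hKY : K ≤ Y := inf_le_right
  have hA1K : A1 ≤ K := cor_le' X K
  have hPK : P ≤ K := PG_le p K
  have hPp : IsPGroup p P := PG_isPGroup p K
  -- (b) `P = O_p(A1)` is normalised by `X`
  have h1 : P ≤ PG p A1 := le_PG hPA (hA1K.trans (le_normalizer_PG p K)) hPp
  have hXA1 : X ≤ Subgroup.normalizer (A1 : Set G) := le_normalizer_cor X K
  have h2 : PG p A1 ≤ P :=
    le_PG ((PG_le p A1).trans hA1K) ((hKX.trans hXA1).trans (normalizer_le_normalizer_PG p A1))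
      (PG_isPGroup p A1)
  have hPeq : P = PG p A1 := le_antisymm h1 h2
  have hXP : X ≤ Subgroup.normalizer (P : Set G) := by
    rw [hPeq]
    exact hXA1.trans (normalizer_le_normalizer_PG p A1)
  -- (c) the normaliser of `P` is `X`
  have hNP : Subgroup.normalizer (P : Set G) = X := by
    rcases eq_or_lt_of_le hXP with h | h
    · exact h.symm
    · exfalso
      have htop := hmax.2 _ h
      haveI : P.Normal := Subgroup.normalizer_eq_top_iff.1 htop
      have : P ≤ X.normalCore := Subgroup.normal_le_normalCore.2 (hPK.trans hKX)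
      rw [hcore] at this
      exact hPne (eq_bot_iff.2 this)
  -- (d)
  set QY := PG p Y with hQY
  have hQYp : IsPGroup p QY := PG_isPGroup p Y
  have hYQ : Y ≤ Subgroup.normalizer (QY : Set G) := le_normalizer_PG p Y
  have hd : QY ⊓ X ≤ P := by
    apply le_PG
    · exact le_inf inf_le_right (inf_le_left.trans (PG_le p Y))
    · refine le_trans ?_ (normalizer_inf_le_normalizer_inf QY X)
      exact le_inf (hKY.trans hYQ) (hKX.trans Subgroup.le_normalizer)
    · exact hQYp.to_le inf_le_left
  -- (e)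
  have hPQ : P ≤ Subgroup.normalizer (QY : Set G) := (hPK.trans hKY).trans hYQ
  have hRp : IsPGroup p (P ⊔ QY : Subgroup G) := hPp.to_sup_of_normal_right' hQYp hPQ
  -- (f)
  have hQP : QY ≤ P := by
    by_contra hcon
    have hneR : P ≠ P ⊔ QY := by
      intro h
      apply hcon
      rw [h]
      exact le_sup_right
    obtain ⟨r, hrR, hrN, hrP⟩ := exists_mem_normalizer_not_mem hRp le_sup_left hneR
    rw [hNP] at hrN
    apply hrP
    have hset : (r : G) ∈ ((P : Set G) * (QY : Set G)) ∩ (X : Set G) := by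
      refine ⟨?_, hrN⟩
      rw [← Subgroup.coe_mul_of_left_le_normalizer_right P QY hPQ]
      exact hrR
    rw [← Subgroup.mul_inf_assoc P QY X (hPK.trans hKX)] at hset
    obtain ⟨a, ha, b, hb, rfl⟩ := hset
    exact P.mul_mem ha (hd hb)
  -- (g)
  have hPQX : P ≤ PG p X := le_PG (hPK.trans hKX) hXP hPp
  have hcard : Nat.card (PG p X) = Nat.card QY := by
    rw [hQY, hconj]
    exact card_PG_map_conj p X g
  have hPQY : QY = P := by
    apply Subgroup.eq_of_le_of_card_ge hQP
    rw [← hcard]
    exact Nat.card_le_card_of_injective (Subgroup.inclusion hPQX) (Subgroup.inclusion_injective hPQX)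
  have hYX : Y ≤ X := by
    rw [← hNP, ← hPQY]
    exact hYQ
  have hcardXY : Nat.card X = Nat.card Y := by
    rw [hconj]
    exact Nat.card_congr (Subgroup.equivMapOfInjective X _ (MulAut.conj g).injective).toEquiv
  exact hne (Subgroup.eq_of_le_of_card_ge hYX hcardXY.le).symm

end Cfsg.Agent.Lib.Helper4.WielBound
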