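import Mathlib
import Cfsg.Prelude.Def_Local
import Cfsg.Agent.Lib.Helper4.WielBoundE

set_option autoImplicit false

/-!
S3693: the hypothesis on the Fitting subgroup of the group induced on the suborbit puts
`O_p(G_{ab})` into the kernel of `G_a` on the suborbit.
-/

namespace Cfsg.Agent.Lib.Helper4.WielBound

open Cfsg.Agent.H1.PrimPair Cfsg.Agent.Lib.Lead.Conj Cfsg.Agent.Lib.Lead.TW

variable {G : Type*} [Group G]

theorem PG_le_cor_of_fitting {Ω : Type*} [MulAction G Ω] [Finite G] [Finite Ω] (a b : Ω) (p : ℕ)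
    [Fact p.Prime]
    (hF : Cfsg.fittingSubgroup ↥(((MulAction.stabilizer G b).subgroupOf
      (MulAction.stabilizer G a)).map (MulAction.toPermHom (MulAction.stabilizer G a)
        (MulAction.orbit (MulAction.stabilizer G a) b))) = ⊥) :
    PG p (MulAction.stabilizer G a ⊓ MulAction.stabilizer G b) ≤
      cor (MulAction.stabilizer G a) (MulAction.stabilizer G a ⊓ MulAction.stabilizer G b) := by
  classical
  set X := MulAction.stabilizer G a with hX
  set Y := MulAction.stabilizer G b with hY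
  let T := MulAction.toPermHom X (MulAction.orbit X b)
  let ι : ↥(X ⊓ Y) →* ↥(Y.subgroupOf X) :=
    { toFun := fun k => ⟨⟨k.1, k.2.1⟩, k.2.2⟩
      map_one' := rfl
      map_mul' := fun _ _ => rfl }
  let ψ := (T.subgroupMap (Y.subgroupOf X)).comp ι
  have hι : Function.Surjective ι := fun y => ⟨⟨y.1.1, ⟨y.1.2, y.2⟩⟩, rfl⟩
  have hψ : Function.Surjective ψ := (T.subgroupMap_surjective _).comp hι
  haveI : (Cfsg.pCore p ↥(X ⊓ Y)).Normal := Cfsg.Agent.H1.pCore_normal p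
  have hNn : ((Cfsg.pCore p ↥(X ⊓ Y)).map ψ).Normal := Subgroup.Normal.map inferInstance ψ hψ
  have hNp : IsPGroup p ((Cfsg.pCore p ↥(X ⊓ Y)).map ψ) :=
    (Cfsg.Agent.H1.pCore_isPGroup (G := ↥(X ⊓ Y)) p).map ψ
  have hN : ((Cfsg.pCore p ↥(X ⊓ Y)).map ψ) ≤ Cfsg.fittingSubgroup _ :=
    Cfsg.Agent.H1.le_fittingSubgroup hNn hNp.isNilpotent
  rw [hF] at hN
  rintro _ ⟨k, hk, rfl⟩
  have hk1 : ψ k = 1 := by
    have := hN ⟨k, hk, rfl⟩
    simpa using this
  have hT : T ⟨k.1, k.2.1⟩ = 1 := congrArg Subtype.val hk1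
  rw [mem_cor]
  refine ⟨k.2.1, fun y hy => ⟨X.mul_mem (X.mul_mem hy k.2.1) (X.inv_mem hy), ?_⟩⟩
  have hw : (y⁻¹ • b) ∈ MulAction.orbit X b := ⟨⟨y⁻¹, X.inv_mem hy⟩, rfl⟩
  have h3 := congrArg (fun π => ((π ⟨y⁻¹ • b, hw⟩ : MulAction.orbit X b) : Ω)) hT
  have h4 : (k.1 : G) • (y⁻¹ • b) = y⁻¹ • b := h3
  show y * (k.1 : G) * y⁻¹ ∈ MulAction.stabilizer G b
  rw [MulAction.mem_stabilizer_iff, mul_smul, mul_smul, h4, smul_inv_smul]

end Cfsg.Agent.Lib.Helper4.WielBound
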