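import Mathlib

/-!
# Frobenius' generalisation of Sylow's theorem (Wielandt's proof)

If `p ^ β` divides the order of the finite group `G`, then the number of subgroups of order
`p ^ β` is congruent to `1` modulo `p`.
-/

namespace Cfsg.Agent.Lib.Helper4.Wielandt

open scoped Pointwise
open MulAction

section binom

/-- `C(p^β r - 1, p^β - 1) ≡ 1 (mod p)`. -/
theorem choose_pred_modEq_one (p : ℕ) [hp : Fact p.Prime] : ∀ (β r : ℕ), 0 < r →
    Nat.choose (p ^ β * r - 1) (p ^ β - 1) ≡ 1 [MOD p] := by
  intro β
  induction β with
  | zero =>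
    intro r _
    simp [Nat.ModEq]
  | succ β ih =>
    intro r hr
    have hp2 : 2 ≤ p := hp.out.two_le
    have ha : 0 < p ^ β * r := Nat.mul_pos (pow_pos hp.out.pos β) hr
    have hb : 0 < p ^ β := pow_pos hp.out.pos β
    obtain ⟨a', ha'⟩ : ∃ a', p ^ β * r = a' + 1 := ⟨p ^ β * r - 1, by omega⟩
    obtain ⟨b', hb'⟩ : ∃ b', p ^ β = b' + 1 := ⟨p ^ β - 1, by omega⟩
    have hn : p ^ (β + 1) * r - 1 = (p - 1) + p * a' := by
      have : p ^ (β + 1) * r = p * a' + p := by
        rw [pow_succ, mul_comm (p ^ β) p, mul_assoc, ha', mul_add, mul_one]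
      omega
    have hk : p ^ (β + 1) - 1 = (p - 1) + p * b' := by
      have : p ^ (β + 1) = p * b' + p := by
        rw [pow_succ, mul_comm (p ^ β) p, hb', mul_add, mul_one]
      omega
    have hlt : p - 1 < p := by omega
    have h1 := @Choose.choose_modEq_choose_mod_mul_choose_div_nat (p ^ (β + 1) * r - 1)
      (p ^ (β + 1) - 1) p hp
    rw [hn, hk, Nat.add_mul_mod_self_left, Nat.add_mul_mod_self_left,
      Nat.add_mul_div_left _ _ hp.out.pos, Nat.add_mul_div_left _ _ hp.out.pos,
      Nat.mod_eq_of_lt hlt, Nat.div_eq_of_lt hlt, Nat.choose_self, one_mul, zero_add,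
      zero_add] at h1
    have h2 := ih r hr
    rw [ha', hb', Nat.add_sub_cancel, Nat.add_sub_cancel] at h2
    rw [hn, hk]
    exact h1.trans h2

end binom

section stab

variable {G : Type*} [Group G] [DecidableEq G] [Fintype G]

/-- The stabiliser of a finite set under left translation has order dividing the size of the
set. -/
theorem card_stabilizer_dvd_card (S : Finset G) : Nat.card (stabilizer G S) ∣ S.card := by
  classical
  set H := stabilizer G S with hH
  let f : G → Quotient (QuotientGroup.rightRel H) := Quotient.mk''
  rw [Finset.card_eq_sum_card_image f S]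
  apply Finset.dvd_sum
  intro q hq
  obtain ⟨s0, hs0, rfl⟩ := Finset.mem_image.mp hq
  have hfib : S.filter (fun a => f a = f s0)
      = (Finset.univ : Finset H).image (fun h : H => (h : G) * s0) := by
    ext a
    simp only [Finset.mem_filter, Finset.mem_image, Finset.mem_univ, true_and]
    constructor
    · rintro ⟨_, hfa⟩
      have h1 : QuotientGroup.rightRel H a s0 := Quotient.exact' hfa
      rw [QuotientGroup.rightRel_apply] at h1
      refine ⟨⟨(s0 * a⁻¹)⁻¹, H.inv_mem h1⟩, ?_⟩
      show (s0 * a⁻¹)⁻¹ * s0 = a
      group
    · rintro ⟨h, rfl⟩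
      refine ⟨?_, ?_⟩
      · have h1 : (h : G) • S = S := h.2
        rw [← h1]
        exact Finset.smul_mem_smul_finset hs0
      · apply Quotient.sound'
        rw [QuotientGroup.rightRel_apply]
        have : s0 * ((h : G) * s0)⁻¹ = (h : G)⁻¹ := by group
        rw [this]
        exact H.inv_mem h.2
  rw [hfib, Finset.card_image_of_injective _
    (fun a b hab => Subtype.ext (mul_right_cancel hab))]
  rw [Finset.card_univ, Nat.card_eq_fintype_card]

end stab

section main

variable {G : Type*} [Group G]

/-- The finite subsets of `G` of a given size, as a `G`-set under left translation. -/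
def sizedSets (G : Type*) [Group G] [DecidableEq G] (k : ℕ) : SubMulAction G (Finset G) where
  carrier := {S | S.card = k}
  smul_mem' := by
    intro g S hS
    simp only [Set.mem_setOf_eq] at hS ⊢
    rw [Finset.card_smul_finset]
    exact hS

theorem mem_sizedSets [DecidableEq G] (k : ℕ) (S : Finset G) :
    S ∈ sizedSets G k ↔ S.card = k := Iff.rfl

theorem stabilizer_sizedSets [DecidableEq G] (k : ℕ) (S : sizedSets G k) :
    stabilizer G S = stabilizer G (S : Finset G) := by
  ext g
  simp only [mem_stabilizer_iff]
  constructor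
  · intro h
    exact congrArg Subtype.val h
  · intro h
    exact Subtype.ext h

/-- **Frobenius**: the number of subgroups of order `p ^ β` is `≡ 1 (mod p)`. -/
theorem card_subgroup_modEq_one [Finite G] (p β : ℕ) [hp : Fact p.Prime]
    (hdiv : p ^ β ∣ Nat.card G) :
    Nat.card {H : Subgroup G // Nat.card H = p ^ β} ≡ 1 [MOD p] := by
  classical
  haveI : Fintype G := Fintype.ofFinite G
  obtain ⟨r, hr⟩ := hdiv
  have hppos : 0 < p ^ β := pow_pos hp.out.pos β
  have hrpos : 0 < r := by
    rcases Nat.eq_zero_or_pos r with h | h
    · rw [h, mul_zero] at hr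
      exact absurd hr Nat.card_pos.ne'
    · exact h
  have hcardG : Fintype.card G = p ^ β * r := by rw [← Nat.card_eq_fintype_card, hr]
  let X := sizedSets G (p ^ β)
  haveI : Fintype X := Fintype.ofFinite _
  haveI : Fintype (Quotient (orbitRel G X)) := Fintype.ofFinite _
  haveI : ∀ x : X, Fintype (stabilizer G x) := fun x => Fintype.ofFinite _
  have hclass := MulAction.card_eq_sum_card_group_div_card_stabilizer G X
  have hX : Fintype.card X = (p ^ β * r).choose (p ^ β) := by
    rw [← hcardG, ← Fintype.card_finset_len]
    exact Fintype.card_congr (Equiv.refl _)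
  -- stabiliser orders
  have hstab : ∀ x : X, ∃ j, j ≤ β ∧ Fintype.card (stabilizer G x) = p ^ j := by
    intro x
    have h1 := card_stabilizer_dvd_card (x : Finset G)
    rw [← stabilizer_sizedSets, (mem_sizedSets _ _).mp x.2, Nat.card_eq_fintype_card] at h1
    exact (Nat.dvd_prime_pow hp.out).mp h1
  let c : Quotient (orbitRel G X) → ℕ := fun ω => Fintype.card (stabilizer G ω.out)
  let good : Finset (Quotient (orbitRel G X)) := Finset.univ.filter (fun ω => c ω = p ^ β)
  have hsplit : Fintype.card X = good.card * r
      + ∑ ω ∈ Finset.univ.filter (fun ω => ¬ c ω = p ^ β), Fintype.card G / c ω := by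
    rw [hclass, ← Finset.sum_filter_add_sum_filter_not Finset.univ (fun ω => c ω = p ^ β)]
    congr 1
    rw [Finset.sum_congr rfl (g := fun _ => r)]
    · rw [Finset.sum_const, smul_eq_mul]
    · intro ω hω
      rw [Finset.mem_filter] at hω
      show Fintype.card G / c ω = r
      rw [hω.2, hcardG, Nat.mul_div_cancel_left _ hppos]
  have hbad : (p * r) ∣
      ∑ ω ∈ Finset.univ.filter (fun ω => ¬ c ω = p ^ β), Fintype.card G / c ω := by
    apply Finset.dvd_sum
    intro ω hω
    rw [Finset.mem_filter] at hω
    obtain ⟨j, hj, hcj⟩ := hstab ω.out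
    have hjlt : j < β := by
      rcases Nat.lt_or_ge j β with h | h
      · exact h
      · exfalso
        apply hω.2
        show Fintype.card _ = _
        rw [hcj, le_antisymm hj h]
    show p * r ∣ Fintype.card G / Fintype.card (stabilizer G ω.out)
    rw [hcj, hcardG]
    obtain ⟨e, he⟩ : ∃ e, β = j + 1 + e := ⟨β - j - 1, by omega⟩
    have h1 : p ^ β * r = p ^ j * (p * r * p ^ e) := by
      rw [he]
      ring
    rw [h1, Nat.mul_div_cancel_left _ (pow_pos hp.out.pos j)]
    exact ⟨p ^ e, rfl⟩
  have hgood : Nat.card {H : Subgroup G // Nat.card H = p ^ β} = good.card := by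
    let tf : Subgroup G → Finset G := fun H => Finset.univ.filter (fun g => g ∈ H)
    have htfmem : ∀ (H : Subgroup G) (g : G), g ∈ tf H ↔ g ∈ H := by
      intro H g
      simp [tf]
    have htfcard : ∀ H : Subgroup G, (tf H).card = Nat.card H := fun H =>
      (Nat.subtype_card (tf H) (htfmem H)).symm
    have hstabtf : ∀ H : Subgroup G, stabilizer G (tf H) = H := by
      intro H
      ext g
      rw [mem_stabilizer_iff]
      constructor
      · intro h
        have h1 : g • (1 : G) ∈ g • tf H :=
          Finset.smul_mem_smul_finset ((htfmem H 1).mpr H.one_mem)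
        rw [h, htfmem, smul_eq_mul, mul_one] at h1
        exact h1
      · intro hg
        ext x
        rw [Finset.mem_smul_finset]
        constructor
        · rintro ⟨y, hy, rfl⟩
          rw [htfmem] at hy ⊢
          exact H.mul_mem hg hy
        · intro hx
          rw [htfmem] at hx
          exact ⟨g⁻¹ * x, (htfmem _ _).mpr (H.mul_mem (H.inv_mem hg) hx), by simp⟩
    have hcorb : ∀ x : X, c (Quotient.mk (orbitRel G X) x) = Fintype.card (stabilizer G x) := by
      intro x
      have h1 : orbitRel G X (Quotient.out (Quotient.mk (orbitRel G X) x)) x :=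
        Quotient.exact (Quotient.out_eq _)
      exact Fintype.card_congr (stabilizerEquivStabilizerOfOrbitRel h1).toEquiv
    let F : {H : Subgroup G // Nat.card H = p ^ β} → {ω // ω ∈ good} := fun H =>
      ⟨Quotient.mk (orbitRel G X) ⟨tf H.1, (htfcard H.1).trans H.2⟩, by
        rw [Finset.mem_filter]
        refine ⟨Finset.mem_univ _, ?_⟩
        rw [hcorb, ← Nat.card_eq_fintype_card, stabilizer_sizedSets]
        show Nat.card (stabilizer G (tf H.1)) = p ^ β
        rw [hstabtf]
        exact H.2⟩
    have hFbij : Function.Bijective F := by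
      constructor
      · rintro ⟨H, hH⟩ ⟨K, hK⟩ hHK
        have h1 := congrArg Subtype.val hHK
        have h2 : orbitRel G X ⟨tf H, (htfcard H).trans hH⟩ ⟨tf K, (htfcard K).trans hK⟩ :=
          Quotient.exact h1
        rw [orbitRel_apply] at h2
        obtain ⟨g, hg⟩ := h2
        have hg' : g • tf K = tf H := congrArg Subtype.val hg
        have h3 : (1 : G) ∈ g • tf K := by
          rw [hg']
          exact (htfmem H 1).mpr H.one_mem
        rw [Finset.mem_smul_finset] at h3
        obtain ⟨y, hy, hgy⟩ := h3
        rw [htfmem] at hy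
        have hgK : g ∈ K := by
          have : g = y⁻¹ := eq_inv_of_mul_eq_one_left hgy
          rw [this]
          exact K.inv_mem hy
        have h4 : g • tf K = tf K := by
          have : g ∈ stabilizer G (tf K) := by rw [hstabtf]; exact hgK
          exact this
        rw [h4] at hg'
        apply Subtype.ext
        ext x
        rw [← htfmem H, ← htfmem K, hg']
      · rintro ⟨ω, hω⟩
        rw [Finset.mem_filter] at hω
        obtain ⟨S, hS⟩ : ∃ S : X, S = ω.out := ⟨_, rfl⟩
        have hωS : Quotient.mk (orbitRel G X) S = ω := by rw [hS]; exact Quotient.out_eq ω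
        have hScard : (S : Finset G).card = p ^ β := (mem_sizedSets _ _).mp S.2
        have hne : (S : Finset G).Nonempty := by
          rw [← Finset.card_pos, hScard]
          exact hppos
        obtain ⟨s, hs⟩ := hne
        obtain ⟨St, hSt⟩ : ∃ St : Subgroup G, St = stabilizer G (S : Finset G) := ⟨_, rfl⟩
        have hStcard : Nat.card St = p ^ β := by
          rw [hSt, ← stabilizer_sizedSets, Nat.card_eq_fintype_card, hS]
          exact hω.2
        have hsub : ∀ h ∈ St, h * s ∈ (S : Finset G) := by
          intro h hh
          rw [hSt, mem_stabilizer_iff] at hh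
          rw [← hh]
          exact Finset.smul_mem_smul_finset hs
        have hSeq : (tf St).image (fun h => h * s) = (S : Finset G) := by
          apply Finset.eq_of_subset_of_card_le
          · intro y hy
            rw [Finset.mem_image] at hy
            obtain ⟨h, hh, rfl⟩ := hy
            exact hsub h ((htfmem _ _).mp hh)
          · rw [Finset.card_image_of_injective _ (fun a b hab => mul_right_cancel hab),
              htfcard, hStcard, hScard]
        let H : Subgroup G := St.comap (MulAut.conj s).toMonoidHom
        have hHmem : ∀ x, x ∈ H ↔ s * x * s⁻¹ ∈ St := by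
          intro x
          rw [Subgroup.mem_comap]
          rfl
        have htfH : tf H = s⁻¹ • (S : Finset G) := by
          ext x
          rw [htfmem, hHmem, Finset.mem_inv_smul_finset_iff, smul_eq_mul]
          constructor
          · intro h
            have := hsub _ h
            rwa [inv_mul_cancel_right] at this
          · intro h
            rw [← hSeq, Finset.mem_image] at h
            obtain ⟨y, hy, hys⟩ := h
            rw [htfmem] at hy
            have : s * x * s⁻¹ = y := by rw [← hys]; group
            rw [this]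
            exact hy
        have hHcard : Nat.card H = p ^ β := by
          rw [← htfcard, htfH, Finset.card_smul_finset, hScard]
        refine ⟨⟨H, hHcard⟩, ?_⟩
        apply Subtype.ext
        show Quotient.mk (orbitRel G X) ⟨tf H, (htfcard H).trans hHcard⟩ = ω
        rw [← hωS]
        apply Quotient.sound
        show orbitRel G X _ _
        rw [orbitRel_apply]
        refine ⟨s⁻¹, ?_⟩
        apply Subtype.ext
        exact htfH.symm
    rw [Nat.card_congr (Equiv.ofBijective F hFbij), Nat.card_eq_fintype_card, Fintype.card_coe]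
  obtain ⟨k, hk⟩ := hbad
  rw [hk, hX] at hsplit
  have hch : (p ^ β * r).choose (p ^ β) = r * (p ^ β * r - 1).choose (p ^ β - 1) := by
    have h1 := Nat.add_one_mul_choose_eq (p ^ β * r - 1) (p ^ β - 1)
    have h2 : (p ^ β * r - 1) + 1 = p ^ β * r := by
      have : 0 < p ^ β * r := Nat.mul_pos hppos hrpos
      omega
    have h3 : (p ^ β - 1) + 1 = p ^ β := by omega
    rw [h2, h3] at h1
    have h4 : p ^ β * (r * (p ^ β * r - 1).choose (p ^ β - 1))
        = p ^ β * (p ^ β * r).choose (p ^ β) := by
      rw [← mul_assoc, h1, mul_comm]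
    exact (Nat.eq_of_mul_eq_mul_left hppos h4).symm
  rw [hch] at hsplit
  have h5 : r * (p ^ β * r - 1).choose (p ^ β - 1) = r * (good.card + p * k) := by
    rw [hsplit]
    ring
  have h6 := Nat.eq_of_mul_eq_mul_left hrpos h5
  have h7 := choose_pred_modEq_one p β r hrpos
  rw [hgood]
  rw [h6] at h7
  have h8 : good.card + p * k ≡ good.card [MOD p] := by
    have : p * k ≡ 0 [MOD p] := (Nat.modEq_zero_iff_dvd).mpr ⟨k, rfl⟩
    have h9 := Nat.ModEq.add_left good.card this
    rwa [add_zero] at h9
  exact h8.symm.trans h7

end main

end Cfsg.Agent.Lib.Helper4.Wielandt
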