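import Mathlib

set_option autoImplicit false
set_option linter.unusedSectionVars false
set_option linter.style.haveILetI false

/-!
# Witt's lemma on transitive extensions: the one-step extension
-/

namespace Cfsg.Agent.Lib.Helper4.Witt

open Equiv

variable {α : Type*}

/-- `k`-fold transitivity on a subset, for families indexed by the naturals -/
def KTrans (X : Subgroup (Perm α)) (Ω : Set α) (k : ℕ) : Prop :=
  ∀ x y : ℕ → α, (∀ j < k, x j ∈ Ω) → (∀ j < k, y j ∈ Ω) →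
    (∀ j₁ < k, ∀ j₂ < k, x j₁ = x j₂ → j₁ = j₂) → (∀ j₁ < k, ∀ j₂ < k, y j₁ = y j₂ → j₁ = j₂) →
    ∃ g ∈ X, ∀ j < k, g (x j) = y j

/-- the group generated by `X` and `h` is `X ∪ X h X` -/
theorem one_step (X : Subgroup (Perm α)) (a : α)
    (g : Perm α) (hgX : g ∈ X)
    (h : Perm α) (hh2 : h * h ∈ X)
    (hnorm : ∀ x ∈ X, x a = a → h * x * h⁻¹ ∈ X)
    (hbraid : (g * h) ^ 3 ∈ X)
    (hdc : ∀ x ∈ X, x a ≠ a → ∃ u ∈ X, ∃ v ∈ X, u a = a ∧ v a = a ∧ x = u * g * v) :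
    ∀ y ∈ Subgroup.closure ((X : Set (Perm α)) ∪ {h}),
      y ∈ X ∨ ∃ u ∈ X, ∃ v ∈ X, y = u * h * v := by
  have hinv : h⁻¹ = (h * h)⁻¹ * h := by group
  have hnorm' : ∀ x ∈ X, x a = a → h⁻¹ * x * h ∈ X := by
    intro x hx hxa
    have e : h⁻¹ * x * h = (h * h)⁻¹ * (h * x * h⁻¹) * (h * h) := by group
    rw [e]
    exact X.mul_mem (X.mul_mem (X.inv_mem hh2) (hnorm x hx hxa)) hh2
  have hghg : h * g * h = (g⁻¹ * (g * h) ^ 3 * (h * h)⁻¹) * h * g⁻¹ := by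
    have e3 : (g * h) ^ 3 = g * h * (g * h) * (g * h) := by rw [pow_succ, pow_two]
    rw [e3]
    group
  have hXh : ∀ x ∈ X, h * x * h ∈ X ∨ ∃ u ∈ X, ∃ v ∈ X, h * x * h = u * h * v := by
    intro x hx
    by_cases hxa : x a = a
    · left
      have e : h * x * h = (h * x * h⁻¹) * (h * h) := by group
      rw [e]
      exact X.mul_mem (hnorm x hx hxa) hh2
    · right
      obtain ⟨u, hu, v, hv, hua, hva, rfl⟩ := hdc x hx hxa
      refine ⟨(h * u * h⁻¹) * (g⁻¹ * (g * h) ^ 3 * (h * h)⁻¹), ?_, g⁻¹ * (h⁻¹ * v * h), ?_, ?_⟩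
      · exact X.mul_mem (hnorm u hu hua)
          (X.mul_mem (X.mul_mem (X.inv_mem hgX) hbraid) (X.inv_mem hh2))
      · exact X.mul_mem (X.inv_mem hgX) (hnorm' v hv hva)
      · have e : h * (u * g * v) * h = (h * u * h⁻¹) * (h * g * h) * (h⁻¹ * v * h) := by group
        rw [e, hghg]
        group
  intro y hy
  induction hy using Subgroup.closure_induction with
  | mem y hy =>
    rcases hy with hy | hy
    · exact Or.inl hy
    · right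
      rw [Set.mem_singleton_iff] at hy
      exact ⟨1, X.one_mem, 1, X.one_mem, by rw [hy, one_mul, mul_one]⟩
  | one => exact Or.inl X.one_mem
  | mul y₁ y₂ _ _ h₁ h₂ =>
    rcases h₁ with h₁ | ⟨u₁, hu₁, v₁, hv₁, rfl⟩
    · rcases h₂ with h₂ | ⟨u₂, hu₂, v₂, hv₂, rfl⟩
      · exact Or.inl (X.mul_mem h₁ h₂)
      · right
        exact ⟨y₁ * u₂, X.mul_mem h₁ hu₂, v₂, hv₂, by group⟩
    · rcases h₂ with h₂ | ⟨u₂, hu₂, v₂, hv₂, rfl⟩
      · right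
        exact ⟨u₁, hu₁, v₁ * y₂, X.mul_mem hv₁ h₂, by group⟩
      · have e : u₁ * h * v₁ * (u₂ * h * v₂) = u₁ * (h * (v₁ * u₂) * h) * v₂ := by group
        rcases hXh (v₁ * u₂) (X.mul_mem hv₁ hu₂) with h3 | ⟨u₃, hu₃, v₃, hv₃, h3⟩
        · left
          rw [e]
          exact X.mul_mem (X.mul_mem hu₁ h3) hv₂
        · right
          refine ⟨u₁ * u₃, X.mul_mem hu₁ hu₃, v₃ * v₂, X.mul_mem hv₃ hv₂, ?_⟩
          rw [e, h3]
          group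
  | inv y _ h₁ =>
    rcases h₁ with h₁ | ⟨u₁, hu₁, v₁, hv₁, rfl⟩
    · exact Or.inl (X.inv_mem h₁)
    · right
      refine ⟨v₁⁻¹ * (h * h)⁻¹, X.mul_mem (X.inv_mem hv₁) (X.inv_mem hh2), u₁⁻¹, X.inv_mem hu₁, ?_⟩
      group

/-- the stabiliser of the new point in the extension is the old group -/
theorem stab_of_one_step (X : Subgroup (Perm α)) (a inf : α) (hainf : a ≠ inf)
    (hfix : ∀ x ∈ X, x inf = inf) (h : Perm α) (hhinf : h inf = a)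
    (y : Perm α) (hy : y ∈ X ∨ ∃ u ∈ X, ∃ v ∈ X, y = u * h * v) (hyinf : y inf = inf) : y ∈ X := by
  rcases hy with hy | ⟨u, hu, v, hv, rfl⟩
  · exact hy
  · exfalso
    simp only [Perm.mul_apply] at hyinf
    rw [hfix v hv, hhinf] at hyinf
    have h2 := hfix u hu
    have : u a = u inf := by rw [hyinf, h2]
    exact hainf (u.injective this)

/-- a transitive group whose point stabiliser is `k`-fold transitive on the remaining points is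
`(k+1)`-fold transitive -/
theorem ktrans_succ (X Y : Subgroup (Perm α)) (Ω Ω' : Set α) (inf : α) (k : ℕ)
    (hΩ' : ∀ c, c ∈ Ω' ↔ c ∈ Ω ∨ c = inf)
    (hXY : X ≤ Y) (hfix : ∀ x ∈ X, x inf = inf)
    (htrans : ∀ c ∈ Ω, ∃ y ∈ Y, y c = inf)
    (hYΩ : ∀ y ∈ Y, ∀ c ∈ Ω', y c ∈ Ω')
    (hk : KTrans X Ω k) : KTrans Y Ω' (k + 1) := by
  intro x y hx hy hxi hyi
  have hmove : ∀ z : ℕ → α, (∀ j < k + 1, z j ∈ Ω') →
      (∀ j₁ < k + 1, ∀ j₂ < k + 1, z j₁ = z j₂ → j₁ = j₂) →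
      ∃ g₁ ∈ Y, g₁ (z k) = inf ∧ (∀ j < k, g₁ (z j) ∈ Ω) ∧
        (∀ j₁ < k, ∀ j₂ < k, g₁ (z j₁) = g₁ (z j₂) → j₁ = j₂) := by
    intro z hz hzi
    have h1 : ∃ g₁ ∈ Y, g₁ (z k) = inf := by
      rcases (hΩ' (z k)).mp (hz k (Nat.lt_succ_self k)) with h | h
      · exact htrans _ h
      · exact ⟨1, Y.one_mem, by rw [Perm.one_apply, h]⟩
    obtain ⟨g₁, hg₁, hg₁k⟩ := h1
    refine ⟨g₁, hg₁, hg₁k, ?_, ?_⟩
    · intro j hj
      have hmem := hYΩ g₁ hg₁ (z j) (hz j (Nat.lt_succ_of_lt hj))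
      rcases (hΩ' _).mp hmem with h | h
      · exact h
      · exfalso
        rw [← hg₁k] at h
        have := hzi j (Nat.lt_succ_of_lt hj) k (Nat.lt_succ_self k) (g₁.injective h)
        omega
    · intro j₁ hj₁ j₂ hj₂ h
      exact hzi j₁ (Nat.lt_succ_of_lt hj₁) j₂ (Nat.lt_succ_of_lt hj₂) (g₁.injective h)
  obtain ⟨g₁, hg₁, hg₁k, hg₁Ω, hg₁i⟩ := hmove x hx hxi
  obtain ⟨g₂, hg₂, hg₂k, hg₂Ω, hg₂i⟩ := hmove y hy hyi
  obtain ⟨g₃, hg₃, hg₃e⟩ := hk (fun j => g₁ (x j)) (fun j => g₂ (y j)) hg₁Ω hg₂Ω hg₁i hg₂i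
  refine ⟨g₂⁻¹ * g₃ * g₁, Y.mul_mem (Y.mul_mem (Y.inv_mem hg₂) (hXY hg₃)) hg₁, ?_⟩
  intro j hj
  simp only [Perm.mul_apply]
  rcases Nat.lt_succ_iff_lt_or_eq.mp hj with hj' | rfl
  · rw [hg₃e j hj']
    exact g₂.symm_apply_apply (y j)
  · rw [hg₁k, hfix g₃ hg₃, ← hg₂k]
    exact g₂.symm_apply_apply (y j)

end Cfsg.Agent.Lib.Helper4.Witt
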