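import Mathlib
import Cfsg.Agent.Lib.Helper4.WittA

set_option autoImplicit false
set_option linter.unusedSectionVars false
set_option linter.style.haveILetI false

/-!
# Witt's lemma on transitive extensions: the tower
-/

namespace Cfsg.Agent.Lib.Helper4.Witt

open Equiv

variable {α : Type*}

/-- the hypotheses of Witt's lemma -/
structure WittData (t : ℕ) (q : ℕ → α) (G : Subgroup (Perm α)) (s : ℕ → Perm α)
    (H : Subgroup (Perm α)) : Prop where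
  ht : 2 ≤ t
  hq : ∀ i j : ℕ, 1 ≤ i → i ≤ t → 1 ≤ j → j ≤ t → q i = q j → i = j
  hfix : ∀ g ∈ G, ∀ i : ℕ, 3 ≤ i → i ≤ t → g (q i) = q i
  h2 : ∀ a b c d : α, (∀ i, 3 ≤ i → i ≤ t → a ≠ q i ∧ b ≠ q i ∧ c ≠ q i ∧ d ≠ q i) → a ≠ b →
    c ≠ d → ∃ g ∈ G, g a = c ∧ g b = d
  hs1 : s 1 ∈ G
  hs1q : s 1 (q 1) = q 2 ∧ s 1 (q 2) = q 1
  hsq : ∀ i : ℕ, 2 ≤ i → i + 1 ≤ t → s i (q i) = q (i + 1) ∧ s i (q (i + 1)) = q i ∧
    ∀ j : ℕ, 1 ≤ j → j ≤ t → j ≠ i → j ≠ i + 1 → s i (q j) = q j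
  hH : H = G ⊓ MulAction.stabilizer (Perm α) (q 1) ⊓ MulAction.stabilizer (Perm α) (q 2)
  hsq2 : ∀ i : ℕ, 1 ≤ i → i + 1 ≤ t → s i ^ 2 ∈ H
  hbraid : ∀ i : ℕ, 1 ≤ i → i + 2 ≤ t → (s i * s (i + 1)) ^ 3 ∈ H
  hcomm : ∀ i j : ℕ, 1 ≤ i → i + 2 ≤ j → j + 1 ≤ t → (s i * s j) ^ 2 ∈ H ∧ (s j * s i) ^ 2 ∈ H
  hnorm : ∀ i : ℕ, 2 ≤ i → i + 1 ≤ t → ∀ g ∈ G ⊓ MulAction.stabilizer (Perm α) (q 2),
    s i * g * (s i)⁻¹ ∈ G ⊓ MulAction.stabilizer (Perm α) (q 2)

/-- the tower of groups -/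
def Kc (G : Subgroup (Perm α)) (s : ℕ → Perm α) (i : ℕ) : Subgroup (Perm α) :=
  Subgroup.closure ((G : Set (Perm α)) ∪ {x | ∃ j : ℕ, 2 ≤ j ∧ j + 1 ≤ i ∧ x = s j})

/-- the tower of point sets -/
def Om (t : ℕ) (q : ℕ → α) (i : ℕ) : Set α := {c | ∀ j, i + 1 ≤ j → j ≤ t → c ≠ q j}

variable {t : ℕ} {q : ℕ → α} {G : Subgroup (Perm α)} {s : ℕ → Perm α} {H : Subgroup (Perm α)}

theorem G_le_Kc (i : ℕ) : G ≤ Kc G s i := by
  intro g hg
  exact Subgroup.subset_closure (Or.inl hg)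

theorem s_mem_Kc {i j : ℕ} (h1 : 2 ≤ j) (h2 : j + 1 ≤ i) : s j ∈ Kc G s i :=
  Subgroup.subset_closure (Or.inr ⟨j, h1, h2, rfl⟩)

theorem Kc_two : Kc G s 2 = G := by
  apply le_antisymm
  · unfold Kc
    rw [Subgroup.closure_le]
    rintro x (hx | ⟨j, h1, h2, -⟩)
    · exact hx
    · omega
  · exact G_le_Kc 2

theorem Kc_mono (i : ℕ) : Kc G s i ≤ Kc G s (i + 1) := by
  unfold Kc
  apply Subgroup.closure_mono
  rintro x (hx | ⟨j, h1, h2, rfl⟩)
  · exact Or.inl hx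
  · exact Or.inr ⟨j, h1, by omega, rfl⟩

theorem Kc_succ (i : ℕ) (hi : 2 ≤ i) :
    Kc G s (i + 1) = Subgroup.closure ((Kc G s i : Set (Perm α)) ∪ {s i}) := by
  apply le_antisymm
  · unfold Kc
    rw [Subgroup.closure_le]
    rintro x (hx | ⟨j, h1, h2, rfl⟩)
    · exact Subgroup.subset_closure (Or.inl (Subgroup.subset_closure (Or.inl hx)))
    · by_cases hj : j = i
      · rw [hj]
        exact Subgroup.subset_closure (Or.inr rfl)
      · exact Subgroup.subset_closure (Or.inl (Subgroup.subset_closure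
          (Or.inr ⟨j, h1, by omega, rfl⟩)))
  · rw [Subgroup.closure_le]
    rintro x (hx | hx)
    · exact Kc_mono i hx
    · rw [Set.mem_singleton_iff] at hx
      rw [hx]
      exact s_mem_Kc hi (le_refl _)

theorem H_le_G (D : WittData t q G s H) : H ≤ G := by
  rw [D.hH]
  exact inf_le_left.trans inf_le_left

theorem H_fix1 (D : WittData t q G s H) {x : Perm α} (hx : x ∈ H) : x (q 1) = q 1 := by
  rw [D.hH] at hx
  exact MulAction.mem_stabilizer_iff.mp hx.1.2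

theorem H_fix2 (D : WittData t q G s H) {x : Perm α} (hx : x ∈ H) : x (q 2) = q 2 := by
  rw [D.hH] at hx
  exact MulAction.mem_stabilizer_iff.mp hx.2

theorem mem_H (D : WittData t q G s H) {x : Perm α} (hx : x ∈ G) (h1 : x (q 1) = q 1)
    (h2 : x (q 2) = q 2) : x ∈ H := by
  rw [D.hH]
  exact ⟨⟨hx, MulAction.mem_stabilizer_iff.mpr h1⟩, MulAction.mem_stabilizer_iff.mpr h2⟩

/-- elements of the `i`-th group fix the later points -/
theorem Kc_fix (D : WittData t q G s H) (i : ℕ) (hi : 2 ≤ i) :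
    ∀ y ∈ Kc G s i, ∀ j, i + 1 ≤ j → j ≤ t → y (q j) = q j := by
  intro y hy
  unfold Kc at hy
  induction hy using Subgroup.closure_induction with
  | mem y hy =>
    intro j hj1 hj2
    rcases hy with hy | ⟨k, hk1, hk2, rfl⟩
    · exact D.hfix y hy j (by omega) hj2
    · exact (D.hsq k hk1 (by omega)).2.2 j (by omega) hj2 (by omega) (by omega)
  | one => intro j _ _; rfl
  | mul y₁ y₂ _ _ h₁ h₂ =>
    intro j hj1 hj2
    rw [Perm.mul_apply, h₂ j hj1 hj2, h₁ j hj1 hj2]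
  | inv y _ h₁ =>
    intro j hj1 hj2
    rw [Perm.inv_eq_iff_eq, h₁ j hj1 hj2]

theorem Kc_pres (D : WittData t q G s H) (i : ℕ) (hi : 2 ≤ i) :
    ∀ y ∈ Kc G s i, ∀ c ∈ Om t q i, y c ∈ Om t q i := by
  intro y hy c hc j hj1 hj2 h
  apply hc j hj1 hj2
  have := Kc_fix D i hi y hy j hj1 hj2
  rw [← this] at h
  exact y.injective h

theorem q_mem_Om (D : WittData t q G s H) {i j : ℕ} (h1 : 1 ≤ j) (h2 : j ≤ i) (h3 : i ≤ t) :
    q j ∈ Om t q i := by
  intro k hk1 hk2 h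
  have := D.hq j k h1 (by omega) (by omega) hk2 h
  omega

theorem Om_succ (D : WittData t q G s H) (i : ℕ) (hit : i + 1 ≤ t) (c : α) :
    c ∈ Om t q (i + 1) ↔ c ∈ Om t q i ∨ c = q (i + 1) := by
  constructor
  · intro hc
    by_cases hcq : c = q (i + 1)
    · exact Or.inr hcq
    · left
      intro j hj1 hj2
      by_cases hj : j = i + 1
      · rw [hj]; exact hcq
      · exact hc j (by omega) hj2
  · rintro (hc | rfl)
    · intro j hj1 hj2
      exact hc j (by omega) hj2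
    · exact q_mem_Om D (by omega) (le_refl _) hit

/-- conjugation computed from a square relation -/
theorem conj_of_sq {Γ : Type*} [Group Γ] (x y : Γ) :
    x * y * x⁻¹ = (x * y) ^ 2 * y⁻¹ * (x * x)⁻¹ := by
  rw [pow_two]
  group

/-- the later generators normalise `G` -/
theorem normG (D : WittData t q G s H) (i : ℕ) (hi3 : 3 ≤ i) (hit : i + 1 ≤ t) :
    ∀ g ∈ G, s i * g * (s i)⁻¹ ∈ G := by
  have hsi2 : s i * s i ∈ G := by
    have := D.hsq2 i (by omega) hit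
    rw [pow_two] at this
    exact H_le_G D this
  have hq2 : q 2 ∈ Om t q 2 := q_mem_Om D (by omega) (le_refl _) D.ht
  have hq1 : q 1 ∈ Om t q 2 := q_mem_Om D (le_refl _) (by omega) D.ht
  have hq12 : q 1 ≠ q 2 := by
    intro h
    have := D.hq 1 2 (le_refl _) (by have := D.ht; omega) (by omega) D.ht h
    omega
  have hstab : ∀ g ∈ G, g (q 2) = q 2 → s i * g * (s i)⁻¹ ∈ G := by
    intro g hg hg2
    exact (D.hnorm i (by omega) hit g ⟨hg, MulAction.mem_stabilizer_iff.mpr hg2⟩).1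
  have hs1 : s i * s 1 * (s i)⁻¹ ∈ G := by
    rw [conj_of_sq]
    have h1 := (D.hcomm 1 i (le_refl _) (by omega) hit).2
    exact G.mul_mem (G.mul_mem (H_le_G D h1) (G.inv_mem D.hs1)) (G.inv_mem hsi2)
  intro g hg
  by_cases hg2 : g (q 2) = q 2
  · exact hstab g hg hg2
  · -- `g = u * s 1 * v` with `u, v` fixing `q 2`
    have hc : g (q 2) ∈ Om t q 2 := by
      have := Kc_pres D 2 (le_refl _) g (by rw [Kc_two]; exact hg) (q 2) hq2
      exact this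
    have hOm : ∀ c ∈ Om t q 2, ∀ k, 3 ≤ k → k ≤ t → c ≠ q k := fun c hc k hk1 hk2 =>
      hc k hk1 hk2
    obtain ⟨u, hu, hu2, hu1⟩ := D.h2 (q 2) (q 1) (q 2) (g (q 2))
      (fun k hk1 hk2 => ⟨hOm _ hq2 k hk1 hk2, hOm _ hq1 k hk1 hk2, hOm _ hq2 k hk1 hk2,
        hOm _ hc k hk1 hk2⟩) (Ne.symm hq12) (Ne.symm hg2)
    set v := (s 1)⁻¹ * u⁻¹ * g with hv
    have hvG : v ∈ G := G.mul_mem (G.mul_mem (G.inv_mem D.hs1) (G.inv_mem hu)) hg
    have hv2 : v (q 2) = q 2 := by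
      rw [hv]
      simp only [Perm.mul_apply]
      have h1 : u⁻¹ (g (q 2)) = q 1 := by
        rw [Perm.inv_eq_iff_eq]; exact hu1.symm
      have h2 : (s 1)⁻¹ (q 1) = q 2 := by
        rw [Perm.inv_eq_iff_eq]; exact D.hs1q.2.symm
      rw [h1, h2]
    have hguv : g = u * s 1 * v := by rw [hv]; group
    have e : s i * g * (s i)⁻¹ =
        (s i * u * (s i)⁻¹) * (s i * s 1 * (s i)⁻¹) * (s i * v * (s i)⁻¹) := by
      rw [hguv]; group
    rw [e]
    exact G.mul_mem (G.mul_mem (hstab u hu hu2) hs1) (hstab v hvG hv2)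

/-- the later generators normalise the earlier groups of the tower -/
theorem normKc (D : WittData t q G s H) (n i : ℕ) (hn : 2 ≤ n) (hni : n + 1 ≤ i) (hit : i + 1 ≤ t) :
    ∀ x ∈ Kc G s n, s i * x * (s i)⁻¹ ∈ Kc G s n := by
  have hsi2 : s i * s i ∈ Kc G s n := by
    have := D.hsq2 i (by omega) hit
    rw [pow_two] at this
    exact G_le_Kc n (H_le_G D this)
  intro x hx
  have hx' := hx
  unfold Kc at hx'
  induction hx' using Subgroup.closure_induction with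
  | mem y hy =>
    rcases hy with hy | ⟨k, hk1, hk2, rfl⟩
    · exact G_le_Kc n (normG D i (by omega) hit y hy)
    · rw [conj_of_sq]
      have h1 := (D.hcomm k i (by omega) (by omega) hit).2
      exact (Kc G s n).mul_mem ((Kc G s n).mul_mem (G_le_Kc n (H_le_G D h1))
        ((Kc G s n).inv_mem (s_mem_Kc hk1 hk2))) ((Kc G s n).inv_mem hsi2)
  | one =>
    rw [mul_one, mul_inv_cancel]
    exact (Kc G s n).one_mem
  | mul y₁ y₂ hy₁ hy₂ h₁ h₂ =>
    have e : s i * (y₁ * y₂) * (s i)⁻¹ = (s i * y₁ * (s i)⁻¹) * (s i * y₂ * (s i)⁻¹) := by group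
    rw [e]
    exact (Kc G s n).mul_mem (h₁ hy₁) (h₂ hy₂)
  | inv y hy h₁ =>
    have e : s i * y⁻¹ * (s i)⁻¹ = (s i * y * (s i)⁻¹)⁻¹ := by group
    rw [e]
    exact (Kc G s n).inv_mem (h₁ hy)

end Cfsg.Agent.Lib.Helper4.Witt
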