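import Mathlib
import Cfsg.Agent.Lib.Helper4.WittB

set_option autoImplicit false
set_option linter.unusedSectionVars false
set_option linter.style.haveILetI false

/-!
# Witt's lemma on transitive extensions: the induction
-/

namespace Cfsg.Agent.Lib.Helper4.Witt

open Equiv

variable {α : Type*} {t : ℕ} {q : ℕ → α} {G : Subgroup (Perm α)} {s : ℕ → Perm α}
  {H : Subgroup (Perm α)}

/-- the invariant at level `i` -/
def Inv (t : ℕ) (q : ℕ → α) (G : Subgroup (Perm α)) (s : ℕ → Perm α) (i : ℕ) : Prop :=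
  (∀ c ∈ Om t q i, ∃ x ∈ Kc G s i, x c = q i) ∧
  (∀ c ∈ Om t q i, c ≠ q i → ∃ u ∈ Kc G s i, u (q i) = q i ∧ u (q (i - 1)) = c) ∧
  KTrans (Kc G s i) (Om t q i) i ∧
  (i + 1 ≤ t → ∀ x ∈ Kc G s i, x (q i) = q i → s i * x * (s i)⁻¹ ∈ Kc G s i) ∧
  (3 ≤ i → ∀ y ∈ Kc G s i, y (q i) = q i → y ∈ Kc G s (i - 1))

theorem inv_two (D : WittData t q G s H) : Inv t q G s 2 := by
  have hK : Kc G s 2 = G := Kc_two
  have hq2 : q 2 ∈ Om t q 2 := q_mem_Om D (by omega) (le_refl _) D.ht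
  have hq1 : q 1 ∈ Om t q 2 := q_mem_Om D (le_refl _) (by omega) D.ht
  have hq12 : q 1 ≠ q 2 := by
    intro h
    have := D.hq 1 2 (le_refl _) (by have := D.ht; omega) (by omega) D.ht h
    omega
  have hOm : ∀ c ∈ Om t q 2, ∀ k, 3 ≤ k → k ≤ t → c ≠ q k := fun c hc k hk1 hk2 =>
    hc k hk1 hk2
  refine ⟨?_, ?_, ?_, ?_, ?_⟩
  · intro c hc
    by_cases hcq : c = q 2
    · exact ⟨1, one_mem _, by rw [hcq]; rfl⟩
    · obtain ⟨g, hg, hg1, -⟩ := D.h2 c (q 2) (q 2) c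
        (fun k hk1 hk2 => ⟨hOm _ hc k hk1 hk2, hOm _ hq2 k hk1 hk2, hOm _ hq2 k hk1 hk2,
          hOm _ hc k hk1 hk2⟩) hcq (Ne.symm hcq)
      exact ⟨g, G_le_Kc 2 hg, hg1⟩
  · intro c hc hcq
    obtain ⟨u, hu, hu1, hu2⟩ := D.h2 (q 2) (q 1) (q 2) c
      (fun k hk1 hk2 => ⟨hOm _ hq2 k hk1 hk2, hOm _ hq1 k hk1 hk2, hOm _ hq2 k hk1 hk2,
        hOm _ hc k hk1 hk2⟩) (Ne.symm hq12) (Ne.symm hcq)
    exact ⟨u, G_le_Kc 2 hu, hu1, hu2⟩
  · intro x y hx hy hxi hyi
    have hx01 : x 0 ≠ x 1 := by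
      intro h
      have := hxi 0 (by omega) 1 (by omega) h
      omega
    have hy01 : y 0 ≠ y 1 := by
      intro h
      have := hyi 0 (by omega) 1 (by omega) h
      omega
    obtain ⟨g, hg, hg1, hg2⟩ := D.h2 (x 0) (x 1) (y 0) (y 1)
      (fun k hk1 hk2 => ⟨hOm _ (hx 0 (by omega)) k hk1 hk2, hOm _ (hx 1 (by omega)) k hk1 hk2,
        hOm _ (hy 0 (by omega)) k hk1 hk2, hOm _ (hy 1 (by omega)) k hk1 hk2⟩) hx01 hy01
    refine ⟨g, G_le_Kc 2 hg, ?_⟩
    intro j hj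
    interval_cases j
    · exact hg1
    · exact hg2
  · intro h3 x hx hx2
    rw [hK] at hx ⊢
    exact (D.hnorm 2 (le_refl _) h3 x ⟨hx, MulAction.mem_stabilizer_iff.mpr hx2⟩).1
  · intro h
    omega

theorem inv_succ (D : WittData t q G s H) (i : ℕ) (hi : 2 ≤ i) (hit : i + 1 ≤ t)
    (ih : Inv t q G s i) : Inv t q G s (i + 1) := by
  obtain ⟨I1, I2, I3, I5, -⟩ := ih
  set X := Kc G s i with hX
  have hfixX : ∀ x ∈ X, x (q (i + 1)) = q (i + 1) := fun x hx =>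
    Kc_fix D i hi x hx (i + 1) (le_refl _) hit
  have hgX : s (i - 1) ∈ X := by
    rcases Nat.lt_or_ge i 3 with h | h
    · have h2 : i = 2 := by omega
      subst h2
      exact G_le_Kc 2 D.hs1
    · exact s_mem_Kc (by omega) (by omega)
  have hga : s (i - 1) (q i) = q (i - 1) ∧ s (i - 1) (q (i - 1)) = q i := by
    rcases Nat.lt_or_ge i 3 with h | h
    · have h2 : i = 2 := by omega
      subst h2
      exact ⟨D.hs1q.2, D.hs1q.1⟩
    · have := D.hsq (i - 1) (by omega) (by omega)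
      have e : i - 1 + 1 = i := by omega
      rw [e] at this
      exact ⟨this.2.1, this.1⟩
  have hh := D.hsq i hi hit
  have hh2 : s i * s i ∈ X := by
    have := D.hsq2 i (by omega) hit
    rw [pow_two] at this
    exact G_le_Kc i (H_le_G D this)
  have hbr : (s (i - 1) * s i) ^ 3 ∈ X := by
    have := D.hbraid (i - 1) (by omega) (by omega)
    have e : i - 1 + 1 = i := by omega
    rw [e] at this
    exact G_le_Kc i (H_le_G D this)
  have haOm : q i ∈ Om t q i := q_mem_Om D (by omega) (le_refl _) (by omega)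
  have hainf : q i ≠ q (i + 1) := by
    intro h
    have := D.hq i (i + 1) (by omega) (by omega) (by omega) hit h
    omega
  have hdc : ∀ x ∈ X, x (q i) ≠ q i →
      ∃ u ∈ X, ∃ v ∈ X, u (q i) = q i ∧ v (q i) = q i ∧ x = u * s (i - 1) * v := by
    intro x hx hxa
    have hc := Kc_pres D i hi x hx (q i) haOm
    obtain ⟨u, hu, hua, hub⟩ := I2 (x (q i)) hc hxa
    refine ⟨u, hu, (s (i - 1))⁻¹ * u⁻¹ * x,
      X.mul_mem (X.mul_mem (X.inv_mem hgX) (X.inv_mem hu)) hx, hua, ?_, by group⟩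
    simp only [Perm.mul_apply]
    have h1 : u⁻¹ (x (q i)) = q (i - 1) := by
      rw [Perm.inv_eq_iff_eq]; exact hub.symm
    have h2 : (s (i - 1))⁻¹ (q (i - 1)) = q i := by
      rw [Perm.inv_eq_iff_eq]; exact hga.1.symm
    rw [h1, h2]
  have hC1 := one_step X (q i) (s (i - 1)) hgX (s i) hh2 (I5 hit) hbr hdc
  rw [← Kc_succ i hi] at hC1
  have hC2 : ∀ y ∈ Kc G s (i + 1), y (q (i + 1)) = q (i + 1) → y ∈ X := fun y hy hyinf =>
    stab_of_one_step X (q i) (q (i + 1)) hainf hfixX (s i) hh.2.1 y (hC1 y hy) hyinf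
  have hXY : X ≤ Kc G s (i + 1) := Kc_mono i
  have hsY : s i ∈ Kc G s (i + 1) := s_mem_Kc hi (le_refl _)
  have htrans : ∀ c ∈ Om t q (i + 1), ∃ x ∈ Kc G s (i + 1), x c = q (i + 1) := by
    intro c hc
    rcases (Om_succ D i hit c).mp hc with h | h
    · obtain ⟨x, hx, hxc⟩ := I1 c h
      refine ⟨s i * x, (Kc G s (i + 1)).mul_mem hsY (hXY hx), ?_⟩
      rw [Perm.mul_apply, hxc]
      exact hh.1
    · exact ⟨1, one_mem _, by rw [h]; rfl⟩
  refine ⟨htrans, ?_, ?_, ?_, ?_⟩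
  · intro c hc hcq
    have e : i + 1 - 1 = i := by omega
    rw [e]
    rcases (Om_succ D i hit c).mp hc with h | h
    · obtain ⟨x, hx, hxc⟩ := I1 c h
      refine ⟨x⁻¹, (Kc G s (i + 1)).inv_mem (hXY hx), ?_, ?_⟩
      · rw [Perm.inv_eq_iff_eq]
        exact (hfixX x hx).symm
      · rw [Perm.inv_eq_iff_eq]
        exact hxc.symm
    · exact absurd h hcq
  · apply ktrans_succ X (Kc G s (i + 1)) (Om t q i) (Om t q (i + 1)) (q (i + 1)) i
      (Om_succ D i hit) hXY hfixX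
    · intro c hc
      exact htrans c ((Om_succ D i hit c).mpr (Or.inl hc))
    · exact Kc_pres D (i + 1) (by omega)
    · exact I3
  · intro hit2 x hx hxq
    have hxX := hC2 x hx hxq
    exact hXY (normKc D i (i + 1) hi (le_refl _) hit2 x hxX)
  · intro _ y hy hyq
    have e : i + 1 - 1 = i := by omega
    rw [e]
    exact hC2 y hy hyq

theorem inv_all (D : WittData t q G s H) (i : ℕ) (hi : 2 ≤ i) (hit : i ≤ t) : Inv t q G s i := by
  induction i, hi using Nat.le_induction with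
  | base => exact inv_two D
  | succ i hi ih => exact inv_succ D i hi hit (ih (by omega))

end Cfsg.Agent.Lib.Helper4.Witt
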