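import Mathlib
import Cfsg.Agent.Lib.Helper4.WittC

set_option autoImplicit false
set_option linter.unusedSectionVars false
set_option linter.style.haveILetI false

/-!
# Witt's lemma on transitive extensions: the conclusion
-/

namespace Cfsg.Agent.Lib.Helper4.Witt

open Equiv

variable {α : Type*} {t : ℕ} {q : ℕ → α} {G : Subgroup (Perm α)} {s : ℕ → Perm α}
  {H : Subgroup (Perm α)}

theorem witt_transitive (D : WittData t q G s H) :
    MulAction.IsMultiplyPretransitive ↥(Kc G s t) α t := by
  have hK := (inv_all D t D.ht (le_refl _)).2.2.1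
  have htpos : 0 < t := by have := D.ht; omega
  rw [MulAction.isMultiplyPretransitive_iff]
  intro x y
  obtain ⟨g, hg, hge⟩ := hK (fun j => if h : j < t then x ⟨j, h⟩ else x ⟨0, htpos⟩)
    (fun j => if h : j < t then y ⟨j, h⟩ else y ⟨0, htpos⟩)
    (fun j _ k hk1 hk2 => by omega) (fun j _ k hk1 hk2 => by omega)
    (by
      intro j₁ h₁ j₂ h₂ h
      simp only [dif_pos h₁, dif_pos h₂] at h
      have := x.injective h
      exact congrArg Fin.val this)
    (by
      intro j₁ h₁ j₂ h₂ h
      simp only [dif_pos h₁, dif_pos h₂] at h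
      have := y.injective h
      exact congrArg Fin.val this)
  refine ⟨⟨g, hg⟩, ?_⟩
  ext j
  have := hge j.1 j.2
  simp only [dif_pos j.2] at this
  exact this

theorem witt_stabilizer (D : WittData t q G s H) :
    Kc G s t ⊓ fixingSubgroup (Perm α) {x | ∃ i : ℕ, 1 ≤ i ∧ i ≤ t ∧ x = q i} = H := by
  have key : ∀ i, 2 ≤ i → i ≤ t → ∀ y ∈ Kc G s i,
      (∀ j, 1 ≤ j → j ≤ t → y (q j) = q j) → y ∈ H := by
    intro i hi
    induction i, hi using Nat.le_induction with
    | base =>
      intro _ y hy hfix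
      rw [Kc_two] at hy
      exact mem_H D hy (hfix 1 (le_refl _) (by have := D.ht; omega)) (hfix 2 (by omega) D.ht)
    | succ i hi ih =>
      intro hit y hy hfix
      have hinv := (inv_all D (i + 1) (by omega) hit).2.2.2.2 (by omega) y hy
        (hfix (i + 1) (by omega) hit)
      have e : i + 1 - 1 = i := by omega
      rw [e] at hinv
      exact ih (by omega) y hinv hfix
  ext y
  constructor
  · rintro ⟨hyK, hyfix⟩
    apply key t D.ht (le_refl _) y hyK
    intro j hj1 hj2
    exact (mem_fixingSubgroup_iff (Perm α)).mp hyfix (q j) ⟨j, hj1, hj2, rfl⟩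
  · intro hy
    refine ⟨G_le_Kc t (H_le_G D hy), ?_⟩
    show y ∈ fixingSubgroup (Perm α) {x | ∃ i : ℕ, 1 ≤ i ∧ i ≤ t ∧ x = q i}
    rw [mem_fixingSubgroup_iff]
    rintro _ ⟨j, hj1, hj2, rfl⟩
    show y (q j) = q j
    by_cases h3 : 3 ≤ j
    · exact D.hfix y (H_le_G D hy) j h3 hj2
    · have : j = 1 ∨ j = 2 := by omega
      rcases this with rfl | rfl
      · exact H_fix1 D hy
      · exact H_fix2 D hy

end Cfsg.Agent.Lib.Helper4.Witt
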