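import Mathlib
import Cfsg.Agent.Lib.Helper4.GTZJ
import Cfsg.Agent.Lib.Lead.OmegaFaithful
import Cfsg.Agent.Lib.Helper7.Thompson
import Cfsg.Agent.H1.ThompsonNPC

/-!
# The full centre `Z(J_e(D))` of the elementary abelian Thompson subgroup is normal

For odd `p`, in a finite group `G` with `C_G(O_p(G)) ≤ O_p(G)` acting `p`-stably on its normal `p`-subgroups, and a
subgroup `D` strongly closed in a Sylow `p`-subgroup, `Z(J_e(D))` (`Cfsg.centerThompsonOf p D`) is normal in `G`.
The proof follows Glauberman's, replacing a minimal normal `p`-subgroup `B = ⟨(Z ∩ B)^G⟩` (of class at most two, with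
`B' ≤ Z`) by `E = Ω₁(B)`, whose derived group lies in every elementary abelian subgroup of largest order, and using
that `p'`-elements centralizing `Ω₁(B)` centralize `B`.

Consequence: `D ↦ Z(J_e(D))` is a `PFunctor`, so the Glauberman–Thompson theorem holds for it.
-/

set_option autoImplicit false
set_option linter.style.haveILetI false
set_option linter.unusedVariables false
set_option linter.unusedSectionVars false

open scoped commutatorElement

namespace Cfsg.Agent.Lib.Helper4.ZJE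

open Cfsg Cfsg.Agent.Lib.Helper4.ZJ Cfsg.Agent.Lib.Helper4.ZJ2 Cfsg.Agent.Lib.Helper4.GT
  Cfsg.Agent.Lib.Helper4.GTZJ Cfsg.Agent.Lib.Lead.Conj

section basic

variable {G : Type*} [Group G]

/-- the elementary abelian subgroups of `D` of largest order -/
abbrev famE (p : ℕ) (D : Subgroup G) : Set (Subgroup G) :=
  fam (fun A : Subgroup G => Cfsg.IsElementaryAbelian p A) D

theorem le_J {p : ℕ} {D A : Subgroup G} (hA : A ∈ famE p D) : A ≤ Cfsg.thompsonSubgroupOf p D :=
  Cfsg.Agent.Lib.Helper7.IsMaxEA.le_thompsonSubgroupOf hA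

theorem J_le {p : ℕ} (D : Subgroup G) : Cfsg.thompsonSubgroupOf p D ≤ D :=
  Cfsg.Agent.Lib.Helper7.thompsonSubgroupOf_le D

theorem J_le_of {p : ℕ} {D K : Subgroup G} (h : ∀ A ∈ famE p D, A ≤ K) :
    Cfsg.thompsonSubgroupOf p D ≤ K :=
  Cfsg.Agent.Lib.Helper7.thompsonSubgroupOf_le_of h

theorem Z_le_J {p : ℕ} (D : Subgroup G) : Cfsg.centerThompsonOf p D ≤ Cfsg.thompsonSubgroupOf p D :=
  inf_le_left

theorem Z_le {p : ℕ} (D : Subgroup G) : Cfsg.centerThompsonOf p D ≤ D :=
  (Z_le_J D).trans (J_le D)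

theorem Z_comm {p : ℕ} (D : Subgroup G) :
    ∀ x ∈ Cfsg.centerThompsonOf p D, ∀ y ∈ Cfsg.centerThompsonOf p D, x * y = y * x := by
  intro x hx y hy
  exact Subgroup.mem_centralizer_iff.mp hy.2 x hx.1

theorem zj_le_Z [Finite G] {p : ℕ} (D : Subgroup G) :
    zj (fun A : Subgroup G => Cfsg.IsElementaryAbelian p A) D ≤ Cfsg.centerThompsonOf p D := by
  intro z hz
  obtain ⟨A₀, hA₀⟩ := fam_nonempty (Cfsg.Agent.S0654.goodEl (G := G) p) D
  refine Subgroup.mem_inf.mpr ⟨le_J hA₀ (zj_le hA₀ hz), ?_⟩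
  have h1 : Cfsg.thompsonSubgroupOf p D ≤ Subgroup.centralizer ({z} : Set G) := by
    apply J_le_of
    intro A hA a ha
    rw [Subgroup.mem_centralizer_iff]
    intro k hk
    rw [Set.mem_singleton_iff.mp hk]
    have hab := (mem_fam.mp hA).2.1.1
    have h2 := hab.is_comm.comm ⟨z, zj_le hA hz⟩ ⟨a, ha⟩
    exact congrArg Subtype.val h2
  rw [Subgroup.mem_centralizer_iff]
  intro h hh
  exact (Subgroup.mem_centralizer_iff.mp (h1 hh) z (Set.mem_singleton z)).symm

theorem mem_zj_of_mem_Z [Finite G] {p : ℕ} {D : Subgroup G} {z : G}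
    (hz : z ∈ Cfsg.centerThompsonOf p D) (hzp : z ^ p = 1) :
    z ∈ zj (fun A : Subgroup G => Cfsg.IsElementaryAbelian p A) D := by
  unfold zj
  rw [Subgroup.mem_sInf]
  intro A hA
  apply mem_of_commute_el hA (Z_le D hz) hzp
  intro a ha
  exact Subgroup.mem_centralizer_iff.mp hz.2 a (le_J hA ha)

theorem J_conj_mem {p : ℕ} {D : Subgroup G} {n : G}
    (hn : n ∈ Subgroup.normalizer (D : Set G)) {x : G} (hx : x ∈ Cfsg.thompsonSubgroupOf p D) :
    n * x * n⁻¹ ∈ Cfsg.thompsonSubgroupOf p D := by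
  have h1 := Cfsg.Agent.Lib.Helper7.thompsonSubgroupOf_map_conj (p := p) D n
  rw [map_conj_eq_of_mem_normalizer hn] at h1
  rw [h1]
  exact ⟨x, hx, rfl⟩

theorem CJ_conj_mem {p : ℕ} {D : Subgroup G} {n : G}
    (hn : n ∈ Subgroup.normalizer (D : Set G)) {x : G}
    (hx : x ∈ Subgroup.centralizer (Cfsg.thompsonSubgroupOf p D : Set G)) :
    n * x * n⁻¹ ∈ Subgroup.centralizer (Cfsg.thompsonSubgroupOf p D : Set G) := by
  rw [Subgroup.mem_centralizer_iff] at hx ⊢
  intro h hh
  have h1 : n⁻¹ * h * n⁻¹⁻¹ ∈ Cfsg.thompsonSubgroupOf p D :=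
    J_conj_mem ((Subgroup.normalizer (D : Set G)).inv_mem hn) hh
  have h2 := hx _ h1
  have e1 : h * (n * x * n⁻¹) = n * ((n⁻¹ * h * n⁻¹⁻¹) * x) * n⁻¹ := by group
  have e2 : n * x * n⁻¹ * h = n * (x * (n⁻¹ * h * n⁻¹⁻¹)) * n⁻¹ := by group
  rw [e1, e2, h2]

theorem Z_conj_mem {p : ℕ} {D : Subgroup G} {n : G}
    (hn : n ∈ Subgroup.normalizer (D : Set G)) {x : G} (hx : x ∈ Cfsg.centerThompsonOf p D) :
    n * x * n⁻¹ ∈ Cfsg.centerThompsonOf p D :=
  Subgroup.mem_inf.mpr ⟨J_conj_mem hn hx.1, CJ_conj_mem hn hx.2⟩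

end basic

section helpers

variable {G : Type*} [Group G]

/-- a normal subgroup that is a `p`-group modulo `C` lies in the preimage of `O_p(G/C)` -/
theorem le_comap_pCore [Finite G] {p : ℕ} [Fact p.Prime] (C M : Subgroup G) [C.Normal] [hMn : M.Normal]
    (h : ∀ m ∈ M, ∃ k : ℕ, m ^ p ^ k ∈ C) :
    M ≤ (Cfsg.pCore p (G ⧸ C)).comap (QuotientGroup.mk' C) := by
  haveI hn : (M.map (QuotientGroup.mk' C)).Normal :=
    hMn.map _ (QuotientGroup.mk'_surjective C)
  have hp : IsPGroup p ↥(M.map (QuotientGroup.mk' C)) := by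
    rintro ⟨y, m, hm, rfl⟩
    obtain ⟨k, hk⟩ := h m hm
    refine ⟨k, Subtype.ext ?_⟩
    rw [Subgroup.coe_pow, Subgroup.coe_one]
    show (QuotientGroup.mk' C m) ^ p ^ k = 1
    rw [← map_pow, QuotientGroup.mk'_apply, QuotientGroup.eq_one_iff]
    exact hk
  have hle := Cfsg.Agent.H9.le_pCore _ hp
  intro m hm
  rw [Subgroup.mem_comap]
  exact hle (Subgroup.mem_map_of_mem _ hm)

/-- an element commuting with the elements of order `p` of the normal `p`-subgroup `B` (`p` odd) has a `p`-power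
power centralizing `B` -/
theorem pow_mem_centralizer_of_small [Finite G] {p : ℕ} [Fact p.Prime] (hp2 : p ≠ 2)
    (B : Subgroup G) [hBn : B.Normal] (hB : IsPGroup p ↥B) (c : G)
    (hc : ∀ x ∈ B, x ^ p = 1 → c * x = x * c) :
    ∃ k : ℕ, c ^ p ^ k ∈ Subgroup.centralizer (B : Set G) := by
  have hp : p.Prime := Fact.out
  have hpos : 0 < orderOf c := orderOf_pos c
  obtain ⟨k, m, hm, hkm⟩ := Nat.exists_eq_pow_mul_and_not_dvd hpos.ne' p hp.ne_one
  refine ⟨k, ?_⟩
  have hord : orderOf (c ^ p ^ k) = m := by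
    rw [orderOf_pow' c (pow_pos hp.pos k).ne', hkm, Nat.gcd_eq_right (Dvd.intro _ rfl)]
    exact Nat.mul_div_cancel_left m (pow_pos hp.pos k)
  apply Cfsg.Agent.Lib.Lead.OmegaFaithful.centralizes_of_fixes_small B hB
  · rw [Subgroup.normalizer_eq_top_iff.mpr hBn]; exact Subgroup.mem_top _
  · rw [hord]
    exact (Nat.Prime.coprime_iff_not_dvd hp).mpr hm |>.symm
  · intro x hx hsmall
    have hxp : x ^ p = 1 := by
      rcases hsmall with h | ⟨h, -⟩
      · exact h
      · exact absurd h hp2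
    have h1 : Commute c x := hc x hx hxp
    have h2 : Commute (c ^ p ^ k) x := h1.pow_left _
    rw [h2.eq, mul_inv_cancel_right]

/-- with `L / C_G(B) = O_p(G / C_G(B))` and `R = S ∩ L`: `G = N_G(R) R C_G(B)` -/
theorem frattini_decomp [Finite G] {p : ℕ} [Fact p.Prime] (S : Sylow p G) (B : Subgroup G)
    [hBn : B.Normal] (L R : Subgroup G)
    (hL : L = (Cfsg.pCore p (G ⧸ Subgroup.centralizer (B : Set G))).comap
      (QuotientGroup.mk' (Subgroup.centralizer (B : Set G))))
    (hR : R = (S : Subgroup G) ⊓ L) :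
    ∀ g : G, ∃ n ∈ Subgroup.normalizer (R : Set G), ∃ r ∈ R,
      ∃ c ∈ Subgroup.centralizer (B : Set G), g = n * (r * c) := by
  haveI hPn : (Cfsg.pCore p (G ⧸ Subgroup.centralizer (B : Set G))).Normal :=
    Cfsg.Agent.H9.pCore_normal p _
  have hPp : IsPGroup p ↥(Cfsg.pCore p (G ⧸ Subgroup.centralizer (B : Set G))) :=
    Cfsg.Agent.H9.pCore_isPGroup p _
  haveI hLn : L.Normal := by rw [hL]; exact hPn.comap _
  have hmemL : ∀ l, l ∈ L ↔ (QuotientGroup.mk l : G ⧸ Subgroup.centralizer (B : Set G)) ∈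
      Cfsg.pCore p (G ⧸ Subgroup.centralizer (B : Set G)) := by
    intro l; rw [hL]; exact Iff.rfl
  have hCL : Subgroup.centralizer (B : Set G) ≤ L := by
    intro c hc
    rw [hmemL]
    have h1 : (QuotientGroup.mk c : G ⧸ Subgroup.centralizer (B : Set G)) = 1 :=
      (QuotientGroup.eq_one_iff c).mpr hc
    rw [h1]; exact Subgroup.one_mem _
  have hLRC : ∀ l ∈ L, ∃ r ∈ R, ∃ c ∈ Subgroup.centralizer (B : Set G), l = r * c := by
    intro l hl
    have h1 := (hmemL l).mp hl
    have hSbar : Cfsg.pCore p (G ⧸ Subgroup.centralizer (B : Set G)) ≤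
        ((S.mapSurjective (QuotientGroup.mk'_surjective (Subgroup.centralizer (B : Set G))) :
          Sylow p (G ⧸ Subgroup.centralizer (B : Set G))) :
            Subgroup (G ⧸ Subgroup.centralizer (B : Set G))) :=
      hPp.le_sylow_of_normal _
    have h2 : (QuotientGroup.mk l : G ⧸ Subgroup.centralizer (B : Set G)) ∈
        (S : Subgroup G).map (QuotientGroup.mk' (Subgroup.centralizer (B : Set G))) := hSbar h1
    obtain ⟨s, hs, hsl⟩ := h2
    have h3 : s⁻¹ * l ∈ Subgroup.centralizer (B : Set G) := QuotientGroup.eq.mp hsl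
    have hsL : s ∈ L := by
      have h4 : l * (s⁻¹ * l)⁻¹ ∈ L := L.mul_mem hl (L.inv_mem (hCL h3))
      have e : l * (s⁻¹ * l)⁻¹ = s := by group
      rw [e] at h4; exact h4
    refine ⟨s, ?_, s⁻¹ * l, h3, by group⟩
    rw [hR]; exact Subgroup.mem_inf.mpr ⟨hs, hsL⟩
  have hfrat : ∀ g : G, ∃ n ∈ Subgroup.normalizer (R : Set G), ∃ l ∈ L, n * l = g := by
    have hnd : ¬ p ∣ (((S : Subgroup G) ⊓ L).subgroupOf L).index :=
      not_dvd_index_inf_normal (S : Subgroup G) L S.not_dvd_index
    have hRp : IsPGroup p ↥(((S : Subgroup G) ⊓ L).subgroupOf L) :=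
      (S.isPGroup'.to_le inf_le_left).comap_subtype
    have hF := Sylow.normalizer_sup_eq_top (hRp.toSylow hnd)
    have hF' : Subgroup.normalizer (R : Set G) ⊔ L = ⊤ := by
      have e : ((((S : Subgroup G) ⊓ L).subgroupOf L).map L.subtype) = R := by
        rw [hR]; exact Subgroup.map_subgroupOf_eq_of_le inf_le_right
      rw [← e]; exact hF
    intro g
    have hg' : g ∈ Subgroup.normalizer (R : Set G) ⊔ L := by rw [hF']; exact Subgroup.mem_top g
    exact Subgroup.mem_sup_of_normal_right.mp hg'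
  intro g
  obtain ⟨n, hn, l, hl, rfl⟩ := hfrat g
  obtain ⟨r, hr, c, hc, rfl⟩ := hLRC l hl
  exact ⟨n, hn, r, hr, c, hc, rfl⟩

/-- a subgroup of `B` invariant under `N_G(S ∩ L)` is normal in `G` -/
theorem normal_of_inv [Finite G] {p : ℕ} [Fact p.Prime] (S : Sylow p G) (B : Subgroup G)
    [hBn : B.Normal] (L R : Subgroup G)
    (hL : L = (Cfsg.pCore p (G ⧸ Subgroup.centralizer (B : Set G))).comap
      (QuotientGroup.mk' (Subgroup.centralizer (B : Set G))))
    (hR : R = (S : Subgroup G) ⊓ L) (Y : Subgroup G) (hYB : Y ≤ B)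
    (hinv : ∀ n ∈ Subgroup.normalizer (R : Set G), ∀ y ∈ Y, n * y * n⁻¹ ∈ Y) : Y.Normal := by
  refine ⟨fun y hy g => ?_⟩
  obtain ⟨n, hn, r, hr, c, hc, rfl⟩ := frattini_decomp S B L R hL hR g
  have h1 : c * y * c⁻¹ ∈ Y := by
    have h2 : y * c = c * y := Subgroup.mem_centralizer_iff.mp hc y (hYB hy)
    rw [← h2, mul_inv_cancel_right]
    exact hy
  have h2 := hinv r (Subgroup.le_normalizer hr) _ h1
  have h3 := hinv n hn _ h2
  have e : n * (r * c) * y * (n * (r * c))⁻¹ = n * (r * (c * y * c⁻¹) * r⁻¹) * n⁻¹ := by group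
  rw [e]; exact h3

/-- `N_G(S ∩ L)` normalizes `D ∩ L` for `D` strongly closed in `S` and `L` normal -/
theorem normalizer_R_le [Finite G] {p : ℕ} [Fact p.Prime] (S : Sylow p G) (D : Subgroup G)
    (hD : Cfsg.IsStronglyClosed D (S : Subgroup G)) (L R : Subgroup G) [hLn : L.Normal]
    (hR : R = (S : Subgroup G) ⊓ L) :
    ∀ n ∈ Subgroup.normalizer (R : Set G),
      n ∈ Subgroup.normalizer ((D ⊓ L : Subgroup G) : Set G) := by
  obtain ⟨hDS, hDcl⟩ := hD
  have hRS : R ≤ (S : Subgroup G) := by rw [hR]; exact inf_le_left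
  intro n hn
  apply mem_normalizer_of_conj_mem
  intro x hx
  obtain ⟨hxD, hxL⟩ := Subgroup.mem_inf.mp hx
  have hxR : x ∈ R := by rw [hR]; exact Subgroup.mem_inf.mpr ⟨hDS hxD, hxL⟩
  have h1 : n * x * n⁻¹ ∈ R := (Subgroup.mem_set_normalizer_iff.mp hn x).mp hxR
  exact Subgroup.mem_inf.mpr ⟨hDcl x hxD n (hRS h1), hLn.conj_mem x hxL n⟩

end helpers

section main

variable {G : Type*} [Group G]

theorem Z_inf_normal_aux [Finite G] {p : ℕ} [Fact p.Prime] (hp : p ≠ 2)
    (hst : ∀ (P : Subgroup G) [P.Normal], IsPGroup p P → Cfsg.IsPStableOn p P) (S : Sylow p G)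
    (D : Subgroup G) (hD : Cfsg.IsStronglyClosed D (S : Subgroup G)) (Z : Subgroup G)
    (hZ : Z = Cfsg.centerThompsonOf p D) :
    ∀ n : ℕ, ∀ B : Subgroup G, B.Normal → IsPGroup p B → Nat.card B = n →
      ∀ g : G, ∀ x ∈ Z ⊓ B, g * x * g⁻¹ ∈ Z ⊓ B := by
  have hpp : p.Prime := Fact.out
  have hg := Cfsg.Agent.S0654.goodEl (G := G) p
  have hSle := sylow_le_normalizer_of_stronglyClosed (S : Subgroup G) D hD
  have hDn : ∀ s ∈ (S : Subgroup G), ∀ d ∈ D, s * d * s⁻¹ ∈ D := by
    intro s hs d hd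
    exact (Subgroup.mem_set_normalizer_iff.mp (hSle hs) d).mp hd
  have hZS : ∀ s ∈ (S : Subgroup G), ∀ z ∈ Z, s * z * s⁻¹ ∈ Z := by
    intro s hs z hz
    rw [hZ] at hz ⊢
    exact Z_conj_mem (hSle hs) hz
  have hZab : ∀ x ∈ Z, ∀ y ∈ Z, x * y = y * x := by
    rw [hZ]; exact Z_comm D
  have hZD : Z ≤ D := by rw [hZ]; exact Z_le D
  intro n
  induction n using Nat.strong_induction_on with
  | _ n ih =>
    intro B hBn hBp hcard g x hx
    haveI := hBn
    have hBS : B ≤ (S : Subgroup G) := hBp.le_sylow_of_normal S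
    by_cases hB1 : Subgroup.normalClosure ((Z ⊓ B : Subgroup G) : Set G) = B
    · by_cases hBbot : B = ⊥
      · have hx1 : x = 1 := by
          have h1 := (Subgroup.mem_inf.mp hx).2
          rw [hBbot] at h1
          exact Subgroup.mem_bot.mp h1
        rw [hx1, mul_one, mul_inv_cancel]
        exact Subgroup.one_mem _
      · have hB'lt : ⁅B, B⁆ < B := commutator_lt_of_pgroup B hBp hBbot
        have hB'le : ⁅B, B⁆ ≤ B := hB'lt.le
        have hY : ∀ g : G, ∀ y ∈ Z ⊓ ⁅B, B⁆, g * y * g⁻¹ ∈ Z ⊓ ⁅B, B⁆ :=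
          ih _ (by rw [← hcard]; exact Cfsg.Agent.S0651.card_lt_of_lt hB'lt) ⁅B, B⁆ inferInstance
            (hBp.to_le hB'le) rfl
        have hXB : ∀ x ∈ Z ⊓ B, ∀ b ∈ B, ⁅x, b⁆ ∈ Z ⊓ ⁅B, B⁆ := by
          intro x hx b hb
          obtain ⟨hxZ, hxB⟩ := Subgroup.mem_inf.mp hx
          refine Subgroup.mem_inf.mpr ⟨?_, Subgroup.commutator_mem_commutator hxB hb⟩
          have h1 : b * x⁻¹ * b⁻¹ ∈ Z := hZS b (hBS hb) x⁻¹ (Z.inv_mem hxZ)
          have e : ⁅x, b⁆ = x * (b * x⁻¹ * b⁻¹) := by rw [commutatorElement_def]; group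
          rw [e]; exact Z.mul_mem hxZ h1
        have hmem : ∀ x ∈ ((Z ⊓ B : Subgroup G) : Set G), ∀ g : G, ∀ b ∈ B,
            ⁅g * x * g⁻¹, b⁆ ∈ Z ⊓ ⁅B, B⁆ := by
          intro x hx g b hb
          have hb' : g⁻¹ * b * g⁻¹⁻¹ ∈ B := hBn.conj_mem b hb g⁻¹
          have h1 := hXB x (SetLike.mem_coe.mp hx) _ hb'
          have h2 := hY g _ h1
          have e : ⁅g * x * g⁻¹, b⁆ = g * ⁅x, g⁻¹ * b * g⁻¹⁻¹⁆ * g⁻¹ := by
            simp only [commutatorElement_def]; group
          rw [e]; exact h2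
        have hone : ∀ b ∈ B, ⁅(1 : G), b⁆ ∈ Z ⊓ ⁅B, B⁆ := by
          intro b _
          rw [commutatorElement_one_left]
          exact Subgroup.one_mem _
        have hmul : ∀ u v : G, (∀ b ∈ B, ⁅u, b⁆ ∈ Z ⊓ ⁅B, B⁆) → (∀ b ∈ B, ⁅v, b⁆ ∈ Z ⊓ ⁅B, B⁆) →
            ∀ b ∈ B, ⁅u * v, b⁆ ∈ Z ⊓ ⁅B, B⁆ := by
          intro u v ihu ihv b hb
          have e : ⁅u * v, b⁆ = u * ⁅v, b⁆ * u⁻¹ * ⁅u, b⁆ := by
            simp only [commutatorElement_def]; group
          rw [e]
          exact Subgroup.mul_mem _ (hY u _ (ihv b hb)) (ihu b hb)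
        have hinv : ∀ u : G, (∀ b ∈ B, ⁅u, b⁆ ∈ Z ⊓ ⁅B, B⁆) →
            ∀ b ∈ B, ⁅u⁻¹, b⁆ ∈ Z ⊓ ⁅B, B⁆ := by
          intro u ihu b hb
          have e : ⁅u⁻¹, b⁆ = u⁻¹ * ⁅u, b⁆⁻¹ * u⁻¹⁻¹ := by
            simp only [commutatorElement_def]; group
          rw [e]
          exact hY u⁻¹ _ (Subgroup.inv_mem _ (ihu b hb))
        have hBB : ∀ u ∈ B, ∀ b ∈ B, ⁅u, b⁆ ∈ Z ⊓ ⁅B, B⁆ := by
          intro u hu
          have hu' : u ∈ Subgroup.normalClosure ((Z ⊓ B : Subgroup G) : Set G) := by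
            rw [hB1]; exact hu
          exact nc_induction ((Z ⊓ B : Subgroup G) : Set G)
            (fun u => ∀ b ∈ B, ⁅u, b⁆ ∈ Z ⊓ ⁅B, B⁆) hmem hone hmul hinv u hu'
        have hB'Z : ⁅B, B⁆ ≤ Z := by
          rw [Subgroup.commutator_le]
          intro u hu b hb
          exact (Subgroup.mem_inf.mp (hBB u hu b hb)).1
        -- `B ≤ D`
        have hBD : B ≤ D := by
          intro b hb
          have hb' : b ∈ Subgroup.normalClosure ((Z ⊓ B : Subgroup G) : Set G) := by
            rw [hB1]; exact hb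
          exact nc_induction ((Z ⊓ B : Subgroup G) : Set G) (fun u => u ∈ D)
            (fun y hy g => hD.2 y (hZD (Subgroup.mem_inf.mp (SetLike.mem_coe.mp hy)).1) g
              (hBS (hBn.conj_mem y (Subgroup.mem_inf.mp (SetLike.mem_coe.mp hy)).2 g)))
            D.one_mem (fun u v hu hv => D.mul_mem hu hv) (fun u hu => D.inv_mem hu) b hb'
        -- `B' ≤ Z(B)`
        have hB'c : ∀ c ∈ ⁅B, B⁆, ∀ b ∈ B, b * c = c * b := by
          intro c hc b hb
          have hb' : b ∈ Subgroup.normalClosure ((Z ⊓ B : Subgroup G) : Set G) := by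
            rw [hB1]; exact hb
          have key : ∀ u ∈ Subgroup.normalClosure ((Z ⊓ B : Subgroup G) : Set G),
              ∀ c ∈ ⁅B, B⁆, u * c = c * u := by
            apply nc_induction ((Z ⊓ B : Subgroup G) : Set G) (fun u => ∀ c ∈ ⁅B, B⁆, u * c = c * u)
            · intro y hy g c hc
              have hc' : g⁻¹ * c * g⁻¹⁻¹ ∈ ⁅B, B⁆ :=
                (inferInstance : (⁅B, B⁆).Normal).conj_mem c hc g⁻¹
              have h1 := hZab y (Subgroup.mem_inf.mp (SetLike.mem_coe.mp hy)).1 _ (hB'Z hc')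
              have e1 : g * y * g⁻¹ * c = g * (y * (g⁻¹ * c * g⁻¹⁻¹)) * g⁻¹ := by group
              have e2 : c * (g * y * g⁻¹) = g * ((g⁻¹ * c * g⁻¹⁻¹) * y) * g⁻¹ := by group
              rw [e1, e2, h1]
            · intro c _; rw [one_mul, mul_one]
            · intro u v hu hv c hc
              rw [mul_assoc, hv c hc, ← mul_assoc, hu c hc, mul_assoc]
            · intro u hu c hc
              have h1 := hu c hc
              calc u⁻¹ * c = u⁻¹ * (c * u) * u⁻¹ := by group
                _ = u⁻¹ * (u * c) * u⁻¹ := by rw [h1]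
                _ = c * u⁻¹ := by group
          exact key b hb' c hc
        -- `E = Ω₁(B)`
        have hodd : p % 2 = 1 := by
          rcases hpp.eq_two_or_odd with h | h
          · exact absurd h hp
          · exact h
        have hEmul : ∀ a ∈ B, ∀ b ∈ B, a ^ p = 1 → b ^ p = 1 → (a * b) ^ p = 1 := by
          intro a ha b hb hap hbp
          obtain ⟨z, hzdef⟩ : ∃ z : G, z = ⁅b⁻¹, a⁻¹⁆ := ⟨_, rfl⟩
          have hzB' : z ∈ ⁅B, B⁆ := by
            rw [hzdef]
            exact Subgroup.commutator_mem_commutator (B.inv_mem hb) (B.inv_mem ha)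
          have h : b * a = a * b * z := by
            rw [hzdef, commutatorElement_def]; group
          have hza : z * a = a * z := (hB'c z hzB' a ha).symm
          have hzb : z * b = b * z := (hB'c z hzB' b hb).symm
          have h1 := Cfsg.Agent.Lib.Lead.OmegaFaithful.class_two_pow_comm h hza hzb p
          rw [hbp, one_mul, mul_one] at h1
          have hzp : z ^ p = 1 := by
            have h2 : a * 1 = a * z ^ p := by rw [mul_one]; exact h1
            exact (mul_left_cancel h2).symm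
          have h3 := Cfsg.Agent.Lib.Lead.OmegaFaithful.class_two_pow h hza hzb p
          rw [h3, hap, hbp, one_mul, one_mul,
            Cfsg.Agent.Lib.Lead.OmegaFaithful.sum_range_prime_odd hodd, pow_mul, hzp, one_pow]
        obtain ⟨E, hE⟩ : ∃ E : Subgroup G, ∀ x, x ∈ E ↔ x ∈ B ∧ x ^ p = 1 :=
          ⟨{ carrier := {x | x ∈ B ∧ x ^ p = 1}
             mul_mem' := by
               rintro a b ⟨ha, hap⟩ ⟨hb, hbp⟩
               exact ⟨B.mul_mem ha hb, hEmul a ha b hb hap hbp⟩
             one_mem' := ⟨B.one_mem, one_pow p⟩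
             inv_mem' := by
               rintro a ⟨ha, hap⟩
               exact ⟨B.inv_mem ha, by rw [inv_pow, hap, inv_one]⟩ }, fun x => Iff.rfl⟩
        haveI hEn : E.Normal := ⟨fun x hx g => by
          rw [hE] at hx ⊢
          refine ⟨hBn.conj_mem x hx.1 g, ?_⟩
          rw [conj_pow, hx.2, mul_one, mul_inv_cancel]⟩
        have hEB : E ≤ B := fun x hx => ((hE x).mp hx).1
        have hEp : IsPGroup p ↥E := hBp.to_le hEB
        have hcomm_pow : ∀ a ∈ E, ∀ b ∈ E, ⁅a, b⁆ ^ p = 1 := by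
          intro a ha b hb
          have haB := hEB ha
          have hbB := hEB hb
          have hbp := ((hE b).mp hb).2
          have hcB' : ⁅a, b⁆ ∈ ⁅B, B⁆ := Subgroup.commutator_mem_commutator haB hbB
          have hcb : Commute ⁅a, b⁆ b := (hB'c _ hcB' b hbB).symm
          have h1 : ⁅a, b⁆ * b = a * b * a⁻¹ := by rw [commutatorElement_def]; group
          have h2 : (⁅a, b⁆ * b) ^ p = 1 := by
            rw [h1, conj_pow, hbp, mul_one, mul_inv_cancel]
          rw [hcb.mul_pow, hbp, mul_one] at h2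
          exact h2
        have hE'A : ∀ A ∈ famE p D, ⁅E, E⁆ ≤ A := by
          intro A hA
          rw [Subgroup.commutator_le]
          intro a ha b hb
          have hc : ⁅a, b⁆ ∈ Z := hB'Z (Subgroup.commutator_mem_commutator (hEB ha) (hEB hb))
          rw [hZ] at hc
          exact zj_le hA (mem_zj_of_mem_Z hc (hcomm_pow a ha b hb))
        -- the subgroup `L`
        haveI hPn : (Cfsg.pCore p (G ⧸ Subgroup.centralizer (B : Set G))).Normal :=
          Cfsg.Agent.H9.pCore_normal p _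
        obtain ⟨L, hL⟩ : ∃ L, L = (Cfsg.pCore p (G ⧸ Subgroup.centralizer (B : Set G))).comap
            (QuotientGroup.mk' (Subgroup.centralizer (B : Set G))) := ⟨_, rfl⟩
        haveI hLn : L.Normal := by rw [hL]; exact hPn.comap _
        obtain ⟨R, hR⟩ : ∃ R, R = (S : Subgroup G) ⊓ L := ⟨_, rfl⟩
        have hCE : ∀ c ∈ Subgroup.centralizer (E : Set G),
            ∃ k : ℕ, c ^ p ^ k ∈ Subgroup.centralizer (B : Set G) := by
          intro c hc
          apply pow_mem_centralizer_of_small hp B hBp c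
          intro x hx hxp
          exact (Subgroup.mem_centralizer_iff.mp hc x ((hE x).mpr ⟨hx, hxp⟩)).symm
        have hNR := normalizer_R_le S D hD L R hR
        by_cases hall : ∀ A ∈ famE p D, E ≤ A
        · -- `E` lies in every member of the family
          have hJE : Cfsg.thompsonSubgroupOf p D ≤ Subgroup.centralizer (E : Set G) := by
            apply J_le_of
            intro A hA a ha
            rw [Subgroup.mem_centralizer_iff]
            intro e he
            have hab := (mem_fam.mp hA).2.1.1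
            have h2 := hab.is_comm.comm ⟨e, hall A hA he⟩ ⟨a, ha⟩
            exact congrArg Subtype.val h2
          have hCEL : Subgroup.centralizer (E : Set G) ≤ L := by
            rw [hL]
            exact le_comap_pCore _ _ hCE
          have hJL : Cfsg.thompsonSubgroupOf p D ≤ D ⊓ L := le_inf (J_le D) (hJE.trans hCEL)
          have hJeq : Cfsg.thompsonSubgroupOf p (D ⊓ L) = Cfsg.thompsonSubgroupOf p D :=
            Cfsg.Agent.H1.J_eq_of_le hJL inf_le_left
          have hZeq : Cfsg.centerThompsonOf p (D ⊓ L) = Cfsg.centerThompsonOf p D := by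
            unfold Cfsg.centerThompsonOf
            rw [hJeq]
          have hYn : (Z ⊓ B).Normal := by
            apply normal_of_inv S B L R hL hR (Z ⊓ B) inf_le_right
            intro n hn y hy
            obtain ⟨hyZ, hyB⟩ := Subgroup.mem_inf.mp hy
            refine Subgroup.mem_inf.mpr ⟨?_, hBn.conj_mem y hyB n⟩
            rw [hZ, ← hZeq]
            apply Z_conj_mem (hNR n hn)
            rw [hZeq, ← hZ]
            exact hyZ
          exact hYn.conj_mem x hx g
        · exfalso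
          push Not at hall
          obtain ⟨A, hA, hnEA⟩ := hall
          obtain ⟨A₁, hA₁, hnEA₁, hnorm⟩ :=
            repl_sub' hp hg (S : Subgroup G) S.isPGroup' D hD.1 hDn E (hEB.trans hBS) A hA
              (hE'A A hA) hnEA
          obtain ⟨hA₁D, hA₁g, hA₁max⟩ := mem_fam.mp hA₁
          have hA₁ab := hg.ab A₁ hA₁g
          have hcommA₁ : ∀ a ∈ A₁, ∀ c ∈ A₁, a * c = c * a := by
            intro a ha c hc
            have h1 := hA₁ab.is_comm.comm ⟨a, ha⟩ ⟨c, hc⟩
            have h2 : a * c = c * a := congrArg Subtype.val h1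
            exact h2
          -- `A₁` lies in `O_p(G mod C_G(E))`
          haveI hPEn : (Cfsg.pCore p (G ⧸ Subgroup.centralizer (E : Set G))).Normal :=
            Cfsg.Agent.H9.pCore_normal p _
          have hPEp := Cfsg.Agent.H9.pCore_isPGroup p (G ⧸ Subgroup.centralizer (E : Set G))
          obtain ⟨LE, hLE⟩ : ∃ LE, LE =
              (Cfsg.pCore p (G ⧸ Subgroup.centralizer (E : Set G))).comap
                (QuotientGroup.mk' (Subgroup.centralizer (E : Set G))) := ⟨_, rfl⟩
          haveI hLEn : LE.Normal := by rw [hLE]; exact hPEn.comap _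
          have hA₁LE : A₁ ≤ LE := by
            intro a ha
            rw [hLE, Subgroup.mem_comap]
            apply hst E hEp
            have hza : Subgroup.zpowers a ≤ A₁ := Subgroup.zpowers_le.mpr ha
            have h1 : ⁅E, Subgroup.zpowers a⁆ ≤ A₁ := by
              rw [Subgroup.commutator_le]
              intro u hu w hw
              have hwA := hza hw
              have h2 := hnorm u hu w hwA
              rw [commutatorElement_def]
              exact A₁.mul_mem h2 (A₁.inv_mem hwA)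
            have hAA : ⁅A₁, A₁⁆ = ⊥ := by
              rw [Subgroup.commutator_eq_bot_iff_le_centralizer]
              intro a' ha'
              rw [Subgroup.mem_centralizer_iff]
              intro h hh
              exact hcommA₁ h hh a' ha'
            rw [eq_bot_iff, ← hAA]
            exact Subgroup.commutator_mono h1 hza
          have hLEL : LE ≤ L := by
            rw [hL]
            apply le_comap_pCore
            intro l hl
            rw [hLE, Subgroup.mem_comap] at hl
            obtain ⟨k₁, hk₁⟩ := hPEp ⟨_, hl⟩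
            have hk₁' : (QuotientGroup.mk' (Subgroup.centralizer (E : Set G)) l) ^ p ^ k₁ = 1 := by
              have h2 := congrArg Subtype.val hk₁
              simpa using h2
            rw [← map_pow, QuotientGroup.mk'_apply, QuotientGroup.eq_one_iff] at hk₁'
            obtain ⟨k₂, hk₂⟩ := hCE _ hk₁'
            refine ⟨k₁ + k₂, ?_⟩
            rw [pow_add, pow_mul]
            exact hk₂
          have hA₁DL : A₁ ≤ D ⊓ L := le_inf hA₁D (hA₁LE.trans hLEL)
          have hsub : famE p (D ⊓ L) ⊆ famE p D := fam_subset inf_le_left hA₁ hA₁DL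
          have hA₁fam : A₁ ∈ famE p (D ⊓ L) := mem_fam_of_le inf_le_left hA₁ hA₁DL
          have hJle : Cfsg.thompsonSubgroupOf p (D ⊓ L) ≤ Cfsg.thompsonSubgroupOf p D :=
            J_le_of (fun A hA => le_J (hsub hA))
          obtain ⟨Y, hYdef⟩ : ∃ Y : Subgroup G,
              Y = Subgroup.centralizer (Cfsg.thompsonSubgroupOf p (D ⊓ L) : Set G) ⊓ B := ⟨_, rfl⟩
          have hYn : Y.Normal := by
            apply normal_of_inv S B L R hL hR Y (by rw [hYdef]; exact inf_le_right)
            intro n hn y hy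
            rw [hYdef] at hy ⊢
            obtain ⟨hyC, hyB⟩ := Subgroup.mem_inf.mp hy
            exact Subgroup.mem_inf.mpr ⟨CJ_conj_mem (hNR n hn) hyC, hBn.conj_mem y hyB n⟩
          have hXY : Z ⊓ B ≤ Y := by
            intro y hy
            obtain ⟨hyZ, hyB⟩ := Subgroup.mem_inf.mp hy
            rw [hYdef]
            refine Subgroup.mem_inf.mpr ⟨?_, hyB⟩
            rw [hZ] at hyZ
            exact Subgroup.centralizer_le hJle hyZ.2
          have hBY : B ≤ Y := by
            have h1 : Subgroup.normalClosure ((Z ⊓ B : Subgroup G) : Set G) ≤ Y := by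
              haveI := hYn
              apply Subgroup.normalClosure_le_normal
              intro y hy
              exact hXY hy
            rw [hB1] at h1
            exact h1
          apply hnEA₁
          intro e he
          apply mem_of_commute_el hA₁ (hBD (hEB he)) ((hE e).mp he).2
          intro a ha
          have h1 := hBY (hEB he)
          rw [hYdef] at h1
          exact Subgroup.mem_centralizer_iff.mp (Subgroup.mem_inf.mp h1).1 a (le_J hA₁fam ha)
    · have hle : Subgroup.normalClosure ((Z ⊓ B : Subgroup G) : Set G) ≤ B :=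
        Subgroup.normalClosure_le_normal
          (fun y hy => (Subgroup.mem_inf.mp (SetLike.mem_coe.mp hy)).2)
      have hlt : Subgroup.normalClosure ((Z ⊓ B : Subgroup G) : Set G) < B :=
        lt_of_le_of_ne hle hB1
      have hc := Cfsg.Agent.S0651.card_lt_of_lt hlt
      have hx1 : x ∈ Z ⊓ Subgroup.normalClosure ((Z ⊓ B : Subgroup G) : Set G) :=
        Subgroup.mem_inf.mpr ⟨(Subgroup.mem_inf.mp hx).1,
          Subgroup.subset_normalClosure (SetLike.mem_coe.mpr hx)⟩
      have h2 := ih _ (by rw [← hcard]; exact hc) _ Subgroup.normalClosure_normal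
        (hBp.to_le hle) rfl g x hx1
      exact Subgroup.mem_inf.mpr ⟨(Subgroup.mem_inf.mp h2).1, hle (Subgroup.mem_inf.mp h2).2⟩

/-- **ZJ-theorem for the full centre of the elementary abelian Thompson subgroup** of a strongly closed subgroup -/
theorem Z_normal [Finite G] {p : ℕ} [Fact p.Prime] (hp : p ≠ 2)
    (hc : Subgroup.centralizer (Cfsg.pCore p G : Set G) ≤ Cfsg.pCore p G)
    (hst : ∀ (P : Subgroup G) [P.Normal], IsPGroup p P → Cfsg.IsPStableOn p P) (S : Sylow p G)
    (D : Subgroup G) (hD : Cfsg.IsStronglyClosed D (S : Subgroup G)) :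
    (Cfsg.centerThompsonOf p D).Normal := by
  haveI hQn : (Cfsg.pCore p G).Normal := Cfsg.Agent.H9.pCore_normal p G
  have hQp : IsPGroup p ↥(Cfsg.pCore p G) := Cfsg.Agent.H9.pCore_isPGroup p G
  have hQS : Cfsg.pCore p G ≤ (S : Subgroup G) := hQp.le_sylow_of_normal S
  have hSle := sylow_le_normalizer_of_stronglyClosed (S : Subgroup G) D hD
  have hZS : ∀ s ∈ (S : Subgroup G), ∀ z ∈ Cfsg.centerThompsonOf p D,
      s * z * s⁻¹ ∈ Cfsg.centerThompsonOf p D :=
    fun s hs z hz => Z_conj_mem (hSle hs) hz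
  have hZab := Z_comm (p := p) D
  have hZQ : Cfsg.centerThompsonOf p D ≤ Cfsg.pCore p G := by
    intro z hz
    have hq : ⁅⁅Cfsg.pCore p G, Subgroup.zpowers z⁆, Subgroup.zpowers z⁆ = ⊥ := by
      have hzz : Subgroup.zpowers z ≤ Cfsg.centerThompsonOf p D := Subgroup.zpowers_le.mpr hz
      have h1 : ⁅Cfsg.pCore p G, Subgroup.zpowers z⁆ ≤ Cfsg.centerThompsonOf p D := by
        rw [Subgroup.commutator_le]
        intro u hu w hw
        have hwZ := hzz hw
        have h2 := hZS u (hQS hu) w hwZ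
        rw [commutatorElement_def]
        exact Subgroup.mul_mem _ h2 (Subgroup.inv_mem _ hwZ)
      have hZZ : ⁅Cfsg.centerThompsonOf p D, Cfsg.centerThompsonOf p D⁆ = ⊥ := by
        rw [Subgroup.commutator_eq_bot_iff_le_centralizer]
        intro a ha
        rw [Subgroup.mem_centralizer_iff]
        intro h hh
        exact hZab h hh a ha
      rw [eq_bot_iff, ← hZZ]
      exact Subgroup.commutator_mono h1 hzz
    have h1 := hst (Cfsg.pCore p G) hQp z hq
    haveI hPn : (Cfsg.pCore p (G ⧸ Subgroup.centralizer (Cfsg.pCore p G : Set G))).Normal :=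
      Cfsg.Agent.H9.pCore_normal p _
    have hPp := Cfsg.Agent.H9.pCore_isPGroup p (G ⧸ Subgroup.centralizer (Cfsg.pCore p G : Set G))
    obtain ⟨LQ, hLQ⟩ : ∃ LQ, LQ =
        (Cfsg.pCore p (G ⧸ Subgroup.centralizer (Cfsg.pCore p G : Set G))).comap
          (QuotientGroup.mk' (Subgroup.centralizer (Cfsg.pCore p G : Set G))) := ⟨_, rfl⟩
    haveI hLQn : LQ.Normal := by rw [hLQ]; exact hPn.comap _
    have hLQp : IsPGroup p ↥LQ := by
      intro ⟨l, hl⟩
      rw [hLQ] at hl
      have hl' : (QuotientGroup.mk l : G ⧸ Subgroup.centralizer (Cfsg.pCore p G : Set G)) ∈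
          Cfsg.pCore p (G ⧸ Subgroup.centralizer (Cfsg.pCore p G : Set G)) := hl
      obtain ⟨k, hk⟩ := hPp ⟨_, hl'⟩
      have hk' : (QuotientGroup.mk l : G ⧸ Subgroup.centralizer (Cfsg.pCore p G : Set G)) ^
          (p ^ k) = 1 := by
        have h2 := congrArg Subtype.val hk
        simpa using h2
      rw [← QuotientGroup.mk_pow, QuotientGroup.eq_one_iff] at hk'
      obtain ⟨m, hm⟩ := hQp ⟨_, hc hk'⟩
      have hm' : (l ^ p ^ k) ^ p ^ m = 1 := by
        have h2 := congrArg Subtype.val hm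
        simpa using h2
      refine ⟨k + m, Subtype.ext ?_⟩
      rw [Subgroup.coe_pow, Subgroup.coe_one, pow_add, pow_mul]
      exact hm'
    have hle : LQ ≤ Cfsg.pCore p G := Cfsg.Agent.H9.le_pCore LQ hLQp
    apply hle
    rw [hLQ]
    exact h1
  refine ⟨fun x hx g => ?_⟩
  have h1 := Z_inf_normal_aux hp hst S D hD _ rfl _ (Cfsg.pCore p G) hQn hQp rfl g x
    (Subgroup.mem_inf.mpr ⟨hx, hZQ hx⟩)
  exact (Subgroup.mem_inf.mp h1).1

end main

section functor

universe u

/-- the functor `D ↦ Z(J_e(D))` -/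
def WZE (p : ℕ) (X : Type u) [Group X] (D : Subgroup X) : Subgroup X :=
  Cfsg.centerThompsonOf p D

theorem pFunctor_WZE {p : ℕ} [Fact p.Prime] (hp2 : p ≠ 2) : PFunctor p (WZE.{u} p) where
  le := fun X _ _ D => Z_le D
  ne_bot := fun X _ _ D hD hne => by
    intro h
    apply (pFunctor_WEl hp2).ne_bot X D hD hne
    unfold WEl
    unfold WZE at h
    rw [eq_bot_iff, ← h]
    exact zj_le_Z D
  map := fun X Y _ _ _ _ f D hinj => by
    unfold WZE Cfsg.centerThompsonOf
    rw [Cfsg.Agent.H1.thompsonSubgroupOf_map f D hinj]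
    exact Cfsg.Agent.H1.center_map f (Cfsg.thompsonSubgroupOf p D)
      (fun x hx => hinj x (J_le D hx))
  normal := fun X _ _ P D hD hc hst => by
    unfold WZE
    exact Z_normal hp2 hc hst P D hD

/-- **Glauberman–Thompson normal `p`-complement theorem** for `Z(J_e(P))`, `J_e` the elementary abelian Thompson
subgroup -/
theorem glauberman_thompson_ZJe {G : Type u} [Group G] [Finite G] {p : ℕ} [Fact p.Prime] (hp2 : p ≠ 2)
    (P : Sylow p G)
    (hN : Cfsg.HasNormalPComplement p
      ↥(Subgroup.normalizer (Cfsg.centerThompsonOf p (P : Subgroup G) : Set G))) :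
    Cfsg.HasNormalPComplement p G := by
  have hD : Cfsg.IsStronglyClosed (P : Subgroup G) (P : Subgroup G) :=
    ⟨le_rfl, fun x _ g h => h⟩
  exact gt_main hp2 (pFunctor_WZE hp2) G P (P : Subgroup G) hD hN

end functor

end Cfsg.Agent.Lib.Helper4.ZJE
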