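import Mathlib

/-! Abstract lemmas on Z-groups of odd order with an involutory automorphism (helper4). -/

set_option autoImplicit false

namespace Cfsg.Agent.Lib.Helper4.ZassOdd

/-- an element whose square commutes with `z` commutes with `z`, if its order is odd -/
theorem commute_of_sq_commute {X : Type*} [Group X] (x z : X) (hodd : Odd (orderOf x))
    (h : Commute (x ^ 2) z) : Commute x z := by
  obtain ⟨k, hk⟩ := hodd
  have hx : x = (x ^ 2) ^ (k + 1) := by
    rw [← pow_mul]
    have : 2 * (k + 1) = orderOf x + 1 := by omega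
    rw [this, pow_succ, pow_orderOf_eq_one, one_mul]
  rw [hx]
  exact h.pow_left _

/-- **Z1**: a finite Z-group of odd order with an automorphism inverting it modulo its commutator
subgroup is commutative. -/
theorem isCyclic_of_inverts_mod_commutator {X : Type*} [Group X] [Finite X] [IsZGroup X]
    (hodd : Odd (Nat.card X)) (τ : MulAut X) (hinv : ∀ x : X, τ x * x ∈ commutator X) :
    IsCyclic X := by
  classical
  set D : Subgroup X := commutator X with hD
  have hDcyc : IsCyclic D := IsZGroup.isCyclic_commutator X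
  have hDn : D.Normal := inferInstance
  obtain ⟨g₀, hg₀⟩ := hDcyc.exists_generator
  -- D is commutative
  have hDcomm : ∀ u ∈ D, ∀ v ∈ D, u * v = v * u := by
    intro u hu v hv
    obtain ⟨i, hi⟩ := Subgroup.mem_zpowers_iff.mp (hg₀ ⟨u, hu⟩)
    obtain ⟨j, hj⟩ := Subgroup.mem_zpowers_iff.mp (hg₀ ⟨v, hv⟩)
    have hu' : u = (g₀ : X) ^ i := by
      have := congrArg Subtype.val hi; simpa using this.symm
    have hv' : v = (g₀ : X) ^ j := by
      have := congrArg Subtype.val hj; simpa using this.symm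
    rw [hu', hv', ← zpow_add, ← zpow_add, add_comm]
  -- conjugation acts on D as a power map
  have hpow : ∀ x : X, ∃ j : ℤ, ∀ y ∈ D, x * y * x⁻¹ = y ^ j := by
    intro x
    have hx : x * (g₀ : X) * x⁻¹ ∈ D := hDn.conj_mem _ g₀.2 x
    obtain ⟨j, hj⟩ := Subgroup.mem_zpowers_iff.mp (hg₀ ⟨_, hx⟩)
    have hj' : x * (g₀ : X) * x⁻¹ = (g₀ : X) ^ j := by
      have := congrArg Subtype.val hj; simpa using this.symm
    refine ⟨j, fun y hy => ?_⟩
    obtain ⟨k, hk⟩ := Subgroup.mem_zpowers_iff.mp (hg₀ ⟨y, hy⟩)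
    have hy' : y = (g₀ : X) ^ k := by
      have := congrArg Subtype.val hk; simpa using this.symm
    rw [hy']
    have : x * (g₀ : X) ^ k * x⁻¹ = (x * (g₀ : X) * x⁻¹) ^ k := by
      rw [conj_zpow]
    rw [this, hj', ← zpow_mul, ← zpow_mul, mul_comm]
  -- τ preserves D
  have hτD : ∀ y : X, y ∈ D ↔ τ y ∈ D := by
    intro y
    have hchar : D.Characteristic := by rw [hD]; infer_instance
    have := Subgroup.characteristic_iff_comap_eq.mp hchar τ
    conv_lhs => rw [← this]
    rfl
  -- key: conjugation by x and by x⁻¹ agree on D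
  have hkey : ∀ x : X, ∀ z ∈ D, x * z * x⁻¹ = x⁻¹ * z * x := by
    intro x z hz
    obtain ⟨j, hj⟩ := hpow x
    set y := τ⁻¹ z with hy
    have hτy : τ y = z := by rw [hy]; exact MulEquiv.apply_symm_apply τ z
    have hyD : y ∈ D := by rw [hτD, hτy]; exact hz
    have h1 : τ (x * y * x⁻¹) = x * z * x⁻¹ := by
      rw [hj y hyD, map_zpow, hτy, ← hj z hz]
    have h2 : τ (x * y * x⁻¹) = τ x * z * (τ x)⁻¹ := by
      rw [map_mul, map_mul, map_inv, hτy]
    have hδ : τ x * x ∈ D := hinv x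
    have hw : x⁻¹ * z * x ∈ D := by
      have := hDn.conj_mem z hz x⁻¹
      simpa using this
    have h3 : τ x * z * (τ x)⁻¹ = (τ x * x) * (x⁻¹ * z * x) * (τ x * x)⁻¹ := by group
    rw [← h1, h2, h3, hDcomm _ hδ _ hw]
    group
  -- D is central
  have hcent : D ≤ Subgroup.center X := by
    intro z hz
    rw [Subgroup.mem_center_iff]
    intro x
    have hxodd : Odd (orderOf x) := by
      exact Odd.of_dvd_nat hodd (orderOf_dvd_natCard x)
    have hsq : Commute (x ^ 2) z := by
      have := hkey x z hz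
      show x ^ 2 * z = z * x ^ 2
      have e : x ^ 2 * z = x * (x * z * x⁻¹) * x := by rw [sq]; group
      rw [e, this, sq]; group
    exact (commute_of_sq_commute x z hxodd hsq).eq
  -- hence nilpotent, hence cyclic
  haveI : Group.IsNilpotent X := by
    refine Subgroup.isNilpotent_of_ker_le_center (Abelianization.of : X →* Abelianization X) ?_
    rw [Abelianization.ker_of]
    exact hcent
  exact inferInstance

/-- **Z2**: an involutory automorphism of a cyclic group of odd order is inversion, or fixes all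
`q`-elements for some prime `q` dividing the order. -/
theorem inverts_or_fixes {A : Type*} [Group A] [Finite A] [IsCyclic A]
    (hodd : Odd (Nat.card A)) (σ : MulAut A) (hσ : ∀ x, σ (σ x) = x) :
    (∀ x, σ x = x⁻¹) ∨ ∃ q : ℕ, q.Prime ∧ q ∣ Nat.card A ∧
      ∀ y : A, (∃ k, y ^ (q ^ k) = 1) → σ y = y := by
  classical
  obtain ⟨g, hg⟩ := IsCyclic.exists_generator (α := A)
  set m := Nat.card A with hm
  have hord : orderOf g = m := orderOf_eq_card_of_forall_mem_zpowers hg
  obtain ⟨e, he⟩ : ∃ e : ℕ, σ g = g ^ e := by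
    obtain ⟨e, he⟩ := (Subgroup.mem_zpowers_iff).mp (hg (σ g))
    refine ⟨(e % (orderOf g : ℤ)).toNat, ?_⟩
    have hpos : (0 : ℤ) < orderOf g := by
      exact_mod_cast orderOf_pos g
    have h0 : 0 ≤ e % (orderOf g : ℤ) := Int.emod_nonneg _ hpos.ne'
    rw [← zpow_natCast, Int.toNat_of_nonneg h0, zpow_mod_orderOf, he]
  have hσpow : ∀ x : A, σ x = x ^ e := by
    intro x
    obtain ⟨i, hi⟩ := (Subgroup.mem_zpowers_iff).mp (hg x)
    rw [← hi, map_zpow, he, ← zpow_natCast, ← zpow_natCast, ← zpow_mul, ← zpow_mul, mul_comm]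
  -- m ∣ e^2 - 1 in ℤ
  have hdiv : (m : ℤ) ∣ (e : ℤ) ^ 2 - 1 := by
    have h1 : g ^ (e * e) = g := by
      have := hσ g
      rw [hσpow g, hσpow (g ^ e), ← pow_mul] at this
      exact this
    have h2 : g ^ ((e : ℤ) ^ 2 - 1) = 1 := by
      rw [zpow_sub, zpow_one, sq]
      have : g ^ ((e : ℤ) * (e : ℤ)) = g ^ (e * e) := by
        rw [← Nat.cast_mul, zpow_natCast]
      rw [this, h1, mul_inv_cancel]
    rw [← hord]
    exact orderOf_dvd_iff_zpow_eq_one.mpr h2
  by_cases hall : (m : ℤ) ∣ (e : ℤ) + 1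
  · left
    intro x
    rw [hσpow x, eq_inv_iff_mul_eq_one, ← pow_succ]
    have hx : orderOf x ∣ m := orderOf_dvd_natCard x
    have : (orderOf x : ℤ) ∣ ((e + 1 : ℕ) : ℤ) := by
      push_cast
      exact (Int.natCast_dvd_natCast.mpr hx).trans hall
    exact orderOf_dvd_iff_pow_eq_one.mp (Int.natCast_dvd_natCast.mp this)
  · right
    -- find a prime power of m not dividing e + 1
    have hmpos : 0 < m := Nat.card_pos
    have hnd : ¬ m ∣ e + 1 := by
      intro h
      apply hall
      have := Int.natCast_dvd_natCast.mpr h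
      push_cast at this
      exact this
    rw [Nat.dvd_iff_prime_pow_dvd_dvd] at hnd
    push Not at hnd
    obtain ⟨q, k, hq, hqk, hqk'⟩ := hnd
    have hk0 : k ≠ 0 := by
      rintro rfl
      simp at hqk'
    have hqm : q ∣ m := (dvd_pow_self q hk0).trans hqk
    have hq2 : q ≠ 2 := by
      rintro rfl
      have : Even m := (even_iff_two_dvd).mpr hqm
      exact (Nat.not_even_iff_odd.mpr hodd) this
    -- q^k ∣ (e-1)(e+1), q ∤ e + 1 or ... 
    have hqkdiv : ((q ^ k : ℕ) : ℤ) ∣ ((e : ℤ) - 1) * ((e : ℤ) + 1) := by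
      have : ((e : ℤ) - 1) * ((e : ℤ) + 1) = (e : ℤ) ^ 2 - 1 := by ring
      rw [this]
      exact (Int.natCast_dvd_natCast.mpr hqk).trans hdiv
    have hqprime : Prime (q : ℤ) := Nat.prime_iff_prime_int.mp hq
    have hq_e1 : ¬ (q : ℤ) ∣ (e : ℤ) + 1 := by
      intro h1
      -- then q ∤ e - 1, so q^k coprime to e-1, so q^k ∣ e+1
      have h2 : ¬ (q : ℤ) ∣ (e : ℤ) - 1 := by
        intro h2
        have h3 : (q : ℤ) ∣ 2 := by
          have := dvd_sub h1 h2
          have e2 : (e : ℤ) + 1 - ((e : ℤ) - 1) = 2 := by ring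
          rwa [e2] at this
        have h4 : q ∣ 2 := by exact_mod_cast h3
        have := (Nat.prime_dvd_prime_iff_eq hq Nat.prime_two).mp h4
        exact hq2 this
      have hcop : IsCoprime ((q ^ k : ℕ) : ℤ) ((e : ℤ) - 1) := by
        push_cast
        exact IsCoprime.pow_left ((Prime.coprime_iff_not_dvd hqprime).mpr h2)
      have := hcop.dvd_of_dvd_mul_left hqkdiv
      apply hqk'
      have h5 : ((q ^ k : ℕ) : ℤ) ∣ ((e + 1 : ℕ) : ℤ) := by push_cast; push_cast at this; exact this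
      exact Int.natCast_dvd_natCast.mp h5
    have hqk_e : ((q ^ k : ℕ) : ℤ) ∣ (e : ℤ) - 1 := by
      have hcop : IsCoprime ((q ^ k : ℕ) : ℤ) ((e : ℤ) + 1) := by
        push_cast
        exact IsCoprime.pow_left ((Prime.coprime_iff_not_dvd hqprime).mpr hq_e1)
      exact hcop.dvd_of_dvd_mul_right hqkdiv
    -- now we may need the full q-part of m: take j = factorization
    -- redo with j = m.factorization q : q^j ∣ m, and q^j ∣ (e-1)(e+1), q ∤ e+1
    set j := m.factorization q with hj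
    have hqj : q ^ j ∣ m := Nat.ordProj_dvd m q
    have hqjdiv : ((q ^ j : ℕ) : ℤ) ∣ ((e : ℤ) - 1) * ((e : ℤ) + 1) := by
      have : ((e : ℤ) - 1) * ((e : ℤ) + 1) = (e : ℤ) ^ 2 - 1 := by ring
      rw [this]
      exact (Int.natCast_dvd_natCast.mpr hqj).trans hdiv
    have hqj_e : ((q ^ j : ℕ) : ℤ) ∣ (e : ℤ) - 1 := by
      have hcop : IsCoprime ((q ^ j : ℕ) : ℤ) ((e : ℤ) + 1) := by
        push_cast
        exact IsCoprime.pow_left ((Prime.coprime_iff_not_dvd hqprime).mpr hq_e1)
      exact hcop.dvd_of_dvd_mul_right hqjdiv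
    refine ⟨q, hq, hqm, ?_⟩
    rintro y ⟨i, hi⟩
    -- orderOf y ∣ q^i and ∣ m, so ∣ q^j
    have ho1 : orderOf y ∣ q ^ i := orderOf_dvd_of_pow_eq_one hi
    have ho2 : orderOf y ∣ m := orderOf_dvd_natCard y
    obtain ⟨l, hl, hl'⟩ := (Nat.dvd_prime_pow hq).mp ho1
    have hlj : l ≤ j := by
      rw [hl'] at ho2
      exact (hq.pow_dvd_iff_le_factorization hmpos.ne').mp ho2
    have ho3 : orderOf y ∣ q ^ j := by
      rw [hl']; exact Nat.pow_dvd_pow q hlj
    have h6 : y ^ ((e : ℤ) - 1) = 1 := by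
      apply orderOf_dvd_iff_zpow_eq_one.mp
      exact (Int.natCast_dvd_natCast.mpr ho3).trans hqj_e
    rw [hσpow y]
    have : y ^ ((e : ℤ) - 1) = y ^ e * y⁻¹ := by
      rw [zpow_sub, zpow_one, zpow_natCast]
    rw [this] at h6
    exact mul_inv_eq_one.mp h6

end Cfsg.Agent.Lib.Helper4.ZassOdd
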