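import Mathlib
import Cfsg.Prelude.Def_LieExceptional
import Cfsg.Agent.S0035
import Cfsg.Agent.S0039
import Cfsg.Agent.S0040
import Cfsg.Agent.Lib.Helper4.ZassOddA

/-! Two-point stabilisers of odd order in Zassenhaus groups: local lemmas (helper4). -/

set_option autoImplicit false
set_option linter.style.haveILetI false

namespace Cfsg.Agent.Lib.Helper4.ZassOdd

open MulAction
open scoped Pointwise

/-- a Frobenius complement of odd order is a Z-group -/
theorem isZGroup_of_frobenius_odd {L : Type*} [Group L] [Finite L] (H' : Subgroup L)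
    (hF : Cfsg.IsFrobeniusComplement H') (hodd : Odd (Nat.card H')) : IsZGroup H' := by
  obtain ⟨K, -, hKn, hKc⟩ := Cfsg.Agent.S0035.result H' hF
  haveI := hKn
  have hK : K ≠ ⊥ := by
    rintro rfl
    exact hF.2.1 (Subgroup.isComplement'_bot_left.mp hKc)
  have hfpf := (Cfsg.Agent.S0039.result K H' hKc hK hF.1).mp hF
  refine ⟨fun p hp P => ?_⟩
  haveI := Fact.mk hp
  rcases Cfsg.Agent.S0040.result K H' hKc hK hfpf p P with h | ⟨n, ⟨e⟩⟩
  · exact h
  · exfalso
    have h1 : Nat.card P = 4 * 2 ^ n := by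
      rw [Nat.card_congr e.toEquiv, Nat.card_eq_fintype_card, QuaternionGroup.card]
    have h2 : Nat.card P ∣ Nat.card H' := Subgroup.card_subgroup_dvd_card _
    have h3 : Odd (Nat.card P) := Odd.of_dvd_nat hodd h2
    rw [h1] at h3
    have : Even (4 * 2 ^ n) := ⟨2 * 2 ^ n, by ring⟩
    exact (Nat.not_even_iff_odd.mpr h3) this

variable {G Ω : Type*} [Group G] [MulAction G Ω]

section basic

variable (h3 : ∀ g : G, ∀ a b c : Ω, a ≠ b → b ≠ c → a ≠ c → g • a = a → g • b = b → g • c = c → g = 1)
  {a b : Ω} (hab : a ≠ b)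

include h3 hab

/-- the fixed points of a non-identity element of the two-point stabiliser -/
theorem fix_mem {y : G} (hy : y ∈ stabilizer G a ⊓ stabilizer G b) (hy1 : y ≠ 1) {c : Ω}
    (hc : y • c = c) : c = a ∨ c = b := by
  by_contra hcon
  push Not at hcon
  obtain ⟨hca, hcb⟩ := hcon
  rw [Subgroup.mem_inf, mem_stabilizer_iff, mem_stabilizer_iff] at hy
  exact hy1 (h3 y a b c hab (Ne.symm hcb) (Ne.symm hca) hy.1 hy.2 hc)

/-- an element permuting `{a, b}` fixes both or swaps them -/
theorem cases_of_perm {x : G} (hxa : x • a = a ∨ x • a = b) (hxb : x • b = a ∨ x • b = b) :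
    x ∈ stabilizer G a ⊓ stabilizer G b ∨ (x • a = b ∧ x • b = a) := by
  rcases hxa with ha | ha
  · rcases hxb with hb | hb
    · exfalso
      exact hab (MulAction.injective x (ha.trans hb.symm))
    · left
      rw [Subgroup.mem_inf, mem_stabilizer_iff, mem_stabilizer_iff]
      exact ⟨ha, hb⟩
  · rcases hxb with hb | hb
    · right; exact ⟨ha, hb⟩
    · exfalso
      exact hab (MulAction.injective x (ha.trans hb.symm))

omit h3 in
/-- an element of odd order cannot swap `a` and `b` -/
theorem not_swap_of_odd {x : G} (hodd : Odd (orderOf x)) (hxa : x • a = b) (hxb : x • b = a) :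
    False := by
  have key : ∀ k : ℕ, x ^ (2 * k) • a = a ∧ x ^ (2 * k + 1) • a = b := by
    intro k
    induction k with
    | zero => simp [hxa]
    | succ k ih =>
      have e1 : x ^ (2 * (k + 1)) = x * x ^ (2 * k + 1) := by
        rw [← pow_succ']; congr 1
      have e2 : x ^ (2 * (k + 1) + 1) = x * (x * x ^ (2 * k + 1)) := by
        rw [← pow_succ', ← pow_succ']; congr 1
      rw [e1, e2, mul_smul, mul_smul, mul_smul, ih.2, hxb, hxa]
      exact ⟨rfl, rfl⟩
  obtain ⟨k, hk⟩ := hodd
  have := (key k).2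
  rw [← hk, pow_orderOf_eq_one, one_smul] at this
  exact hab this

/-- an element of odd order commuting with a non-identity element of `H` lies in `H` -/
theorem mem_of_commute_odd {u x : G} (hu : u ∈ stabilizer G a ⊓ stabilizer G b) (hu1 : u ≠ 1)
    (hc : x * u = u * x) (hodd : Odd (orderOf x)) : x ∈ stabilizer G a ⊓ stabilizer G b := by
  have hu' := hu
  rw [Subgroup.mem_inf, mem_stabilizer_iff, mem_stabilizer_iff] at hu'
  have ha : u • (x • a) = x • a := by
    rw [← mul_smul, ← hc, mul_smul, hu'.1]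
  have hb : u • (x • b) = x • b := by
    rw [← mul_smul, ← hc, mul_smul, hu'.2]
  rcases cases_of_perm h3 hab (fix_mem h3 hab hu hu1 ha) (fix_mem h3 hab hu hu1 hb) with h | h
  · exact h
  · exact (not_swap_of_odd hab hodd h.1 h.2).elim

/-- a Sylow `q`-subgroup (`q` odd) meeting `H` nontrivially lies in `H` -/
theorem sylow_le [Finite G] {q : ℕ} [Fact q.Prime] (hq2 : q ≠ 2) (P : Sylow q G) {z : G}
    (hzP : z ∈ P) (hzH : z ∈ stabilizer G a ⊓ stabilizer G b) (hz1 : z ≠ 1) :
    (P : Subgroup G) ≤ stabilizer G a ⊓ stabilizer G b := by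
  have hq := (Fact.out : q.Prime)
  have hoddP : ∀ x ∈ (P : Subgroup G), Odd (orderOf x) := by
    intro x hx
    obtain ⟨k, hk⟩ := (IsPGroup.iff_orderOf.mp P.isPGroup') ⟨x, hx⟩
    rw [Subgroup.orderOf_mk] at hk
    rw [hk]
    exact (hq.odd_of_ne_two hq2).pow
  haveI : Nontrivial (P : Subgroup G) := ⟨⟨⟨z, hzP⟩, 1, fun h => hz1 (congrArg Subtype.val h)⟩⟩
  haveI := P.isPGroup'.center_nontrivial
  obtain ⟨c, hc⟩ := exists_ne (1 : Subgroup.center (P : Subgroup G))
  have hc1 : ((c : (P : Subgroup G)) : G) ≠ 1 := by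
    intro h
    apply hc
    apply Subtype.ext
    apply Subtype.ext
    exact h
  have hcz : ((c : (P : Subgroup G)) : G) * z = z * ((c : (P : Subgroup G)) : G) := by
    have := Subgroup.mem_center_iff.mp c.2 ⟨z, hzP⟩
    exact (congrArg Subtype.val this).symm
  have hcH : ((c : (P : Subgroup G)) : G) ∈ stabilizer G a ⊓ stabilizer G b :=
    mem_of_commute_odd h3 hab hzH hz1 hcz (hoddP _ (c : (P : Subgroup G)).2)
  intro x hx
  have hxc : x * ((c : (P : Subgroup G)) : G) = ((c : (P : Subgroup G)) : G) * x := by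
    have := Subgroup.mem_center_iff.mp c.2 ⟨x, hx⟩
    exact (congrArg Subtype.val this)
  exact mem_of_commute_odd h3 hab hcH hc1 hxc (hoddP x hx)

/-- the normaliser of a nontrivial subgroup of `H` permutes `{a, b}` -/
theorem normalizer_cases {P : Subgroup G} (hP : P ≤ stabilizer G a ⊓ stabilizer G b) {y : G}
    (hy : y ∈ P) (hy1 : y ≠ 1) {x : G} (hx : x ∈ Subgroup.normalizer (P : Set G)) :
    x ∈ stabilizer G a ⊓ stabilizer G b ∨ (x • a = b ∧ x • b = a) := by
  have hx' : x⁻¹ * y * x ∈ P := by
    have := (Subgroup.mem_normalizer_iff.mp (Subgroup.inv_mem _ hx)) y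
    rw [inv_inv] at this
    exact this.mp hy
  have hyH := hP hx'
  rw [Subgroup.mem_inf, mem_stabilizer_iff, mem_stabilizer_iff] at hyH
  have ha : y • (x • a) = x • a := by
    have := congrArg (fun w => x • w) hyH.1
    simp only [← mul_smul] at this
    rw [← mul_smul]
    convert this using 2
    group
  have hb : y • (x • b) = x • b := by
    have := congrArg (fun w => x • w) hyH.2
    simp only [← mul_smul] at this
    rw [← mul_smul]
    convert this using 2
    group
  exact cases_of_perm h3 hab (fix_mem h3 hab (hP hy) hy1 ha) (fix_mem h3 hab (hP hy) hy1 hb)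

/-- the two-point stabiliser is a Frobenius complement in the point stabiliser -/
theorem frobenius_complement (hne : stabilizer G a ⊓ stabilizer G b ≠ ⊥)
    (hmove : ∃ g : G, g • a = a ∧ g • b ≠ b) :
    Cfsg.IsFrobeniusComplement ((stabilizer G a ⊓ stabilizer G b).subgroupOf (stabilizer G a)) := by
  refine ⟨?_, ?_, ?_⟩
  · intro h
    apply hne
    rw [Subgroup.subgroupOf_eq_bot] at h
    rw [disjoint_iff] at h
    rw [eq_bot_iff]
    intro x hx
    rw [← h]
    exact ⟨⟨hx.1, hx.2⟩, hx.1⟩
  · intro h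
    obtain ⟨g, hga, hgb⟩ := hmove
    rw [Subgroup.subgroupOf_eq_top] at h
    have := h (mem_stabilizer_iff.mpr hga)
    exact hgb (mem_stabilizer_iff.mp this.2)
  · rintro ⟨g, hg⟩ hgn
    rw [eq_bot_iff]
    rintro ⟨n, hn⟩ hmem
    rw [Subgroup.mem_inf] at hmem
    obtain ⟨hn1, hn2⟩ := hmem
    rw [Cfsg.Agent.H1.mem_conj_smul_iff'] at hn2
    rw [Subgroup.mem_subgroupOf] at hn1 hn2 hgn
    rw [Subgroup.mem_bot]
    apply Subtype.ext
    show n = 1
    have hga : g • a = a := mem_stabilizer_iff.mp hg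
    have hgb : g • b ≠ b := by
      intro h
      apply hgn
      exact ⟨hg, mem_stabilizer_iff.mpr h⟩
    have hn1' := hn1
    rw [Subgroup.mem_inf, mem_stabilizer_iff, mem_stabilizer_iff] at hn1'
    have hn2' : (g⁻¹ * n * g) ∈ stabilizer G a ⊓ stabilizer G b := hn2
    rw [Subgroup.mem_inf, mem_stabilizer_iff, mem_stabilizer_iff] at hn2'
    have hngb : n • (g • b) = g • b := by
      have := congrArg (fun w => g • w) hn2'.2
      simp only [← mul_smul] at this
      rw [← mul_smul]
      convert this using 2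
      group
    have hgba : g • b ≠ a := by
      intro h
      rw [← hga] at h
      exact hab (MulAction.injective g h).symm
    by_contra hn0
    rcases fix_mem h3 hab hn1 hn0 hngb with h | h
    · exact hgba h
    · exact hgb h

end basic

end Cfsg.Agent.Lib.Helper4.ZassOdd
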