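import Mathlib
import Cfsg.Prelude.Def_LieExceptional
import Cfsg.Agent.S0740
import Cfsg.Agent.Lib.Helper4.ZassOddB

/-! Two-point stabilisers of odd order in Zassenhaus groups: main theorem (helper4). -/

set_option autoImplicit false
set_option linter.style.haveILetI false

namespace Cfsg.Agent.Lib.Helper4.ZassOdd

open MulAction
open scoped Pointwise commutatorElement

theorem main {G Ω : Type*} [Group G] [Finite G] [MulAction G Ω] [Fintype Ω]
    (hZ : Cfsg.IsZassenhausGroup G Ω) {a b : Ω} (hab : a ≠ b)
    (hodd : Odd (Nat.card ↥(stabilizer G a ⊓ stabilizer G b)))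
    (hnil : ∀ q : ℕ, q.Prime → q ∣ Nat.card ↥(stabilizer G a ⊓ stabilizer G b) →
      ¬ ∃ N : Subgroup G, N.Normal ∧ N.index = q ^ (Nat.card G).factorization q) :
    IsCyclic ↥(stabilizer G a ⊓ stabilizer G b) ∧
    Subgroup.centralizer ((stabilizer G a ⊓ stabilizer G b : Subgroup G) : Set G) =
      stabilizer G a ⊓ stabilizer G b ∧
    ∀ s : G, s • a = b → s • b = a → ∀ h ∈ stabilizer G a ⊓ stabilizer G b,
      s * h * s⁻¹ = h⁻¹ := by
  classical
  obtain ⟨t, ht2, hta, htb⟩ := (Cfsg.Agent.S0740.result hZ hab).1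
  obtain ⟨hfaith, h2, h3, ⟨g₀, hg₀1, a', b', ha'b', hg₀a, hg₀b⟩, -⟩ := hZ
  have tr : ∀ {a b c d : Ω}, a ≠ b → c ≠ d → ∃ g : G, g • a = c ∧ g • b = d :=
    MulAction.is_two_pretransitive_iff.mp h2
  set H : Subgroup G := stabilizer G a ⊓ stabilizer G b with hH
  have memH : ∀ x : G, x ∈ H ↔ x • a = a ∧ x • b = b := by
    intro x
    rw [hH, Subgroup.mem_inf, mem_stabilizer_iff, mem_stabilizer_iff]
  -- H ≠ ⊥
  obtain ⟨u, huH, hu1⟩ : ∃ u : G, u ∈ H ∧ u ≠ 1 := by
    obtain ⟨x, hxa, hxb⟩ := tr ha'b' hab
    refine ⟨x * g₀ * x⁻¹, ?_, ?_⟩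
    · rw [memH]
      have e1 : x⁻¹ • a = a' := by rw [inv_smul_eq_iff, hxa]
      have e2 : x⁻¹ • b = b' := by rw [inv_smul_eq_iff, hxb]
      constructor
      · rw [mul_smul, mul_smul, e1, hg₀a, hxa]
      · rw [mul_smul, mul_smul, e2, hg₀b, hxb]
    · intro h
      apply hg₀1
      have : g₀ = x⁻¹ * (x * g₀ * x⁻¹) * x := by group
      rw [this, h]; group
  have hHne : H ≠ ⊥ := by
    intro h
    rw [h, Subgroup.mem_bot] at huH
    exact hu1 huH
  -- a third point
  obtain ⟨c, hca, hcb⟩ : ∃ c : Ω, c ≠ a ∧ c ≠ b := by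
    by_contra hcon
    push Not at hcon
    apply hu1
    apply FaithfulSMul.eq_of_smul_eq_smul (α := Ω)
    intro c
    rw [one_smul]
    by_cases hc : c = a
    · rw [hc]; exact ((memH u).mp huH).1
    · rw [hcon c hc]; exact ((memH u).mp huH).2
  have hmove : ∃ g : G, g • a = a ∧ g • b ≠ b := by
    obtain ⟨g, hga, hgb⟩ := tr hab (Ne.symm hca)
    exact ⟨g, hga, by rw [hgb]; exact hcb⟩
  -- H is a Z-group
  have hfrob := frobenius_complement h3 hab hHne hmove
  have e₀ : ↥(H.subgroupOf (stabilizer G a)) ≃* ↥H := Subgroup.subgroupOfEquivOfLe inf_le_left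
  haveI hZG' : IsZGroup ↥(H.subgroupOf (stabilizer G a)) :=
    isZGroup_of_frobenius_odd _ hfrob (by rw [Nat.card_congr e₀.toEquiv]; exact hodd)
  haveI hZG : IsZGroup ↥H := IsZGroup.of_injective (f := e₀.symm.toMonoidHom) e₀.symm.injective
  -- the involution t
  have ht2' : t * t = 1 := by
    have := pow_orderOf_eq_one t
    rw [ht2, sq] at this; exact this
  have htinv : t⁻¹ = t := inv_eq_of_mul_eq_one_right ht2'
  have htH : ∀ h ∈ H, t * h * t⁻¹ ∈ H := by
    intro h hh
    rw [memH] at hh ⊢
    rw [htinv]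
    constructor
    · rw [mul_smul, mul_smul, hta, hh.2, htb]
    · rw [mul_smul, mul_smul, htb, hh.1, hta]
  -- the automorphism τ of H
  let τ : MulAut ↥H :=
    { toFun := fun h => ⟨t * h * t⁻¹, htH h h.2⟩
      invFun := fun h => ⟨t * h * t⁻¹, htH h h.2⟩
      left_inv := fun h => by
        apply Subtype.ext
        show t * (t * (h : G) * t⁻¹) * t⁻¹ = h
        rw [htinv]
        calc t * (t * (h : G) * t) * t = (t * t) * h * (t * t) := by group
          _ = h := by rw [ht2']; group
      right_inv := fun h => by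
        apply Subtype.ext
        show t * (t * (h : G) * t⁻¹) * t⁻¹ = h
        rw [htinv]
        calc t * (t * (h : G) * t) * t = (t * t) * h * (t * t) := by group
          _ = h := by rw [ht2']; group
      map_mul' := fun x y => by
        apply Subtype.ext
        show t * ((x : G) * y) * t⁻¹ = (t * x * t⁻¹) * (t * y * t⁻¹)
        group }
  have hτ : ∀ x : ↥H, ((τ x : ↥H) : G) = t * x * t⁻¹ := fun _ => rfl
  have hττ : ∀ x : ↥H, τ (τ x) = x := fun x => τ.left_inv x
  -- Claim A
  have hA : ∀ x : ↥H, τ x * x ∈ commutator ↥H := by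
    set σ : MulAut (Abelianization ↥H) := τ.abelianizationCongr with hσdef
    have hσof : ∀ x : ↥H, σ (Abelianization.of x) = Abelianization.of (τ x) := by
      intro x; rfl
    have hσσ : ∀ y, σ (σ y) = y := by
      intro y
      obtain ⟨x, rfl⟩ := QuotientGroup.mk_surjective y
      change σ (σ (Abelianization.of x)) = Abelianization.of x
      rw [hσof, hσof, hττ]
    have hcardAb : Nat.card (Abelianization ↥H) ∣ Nat.card ↥H := by
      have : Nat.card (Abelianization ↥H) = (commutator ↥H).index := by
        rw [Subgroup.index]; rfl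
      rw [this]
      exact Subgroup.index_dvd_card _
    have hoddAb : Odd (Nat.card (Abelianization ↥H)) := Odd.of_dvd_nat hodd hcardAb
    rcases inverts_or_fixes hoddAb σ hσσ with hinv | ⟨q, hq, hqdvd, hfix⟩
    · intro x
      rw [← Abelianization.ker_of, MonoidHom.mem_ker, map_mul, ← hσof, hinv, inv_mul_cancel]
    · exfalso
      haveI := Fact.mk hq
      have hqd : q ∣ Nat.card ↥H := hqdvd.trans hcardAb
      have hq2 : q ≠ 2 := by
        rintro rfl
        exact (Nat.not_even_iff_odd.mpr hodd) (even_iff_two_dvd.mpr hqd)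
      obtain ⟨z', hz'⟩ := exists_prime_orderOf_dvd_card' q hqd
      set z : G := (z' : G) with hz
      have hzH : z ∈ H := z'.2
      have hz1 : z ≠ 1 := by
        intro h
        have : z' = 1 := Subtype.ext h
        rw [this, orderOf_one] at hz'
        exact hq.one_lt.ne hz'
      have hzord : orderOf z = q := by rw [hz, Subgroup.orderOf_coe, hz']
      have hzp : IsPGroup q (Subgroup.zpowers z) := by
        apply IsPGroup.of_card (n := 1)
        rw [Nat.card_zpowers, hzord, pow_one]
      obtain ⟨P, hP⟩ := hzp.exists_le_sylow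
      have hzP : z ∈ P := hP (Subgroup.mem_zpowers z)
      have hPH : (P : Subgroup G) ≤ H := sylow_le h3 hab hq2 P hzP hzH hz1
      -- q does not divide the order of the commutator subgroup
      have hcop : (Nat.card (commutator ↥H)).Coprime (commutator ↥H).index :=
        IsZGroup.coprime_commutator_index ↥H
      have hindex : (commutator ↥H).index = Nat.card (Abelianization ↥H) := by
        rw [Subgroup.index]; rfl
      have hqnd : ¬ q ∣ Nat.card (commutator ↥H) := by
        intro h
        have := Nat.Coprime.eq_one_of_dvd (hcop.symm.coprime_dvd_left (hindex ▸ hqdvd)) h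
        exact hq.one_lt.ne' this
      -- elements of P lying in the commutator subgroup are trivial
      have htriv : ∀ w : ↥H, (w : G) ∈ P → w ∈ commutator ↥H → w = 1 := by
        intro w hwP hwD
        obtain ⟨k, hk⟩ := (IsPGroup.iff_orderOf.mp P.isPGroup') ⟨(w : G), hwP⟩
        rw [Subgroup.orderOf_mk, Subgroup.orderOf_coe] at hk
        have h1 : orderOf w ∣ Nat.card (commutator ↥H) := by
          have := orderOf_dvd_natCard (⟨w, hwD⟩ : commutator ↥H)
          rwa [Subgroup.orderOf_mk] at this
        have h2 : (q ^ k).Coprime (Nat.card (commutator ↥H)) :=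
          Nat.Coprime.pow_left k ((Nat.Prime.coprime_iff_not_dvd hq).mpr hqnd)
        rw [hk] at h1
        have h3' : q ^ k = 1 := Nat.Coprime.eq_one_of_dvd h2 h1
        rw [h3'] at hk
        exact orderOf_eq_one_iff.mp hk
      -- N(P) ≤ C(P)
      have hNC : Subgroup.normalizer ((P : Subgroup G) : Set G) ≤
          Subgroup.centralizer ((P : Subgroup G) : Set G) := by
        intro x hx
        rw [Subgroup.mem_centralizer_iff]
        intro y hy
        have hyH : y ∈ H := hPH hy
        have hxy : x * y * x⁻¹ ∈ (P : Subgroup G) :=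
          (Subgroup.mem_normalizer_iff.mp hx y).mp hy
        have hxyH : x * y * x⁻¹ ∈ H := hPH hxy
        -- w = x y x⁻¹ y⁻¹ ∈ P ∩ commutator
        have hwP : x * y * x⁻¹ * y⁻¹ ∈ (P : Subgroup G) :=
          Subgroup.mul_mem _ hxy (Subgroup.inv_mem _ hy)
        have hwH : x * y * x⁻¹ * y⁻¹ ∈ H := hPH hwP
        have hwD : (⟨x * y * x⁻¹ * y⁻¹, hwH⟩ : ↥H) ∈ commutator ↥H := by
          rcases normalizer_cases h3 hab hPH hzP hz1 hx with hxH | ⟨hxa, hxb⟩
          · have : (⟨x * y * x⁻¹ * y⁻¹, hwH⟩ : ↥H) = ⁅(⟨x, hxH⟩ : ↥H), ⟨y, hyH⟩⁆ := by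
              apply Subtype.ext
              rw [commutatorElement_def]
              rfl
            rw [this, commutator_def]
            exact Subgroup.commutator_mem_commutator (Subgroup.mem_top _) (Subgroup.mem_top _)
          · -- x = h t
            have hhH : x * t⁻¹ ∈ H := by
              rw [memH, htinv]
              constructor
              · rw [mul_smul, hta, hxb]
              · rw [mul_smul, htb, hxa]
            set y' : ↥H := τ ⟨y, hyH⟩ with hy'
            have e1 : (⟨x * y * x⁻¹ * y⁻¹, hwH⟩ : ↥H) =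
                ⁅(⟨x * t⁻¹, hhH⟩ : ↥H), y'⁆ * (y' * (⟨y, hyH⟩ : ↥H)⁻¹) := by
              apply Subtype.ext
              rw [commutatorElement_def]
              show x * y * x⁻¹ * y⁻¹ =
                (x * t⁻¹) * (t * y * t⁻¹) * (x * t⁻¹)⁻¹ * (t * y * t⁻¹)⁻¹ * ((t * y * t⁻¹) * y⁻¹)
              group
            rw [e1]
            refine Subgroup.mul_mem _ ?_ ?_
            · rw [commutator_def]
              exact Subgroup.commutator_mem_commutator (Subgroup.mem_top _) (Subgroup.mem_top _)
            · -- y is a q-element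
              obtain ⟨k, hk⟩ := (IsPGroup.iff_orderOf.mp P.isPGroup') ⟨y, hy⟩
              rw [Subgroup.orderOf_mk] at hk
              have hyk : (⟨y, hyH⟩ : ↥H) ^ (q ^ k) = 1 := by
                apply Subtype.ext
                show y ^ (q ^ k) = 1
                rw [← hk]; exact pow_orderOf_eq_one y
              have hfy : σ (Abelianization.of ⟨y, hyH⟩) = Abelianization.of ⟨y, hyH⟩ := by
                apply hfix
                refine ⟨k, ?_⟩
                rw [← map_pow, hyk, map_one]
              rw [hσof] at hfy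
              rw [← Abelianization.ker_of, MonoidHom.mem_ker, map_mul, map_inv, hy', hfy,
                mul_inv_cancel]
        have := htriv _ hwP hwD
        have hw1 : x * y * x⁻¹ * y⁻¹ = 1 := congrArg Subtype.val this
        calc y * x = (x * y * x⁻¹ * y⁻¹)⁻¹ * (x * y) := by group
          _ = x * y := by rw [hw1]; group
      -- Burnside
      have hc := MonoidHom.ker_transferSylow_isComplement' P hNC
      apply hnil q hq hqd
      refine ⟨(MonoidHom.transferSylow P hNC).ker, inferInstance, ?_⟩
      rw [hc.symm.index_eq_card, ← Sylow.card_eq_multiplicity]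
  -- H is cyclic
  have hcyc : IsCyclic ↥H := isCyclic_of_inverts_mod_commutator hodd τ hA
  have hcomm : ∀ x y : ↥H, x * y = y * x := fun x y =>
    (IsCyclic.isMulCommutative (α := ↥H)).is_comm.comm x y
  have hcomm' : ∀ x ∈ H, ∀ y ∈ H, x * y = y * x := by
    intro x hx y hy
    exact congrArg Subtype.val (hcomm ⟨x, hx⟩ ⟨y, hy⟩)
  have hDbot : commutator ↥H = ⊥ := by
    rw [commutator_def, Subgroup.commutator_eq_bot_iff_le_centralizer]
    intro x _
    rw [Subgroup.mem_centralizer_iff]
    intro y _
    exact hcomm y x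
  have htinvH : ∀ h ∈ H, t * h * t⁻¹ = h⁻¹ := by
    intro h hh
    have := hA ⟨h, hh⟩
    rw [hDbot, Subgroup.mem_bot] at this
    have h1 : (t * h * t⁻¹) * h = 1 := congrArg Subtype.val this
    exact eq_inv_of_mul_eq_one_left h1
  have hswap : ∀ s : G, s • a = b → s • b = a → ∀ h ∈ H, s * h * s⁻¹ = h⁻¹ := by
    intro s hsa hsb h hh
    have hs₀ : s * t⁻¹ ∈ H := by
      rw [memH, htinv]
      constructor
      · rw [mul_smul, hta, hsb]
      · rw [mul_smul, htb, hsa]
    have e : s * h * s⁻¹ = (s * t⁻¹) * (t * h * t⁻¹) * (s * t⁻¹)⁻¹ := by group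
    rw [e, htinvH h hh, hcomm' _ hs₀ _ (Subgroup.inv_mem _ hh)]
    group
  refine ⟨hcyc, ?_, hswap⟩
  apply le_antisymm
  · intro g hg
    rw [Subgroup.mem_centralizer_iff] at hg
    have hgu := hg u huH
    have huab := (memH u).mp huH
    have ha : u • (g • a) = g • a := by
      rw [← mul_smul, hgu, mul_smul, huab.1]
    have hb : u • (g • b) = g • b := by
      rw [← mul_smul, hgu, mul_smul, huab.2]
    rcases cases_of_perm h3 hab (fix_mem h3 hab huH hu1 ha) (fix_mem h3 hab huH hu1 hb) with h | h
    · exact h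
    · exfalso
      have h1 := hswap g h.1 h.2 u huH
      have h2 : g * u * g⁻¹ = u := by rw [← hgu]; group
      rw [h2] at h1
      have h4 : u ^ 2 = 1 := by
        rw [sq]
        nth_rewrite 1 [h1]
        exact inv_mul_cancel u
      have h5 : orderOf u ∣ 2 := orderOf_dvd_of_pow_eq_one h4
      have h6 : Odd (orderOf u) := by
        have : orderOf (⟨u, huH⟩ : ↥H) = orderOf u := Subgroup.orderOf_mk u huH
        rw [← this]
        exact Odd.of_dvd_nat hodd (orderOf_dvd_natCard _)
      have h7 : orderOf u = 1 := by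
        rcases (Nat.dvd_prime Nat.prime_two).mp h5 with h | h
        · exact h
        · rw [h] at h6; exact absurd h6 (by decide)
      exact hu1 (orderOf_eq_one_iff.mp h7)
  · intro g hg
    rw [Subgroup.mem_centralizer_iff]
    intro y hy
    exact hcomm' y hy g hg

end Cfsg.Agent.Lib.Helper4.ZassOdd
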